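import Cfsg.Agent.Helper28.FicB33

/-! # The Fi₂₃ presentation, cosets of the subgroup generated by a, …, i: the coset enumeration, part 34 (helper28; generated) -/

set_option autoImplicit false

noncomputable section

namespace Cfsg.Agent.Helper28.FicA

open Cfsg.Agent.Helper28.CosetTable

theorem L655606 : sm gb N46901 = N43043 := ded_25_1 (flp_h L363998) (flp_b L357231) L655604
theorem L655608 : sm gc N46901 = N42278 := ded_32_1 (flp_h L357447) (flp_c L357233) L655604
theorem L655610 : sm gf N46901 = N46901 := ded_47_1 (flp_h L655604) L357235 L655604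
theorem L655611 : sm gg N46901 = N42252 := ded_50_1 (flp_h L357238) L357229 L655604
theorem L655613 : sm gj N46901 = N44884 := ded_52_1 (flp_h L379760) (flp_j L357236) L655604
theorem L655615 : sm gd N42252 = N46902 := rfl
theorem L655617 : sm gb N46902 = N43044 := ded_20_1 (flp_d L364007) (flp_b L357240) L655615
theorem L655619 : sm gf N46902 = N42255 := ded_35_2 (flp_d L357266) (flp_f L357244) L655615
theorem L655621 : sm gj N46902 = N42253 := ded_37_2 (flp_d L357248) (flp_j L357246) L655615
theorem L655623 : sm gi N42252 = N46903 := rfl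
theorem L655625 : sm gb N46903 = N43045 := ded_26_1 (flp_i L364013) (flp_b L357240) L655623
theorem L655627 : sm gc N46903 = N42280 := ded_33_1 (flp_i L357465) (flp_c L357242) L655623
theorem L655629 : sm gf N46903 = N42256 := ded_48_1 (flp_i L357273) (flp_f L357244) L655623
theorem L655631 : sm gj N46903 = N42254 := ded_53_1 (flp_i L357256) (flp_j L357246) L655623
theorem L655633 : sm gc N42253 = N46904 := rfl
theorem L655635 : sm gf N46904 = N42257 := ded_29_2 (flp_c L357284) (flp_f L357252) L655633
theorem L655637 : sm gg N46904 = N44887 := ded_30_2 (flp_c L379787) (flp_g L357254) L655633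
theorem L655639 : sm gd N46904 = N42281 := ded_27_2 (flp_c L357473) (flp_d L245972) (flp_c L245821) L357248 L655633
theorem L655641 : sm ge N42253 = N46905 := rfl
theorem L655643 : sm gb N46905 = N43047 := ded_21_1 (flp_e L364029) (flp_b L357250) L655641
theorem L655645 : sm gg N46905 = N44888 := ded_41_2 (flp_e L379793) (flp_g L357254) L655641
theorem L655647 : sm gi N42253 = N46906 := rfl
theorem L655649 : sm gb N46906 = N43048 := ded_26_1 (flp_i L364033) (flp_b L357250) L655647
theorem L655651 : sm gd N46906 = N42254 := ded_39_1 (flp_i L357256) L357248 L655647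
theorem L655653 : sm gf N46906 = N42259 := ded_48_1 (flp_i L357298) (flp_f L357252) L655647
theorem L655655 : sm gg N46906 = N44889 := ded_51_1 (flp_i L379797) (flp_g L357254) L655647
theorem L655657 : sm gc N42255 = N46907 := rfl
theorem L655659 : sm ga N46907 = N46476 := ded_11_1 (flp_c L655126) L655121 L655657
theorem L655661 : sm gg N46907 = N46907 := ded_30_2 (flp_c L655657) L357270 L655657
theorem L655662 : sm gj N46907 = N42257 := ded_31_2 (flp_c L357284) (flp_j L357271) L655657
theorem L655664 : sm gd N46907 = N42284 := ded_27_2 (flp_c L357497) (flp_d L245989) (flp_c L245831) L357266 L655657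
theorem L655666 : sm ge N46459 = N46907 := ded_13_0 L655659 L650545 (flp_a L650375)
theorem L655668 : sm ge N42255 = N46908 := rfl
theorem L655670 : sm ga N46908 = N46412 := ded_13_1 (flp_e L655128) L655121 L655668
theorem L655672 : sm gb N46908 = N43050 := ded_21_1 (flp_e L364048) (flp_b L357268) L655668
theorem L655674 : sm gc N46908 = N46459 := ded_28_1 L655666 (flp_c L655657) L655668
theorem L655676 : sm gg N46908 = N46908 := ded_41_2 (flp_e L655668) L357270 L655668
theorem L655677 : sm gj N46908 = N42258 := ded_42_2 (flp_e L357290) (flp_j L357271) L655668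
theorem L655679 : sm gd N46908 = N42266 := ded_34_1 (flp_e L357354) (flp_d L245877) (flp_e L245833) L357266 L655668
theorem L655681 : sm gi N42255 = N46909 := rfl
theorem L655683 : sm gb N46909 = N43051 := ded_26_1 (flp_i L364055) (flp_b L357268) L655681
theorem L655685 : sm gd N46909 = N42256 := ded_39_1 (flp_i L357273) L357266 L655681
theorem L655687 : sm gg N46909 = N46909 := ded_51_1 (flp_i L655681) L357270 L655681
theorem L655688 : sm gj N46909 = N42259 := ded_53_1 (flp_i L357298) (flp_j L357271) L655681
theorem L655690 : sm gb N42257 = N46910 := rfl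
theorem L655692 : sm gd N46910 = N42286 := ded_20_2 (flp_b L357512) (flp_d L357288) L655690
theorem L655694 : sm gg N46910 = N42260 := ded_23_2 (flp_b L357306) (flp_g L357286) L655690
theorem L655696 : sm gc N46910 = N43052 := ded_19_2 (flp_b L364062) (flp_c L250392) (flp_b L245840) L357284 L655690
theorem L655698 : sm ge N42257 = N46911 := rfl
theorem L655700 : sm ga N46911 = N46337 := ded_13_1 L655155 L655145 L655698
theorem L655702 : sm gc N46911 = N42258 := ded_28_1 (flp_e L357290) L357284 L655698
theorem L655704 : sm gg N46911 = N42261 := ded_41_2 (flp_e L357315) (flp_g L357286) L655698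
theorem L655706 : sm gj N46911 = N46459 := ded_42_2 L655666 L655662 L655698
theorem L655708 : sm gd N46911 = N46336 := ded_34_1 (flp_e L646150) L648548 L351974 (flp_d L357288) L655698
theorem L655710 : sm gi N42257 = N46912 := rfl
theorem L655712 : sm gc N46912 = N42259 := ded_33_1 (flp_i L357298) L357284 L655710
theorem L655714 : sm gd N46912 = N42287 := ded_39_1 (flp_i L357519) (flp_d L357288) L655710
theorem L655716 : sm gg N46912 = N42262 := ded_51_1 (flp_i L357320) (flp_g L357286) L655710
theorem L655718 : sm gf N42258 = N46913 := rfl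
theorem L655720 : sm gb N46913 = N43055 := ded_22_1 (flp_f L364083) (flp_b L357292) L655718
theorem L655722 : sm gd N46913 = N42268 := ded_35_1 (flp_f L357371) (flp_d L357296) L655718
theorem L655724 : sm gi N42258 = N46914 := rfl
theorem L655726 : sm gb N46914 = N43056 := ded_26_1 (flp_i L364087) (flp_b L357292) L655724
theorem L655728 : sm gd N46914 = N42269 := ded_39_1 (flp_i L357376) (flp_d L357296) L655724
theorem L655730 : sm ge N46914 = N42259 := ded_44_1 (flp_i L357298) L357290 L655724
theorem L655732 : sm gg N46914 = N42264 := ded_51_1 (flp_i L357338) (flp_g L357294) L655724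
theorem L655734 : sm gh N42259 = N46915 := rfl
theorem L655736 : sm gb N46915 = N43057 := ded_25_1 (flp_h L364095) (flp_b L357300) L655734
theorem L655738 : sm gg N46915 = N42265 := ded_50_1 (flp_h L357347) (flp_g L357304) L655734
theorem L655740 : sm ga N42260 = N46916 := rfl
theorem L655742 : sm gc N46916 = N43058 := ded_11_2 (flp_a L364099) (flp_c L357313) L655740
theorem L655744 : sm gd N46916 = N42289 := ded_12_2 (flp_a L357532) (flp_d L357308) L655740
theorem L655746 : sm gf N46916 = N44899 := ded_14_2 (flp_a L379875) (flp_f L357310) L655740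
theorem L655748 : sm gj N46916 = N46916 := ded_16_2 (flp_a L655740) L357312 L655740
theorem L655749 : sm gh N46916 = N43059 := ded_17_2 (flp_a L655544) L655542 L655740
theorem L655751 : sm gb N46916 = N43038 := ded_10_2 L512960 (flp_b L648398) L356954 L357306 L655740
theorem L655753 : sm ge N43037 = N46916 := ded_28_0 L655742 L655548 L655546
theorem L655755 : sm ge N42260 = N46917 := rfl
theorem L655757 : sm ga N46917 = N43037 := ded_13_1 L655753 (flp_a L655740) L655755
theorem L655759 : sm gb N46917 = N42261 := ded_21_1 (flp_e L357315) L357306 L655755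
theorem L655761 : sm gc N46917 = N43059 := ded_28_1 (flp_e L364106) (flp_c L357313) L655755
theorem L655763 : sm gj N46917 = N46917 := ded_42_2 (flp_e L655755) L357312 L655755
theorem L655764 : sm gh N46917 = N43058 := ded_43_2 L655548 L655542 L655755
theorem L655766 : sm gd N46917 = N43626 := ded_34_1 L543326 L648442 L351991 (flp_d L357308) L655755
theorem L655768 : sm gf N45798 = N46917 := ded_56_1 (flp_e L655755) L357308 L246025 (flp_b L169616) L117028 L117032 L117029 L85587 L85590 (flp_c L60269) (flp_b L60202) (flp_a L86900) L86906 (flp_f L83181) L83184 (flp_d L83176) L562743 L42199 L29367 (flp_h L42004) (flp_f L57494) L57492 L563404 L32221 L25207 L17572 L12282 (flp_f L12275) L8568 L8573 (flp_c L8566) L5931 (flp_a L5280) L5286 L7640 L10958 (flp_d L15501) (flp_c L21738) (flp_b L31213) (flp_a L44869) L64808 L64816 L64814 L44893 (flp_c L64780) (flp_b L590966) L45660 L45744 L45748 L31745 (flp_d L576313) L41624 (flp_b L41619) L28938 L28977 (flp_f L41701) (flp_e L60131) L86969 L126052 L183070 L266183 (flp_h L387236)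
theorem L655770 : sm gi N42260 = N46918 := rfl
theorem L655772 : sm gb N46918 = N42262 := ded_26_1 (flp_i L357320) L357306 L655770
theorem L655774 : sm gc N46918 = N43060 := ded_33_1 (flp_i L364112) (flp_c L357313) L655770
theorem L655776 : sm gd N46918 = N42290 := ded_39_1 (flp_i L357540) (flp_d L357308) L655770
theorem L655778 : sm gf N46918 = N44901 := ded_48_1 (flp_i L379890) (flp_f L357310) L655770
theorem L655780 : sm gj N46918 = N46918 := ded_53_1 (flp_i L655770) L357312 L655770
theorem L655781 : sm gf N42261 = N46919 := rfl
theorem L655783 : sm ga N46919 = N43693 := ded_14_1 L369497 (flp_a L648541) L655781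
theorem L655785 : sm gb N46919 = N45798 := ded_22_1 L655768 L655759 L655781
theorem L655787 : sm gc N46919 = N42263 := ded_29_1 (flp_f L357329) (flp_c L357317) L655781
theorem L655789 : sm gd N46919 = N43692 := ded_35_1 L369490 (flp_d L648543) L655781
theorem L655791 : sm gj N46919 = N46919 := ded_46_2 (flp_f L655781) L357319 L655781
theorem L655792 : sm gh N46919 = N45737 := ded_47_2 L655563 L655559 L655781
theorem L655794 : sm ge N46919 = N44902 := ded_40_1 (flp_f L379899) (flp_e L261076) (flp_f L245856) L357315 L655781
theorem L655796 : sm gi N42261 = N46920 := rfl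
theorem L655798 : sm ga N46920 = N45884 := ded_18_1 L387878 (flp_a L648541) L655796
theorem L655800 : sm gc N46920 = N42264 := ded_33_1 (flp_i L357338) (flp_c L357317) L655796
theorem L655802 : sm gd N46920 = N45883 := ded_39_1 L387871 (flp_d L648543) L655796
theorem L655804 : sm ge N46920 = N42262 := ded_44_1 (flp_i L357320) L357315 L655796
theorem L655806 : sm gj N46920 = N46920 := ded_53_1 (flp_i L655796) L357319 L655796
theorem L655807 : sm gh N42262 = N46921 := rfl
theorem L655809 : sm gc N46921 = N42265 := ded_32_1 (flp_h L357347) (flp_c L357322) L655807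
theorem L655811 : sm gf N46921 = N44904 := ded_47_1 (flp_h L379913) (flp_f L357326) L655807
theorem L655813 : sm gj N46921 = N46921 := ded_52_1 (flp_h L655807) L357328 L655807
theorem L655814 : sm gg N42263 = N46922 := rfl
theorem L655816 : sm gb N46922 = N43064 := ded_23_1 (flp_g L364144) (flp_b L357331) L655814
theorem L655818 : sm gd N46922 = N42271 := ded_36_1 (flp_g L357391) (flp_d L357333) L655814
theorem L655820 : sm ge N46922 = N44905 := ded_41_1 (flp_g L379918) (flp_e L357336) L655814
theorem L655822 : sm gi N42263 = N46923 := rfl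
theorem L655824 : sm gb N46923 = N43065 := ded_26_1 (flp_i L364150) (flp_b L357331) L655822
theorem L655826 : sm gd N46923 = N42272 := ded_39_1 (flp_i L357398) (flp_d L357333) L655822
theorem L655828 : sm ge N46923 = N44906 := ded_44_1 (flp_i L379924) (flp_e L357336) L655822
theorem L655830 : sm gf N46923 = N42264 := ded_48_1 (flp_i L357338) L357329 L655822
theorem L655832 : sm gj N46923 = N46923 := ded_53_1 (flp_i L655822) L357335 L655822
theorem L655833 : sm gh N42264 = N46924 := rfl
theorem L655835 : sm gb N46924 = N43066 := ded_25_1 (flp_h L364159) (flp_b L357340) L655833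
theorem L655837 : sm ge N46924 = N42265 := ded_43_1 (flp_h L357347) (flp_e L357344) L655833
theorem L655839 : sm gj N46924 = N46924 := ded_52_1 (flp_h L655833) L357346 L655833
theorem L655840 : sm gf N42266 = N46925 := rfl
theorem L655842 : sm ga N46925 = N45433 := ded_14_1 L384242 L649325 L655840
theorem L655844 : sm gb N46925 = N43067 := ded_22_1 (flp_f L364164) (flp_b L357356) L655840
theorem L655846 : sm gc N46925 = N45362 := ded_29_1 L383737 L649329 L655840
theorem L655848 : sm gj N46925 = N42268 := ded_46_2 (flp_f L357371) (flp_j L357359) L655840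
theorem L655850 : sm gh N46925 = N46925 := ded_47_2 (flp_f L655840) L357361 L655840
theorem L655851 : sm ge N46925 = N45361 := ded_40_1 L383726 L263736 (flp_f L648072) L357354 L655840
theorem L655853 : sm gi N42266 = N46926 := rfl
theorem L655855 : sm ga N46926 = N46413 := ded_18_1 (flp_i L649988) L649325 L655853
theorem L655857 : sm gb N46926 = N43068 := ded_26_1 (flp_i L364170) (flp_b L357356) L655853
theorem L655859 : sm gc N46926 = N46374 := ded_33_1 (flp_i L649692) L649329 L655853
theorem L655861 : sm ge N46926 = N42267 := ded_44_1 (flp_i L357362) L357354 L655853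
theorem L655863 : sm gg N46926 = N46926 := ded_51_1 (flp_i L655853) L357358 L655853
theorem L655864 : sm gj N46926 = N42269 := ded_53_1 (flp_i L357376) (flp_j L357359) L655853
theorem L655866 : sm gh N42267 = N46927 := rfl
theorem L655868 : sm ga N46927 = N46414 := ded_17_1 (flp_h L649995) L649327 L655866
theorem L655870 : sm gb N46927 = N43069 := ded_25_1 (flp_h L364178) (flp_b L357364) L655866
theorem L655872 : sm gc N46927 = N46375 := ded_32_1 (flp_h L649702) L649323 L655866
theorem L655874 : sm gf N46927 = N46377 := ded_47_1 (flp_h L649721) L649331 L655866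
theorem L655876 : sm gg N46927 = N46927 := ded_50_1 (flp_h L655866) L357368 L655866
theorem L655877 : sm gj N46927 = N42270 := ded_52_1 (flp_h L357384) (flp_j L357369) L655866
theorem L655879 : sm gi N46927 = N46927 := ded_54_2 (flp_h L655866) (flp_i L357362) L245884 L357362 L655866
theorem L655880 : sm gg N42268 = N46928 := rfl
theorem L655882 : sm gb N46928 = N43070 := ded_23_1 (flp_g L364185) (flp_b L357373) L655880
theorem L655884 : sm gh N46928 = N46928 := ded_50_2 (flp_g L655880) L357375 L655880
theorem L655885 : sm gf N46928 = N42271 := ded_45_1 (flp_g L357391) (flp_f L245909) (flp_g L245898) L357371 L655880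
theorem L655887 : sm gi N42268 = N46929 := rfl
theorem L655889 : sm gb N46929 = N43071 := ded_26_1 (flp_i L364191) (flp_b L357373) L655887
theorem L655891 : sm gf N46929 = N42269 := ded_48_1 (flp_i L357376) L357371 L655887
theorem L655893 : sm gh N42269 = N46930 := rfl
theorem L655895 : sm gb N46930 = N43072 := ded_25_1 (flp_h L364196) (flp_b L357378) L655893
theorem L655897 : sm ge N46930 = N42270 := ded_43_1 (flp_h L357384) (flp_e L357380) L655893
theorem L655899 : sm gg N46930 = N42273 := ded_50_1 (flp_h L357407) (flp_g L357382) L655893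
theorem L655901 : sm gi N46930 = N46930 := ded_54_2 (flp_h L655893) (flp_i L357376) L245900 L357376 L655893
theorem L655902 : sm gj N42271 = N46931 := rfl
theorem L655904 : sm gb N46931 = N43073 := ded_24_1 (flp_j L364204) (flp_b L357393) L655902
theorem L655906 : sm ge N46931 = N42274 := ded_42_1 (flp_j L357415) (flp_e L357395) L655902
theorem L655908 : sm gh N46931 = N46931 := ded_52_2 (flp_j L655902) L357397 L655902
theorem L655909 : sm gg N46931 = N46931 := ded_49_1 (flp_j L655902) (flp_g L357391) L245913 L357391 L655902
theorem L655910 : sm gi N42271 = N46932 := rfl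
theorem L655912 : sm gb N46932 = N43074 := ded_26_1 (flp_i L364211) (flp_b L357393) L655910
theorem L655914 : sm ge N46932 = N42275 := ded_44_1 (flp_i L357423) (flp_e L357395) L655910
theorem L655916 : sm gg N46932 = N42272 := ded_51_1 (flp_i L357398) L357391 L655910
theorem L655918 : sm gh N42272 = N46933 := rfl
theorem L655920 : sm gb N46933 = N43075 := ded_25_1 (flp_h L364218) (flp_b L357400) L655918
theorem L655922 : sm ge N46933 = N42276 := ded_43_1 (flp_h L357431) (flp_e L357402) L655918
theorem L655924 : sm gf N46933 = N42273 := ded_47_1 (flp_h L357407) (flp_f L357404) L655918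
theorem L655926 : sm gj N46933 = N46933 := ded_52_1 (flp_h L655918) L357406 L655918
theorem L655927 : sm gi N46933 = N46933 := ded_54_2 (flp_h L655918) (flp_i L357398) L245914 L357398 L655918
theorem L655928 : sm gd N42273 = N46934 := rfl
theorem L655930 : sm gb N46934 = N43076 := ded_20_1 (flp_d L364227) (flp_b L357409) L655928
theorem L655932 : sm gj N46934 = N46934 := ded_37_2 (flp_d L655928) L357413 L655928
theorem L655933 : sm gi N46934 = N46934 := ded_39_2 (flp_d L655928) L357414 L655928
theorem L655934 : sm gi N42274 = N46935 := rfl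
theorem L655936 : sm gb N46935 = N43077 := ded_26_1 (flp_i L364231) (flp_b L357417) L655934
theorem L655938 : sm gd N46935 = N44918 := ded_39_1 (flp_i L380034) (flp_d L357419) L655934
theorem L655940 : sm gg N46935 = N46935 := ded_51_1 (flp_i L655934) L357422 L655934
theorem L655941 : sm gj N46935 = N42275 := ded_53_1 (flp_i L357423) L357415 L655934
theorem L655943 : sm gh N42275 = N46936 := rfl
theorem L655945 : sm gb N46936 = N43078 := ded_25_1 (flp_h L364239) (flp_b L357425) L655943
theorem L655947 : sm gg N46936 = N42276 := ded_50_1 (flp_h L357431) (flp_g L357429) L655943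
theorem L655949 : sm gi N46936 = N46936 := ded_54_2 (flp_h L655943) (flp_i L357423) L245938 L357423 L655943
theorem L655950 : sm gi N42278 = N46937 := rfl
theorem L655952 : sm gb N46937 = N42293 := ded_26_1 (flp_i L357566) (flp_b L357449) L655950
theorem L655954 : sm gf N46937 = N46937 := ded_48_1 (flp_i L655950) L357451 L655950
theorem L655955 : sm gg N46937 = N42280 := ded_51_1 (flp_i L357465) (flp_g L357452) L655950
theorem L655957 : sm gj N46937 = N44923 := ded_53_1 (flp_i L380074) (flp_j L357454) L655950
theorem L655959 : sm gc N42279 = N46938 := rfl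
theorem L655961 : sm ga N46938 = N46477 := ded_11_1 L650549 (flp_a L648726) L655959
theorem L655963 : sm ge N46938 = N44755 := ded_28_2 (flp_c L378672) (flp_e L640952) L655959
theorem L655965 : sm gf N46938 = N42284 := ded_29_2 (flp_c L357497) (flp_f L357460) L655959
theorem L655967 : sm gj N46938 = N42281 := ded_31_2 (flp_c L357473) (flp_j L357462) L655959
theorem L655969 : sm gh N46938 = N46938 := ded_32_2 (flp_c L655959) L357464 L655959
theorem L655970 : sm gi N42279 = N46939 := rfl
theorem L655972 : sm ga N46939 = N46481 := ded_18_1 (flp_i L650576) (flp_a L648726) L655970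
theorem L655974 : sm gb N46939 = N42296 := ded_26_1 (flp_i L357592) (flp_b L357458) L655970
theorem L655976 : sm gd N46939 = N42280 := ded_39_1 (flp_i L357465) L357456 L655970
theorem L655978 : sm ge N46939 = N44757 := ded_44_1 (flp_i L378682) (flp_e L640952) L655970
theorem L655980 : sm gf N46939 = N42285 := ded_48_1 (flp_i L357503) (flp_f L357460) L655970
theorem L655982 : sm gj N46939 = N42283 := ded_53_1 (flp_i L357487) (flp_j L357462) L655970
theorem L655984 : sm gb N42281 = N46940 := rfl
theorem L655986 : sm gf N46940 = N42286 := ded_22_2 (flp_b L357512) (flp_f L357475) L655984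
theorem L655988 : sm gg N46940 = N44927 := ded_23_2 (flp_b L380106) (flp_g L357477) L655984
theorem L655990 : sm gh N46940 = N46940 := ded_25_2 (flp_b L655984) L357479 L655984
theorem L655991 : sm gc N46940 = N42297 := ded_19_2 (flp_b L357601) (flp_c L246069) (flp_b L245974) L357473 L655984
theorem L655993 : sm ge N42281 = N46941 := rfl
theorem L655995 : sm ga N46941 = N46486 := ded_13_1 (flp_e L655364) L655362 L655993
theorem L655997 : sm gc N46941 = N42282 := ded_28_1 (flp_e L357480) L357473 L655993
theorem L655999 : sm gg N46941 = N44928 := ded_41_2 (flp_e L380113) (flp_g L357477) L655993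
theorem L656001 : sm gj N46941 = N44755 := ded_42_2 (flp_e L655963) L655967 L655993
theorem L656003 : sm gh N46941 = N46941 := ded_43_2 (flp_e L655993) L357479 L655993
theorem L656004 : sm gf N46941 = N44758 := ded_40_2 (flp_e L648521) L649095 L351974 (flp_f L357475) L655993
theorem L656006 : sm gi N42281 = N46942 := rfl
theorem L656008 : sm gc N46942 = N42283 := ded_33_1 (flp_i L357487) L357473 L656006
theorem L656010 : sm gf N46942 = N42287 := ded_48_1 (flp_i L357519) (flp_f L357475) L656006
theorem L656012 : sm gg N46942 = N44929 := ded_51_1 (flp_i L380119) (flp_g L357477) L656006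
theorem L656014 : sm gi N42282 = N46943 := rfl
theorem L656016 : sm ga N46943 = N46489 := ded_18_1 (flp_i L650646) (flp_a L648406) L656014
theorem L656018 : sm gb N46943 = N42300 := ded_26_1 (flp_i L357629) (flp_b L357482) L656014
theorem L656020 : sm gd N46943 = N44754 := ded_39_1 (flp_i L378662) (flp_d L640972) L656014
theorem L656022 : sm ge N46943 = N42283 := ded_44_1 (flp_i L357487) L357480 L656014
theorem L656024 : sm gf N46943 = N44759 := ded_48_1 (flp_i L378696) (flp_f L640974) L656014
theorem L656026 : sm gg N46943 = N44930 := ded_51_1 (flp_i L380125) (flp_g L357484) L656014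
theorem L656028 : sm gj N46943 = N44757 := ded_53_1 (flp_i L378682) (flp_j L640976) L656014
theorem L656030 : sm gh N42283 = N46944 := rfl
theorem L656032 : sm gb N46944 = N42301 := ded_25_1 (flp_h L357636) (flp_b L357489) L656030
theorem L656034 : sm gf N46944 = N42288 := ded_47_1 (flp_h L357525) (flp_f L357493) L656030
theorem L656036 : sm gg N46944 = N44931 := ded_50_1 (flp_h L380132) (flp_g L357495) L656030
theorem L656038 : sm gi N46944 = N46944 := ded_54_2 (flp_h L656030) (flp_i L357487) L245980 L357487 L656030
theorem L656039 : sm gb N42284 = N46945 := rfl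
theorem L656041 : sm ge N46945 = N46442 := ded_21_2 (flp_b L650209) (flp_e L649179) L656039
theorem L656043 : sm gg N46945 = N46945 := ded_23_2 (flp_b L656039) L357499 L656039
theorem L656044 : sm gj N46945 = N42286 := ded_24_2 (flp_b L357512) (flp_j L357500) L656039
theorem L656046 : sm gh N46945 = N46945 := ded_25_2 (flp_b L656039) L357502 L656039
theorem L656047 : sm gc N46945 = N42302 := ded_19_2 (flp_b L357644) (flp_c L246094) (flp_b L245991) L357497 L656039
theorem L656049 : sm gi N42284 = N46946 := rfl
theorem L656051 : sm ga N46946 = N46478 := ded_18_1 (flp_i L650554) L649105 L656049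
theorem L656053 : sm gc N46946 = N42285 := ded_33_1 (flp_i L357503) L357497 L656049
theorem L656055 : sm ge N46946 = N46443 := ded_44_1 (flp_i L650217) (flp_e L649179) L656049
theorem L656057 : sm gg N46946 = N46946 := ded_51_1 (flp_i L656049) L357499 L656049
theorem L656058 : sm gj N46946 = N42287 := ded_53_1 (flp_i L357519) (flp_j L357500) L656049
theorem L656060 : sm gh N42285 = N46947 := rfl
theorem L656062 : sm ga N46947 = N46482 := ded_17_1 (flp_h L650583) L649107 L656060
theorem L656064 : sm gb N46947 = N42304 := ded_25_1 (flp_h L357662) (flp_b L357505) L656060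
theorem L656066 : sm ge N46947 = N46444 := ded_43_1 (flp_h L650228) (flp_e L649181) L656060
theorem L656068 : sm gg N46947 = N46947 := ded_50_1 (flp_h L656060) L357509 L656060
theorem L656069 : sm gj N46947 = N42288 := ded_52_1 (flp_h L357525) (flp_j L357510) L656060
theorem L656071 : sm gi N46947 = N46947 := ded_54_2 (flp_h L656060) (flp_i L357503) L245996 L357503 L656060
theorem L656072 : sm ga N42286 = N46948 := rfl
theorem L656074 : sm gc N46948 = N42305 := ded_11_2 (flp_a L357669) (flp_c L357517) L656072
theorem L656076 : sm ge N46948 = N46524 := ded_13_2 (flp_a L651679) L651670 L656072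
theorem L656078 : sm gg N46948 = N42289 := ded_15_2 (flp_a L357532) (flp_g L357514) L656072
theorem L656080 : sm gh N46948 = N46948 := ded_17_2 (flp_a L656072) L357516 L656072
theorem L656081 : sm gb N46948 = N46525 := ded_10_2 L650919 (flp_b L648566) L357114 L357512 L656072
theorem L656083 : sm gi N42286 = N46949 := rfl
theorem L656085 : sm gb N46949 = N42287 := ded_26_1 (flp_i L357519) L357512 L656083
theorem L656087 : sm gc N46949 = N42306 := ded_33_1 (flp_i L357677) (flp_c L357517) L656083
theorem L656089 : sm gg N46949 = N42290 := ded_51_1 (flp_i L357540) (flp_g L357514) L656083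
theorem L656091 : sm gh N42287 = N46950 := rfl
theorem L656093 : sm gc N46950 = N42288 := ded_32_1 (flp_h L357525) (flp_c L357521) L656091
theorem L656095 : sm gg N46950 = N42291 := ded_50_1 (flp_h L357549) (flp_g L357523) L656091
theorem L656097 : sm gi N46950 = N46950 := ded_54_2 (flp_h L656091) (flp_i L357519) L246010 L357519 L656091
theorem L656098 : sm gi N42289 = N46951 := rfl
theorem L656100 : sm ga N46951 = N42290 := ded_18_1 (flp_i L357540) L357532 L656098
theorem L656102 : sm gb N46951 = N46470 := ded_26_1 L650485 (flp_b L648570) L656098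
theorem L656104 : sm gc N46951 = N42308 := ded_33_1 (flp_i L357693) (flp_c L357534) L656098
theorem L656106 : sm ge N46951 = N46469 := ded_44_1 L650477 (flp_e L648513) L656098
theorem L656108 : sm gf N46951 = N44938 := ded_48_1 (flp_i L380190) (flp_f L357536) L656098
theorem L656110 : sm gj N46951 = N46951 := ded_53_1 (flp_i L656098) L357538 L656098
theorem L656111 : sm gh N42290 = N46952 := rfl
theorem L656113 : sm gb N46952 = N42291 := ded_25_1 (flp_h L357549) (flp_b L357542) L656111
theorem L656115 : sm gc N46952 = N42309 := ded_32_1 (flp_h L357703) (flp_c L357544) L656111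
theorem L656117 : sm gf N46952 = N44939 := ded_47_1 (flp_h L380198) (flp_f L357546) L656111
theorem L656119 : sm gj N46952 = N46952 := ded_52_1 (flp_h L656111) L357548 L656111
theorem L656120 : sm gi N46952 = N46952 := ded_54_2 (flp_h L656111) (flp_i L357540) L246024 L357540 L656111
theorem L656121 : sm gd N42291 = N46953 := rfl
theorem L656123 : sm gf N46953 = N44940 := ded_35_2 (flp_d L380207) (flp_f L357553) L656121
theorem L656125 : sm gj N46953 = N46953 := ded_37_2 (flp_d L656121) L357555 L656121
theorem L656126 : sm gi N46953 = N46953 := ded_39_2 (flp_d L656121) L357556 L656121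
theorem L656127 : sm gb N42294 = N46954 := rfl
theorem L656129 : sm gd N46954 = N43103 := ded_20_2 (flp_b L364466) (flp_d L357584) L656127
theorem L656131 : sm ge N46954 = N44771 := ded_21_2 (flp_b L378788) (flp_e L640949) L656127
theorem L656133 : sm gf N46954 = N42302 := ded_22_2 (flp_b L357644) (flp_f L357579) L656127
theorem L656135 : sm gj N46954 = N42297 := ded_24_2 (flp_b L357601) (flp_j L357581) L656127
theorem L656137 : sm gh N46954 = N46954 := ded_25_2 (flp_b L656127) L357583 L656127
theorem L656138 : sm gi N42294 = N46955 := rfl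
theorem L656140 : sm ga N46955 = N46955 := ded_18_1 (flp_i L656138) L357578 L656138
theorem L656141 : sm gc N46955 = N42296 := ded_33_1 (flp_i L357592) L357576 L656138
theorem L656143 : sm gd N46955 = N43105 := ded_39_1 (flp_i L364484) (flp_d L357584) L656138
theorem L656145 : sm ge N46955 = N44773 := ded_44_1 (flp_i L378801) (flp_e L640949) L656138
theorem L656147 : sm gf N46955 = N42303 := ded_48_1 (flp_i L357652) (flp_f L357579) L656138
theorem L656149 : sm gj N46955 = N42299 := ded_53_1 (flp_i L357618) (flp_j L357581) L656138
theorem L656151 : sm gh N42296 = N46956 := rfl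
theorem L656153 : sm ga N46956 = N46956 := ded_17_1 (flp_h L656151) L357594 L656151
theorem L656154 : sm ge N46956 = N44775 := ded_43_1 (flp_h L378815) (flp_e L635224) L656151
theorem L656156 : sm gf N46956 = N42304 := ded_47_1 (flp_h L357662) (flp_f L357597) L656151
theorem L656158 : sm gj N46956 = N42301 := ded_52_1 (flp_h L357636) (flp_j L357599) L656151
theorem L656160 : sm gi N46956 = N46956 := ded_54_2 (flp_h L656151) (flp_i L357592) L246059 L357592 L656151
theorem L656161 : sm ga N42297 = N46957 := rfl
theorem L656163 : sm gd N46957 = N43108 := ded_12_2 (flp_a L364510) (flp_d L357603) L656161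
theorem L656165 : sm gf N46957 = N42305 := ded_14_2 (flp_a L357669) (flp_f L357605) L656161
theorem L656167 : sm gg N46957 = N44949 := ded_15_2 (flp_a L380279) (flp_g L357607) L656161
theorem L656169 : sm gh N46957 = N46957 := ded_17_2 (flp_a L656161) L357609 L656161
theorem L656170 : sm gb N46957 = N46957 := ded_10_2 (flp_a L656161) (flp_b L357601) L246071 L357601 L656161
theorem L656171 : sm ge N42297 = N46958 := rfl
theorem L656173 : sm gb N46958 = N42298 := ded_21_1 (flp_e L357610) L357601 L656171
theorem L656175 : sm gg N46958 = N44950 := ded_41_2 (flp_e L380287) (flp_g L357607) L656171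
theorem L656177 : sm gj N46958 = N44771 := ded_42_2 (flp_e L656131) L656135 L656171
theorem L656179 : sm gh N46958 = N46958 := ded_43_2 (flp_e L656171) L357609 L656171
theorem L656180 : sm gf N46958 = N44776 := ded_40_2 (flp_e L651745) L651747 L352087 (flp_f L357605) L656171
theorem L656182 : sm gd N45629 = N46958 := ded_20_0 L656173 L640965 L385815
theorem L656184 : sm gi N42297 = N46959 := rfl
theorem L656186 : sm gb N46959 = N42299 := ded_26_1 (flp_i L357618) L357601 L656184
theorem L656188 : sm gd N46959 = N43110 := ded_39_1 (flp_i L364528) (flp_d L357603) L656184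
theorem L656190 : sm gf N46959 = N42306 := ded_48_1 (flp_i L357677) (flp_f L357605) L656184
theorem L656192 : sm gg N46959 = N44951 := ded_51_1 (flp_i L380293) (flp_g L357607) L656184
theorem L656194 : sm gi N42298 = N46960 := rfl
theorem L656196 : sm ga N46960 = N46960 := ded_18_1 (flp_i L656194) L357612 L656194
theorem L656197 : sm gc N46960 = N42300 := ded_33_1 (flp_i L357629) (flp_c L357613) L656194
theorem L656199 : sm gd N46960 = N45631 := ded_39_1 (flp_i L385833) (flp_d L640965) L656194
theorem L656201 : sm ge N46960 = N42299 := ded_44_1 (flp_i L357618) L357610 L656194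
theorem L656203 : sm gf N46960 = N44777 := ded_48_1 (flp_i L378831) (flp_f L640967) L656194
theorem L656205 : sm gg N46960 = N44953 := ded_51_1 (flp_i L380307) (flp_g L357615) L656194
theorem L656207 : sm gj N46960 = N44773 := ded_53_1 (flp_i L378801) (flp_j L640969) L656194
theorem L656209 : sm gh N42299 = N46961 := rfl
theorem L656211 : sm ga N46961 = N46961 := ded_17_1 (flp_h L656209) L357620 L656209
theorem L656212 : sm gc N46961 = N42301 := ded_32_1 (flp_h L357636) (flp_c L357621) L656209
theorem L656214 : sm gf N46961 = N42307 := ded_47_1 (flp_h L357685) (flp_f L357625) L656209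
theorem L656216 : sm gg N46961 = N44954 := ded_50_1 (flp_h L380315) (flp_g L357627) L656209
theorem L656218 : sm gi N46961 = N46961 := ded_54_2 (flp_h L656209) (flp_i L357618) L246076 L357618 L656209
theorem L656219 : sm gh N42300 = N46962 := rfl
theorem L656221 : sm ga N46962 = N46962 := ded_17_1 (flp_h L656219) L357631 L656219
theorem L656222 : sm ge N46962 = N42301 := ded_43_1 (flp_h L357636) (flp_e L357632) L656219
theorem L656224 : sm gf N46962 = N44778 := ded_47_1 (flp_h L378841) (flp_f L635191) L656219
theorem L656226 : sm gg N46962 = N44955 := ded_50_1 (flp_h L380323) (flp_g L357634) L656219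
theorem L656228 : sm gj N46962 = N44775 := ded_52_1 (flp_h L378815) (flp_j L635193) L656219
theorem L656230 : sm gd N46962 = N44948 := ded_38_1 (flp_h L380271) L261356 (flp_h L260378) (flp_d L635189) L656219
theorem L656232 : sm gi N46962 = N46962 := ded_54_2 (flp_h L656219) (flp_i L357629) L246084 L357629 L656219
theorem L656233 : sm ga N42302 = N46963 := rfl
theorem L656235 : sm gd N46963 = N43115 := ded_12_2 (flp_a L364573) (flp_d L357646) L656233
theorem L656237 : sm gg N46963 = N46963 := ded_15_2 (flp_a L656233) L357648 L656233
theorem L656238 : sm gj N46963 = N42305 := ded_16_2 (flp_a L357669) (flp_j L357649) L656233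
theorem L656240 : sm gh N46963 = N46963 := ded_17_2 (flp_a L656233) L357651 L656233
theorem L656241 : sm gb N46963 = N46963 := ded_10_2 (flp_a L656233) (flp_b L357644) L246096 L357644 L656233
theorem L656242 : sm gi N42302 = N46964 := rfl
theorem L656244 : sm gb N46964 = N42303 := ded_26_1 (flp_i L357652) L357644 L656242
theorem L656246 : sm gd N46964 = N43116 := ded_39_1 (flp_i L364582) (flp_d L357646) L656242
theorem L656248 : sm gg N46964 = N46964 := ded_51_1 (flp_i L656242) L357648 L656242
theorem L656249 : sm gj N46964 = N42306 := ded_53_1 (flp_i L357677) (flp_j L357649) L656242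
theorem L656251 : sm gh N42303 = N46965 := rfl
theorem L656253 : sm ga N46965 = N46965 := ded_17_1 (flp_h L656251) L357654 L656251
theorem L656254 : sm gc N46965 = N42304 := ded_32_1 (flp_h L357662) (flp_c L357655) L656251
theorem L656256 : sm gg N46965 = N46965 := ded_50_1 (flp_h L656251) L357659 L656251
theorem L656257 : sm gj N46965 = N42307 := ded_52_1 (flp_h L357685) (flp_j L357660) L656251
theorem L656259 : sm gi N46965 = N46965 := ded_54_2 (flp_h L656251) (flp_i L357652) L246100 L357652 L656251
theorem L656260 : sm gi N42305 = N46966 := rfl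
theorem L656262 : sm ga N46966 = N42306 := ded_18_1 (flp_i L357677) L357669 L656260
theorem L656264 : sm gb N46966 = N46966 := ded_26_1 (flp_i L656260) L357676 L656260
theorem L656265 : sm gd N46966 = N43118 := ded_39_1 (flp_i L364601) (flp_d L357671) L656260
theorem L656267 : sm gg N46966 = N42308 := ded_51_1 (flp_i L357693) (flp_g L357673) L656260
theorem L656269 : sm gh N42306 = N46967 := rfl
theorem L656271 : sm gb N46967 = N42307 := ded_25_1 (flp_h L357685) (flp_b L357679) L656269
theorem L656273 : sm gg N46967 = N42309 := ded_50_1 (flp_h L357703) (flp_g L357683) L656269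
theorem L656275 : sm gi N46967 = N46967 := ded_54_2 (flp_h L656269) (flp_i L357677) L246117 L357677 L656269
theorem L656276 : sm gd N42307 = N46968 := rfl
theorem L656278 : sm ga N46968 = N46968 := ded_12_1 (flp_d L656276) L357687 L656276
theorem L656279 : sm gg N46968 = N42310 := ded_36_2 (flp_d L357711) (flp_g L357690) L656276
theorem L656281 : sm gi N46968 = N46968 := ded_39_2 (flp_d L656276) L357692 L656276
theorem L656282 : sm gh N46968 = N43120 := ded_38_2 (flp_d L364618) (flp_h L250787) (flp_d L246123) L357685 L656276
theorem L656284 : sm gh N42308 = N46969 := rfl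
theorem L656286 : sm ga N46969 = N42309 := ded_17_1 (flp_h L357703) (flp_a L357695) L656284
theorem L656288 : sm gb N46969 = N46969 := ded_25_1 (flp_h L656284) L357697 L656284
theorem L656289 : sm gf N46969 = N44962 := ded_47_1 (flp_h L380386) (flp_f L357700) L656284
theorem L656291 : sm gj N46969 = N46969 := ded_52_1 (flp_h L656284) L357702 L656284
theorem L656292 : sm gi N46969 = N46969 := ded_54_2 (flp_h L656284) (flp_i L357693) L246140 L357693 L656284
theorem L656293 : sm gd N42309 = N46970 := rfl
theorem L656295 : sm gb N46970 = N42310 := ded_20_1 (flp_d L357711) (flp_b L357705) L656293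
theorem L656297 : sm gf N46970 = N44963 := ded_35_2 (flp_d L380394) (flp_f L357707) L656293
theorem L656299 : sm gj N46970 = N46970 := ded_37_2 (flp_d L656293) L357709 L656293
theorem L656300 : sm gi N46970 = N46970 := ded_39_2 (flp_d L656293) L357710 L656293
theorem L656301 : sm gh N46970 = N43122 := ded_38_2 (flp_d L364636) (flp_h L250806) (flp_d L246146) L357703 L656293
theorem L656303 : sm ge N42310 = N46971 := rfl
theorem L656305 : sm ga N46971 = N46971 := ded_13_1 (flp_e L656303) L357713 L656303
theorem L656306 : sm gj N46971 = N46971 := ded_42_2 (flp_e L656303) L357716 L656303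
theorem L656307 : sm gh N46971 = N43123 := ded_43_2 (flp_e L364645) (flp_h L357718) L656303
theorem L656309 : sm gi N46971 = N46971 := ded_44_2 (flp_e L656303) L357717 L656303
theorem L656310 : sm gi N42312 = N46972 := rfl
theorem L656312 : sm ga N46972 = N46972 := ded_18_1 (flp_i L656310) L357732 L656310
theorem L656313 : sm gb N46972 = N42317 := ded_26_1 (flp_i L357779) (flp_b L357733) L656310
theorem L656315 : sm gc N46972 = N46972 := ded_33_1 (flp_i L656310) L357735 L656310
theorem L656316 : sm gd N46972 = N46362 := ded_39_1 (flp_i L649593) L648827 L656310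
theorem L656318 : sm ge N46972 = N46972 := ded_44_1 (flp_i L656310) L357736 L656310
theorem L656319 : sm gf N46972 = N42343 := ded_48_1 (flp_i L358029) (flp_f L614196) L656310
theorem L656321 : sm gg N46972 = N46972 := ded_51_1 (flp_i L656310) L357737 L656310
theorem L656322 : sm gj N46972 = N42487 := ded_53_1 (flp_i L359328) (flp_j L357738) L656310
theorem L656324 : sm gh N46972 = N46972 := ded_54_1 (flp_i L656310) (flp_h L357730) L246167 L357730 L656310
theorem L656325 : sm gd N42315 = N46973 := rfl
theorem L656327 : sm ga N46973 = N42328 := ded_12_1 (flp_d L357887) (flp_a L357761) L656325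
theorem L656329 : sm gb N46973 = N42342 := ded_20_1 (flp_d L358021) (flp_b L614125) L656325
theorem L656331 : sm gf N46973 = N42316 := ded_35_2 (flp_d L357769) (flp_f L357765) L656325
theorem L656333 : sm gg N46973 = N42335 := ded_36_2 (flp_d L357953) (flp_g L614129) L656325
theorem L656335 : sm gj N46973 = N42493 := ded_37_2 (flp_d L359384) (flp_j L357767) L656325
theorem L656337 : sm gc N46973 = N42357 := ded_27_1 (flp_d L358174) L246449 (flp_d L246218) (flp_c L357763) L656325
theorem L656339 : sm ge N46973 = N42386 := ded_34_2 (flp_d L358440) L246630 (flp_d L246324) (flp_e L614127) L656325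
theorem L656341 : sm gh N46973 = N46973 := ded_38_2 (flp_d L656325) (flp_h L357759) L246176 L357759 L656325
theorem L656342 : sm gi N42315 = N46974 := rfl
theorem L656344 : sm ga N46974 = N42329 := ded_18_1 (flp_i L357897) (flp_a L357761) L656342
theorem L656346 : sm gb N46974 = N42343 := ded_26_1 (flp_i L358029) (flp_b L614125) L656342
theorem L656348 : sm gc N46974 = N42322 := ded_33_1 (flp_i L357830) (flp_c L357763) L656342
theorem L656350 : sm ge N46974 = N42338 := ded_44_1 (flp_i L357984) (flp_e L614127) L656342
theorem L656352 : sm gf N46974 = N42317 := ded_48_1 (flp_i L357779) (flp_f L357765) L656342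
theorem L656354 : sm gg N46974 = N42336 := ded_51_1 (flp_i L357963) (flp_g L614129) L656342
theorem L656356 : sm gj N46974 = N42494 := ded_53_1 (flp_i L359393) (flp_j L357767) L656342
theorem L656358 : sm gh N46974 = N46974 := ded_54_1 (flp_i L656342) (flp_h L357759) L246179 L357759 L656342
theorem L656359 : sm gi N42316 = N46975 := rfl
theorem L656361 : sm ga N46975 = N42331 := ded_18_1 (flp_i L357917) (flp_a L357771) L656359
theorem L656363 : sm gb N46975 = N46362 := ded_26_1 (flp_i L649593) (flp_b L648438) L656359
theorem L656365 : sm gc N46975 = N42360 := ded_33_1 (flp_i L358205) (flp_c L357776) L656359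
theorem L656367 : sm gd N46975 = N42317 := ded_39_1 (flp_i L357779) L357769 L656359
theorem L656369 : sm ge N46975 = N46361 := ded_44_1 (flp_i L649585) L649367 L656359
theorem L656371 : sm gg N46975 = N46975 := ded_51_1 (flp_i L656359) L357773 L656359
theorem L656372 : sm gj N46975 = N42496 := ded_53_1 (flp_i L359412) (flp_j L357774) L656359
theorem L656374 : sm gd N42319 = N46976 := rfl
theorem L656376 : sm ga N46976 = N42335 := ded_12_1 (flp_d L357953) (flp_a L357801) L656374
theorem L656378 : sm gb N46976 = N46976 := ded_20_1 (flp_d L656374) L357803 L656374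
theorem L656379 : sm gf N46976 = N46976 := ded_35_2 (flp_d L656374) L357806 L656374
theorem L656380 : sm gg N46976 = N42328 := ded_36_2 (flp_d L357887) (flp_g L614097) L656374
theorem L656382 : sm gj N46976 = N42500 := ded_37_2 (flp_d L359450) (flp_j L357807) L656374
theorem L656384 : sm gc N46976 = N42376 := ded_27_1 (flp_d L358359) L246568 (flp_d L246324) (flp_c L614094) L656374
theorem L656386 : sm ge N46976 = N42364 := ded_34_2 (flp_d L358246) L246491 (flp_d L246218) (flp_e L357804) L656374
theorem L656388 : sm gh N46976 = N46976 := ded_38_2 (flp_d L656374) (flp_h L357799) L246198 L357799 L656374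
theorem L656389 : sm gi N42319 = N46977 := rfl
theorem L656391 : sm ga N46977 = N42336 := ded_18_1 (flp_i L357963) (flp_a L357801) L656389
theorem L656393 : sm gb N46977 = N46977 := ded_26_1 (flp_i L656389) L357803 L656389
theorem L656394 : sm gc N46977 = N42338 := ded_33_1 (flp_i L357984) (flp_c L614094) L656389
theorem L656396 : sm ge N46977 = N42322 := ded_44_1 (flp_i L357830) (flp_e L357804) L656389
theorem L656398 : sm gf N46977 = N46977 := ded_48_1 (flp_i L656389) L357806 L656389
theorem L656399 : sm gg N46977 = N42329 := ded_51_1 (flp_i L357897) (flp_g L614097) L656389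
theorem L656401 : sm gj N46977 = N42501 := ded_53_1 (flp_i L359459) (flp_j L357807) L656389
theorem L656403 : sm gh N46977 = N46977 := ded_54_1 (flp_i L656389) (flp_h L357799) L246197 L357799 L656389
theorem L656404 : sm gi N42321 = N46978 := rfl
theorem L656406 : sm ga N46978 = N42338 := ded_18_1 (flp_i L357984) (flp_a L357822) L656404
theorem L656408 : sm gb N46978 = N46978 := ded_26_1 (flp_i L656404) L357824 L656404
theorem L656409 : sm gc N46978 = N42336 := ded_33_1 (flp_i L357963) (flp_c L614063) L656404
theorem L656411 : sm gd N46978 = N42367 := ded_39_1 (flp_i L358279) (flp_d L357828) L656404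
theorem L656413 : sm ge N46978 = N42329 := ded_44_1 (flp_i L357897) (flp_e L614065) L656404
theorem L656415 : sm gf N46978 = N46978 := ded_48_1 (flp_i L656404) L357825 L656404
theorem L656416 : sm gg N46978 = N42322 := ded_51_1 (flp_i L357830) (flp_g L357826) L656404
theorem L656418 : sm gj N46978 = N42510 := ded_53_1 (flp_i L359535) (flp_j L614068) L656404
theorem L656420 : sm gh N46978 = N46978 := ded_54_1 (flp_i L656404) (flp_h L357820) L246207 L357820 L656404
theorem L656421 : sm ge N42328 = N46979 := rfl
theorem L656423 : sm ga N46979 = N42386 := ded_13_1 (flp_e L656339) L656327 L656421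
theorem L656425 : sm gb N46979 = N46979 := ded_21_1 (flp_e L656421) L357889 L656421
theorem L656426 : sm gc N46979 = N42378 := ded_28_1 (flp_e L358374) (flp_c L357894) L656421
theorem L656428 : sm gg N46979 = N42364 := ded_41_2 (flp_e L656386) L656380 L656421
theorem L656430 : sm gj N46979 = N42514 := ded_42_2 (flp_e L359573) (flp_j L357892) L656421
theorem L656432 : sm gh N46979 = N46979 := ded_43_2 (flp_e L656421) L357896 L656421
theorem L656433 : sm gd N46979 = N42363 := ded_34_1 L358242 (flp_d L357828) L614065 L357887 L656421
theorem L656435 : sm gf N46979 = N45162 := ded_40_2 L382126 L648330 (flp_e L357907) (flp_f L357890) L656421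
theorem L656437 : sm gi N42328 = N46980 := rfl
theorem L656439 : sm gb N46980 = N46980 := ded_26_1 (flp_i L656437) L357889 L656437
theorem L656440 : sm gc N46980 = N42379 := ded_33_1 (flp_i L358379) (flp_c L357894) L656437
theorem L656442 : sm gd N46980 = N42329 := ded_39_1 (flp_i L357897) L357887 L656437
theorem L656444 : sm gf N46980 = N42331 := ded_48_1 (flp_i L357917) (flp_f L357890) L656437
theorem L656446 : sm gj N46980 = N42515 := ded_53_1 (flp_i L359579) (flp_j L357892) L656437
theorem L656448 : sm gi N42330 = N46981 := rfl
theorem L656450 : sm ga N46981 = N46361 := ded_18_1 (flp_i L649585) (flp_a L649355) L656448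
theorem L656452 : sm gb N46981 = N46981 := ded_26_1 (flp_i L656448) L357909 L656448
theorem L656453 : sm gc N46981 = N42381 := ded_33_1 (flp_i L358394) (flp_c L357910) L656448
theorem L656455 : sm gd N46981 = N46981 := ded_39_1 (flp_i L656448) L357916 L656448
theorem L656456 : sm ge N46981 = N42331 := ded_44_1 (flp_i L357917) L357907 L656448
theorem L656458 : sm gf N46981 = N46367 := ded_48_1 (flp_i L649636) L648330 L656448
theorem L656460 : sm gg N46981 = N46981 := ded_51_1 (flp_i L656448) L357912 L656448
theorem L656461 : sm gj N46981 = N42517 := ded_53_1 (flp_i L359595) (flp_j L357913) L656448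
theorem L656463 : sm gh N42331 = N46982 := rfl
theorem L656465 : sm gb N46982 = N46982 := ded_25_1 (flp_h L656463) L357919 L656463
theorem L656466 : sm gc N46982 = N42382 := ded_32_1 (flp_h L358403) (flp_c L357920) L656463
theorem L656468 : sm gg N46982 = N46982 := ded_50_1 (flp_h L656463) L357924 L656463
theorem L656469 : sm gj N46982 = N42518 := ded_52_1 (flp_h L359605) (flp_j L357925) L656463
theorem L656471 : sm gd N46982 = N46982 := ded_38_1 (flp_h L656463) L357922 L246289 (flp_d L357922) L656463
theorem L656472 : sm gi N46982 = N46982 := ded_54_2 (flp_h L656463) (flp_i L357917) L246279 L357917 L656463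
theorem L656473 : sm gc N42335 = N46983 := rfl
theorem L656475 : sm ga N46983 = N42376 := ded_11_1 (flp_c L656384) L656376 L656473
theorem L656477 : sm ge N46983 = N42388 := ded_28_2 (flp_c L358457) (flp_e L357960) L656473
theorem L656479 : sm gf N46983 = N46983 := ded_29_2 (flp_c L656473) L357957 L656473
theorem L656480 : sm gg N46983 = N42357 := ded_30_2 (flp_c L656337) L656333 L656473
theorem L656482 : sm gj N46983 = N42524 := ded_31_2 (flp_c L359659) (flp_j L357958) L656473
theorem L656484 : sm gh N46983 = N46983 := ded_32_2 (flp_c L656473) L357962 L656473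
theorem L656485 : sm gd N46983 = N42356 := ded_27_2 L358169 (flp_d L357828) L614063 L357953 L656473
theorem L656487 : sm gi N42335 = N46984 := rfl
theorem L656489 : sm gb N46984 = N42345 := ded_26_1 (flp_i L358048) (flp_b L357955) L656487
theorem L656491 : sm gd N46984 = N42336 := ded_39_1 (flp_i L357963) L357953 L656487
theorem L656493 : sm ge N46984 = N42389 := ded_44_1 (flp_i L358464) (flp_e L357960) L656487
theorem L656495 : sm gf N46984 = N46984 := ded_48_1 (flp_i L656487) L357957 L656487
theorem L656496 : sm gj N46984 = N42525 := ded_53_1 (flp_i L359665) (flp_j L357958) L656487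
theorem L656498 : sm gi N42337 = N46985 := rfl
theorem L656500 : sm ga N46985 = N42510 := ded_18_1 (flp_i L359535) (flp_a L614278) L656498
theorem L656502 : sm gb N46985 = N42346 := ded_26_1 (flp_i L358058) (flp_b L357975) L656498
theorem L656504 : sm gc N46985 = N42501 := ded_33_1 (flp_i L359459) (flp_c L614280) L656498
theorem L656506 : sm gd N46985 = N42390 := ded_39_1 (flp_i L358474) (flp_d L357982) L656498
theorem L656508 : sm ge N46985 = N42494 := ded_44_1 (flp_i L359393) (flp_e L614282) L656498
theorem L656510 : sm gf N46985 = N46985 := ded_48_1 (flp_i L656498) L357977 L656498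
theorem L656511 : sm gg N46985 = N42526 := ded_51_1 (flp_i L359674) (flp_g L357978) L656498
theorem L656513 : sm gj N46985 = N42338 := ded_53_1 (flp_i L357984) (flp_j L357980) L656498
theorem L656515 : sm gh N46985 = N46985 := ded_54_1 (flp_i L656498) (flp_h L357973) L246314 L357973 L656498
theorem L656516 : sm gd N42341 = N46986 := rfl
theorem L656518 : sm ga N46986 = N46986 := ded_12_1 (flp_d L656516) L358013 L656516
theorem L656519 : sm gb N46986 = N42493 := ded_20_1 (flp_d L359384) (flp_b L614159) L656516
theorem L656521 : sm gf N46986 = N42486 := ded_35_2 (flp_d L359320) (flp_f L614162) L656516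
theorem L656523 : sm gg N46986 = N42531 := ded_36_2 (flp_d L359721) (flp_g L358017) L656516
theorem L656525 : sm gj N46986 = N42342 := ded_37_2 (flp_d L358021) (flp_j L358019) L656516
theorem L656527 : sm ge N46986 = N42395 := ded_34_2 (flp_d L358522) L246693 (flp_d L246391) (flp_e L358015) L656516
theorem L656529 : sm gh N46986 = N46986 := ded_38_2 (flp_d L656516) (flp_h L358011) L246349 L358011 L656516
theorem L656530 : sm gc N46986 = N45152 := ded_56_4 (flp_b L651329) L651327 L351255 (flp_f L351249) (flp_e L241799) (flp_d L166725) L115094 L79685 L55287 (flp_h L55285) L55278 L79702 (flp_d L114904) (flp_c L638406) L84272 L63498 L48962 L34110 (flp_e L48290) L48289 (flp_c L627210) L33910 (flp_a L30532) L43923 L43928 L30542 L30544 L30541 (flp_b L43894) (flp_a L63278) (flp_h L63276) L63268 L91431 L91437 (flp_c L92668) (flp_b L134280) L577654 (flp_h L94771) L65507 (flp_e L65501) (flp_d L59528) L59526 L41297 L28726 L41337 L41340 (flp_e L39247) (flp_d L56387) L56383 (flp_b L81327) (flp_a L117549) (flp_h L117547) L117539 L170378 L170384 (flp_c L614268) L246309 L169770 L246382 L246386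 (flp_e L358015) L656516
theorem L656532 : sm gi N42341 = N46987 := rfl
theorem L656534 : sm ga N46987 = N46987 := ded_18_1 (flp_i L656532) L358013 L656532
theorem L656535 : sm gb N46987 = N42494 := ded_26_1 (flp_i L359393) (flp_b L614159) L656532
theorem L656537 : sm gc N46987 = N46987 := ded_33_1 (flp_i L656532) L358014 L656532
theorem L656538 : sm ge N46987 = N42346 := ded_44_1 (flp_i L358058) (flp_e L358015) L656532
theorem L656540 : sm gf N46987 = N42487 := ded_48_1 (flp_i L359328) (flp_f L614162) L656532
theorem L656542 : sm gg N46987 = N42532 := ded_51_1 (flp_i L359729) (flp_g L358017) L656532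
theorem L656544 : sm gj N46987 = N42343 := ded_53_1 (flp_i L358029) (flp_j L358019) L656532
theorem L656546 : sm gh N46987 = N46987 := ded_54_1 (flp_i L656532) (flp_h L358011) L246352 L358011 L656532
theorem L656547 : sm gi N42342 = N46988 := rfl
theorem L656549 : sm ga N46988 = N46988 := ded_18_1 (flp_i L656547) L358023 L656547
theorem L656550 : sm gc N46988 = N45157 := ded_33_1 (flp_i L382080) (flp_c L637390) L656547
theorem L656552 : sm gd N46988 = N42343 := ded_39_1 (flp_i L358029) L358021 L656547
theorem L656554 : sm ge N46988 = N42398 := ded_44_1 (flp_i L358547) (flp_e L358026) L656547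
theorem L656556 : sm gf N46988 = N46362 := ded_48_1 (flp_i L649593) (flp_f L637392) L656547
theorem L656558 : sm gg N46988 = N42345 := ded_51_1 (flp_i L358048) (flp_g L358024) L656547
theorem L656560 : sm gb N42344 = N46989 := rfl
theorem L656562 : sm gd N46989 = N46989 := ded_20_2 (flp_b L656560) L358047 L656560
theorem L656563 : sm ge N46989 = N42399 := ded_21_2 (flp_b L358554) (flp_e L358041) L656560
theorem L656565 : sm gf N46989 = N46989 := ded_22_2 (flp_b L656560) L358043 L656560
theorem L656566 : sm gg N46989 = N45139 := ded_23_2 L381929 (flp_g L637386) L656560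
theorem L656568 : sm gj N46989 = N42535 := ded_24_2 (flp_b L359756) (flp_j L358044) L656560
theorem L656570 : sm gh N46989 = N46989 := ded_25_2 (flp_b L656560) L358046 L656560
theorem L656571 : sm gi N42344 = N46990 := rfl
theorem L656573 : sm ga N46990 = N46990 := ded_18_1 (flp_i L656571) L358040 L656571
theorem L656574 : sm gc N46990 = N42345 := ded_33_1 (flp_i L358048) L358038 L656571
theorem L656576 : sm gd N46990 = N46990 := ded_39_1 (flp_i L656571) L358047 L656571
theorem L656577 : sm ge N46990 = N42400 := ded_44_1 (flp_i L358561) (flp_e L358041) L656571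
theorem L656579 : sm gf N46990 = N46990 := ded_48_1 (flp_i L656571) L358043 L656571
theorem L656580 : sm gg N46990 = N45157 := ded_51_1 (flp_i L382080) (flp_g L637386) L656571
theorem L656582 : sm gj N46990 = N42536 := ded_53_1 (flp_i L359763) (flp_j L358044) L656571
theorem L656584 : sm gh N42345 = N46991 := rfl
theorem L656586 : sm ga N46991 = N46991 := ded_17_1 (flp_h L656584) L358050 L656584
theorem L656587 : sm ge N46991 = N42401 := ded_43_1 (flp_h L358570) (flp_e L358053) L656584
theorem L656589 : sm gf N46991 = N46991 := ded_47_1 (flp_h L656584) L358055 L656584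
theorem L656590 : sm gj N46991 = N42537 := ded_52_1 (flp_h L359772) (flp_j L358056) L656584
theorem L656592 : sm gd N46991 = N46991 := ded_38_1 (flp_h L656584) L358051 L246381 (flp_d L358051) L656584
theorem L656593 : sm gi N46991 = N46991 := ded_54_2 (flp_h L656584) (flp_i L358048) L246371 L358048 L656584
theorem L656594 : sm gg N42347 = N46992 := rfl
theorem L656596 : sm ga N46992 = N42435 := ded_15_1 L358901 (flp_a L612420) L656594
theorem L656598 : sm gb N46992 = N42353 := ded_23_1 (flp_g L358131) (flp_b L358072) L656594
theorem L656600 : sm gc N46992 = N46992 := ded_30_1 (flp_g L656594) L358074 L656594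
theorem L656601 : sm gd N46992 = N42414 := ded_36_1 L358694 (flp_d L612423) L656594
theorem L656603 : sm ge N46992 = N42348 := ded_41_1 (flp_g L358081) L358070 L656594
theorem L656605 : sm gi N46992 = N42403 := ded_51_2 (flp_g L358589) (flp_i L358077) L656594
theorem L656607 : sm gf N46992 = N42412 := ded_45_1 (flp_g L358669) L246788 L612428 (flp_f L358079) L656594
theorem L656609 : sm gh N42347 = N46993 := rfl
theorem L656611 : sm ga N46993 = N44293 := ded_17_1 (flp_h L612186) (flp_a L612420) L656609
theorem L656613 : sm gb N46993 = N42354 := ded_25_1 (flp_h L358141) (flp_b L358072) L656609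
theorem L656615 : sm gc N46993 = N46993 := ded_32_1 (flp_h L656609) L358074 L656609
theorem L656616 : sm ge N46993 = N42349 := ded_43_1 (flp_h L358090) L358070 L656609
theorem L656618 : sm gf N46993 = N44263 := ded_47_1 L550200 (flp_f L358079) L656609
theorem L656620 : sm gj N46993 = N42540 := ded_52_1 (flp_h L359798) (flp_j L358075) L656609
theorem L656622 : sm gj N42348 = N46994 := rfl
theorem L656624 : sm ga N46994 = N46382 := ded_16_1 L649768 L648328 L656622
theorem L656626 : sm gb N46994 = N42355 := ded_24_1 (flp_j L358153) (flp_b L358083) L656622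
theorem L656628 : sm gc N46994 = N46994 := ded_31_1 (flp_j L656622) L358085 L656622
theorem L656629 : sm gd N46994 = N46994 := ded_37_1 (flp_j L656622) L358086 L656622
theorem L656630 : sm gf N46994 = N46994 := ded_46_1 (flp_j L656622) L358089 L656622
theorem L656631 : sm gi N46994 = N42405 := ded_53_2 (flp_j L358607) (flp_i L358087) L656622
theorem L656633 : sm gg N46994 = N42541 := ded_49_1 (flp_j L359807) (flp_g L247552) (flp_j L246409) L358081 L656622
theorem L656635 : sm gh N42348 = N46995 := rfl
theorem L656637 : sm ga N46995 = N44296 := ded_17_1 L374786 L648328 L656635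
theorem L656639 : sm gb N46995 = N42356 := ded_25_1 (flp_h L358165) (flp_b L358083) L656635
theorem L656641 : sm gc N46995 = N46995 := ded_32_1 (flp_h L656635) L358085 L656635
theorem L656642 : sm gf N46995 = N46995 := ded_47_1 (flp_h L656635) L358089 L656635
theorem L656643 : sm gg N46995 = N42349 := ded_50_1 (flp_h L358090) L358081 L656635
theorem L656645 : sm gi N42349 = N46996 := rfl
theorem L656647 : sm ga N46996 = N44297 := ded_18_1 (flp_i L374789) (flp_a L501944) L656645
theorem L656649 : sm gb N46996 = N42358 := ded_26_1 (flp_i L358183) (flp_b L358092) L656645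
theorem L656651 : sm gc N46996 = N46996 := ded_33_1 (flp_i L656645) L358094 L656645
theorem L656652 : sm gf N46996 = N42351 := ded_48_1 (flp_i L358107) (flp_f L358095) L656645
theorem L656654 : sm gj N46996 = N42544 := ded_53_1 (flp_i L359833) (flp_j L358097) L656645
theorem L656656 : sm gh N46996 = N42408 := ded_54_1 (flp_i L358633) (flp_h L246757) (flp_i L246411) L358090 L656645
theorem L656658 : sm gg N42352 = N46997 := rfl
theorem L656660 : sm ga N46997 = N42368 := ded_15_1 (flp_g L358289) (flp_a L358121) L656658
theorem L656662 : sm gb N46997 = N42414 := ded_23_1 L358694 (flp_b L611863) L656658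
theorem L656664 : sm gc N46997 = N46997 := ded_30_1 (flp_g L656658) L358129 L656658
theorem L656665 : sm gd N46997 = N42353 := ded_36_1 (flp_g L358131) L358119 L656658
theorem L656667 : sm ge N46997 = N46997 := ded_41_1 (flp_g L656658) L358130 L656658
theorem L656668 : sm gi N46997 = N42412 := ded_51_2 (flp_g L358669) (flp_i L358127) L656658
theorem L656670 : sm gf N46997 = N42403 := ded_45_1 (flp_g L358589) L246748 (flp_g L611849) (flp_f L358123) L656658
theorem L656672 : sm gh N42352 = N46998 := rfl
theorem L656674 : sm ga N46998 = N42369 := ded_17_1 (flp_h L358297) (flp_a L358121) L656672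
theorem L656676 : sm gb N46998 = N45071 := ded_25_1 (flp_h L381349) (flp_b L611863) L656672
theorem L656678 : sm gc N46998 = N46998 := ded_32_1 (flp_h L656672) L358129 L656672
theorem L656679 : sm ge N46998 = N46998 := ded_43_1 (flp_h L656672) L358130 L656672
theorem L656680 : sm gf N46998 = N44976 := ded_47_1 (flp_h L380517) (flp_f L358123) L656672
theorem L656682 : sm gj N46998 = N42549 := ded_52_1 (flp_h L359875) (flp_j L358125) L656672
theorem L656684 : sm gf N42353 = N46999 := rfl
theorem L656686 : sm ga N46999 = N42370 := ded_14_1 (flp_f L358305) (flp_a L358133) L656684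
theorem L656688 : sm gb N46999 = N42412 := ded_22_1 (flp_f L656607) L656598 L656684
theorem L656690 : sm gc N46999 = N42361 := ded_29_1 (flp_f L358214) (flp_c L358135) L656684
theorem L656692 : sm gd N46999 = N42403 := ded_35_1 (flp_f L656670) L656665 L656684
theorem L656694 : sm gi N46999 = N42414 := ded_48_2 (flp_f L358687) (flp_i L358139) L656684
theorem L656696 : sm ge N46999 = N46999 := ded_40_1 (flp_f L656684) L358137 L246444 (flp_e L358137) L656684
theorem L656697 : sm gg N46999 = N42402 := ded_45_2 L611919 (flp_g L261533) (flp_f L246433) L358131 L656684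
theorem L656699 : sm gj N42353 = N47000 := rfl
theorem L656701 : sm ga N47000 = N42371 := ded_16_1 (flp_j L358314) (flp_a L358133) L656699
theorem L656703 : sm gc N47000 = N42362 := ded_31_1 (flp_j L358225) (flp_c L358135) L656699
theorem L656705 : sm ge N47000 = N42355 := ded_42_1 (flp_j L358153) (flp_e L358137) L656699
theorem L656707 : sm gi N47000 = N42415 := ded_53_2 (flp_j L358696) (flp_i L358139) L656699
theorem L656709 : sm gg N47000 = N42551 := ded_49_1 (flp_j L359895) (flp_g L247597) (flp_j L246429) L358131 L656699
theorem L656711 : sm gh N42353 = N47001 := rfl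
theorem L656713 : sm ga N47001 = N42372 := ded_17_1 (flp_h L358324) (flp_a L358133) L656711
theorem L656715 : sm gc N47001 = N42363 := ded_32_1 (flp_h L358237) (flp_c L358135) L656711
theorem L656717 : sm ge N47001 = N42356 := ded_43_1 (flp_h L358165) (flp_e L358137) L656711
theorem L656719 : sm gg N47001 = N42354 := ded_50_1 (flp_h L358141) L358131 L656711
theorem L656721 : sm gd N42354 = N47002 := rfl
theorem L656723 : sm ga N47002 = N42373 := ded_12_1 (flp_d L358332) (flp_a L358143) L656721
theorem L656725 : sm gf N47002 = N44980 := ded_35_2 (flp_d L380557) (flp_f L358149) L656721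
theorem L656727 : sm gj N47002 = N42553 := ded_37_2 (flp_d L359915) (flp_j L358151) L656721
theorem L656729 : sm gi N42354 = N47003 := rfl
theorem L656731 : sm ga N47003 = N42374 := ded_18_1 (flp_i L358338) (flp_a L358143) L656729
theorem L656733 : sm gc N47003 = N42365 := ded_33_1 (flp_i L358256) (flp_c L358145) L656729
theorem L656735 : sm ge N47003 = N42358 := ded_44_1 (flp_i L358183) (flp_e L358147) L656729
theorem L656737 : sm gf N47003 = N44981 := ded_48_1 (flp_i L380563) (flp_f L358149) L656729
theorem L656739 : sm gj N47003 = N42554 := ded_53_1 (flp_i L359921) (flp_j L358151) L656729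
theorem L656741 : sm gh N47003 = N42418 := ded_54_1 (flp_i L358724) (flp_h L246802) (flp_i L246431) L358141 L656729
theorem L656743 : sm gh N42355 = N47004 := rfl
theorem L656745 : sm ga N47004 = N42375 := ded_17_1 (flp_h L358350) (flp_a L358155) L656743
theorem L656747 : sm gc N47004 = N42366 := ded_32_1 (flp_h L358269) (flp_c L358157) L656743
theorem L656749 : sm gf N47004 = N47004 := ded_47_1 (flp_h L656743) L358160 L656743
theorem L656750 : sm gg N47004 = N42555 := ded_50_1 (flp_h L359933) (flp_g L358163) L656743
theorem L656752 : sm gj N47004 = N42356 := ded_52_1 (flp_h L358165) L358153 L656743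
theorem L656754 : sm gd N42524 = N47004 := ded_27_0 L656747 L648824 L247353 L247435 L359659
theorem L656756 : sm gi N42356 = N47005 := rfl
theorem L656758 : sm ga N47005 = N42377 := ded_18_1 (flp_i L358365) (flp_a L358167) L656756
theorem L656760 : sm gc N47005 = N42367 := ded_33_1 (flp_i L358279) (flp_c L358169) L656756
theorem L656762 : sm gf N47005 = N47005 := ded_48_1 (flp_i L656756) L358171 L656756
theorem L656763 : sm gg N47005 = N42358 := ded_51_1 (flp_i L358183) (flp_g L358172) L656756
theorem L656765 : sm gh N47005 = N42421 := ded_54_1 (flp_i L358756) (flp_h L246824) (flp_i L246442) L358165 L656756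
theorem L656767 : sm ge N42357 = N47006 := rfl
theorem L656769 : sm ga N47006 = N42378 := ded_13_1 (flp_e L358374) (flp_a L358176) L656767
theorem L656771 : sm gb N47006 = N45138 := ded_21_1 (flp_e L652420) L652411 L656767
theorem L656773 : sm gc N47006 = N42386 := ded_28_1 (flp_e L656339) L656337 L656767
theorem L656775 : sm gg N47006 = N42388 := ded_41_2 (flp_e L656477) L656480 L656767
theorem L656777 : sm gj N47006 = N42558 := ded_42_2 (flp_e L359964) (flp_j L358180) L656767
theorem L656779 : sm gh N47006 = N47006 := ded_43_2 (flp_e L656767) L358182 L656767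
theorem L656780 : sm gf N47006 = N45143 := ded_40_2 L381966 L648628 L550769 (flp_f L358178) L656767
theorem L656782 : sm gi N42357 = N47007 := rfl
theorem L656784 : sm ga N47007 = N42379 := ded_18_1 (flp_i L358379) (flp_a L358176) L656782
theorem L656786 : sm gd N47007 = N42358 := ded_39_1 (flp_i L358183) L358174 L656782
theorem L656788 : sm gf N47007 = N42360 := ded_48_1 (flp_i L358205) (flp_f L358178) L656782
theorem L656790 : sm gj N47007 = N42559 := ded_53_1 (flp_i L359969) (flp_j L358180) L656782
theorem L656792 : sm gh N42360 = N47008 := rfl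
theorem L656794 : sm ga N47008 = N42382 := ded_17_1 (flp_h L358403) (flp_a L358207) L656792
theorem L656796 : sm gg N47008 = N47008 := ded_50_1 (flp_h L656792) L358211 L656792
theorem L656797 : sm gj N47008 = N42562 := ded_52_1 (flp_h L359994) (flp_j L358212) L656792
theorem L656799 : sm gd N47008 = N42426 := ded_38_1 (flp_h L358806) L246869 (flp_h L246474) (flp_d L358209) L656792
theorem L656801 : sm gi N47008 = N47008 := ded_54_2 (flp_h L656792) (flp_i L358205) L246462 L358205 L656792
theorem L656802 : sm gj N42361 = N47009 := rfl
theorem L656804 : sm ga N47009 = N42383 := ded_16_1 (flp_j L358411) (flp_a L358216) L656802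
theorem L656806 : sm gb N47009 = N47009 := ded_24_1 (flp_j L656802) L358218 L656802
theorem L656807 : sm gd N47009 = N47009 := ded_37_1 (flp_j L656802) L358219 L656802
theorem L656808 : sm ge N47009 = N47009 := ded_42_1 (flp_j L656802) L358222 L656802
theorem L656809 : sm gf N47009 = N42362 := ded_46_1 (flp_j L358225) L358214 L656802
theorem L656811 : sm gi N47009 = N42427 := ded_53_2 (flp_j L358815) (flp_i L358220) L656802
theorem L656813 : sm gh N42361 = N47010 := rfl
theorem L656815 : sm ga N47010 = N42384 := ded_17_1 (flp_h L358421) (flp_a L358216) L656813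
theorem L656817 : sm gb N47010 = N47010 := ded_25_1 (flp_h L656813) L358218 L656813
theorem L656818 : sm ge N47010 = N47010 := ded_43_1 (flp_h L656813) L358222 L656813
theorem L656819 : sm gf N47010 = N42363 := ded_47_1 (flp_h L358237) L358214 L656813
theorem L656821 : sm gg N47010 = N44321 := ded_50_1 L637300 (flp_g L358223) L656813
theorem L656823 : sm gd N45162 = N47010 := ded_12_0 L656815 L637286 L382124
theorem L656825 : sm gh N42362 = N47011 := rfl
theorem L656827 : sm ga N47011 = N42385 := ded_17_1 (flp_h L358430) (flp_a L358227) L656825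
theorem L656829 : sm gb N47011 = N47011 := ded_25_1 (flp_h L656825) L358229 L656825
theorem L656830 : sm ge N47011 = N42366 := ded_43_1 (flp_h L358269) (flp_e L358231) L656825
theorem L656832 : sm gg N47011 = N42565 := ded_50_1 (flp_h L360026) (flp_g L358235) L656825
theorem L656834 : sm gj N47011 = N42363 := ded_52_1 (flp_h L358237) L358225 L656825
theorem L656836 : sm gd N42514 = N47011 := ded_34_5 L656830 L648824 L247355 L247376 L359573
theorem L656838 : sm gi N42363 = N47012 := rfl
theorem L656840 : sm ga N47012 = N42387 := ded_18_1 (flp_i L358447) (flp_a L358239) L656838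
theorem L656842 : sm gb N47012 = N47012 := ded_26_1 (flp_i L656838) L358241 L656838
theorem L656843 : sm ge N47012 = N42367 := ded_44_1 (flp_i L358279) (flp_e L358242) L656838
theorem L656845 : sm gg N47012 = N42365 := ded_51_1 (flp_i L358256) (flp_g L358244) L656838
theorem L656847 : sm gh N47012 = N42431 := ded_54_1 (flp_i L358854) (flp_h L246893) (flp_i L246484) L358237 L656838
theorem L656849 : sm gc N42364 = N47013 := rfl
theorem L656851 : sm ga N47013 = N42388 := ded_11_1 (flp_c L358457) (flp_a L358248) L656849
theorem L656853 : sm ge N47013 = N42376 := ded_28_2 (flp_c L656384) L656386 L656849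
theorem L656855 : sm gf N47013 = N44995 := ded_29_2 (flp_c L380708) (flp_f L358251) L656849
theorem L656857 : sm gg N47013 = N42378 := ded_30_2 (flp_c L656426) L656428 L656849
theorem L656859 : sm gj N47013 = N42568 := ded_31_2 (flp_c L360054) (flp_j L358253) L656849
theorem L656861 : sm gh N47013 = N47013 := ded_32_2 (flp_c L656849) L358255 L656849
theorem L656862 : sm gi N42364 = N47014 := rfl
theorem L656864 : sm ga N47014 = N42389 := ded_18_1 (flp_i L358464) (flp_a L358248) L656862
theorem L656866 : sm gb N47014 = N47014 := ded_26_1 (flp_i L656862) L358250 L656862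
theorem L656867 : sm gd N47014 = N42365 := ded_39_1 (flp_i L358256) L358246 L656862
theorem L656869 : sm gf N47014 = N44996 := ded_48_1 (flp_i L380716) (flp_f L358251) L656862
theorem L656871 : sm gj N47014 = N42569 := ded_53_1 (flp_i L360061) (flp_j L358253) L656862
theorem L656873 : sm gi N42366 = N47015 := rfl
theorem L656875 : sm ga N47015 = N42390 := ded_18_1 (flp_i L358474) (flp_a L358271) L656873
theorem L656877 : sm gb N47015 = N47015 := ded_26_1 (flp_i L656873) L358273 L656873
theorem L656878 : sm gd N47015 = N42510 := ded_39_1 (flp_i L359535) (flp_d L648824) L656873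
theorem L656880 : sm gf N47015 = N47015 := ded_48_1 (flp_i L656873) L358274 L656873
theorem L656881 : sm gg N47015 = N42570 := ded_51_1 (flp_i L360070) (flp_g L358275) L656873
theorem L656883 : sm gj N47015 = N42367 := ded_53_1 (flp_i L358279) (flp_j L358277) L656873
theorem L656885 : sm gh N47015 = N42434 := ded_54_1 (flp_i L358885) (flp_h L246924) (flp_i L246505) L358269 L656873
theorem L656887 : sm gj N42368 = N47016 := rfl
theorem L656889 : sm gb N47016 = N46384 := ded_24_1 L652062 L652051 L656887
theorem L656891 : sm gc N47016 = N47016 := ded_31_1 (flp_j L656887) L358291 L656887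
theorem L656892 : sm gd N47016 = N42371 := ded_37_1 (flp_j L358314) (flp_d L358292) L656887
theorem L656894 : sm ge N47016 = N47016 := ded_42_1 (flp_j L656887) L358294 L656887
theorem L656895 : sm gf N47016 = N46381 := ded_46_1 L652322 L652320 L656887
theorem L656897 : sm gi N47016 = N42436 := ded_53_2 (flp_j L358903) (flp_i L358295) L656887
theorem L656899 : sm gg N47016 = N42572 := ded_49_1 (flp_j L360090) (flp_g L247742) (flp_j L246532) L358289 L656887
theorem L656901 : sm gh N46396 = N47016 := ded_25_0 L656889 L649779 (flp_b L649868)
theorem L656903 : sm gh N42368 = N47017 := rfl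
theorem L656905 : sm gb N47017 = N46345 := ded_25_1 L652064 L652051 L656903
theorem L656907 : sm gc N47017 = N47017 := ded_32_1 (flp_h L656903) L358291 L656903
theorem L656908 : sm ge N47017 = N47017 := ded_43_1 (flp_h L656903) L358294 L656903
theorem L656909 : sm gf N47017 = N46343 := ded_47_1 L652324 L652320 L656903
theorem L656911 : sm gg N47017 = N42369 := ded_50_1 (flp_h L358297) L358289 L656903
theorem L656913 : sm gj N47017 = N46396 := ded_52_1 L656901 (flp_j L656887) L656903
theorem L656915 : sm gd N42369 = N47018 := rfl
theorem L656917 : sm gf N47018 = N45001 := ded_35_2 (flp_d L380764) (flp_f L358301) L656915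
theorem L656919 : sm gj N47018 = N42574 := ded_37_2 (flp_d L360104) (flp_j L358303) L656915
theorem L656921 : sm gh N47018 = N42373 := ded_38_2 (flp_d L358332) (flp_h L246546) L246528 L358297 L656915
theorem L656923 : sm gi N42369 = N47019 := rfl
theorem L656925 : sm gc N47019 = N47019 := ded_33_1 (flp_i L656923) L358299 L656923
theorem L656926 : sm ge N47019 = N47019 := ded_44_1 (flp_i L656923) L358300 L656923
theorem L656927 : sm gf N47019 = N45002 := ded_48_1 (flp_i L380770) (flp_f L358301) L656923
theorem L656929 : sm gj N47019 = N42575 := ded_53_1 (flp_i L360110) (flp_j L358303) L656923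
theorem L656931 : sm gh N47019 = N42439 := ded_54_1 (flp_i L358925) (flp_h L246950) (flp_i L246534) L358297 L656923
theorem L656933 : sm gj N42370 = N47020 := rfl
theorem L656935 : sm gb N47020 = N46383 := ded_24_1 L652096 L652085 L656933
theorem L656937 : sm gc N47020 = N42383 := ded_31_1 (flp_j L358411) (flp_c L358307) L656933
theorem L656939 : sm gd N47020 = N46381 := ded_37_1 L652322 L652314 L656933
theorem L656941 : sm ge N47020 = N47020 := ded_42_1 (flp_j L656933) L358311 L656933
theorem L656942 : sm gf N47020 = N42371 := ded_46_1 (flp_j L358314) L358305 L656933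
theorem L656944 : sm gi N47020 = N42440 := ded_53_2 (flp_j L358933) (flp_i L358309) L656933
theorem L656946 : sm gh N42370 = N47021 := rfl
theorem L656948 : sm gb N47021 = N44305 := ded_25_1 L652098 L652085 L656946
theorem L656950 : sm gc N47021 = N42384 := ded_32_1 (flp_h L358421) (flp_c L358307) L656946
theorem L656952 : sm ge N47021 = N47021 := ded_43_1 (flp_h L656946) L358311 L656946
theorem L656953 : sm gf N47021 = N42372 := ded_47_1 (flp_h L358324) L358305 L656946
theorem L656955 : sm gg N47021 = N44307 := ded_50_1 L637294 (flp_g L358312) L656946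
theorem L656957 : sm gh N42371 = N47022 := rfl
theorem L656959 : sm gc N47022 = N42385 := ded_32_1 (flp_h L358430) (flp_c L358316) L656957
theorem L656961 : sm ge N47022 = N42375 := ded_43_1 (flp_h L358350) (flp_e L358318) L656957
theorem L656963 : sm gg N47022 = N42578 := ded_50_1 (flp_h L360138) (flp_g L358322) L656957
theorem L656965 : sm gj N47022 = N42372 := ded_52_1 (flp_h L358324) L358314 L656957
theorem L656967 : sm gd N42372 = N47023 := rfl
theorem L656969 : sm gg N47023 = N42373 := ded_36_2 (flp_d L358332) (flp_g L358330) L656967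
theorem L656971 : sm gi N42372 = N47024 := rfl
theorem L656973 : sm gc N47024 = N42387 := ded_33_1 (flp_i L358447) (flp_c L358326) L656971
theorem L656975 : sm ge N47024 = N42377 := ded_44_1 (flp_i L358365) (flp_e L358328) L656971
theorem L656977 : sm gg N47024 = N42374 := ded_51_1 (flp_i L358338) (flp_g L358330) L656971
theorem L656979 : sm gh N47024 = N42444 := ded_54_1 (flp_i L358963) (flp_h L246973) (flp_i L246544) L358324 L656971
theorem L656981 : sm gc N42373 = N47025 := rfl
theorem L656983 : sm gf N47025 = N45008 := ded_29_2 (flp_c L380819) (flp_f L358334) L656981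
theorem L656985 : sm gj N47025 = N42581 := ded_31_2 (flp_c L360160) (flp_j L358336) L656981
theorem L656987 : sm gd N47025 = N42388 := ded_27_2 (flp_c L358457) (flp_d L246634) (flp_c L246548) L358332 L656981
theorem L656989 : sm ge N42373 = N47026 := rfl
theorem L656991 : sm gj N47026 = N42582 := ded_42_2 (flp_e L360166) (flp_j L358336) L656989
theorem L656993 : sm gd N47026 = N42378 := ded_34_1 (flp_e L358374) (flp_d L246573) (flp_e L246550) L358332 L656989
theorem L656995 : sm gi N42373 = N47027 := rfl
theorem L656997 : sm gd N47027 = N42374 := ded_39_1 (flp_i L358338) L358332 L656995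
theorem L656999 : sm gf N47027 = N45010 := ded_48_1 (flp_i L380831) (flp_f L358334) L656995
theorem L657001 : sm gj N47027 = N42583 := ded_53_1 (flp_i L360170) (flp_j L358336) L656995
theorem L657003 : sm gd N42375 = N47028 := rfl
theorem L657005 : sm ga N47028 = N42524 := ded_12_1 L656754 L656745 L657003
theorem L657007 : sm gf N47028 = N47028 := ded_35_2 (flp_d L657003) L358354 L657003
theorem L657008 : sm gg N47028 = N42584 := ded_36_2 (flp_d L360176) (flp_g L358355) L657003
theorem L657010 : sm gj N47028 = N42376 := ded_37_2 (flp_d L358359) (flp_j L358357) L657003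
theorem L657012 : sm gc N47028 = N42500 := ded_27_1 (flp_d L359450) (flp_c L614280) L357982 (flp_c L358352) L657003
theorem L657014 : sm gh N47028 = N47028 := ded_38_2 (flp_d L657003) (flp_h L358350) L246560 L358350 L657003
theorem L657015 : sm ge N42568 = N47028 := ded_13_0 L657005 L359661 (flp_a L360056)
theorem L657017 : sm gi N42375 = N47029 := rfl
theorem L657019 : sm gb N47029 = N46373 := ded_26_1 (flp_i L652171) L652162 L657017
theorem L657021 : sm gc N47029 = N42390 := ded_33_1 (flp_i L358474) (flp_c L358352) L657017
theorem L657023 : sm gf N47029 = N47029 := ded_48_1 (flp_i L657017) L358354 L657017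
theorem L657024 : sm gg N47029 = N42585 := ded_51_1 (flp_i L360183) (flp_g L358355) L657017
theorem L657026 : sm gj N47029 = N42377 := ded_53_1 (flp_i L358365) (flp_j L358357) L657017
theorem L657028 : sm gh N47029 = N42449 := ded_54_1 (flp_i L359002) (flp_h L246997) (flp_i L246562) L358350 L657017
theorem L657030 : sm gi N42376 = N47030 := rfl
theorem L657032 : sm gd N47030 = N42377 := ded_39_1 (flp_i L358365) L358359 L657030
theorem L657034 : sm gf N47030 = N47030 := ded_48_1 (flp_i L657030) L358361 L657030
theorem L657035 : sm gg N47030 = N42379 := ded_51_1 (flp_i L358379) (flp_g L358362) L657030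
theorem L657037 : sm gf N42378 = N47031 := rfl
theorem L657039 : sm ga N47031 = N45143 := ded_14_1 (flp_f L656780) L656769 L657037
theorem L657041 : sm gb N47031 = N42422 := ded_22_1 (flp_f L652209) L652203 L657037
theorem L657043 : sm gc N47031 = N45162 := ded_29_1 (flp_f L656435) L656426 L657037
theorem L657045 : sm gj N47031 = N42588 := ded_46_2 (flp_f L360206) (flp_j L358376) L657037
theorem L657047 : sm gh N47031 = N47031 := ded_47_2 (flp_f L657037) L358378 L657037
theorem L657048 : sm ge N47031 = N42380 := ded_40_1 (flp_f L358387) (flp_e L246590) (flp_f L246575) L358374 L657037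
theorem L657050 : sm gg N45146 = N47031 := ded_15_0 L657039 L381968 L381990
theorem L657052 : sm gi N42378 = N47032 := rfl
theorem L657054 : sm ge N47032 = N42379 := ded_44_1 (flp_i L358379) L358374 L657052
theorem L657056 : sm gj N47032 = N42589 := ded_53_1 (flp_i L360211) (flp_j L358376) L657052
theorem L657058 : sm gh N42379 = N47033 := rfl
theorem L657060 : sm gf N47033 = N42382 := ded_47_1 (flp_h L358403) (flp_f L358383) L657058
theorem L657062 : sm gj N47033 = N42590 := ded_52_1 (flp_h L360215) (flp_j L358385) L657058
theorem L657064 : sm gd N47033 = N42454 := ded_38_1 (flp_h L359040) L247029 (flp_h L246588) (flp_d L358381) L657058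
theorem L657066 : sm gi N47033 = N47033 := ded_54_2 (flp_h L657058) (flp_i L358379) L246579 L358379 L657058
theorem L657067 : sm gi N42380 = N47034 := rfl
theorem L657069 : sm ga N47034 = N46353 := ded_18_1 (flp_i L649517) L648626 L657067
theorem L657071 : sm gb N47034 = N42423 := ded_26_1 (flp_i L358773) (flp_b L553496) L657067
theorem L657073 : sm gc N47034 = N46367 := ded_33_1 (flp_i L649636) (flp_c L649357) L657067
theorem L657075 : sm gd N47034 = N42408 := ded_39_1 (flp_i L358633) (flp_d L553498) L657067
theorem L657077 : sm gf N47034 = N42381 := ded_48_1 (flp_i L358394) L358387 L657067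
theorem L657079 : sm gg N47034 = N46355 := ded_51_1 (flp_i L649532) (flp_g L649381) L657067
theorem L657081 : sm gj N47034 = N42592 := ded_53_1 (flp_i L360229) (flp_j L358391) L657067
theorem L657083 : sm gh N42381 = N47035 := rfl
theorem L657085 : sm gb N47035 = N42426 := ded_25_1 (flp_h L358806) (flp_b L553555) L657083
theorem L657087 : sm ge N47035 = N42382 := ded_43_1 (flp_h L358403) (flp_e L358398) L657083
theorem L657089 : sm gg N47035 = N47035 := ded_50_1 (flp_h L657083) L358400 L657083
theorem L657090 : sm gj N47035 = N42593 := ded_52_1 (flp_h L360235) (flp_j L358401) L657083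
theorem L657092 : sm gi N47035 = N47035 := ded_54_2 (flp_h L657083) (flp_i L358394) L246595 L358394 L657083
theorem L657093 : sm gg N42383 = N47036 := rfl
theorem L657095 : sm gb N47036 = N42391 := ded_23_1 (flp_g L358485) (flp_b L358413) L657093
theorem L657097 : sm gd N47036 = N47036 := ded_36_1 (flp_g L657093) L358415 L657093
theorem L657098 : sm ge N47036 = N47036 := ded_41_1 (flp_g L657093) L358416 L657093
theorem L657099 : sm gi N47036 = N42458 := ded_51_2 (flp_g L359073) (flp_i L358419) L657093
theorem L657101 : sm gf N47036 = N42594 := ded_45_1 (flp_g L360242) L247857 (flp_g L246624) (flp_f L358417) L657093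
theorem L657103 : sm gj N47036 = N44146 := ded_49_2 L373376 L641112 (flp_g L246613) L358411 L657093
theorem L657105 : sm gh N44573 = N47036 := ded_25_0 L657095 L641078 L377074
theorem L657107 : sm gh N42383 = N47037 := rfl
theorem L657109 : sm gb N47037 = N42392 := ded_25_1 (flp_h L358496) (flp_b L358413) L657107
theorem L657111 : sm ge N47037 = N47037 := ded_43_1 (flp_h L657107) L358416 L657107
theorem L657112 : sm gf N47037 = N42385 := ded_47_1 (flp_h L358430) (flp_f L358417) L657107
theorem L657114 : sm gg N47037 = N44573 := ded_50_1 L657105 (flp_g L657093) L657107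
theorem L657116 : sm gj N47037 = N42384 := ded_52_1 (flp_h L358421) L358411 L657107
theorem L657118 : sm gd N45159 = N47037 := ded_20_0 L657109 L640306 L382094
theorem L657120 : sm gi N42384 = N47038 := rfl
theorem L657122 : sm gb N47038 = N42394 := ded_26_1 (flp_i L358512) (flp_b L358423) L657120
theorem L657124 : sm gd N47038 = N45163 := ded_39_1 (flp_i L382132) (flp_d L637286) L657120
theorem L657126 : sm ge N47038 = N47038 := ded_44_1 (flp_i L657120) L358425 L657120
theorem L657127 : sm gf N47038 = N42387 := ded_48_1 (flp_i L358447) (flp_f L358426) L657120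
theorem L657129 : sm gg N47038 = N44322 := ded_51_1 (flp_i L374990) (flp_g L637289) L657120
theorem L657131 : sm gh N47038 = N42461 := ded_54_1 (flp_i L359101) (flp_h L247068) (flp_i L246610) L358421 L657120
theorem L657133 : sm gd N42385 = N47039 := rfl
theorem L657135 : sm ga N47039 = N42514 := ded_12_1 L656836 L656827 L657133
theorem L657137 : sm gb N47039 = N42395 := ded_20_1 (flp_d L358522) (flp_b L358432) L657133
theorem L657139 : sm gf N47039 = N45159 := ded_35_2 L657118 L657112 L657133
theorem L657141 : sm gg N47039 = N42598 := ded_36_2 (flp_d L360284) (flp_g L358436) L657133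
theorem L657143 : sm gj N47039 = N42386 := ded_37_2 (flp_d L358440) (flp_j L358438) L657133
theorem L657145 : sm ge N47039 = N42493 := ded_34_2 (flp_d L359384) (flp_e L614282) L357982 (flp_e L358434) L657133
theorem L657147 : sm gh N47039 = N47039 := ded_38_2 (flp_d L657133) (flp_h L358430) L246619 L358430 L657133
theorem L657148 : sm gc N42558 = N47039 := ded_11_0 L657135 L359576 (flp_a L359966)
theorem L657150 : sm gi N42385 = N47040 := rfl
theorem L657152 : sm gb N47040 = N42396 := ded_26_1 (flp_i L358530) (flp_b L358432) L657150
theorem L657154 : sm ge N47040 = N42390 := ded_44_1 (flp_i L358474) (flp_e L358434) L657150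
theorem L657156 : sm gg N47040 = N42599 := ded_51_1 (flp_i L360291) (flp_g L358436) L657150
theorem L657158 : sm gj N47040 = N42387 := ded_53_1 (flp_i L358447) (flp_j L358438) L657150
theorem L657160 : sm gh N47040 = N42463 := ded_54_1 (flp_i L359120) (flp_h L247077) (flp_i L246622) L358430 L657150
theorem L657162 : sm gi N42386 = N47041 := rfl
theorem L657164 : sm gb N47041 = N42398 := ded_26_1 (flp_i L358547) (flp_b L358442) L657162
theorem L657166 : sm gd N47041 = N42387 := ded_39_1 (flp_i L358447) L358440 L657162
theorem L657168 : sm gf N47041 = N45163 := ded_48_1 (flp_i L382132) (flp_f L637404) L657162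
theorem L657170 : sm gg N47041 = N42389 := ded_51_1 (flp_i L358464) (flp_g L358444) L657162
theorem L657172 : sm gb N42388 = N47042 := rfl
theorem L657174 : sm gf N47042 = N42464 := ded_22_2 L637525 (flp_f L358459) L657172
theorem L657176 : sm gg N47042 = N45138 := ded_23_2 (flp_b L656771) L656775 L657172
theorem L657178 : sm gj N47042 = N42602 := ded_24_2 (flp_b L360314) (flp_j L358461) L657172
theorem L657180 : sm gh N47042 = N47042 := ded_25_2 (flp_b L657172) L358463 L657172
theorem L657181 : sm gc N47042 = N42399 := ded_19_2 (flp_b L358554) (flp_c L246714) (flp_b L246636) L358457 L657172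
theorem L657183 : sm gi N42388 = N47043 := rfl
theorem L657185 : sm gc N47043 = N42389 := ded_33_1 (flp_i L358464) L358457 L657183
theorem L657187 : sm gf N47043 = N45030 := ded_48_1 (flp_i L381003) (flp_f L358459) L657183
theorem L657189 : sm gj N47043 = N42603 := ded_53_1 (flp_i L360321) (flp_j L358461) L657183
theorem L657191 : sm gh N42389 = N47044 := rfl
theorem L657193 : sm gb N47044 = N42401 := ded_25_1 (flp_h L358570) (flp_b L358466) L657191
theorem L657195 : sm gf N47044 = N45031 := ded_47_1 (flp_h L381010) (flp_f L358470) L657191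
theorem L657197 : sm gj N47044 = N42604 := ded_52_1 (flp_h L360327) (flp_j L358472) L657191
theorem L657199 : sm gd N47044 = N42468 := ded_38_1 (flp_h L359164) L247115 (flp_h L246653) (flp_d L358468) L657191
theorem L657201 : sm gi N47044 = N47044 := ded_54_2 (flp_h L657191) (flp_i L358464) L246642 L358464 L657191
theorem L657202 : sm gi N42395 = N47045 := rfl
theorem L657204 : sm ga N47045 = N47045 := ded_18_1 (flp_i L657202) L358524 L657202
theorem L657205 : sm gc N47045 = N44581 := ded_33_1 L641184 (flp_c L637358) L657202
theorem L657207 : sm gd N47045 = N42396 := ded_39_1 (flp_i L358530) L358522 L657202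
theorem L657209 : sm gf N47045 = N45160 := ded_48_1 (flp_i L382103) (flp_f L637360) L657202
theorem L657211 : sm gg N47045 = N42612 := ded_51_1 (flp_i L360395) (flp_g L358525) L657202
theorem L657213 : sm gj N47045 = N42398 := ded_53_1 (flp_i L358547) (flp_j L358527) L657202
theorem L657215 : sm gh N45289 = N47045 := ded_32_0 L657205 L377138 (flp_c L383130)
theorem L657217 : sm gh N42398 = N47046 := rfl
theorem L657219 : sm ga N47046 = N47046 := ded_17_1 (flp_h L657217) L358549 L657217
theorem L657220 : sm gc N47046 = N45158 := ded_32_1 (flp_h L382088) (flp_c L637353) L657217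
theorem L657222 : sm gf N47046 = N45164 := ded_47_1 (flp_h L382140) (flp_f L637355) L657217
theorem L657224 : sm gg N47046 = N42401 := ded_50_1 (flp_h L358570) (flp_g L358552) L657217
theorem L657226 : sm gj N47046 = N45289 := ded_52_1 L657215 L657213 L657217
theorem L657228 : sm gd N47046 = N42479 := ded_38_1 (flp_h L359258) L247193 (flp_h L246712) (flp_d L358550) L657217
theorem L657230 : sm gi N47046 = N47046 := ded_54_2 (flp_h L657217) (flp_i L358547) L246704 L358547 L657217
theorem L657231 : sm ga N42399 = N47047 := rfl
theorem L657233 : sm gd N47047 = N42428 := ded_12_2 L358826 (flp_d L637499) L657231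
theorem L657235 : sm gf N47047 = N42430 := ded_14_2 L358847 (flp_f L637501) L657231
theorem L657237 : sm gg N47047 = N45090 := ded_15_2 L381542 (flp_g L637503) L657231
theorem L657239 : sm gj N47047 = N42616 := ded_16_2 (flp_a L360422) (flp_j L358558) L657231
theorem L657241 : sm gh N47047 = N47047 := ded_17_2 (flp_a L657231) L358560 L657231
theorem L657242 : sm gb N47047 = N47047 := ded_10_2 (flp_a L657231) (flp_b L358554) L246716 L358554 L657231
theorem L657243 : sm gi N42399 = N47048 := rfl
theorem L657245 : sm gb N47048 = N42400 := ded_26_1 (flp_i L358561) L358554 L657243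
theorem L657247 : sm gd N47048 = N42461 := ded_39_1 (flp_i L359101) (flp_d L637499) L657243
theorem L657249 : sm gf N47048 = N42465 := ded_48_1 (flp_i L359136) (flp_f L637501) L657243
theorem L657251 : sm gg N47048 = N45140 := ded_51_1 (flp_i L381935) (flp_g L637503) L657243
theorem L657253 : sm gj N47048 = N42617 := ded_53_1 (flp_i L360428) (flp_j L358558) L657243
theorem L657255 : sm gh N42400 = N47049 := rfl
theorem L657257 : sm ga N47049 = N47049 := ded_17_1 (flp_h L657255) L358563 L657255
theorem L657258 : sm gc N47049 = N42401 := ded_32_1 (flp_h L358570) (flp_c L358564) L657255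
theorem L657260 : sm gf N47049 = N42479 := ded_47_1 (flp_h L359258) (flp_f L637486) L657255
theorem L657262 : sm gg N47049 = N45158 := ded_50_1 (flp_h L382088) (flp_g L637488) L657255
theorem L657264 : sm gj N47049 = N42618 := ded_52_1 (flp_h L360434) (flp_j L358568) L657255
theorem L657266 : sm gd N47049 = N45164 := ded_38_1 (flp_h L382140) (flp_d L640298) L358520 (flp_d L637484) L657255
theorem L657268 : sm gi N47049 = N47049 := ded_54_2 (flp_h L657255) (flp_i L358561) L246721 L358561 L657255
theorem L657269 : sm gh N42402 = N47050 := rfl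
theorem L657271 : sm ga N47050 = N44307 := ded_17_1 L637294 (flp_a L611914) L657269
theorem L657273 : sm gb N47050 = N42413 := ded_25_1 (flp_h L358677) (flp_b L358582) L657269
theorem L657275 : sm gc N47050 = N44321 := ded_32_1 L637300 (flp_c L611916) L657269
theorem L657277 : sm ge N47050 = N47050 := ded_43_1 (flp_h L657269) L358588 L657269
theorem L657278 : sm gf N47050 = N44979 := ded_47_1 (flp_h L380547) (flp_f L611919) L657269
theorem L657280 : sm gj N47050 = N42621 := ded_52_1 (flp_h L360456) (flp_j L358586) L657269
theorem L657282 : sm gj N42403 = N47051 := rfl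
theorem L657284 : sm ga N47051 = N46381 := ded_16_1 L652322 L652309 L657282
theorem L657286 : sm gb N47051 = N42415 := ded_24_1 (flp_j L358696) (flp_b L358591) L657282
theorem L657288 : sm gc N47051 = N47051 := ded_31_1 (flp_j L657282) L358593 L657282
theorem L657289 : sm ge N47051 = N42405 := ded_42_1 (flp_j L358607) (flp_e L358594) L657282
theorem L657291 : sm gg N47051 = N42623 := ded_49_1 (flp_j L360472) (flp_g L248012) (flp_j L246746) L358589 L657282
theorem L657293 : sm gh N46394 = N47051 := ded_17_0 L657284 L649757 (flp_a L649855)
theorem L657295 : sm gh N42403 = N47052 := rfl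
theorem L657297 : sm ga N47052 = N46343 := ded_17_1 L652324 L652309 L657295
theorem L657299 : sm gb N47052 = N42416 := ded_25_1 (flp_h L358706) (flp_b L358591) L657295
theorem L657301 : sm gc N47052 = N47052 := ded_32_1 (flp_h L657295) L358593 L657295
theorem L657302 : sm ge N47052 = N42406 := ded_43_1 (flp_h L358616) (flp_e L358594) L657295
theorem L657304 : sm gg N47052 = N42404 := ded_50_1 (flp_h L358596) L358589 L657295
theorem L657306 : sm gj N47052 = N46394 := ded_52_1 L657293 (flp_j L657282) L657295
theorem L657308 : sm gd N42404 = N47053 := rfl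
theorem L657310 : sm gb N47053 = N42417 := ded_20_1 (flp_d L358716) (flp_b L358598) L657308
theorem L657312 : sm gf N47053 = N45009 := ded_35_2 L380829 L553483 L657308
theorem L657314 : sm gj N47053 = N42625 := ded_37_2 (flp_d L360488) (flp_j L358605) L657308
theorem L657316 : sm gi N42404 = N47054 := rfl
theorem L657318 : sm gb N47054 = N42418 := ded_26_1 (flp_i L358724) (flp_b L358598) L657316
theorem L657320 : sm gc N47054 = N47054 := ded_33_1 (flp_i L657316) L358600 L657316
theorem L657321 : sm ge N47054 = N42408 := ded_44_1 (flp_i L358633) (flp_e L358601) L657316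
theorem L657323 : sm gf N47054 = N45016 := ded_48_1 (flp_i L380882) L553483 L657316
theorem L657325 : sm gj N47054 = N42626 := ded_53_1 (flp_i L360494) (flp_j L358605) L657316
theorem L657327 : sm gi N42406 = N47055 := rfl
theorem L657329 : sm ga N47055 = N46344 := ded_18_1 (flp_i L649433) L649261 L657327
theorem L657331 : sm gb N47055 = N42421 := ded_26_1 (flp_i L358756) (flp_b L358618) L657327
theorem L657333 : sm gc N47055 = N47055 := ded_33_1 (flp_i L657327) L358620 L657327
theorem L657334 : sm gd N47055 = N46355 := ded_39_1 (flp_i L649532) L649401 L657327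
theorem L657336 : sm gf N47055 = N47055 := ded_48_1 (flp_i L657327) L358621 L657327
theorem L657337 : sm gg N47055 = N42408 := ded_51_1 (flp_i L358633) (flp_g L358622) L657327
theorem L657339 : sm gj N47055 = N46395 := ded_53_1 (flp_i L649858) (flp_j L649399) L657327
theorem L657341 : sm gj N42412 = N47056 := rfl
theorem L657343 : sm ga N47056 = N42436 := ded_16_1 (flp_j L358903) (flp_a L358671) L657341
theorem L657345 : sm gc N47056 = N47056 := ded_31_1 (flp_j L657341) L358673 L657341
theorem L657346 : sm gd N47056 = N42415 := ded_37_1 (flp_j L358696) (flp_d L358674) L657341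
theorem L657348 : sm ge N47056 = N47056 := ded_42_1 (flp_j L657341) L358676 L657341
theorem L657349 : sm gg N47056 = N42639 := ded_49_1 (flp_j L360599) (flp_g L248083) (flp_j L246790) L358669 L657341
theorem L657351 : sm gh N42412 = N47057 := rfl
theorem L657353 : sm ga N47057 = N42437 := ded_17_1 (flp_h L358911) (flp_a L358671) L657351
theorem L657355 : sm gc N47057 = N47057 := ded_32_1 (flp_h L657351) L358673 L657351
theorem L657356 : sm ge N47057 = N47057 := ded_43_1 (flp_h L657351) L358676 L657351
theorem L657357 : sm gg N47057 = N42413 := ded_50_1 (flp_h L358677) L358669 L657351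
theorem L657359 : sm gd N42413 = N47058 := rfl
theorem L657361 : sm ga N47058 = N42438 := ded_12_1 (flp_d L358917) (flp_a L358679) L657359
theorem L657363 : sm gf N47058 = N45068 := ded_35_2 (flp_d L381323) (flp_f L358683) L657359
theorem L657365 : sm gj N47058 = N42641 := ded_37_2 (flp_d L360615) (flp_j L358685) L657359
theorem L657367 : sm gh N47058 = N42417 := ded_38_2 (flp_d L358716) (flp_h L246802) L246784 L358677 L657359
theorem L657369 : sm gi N42413 = N47059 := rfl
theorem L657371 : sm ga N47059 = N42439 := ded_18_1 (flp_i L358925) (flp_a L358679) L657369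
theorem L657373 : sm gc N47059 = N47059 := ded_33_1 (flp_i L657369) L358681 L657369
theorem L657374 : sm ge N47059 = N47059 := ded_44_1 (flp_i L657369) L358682 L657369
theorem L657375 : sm gf N47059 = N45069 := ded_48_1 (flp_i L381331) (flp_f L358683) L657369
theorem L657377 : sm gj N47059 = N42642 := ded_53_1 (flp_i L360623) (flp_j L358685) L657369
theorem L657379 : sm gj N42414 = N47060 := rfl
theorem L657381 : sm ga N47060 = N42440 := ded_16_1 (flp_j L358933) (flp_a L358689) L657379
theorem L657383 : sm gc N47060 = N42427 := ded_31_1 (flp_j L358815) (flp_c L358691) L657379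
theorem L657385 : sm ge N47060 = N47060 := ded_42_1 (flp_j L657379) L358693 L657379
theorem L657386 : sm gf N47060 = N42415 := ded_46_1 (flp_j L358696) L358687 L657379
theorem L657388 : sm gh N42414 = N47061 := rfl
theorem L657390 : sm ga N47061 = N42441 := ded_17_1 (flp_h L358940) (flp_a L358689) L657388
theorem L657392 : sm gc N47061 = N42428 := ded_32_1 (flp_h L358824) (flp_c L358691) L657388
theorem L657394 : sm ge N47061 = N47061 := ded_43_1 (flp_h L657388) L358693 L657388
theorem L657395 : sm gf N47061 = N42416 := ded_47_1 (flp_h L358706) L358687 L657388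
theorem L657397 : sm gg N47061 = N45071 := ded_50_1 (flp_h L381349) (flp_g L358694) L657388
theorem L657399 : sm gh N42415 = N47062 := rfl
theorem L657401 : sm ga N47062 = N42442 := ded_17_1 (flp_h L358949) (flp_a L358698) L657399
theorem L657403 : sm gb N47062 = N46394 := ded_25_1 L657293 L657286 L657399
theorem L657405 : sm gc N47062 = N42429 := ded_32_1 (flp_h L358834) (flp_c L358700) L657399
theorem L657407 : sm ge N47062 = N42419 := ded_43_1 (flp_h L358736) (flp_e L358702) L657399
theorem L657409 : sm gg N47062 = N42645 := ded_50_1 (flp_h L360653) (flp_g L358704) L657399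
theorem L657411 : sm gj N47062 = N42416 := ded_52_1 (flp_h L358706) L358696 L657399
theorem L657413 : sm gd N42416 = N47063 := rfl
theorem L657415 : sm ga N47063 = N42443 := ded_12_1 (flp_d L358959) (flp_a L358708) L657413
theorem L657417 : sm gg N47063 = N42417 := ded_36_2 (flp_d L358716) (flp_g L358714) L657413
theorem L657419 : sm gi N42416 = N47064 := rfl
theorem L657421 : sm ga N47064 = N42444 := ded_18_1 (flp_i L358963) (flp_a L358708) L657419
theorem L657423 : sm gc N47064 = N42431 := ded_33_1 (flp_i L358854) (flp_c L358710) L657419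
theorem L657425 : sm ge N47064 = N42421 := ded_44_1 (flp_i L358756) (flp_e L358712) L657419
theorem L657427 : sm gg N47064 = N42418 := ded_51_1 (flp_i L358724) (flp_g L358714) L657419
theorem L657429 : sm gc N42417 = N47065 := rfl
theorem L657431 : sm ga N47065 = N42445 := ded_11_1 (flp_c L358971) (flp_a L358718) L657429
theorem L657433 : sm gf N47065 = N45075 := ded_29_2 (flp_c L381386) (flp_f L358720) L657429
theorem L657435 : sm gj N47065 = N42648 := ded_31_2 (flp_c L360679) (flp_j L358722) L657429
theorem L657437 : sm gd N47065 = N42432 := ded_27_2 (flp_c L358863) (flp_d L246902) (flp_c L246806) L358716 L657429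
theorem L657439 : sm ge N42417 = N47066 := rfl
theorem L657441 : sm ga N47066 = N42446 := ded_13_1 (flp_e L358979) (flp_a L358718) L657439
theorem L657443 : sm gj N47066 = N42649 := ded_42_2 (flp_e L360687) (flp_j L358722) L657439
theorem L657445 : sm gd N47066 = N42422 := ded_34_1 (flp_e L358765) (flp_d L246833) (flp_e L246808) L358716 L657439
theorem L657447 : sm gi N42417 = N47067 := rfl
theorem L657449 : sm ga N47067 = N42447 := ded_18_1 (flp_i L358985) (flp_a L358718) L657447
theorem L657451 : sm gd N47067 = N42418 := ded_39_1 (flp_i L358724) L358716 L657447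
theorem L657453 : sm gf N47067 = N45077 := ded_48_1 (flp_i L381402) (flp_f L358720) L657447
theorem L657455 : sm gj N47067 = N42650 := ded_53_1 (flp_i L360693) (flp_j L358722) L657447
theorem L657457 : sm gi N42419 = N47068 := rfl
theorem L657459 : sm ga N47068 = N42449 := ded_18_1 (flp_i L359002) (flp_a L358738) L657457
theorem L657461 : sm gb N47068 = N46395 := ded_26_1 (flp_i L649858) L649217 L657457
theorem L657463 : sm gc N47068 = N42434 := ded_33_1 (flp_i L358885) (flp_c L358740) L657457
theorem L657465 : sm gd N47068 = N46378 := ded_39_1 (flp_i L649730) (flp_d L649219) L657457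
theorem L657467 : sm gf N47068 = N47068 := ded_48_1 (flp_i L657457) L358742 L657457
theorem L657468 : sm gg N47068 = N42652 := ded_51_1 (flp_i L360711) (flp_g L358743) L657457
theorem L657470 : sm gj N47068 = N42421 := ded_53_1 (flp_i L358756) (flp_j L358745) L657457
theorem L657472 : sm ge N42420 = N47069 := rfl
theorem L657474 : sm ga N47069 = N42450 := ded_13_1 (flp_e L359011) (flp_a L358749) L657472
theorem L657476 : sm gb N47069 = N45146 := ded_21_1 L381994 (flp_b L649229) L657472
theorem L657478 : sm gc N47069 = N47069 := ded_28_1 (flp_e L657472) L358754 L657472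
theorem L657479 : sm gg N47069 = N42422 := ded_41_2 (flp_e L358765) (flp_g L358752) L657472
theorem L657481 : sm gj N47069 = N45369 := ded_42_2 L383799 L649223 L657472
theorem L657483 : sm gh N47069 = N47069 := ded_43_2 (flp_e L657472) L358755 L657472
theorem L657484 : sm gi N42420 = N47070 := rfl
theorem L657486 : sm ga N47070 = N42451 := ded_18_1 (flp_i L359017) (flp_a L358749) L657484
theorem L657488 : sm gb N47070 = N46355 := ded_26_1 (flp_i L649532) (flp_b L649229) L657484
theorem L657490 : sm gc N47070 = N47070 := ded_33_1 (flp_i L657484) L358754 L657484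
theorem L657491 : sm gd N47070 = N42421 := ded_39_1 (flp_i L358756) L358747 L657484
theorem L657493 : sm gf N47070 = N47070 := ded_48_1 (flp_i L657484) L358751 L657484
theorem L657494 : sm gg N47070 = N42423 := ded_51_1 (flp_i L358773) (flp_g L358752) L657484
theorem L657496 : sm gj N47070 = N46378 := ded_53_1 (flp_i L649730) L649223 L657484
theorem L657498 : sm gi N42422 = N47071 := rfl
theorem L657500 : sm ga N47071 = N42453 := ded_18_1 (flp_i L359033) (flp_a L358767) L657498
theorem L657502 : sm gc N47071 = N47071 := ded_33_1 (flp_i L657498) L358769 L657498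
theorem L657503 : sm ge N47071 = N42423 := ded_44_1 (flp_i L358773) L358765 L657498
theorem L657505 : sm gj N47071 = N42656 := ded_53_1 (flp_i L360748) (flp_j L358770) L657498
theorem L657507 : sm gh N42423 = N47072 := rfl
theorem L657509 : sm ga N47072 = N42454 := ded_17_1 (flp_h L359040) (flp_a L358775) L657507
theorem L657511 : sm gc N47072 = N47072 := ded_32_1 (flp_h L657507) L358777 L657507
theorem L657512 : sm gf N47072 = N42426 := ded_47_1 (flp_h L358806) (flp_f L358780) L657507
theorem L657514 : sm gj N47072 = N42657 := ded_52_1 (flp_h L360755) (flp_j L358782) L657507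
theorem L657516 : sm gi N47072 = N47072 := ded_54_2 (flp_h L657507) (flp_i L358773) L246842 L358773 L657507
theorem L657517 : sm gg N42427 = N47073 := rfl
theorem L657519 : sm ga N47073 = N42458 := ded_15_1 (flp_g L359073) (flp_a L358817) L657517
theorem L657521 : sm gb N47073 = N47073 := ded_23_1 (flp_g L657517) L358819 L657517
theorem L657522 : sm gd N47073 = N47073 := ded_36_1 (flp_g L657517) L358820 L657517
theorem L657523 : sm ge N47073 = N47073 := ded_41_1 (flp_g L657517) L358821 L657517
theorem L657524 : sm gf N47073 = N42661 := ded_45_1 (flp_g L360792) L248223 (flp_g L246891) (flp_f L358822) L657517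
theorem L657526 : sm gj N47073 = N45088 := ded_49_2 (flp_g L381521) (flp_j L262208) (flp_g L246881) L358815 L657517
theorem L657528 : sm gi N42428 = N47074 := rfl
theorem L657530 : sm ga N47074 = N42461 := ded_18_1 (flp_i L359101) (flp_a L358826) L657528
theorem L657532 : sm gb N47074 = N47074 := ded_26_1 (flp_i L657528) L358828 L657528
theorem L657533 : sm ge N47074 = N47074 := ded_44_1 (flp_i L657528) L358829 L657528
theorem L657534 : sm gf N47074 = N42431 := ded_48_1 (flp_i L358854) (flp_f L358830) L657528
theorem L657536 : sm gg N47074 = N45091 := ded_51_1 (flp_i L381548) (flp_g L358832) L657528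
theorem L657538 : sm gi N42429 = N47075 := rfl
theorem L657540 : sm ga N47075 = N42463 := ded_18_1 (flp_i L359120) (flp_a L358836) L657538
theorem L657542 : sm gb N47075 = N47075 := ded_26_1 (flp_i L657538) L358838 L657538
theorem L657543 : sm gd N47075 = N45287 := ded_39_1 (flp_i L383114) (flp_d L637567) L657538
theorem L657545 : sm ge N47075 = N42434 := ded_44_1 (flp_i L358885) (flp_e L358839) L657538
theorem L657547 : sm gg N47075 = N42666 := ded_51_1 (flp_i L360843) (flp_g L358841) L657538
theorem L657549 : sm gj N47075 = N42431 := ded_53_1 (flp_i L358854) (flp_j L358843) L657538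
theorem L657551 : sm gc N42430 = N47076 := rfl
theorem L657553 : sm ga N47076 = N42464 := ded_11_1 (flp_c L359130) (flp_a L358847) L657551
theorem L657555 : sm ge N47076 = N47076 := ded_28_2 (flp_c L657551) L358852 L657551
theorem L657556 : sm gg N47076 = N42432 := ded_30_2 (flp_c L358863) (flp_g L358850) L657551
theorem L657558 : sm gj N47076 = N45268 := ded_31_2 L382975 (flp_j L637542) L657551
theorem L657560 : sm gh N47076 = N47076 := ded_32_2 (flp_c L657551) L358853 L657551
theorem L657561 : sm gi N42430 = N47077 := rfl
theorem L657563 : sm ga N47077 = N42465 := ded_18_1 (flp_i L359136) (flp_a L358847) L657561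
theorem L657565 : sm gb N47077 = N47077 := ded_26_1 (flp_i L657561) L358849 L657561
theorem L657566 : sm gd N47077 = N42431 := ded_39_1 (flp_i L358854) L358845 L657561
theorem L657568 : sm ge N47077 = N47077 := ded_44_1 (flp_i L657561) L358852 L657561
theorem L657569 : sm gg N47077 = N42433 := ded_51_1 (flp_i L358873) (flp_g L358850) L657561
theorem L657571 : sm gj N47077 = N45287 := ded_53_1 (flp_i L383114) (flp_j L637542) L657561
theorem L657573 : sm gb N42432 = N47078 := rfl
theorem L657575 : sm ge N47078 = N47078 := ded_21_2 (flp_b L657573) L358867 L657573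
theorem L657576 : sm gf N47078 = N42450 := ded_22_2 L642482 (flp_f L358868) L657573
theorem L657578 : sm gj N47078 = N42669 := ded_24_2 (flp_b L360870) (flp_j L358870) L657573
theorem L657580 : sm gh N47078 = N47078 := ded_25_2 (flp_b L657573) L358872 L657573
theorem L657581 : sm gc N47078 = N47078 := ded_19_2 (flp_b L657573) (flp_c L358863) L246906 L358863 L657573
theorem L657582 : sm gi N42432 = N47079 := rfl
theorem L657584 : sm ga N47079 = N42467 := ded_18_1 (flp_i L359155) (flp_a L358865) L657582
theorem L657586 : sm gc N47079 = N42433 := ded_33_1 (flp_i L358873) L358863 L657582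
theorem L657588 : sm ge N47079 = N47079 := ded_44_1 (flp_i L657582) L358867 L657582
theorem L657589 : sm gf N47079 = N45097 := ded_48_1 (flp_i L381607) (flp_f L358868) L657582
theorem L657591 : sm gj N47079 = N42670 := ded_53_1 (flp_i L360877) (flp_j L358870) L657582
theorem L657593 : sm gh N42433 = N47080 := rfl
theorem L657595 : sm ga N47080 = N42468 := ded_17_1 (flp_h L359164) (flp_a L358875) L657593
theorem L657597 : sm gb N47080 = N47080 := ded_25_1 (flp_h L657593) L358877 L657593
theorem L657598 : sm ge N47080 = N47080 := ded_43_1 (flp_h L657593) L358880 L657593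
theorem L657599 : sm gf N47080 = N45098 := ded_47_1 (flp_h L381617) (flp_f L358881) L657593
theorem L657601 : sm gj N47080 = N42671 := ded_52_1 (flp_h L360886) (flp_j L358883) L657593
theorem L657603 : sm gi N47080 = N47080 := ded_54_2 (flp_h L657593) (flp_i L358873) L246912 L358873 L657593
theorem L657604 : sm gj N42435 = N47081 := rfl
theorem L657606 : sm gb N47081 = N46385 := ded_24_1 L649790 (flp_b L648807) L657604
theorem L657608 : sm gc N47081 = N47081 := ded_31_1 (flp_j L657604) L358898 L657604
theorem L657609 : sm gd N47081 = N42440 := ded_37_1 (flp_j L358933) (flp_d L358899) L657604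
theorem L657611 : sm ge N47081 = N46382 := ded_42_1 L649768 L648805 L657604
theorem L657613 : sm gf N47081 = N42436 := ded_46_1 (flp_j L358903) L358896 L657604
theorem L657615 : sm gi N47081 = N46381 := ded_53_2 L652322 L652318 L657604
theorem L657617 : sm gg N47081 = N46528 := ded_49_1 (flp_j L650934) (flp_g L284049) L612192 (flp_g L358901) L657604
theorem L657619 : sm gh N42435 = N47082 := rfl
theorem L657621 : sm gb N47082 = N45128 := ded_25_1 L381840 (flp_b L648807) L657619
theorem L657623 : sm gc N47082 = N47082 := ded_32_1 (flp_h L657619) L358898 L657619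
theorem L657624 : sm ge N47082 = N44296 := ded_43_1 L374786 L648805 L657619
theorem L657626 : sm gf N47082 = N42437 := ded_47_1 (flp_h L358911) L358896 L657619
theorem L657628 : sm gg N47082 = N44293 := ded_50_1 (flp_h L612186) (flp_g L358901) L657619
theorem L657630 : sm gh N42436 = N47083 := rfl
theorem L657632 : sm gc N47083 = N47083 := ded_32_1 (flp_h L657630) L358905 L657630
theorem L657633 : sm ge N47083 = N47083 := ded_43_1 (flp_h L657630) L358908 L657630
theorem L657634 : sm gg N47083 = N42675 := ded_50_1 (flp_h L360917) (flp_g L358909) L657630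
theorem L657636 : sm gj N47083 = N42437 := ded_52_1 (flp_h L358911) L358903 L657630
theorem L657638 : sm gd N42437 = N47084 := rfl
theorem L657640 : sm gg N47084 = N42438 := ded_36_2 (flp_d L358917) (flp_g L358915) L657638
theorem L657642 : sm gh N47084 = N42443 := ded_38_2 (flp_d L358959) (flp_h L246973) (flp_d L246947) L358911 L657638
theorem L657644 : sm gi N42437 = N47085 := rfl
theorem L657646 : sm gc N47085 = N47085 := ded_33_1 (flp_i L657644) L358913 L657644
theorem L657647 : sm ge N47085 = N47085 := ded_44_1 (flp_i L657644) L358914 L657644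
theorem L657648 : sm gg N47085 = N42439 := ded_51_1 (flp_i L358925) (flp_g L358915) L657644
theorem L657650 : sm gc N42438 = N47086 := rfl
theorem L657652 : sm gf N47086 = N45105 := ded_29_2 (flp_c L381667) (flp_f L358919) L657650
theorem L657654 : sm gj N47086 = N42678 := ded_31_2 (flp_c L360935) (flp_j L358921) L657650
theorem L657656 : sm gh N47086 = N42445 := ded_32_2 (flp_c L358971) (flp_h L358923) L657650
theorem L657658 : sm gd N47086 = N47086 := ded_27_2 (flp_c L657650) (flp_d L358917) L246952 L358917 L657650
theorem L657659 : sm ge N42438 = N47087 := rfl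
theorem L657661 : sm gj N47087 = N42679 := ded_42_2 (flp_e L360942) (flp_j L358921) L657659
theorem L657663 : sm gh N47087 = N42446 := ded_43_2 (flp_e L358979) (flp_h L358923) L657659
theorem L657665 : sm gd N47087 = N47087 := ded_34_1 (flp_e L657659) (flp_d L358917) L246953 L358917 L657659
theorem L657666 : sm gi N42438 = N47088 := rfl
theorem L657668 : sm gd N47088 = N42439 := ded_39_1 (flp_i L358925) L358917 L657666
theorem L657670 : sm gf N47088 = N45107 := ded_48_1 (flp_i L381682) (flp_f L358919) L657666
theorem L657672 : sm gj N47088 = N42680 := ded_53_1 (flp_i L360947) (flp_j L358921) L657666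
theorem L657674 : sm gg N42440 = N47089 := rfl
theorem L657676 : sm gb N47089 = N46537 := ded_23_1 (flp_g L651999) L652007 L657674
theorem L657678 : sm gc N47089 = N42458 := ded_30_1 (flp_g L359073) (flp_c L358935) L657674
theorem L657680 : sm gd N47089 = N46528 := ded_36_1 (flp_g L657617) L657609 L657674
theorem L657682 : sm ge N47089 = N47089 := ded_41_1 (flp_g L657674) L358937 L657674
theorem L657683 : sm gf N47089 = N42681 := ded_45_1 (flp_g L360953) L248328 (flp_g L246971) (flp_f L358938) L657674
theorem L657685 : sm gj N47089 = N45108 := ded_49_2 (flp_g L381688) (flp_j L262321) (flp_g L246963) L358933 L657674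
theorem L657687 : sm gd N42441 = N47090 := rfl
theorem L657689 : sm gf N47090 = N42443 := ded_35_2 (flp_d L358959) (flp_f L358945) L657687
theorem L657691 : sm gg N47090 = N45110 := ded_36_2 (flp_d L381704) (flp_g L358947) L657687
theorem L657693 : sm gi N42441 = N47091 := rfl
theorem L657695 : sm gc N47091 = N42461 := ded_33_1 (flp_i L359101) (flp_c L358942) L657693
theorem L657697 : sm ge N47091 = N47091 := ded_44_1 (flp_i L657693) L358944 L657693
theorem L657698 : sm gf N47091 = N42444 := ded_48_1 (flp_i L358963) (flp_f L358945) L657693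
theorem L657700 : sm gg N47091 = N45111 := ded_51_1 (flp_i L381708) (flp_g L358947) L657693
theorem L657702 : sm gd N42442 = N47092 := rfl
theorem L657704 : sm gb N47092 = N44422 := ded_20_1 L375885 (flp_b L637564) L657702
theorem L657706 : sm gg N47092 = N42685 := ded_36_2 (flp_d L360987) (flp_g L358955) L657702
theorem L657708 : sm gj N47092 = N42443 := ded_37_2 (flp_d L358959) (flp_j L358957) L657702
theorem L657710 : sm gc N47092 = N45239 := ded_27_1 L382765 L263211 (flp_d L637552) (flp_c L358951) L657702
theorem L657712 : sm ge N47092 = N45340 := ded_34_2 L383534 L263754 L642461 (flp_e L358953) L657702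
theorem L657714 : sm gi N42442 = N47093 := rfl
theorem L657716 : sm gb N47093 = N44444 := ded_26_1 (flp_i L376053) (flp_b L637564) L657714
theorem L657718 : sm gc N47093 = N42463 := ded_33_1 (flp_i L359120) (flp_c L358951) L657714
theorem L657720 : sm ge N47093 = N42449 := ded_44_1 (flp_i L359002) (flp_e L358953) L657714
theorem L657722 : sm gg N47093 = N42686 := ded_51_1 (flp_i L360991) (flp_g L358955) L657714
theorem L657724 : sm gj N47093 = N42444 := ded_53_1 (flp_i L358963) (flp_j L358957) L657714
theorem L657726 : sm gc N42443 = N47094 := rfl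
theorem L657728 : sm gg N47094 = N42445 := ded_30_2 (flp_c L358971) (flp_g L358961) L657726
theorem L657730 : sm gj N47094 = N45239 := ded_31_2 (flp_c L657710) L657708 L657726
theorem L657732 : sm gb N47094 = N45008 := ded_19_1 (flp_c L380819) (flp_b L374033) (flp_c L652518) L652512 L657726
theorem L657734 : sm gd N47094 = N42464 := ded_27_2 (flp_c L359130) (flp_d L247087) (flp_c L246975) L358959 L657726
theorem L657736 : sm ge N42443 = N47095 := rfl
theorem L657738 : sm gb N47095 = N45075 := ded_21_1 (flp_e L652520) L652512 L657736
theorem L657740 : sm gg N47095 = N42446 := ded_41_2 (flp_e L358979) (flp_g L358961) L657736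
theorem L657742 : sm gj N47095 = N45340 := ded_42_2 (flp_e L657712) L657708 L657736
theorem L657744 : sm gd N47095 = N42450 := ded_34_1 (flp_e L359011) (flp_d L247006) (flp_e L246977) L358959 L657736
theorem L657746 : sm gi N42443 = N47096 := rfl
theorem L657748 : sm gd N47096 = N42444 := ded_39_1 (flp_i L358963) L358959 L657746
theorem L657750 : sm gg N47096 = N42447 := ded_51_1 (flp_i L358985) (flp_g L358961) L657746
theorem L657752 : sm gb N42445 = N47097 := rfl
theorem L657754 : sm gd N47097 = N42466 := ded_20_2 (flp_b L359145) (flp_d L358977) L657752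
theorem L657756 : sm gf N47097 = N45117 := ded_22_2 (flp_b L381749) (flp_f L358973) L657752
theorem L657758 : sm gg N47097 = N45008 := ded_23_2 (flp_b L657732) L657728 L657752
theorem L657760 : sm gj N47097 = N42690 := ded_24_2 (flp_b L361017) (flp_j L358975) L657752
theorem L657762 : sm gc N47097 = N45006 := ded_19_2 L652552 (flp_c L652536) L354470 L358971 L657752
theorem L657764 : sm ge N42445 = N47098 := rfl
theorem L657766 : sm gc N47098 = N42446 := ded_28_1 (flp_e L358979) L358971 L657764
theorem L657768 : sm gj N47098 = N42691 := ded_42_2 (flp_e L361023) (flp_j L358975) L657764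
theorem L657770 : sm gd N47098 = N47098 := ded_34_1 (flp_e L657764) L358977 L247105 (flp_d L358977) L657764
theorem L657771 : sm gi N42445 = N47099 := rfl
theorem L657773 : sm gc N47099 = N42447 := ded_33_1 (flp_i L358985) L358971 L657771
theorem L657775 : sm gd N47099 = N42467 := ded_39_1 (flp_i L359155) (flp_d L358977) L657771
theorem L657777 : sm gf N47099 = N45119 := ded_48_1 (flp_i L381763) (flp_f L358973) L657771
theorem L657779 : sm gj N47099 = N42692 := ded_53_1 (flp_i L361028) (flp_j L358975) L657771
theorem L657781 : sm gf N42446 = N47100 := rfl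
theorem L657783 : sm gd N47100 = N42452 := ded_35_1 (flp_f L359025) (flp_d L358983) L657781
theorem L657785 : sm gj N47100 = N42693 := ded_46_2 (flp_f L361036) (flp_j L358981) L657781
theorem L657787 : sm ge N47100 = N45120 := ded_40_1 (flp_f L381771) (flp_e L262363) (flp_f L246983) L358979 L657781
theorem L657789 : sm gi N42446 = N47101 := rfl
theorem L657791 : sm gd N47101 = N42453 := ded_39_1 (flp_i L359033) (flp_d L358983) L657789
theorem L657793 : sm ge N47101 = N42447 := ded_44_1 (flp_i L358985) L358979 L657789
theorem L657795 : sm gj N47101 = N42694 := ded_53_1 (flp_i L361042) (flp_j L358981) L657789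
theorem L657797 : sm gh N42447 = N47102 := rfl
theorem L657799 : sm gf N47102 = N45122 := ded_47_1 (flp_h L381785) (flp_f L358989) L657797
theorem L657801 : sm gj N47102 = N42695 := ded_52_1 (flp_h L361048) (flp_j L358991) L657797
theorem L657803 : sm gi N42450 = N47103 := rfl
theorem L657805 : sm gb N47103 = N45097 := ded_26_1 (flp_i L381607) (flp_b L642482) L657803
theorem L657807 : sm gc N47103 = N47103 := ded_33_1 (flp_i L657803) L359013 L657803
theorem L657808 : sm ge N47103 = N42451 := ded_44_1 (flp_i L359017) L359011 L657803
theorem L657810 : sm gg N47103 = N42453 := ded_51_1 (flp_i L359033) (flp_g L359014) L657803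
theorem L657812 : sm gj N47103 = N45370 := ded_53_1 (flp_i L383804) (flp_j L642485) L657803
theorem L657814 : sm gh N42451 = N47104 := rfl
theorem L657816 : sm gb N47104 = N46342 := ded_25_1 (flp_h L649416) (flp_b L649227) L657814
theorem L657818 : sm gc N47104 = N47104 := ded_32_1 (flp_h L657814) L359019 L657814
theorem L657819 : sm gf N47104 = N47104 := ded_47_1 (flp_h L657814) L359022 L657814
theorem L657820 : sm gg N47104 = N42454 := ded_50_1 (flp_h L359040) (flp_g L359023) L657814
theorem L657822 : sm gj N47104 = N46379 := ded_52_1 (flp_h L649738) L649225 L657814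
theorem L657824 : sm gi N47104 = N47104 := ded_54_2 (flp_h L657814) (flp_i L359017) L247012 L359017 L657814
theorem L657825 : sm gg N42452 = N47105 := rfl
theorem L657827 : sm gc N47105 = N47105 := ded_30_1 (flp_g L657825) L359027 L657825
theorem L657828 : sm ge N47105 = N42455 := ded_41_1 (flp_g L359048) (flp_e L359031) L657825
theorem L657830 : sm gh N47105 = N47105 := ded_50_2 (flp_g L657825) L359030 L657825
theorem L657831 : sm gi N42452 = N47106 := rfl
theorem L657833 : sm gc N47106 = N47106 := ded_33_1 (flp_i L657831) L359027 L657831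
theorem L657834 : sm ge N47106 = N42456 := ded_44_1 (flp_i L359055) (flp_e L359031) L657831
theorem L657836 : sm gf N47106 = N42453 := ded_48_1 (flp_i L359033) L359025 L657831
theorem L657838 : sm gj N47106 = N42702 := ded_53_1 (flp_i L361094) (flp_j L359028) L657831
theorem L657840 : sm gh N42453 = N47107 := rfl
theorem L657842 : sm gc N47107 = N47107 := ded_32_1 (flp_h L657840) L359035 L657840
theorem L657843 : sm ge N47107 = N42454 := ded_43_1 (flp_h L359040) (flp_e L359036) L657840
theorem L657845 : sm gj N47107 = N42703 := ded_52_1 (flp_h L361101) (flp_j L359038) L657840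
theorem L657847 : sm gi N47107 = N47107 := ded_54_2 (flp_h L657840) (flp_i L359033) L247025 L359033 L657840
theorem L657848 : sm gj N42455 = N47108 := rfl
theorem L657850 : sm gc N47108 = N47108 := ded_31_1 (flp_j L657848) L359050 L657848
theorem L657851 : sm gd N47108 = N45131 := ded_37_1 (flp_j L381862) (flp_d L359051) L657848
theorem L657853 : sm gf N47108 = N47108 := ded_46_1 (flp_j L657848) L359054 L657848
theorem L657854 : sm gh N47108 = N47108 := ded_52_2 (flp_j L657848) L359053 L657848
theorem L657855 : sm gg N47108 = N42704 := ded_49_1 (flp_j L361107) (flp_g L248424) (flp_j L247040) L359048 L657848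
theorem L657857 : sm gi N46402 = N47108 := ded_39_0 L657851 (flp_i L649058) L649903
theorem L657859 : sm gi N42455 = N47109 := rfl
theorem L657861 : sm gc N47109 = N47109 := ded_33_1 (flp_i L657859) L359050 L657859
theorem L657862 : sm gd N47109 = N45132 := ded_39_1 (flp_i L381871) (flp_d L359051) L657859
theorem L657864 : sm gf N47109 = N47109 := ded_48_1 (flp_i L657859) L359054 L657859
theorem L657865 : sm gg N47109 = N42456 := ded_51_1 (flp_i L359055) L359048 L657859
theorem L657867 : sm gj N47109 = N46402 := ded_53_1 L657857 (flp_j L657848) L657859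
theorem L657869 : sm gh N46357 = N47109 := ded_38_0 L657862 L648668 L270072 L270308 L649551
theorem L657871 : sm gh N42456 = N47110 := rfl
theorem L657873 : sm gc N47110 = N47110 := ded_32_1 (flp_h L657871) L359057 L657871
theorem L657874 : sm gf N47110 = N42457 := ded_47_1 (flp_h L359064) (flp_f L359060) L657871
theorem L657876 : sm gg N47110 = N46357 := ded_50_1 L657869 L657865 L657871
theorem L657878 : sm gj N47110 = N42706 := ded_52_1 (flp_h L361124) (flp_j L359062) L657871
theorem L657880 : sm gd N47110 = N46354 := ded_38_1 (flp_h L649525) L648584 L554920 (flp_d L359058) L657871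
theorem L657882 : sm gi N47110 = N47110 := ded_54_2 (flp_h L657871) (flp_i L359055) L247042 L359055 L657871
theorem L657883 : sm gi N42464 = N47111 := rfl
theorem L657885 : sm gb N47111 = N45030 := ded_26_1 (flp_i L381003) (flp_b L637525) L657883
theorem L657887 : sm gc N47111 = N42465 := ded_33_1 (flp_i L359136) L359130 L657883
theorem L657889 : sm ge N47111 = N47111 := ded_44_1 (flp_i L657883) L359132 L657883
theorem L657890 : sm gg N47111 = N42467 := ded_51_1 (flp_i L359155) (flp_g L359133) L657883
theorem L657892 : sm gj N47111 = N45269 := ded_53_1 (flp_i L382979) (flp_j L637528) L657883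
theorem L657894 : sm gh N42465 = N47112 := rfl
theorem L657896 : sm gb N47112 = N42479 := ded_25_1 (flp_h L359258) (flp_b L359138) L657894
theorem L657898 : sm ge N47112 = N47112 := ded_43_1 (flp_h L657894) L359142 L657894
theorem L657899 : sm gg N47112 = N42468 := ded_50_1 (flp_h L359164) (flp_g L359143) L657894
theorem L657901 : sm gj N47112 = N45288 := ded_52_1 (flp_h L383120) (flp_j L637139) L657894
theorem L657903 : sm gi N47112 = N47112 := ded_54_2 (flp_h L657894) (flp_i L359136) L247094 L359136 L657894
theorem L657904 : sm ga N42466 = N47113 := rfl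
theorem L657906 : sm gc N47113 = N42480 := ded_11_2 (flp_a L359265) (flp_c L359153) L657904
theorem L657908 : sm ge N47113 = N47113 := ded_13_2 (flp_a L657904) L359147 L657904
theorem L657909 : sm gf N47113 = N45146 := ded_14_2 (flp_a L381990) (flp_f L359148) L657904
theorem L657911 : sm gg N47113 = N44995 := ded_15_2 L380710 (flp_g L637412) L657904
theorem L657913 : sm gj N47113 = N42719 := ded_16_2 (flp_a L361231) (flp_j L359150) L657904
theorem L657915 : sm gh N47113 = N47113 := ded_17_2 (flp_a L657904) L359152 L657904
theorem L657916 : sm gi N42466 = N47114 := rfl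
theorem L657918 : sm gb N47114 = N42467 := ded_26_1 (flp_i L359155) L359145 L657916
theorem L657920 : sm gc N47114 = N42481 := ded_33_1 (flp_i L359274) (flp_c L359153) L657916
theorem L657922 : sm ge N47114 = N47114 := ded_44_1 (flp_i L657916) L359147 L657916
theorem L657923 : sm gf N47114 = N45147 := ded_48_1 (flp_i L381999) (flp_f L359148) L657916
theorem L657925 : sm gg N47114 = N45030 := ded_51_1 (flp_i L381003) (flp_g L637412) L657916
theorem L657927 : sm gj N47114 = N42720 := ded_53_1 (flp_i L361239) (flp_j L359150) L657916
theorem L657929 : sm gh N42467 = N47115 := rfl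
theorem L657931 : sm gc N47115 = N42468 := ded_32_1 (flp_h L359164) (flp_c L359157) L657929
theorem L657933 : sm ge N47115 = N47115 := ded_43_1 (flp_h L657929) L359159 L657929
theorem L657934 : sm gf N47115 = N45148 := ded_47_1 (flp_h L382009) (flp_f L359160) L657929
theorem L657936 : sm gj N47115 = N42721 := ded_52_1 (flp_h L361248) (flp_j L359162) L657929
theorem L657938 : sm gi N47115 = N47115 := ded_54_2 (flp_h L657929) (flp_i L359155) L247110 L359155 L657929
theorem L657939 : sm gi N42480 = N47116 := rfl
theorem L657941 : sm ga N47116 = N42481 := ded_18_1 (flp_i L359274) L359265 L657939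
theorem L657943 : sm gb N47116 = N47116 := ded_26_1 (flp_i L657939) L359273 L657939
theorem L657944 : sm gd N47116 = N44994 := ded_39_1 (flp_i L380697) (flp_d L637416) L657939
theorem L657946 : sm ge N47116 = N47116 := ded_44_1 (flp_i L657939) L359267 L657939
theorem L657947 : sm gf N47116 = N45165 := ded_48_1 (flp_i L382150) (flp_f L359268) L657939
theorem L657949 : sm gg N47116 = N44996 := ded_51_1 (flp_i L380716) (flp_g L637419) L657939
theorem L657951 : sm gj N47116 = N42738 := ded_53_1 (flp_i L361386) (flp_j L359270) L657939
theorem L657953 : sm gh N42481 = N47117 := rfl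
theorem L657955 : sm gb N47117 = N42482 := ded_25_1 (flp_h L359283) (flp_b L359276) L657953
theorem L657957 : sm ge N47117 = N47117 := ded_43_1 (flp_h L657953) L359278 L657953
theorem L657958 : sm gf N47117 = N45166 := ded_47_1 (flp_h L382159) (flp_f L359279) L657953
theorem L657960 : sm gg N47117 = N45031 := ded_50_1 (flp_h L381010) (flp_g L637238) L657953
theorem L657962 : sm gj N47117 = N42739 := ded_52_1 (flp_h L361394) (flp_j L359281) L657953
theorem L657964 : sm gd N47117 = N45145 := ded_38_1 (flp_h L381981) L262529 (flp_h L261855) (flp_d L637235) L657953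
theorem L657966 : sm gi N47117 = N47117 := ded_54_2 (flp_h L657953) (flp_i L359274) L247205 L359274 L657953
theorem L657967 : sm gi N42486 = N47118 := rfl
theorem L657969 : sm ga N47118 = N47118 := ded_18_1 (flp_i L657967) L359322 L657967
theorem L657970 : sm gb N47118 = N42496 := ded_26_1 (flp_i L359412) (flp_b L359323) L657967
theorem L657972 : sm gc N47118 = N46359 := ded_33_1 (flp_i L649568) L649373 L657967
theorem L657974 : sm gd N47118 = N42487 := ded_39_1 (flp_i L359328) L359320 L657967
theorem L657976 : sm ge N47118 = N46358 := ded_44_1 (flp_i L649558) (flp_e L648602) L657967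
theorem L657978 : sm gg N47118 = N42750 := ded_51_1 (flp_i L361488) (flp_g L359325) L657967
theorem L657980 : sm gj N47118 = N46362 := ded_53_1 (flp_i L649593) L649369 L657967
theorem L657982 : sm gd N42492 = N47119 := rfl
theorem L657984 : sm ga N47119 = N42512 := ded_12_1 (flp_d L359553) (flp_a L359376) L657982
theorem L657986 : sm gb N47119 = N42531 := ded_20_1 (flp_d L359721) (flp_b L614344) L657982
theorem L657988 : sm gf N47119 = N42759 := ded_35_2 (flp_d L361569) (flp_f L359380) L657982
theorem L657990 : sm gg N47119 = N42493 := ded_36_2 (flp_d L359384) (flp_g L359382) L657982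
theorem L657992 : sm gj N47119 = N42522 := ded_37_2 (flp_d L359641) (flp_j L614348) L657982
theorem L657994 : sm gc N47119 = N42556 := ded_27_1 (flp_d L359943) L247632 (flp_d L247323) (flp_c L359378) L657982
theorem L657996 : sm ge N47119 = N42598 := ded_34_2 (flp_d L360284) L247875 (flp_d L247459) (flp_e L614346) L657982
theorem L657998 : sm gh N47119 = N47119 := ded_38_2 (flp_d L657982) (flp_h L359374) L247256 L359374 L657982
theorem L657999 : sm gi N42492 = N47120 := rfl
theorem L658001 : sm ga N47120 = N42513 := ded_18_1 (flp_i L359563) (flp_a L359376) L657999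
theorem L658003 : sm gb N47120 = N42532 := ded_26_1 (flp_i L359729) (flp_b L614344) L657999
theorem L658005 : sm gc N47120 = N42503 := ded_33_1 (flp_i L359479) (flp_c L359378) L657999
theorem L658007 : sm ge N47120 = N42526 := ded_44_1 (flp_i L359674) (flp_e L614346) L657999
theorem L658009 : sm gf N47120 = N42760 := ded_48_1 (flp_i L361578) (flp_f L359380) L657999
theorem L658011 : sm gg N47120 = N42494 := ded_51_1 (flp_i L359393) (flp_g L359382) L657999
theorem L658013 : sm gj N47120 = N42523 := ded_53_1 (flp_i L359650) (flp_j L614348) L657999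
theorem L658015 : sm gh N47120 = N47120 := ded_54_1 (flp_i L657999) (flp_h L359374) L247257 L359374 L657999
theorem L658016 : sm gi N42493 = N47121 := rfl
theorem L658018 : sm ga N47121 = N42515 := ded_18_1 (flp_i L359579) (flp_a L359386) L658016
theorem L658020 : sm gc N47121 = N42559 := ded_33_1 (flp_i L359969) (flp_c L359390) L658016
theorem L658022 : sm gd N47121 = N42494 := ded_39_1 (flp_i L359393) L359384 L658016
theorem L658024 : sm gf N47121 = N42496 := ded_48_1 (flp_i L359412) (flp_f L359388) L658016
theorem L658026 : sm gh N42496 = N47122 := rfl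
theorem L658028 : sm ga N47122 = N42518 := ded_17_1 (flp_h L359605) (flp_a L359414) L658026
theorem L658030 : sm gc N47122 = N42562 := ded_32_1 (flp_h L359994) (flp_c L359416) L658026
theorem L658032 : sm gg N47122 = N42765 := ded_50_1 (flp_h L361625) (flp_g L359420) L658026
theorem L658034 : sm gd N47122 = N47122 := ded_38_1 (flp_h L658026) L359418 L247286 (flp_d L359418) L658026
theorem L658035 : sm gi N47122 = N47122 := ded_54_2 (flp_h L658026) (flp_i L359412) L247276 L359412 L658026
theorem L658036 : sm gd N42499 = N47123 := rfl
theorem L658038 : sm ga N47123 = N42522 := ded_12_1 (flp_d L359641) (flp_a L359443) L658036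
theorem L658040 : sm gb N47123 = N47123 := ded_20_1 (flp_d L658036) L359445 L658036
theorem L658041 : sm gf N47123 = N42787 := ded_35_2 (flp_d L361818) (flp_f L614317) L658036
theorem L658043 : sm gg N47123 = N42500 := ded_36_2 (flp_d L359450) (flp_g L359448) L658036
theorem L658045 : sm gj N47123 = N42512 := ded_37_2 (flp_d L359553) (flp_j L614319) L658036
theorem L658047 : sm gc N47123 = N42584 := ded_27_1 (flp_d L360176) L247798 (flp_d L247459) (flp_c L614315) L658036
theorem L658049 : sm ge N47123 = N42566 := ded_34_2 (flp_d L360035) L247699 (flp_d L247323) (flp_e L359446) L658036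
theorem L658051 : sm gh N47123 = N47123 := ded_38_2 (flp_d L658036) (flp_h L359441) L247292 L359441 L658036
theorem L658052 : sm gi N42499 = N47124 := rfl
theorem L658054 : sm ga N47124 = N42523 := ded_18_1 (flp_i L359650) (flp_a L359443) L658052
theorem L658056 : sm gb N47124 = N47124 := ded_26_1 (flp_i L658052) L359445 L658052
theorem L658057 : sm gc N47124 = N42526 := ded_33_1 (flp_i L359674) (flp_c L614315) L658052
theorem L658059 : sm ge N47124 = N42503 := ded_44_1 (flp_i L359479) (flp_e L359446) L658052
theorem L658061 : sm gf N47124 = N42788 := ded_48_1 (flp_i L361827) (flp_f L614317) L658052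
theorem L658063 : sm gg N47124 = N42501 := ded_51_1 (flp_i L359459) (flp_g L359448) L658052
theorem L658065 : sm gj N47124 = N42513 := ded_53_1 (flp_i L359563) (flp_j L614319) L658052
theorem L658067 : sm gh N47124 = N47124 := ded_54_1 (flp_i L658052) (flp_h L359441) L247295 L359441 L658052
theorem L658068 : sm gi N42500 = N47125 := rfl
theorem L658070 : sm ga N47125 = N42525 := ded_18_1 (flp_i L359665) (flp_a L359452) L658068
theorem L658072 : sm gb N47125 = N47125 := ded_26_1 (flp_i L658068) L359454 L658068
theorem L658073 : sm gd N47125 = N42501 := ded_39_1 (flp_i L359459) L359450 L658068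
theorem L658075 : sm ge N47125 = N42569 := ded_44_1 (flp_i L360061) (flp_e L359456) L658068
theorem L658077 : sm gf N47125 = N47125 := ded_48_1 (flp_i L658068) L359455 L658068
theorem L658078 : sm gi N42502 = N47126 := rfl
theorem L658080 : sm ga N47126 = N42526 := ded_18_1 (flp_i L359674) (flp_a L359470) L658078
theorem L658082 : sm gb N47126 = N47126 := ded_26_1 (flp_i L658078) L359472 L658078
theorem L658083 : sm gc N47126 = N42523 := ded_33_1 (flp_i L359650) (flp_c L614015) L658078
theorem L658085 : sm gd N47126 = N42570 := ded_39_1 (flp_i L360070) (flp_d L359477) L658078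
theorem L658087 : sm ge N47126 = N42513 := ded_44_1 (flp_i L359563) (flp_e L614017) L658078
theorem L658089 : sm gf N47126 = N42773 := ded_48_1 (flp_i L361704) (flp_f L359473) L658078
theorem L658091 : sm gg N47126 = N42510 := ded_51_1 (flp_i L359535) (flp_g L614019) L658078
theorem L658093 : sm gj N47126 = N42503 := ded_53_1 (flp_i L359479) (flp_j L359475) L658078
theorem L658095 : sm gh N47126 = N47126 := ded_54_1 (flp_i L658078) (flp_h L359468) L247313 L359468 L658078
theorem L658096 : sm ge N42512 = N47127 := rfl
theorem L658098 : sm ga N47127 = N42598 := ded_13_1 (flp_e L657996) L657984 L658096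
theorem L658100 : sm gb N47127 = N47127 := ded_21_1 (flp_e L658096) L359555 L658096
theorem L658101 : sm gc N47127 = N42586 := ded_28_1 (flp_e L360193) (flp_c L359560) L658096
theorem L658103 : sm gg N47127 = N42514 := ded_41_2 (flp_e L359573) (flp_g L359558) L658096
theorem L658105 : sm gj N47127 = N42566 := ded_42_2 (flp_e L658049) L658045 L658096
theorem L658107 : sm gh N47127 = N47127 := ded_43_2 (flp_e L658096) L359562 L658096
theorem L658108 : sm gd N47127 = N42565 := ded_34_1 L360031 (flp_d L359477) L614017 L359553 L658096
theorem L658110 : sm gi N42512 = N47128 := rfl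
theorem L658112 : sm gb N47128 = N47128 := ded_26_1 (flp_i L658110) L359555 L658110
theorem L658113 : sm gc N47128 = N42587 := ded_33_1 (flp_i L360198) (flp_c L359560) L658110
theorem L658115 : sm gd N47128 = N42513 := ded_39_1 (flp_i L359563) L359553 L658110
theorem L658117 : sm gf N47128 = N42790 := ded_48_1 (flp_i L361844) (flp_f L359556) L658110
theorem L658119 : sm gg N47128 = N42515 := ded_51_1 (flp_i L359579) (flp_g L359558) L658110
theorem L658121 : sm gf N42514 = N47129 := rfl
theorem L658123 : sm ga N47129 = N45159 := ded_14_1 (flp_f L657139) L657135 L658121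
theorem L658125 : sm gb N47129 = N47129 := ded_22_1 (flp_f L658121) L359575 L658121
theorem L658126 : sm gc N47129 = N42588 := ded_29_1 (flp_f L360206) (flp_c L359576) L658121
theorem L658128 : sm gj N47129 = N45162 := ded_46_2 (flp_f L656435) L656430 L658121
theorem L658130 : sm gh N47129 = N47129 := ded_47_2 (flp_f L658121) L359578 L658121
theorem L658131 : sm ge N47129 = N42516 := ded_40_1 (flp_f L359588) (flp_e L247392) (flp_f L247379) L359573 L658121
theorem L658133 : sm gg N45461 = N47129 := ded_15_0 L658123 L382098 L384458
theorem L658135 : sm gi N42514 = N47130 := rfl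
theorem L658137 : sm gb N47130 = N47130 := ded_26_1 (flp_i L658135) L359575 L658135
theorem L658138 : sm gc N47130 = N42589 := ded_33_1 (flp_i L360211) (flp_c L359576) L658135
theorem L658140 : sm ge N47130 = N42515 := ded_44_1 (flp_i L359579) L359573 L658135
theorem L658142 : sm gh N42515 = N47131 := rfl
theorem L658144 : sm gb N47131 = N47131 := ded_25_1 (flp_h L658142) L359581 L658142
theorem L658145 : sm gc N47131 = N42590 := ded_32_1 (flp_h L360215) (flp_c L359582) L658142
theorem L658147 : sm gf N47131 = N42518 := ded_47_1 (flp_h L359605) (flp_f L359586) L658142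
theorem L658149 : sm gd N47131 = N47131 := ded_38_1 (flp_h L658142) L359584 L247391 (flp_d L359584) L658142
theorem L658150 : sm gi N47131 = N47131 := ded_54_2 (flp_h L658142) (flp_i L359579) L247383 L359579 L658142
theorem L658151 : sm gi N42516 = N47132 := rfl
theorem L658153 : sm ga N47132 = N46365 := ded_18_1 (flp_i L649617) L648674 L658151
theorem L658155 : sm gb N47132 = N47132 := ded_26_1 (flp_i L658151) L359590 L658151
theorem L658156 : sm gc N47132 = N42592 := ded_33_1 (flp_i L360229) (flp_c L359591) L658151
theorem L658158 : sm gd N47132 = N47132 := ded_39_1 (flp_i L658151) L359593 L658151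
theorem L658159 : sm gf N47132 = N42517 := ded_48_1 (flp_i L359595) L359588 L658151
theorem L658161 : sm gg N47132 = N46432 := ded_51_1 (flp_i L650135) (flp_g L649387) L658151
theorem L658163 : sm gj N47132 = N46367 := ded_53_1 (flp_i L649636) (flp_j L649359) L658151
theorem L658165 : sm gh N42517 = N47133 := rfl
theorem L658167 : sm gb N47133 = N47133 := ded_25_1 (flp_h L658165) L359597 L658165
theorem L658168 : sm gc N47133 = N42593 := ded_32_1 (flp_h L360235) (flp_c L359598) L658165
theorem L658170 : sm ge N47133 = N42518 := ded_43_1 (flp_h L359605) (flp_e L359601) L658165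
theorem L658172 : sm gg N47133 = N42796 := ded_50_1 (flp_h L361896) (flp_g L359603) L658165
theorem L658174 : sm gi N47133 = N47133 := ded_54_2 (flp_h L658165) (flp_i L359595) L247399 L359595 L658165
theorem L658175 : sm gd N42520 = N47134 := rfl
theorem L658177 : sm ga N47134 = N42787 := ded_12_1 (flp_d L361818) (flp_a L613974) L658175
theorem L658179 : sm gb N47134 = N42529 := ded_20_1 (flp_d L359704) (flp_b L359626) L658175
theorem L658181 : sm gf N47134 = N42522 := ded_35_2 (flp_d L359641) (flp_f L359630) L658175
theorem L658183 : sm gg N47134 = N47134 := ded_36_2 (flp_d L658175) L359632 L658175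
theorem L658184 : sm gj N47134 = N42759 := ded_37_2 (flp_d L361569) (flp_j L613979) L658175
theorem L658186 : sm gc N47134 = N42854 := ded_27_1 (flp_d L362424) L249301 (flp_d L248834) (flp_c L613976) L658175
theorem L658188 : sm ge N47134 = N46554 := ded_34_2 (flp_d L651183) L294771 L561748 (flp_e L359628) L658175
theorem L658190 : sm gh N47134 = N47134 := ded_38_2 (flp_d L658175) (flp_h L359624) L247414 L359624 L658175
theorem L658191 : sm gi N42520 = N47135 := rfl
theorem L658193 : sm ga N47135 = N42788 := ded_18_1 (flp_i L361827) (flp_a L613974) L658191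
theorem L658195 : sm gb N47135 = N42530 := ded_26_1 (flp_i L359711) (flp_b L359626) L658191
theorem L658197 : sm gc N47135 = N42773 := ded_33_1 (flp_i L361704) (flp_c L613976) L658191
theorem L658199 : sm ge N47135 = N42800 := ded_44_1 (flp_i L361931) (flp_e L359628) L658191
theorem L658201 : sm gf N47135 = N42523 := ded_48_1 (flp_i L359650) (flp_f L359630) L658191
theorem L658203 : sm gg N47135 = N47135 := ded_51_1 (flp_i L658191) L359632 L658191
theorem L658204 : sm gj N47135 = N42760 := ded_53_1 (flp_i L361578) (flp_j L613979) L658191
theorem L658206 : sm gh N47135 = N47135 := ded_54_1 (flp_i L658191) (flp_h L359624) L247415 L359624 L658191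
theorem L658207 : sm gc N42522 = N47136 := rfl
theorem L658209 : sm ga N47136 = N42584 := ded_11_1 (flp_c L658047) L658038 L658207
theorem L658211 : sm ge N47136 = N42600 := ded_28_2 (flp_c L360301) (flp_e L359647) L658207
theorem L658213 : sm gf N47136 = N42854 := ded_29_2 (flp_c L658186) L658181 L658207
theorem L658215 : sm gg N47136 = N42524 := ded_30_2 (flp_c L359659) (flp_g L359645) L658207
theorem L658217 : sm gj N47136 = N42556 := ded_31_2 (flp_c L657994) L657992 L658207
theorem L658219 : sm gh N47136 = N47136 := ded_32_2 (flp_c L658207) L359649 L658207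
theorem L658220 : sm gd N47136 = N42555 := ded_27_2 L359937 (flp_d L359477) L614015 L359641 L658207
theorem L658222 : sm gi N42522 = N47137 := rfl
theorem L658224 : sm gb N47137 = N42534 := ded_26_1 (flp_i L359747) (flp_b L359643) L658222
theorem L658226 : sm gd N47137 = N42523 := ded_39_1 (flp_i L359650) L359641 L658222
theorem L658228 : sm ge N47137 = N42601 := ded_44_1 (flp_i L360306) (flp_e L359647) L658222
theorem L658230 : sm gg N47137 = N42525 := ded_51_1 (flp_i L359665) (flp_g L359645) L658222
theorem L658232 : sm gb N42524 = N47138 := rfl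
theorem L658234 : sm ge N47138 = N42602 := ded_21_2 (flp_b L360314) (flp_e L359661) L658232
theorem L658236 : sm gf N47138 = N47138 := ded_22_2 (flp_b L658232) L359663 L658232
theorem L658237 : sm gh N47138 = N47138 := ded_25_2 (flp_b L658232) L359664 L658232
theorem L658238 : sm gc N47138 = N42535 := ded_19_2 (flp_b L359756) (flp_c L247516) (flp_b L247437) L359659 L658232
theorem L658240 : sm gi N42524 = N47139 := rfl
theorem L658242 : sm gc N47139 = N42525 := ded_33_1 (flp_i L359665) L359659 L658240
theorem L658244 : sm ge N47139 = N42603 := ded_44_1 (flp_i L360321) (flp_e L359661) L658240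
theorem L658246 : sm gf N47139 = N47139 := ded_48_1 (flp_i L658240) L359663 L658240
theorem L658247 : sm gh N42525 = N47140 := rfl
theorem L658249 : sm gb N47140 = N42537 := ded_25_1 (flp_h L359772) (flp_b L359667) L658247
theorem L658251 : sm ge N47140 = N42604 := ded_43_1 (flp_h L360327) (flp_e L359671) L658247
theorem L658253 : sm gf N47140 = N47140 := ded_47_1 (flp_h L658247) L359673 L658247
theorem L658254 : sm gd N47140 = N47140 := ded_38_1 (flp_h L658247) L359669 L247450 (flp_d L359669) L658247
theorem L658255 : sm gi N47140 = N47140 := ded_54_2 (flp_h L658247) (flp_i L359665) L247442 L359665 L658247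
theorem L658256 : sm gd N42528 = N47141 := rfl
theorem L658258 : sm ga N47141 = N47141 := ded_12_1 (flp_d L658256) L359696 L658256
theorem L658259 : sm gb N47141 = N42759 := ded_20_1 (flp_d L361569) (flp_b L614364) L658256
theorem L658261 : sm gf N47141 = N42531 := ded_35_2 (flp_d L359721) (flp_f L359700) L658256
theorem L658263 : sm gg N47141 = N42746 := ded_36_2 (flp_d L361453) (flp_g L614367) L658256
theorem L658265 : sm gj N47141 = N42529 := ded_37_2 (flp_d L359704) (flp_j L359702) L658256
theorem L658267 : sm ge N47141 = N43500 := ded_34_2 (flp_d L367851) L561522 (flp_d L616300) (flp_e L359698) L658256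
theorem L658269 : sm gh N47141 = N47141 := ded_38_2 (flp_d L658256) (flp_h L359694) L247476 L359694 L658256
theorem L658270 : sm gc N43723 = N47141 := ded_19_0 L658259 L361575 (flp_b L554478) (flp_c L651506) L651504
theorem L658272 : sm gi N42528 = N47142 := rfl
theorem L658274 : sm ga N47142 = N47142 := ded_18_1 (flp_i L658272) L359696 L658272
theorem L658275 : sm gb N47142 = N42760 := ded_26_1 (flp_i L361578) (flp_b L614364) L658272
theorem L658277 : sm gc N47142 = N47142 := ded_33_1 (flp_i L658272) L359697 L658272
theorem L658278 : sm ge N47142 = N42810 := ded_44_1 (flp_i L362024) (flp_e L359698) L658272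
theorem L658280 : sm gf N47142 = N42532 := ded_48_1 (flp_i L359729) (flp_f L359700) L658272
theorem L658282 : sm gg N47142 = N42747 := ded_51_1 (flp_i L361462) (flp_g L614367) L658272
theorem L658284 : sm gj N47142 = N42530 := ded_53_1 (flp_i L359711) (flp_j L359702) L658272
theorem L658286 : sm gh N47142 = N47142 := ded_54_1 (flp_i L658272) (flp_h L359694) L247481 L359694 L658272
theorem L658287 : sm gc N42529 = N47143 := rfl
theorem L658289 : sm ga N47143 = N47143 := ded_11_1 (flp_c L658287) L359706 L658287
theorem L658290 : sm gf N47143 = N42533 := ded_29_2 (flp_c L359738) (flp_f L359707) L658287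
theorem L658292 : sm gg N47143 = N47143 := ded_30_2 (flp_c L658287) L359709 L658287
theorem L658293 : sm gj N47143 = N43723 := ded_31_2 L658270 L658265 L658287
theorem L658295 : sm gh N47143 = N47143 := ded_32_2 (flp_c L658287) L359710 L658287
theorem L658296 : sm gd N47143 = N47143 := ded_27_2 (flp_c L658287) (flp_d L359704) L247485 L359704 L658287
theorem L658297 : sm ge N43720 = N47143 := ded_42_3 L658293 (flp_e L369743) (flp_j L369725)
theorem L658299 : sm ge N42529 = N47144 := rfl
theorem L658301 : sm ga N47144 = N47144 := ded_13_1 (flp_e L658299) L359706 L658299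
theorem L658302 : sm gb N47144 = N46554 := ded_21_1 (flp_e L658188) L658179 L658299
theorem L658304 : sm gc N47144 = N43720 := ded_28_1 L658297 (flp_c L658287) L658299
theorem L658306 : sm gg N47144 = N47144 := ded_41_2 (flp_e L658299) L359709 L658299
theorem L658307 : sm gj N47144 = N43500 := ded_42_2 (flp_e L658267) L658265 L658299
theorem L658309 : sm gh N47144 = N47144 := ded_43_2 (flp_e L658299) L359710 L658299
theorem L658310 : sm gd N47144 = N42812 := ded_34_1 (flp_e L362042) (flp_d L249058) (flp_e L247486) L359704 L658299
theorem L658312 : sm gf N47144 = N42609 := ded_40_2 (flp_e L360372) L247941 (flp_e L247504) (flp_f L359707) L658299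
theorem L658314 : sm gi N42529 = N47145 := rfl
theorem L658316 : sm ga N47145 = N47145 := ded_18_1 (flp_i L658314) L359706 L658314
theorem L658317 : sm gd N47145 = N42530 := ded_39_1 (flp_i L359711) L359704 L658314
theorem L658319 : sm gf N47145 = N42534 := ded_48_1 (flp_i L359747) (flp_f L359707) L658314
theorem L658321 : sm gg N47145 = N47145 := ded_51_1 (flp_i L658314) L359709 L658314
theorem L658322 : sm gc N42531 = N47146 := rfl
theorem L658324 : sm ga N47146 = N47146 := ded_11_1 (flp_c L658322) L359723 L658322
theorem L658325 : sm ge N47146 = N42611 := ded_28_2 (flp_c L360389) (flp_e L359726) L658322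
theorem L658327 : sm gf N47146 = N43723 := ded_29_2 L658270 L658261 L658322
theorem L658329 : sm gg N47146 = N45152 := ded_30_2 (flp_c L656530) L656523 L658322
theorem L658331 : sm gj N47146 = N42533 := ded_31_2 (flp_c L359738) (flp_j L359724) L658322
theorem L658333 : sm gh N47146 = N47146 := ded_32_2 (flp_c L658322) L359728 L658322
theorem L658334 : sm gd N47146 = N47146 := ded_27_2 (flp_c L658322) (flp_d L359721) L247494 L359721 L658322
theorem L658335 : sm gi N42531 = N47147 := rfl
theorem L658337 : sm ga N47147 = N47147 := ded_18_1 (flp_i L658335) L359723 L658335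
theorem L658338 : sm gd N47147 = N42532 := ded_39_1 (flp_i L359729) L359721 L658335
theorem L658340 : sm ge N47147 = N42612 := ded_44_1 (flp_i L360395) (flp_e L359726) L658335
theorem L658342 : sm gj N47147 = N42534 := ded_53_1 (flp_i L359747) (flp_j L359724) L658335
theorem L658344 : sm gb N42533 = N47148 := rfl
theorem L658346 : sm gd N47148 = N47148 := ded_20_2 (flp_b L658344) L359746 L658344
theorem L658347 : sm ge N47148 = N42613 := ded_21_2 (flp_b L360402) (flp_e L359741) L658344
theorem L658349 : sm gg N47148 = N42535 := ded_23_2 (flp_b L359756) (flp_g L359743) L658344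
theorem L658351 : sm gh N47148 = N47148 := ded_25_2 (flp_b L658344) L359745 L658344
theorem L658352 : sm gi N42533 = N47149 := rfl
theorem L658354 : sm ga N47149 = N47149 := ded_18_1 (flp_i L658352) L359740 L658352
theorem L658355 : sm gc N47149 = N42534 := ded_33_1 (flp_i L359747) L359738 L658352
theorem L658357 : sm gd N47149 = N47149 := ded_39_1 (flp_i L658352) L359746 L658352
theorem L658358 : sm ge N47149 = N42614 := ded_44_1 (flp_i L360407) (flp_e L359741) L658352
theorem L658360 : sm gg N47149 = N42536 := ded_51_1 (flp_i L359763) (flp_g L359743) L658352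
theorem L658362 : sm gh N42534 = N47150 := rfl
theorem L658364 : sm ga N47150 = N47150 := ded_17_1 (flp_h L658362) L359749 L658362
theorem L658365 : sm ge N47150 = N42615 := ded_43_1 (flp_h L360414) (flp_e L359752) L658362
theorem L658367 : sm gg N47150 = N42537 := ded_50_1 (flp_h L359772) (flp_g L359754) L658362
theorem L658369 : sm gd N47150 = N47150 := ded_38_1 (flp_h L658362) L359750 L247515 (flp_d L359750) L658362
theorem L658370 : sm gi N47150 = N47150 := ded_54_2 (flp_h L658362) (flp_i L359747) L247506 L359747 L658362
theorem L658371 : sm ga N42535 = N47151 := rfl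
theorem L658373 : sm gd N47151 = N47151 := ded_12_2 (flp_a L658371) L359758 L658371
theorem L658374 : sm ge N47151 = N42616 := ded_13_2 (flp_a L360422) (flp_e L359759) L658371
theorem L658376 : sm gf N47151 = N47151 := ded_14_2 (flp_a L658371) L359761 L658371
theorem L658377 : sm gh N47151 = N47151 := ded_17_2 (flp_a L658371) L359762 L658371
theorem L658378 : sm gb N47151 = N47151 := ded_10_2 (flp_a L658371) (flp_b L359756) L247518 L359756 L658371
theorem L658379 : sm gi N42535 = N47152 := rfl
theorem L658381 : sm gb N47152 = N42536 := ded_26_1 (flp_i L359763) L359756 L658379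
theorem L658383 : sm gd N47152 = N47152 := ded_39_1 (flp_i L658379) L359758 L658379
theorem L658384 : sm ge N47152 = N42617 := ded_44_1 (flp_i L360428) (flp_e L359759) L658379
theorem L658386 : sm gf N47152 = N47152 := ded_48_1 (flp_i L658379) L359761 L658379
theorem L658387 : sm gh N42536 = N47153 := rfl
theorem L658389 : sm ga N47153 = N47153 := ded_17_1 (flp_h L658387) L359765 L658387
theorem L658390 : sm gc N47153 = N42537 := ded_32_1 (flp_h L359772) (flp_c L359766) L658387
theorem L658392 : sm ge N47153 = N42618 := ded_43_1 (flp_h L360434) (flp_e L359769) L658387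
theorem L658394 : sm gf N47153 = N47153 := ded_47_1 (flp_h L658387) L359771 L658387
theorem L658395 : sm gi N47153 = N47153 := ded_54_2 (flp_h L658387) (flp_i L359763) L247522 L359763 L658387
theorem L658396 : sm gg N42538 = N47154 := rfl
theorem L658398 : sm ga N47154 = N45108 := ded_15_1 (flp_g L381688) (flp_a L617580) L658396
theorem L658400 : sm gb N47154 = N42548 := ded_23_1 (flp_g L359865) (flp_b L359782) L658396
theorem L658402 : sm gc N47154 = N45088 := ded_30_1 (flp_g L381521) (flp_c L617582) L658396
theorem L658404 : sm gd N47154 = N42539 := ded_36_1 (flp_g L359789) L359780 L658396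
theorem L658406 : sm ge N47154 = N47154 := ded_41_1 (flp_g L658396) L359788 L658396
theorem L658407 : sm gi N47154 = N42620 := ded_51_2 (flp_g L360449) (flp_i L359786) L658396
theorem L658409 : sm gf N47154 = N45331 := ded_45_1 (flp_g L383456) L263519 (flp_g L262095) (flp_f L617585) L658396
theorem L658411 : sm gh N42538 = N47155 := rfl
theorem L658413 : sm ga N47155 = N45109 := ded_17_1 (flp_h L381695) (flp_a L617580) L658411
theorem L658415 : sm gb N47155 = N42549 := ded_25_1 (flp_h L359875) (flp_b L359782) L658411
theorem L658417 : sm gc N47155 = N45089 := ded_32_1 (flp_h L381530) (flp_c L617582) L658411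
theorem L658419 : sm ge N47155 = N47155 := ded_43_1 (flp_h L658411) L359788 L658411
theorem L658420 : sm gf N47155 = N45072 := ded_47_1 (flp_h L381358) (flp_f L617585) L658411
theorem L658422 : sm gj N47155 = N45071 := ded_52_1 (flp_h L381349) (flp_j L617587) L658411
theorem L658424 : sm gf N42539 = N47156 := rfl
theorem L658426 : sm ga N47156 = N45374 := ded_14_1 L648967 L648654 L658424
theorem L658428 : sm gb N47156 = N42550 := ded_22_1 (flp_f L359883) (flp_b L359791) L658424
theorem L658430 : sm gc N47156 = N47156 := ded_29_1 (flp_f L658424) L359793 L658424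
theorem L658431 : sm gd N47156 = N45331 := ded_35_1 (flp_f L658409) L658404 L658424
theorem L658433 : sm gi N47156 = N42622 := ded_48_2 (flp_f L360463) (flp_i L359796) L658424
theorem L658435 : sm ge N47156 = N42825 := ded_40_1 (flp_f L362166) L249157 (flp_f L247560) (flp_e L359794) L658424
theorem L658437 : sm gg N47156 = N45171 := ded_45_2 (flp_f L382198) (flp_g L262684) (flp_f L247550) L359789 L658424
theorem L658439 : sm gj N42539 = N47157 := rfl
theorem L658441 : sm ga N47157 = N46528 := ded_16_1 (flp_j L650934) L648654 L658439
theorem L658443 : sm gb N47157 = N42551 := ded_24_1 (flp_j L359895) (flp_b L359791) L658439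
theorem L658445 : sm gc N47157 = N47157 := ded_31_1 (flp_j L658439) L359793 L658439
theorem L658446 : sm ge N47157 = N42541 := ded_42_1 (flp_j L359807) (flp_e L359794) L658439
theorem L658448 : sm gi N47157 = N42623 := ded_53_2 (flp_j L360472) (flp_i L359796) L658439
theorem L658450 : sm gh N42539 = N47158 := rfl
theorem L658452 : sm ga N47158 = N44542 := ded_17_1 L376848 L648654 L658450
theorem L658454 : sm gb N47158 = N42552 := ded_25_1 (flp_h L359905) (flp_b L359791) L658450
theorem L658456 : sm gc N47158 = N47158 := ded_32_1 (flp_h L658450) L359793 L658450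
theorem L658457 : sm ge N47158 = N42542 := ded_43_1 (flp_h L359817) (flp_e L359794) L658450
theorem L658459 : sm gg N47158 = N42540 := ded_50_1 (flp_h L359798) L359789 L658450
theorem L658461 : sm gd N42540 = N47159 := rfl
theorem L658463 : sm ga N47159 = N44534 := ded_12_1 L376778 (flp_a L554650) L658461
theorem L658465 : sm gb N47159 = N42553 := ded_20_1 (flp_d L359915) (flp_b L359800) L658461
theorem L658467 : sm gf N47159 = N44490 := ded_35_2 L376433 (flp_f L554653) L658461
theorem L658469 : sm gi N42540 = N47160 := rfl
theorem L658471 : sm ga N47160 = N44543 := ded_18_1 (flp_i L376850) (flp_a L554650) L658469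
theorem L658473 : sm gb N47160 = N42554 := ded_26_1 (flp_i L359921) (flp_b L359800) L658469
theorem L658475 : sm gc N47160 = N47160 := ded_33_1 (flp_i L658469) L359802 L658469
theorem L658476 : sm ge N47160 = N42544 := ded_44_1 (flp_i L359833) (flp_e L359803) L658469
theorem L658478 : sm gf N47160 = N44497 := ded_48_1 (flp_i L376491) (flp_f L554653) L658469
theorem L658480 : sm gh N47160 = N42626 := ded_54_1 (flp_i L360494) (flp_h L248019) (flp_i L247548) L359798 L658469
theorem L658482 : sm gh N42541 = N47161 := rfl
theorem L658484 : sm ga N47161 = N44545 := ded_17_1 L376875 L648346 L658482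
theorem L658486 : sm gb N47161 = N42555 := ded_25_1 (flp_h L359933) (flp_b L359809) L658482
theorem L658488 : sm gc N47161 = N47161 := ded_32_1 (flp_h L658482) L359811 L658482
theorem L658489 : sm gf N47161 = N42830 := ded_47_1 (flp_h L362213) (flp_f L359813) L658482
theorem L658491 : sm gj N47161 = N42542 := ded_52_1 (flp_h L359817) L359807 L658482
theorem L658493 : sm gi N42542 = N47162 := rfl
theorem L658495 : sm ga N47162 = N44546 := ded_18_1 (flp_i L376877) (flp_a L554647) L658493
theorem L658497 : sm gb N47162 = N42557 := ded_26_1 (flp_i L359952) (flp_b L359819) L658493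
theorem L658499 : sm gc N47162 = N47162 := ded_33_1 (flp_i L658493) L359821 L658493
theorem L658500 : sm gf N47162 = N42832 := ded_48_1 (flp_i L362228) (flp_f L359822) L658493
theorem L658502 : sm gg N47162 = N42544 := ded_51_1 (flp_i L359833) (flp_g L359824) L658493
theorem L658504 : sm gh N47162 = N42629 := ded_54_1 (flp_i L360521) (flp_h L248036) (flp_i L247558) L359817 L658493
theorem L658506 : sm gf N42548 = N47163 := rfl
theorem L658508 : sm ga N47163 = N42571 := ded_14_1 (flp_f L360081) (flp_a L359867) L658506
theorem L658510 : sm gb N47163 = N45331 := ded_22_1 (flp_f L658409) L658400 L658506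
theorem L658512 : sm gc N47163 = N47163 := ded_29_1 (flp_f L658506) L359869 L658506
theorem L658513 : sm gd N47163 = N42550 := ded_35_1 (flp_f L359883) (flp_d L359870) L658506
theorem L658515 : sm gi N47163 = N42638 := ded_48_2 (flp_f L360590) (flp_i L359873) L658506
theorem L658517 : sm gg N47163 = N45187 := ded_45_2 (flp_f L382331) (flp_g L262761) (flp_f L247591) L359865 L658506
theorem L658519 : sm ge N45664 = N47163 := ded_21_0 L658510 L383462 (flp_b L386099)
theorem L658521 : sm gj N42548 = N47164 := rfl
theorem L658523 : sm ga N47164 = N42572 := ded_16_1 (flp_j L360090) (flp_a L359867) L658521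
theorem L658525 : sm gc N47164 = N47164 := ded_31_1 (flp_j L658521) L359869 L658521
theorem L658526 : sm gd N47164 = N42551 := ded_37_1 (flp_j L359895) (flp_d L359870) L658521
theorem L658528 : sm ge N47164 = N47164 := ded_42_1 (flp_j L658521) L359872 L658521
theorem L658529 : sm gi N47164 = N42639 := ded_53_2 (flp_j L360599) (flp_i L359873) L658521
theorem L658531 : sm gh N42548 = N47165 := rfl
theorem L658533 : sm ga N47165 = N42573 := ded_17_1 (flp_h L360098) (flp_a L359867) L658531
theorem L658535 : sm gc N47165 = N47165 := ded_32_1 (flp_h L658531) L359869 L658531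
theorem L658536 : sm ge N47165 = N47165 := ded_43_1 (flp_h L658531) L359872 L658531
theorem L658537 : sm gg N47165 = N42549 := ded_50_1 (flp_h L359875) L359865 L658531
theorem L658539 : sm gd N42549 = N47166 := rfl
theorem L658541 : sm ga N47166 = N42574 := ded_12_1 (flp_d L360104) (flp_a L359877) L658539
theorem L658543 : sm gf N47166 = N45190 := ded_35_2 (flp_d L382360) (flp_f L359881) L658539
theorem L658545 : sm gh N47166 = N42553 := ded_38_2 (flp_d L359915) (flp_h L247607) L247587 L359875 L658539
theorem L658547 : sm gi N42549 = N47167 := rfl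
theorem L658549 : sm ga N47167 = N42575 := ded_18_1 (flp_i L360110) (flp_a L359877) L658547
theorem L658551 : sm gc N47167 = N47167 := ded_33_1 (flp_i L658547) L359879 L658547
theorem L658552 : sm ge N47167 = N47167 := ded_44_1 (flp_i L658547) L359880 L658547
theorem L658553 : sm gf N47167 = N45191 := ded_48_1 (flp_i L382366) (flp_f L359881) L658547
theorem L658555 : sm gh N47167 = N42642 := ded_54_1 (flp_i L360623) (flp_h L248091) (flp_i L247593) L359875 L658547
theorem L658557 : sm gj N42550 = N47168 := rfl
theorem L658559 : sm ga N47168 = N42576 := ded_16_1 (flp_j L360118) (flp_a L359885) L658557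
theorem L658561 : sm gc N47168 = N42563 := ded_31_1 (flp_j L360003) (flp_c L359887) L658557
theorem L658563 : sm ge N47168 = N42846 := ded_42_1 (flp_j L362350) (flp_e L359891) L658557
theorem L658565 : sm gf N47168 = N42551 := ded_46_1 (flp_j L359895) L359883 L658557
theorem L658567 : sm gi N47168 = N42643 := ded_53_2 (flp_j L360631) (flp_i L359889) L658557
theorem L658569 : sm gh N42550 = N47169 := rfl
theorem L658571 : sm ga N47169 = N42577 := ded_17_1 (flp_h L360128) (flp_a L359885) L658569
theorem L658573 : sm gc N47169 = N42564 := ded_32_1 (flp_h L360015) (flp_c L359887) L658569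
theorem L658575 : sm ge N47169 = N42847 := ded_43_1 (flp_h L362360) (flp_e L359891) L658569
theorem L658577 : sm gf N47169 = N42552 := ded_47_1 (flp_h L359905) L359883 L658569
theorem L658579 : sm gg N47169 = N45193 := ded_50_1 (flp_h L382387) (flp_g L359893) L658569
theorem L658581 : sm gh N42551 = N47170 := rfl
theorem L658583 : sm ga N47170 = N42578 := ded_17_1 (flp_h L360138) (flp_a L359897) L658581
theorem L658585 : sm gc N47170 = N42565 := ded_32_1 (flp_h L360026) (flp_c L359899) L658581
theorem L658587 : sm ge N47170 = N42555 := ded_43_1 (flp_h L359933) (flp_e L359901) L658581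
theorem L658589 : sm gj N47170 = N42552 := ded_52_1 (flp_h L359905) L359895 L658581
theorem L658591 : sm gd N42552 = N47171 := rfl
theorem L658593 : sm ga N47171 = N42579 := ded_12_1 (flp_d L360146) (flp_a L359907) L658591
theorem L658595 : sm gg N47171 = N42553 := ded_36_2 (flp_d L359915) (flp_g L359913) L658591
theorem L658597 : sm gi N42552 = N47172 := rfl
theorem L658599 : sm ga N47172 = N42580 := ded_18_1 (flp_i L360150) (flp_a L359907) L658597
theorem L658601 : sm gc N47172 = N42567 := ded_33_1 (flp_i L360043) (flp_c L359909) L658597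
theorem L658603 : sm ge N47172 = N42557 := ded_44_1 (flp_i L359952) (flp_e L359911) L658597
theorem L658605 : sm gg N47172 = N42554 := ded_51_1 (flp_i L359921) (flp_g L359913) L658597
theorem L658607 : sm gh N47172 = N42647 := ded_54_1 (flp_i L360669) (flp_h L248117) (flp_i L247605) L359905 L658597
theorem L658609 : sm gc N42553 = N47173 := rfl
theorem L658611 : sm ga N47173 = N42581 := ded_11_1 (flp_c L360160) (flp_a L359917) L658609
theorem L658613 : sm gf N47173 = N45197 := ded_29_2 (flp_c L382425) (flp_f L359919) L658609
theorem L658615 : sm gd N47173 = N42568 := ded_27_2 (flp_c L360054) (flp_d L247703) (flp_c L247611) L359915 L658609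
theorem L658617 : sm ge N42553 = N47174 := rfl
theorem L658619 : sm ga N47174 = N42582 := ded_13_1 (flp_e L360166) (flp_a L359917) L658617
theorem L658621 : sm gd N47174 = N42558 := ded_34_1 (flp_e L359964) (flp_d L247638) (flp_e L247613) L359915 L658617
theorem L658623 : sm gi N42553 = N47175 := rfl
theorem L658625 : sm ga N47175 = N42583 := ded_18_1 (flp_i L360170) (flp_a L359917) L658623
theorem L658627 : sm gd N47175 = N42554 := ded_39_1 (flp_i L359921) L359915 L658623
theorem L658629 : sm gf N47175 = N45199 := ded_48_1 (flp_i L382437) (flp_f L359919) L658623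
theorem L658631 : sm gi N42555 = N47176 := rfl
theorem L658633 : sm ga N47176 = N42585 := ded_18_1 (flp_i L360183) (flp_a L359935) L658631
theorem L658635 : sm gc N47176 = N42570 := ded_33_1 (flp_i L360070) (flp_c L359937) L658631
theorem L658637 : sm gf N47176 = N42855 := ded_48_1 (flp_i L362432) (flp_f L359939) L658631
theorem L658639 : sm gj N47176 = N42557 := ded_53_1 (flp_i L359952) (flp_j L359941) L658631
theorem L658641 : sm gh N47176 = N42652 := ded_54_1 (flp_i L360711) (flp_h L248143) (flp_i L247626) L359933 L658631
theorem L658643 : sm ge N42556 = N47177 := rfl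
theorem L658645 : sm ga N47177 = N42586 := ded_13_1 (flp_e L360193) (flp_a L359945) L658643
theorem L658647 : sm gc N47177 = N42598 := ded_28_1 (flp_e L657996) L657994 L658643
theorem L658649 : sm gg N47177 = N42558 := ded_41_2 (flp_e L359964) (flp_g L359949) L658643
theorem L658651 : sm gj N47177 = N42600 := ded_42_2 (flp_e L658211) L658217 L658643
theorem L658653 : sm gh N47177 = N47177 := ded_43_2 (flp_e L658643) L359951 L658643
theorem L658654 : sm gi N42556 = N47178 := rfl
theorem L658656 : sm ga N47178 = N42587 := ded_18_1 (flp_i L360198) (flp_a L359945) L658654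
theorem L658658 : sm gd N47178 = N42557 := ded_39_1 (flp_i L359952) L359943 L658654
theorem L658660 : sm gf N47178 = N42857 := ded_48_1 (flp_i L362450) (flp_f L359947) L658654
theorem L658662 : sm gg N47178 = N42559 := ded_51_1 (flp_i L359969) (flp_g L359949) L658654
theorem L658664 : sm gi N42558 = N47179 := rfl
theorem L658666 : sm ga N47179 = N42589 := ded_18_1 (flp_i L360211) (flp_a L359966) L658664
theorem L658668 : sm ge N47179 = N42559 := ded_44_1 (flp_i L359969) L359964 L658664
theorem L658670 : sm gh N42559 = N47180 := rfl
theorem L658672 : sm ga N47180 = N42590 := ded_17_1 (flp_h L360215) (flp_a L359971) L658670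
theorem L658674 : sm gf N47180 = N42562 := ded_47_1 (flp_h L359994) (flp_f L359975) L658670
theorem L658676 : sm gd N47180 = N42657 := ded_38_1 (flp_h L360755) L248184 (flp_h L247653) (flp_d L359973) L658670
theorem L658678 : sm gi N47180 = N47180 := ded_54_2 (flp_h L658670) (flp_i L359969) L247644 L359969 L658670
theorem L658679 : sm gg N42563 = N47181 := rfl
theorem L658681 : sm ga N47181 = N42594 := ded_15_1 (flp_g L360242) (flp_a L360005) L658679
theorem L658683 : sm gb N47181 = N47181 := ded_23_1 (flp_g L658679) L360007 L658679
theorem L658684 : sm gd N47181 = N47181 := ded_36_1 (flp_g L658679) L360008 L658679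
theorem L658685 : sm ge N47181 = N42864 := ded_41_1 (flp_g L362507) (flp_e L360009) L658679
theorem L658687 : sm gi N47181 = N42661 := ded_51_2 (flp_g L360792) (flp_i L360013) L658679
theorem L658689 : sm gj N47181 = N45210 := ded_49_2 (flp_g L382540) (flp_j L262899) (flp_g L247682) L360003 L658679
theorem L658691 : sm gh N42563 = N47182 := rfl
theorem L658693 : sm ga N47182 = N42595 := ded_17_1 (flp_h L360253) (flp_a L360005) L658691
theorem L658695 : sm gb N47182 = N47182 := ded_25_1 (flp_h L658691) L360007 L658691
theorem L658696 : sm ge N47182 = N42865 := ded_43_1 (flp_h L362519) (flp_e L360009) L658691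
theorem L658698 : sm gf N47182 = N42565 := ded_47_1 (flp_h L360026) (flp_f L360011) L658691
theorem L658700 : sm gj N47182 = N42564 := ded_52_1 (flp_h L360015) L360003 L658691
theorem L658702 : sm gd N42564 = N47183 := rfl
theorem L658704 : sm ga N47183 = N42596 := ded_12_1 (flp_d L360263) (flp_a L360017) L658702
theorem L658706 : sm gb N47183 = N47183 := ded_20_1 (flp_d L658702) L360019 L658702
theorem L658707 : sm gf N47183 = N42566 := ded_35_2 (flp_d L360035) (flp_f L360022) L658702
theorem L658709 : sm gg N47183 = N45212 := ded_36_2 (flp_d L382561) (flp_g L360024) L658702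
theorem L658711 : sm ge N47183 = N46036 := ded_34_2 (flp_d L389190) L267407 L561899 (flp_e L360020) L658702
theorem L658713 : sm gh N47183 = N47183 := ded_38_2 (flp_d L658702) (flp_h L360015) L247677 L360015 L658702
theorem L658714 : sm gi N42564 = N47184 := rfl
theorem L658716 : sm ga N47184 = N42597 := ded_18_1 (flp_i L360272) (flp_a L360017) L658714
theorem L658718 : sm gb N47184 = N47184 := ded_26_1 (flp_i L658714) L360019 L658714
theorem L658719 : sm ge N47184 = N42867 := ded_44_1 (flp_i L362539) (flp_e L360020) L658714
theorem L658721 : sm gf N47184 = N42567 := ded_48_1 (flp_i L360043) (flp_f L360022) L658714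
theorem L658723 : sm gg N47184 = N45213 := ded_51_1 (flp_i L382569) (flp_g L360024) L658714
theorem L658725 : sm gh N47184 = N42664 := ded_54_1 (flp_i L360823) (flp_h L248225) (flp_i L247678) L360015 L658714
theorem L658727 : sm gi N42565 = N47185 := rfl
theorem L658729 : sm ga N47185 = N42599 := ded_18_1 (flp_i L360291) (flp_a L360028) L658727
theorem L658731 : sm gb N47185 = N47185 := ded_26_1 (flp_i L658727) L360030 L658727
theorem L658732 : sm ge N47185 = N42570 := ded_44_1 (flp_i L360070) (flp_e L360031) L658727
theorem L658734 : sm gj N47185 = N42567 := ded_53_1 (flp_i L360043) (flp_j L360033) L658727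
theorem L658736 : sm gh N47185 = N42666 := ded_54_1 (flp_i L360843) (flp_h L248236) (flp_i L247692) L360026 L658727
theorem L658738 : sm gc N42566 = N47186 := rfl
theorem L658740 : sm ga N47186 = N42600 := ded_11_1 (flp_c L360301) (flp_a L360037) L658738
theorem L658742 : sm ge N47186 = N42584 := ded_28_2 (flp_c L658047) L658049 L658738
theorem L658744 : sm gg N47186 = N42568 := ded_30_2 (flp_c L360054) (flp_g L360040) L658738
theorem L658746 : sm gj N47186 = N42586 := ded_31_2 (flp_c L658101) L658105 L658738
theorem L658748 : sm gh N47186 = N47186 := ded_32_2 (flp_c L658738) L360042 L658738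
theorem L658749 : sm gi N42566 = N47187 := rfl
theorem L658751 : sm ga N47187 = N42601 := ded_18_1 (flp_i L360306) (flp_a L360037) L658749
theorem L658753 : sm gb N47187 = N47187 := ded_26_1 (flp_i L658749) L360039 L658749
theorem L658754 : sm gd N47187 = N42567 := ded_39_1 (flp_i L360043) L360035 L658749
theorem L658756 : sm gg N47187 = N42569 := ded_51_1 (flp_i L360061) (flp_g L360040) L658749
theorem L658758 : sm gb N42568 = N47188 := rfl
theorem L658760 : sm gf N47188 = N45218 := ded_22_2 (flp_b L382618) (flp_f L360058) L658758
theorem L658762 : sm gh N47188 = N47188 := ded_25_2 (flp_b L658758) L360060 L658758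
theorem L658763 : sm gc N47188 = N47188 := ded_19_2 (flp_b L658758) (flp_c L360054) L247707 L360054 L658758
theorem L658764 : sm gi N42568 = N47189 := rfl
theorem L658766 : sm ga N47189 = N42603 := ded_18_1 (flp_i L360321) (flp_a L360056) L658764
theorem L658768 : sm gc N47189 = N42569 := ded_33_1 (flp_i L360061) L360054 L658764
theorem L658770 : sm gf N47189 = N45219 := ded_48_1 (flp_i L382623) (flp_f L360058) L658764
theorem L658772 : sm gh N42569 = N47190 := rfl
theorem L658774 : sm ga N47190 = N42604 := ded_17_1 (flp_h L360327) (flp_a L360063) L658772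
theorem L658776 : sm gb N47190 = N47190 := ded_25_1 (flp_h L658772) L360065 L658772
theorem L658777 : sm gf N47190 = N45220 := ded_47_1 (flp_h L382630) (flp_f L360068) L658772
theorem L658779 : sm gd N47190 = N42671 := ded_38_1 (flp_h L360886) L248276 (flp_h L247720) (flp_d L360066) L658772
theorem L658781 : sm gi N47190 = N47190 := ded_54_2 (flp_h L658772) (flp_i L360061) L247710 L360061 L658772
theorem L658782 : sm ge N42571 = N47191 := rfl
theorem L658784 : sm ga N47191 = N45664 := ded_13_1 L658519 L658508 L658782
theorem L658786 : sm gb N47191 = N44826 := ded_21_1 L652680 L652670 L658782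
theorem L658788 : sm gc N47191 = N47191 := ded_28_1 (flp_e L658782) L360083 L658782
theorem L658789 : sm gg N47191 = N44792 := ded_41_2 L615394 (flp_g L360088) L658782
theorem L658791 : sm gi N47191 = N42672 := ded_44_2 (flp_e L360895) (flp_i L360086) L658782
theorem L658793 : sm gd N47191 = N42875 := ded_34_1 (flp_e L362618) L249446 (flp_e L247762) (flp_d L360084) L658782
theorem L658795 : sm gf N47191 = N47191 := ded_40_2 (flp_e L658782) (flp_f L360081) L247747 L360081 L658782
theorem L658796 : sm gj N42571 = N47192 := rfl
theorem L658798 : sm gc N47192 = N47192 := ded_31_1 (flp_j L658796) L360083 L658796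
theorem L658799 : sm gd N47192 = N42576 := ded_37_1 (flp_j L360118) (flp_d L360084) L658796
theorem L658801 : sm gf N47192 = N42572 := ded_46_1 (flp_j L360090) L360081 L658796
theorem L658803 : sm gi N47192 = N42673 := ded_53_2 (flp_j L360903) (flp_i L360086) L658796
theorem L658805 : sm gh N42571 = N47193 := rfl
theorem L658807 : sm gc N47193 = N47193 := ded_32_1 (flp_h L658805) L360083 L658805
theorem L658808 : sm gf N47193 = N42573 := ded_47_1 (flp_h L360098) L360081 L658805
theorem L658810 : sm gg N47193 = N45223 := ded_50_1 (flp_h L382657) (flp_g L360088) L658805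
theorem L658812 : sm gh N42572 = N47194 := rfl
theorem L658814 : sm gb N47194 = N46399 := ded_25_1 L652697 L652686 L658812
theorem L658816 : sm gc N47194 = N47194 := ded_32_1 (flp_h L658812) L360092 L658812
theorem L658817 : sm ge N47194 = N47194 := ded_43_1 (flp_h L658812) L360095 L658812
theorem L658818 : sm gg N47194 = N46396 := ded_50_1 L656901 L656899 L658812
theorem L658820 : sm gj N47194 = N42573 := ded_52_1 (flp_h L360098) L360090 L658812
theorem L658822 : sm gd N42573 = N47195 := rfl
theorem L658824 : sm gg N47195 = N42574 := ded_36_2 (flp_d L360104) (flp_g L360102) L658822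
theorem L658826 : sm gh N47195 = N42579 := ded_38_2 (flp_d L360146) (flp_h L247774) (flp_d L247745) L360098 L658822
theorem L658828 : sm gi N42573 = N47196 := rfl
theorem L658830 : sm gc N47196 = N47196 := ded_33_1 (flp_i L658828) L360100 L658828
theorem L658831 : sm ge N47196 = N47196 := ded_44_1 (flp_i L658828) L360101 L658828
theorem L658832 : sm gg N47196 = N42575 := ded_51_1 (flp_i L360110) (flp_g L360102) L658828
theorem L658834 : sm gh N47196 = N42677 := ded_54_1 (flp_i L360929) (flp_h L248304) (flp_i L247748) L360098 L658828
theorem L658836 : sm gc N42574 = N47197 := rfl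
theorem L658838 : sm gf N47197 = N45227 := ded_29_2 (flp_c L382684) (flp_f L360106) L658836
theorem L658840 : sm gh N47197 = N42581 := ded_32_2 (flp_c L360160) (flp_h L360108) L658836
theorem L658842 : sm gd N47197 = N47197 := ded_27_2 (flp_c L658836) (flp_d L360104) L247752 L360104 L658836
theorem L658843 : sm ge N42574 = N47198 := rfl
theorem L658845 : sm gh N47198 = N42582 := ded_43_2 (flp_e L360166) (flp_h L360108) L658843
theorem L658847 : sm gd N47198 = N47198 := ded_34_1 (flp_e L658843) (flp_d L360104) L247753 L360104 L658843
theorem L658848 : sm gi N42574 = N47199 := rfl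
theorem L658850 : sm gd N47199 = N42575 := ded_39_1 (flp_i L360110) L360104 L658848
theorem L658852 : sm gf N47199 = N45229 := ded_48_1 (flp_i L382695) (flp_f L360106) L658848
theorem L658854 : sm gg N42576 = N47200 := rfl
theorem L658856 : sm gc N47200 = N42594 := ded_30_1 (flp_g L360242) (flp_c L360120) L658854
theorem L658858 : sm ge N47200 = N42884 := ded_41_1 (flp_g L362690) (flp_e L360122) L658854
theorem L658860 : sm gi N47200 = N42681 := ded_51_2 (flp_g L360953) (flp_i L360126) L658854
theorem L658862 : sm gj N47200 = N45230 := ded_49_2 (flp_g L382699) (flp_j L263009) (flp_g L247764) L360118 L658854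
theorem L658864 : sm gh N42576 = N47201 := rfl
theorem L658866 : sm gc N47201 = N42595 := ded_32_1 (flp_h L360253) (flp_c L360120) L658864
theorem L658868 : sm ge N47201 = N42885 := ded_43_1 (flp_h L362699) (flp_e L360122) L658864
theorem L658870 : sm gf N47201 = N42578 := ded_47_1 (flp_h L360138) (flp_f L360124) L658864
theorem L658872 : sm gj N47201 = N42577 := ded_52_1 (flp_h L360128) L360118 L658864
theorem L658874 : sm gd N42577 = N47202 := rfl
theorem L658876 : sm gf N47202 = N42579 := ded_35_2 (flp_d L360146) (flp_f L360134) L658874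
theorem L658878 : sm gg N47202 = N45232 := ded_36_2 (flp_d L382717) (flp_g L360136) L658874
theorem L658880 : sm gi N42577 = N47203 := rfl
theorem L658882 : sm gc N47203 = N42597 := ded_33_1 (flp_i L360272) (flp_c L360130) L658880
theorem L658884 : sm ge N47203 = N42887 := ded_44_1 (flp_i L362713) (flp_e L360132) L658880
theorem L658886 : sm gf N47203 = N42580 := ded_48_1 (flp_i L360150) (flp_f L360134) L658880
theorem L658888 : sm gg N47203 = N45233 := ded_51_1 (flp_i L382721) (flp_g L360136) L658880
theorem L658890 : sm gh N47203 = N42684 := ded_54_1 (flp_i L360977) (flp_h L248330) (flp_i L247760) L360128 L658880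
theorem L658892 : sm gd N42578 = N47204 := rfl
theorem L658894 : sm gj N47204 = N42579 := ded_37_2 (flp_d L360146) (flp_j L360144) L658892
theorem L658896 : sm gi N42578 = N47205 := rfl
theorem L658898 : sm gc N47205 = N42599 := ded_33_1 (flp_i L360291) (flp_c L360140) L658896
theorem L658900 : sm ge N47205 = N42585 := ded_44_1 (flp_i L360183) (flp_e L360142) L658896
theorem L658902 : sm gj N47205 = N42580 := ded_53_1 (flp_i L360150) (flp_j L360144) L658896
theorem L658904 : sm gh N47205 = N42686 := ded_54_1 (flp_i L360991) (flp_h L248340) (flp_i L247772) L360138 L658896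
theorem L658906 : sm gc N42579 = N47206 := rfl
theorem L658908 : sm gg N47206 = N42581 := ded_30_2 (flp_c L360160) (flp_g L360148) L658906
theorem L658910 : sm gd N47206 = N42600 := ded_27_2 (flp_c L360301) (flp_d L247879) (flp_c L247776) L360146 L658906
theorem L658912 : sm ge N42579 = N47207 := rfl
theorem L658914 : sm gg N47207 = N42582 := ded_41_2 (flp_e L360166) (flp_g L360148) L658912
theorem L658916 : sm gd N47207 = N42586 := ded_34_1 (flp_e L360193) (flp_d L247804) (flp_e L247778) L360146 L658912
theorem L658918 : sm gi N42579 = N47208 := rfl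
theorem L658920 : sm gd N47208 = N42580 := ded_39_1 (flp_i L360150) L360146 L658918
theorem L658922 : sm gg N47208 = N42583 := ded_51_1 (flp_i L360170) (flp_g L360148) L658918
theorem L658924 : sm gb N42581 = N47209 := rfl
theorem L658926 : sm gd N47209 = N42602 := ded_20_2 (flp_b L360314) (flp_d L360164) L658924
theorem L658928 : sm gf N47209 = N45239 := ded_22_2 (flp_b L382763) (flp_f L360162) L658924
theorem L658930 : sm ge N42581 = N47210 := rfl
theorem L658932 : sm gc N47210 = N42582 := ded_28_1 (flp_e L360166) L360160 L658930
theorem L658934 : sm gi N42581 = N47211 := rfl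
theorem L658936 : sm gc N47211 = N42583 := ded_33_1 (flp_i L360170) L360160 L658934
theorem L658938 : sm gd N47211 = N42603 := ded_39_1 (flp_i L360321) (flp_d L360164) L658934
theorem L658940 : sm gf N47211 = N45241 := ded_48_1 (flp_i L382772) (flp_f L360162) L658934
theorem L658942 : sm gf N42582 = N47212 := rfl
theorem L658944 : sm gb N47212 = N42649 := ded_22_1 (flp_f L652813) L652809 L658942
theorem L658946 : sm gd N47212 = N42588 := ded_35_1 (flp_f L360206) (flp_d L360168) L658942
theorem L658948 : sm ge N47212 = N42625 := ded_40_1 L553474 (flp_e L263053) (flp_f L247784) L360166 L658942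
theorem L658950 : sm gi N42582 = N47213 := rfl
theorem L658952 : sm gd N47213 = N42589 := ded_39_1 (flp_i L360211) (flp_d L360168) L658950
theorem L658954 : sm ge N47213 = N42583 := ded_44_1 (flp_i L360170) L360166 L658950
theorem L658956 : sm gh N42583 = N47214 := rfl
theorem L658958 : sm gf N47214 = N45244 := ded_47_1 (flp_h L382788) (flp_f L360174) L658956
theorem L658960 : sm gd N47214 = N42695 := ded_38_1 (flp_h L361048) L248372 (flp_h L247794) (flp_d L360172) L658956
theorem L658962 : sm gi N42584 = N47215 := rfl
theorem L658964 : sm gd N47215 = N42585 := ded_39_1 (flp_i L360183) L360176 L658962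
theorem L658966 : sm gf N47215 = N42900 := ded_48_1 (flp_i L362805) (flp_f L360178) L658962
theorem L658968 : sm gj N47215 = N42587 := ded_53_1 (flp_i L360198) (flp_j L360180) L658962
theorem L658970 : sm gf N42586 = N47216 := rfl
theorem L658972 : sm gh N47216 = N47216 := ded_47_2 (flp_f L658970) L360197 L658970
theorem L658973 : sm ge N47216 = N42901 := ded_40_1 (flp_f L362812) (flp_e L249559) (flp_f L247806) L360193 L658970
theorem L658975 : sm gi N42586 = N47217 := rfl
theorem L658977 : sm ge N47217 = N42587 := ded_44_1 (flp_i L360198) L360193 L658975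
theorem L658979 : sm gg N47217 = N42589 := ded_51_1 (flp_i L360211) (flp_g L360195) L658975
theorem L658981 : sm gh N42587 = N47218 := rfl
theorem L658983 : sm gf N47218 = N42903 := ded_47_1 (flp_h L362821) (flp_f L360202) L658981
theorem L658985 : sm gg N47218 = N42590 := ded_50_1 (flp_h L360215) (flp_g L360204) L658981
theorem L658987 : sm gd N47218 = N42700 := ded_38_1 (flp_h L361080) L248401 (flp_h L247819) (flp_d L360200) L658981
theorem L658989 : sm gi N47218 = N47218 := ded_54_2 (flp_h L658981) (flp_i L360198) L247810 L360198 L658981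
theorem L658990 : sm gg N42588 = N47219 := rfl
theorem L658992 : sm ga N47219 = N45437 := ded_15_1 (flp_g L653273) L653267 L658990
theorem L658994 : sm gb N47219 = N42653 := ded_23_1 L360726 (flp_b L550815) L658990
theorem L658996 : sm gc N47219 = N45461 := ded_30_1 L658133 L658126 L658990
theorem L658998 : sm ge N47219 = N42591 := ded_41_1 (flp_g L360222) (flp_e L360209) L658990
theorem L659000 : sm gh N47219 = N47219 := ded_50_2 (flp_g L658990) L360208 L658990
theorem L659001 : sm gj N47219 = N45440 := ded_49_2 L384299 (flp_j L381996) L657050 L657045 L658990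
theorem L659003 : sm gi N42588 = N47220 := rfl
theorem L659005 : sm gb N47220 = N42656 := ded_26_1 (flp_i L360748) (flp_b L550815) L659003
theorem L659007 : sm ge N47220 = N42592 := ded_44_1 (flp_i L360229) (flp_e L360209) L659003
theorem L659009 : sm gf N47220 = N42589 := ded_48_1 (flp_i L360211) L360206 L659003
theorem L659011 : sm gh N42589 = N47221 := rfl
theorem L659013 : sm ge N47221 = N42590 := ded_43_1 (flp_h L360215) (flp_e L360213) L659011
theorem L659015 : sm gi N47221 = N47221 := ded_54_2 (flp_h L659011) (flp_i L360211) L247823 L360211 L659011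
theorem L659016 : sm gi N42591 = N47222 := rfl
theorem L659018 : sm ga N47222 = N46416 := ded_18_1 (flp_i L650011) L648362 L659016
theorem L659020 : sm gb N47222 = N42654 := ded_26_1 (flp_i L360729) (flp_b L506546) L659016
theorem L659022 : sm gc N47222 = N46432 := ded_33_1 (flp_i L650135) (flp_c L649361) L659016
theorem L659024 : sm gd N47222 = N42629 := ded_39_1 (flp_i L360521) L553456 L659016
theorem L659026 : sm gf N47222 = N42908 := ded_48_1 (flp_i L362852) (flp_f L360227) L659016
theorem L659028 : sm gg N47222 = N42592 := ded_51_1 (flp_i L360229) L360222 L659016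
theorem L659030 : sm gj N47222 = N46418 := ded_53_1 (flp_i L650026) (flp_j L649363) L659016
theorem L659032 : sm gh N42592 = N47223 := rfl
theorem L659034 : sm gb N47223 = N42657 := ded_25_1 (flp_h L360755) (flp_b L550810) L659032
theorem L659036 : sm gf N47223 = N42593 := ded_47_1 (flp_h L360235) (flp_f L360233) L659032
theorem L659038 : sm gi N47223 = N47223 := ded_54_2 (flp_h L659032) (flp_i L360229) L247834 L360229 L659032
theorem L659039 : sm gh N42594 = N47224 := rfl
theorem L659041 : sm gb N47224 = N42605 := ded_25_1 (flp_h L360336) (flp_b L360244) L659039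
theorem L659043 : sm ge N47224 = N42911 := ded_43_1 (flp_h L362872) (flp_e L360247) L659039
theorem L659045 : sm gf N47224 = N44573 := ded_47_1 L657105 L657101 L659039
theorem L659047 : sm gg N47224 = N42595 := ded_50_1 (flp_h L360253) L360242 L659039
theorem L659049 : sm gj N47224 = N44568 := ded_52_1 L641037 (flp_j L360251) L659039
theorem L659051 : sm gd N45449 = N47224 := ded_20_0 L659041 L641011 L384362
theorem L659053 : sm gd N42595 = N47225 := rfl
theorem L659055 : sm gb N47225 = N42606 := ded_20_1 (flp_d L360345) (flp_b L360255) L659053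
theorem L659057 : sm gf N47225 = N42598 := ded_35_2 (flp_d L360284) (flp_f L360259) L659053
theorem L659059 : sm gg N47225 = N45449 := ded_36_2 L659051 L659047 L659053
theorem L659061 : sm gj N47225 = N42596 := ded_37_2 (flp_d L360263) (flp_j L360261) L659053
theorem L659063 : sm gh N47225 = N47225 := ded_38_2 (flp_d L659053) (flp_h L360253) L247854 L360253 L659053
theorem L659064 : sm gi N42595 = N47226 := rfl
theorem L659066 : sm gb N47226 = N42607 := ded_26_1 (flp_i L360353) (flp_b L360255) L659064
theorem L659068 : sm ge N47226 = N42913 := ded_44_1 (flp_i L362891) (flp_e L360257) L659064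
theorem L659070 : sm gf N47226 = N42599 := ded_48_1 (flp_i L360291) (flp_f L360259) L659064
theorem L659072 : sm gj N47226 = N42597 := ded_53_1 (flp_i L360272) (flp_j L360261) L659064
theorem L659074 : sm gh N47226 = N42710 := ded_54_1 (flp_i L361156) (flp_h L248456) (flp_i L247859) L360253 L659064
theorem L659076 : sm gc N42596 = N47227 := rfl
theorem L659078 : sm gf N47227 = N42600 := ded_29_2 (flp_c L360301) (flp_f L360267) L659076
theorem L659080 : sm gg N47227 = N45260 := ded_30_2 (flp_c L382912) (flp_g L360269) L659076
theorem L659082 : sm gh N47227 = N47227 := ded_32_2 (flp_c L659076) L360271 L659076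
theorem L659083 : sm ge N42596 = N47228 := rfl
theorem L659085 : sm ga N47228 = N46036 := ded_13_1 (flp_e L658711) L658704 L659083
theorem L659087 : sm gb N47228 = N42609 := ded_21_1 (flp_e L360372) (flp_b L360265) L659083
theorem L659089 : sm gg N47228 = N45261 := ded_41_2 (flp_e L382917) (flp_g L360269) L659083
theorem L659091 : sm gh N47228 = N47228 := ded_43_2 (flp_e L659083) L360271 L659083
theorem L659092 : sm gd N47228 = N42915 := ded_34_1 (flp_e L362909) (flp_d L249626) (flp_e L247865) L360263 L659083
theorem L659094 : sm gf N47228 = N46554 := ded_40_2 (flp_e L658188) L658181 L359647 (flp_f L360267) L659083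
theorem L659096 : sm gi N42596 = N47229 := rfl
theorem L659098 : sm gb N47229 = N42610 := ded_26_1 (flp_i L360380) (flp_b L360265) L659096
theorem L659100 : sm gd N47229 = N42597 := ded_39_1 (flp_i L360272) L360263 L659096
theorem L659102 : sm gf N47229 = N42601 := ded_48_1 (flp_i L360306) (flp_f L360267) L659096
theorem L659104 : sm gg N47229 = N45262 := ded_51_1 (flp_i L382925) (flp_g L360269) L659096
theorem L659106 : sm gi N42598 = N47230 := rfl
theorem L659108 : sm gb N47230 = N42612 := ded_26_1 (flp_i L360395) (flp_b L360286) L659106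
theorem L659110 : sm gd N47230 = N42599 := ded_39_1 (flp_i L360291) L360284 L659106
theorem L659112 : sm gj N47230 = N42601 := ded_53_1 (flp_i L360306) (flp_j L360288) L659106
theorem L659114 : sm gb N42600 = N47231 := rfl
theorem L659116 : sm gg N47231 = N42602 := ded_23_2 (flp_b L360314) (flp_g L360303) L659114
theorem L659118 : sm gh N47231 = N47231 := ded_25_2 (flp_b L659114) L360305 L659114
theorem L659119 : sm gc N47231 = N42613 := ded_19_2 (flp_b L360402) (flp_c L247972) (flp_b L247881) L360301 L659114
theorem L659121 : sm gi N42600 = N47232 := rfl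
theorem L659123 : sm gc N47232 = N42601 := ded_33_1 (flp_i L360306) L360301 L659121
theorem L659125 : sm gg N47232 = N42603 := ded_51_1 (flp_i L360321) (flp_g L360303) L659121
theorem L659127 : sm gh N42601 = N47233 := rfl
theorem L659129 : sm gb N47233 = N42615 := ded_25_1 (flp_h L360414) (flp_b L360308) L659127
theorem L659131 : sm gg N47233 = N42604 := ded_50_1 (flp_h L360327) (flp_g L360312) L659127
theorem L659133 : sm gd N47233 = N42718 := ded_38_1 (flp_h L361223) L248511 (flp_h L247894) (flp_d L360310) L659127
theorem L659135 : sm gi N47233 = N47233 := ded_54_2 (flp_h L659127) (flp_i L360306) L247885 L360306 L659127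
theorem L659136 : sm ga N42602 = N47234 := rfl
theorem L659138 : sm gc N47234 = N42616 := ded_11_2 (flp_a L360422) (flp_c L360319) L659136
theorem L659140 : sm gf N47234 = N45268 := ded_14_2 (flp_a L382973) (flp_f L360316) L659136
theorem L659142 : sm gh N47234 = N47234 := ded_17_2 (flp_a L659136) L360318 L659136
theorem L659143 : sm gi N42602 = N47235 := rfl
theorem L659145 : sm gb N47235 = N42603 := ded_26_1 (flp_i L360321) L360314 L659143
theorem L659147 : sm gc N47235 = N42617 := ded_33_1 (flp_i L360428) (flp_c L360319) L659143
theorem L659149 : sm gf N47235 = N45269 := ded_48_1 (flp_i L382979) (flp_f L360316) L659143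
theorem L659151 : sm gh N42603 = N47236 := rfl
theorem L659153 : sm gc N47236 = N42604 := ded_32_1 (flp_h L360327) (flp_c L360323) L659151
theorem L659155 : sm gf N47236 = N45270 := ded_47_1 (flp_h L382986) (flp_f L360325) L659151
theorem L659157 : sm gi N47236 = N47236 := ded_54_2 (flp_h L659151) (flp_i L360321) L247900 L360321 L659151
theorem L659158 : sm gi N42605 = N47237 := rfl
theorem L659160 : sm ga N47237 = N47237 := ded_18_1 (flp_i L659158) L360338 L659158
theorem L659161 : sm gc N47237 = N44567 := ded_33_1 (flp_i L377031) (flp_c L641009) L659158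
theorem L659163 : sm gd N47237 = N45451 := ded_39_1 (flp_i L384379) (flp_d L641011) L659158
theorem L659165 : sm ge N47237 = N42926 := ded_44_1 (flp_i L363004) (flp_e L360339) L659158
theorem L659167 : sm gf N47237 = N44574 := ded_48_1 (flp_i L377081) (flp_f L641013) L659158
theorem L659169 : sm gg N47237 = N42607 := ded_51_1 (flp_i L360353) (flp_g L360341) L659158
theorem L659171 : sm gj N47237 = N44570 := ded_53_1 (flp_i L377052) (flp_j L641015) L659158
theorem L659173 : sm gh N47237 = N42723 := ded_54_1 (flp_i L361264) (flp_h L248539) (flp_i L247925) L360336 L659158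
theorem L659175 : sm ge N42606 = N47238 := rfl
theorem L659177 : sm ga N47238 = N47238 := ded_13_1 (flp_e L659175) L360347 L659175
theorem L659178 : sm gc N47238 = N43716 := ded_28_1 L646992 (flp_c L649142) L659175
theorem L659180 : sm gg N47238 = N45450 := ded_41_2 (flp_e L384369) (flp_g L649144) L659175
theorem L659182 : sm gj N47238 = N42609 := ded_42_2 (flp_e L360372) (flp_j L360350) L659175
theorem L659184 : sm gh N47238 = N47238 := ded_43_2 (flp_e L659175) L360352 L659175
theorem L659185 : sm gd N47238 = N42928 := ded_34_1 (flp_e L363023) (flp_d L249715) (flp_e L247932) L360345 L659175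
theorem L659187 : sm gf N47238 = N43500 := ded_40_2 (flp_e L658267) L658261 L359726 (flp_f L360348) L659175
theorem L659189 : sm gi N42606 = N47239 := rfl
theorem L659191 : sm ga N47239 = N47239 := ded_18_1 (flp_i L659189) L360347 L659189
theorem L659192 : sm gc N47239 = N45448 := ded_33_1 (flp_i L384355) (flp_c L649142) L659189
theorem L659194 : sm gd N47239 = N42607 := ded_39_1 (flp_i L360353) L360345 L659189
theorem L659196 : sm gf N47239 = N42612 := ded_48_1 (flp_i L360395) (flp_f L360348) L659189
theorem L659198 : sm gg N47239 = N45451 := ded_51_1 (flp_i L384379) (flp_g L649144) L659189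
theorem L659200 : sm gj N47239 = N42610 := ded_53_1 (flp_i L360380) (flp_j L360350) L659189
theorem L659202 : sm gb N42608 = N47240 := rfl
theorem L659204 : sm gd N47240 = N42708 := ded_20_2 L361139 (flp_d L637053) L659202
theorem L659206 : sm gf N47240 = N42613 := ded_22_2 (flp_b L360402) (flp_f L360367) L659202
theorem L659208 : sm gg N47240 = N42709 := ded_23_2 L361149 (flp_g L637055) L659202
theorem L659210 : sm gj N47240 = N45427 := ded_24_2 L384189 (flp_j L637057) L659202
theorem L659212 : sm gh N47240 = N47240 := ded_25_2 (flp_b L659202) L360371 L659202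
theorem L659213 : sm ge N42608 = N47241 := rfl
theorem L659215 : sm ga N47241 = N47241 := ded_13_1 (flp_e L659213) L360366 L659213
theorem L659216 : sm gc N47241 = N42609 := ded_28_1 (flp_e L360372) L360364 L659213
theorem L659218 : sm gg N47241 = N42725 := ded_41_2 (flp_e L361281) (flp_g L637055) L659213
theorem L659220 : sm gj N47241 = N43716 := ded_42_2 L646992 (flp_j L637057) L659213
theorem L659222 : sm gh N47241 = N47241 := ded_43_2 (flp_e L659213) L360371 L659213
theorem L659223 : sm gd N47241 = N43101 := ded_34_1 (flp_e L364447) (flp_d L250658) (flp_e L248542) (flp_d L637053) L659213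
theorem L659225 : sm gf N47241 = N43720 := ded_40_2 L658297 L658290 L359741 (flp_f L360367) L659213
theorem L659227 : sm gi N42608 = N47242 := rfl
theorem L659229 : sm ga N47242 = N47242 := ded_18_1 (flp_i L659227) L360366 L659227
theorem L659230 : sm gc N47242 = N42610 := ded_33_1 (flp_i L360380) L360364 L659227
theorem L659232 : sm gd N47242 = N42723 := ded_39_1 (flp_i L361264) (flp_d L637053) L659227
theorem L659234 : sm gf N47242 = N42614 := ded_48_1 (flp_i L360407) (flp_f L360367) L659227
theorem L659236 : sm gg N47242 = N42726 := ded_51_1 (flp_i L361290) (flp_g L637055) L659227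
theorem L659238 : sm gj N47242 = N45448 := ded_53_1 (flp_i L384355) (flp_j L637057) L659227
theorem L659240 : sm gi N42609 = N47243 := rfl
theorem L659242 : sm ga N47243 = N47243 := ded_18_1 (flp_i L659240) L360374 L659240
theorem L659243 : sm gd N47243 = N42933 := ded_39_1 (flp_i L363065) (flp_d L360378) L659240
theorem L659245 : sm ge N47243 = N42610 := ded_44_1 (flp_i L360380) L360372 L659240
theorem L659247 : sm gg N47243 = N45279 := ded_51_1 (flp_i L383052) (flp_g L360375) L659240
theorem L659249 : sm gh N42610 = N47244 := rfl
theorem L659251 : sm ga N47244 = N47244 := ded_17_1 (flp_h L659249) L360382 L659249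
theorem L659252 : sm gf N47244 = N42615 := ded_47_1 (flp_h L360414) (flp_f L360385) L659249
theorem L659254 : sm gg N47244 = N45280 := ded_50_1 (flp_h L383060) (flp_g L360387) L659249
theorem L659256 : sm gd N47244 = N42731 := ded_38_1 (flp_h L361334) L248585 (flp_h L247955) (flp_d L360383) L659249
theorem L659258 : sm gi N47244 = N47244 := ded_54_2 (flp_h L659249) (flp_i L360380) L247945 L360380 L659249
theorem L659259 : sm gb N42611 = N47245 := rfl
theorem L659261 : sm gd N47245 = N45135 := ded_20_2 L381897 (flp_d L649150) L659259
theorem L659263 : sm gf N47245 = N45427 := ded_22_2 L384189 (flp_f L649152) L659259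
theorem L659265 : sm gg N47245 = N45136 := ded_23_2 L381906 (flp_g L649154) L659259
theorem L659267 : sm gj N47245 = N42613 := ded_24_2 (flp_b L360402) (flp_j L360392) L659259
theorem L659269 : sm gh N47245 = N47245 := ded_25_2 (flp_b L659259) L360394 L659259
theorem L659270 : sm gi N42611 = N47246 := rfl
theorem L659272 : sm ga N47246 = N47246 := ded_18_1 (flp_i L659270) L360391 L659270
theorem L659273 : sm gc N47246 = N42612 := ded_33_1 (flp_i L360395) L360389 L659270
theorem L659275 : sm gd N47246 = N44578 := ded_39_1 L641177 (flp_d L649150) L659270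
theorem L659277 : sm gf N47246 = N45448 := ded_48_1 (flp_i L384355) (flp_f L649152) L659270
theorem L659279 : sm gg N47246 = N44581 := ded_51_1 L641184 (flp_g L649154) L659270
theorem L659281 : sm gj N47246 = N42614 := ded_53_1 (flp_i L360407) (flp_j L360392) L659270
theorem L659283 : sm gh N45466 = N47246 := ded_38_0 L659275 (flp_h L377114) L259252 L264241 L384502
theorem L659285 : sm gh N42612 = N47247 := rfl
theorem L659287 : sm ga N47247 = N47247 := ded_17_1 (flp_h L659285) L360397 L659285
theorem L659288 : sm gc N47247 = N45466 := ded_32_1 L659283 L659273 L659285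
theorem L659290 : sm gg N47247 = N45289 := ded_50_1 L657215 L657211 L659285
theorem L659292 : sm gj N47247 = N42615 := ded_52_1 (flp_h L360414) (flp_j L360400) L659285
theorem L659294 : sm gd N47247 = N42734 := ded_38_1 (flp_h L361356) L248601 (flp_h L247970) (flp_d L360398) L659285
theorem L659296 : sm gi N47247 = N47247 := ded_54_2 (flp_h L659285) (flp_i L360395) L247962 L360395 L659285
theorem L659297 : sm ga N42613 = N47248 := rfl
theorem L659299 : sm gg N47248 = N42616 := ded_15_2 (flp_a L360422) (flp_g L360404) L659297
theorem L659301 : sm gh N47248 = N47248 := ded_17_2 (flp_a L659297) L360406 L659297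
theorem L659302 : sm gb N47248 = N47248 := ded_10_2 (flp_a L659297) (flp_b L360402) L247974 L360402 L659297
theorem L659303 : sm gi N42613 = N47249 := rfl
theorem L659305 : sm gb N47249 = N42614 := ded_26_1 (flp_i L360407) L360402 L659303
theorem L659307 : sm gg N47249 = N42617 := ded_51_1 (flp_i L360428) (flp_g L360404) L659303
theorem L659309 : sm gh N42614 = N47250 := rfl
theorem L659311 : sm ga N47250 = N47250 := ded_17_1 (flp_h L659309) L360409 L659309
theorem L659312 : sm gc N47250 = N42615 := ded_32_1 (flp_h L360414) (flp_c L360410) L659309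
theorem L659314 : sm gg N47250 = N42618 := ded_50_1 (flp_h L360434) (flp_g L360412) L659309
theorem L659316 : sm gj N47250 = N45466 := ded_52_1 L659283 L659281 L659309
theorem L659318 : sm gd N47250 = N45463 := ded_38_1 (flp_h L384474) (flp_d L377086) (flp_h L653122) L653113 L659309
theorem L659320 : sm gi N47250 = N47250 := ded_54_2 (flp_h L659309) (flp_i L360407) L247977 L360407 L659309
theorem L659321 : sm gi N42616 = N47251 := rfl
theorem L659323 : sm ga N47251 = N42617 := ded_18_1 (flp_i L360428) L360422 L659321
theorem L659325 : sm gb N47251 = N47251 := ded_26_1 (flp_i L659321) L360427 L659321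
theorem L659326 : sm gf N47251 = N45287 := ded_48_1 (flp_i L383114) (flp_f L360424) L659321
theorem L659328 : sm gh N42617 = N47252 := rfl
theorem L659330 : sm gb N47252 = N42618 := ded_25_1 (flp_h L360434) (flp_b L360430) L659328
theorem L659332 : sm gf N47252 = N45288 := ded_47_1 (flp_h L383120) (flp_f L360432) L659328
theorem L659334 : sm gi N47252 = N47252 := ded_54_2 (flp_h L659328) (flp_i L360428) L247989 L360428 L659328
theorem L659335 : sm gd N42618 = N47253 := rfl
theorem L659337 : sm ga N47253 = N47253 := ded_12_1 (flp_d L659335) L360436 L659335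
theorem L659338 : sm gf N47253 = N45289 := ded_35_2 (flp_d L383126) (flp_f L360439) L659335
theorem L659340 : sm gg N47253 = N45463 := ded_36_2 (flp_d L659318) L659314 L659335
theorem L659342 : sm gj N47253 = N45164 := ded_37_2 (flp_d L657266) L657264 L659335
theorem L659344 : sm gi N47253 = N47253 := ded_39_2 (flp_d L659335) L360441 L659335
theorem L659345 : sm gc N47253 = N42740 := ded_27_1 (flp_d L361402) L248644 (flp_d L248002) (flp_c L360437) L659335
theorem L659347 : sm gh N47253 = N45160 := ded_38_2 L653161 (flp_h L653147) L355231 L360434 L659335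
theorem L659349 : sm ge N46366 = N47253 := ded_41_3 L659340 L384479 (flp_g L649631)
theorem L659351 : sm gg N42619 = N47254 := rfl
theorem L659353 : sm ga N47254 = N44146 := ded_15_1 L373376 (flp_a L641116) L659351
theorem L659355 : sm gb N47254 = N47254 := ded_23_1 (flp_g L659351) L360447 L659351
theorem L659356 : sm gc N47254 = N42620 := ded_30_1 (flp_g L360449) L360442 L659351
theorem L659358 : sm gd N47254 = N47254 := ded_36_1 (flp_g L659351) L360448 L659351
theorem L659359 : sm ge N47254 = N47254 := ded_41_1 (flp_g L659351) L360444 L659351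
theorem L659360 : sm gh N47254 = N44576 := ded_50_2 L377102 (flp_h L641121) L659351
theorem L659362 : sm gi N47254 = N45088 := ded_51_2 (flp_g L381521) (flp_i L617644) L659351
theorem L659364 : sm gf N47254 = N45210 := ded_45_1 (flp_g L382540) L262907 (flp_g L261637) (flp_f L617640) L659351
theorem L659366 : sm gf N42620 = N47255 := rfl
theorem L659368 : sm ga N47255 = N45230 := ded_14_1 (flp_f L653178) L653165 L659366
theorem L659370 : sm gb N47255 = N42638 := ded_22_1 (flp_f L360590) (flp_b L360451) L659366
theorem L659372 : sm gc N47255 = N45210 := ded_29_1 (flp_f L659364) L659356 L659366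
theorem L659374 : sm gd N47255 = N42622 := ded_35_1 (flp_f L360463) (flp_d L360453) L659366
theorem L659376 : sm gi N47255 = N45331 := ded_48_2 (flp_f L658409) L658407 L659366
theorem L659378 : sm gg N47255 = N45192 := ded_45_2 L382383 (flp_g L617621) (flp_f L248009) L360449 L659366
theorem L659380 : sm ge N45511 = N47255 := ded_13_0 L659368 L382703 (flp_a L384877)
theorem L659382 : sm gj N42620 = N47256 := rfl
theorem L659384 : sm gb N47256 = N42639 := ded_24_1 (flp_j L360599) (flp_b L360451) L659382
theorem L659386 : sm gd N47256 = N42623 := ded_37_1 (flp_j L360472) (flp_d L360453) L659382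
theorem L659388 : sm ge N47256 = N47256 := ded_42_1 (flp_j L659382) L360455 L659382
theorem L659389 : sm gh N42620 = N47257 := rfl
theorem L659391 : sm ga N47257 = N44557 := ded_17_1 (flp_h L653174) L653165 L659389
theorem L659393 : sm gb N47257 = N42640 := ded_25_1 (flp_h L360607) (flp_b L360451) L659389
theorem L659395 : sm gc N47257 = N44576 := ded_32_1 (flp_h L659360) L659356 L659389
theorem L659397 : sm ge N47257 = N47257 := ded_43_1 (flp_h L659389) L360455 L659389
theorem L659398 : sm gg N47257 = N42621 := ded_50_1 (flp_h L360456) L360449 L659389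
theorem L659400 : sm gd N42621 = N47258 := rfl
theorem L659402 : sm ga N47258 = N44531 := ded_12_1 L376759 (flp_a L648207) L659400
theorem L659404 : sm gb N47258 = N42641 := ded_20_1 (flp_d L360615) (flp_b L360458) L659400
theorem L659406 : sm gf N47258 = N45228 := ded_35_2 L504831 (flp_f L360461) L659400
theorem L659408 : sm gc N47258 = N45404 := ded_27_1 L384023 L264106 (flp_d L259265) (flp_c L648209) L659400
theorem L659410 : sm gh N47258 = N42625 := ded_38_2 (flp_d L360488) (flp_h L248019) L248005 L360456 L659400
theorem L659412 : sm gi N42621 = N47259 := rfl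
theorem L659414 : sm ga N47259 = N44561 := ded_18_1 (flp_i L376988) (flp_a L648207) L659412
theorem L659416 : sm gb N47259 = N42642 := ded_26_1 (flp_i L360623) (flp_b L360458) L659412
theorem L659418 : sm gc N47259 = N44579 := ded_33_1 (flp_i L377122) (flp_c L648209) L659412
theorem L659420 : sm ge N47259 = N47259 := ded_44_1 (flp_i L659412) L360460 L659412
theorem L659421 : sm gf N47259 = N45296 := ded_48_1 (flp_i L383175) (flp_f L360461) L659412
theorem L659423 : sm gj N42622 = N47260 := rfl
theorem L659425 : sm gb N47260 = N42643 := ded_24_1 (flp_j L360631) (flp_b L360465) L659423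
theorem L659427 : sm gc N47260 = N47260 := ded_31_1 (flp_j L659423) L360467 L659423
theorem L659428 : sm ge N47260 = N42951 := ded_42_1 (flp_j L363215) (flp_e L360468) L659423
theorem L659430 : sm gf N47260 = N42623 := ded_46_1 (flp_j L360472) L360463 L659423
theorem L659432 : sm gh N42622 = N47261 := rfl
theorem L659434 : sm gb N47261 = N42644 := ded_25_1 (flp_h L360641) (flp_b L360465) L659432
theorem L659436 : sm gc N47261 = N47261 := ded_32_1 (flp_h L659432) L360467 L659432
theorem L659437 : sm ge N47261 = N42952 := ded_43_1 (flp_h L363222) (flp_e L360468) L659432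
theorem L659439 : sm gf N47261 = N42624 := ded_47_1 (flp_h L360479) L360463 L659432
theorem L659441 : sm gg N47261 = N45247 := ded_50_1 L552224 (flp_g L360470) L659432
theorem L659443 : sm gh N42623 = N47262 := rfl
theorem L659445 : sm ga N47262 = N46387 := ded_17_1 L653208 L653197 L659443
theorem L659447 : sm gb N47262 = N42645 := ded_25_1 (flp_h L360653) (flp_b L360474) L659443
theorem L659449 : sm gc N47262 = N47262 := ded_32_1 (flp_h L659443) L360476 L659443
theorem L659450 : sm ge N47262 = N42627 := ded_43_1 (flp_h L360503) (flp_e L360477) L659443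
theorem L659452 : sm gg N47262 = N46394 := ded_50_1 L657293 L657291 L659443
theorem L659454 : sm gj N47262 = N42624 := ded_52_1 (flp_h L360479) L360472 L659443
theorem L659456 : sm gd N42624 = N47263 := rfl
theorem L659458 : sm gb N47263 = N42646 := ded_20_1 (flp_d L360663) (flp_b L360481) L659456
theorem L659460 : sm gg N47263 = N42625 := ded_36_2 (flp_d L360488) (flp_g L360486) L659456
theorem L659462 : sm gi N42624 = N47264 := rfl
theorem L659464 : sm gb N47264 = N42647 := ded_26_1 (flp_i L360669) (flp_b L360481) L659462
theorem L659466 : sm gc N47264 = N47264 := ded_33_1 (flp_i L659462) L360483 L659462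
theorem L659467 : sm ge N47264 = N42629 := ded_44_1 (flp_i L360521) (flp_e L360484) L659462
theorem L659469 : sm gg N47264 = N42626 := ded_51_1 (flp_i L360494) (flp_g L360486) L659462
theorem L659471 : sm gc N42625 = N47265 := rfl
theorem L659473 : sm ga N47265 = N45383 := ded_11_1 L653233 L653225 L659471
theorem L659475 : sm gf N47265 = N45240 := ded_29_2 L382769 (flp_f L553474) L659471
theorem L659477 : sm gh N47265 = N45404 := ded_32_2 (flp_c L659408) L659410 L659471
theorem L659479 : sm gd N47265 = N47265 := ded_27_2 (flp_c L659471) (flp_d L360488) L248023 L360488 L659471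
theorem L659480 : sm gi N42625 = N47266 := rfl
theorem L659482 : sm gb N47266 = N42650 := ded_26_1 (flp_i L360693) (flp_b L360490) L659480
theorem L659484 : sm gd N47266 = N42626 := ded_39_1 (flp_i L360494) L360488 L659480
theorem L659486 : sm gf N47266 = N45243 := ded_48_1 (flp_i L382782) (flp_f L553474) L659480
theorem L659488 : sm gi N42627 = N47267 := rfl
theorem L659490 : sm ga N47267 = N46388 := ded_18_1 (flp_i L649807) L648991 L659488
theorem L659492 : sm gb N47267 = N42652 := ded_26_1 (flp_i L360711) (flp_b L360505) L659488
theorem L659494 : sm gc N47267 = N47267 := ded_33_1 (flp_i L659488) L360507 L659488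
theorem L659495 : sm gd N47267 = N46418 := ded_39_1 (flp_i L650026) (flp_d L649393) L659488
theorem L659497 : sm gf N47267 = N42960 := ded_48_1 (flp_i L363286) (flp_f L360508) L659488
theorem L659499 : sm gg N47267 = N46395 := ded_51_1 (flp_i L649858) (flp_g L649395) L659488
theorem L659501 : sm gj N47267 = N42629 := ded_53_1 (flp_i L360521) (flp_j L360510) L659488
theorem L659503 : sm ge N42638 = N47268 := rfl
theorem L659505 : sm ga N47268 = N42672 := ded_13_1 (flp_e L360895) (flp_a L360592) L659503
theorem L659507 : sm gb N47268 = N45511 := ded_21_1 L659380 L659370 L659503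
theorem L659509 : sm gc N47268 = N47268 := ded_28_1 (flp_e L659503) L360594 L659503
theorem L659510 : sm gg N47268 = N45322 := ded_41_2 (flp_e L383384) (flp_g L360597) L659503
theorem L659512 : sm gi N47268 = N45664 := ded_44_2 L658519 L658515 L659503
theorem L659514 : sm gd N47268 = N42976 := ded_34_1 (flp_e L363408) L249974 (flp_e L248105) (flp_d L360595) L659503
theorem L659516 : sm gf N47268 = N47268 := ded_40_2 (flp_e L659503) (flp_f L360590) L248090 L360590 L659503
theorem L659517 : sm gj N42638 = N47269 := rfl
theorem L659519 : sm ga N47269 = N42673 := ded_16_1 (flp_j L360903) (flp_a L360592) L659517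
theorem L659521 : sm gc N47269 = N47269 := ded_31_1 (flp_j L659517) L360594 L659517
theorem L659522 : sm gd N47269 = N42643 := ded_37_1 (flp_j L360631) (flp_d L360595) L659517
theorem L659524 : sm gf N47269 = N42639 := ded_46_1 (flp_j L360599) L360590 L659517
theorem L659526 : sm gh N42638 = N47270 := rfl
theorem L659528 : sm ga N47270 = N42674 := ded_17_1 (flp_h L360910) (flp_a L360592) L659526
theorem L659530 : sm gc N47270 = N47270 := ded_32_1 (flp_h L659526) L360594 L659526
theorem L659531 : sm gf N47270 = N42640 := ded_47_1 (flp_h L360607) L360590 L659526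
theorem L659533 : sm gg N47270 = N45324 := ded_50_1 (flp_h L383402) (flp_g L360597) L659526
theorem L659535 : sm gh N42639 = N47271 := rfl
theorem L659537 : sm ga N47271 = N42675 := ded_17_1 (flp_h L360917) (flp_a L360601) L659535
theorem L659539 : sm gc N47271 = N47271 := ded_32_1 (flp_h L659535) L360603 L659535
theorem L659540 : sm ge N47271 = N47271 := ded_43_1 (flp_h L659535) L360606 L659535
theorem L659541 : sm gj N47271 = N42640 := ded_52_1 (flp_h L360607) L360599 L659535
theorem L659543 : sm gd N42640 = N47272 := rfl
theorem L659545 : sm ga N47272 = N42676 := ded_12_1 (flp_d L360923) (flp_a L360609) L659543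
theorem L659547 : sm gg N47272 = N42641 := ded_36_2 (flp_d L360615) (flp_g L360613) L659543
theorem L659549 : sm gh N47272 = N42646 := ded_38_2 (flp_d L360663) (flp_h L248117) (flp_d L248088) L360607 L659543
theorem L659551 : sm gi N42640 = N47273 := rfl
theorem L659553 : sm ga N47273 = N42677 := ded_18_1 (flp_i L360929) (flp_a L360609) L659551
theorem L659555 : sm gc N47273 = N47273 := ded_33_1 (flp_i L659551) L360611 L659551
theorem L659556 : sm ge N47273 = N47273 := ded_44_1 (flp_i L659551) L360612 L659551
theorem L659557 : sm gg N47273 = N42642 := ded_51_1 (flp_i L360623) (flp_g L360613) L659551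
theorem L659559 : sm gc N42641 = N47274 := rfl
theorem L659561 : sm ga N47274 = N42678 := ded_11_1 (flp_c L360935) (flp_a L360617) L659559
theorem L659563 : sm gf N47274 = N45328 := ded_29_2 (flp_c L383435) (flp_f L360619) L659559
theorem L659565 : sm gh N47274 = N42648 := ded_32_2 (flp_c L360679) (flp_h L360621) L659559
theorem L659567 : sm gd N47274 = N47274 := ded_27_2 (flp_c L659559) (flp_d L360615) L248095 L360615 L659559
theorem L659568 : sm ge N42641 = N47275 := rfl
theorem L659570 : sm ga N47275 = N42679 := ded_13_1 (flp_e L360942) (flp_a L360617) L659568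
theorem L659572 : sm gh N47275 = N42649 := ded_43_2 (flp_e L360687) (flp_h L360621) L659568
theorem L659574 : sm gd N47275 = N47275 := ded_34_1 (flp_e L659568) (flp_d L360615) L248096 L360615 L659568
theorem L659575 : sm gi N42641 = N47276 := rfl
theorem L659577 : sm ga N47276 = N42680 := ded_18_1 (flp_i L360947) (flp_a L360617) L659575
theorem L659579 : sm gd N47276 = N42642 := ded_39_1 (flp_i L360623) L360615 L659575
theorem L659581 : sm gf N47276 = N45330 := ded_48_1 (flp_i L383450) (flp_f L360619) L659575
theorem L659583 : sm gg N42643 = N47277 := rfl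
theorem L659585 : sm ga N47277 = N42681 := ded_15_1 (flp_g L360953) (flp_a L360633) L659583
theorem L659587 : sm gc N47277 = N42661 := ded_30_1 (flp_g L360792) (flp_c L360635) L659583
theorem L659589 : sm ge N47277 = N42985 := ded_41_1 (flp_g L363492) (flp_e L360637) L659583
theorem L659591 : sm gj N47277 = N45331 := ded_49_2 (flp_g L383456) (flp_j L263511) (flp_g L248107) L360631 L659583
theorem L659593 : sm gh N42643 = N47278 := rfl
theorem L659595 : sm ga N47278 = N42682 := ded_17_1 (flp_h L360961) (flp_a L360633) L659593
theorem L659597 : sm gc N47278 = N42662 := ded_32_1 (flp_h L360802) (flp_c L360635) L659593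
theorem L659599 : sm ge N47278 = N42986 := ded_43_1 (flp_h L363501) (flp_e L360637) L659593
theorem L659601 : sm gf N47278 = N42645 := ded_47_1 (flp_h L360653) (flp_f L360639) L659593
theorem L659603 : sm gj N47278 = N42644 := ded_52_1 (flp_h L360641) L360631 L659593
theorem L659605 : sm gd N42644 = N47279 := rfl
theorem L659607 : sm ga N47279 = N42683 := ded_12_1 (flp_d L360971) (flp_a L360643) L659605
theorem L659609 : sm gf N47279 = N42646 := ded_35_2 (flp_d L360663) (flp_f L360649) L659605
theorem L659611 : sm gg N47279 = N45333 := ded_36_2 (flp_d L383476) (flp_g L360651) L659605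
theorem L659613 : sm gi N42644 = N47280 := rfl
theorem L659615 : sm ga N47280 = N42684 := ded_18_1 (flp_i L360977) (flp_a L360643) L659613
theorem L659617 : sm gc N47280 = N42664 := ded_33_1 (flp_i L360823) (flp_c L360645) L659613
theorem L659619 : sm ge N47280 = N42988 := ded_44_1 (flp_i L363519) (flp_e L360647) L659613
theorem L659621 : sm gf N47280 = N42647 := ded_48_1 (flp_i L360669) (flp_f L360649) L659613
theorem L659623 : sm gg N47280 = N45334 := ded_51_1 (flp_i L383482) (flp_g L360651) L659613
theorem L659625 : sm gd N42645 = N47281 := rfl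
theorem L659627 : sm ga N47281 = N42685 := ded_12_1 (flp_d L360987) (flp_a L360655) L659625
theorem L659629 : sm gj N47281 = N42646 := ded_37_2 (flp_d L360663) (flp_j L360661) L659625
theorem L659631 : sm gi N42645 = N47282 := rfl
theorem L659633 : sm ga N47282 = N42686 := ded_18_1 (flp_i L360991) (flp_a L360655) L659631
theorem L659635 : sm gc N47282 = N42666 := ded_33_1 (flp_i L360843) (flp_c L360657) L659631
theorem L659637 : sm ge N47282 = N42652 := ded_44_1 (flp_i L360711) (flp_e L360659) L659631
theorem L659639 : sm gj N47282 = N42647 := ded_53_1 (flp_i L360669) (flp_j L360661) L659631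
theorem L659641 : sm gc N42646 = N47283 := rfl
theorem L659643 : sm ga N47283 = N42687 := ded_11_1 (flp_c L360999) (flp_a L360665) L659641
theorem L659645 : sm gg N47283 = N42648 := ded_30_2 (flp_c L360679) (flp_g L360667) L659641
theorem L659647 : sm gd N47283 = N42667 := ded_27_2 (flp_c L360852) (flp_d L248245) (flp_c L248121) L360663 L659641
theorem L659649 : sm ge N42646 = N47284 := rfl
theorem L659651 : sm ga N47284 = N42688 := ded_13_1 (flp_e L361005) (flp_a L360665) L659649
theorem L659653 : sm gg N47284 = N42649 := ded_41_2 (flp_e L360687) (flp_g L360667) L659649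
theorem L659655 : sm gd N47284 = N42653 := ded_34_1 (flp_e L360721) (flp_d L248153) (flp_e L248123) L360663 L659649
theorem L659657 : sm gi N42646 = N47285 := rfl
theorem L659659 : sm ga N47285 = N42689 := ded_18_1 (flp_i L361011) (flp_a L360665) L659657
theorem L659661 : sm gd N47285 = N42647 := ded_39_1 (flp_i L360669) L360663 L659657
theorem L659663 : sm gg N47285 = N42650 := ded_51_1 (flp_i L360693) (flp_g L360667) L659657
theorem L659665 : sm gb N42648 = N47286 := rfl
theorem L659667 : sm gd N47286 = N42669 := ded_20_2 (flp_b L360870) (flp_d L360685) L659665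
theorem L659669 : sm gf N47286 = N45340 := ded_22_2 (flp_b L383532) (flp_f L360683) L659665
theorem L659671 : sm ge N42648 = N47287 := rfl
theorem L659673 : sm ga N47287 = N42691 := ded_13_1 (flp_e L361023) (flp_a L360681) L659671
theorem L659675 : sm gc N47287 = N42649 := ded_28_1 (flp_e L360687) L360679 L659671
theorem L659677 : sm gd N47287 = N47287 := ded_34_1 (flp_e L659671) L360685 L248267 (flp_d L360685) L659671
theorem L659678 : sm gi N42648 = N47288 := rfl
theorem L659680 : sm ga N47288 = N42692 := ded_18_1 (flp_i L361028) (flp_a L360681) L659678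
theorem L659682 : sm gc N47288 = N42650 := ded_33_1 (flp_i L360693) L360679 L659678
theorem L659684 : sm gd N47288 = N42670 := ded_39_1 (flp_i L360877) (flp_d L360685) L659678
theorem L659686 : sm gf N47288 = N45342 := ded_48_1 (flp_i L383544) (flp_f L360683) L659678
theorem L659688 : sm gi N42649 = N47289 := rfl
theorem L659690 : sm ga N47289 = N42694 := ded_18_1 (flp_i L361042) (flp_a L360689) L659688
theorem L659692 : sm gd N47289 = N42656 := ded_39_1 (flp_i L360748) (flp_d L360691) L659688
theorem L659694 : sm ge N47289 = N42650 := ded_44_1 (flp_i L360693) L360687 L659688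
theorem L659696 : sm gh N42650 = N47290 := rfl
theorem L659698 : sm ga N47290 = N42695 := ded_17_1 (flp_h L361048) (flp_a L360695) L659696
theorem L659700 : sm gf N47290 = N45345 := ded_47_1 (flp_h L383566) (flp_f L360699) L659696
theorem L659702 : sm ge N42651 = N47291 := rfl
theorem L659704 : sm ga N47291 = N42696 := ded_13_1 (flp_e L361052) (flp_a L360703) L659702
theorem L659706 : sm gb N47291 = N45440 := ded_21_1 L384297 (flp_b L649237) L659702
theorem L659708 : sm gc N47291 = N47291 := ded_28_1 (flp_e L659702) L360709 L659702
theorem L659709 : sm gg N47291 = N45369 := ded_41_2 L383799 L649231 L659702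
theorem L659711 : sm gj N47291 = N42653 := ded_42_2 (flp_e L360721) (flp_j L360707) L659702
theorem L659713 : sm gh N47291 = N47291 := ded_43_2 (flp_e L659702) L360710 L659702
theorem L659714 : sm gi N42651 = N47292 := rfl
theorem L659716 : sm ga N47292 = N42697 := ded_18_1 (flp_i L361058) (flp_a L360703) L659714
theorem L659718 : sm gb N47292 = N46418 := ded_26_1 (flp_i L650026) (flp_b L649237) L659714
theorem L659720 : sm gc N47292 = N47292 := ded_33_1 (flp_i L659714) L360709 L659714
theorem L659721 : sm gd N47292 = N42652 := ded_39_1 (flp_i L360711) L360701 L659714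
theorem L659723 : sm gf N47292 = N43001 := ded_48_1 (flp_i L363631) (flp_f L360705) L659714
theorem L659725 : sm gg N47292 = N46378 := ded_51_1 (flp_i L649730) L649231 L659714
theorem L659727 : sm gj N47292 = N42654 := ded_53_1 (flp_i L360729) (flp_j L360707) L659714
theorem L659729 : sm gf N42653 = N47293 := rfl
theorem L659731 : sm ga N47293 = N42698 := ded_14_1 (flp_f L361067) (flp_a L360723) L659729
theorem L659733 : sm gc N47293 = N47293 := ded_29_1 (flp_f L659729) L360725 L659729
theorem L659734 : sm gh N47293 = N47293 := ded_47_2 (flp_f L659729) L360728 L659729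
theorem L659735 : sm ge N47293 = N43002 := ded_40_1 (flp_f L363641) (flp_e L250104) (flp_f L248157) L360721 L659729
theorem L659737 : sm gi N42653 = N47294 := rfl
theorem L659739 : sm ga N47294 = N42699 := ded_18_1 (flp_i L361073) (flp_a L360723) L659737
theorem L659741 : sm gc N47294 = N47294 := ded_33_1 (flp_i L659737) L360725 L659737
theorem L659742 : sm ge N47294 = N42654 := ded_44_1 (flp_i L360729) L360721 L659737
theorem L659744 : sm gg N47294 = N42656 := ded_51_1 (flp_i L360748) (flp_g L360726) L659737
theorem L659746 : sm gh N42654 = N47295 := rfl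
theorem L659748 : sm ga N47295 = N42700 := ded_17_1 (flp_h L361080) (flp_a L360731) L659746
theorem L659750 : sm gc N47295 = N47295 := ded_32_1 (flp_h L659746) L360733 L659746
theorem L659751 : sm gf N47295 = N43004 := ded_47_1 (flp_h L363656) (flp_f L360736) L659746
theorem L659753 : sm gg N47295 = N42657 := ded_50_1 (flp_h L360755) (flp_g L360738) L659746
theorem L659755 : sm gi N47295 = N47295 := ded_54_2 (flp_h L659746) (flp_i L360729) L248162 L360729 L659746
theorem L659756 : sm gh N42656 = N47296 := rfl
theorem L659758 : sm ga N47296 = N42703 := ded_17_1 (flp_h L361101) (flp_a L360750) L659756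
theorem L659760 : sm gc N47296 = N47296 := ded_32_1 (flp_h L659756) L360752 L659756
theorem L659761 : sm ge N47296 = N42657 := ded_43_1 (flp_h L360755) (flp_e L360753) L659756
theorem L659763 : sm gi N47296 = N47296 := ded_54_2 (flp_h L659756) (flp_i L360748) L248178 L360748 L659756
theorem L659764 : sm gh N42661 = N47297 := rfl
theorem L659766 : sm ga N47297 = N42708 := ded_17_1 (flp_h L361137) (flp_a L360794) L659764
theorem L659768 : sm gb N47297 = N47297 := ded_25_1 (flp_h L659764) L360796 L659764
theorem L659769 : sm ge N47297 = N43012 := ded_43_1 (flp_h L363726) (flp_e L360798) L659764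
theorem L659771 : sm gg N47297 = N42662 := ded_50_1 (flp_h L360802) L360792 L659764
theorem L659773 : sm gj N47297 = N45358 := ded_52_1 (flp_h L383692) (flp_j L360800) L659764
theorem L659775 : sm gd N42662 = N47298 := rfl
theorem L659777 : sm ga N47298 = N42709 := ded_12_1 (flp_d L361147) (flp_a L360804) L659775
theorem L659779 : sm gb N47298 = N47298 := ded_20_1 (flp_d L659775) L360806 L659775
theorem L659780 : sm gf N47298 = N42665 := ded_35_2 (flp_d L360834) (flp_f L360809) L659775
theorem L659782 : sm gj N47298 = N42663 := ded_37_2 (flp_d L360813) (flp_j L360811) L659775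
theorem L659784 : sm gh N47298 = N47298 := ded_38_2 (flp_d L659775) (flp_h L360802) L248220 L360802 L659775
theorem L659785 : sm gi N42662 = N47299 := rfl
theorem L659787 : sm ga N47299 = N42710 := ded_18_1 (flp_i L361156) (flp_a L360804) L659785
theorem L659789 : sm gb N47299 = N47299 := ded_26_1 (flp_i L659785) L360806 L659785
theorem L659790 : sm ge N47299 = N43014 := ded_44_1 (flp_i L363747) (flp_e L360807) L659785
theorem L659792 : sm gf N47299 = N42666 := ded_48_1 (flp_i L360843) (flp_f L360809) L659785
theorem L659794 : sm gj N47299 = N42664 := ded_53_1 (flp_i L360823) (flp_j L360811) L659785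
theorem L659796 : sm gc N42663 = N47300 := rfl
theorem L659798 : sm ga N47300 = N42711 := ded_11_1 (flp_c L361166) (flp_a L360815) L659796
theorem L659800 : sm gf N47300 = N42667 := ded_29_2 (flp_c L360852) (flp_f L360818) L659796
theorem L659802 : sm gg N47300 = N45361 := ded_30_2 (flp_c L383722) (flp_g L360820) L659796
theorem L659804 : sm gh N47300 = N47300 := ded_32_2 (flp_c L659796) L360822 L659796
theorem L659805 : sm ge N42663 = N47301 := rfl
theorem L659807 : sm ga N47301 = N42712 := ded_13_1 (flp_e L361173) (flp_a L360815) L659805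
theorem L659809 : sm gb N47301 = N47301 := ded_21_1 (flp_e L659805) L360817 L659805
theorem L659810 : sm gg N47301 = N45362 := ded_41_2 (flp_e L383729) (flp_g L360820) L659805
theorem L659812 : sm gh N47301 = N47301 := ded_43_2 (flp_e L659805) L360822 L659805
theorem L659813 : sm gd N47301 = N43016 := ded_34_1 (flp_e L363766) (flp_d L250193) (flp_e L248230) L360813 L659805
theorem L659815 : sm gf N47301 = N47301 := ded_40_2 (flp_e L659805) L360818 L248252 (flp_f L360818) L659805
theorem L659816 : sm gi N42663 = N47302 := rfl
theorem L659818 : sm ga N47302 = N42713 := ded_18_1 (flp_i L361183) (flp_a L360815) L659816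
theorem L659820 : sm gb N47302 = N47302 := ded_26_1 (flp_i L659816) L360817 L659816
theorem L659821 : sm gd N47302 = N42664 := ded_39_1 (flp_i L360823) L360813 L659816
theorem L659823 : sm gf N47302 = N42668 := ded_48_1 (flp_i L360860) (flp_f L360818) L659816
theorem L659825 : sm gg N47302 = N45363 := ded_51_1 (flp_i L383739) (flp_g L360820) L659816
theorem L659827 : sm gc N42665 = N47303 := rfl
theorem L659829 : sm ga N47303 = N42714 := ded_11_1 (flp_c L361193) (flp_a L360836) L659827
theorem L659831 : sm ge N47303 = N47303 := ded_28_2 (flp_c L659827) L360841 L659827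
theorem L659832 : sm gg N47303 = N45268 := ded_30_2 L382975 (flp_g L637607) L659827
theorem L659834 : sm gj N47303 = N42667 := ded_31_2 (flp_c L360852) (flp_j L360839) L659827
theorem L659836 : sm gh N47303 = N47303 := ded_32_2 (flp_c L659827) L360842 L659827
theorem L659837 : sm gi N42665 = N47304 := rfl
theorem L659839 : sm ga N47304 = N42715 := ded_18_1 (flp_i L361199) (flp_a L360836) L659837
theorem L659841 : sm gb N47304 = N47304 := ded_26_1 (flp_i L659837) L360838 L659837
theorem L659842 : sm gd N47304 = N42666 := ded_39_1 (flp_i L360843) L360834 L659837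
theorem L659844 : sm ge N47304 = N47304 := ded_44_1 (flp_i L659837) L360841 L659837
theorem L659845 : sm gg N47304 = N45287 := ded_51_1 (flp_i L383114) (flp_g L637607) L659837
theorem L659847 : sm gj N47304 = N42668 := ded_53_1 (flp_i L360860) (flp_j L360839) L659837
theorem L659849 : sm gb N42667 = N47305 := rfl
theorem L659851 : sm ge N47305 = N47305 := ded_21_2 (flp_b L659849) L360856 L659849
theorem L659852 : sm gg N47305 = N42669 := ded_23_2 (flp_b L360870) (flp_g L360857) L659849
theorem L659854 : sm gh N47305 = N47305 := ded_25_2 (flp_b L659849) L360859 L659849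
theorem L659855 : sm gc N47305 = N47305 := ded_19_2 (flp_b L659849) (flp_c L360852) L248249 L360852 L659849
theorem L659856 : sm gi N42667 = N47306 := rfl
theorem L659858 : sm ga N47306 = N42717 := ded_18_1 (flp_i L361216) (flp_a L360854) L659856
theorem L659860 : sm gc N47306 = N42668 := ded_33_1 (flp_i L360860) L360852 L659856
theorem L659862 : sm ge N47306 = N47306 := ded_44_1 (flp_i L659856) L360856 L659856
theorem L659863 : sm gg N47306 = N42670 := ded_51_1 (flp_i L360877) (flp_g L360857) L659856
theorem L659865 : sm gh N42668 = N47307 := rfl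
theorem L659867 : sm ga N47307 = N42718 := ded_17_1 (flp_h L361223) (flp_a L360862) L659865
theorem L659869 : sm gb N47307 = N47307 := ded_25_1 (flp_h L659865) L360864 L659865
theorem L659870 : sm ge N47307 = N47307 := ded_43_1 (flp_h L659865) L360867 L659865
theorem L659871 : sm gg N47307 = N42671 := ded_50_1 (flp_h L360886) (flp_g L360868) L659865
theorem L659873 : sm gi N47307 = N47307 := ded_54_2 (flp_h L659865) (flp_i L360860) L248253 L360860 L659865
theorem L659874 : sm ga N42669 = N47308 := rfl
theorem L659876 : sm gc N47308 = N47308 := ded_11_2 (flp_a L659874) L360876 L659874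
theorem L659877 : sm ge N47308 = N47308 := ded_13_2 (flp_a L659874) L360872 L659874
theorem L659878 : sm gf N47308 = N45369 := ded_14_2 (flp_a L383796) (flp_f L360873) L659874
theorem L659880 : sm gh N47308 = N47308 := ded_17_2 (flp_a L659874) L360875 L659874
theorem L659881 : sm gb N47308 = N42719 := ded_10_2 (flp_a L361231) (flp_b L248516) (flp_a L248265) L360870 L659874
theorem L659883 : sm gi N42669 = N47309 := rfl
theorem L659885 : sm gb N47309 = N42670 := ded_26_1 (flp_i L360877) L360870 L659883
theorem L659887 : sm gc N47309 = N47309 := ded_33_1 (flp_i L659883) L360876 L659883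
theorem L659888 : sm ge N47309 = N47309 := ded_44_1 (flp_i L659883) L360872 L659883
theorem L659889 : sm gf N47309 = N45370 := ded_48_1 (flp_i L383804) (flp_f L360873) L659883
theorem L659891 : sm gh N42670 = N47310 := rfl
theorem L659893 : sm ga N47310 = N42721 := ded_17_1 (flp_h L361248) (flp_a L360879) L659891
theorem L659895 : sm gc N47310 = N42671 := ded_32_1 (flp_h L360886) (flp_c L360881) L659891
theorem L659897 : sm ge N47310 = N47310 := ded_43_1 (flp_h L659891) L360883 L659891
theorem L659898 : sm gf N47310 = N45371 := ded_47_1 (flp_h L383811) (flp_f L360884) L659891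
theorem L659900 : sm gi N47310 = N47310 := ded_54_2 (flp_h L659891) (flp_i L360877) L248270 L360877 L659891
theorem L659901 : sm gj N42672 = N47311 := rfl
theorem L659903 : sm gb N47311 = N46553 := ded_24_1 (flp_j L651176) L648925 L659901
theorem L659905 : sm gc N47311 = N47311 := ded_31_1 (flp_j L659901) L360897 L659901
theorem L659906 : sm gd N47311 = N43026 := ded_37_1 (flp_j L363867) (flp_d L360900) L659901
theorem L659908 : sm ge N47311 = N42673 := ded_42_1 (flp_j L360903) L360895 L659901
theorem L659910 : sm gf N47311 = N47311 := ded_46_1 (flp_j L659901) L360902 L659901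
theorem L659911 : sm gg N47311 = N46535 := ded_49_1 (flp_j L651031) (flp_g L287629) (flp_j L617260) (flp_g L360898) L659901
theorem L659913 : sm gh N42672 = N47312 := rfl
theorem L659915 : sm gb N47312 = N45846 := ded_25_1 L387552 L648925 L659913
theorem L659917 : sm gc N47312 = N47312 := ded_32_1 (flp_h L659913) L360897 L659913
theorem L659918 : sm ge N47312 = N42674 := ded_43_1 (flp_h L360910) L360895 L659913
theorem L659920 : sm gf N47312 = N47312 := ded_47_1 (flp_h L659913) L360902 L659913
theorem L659921 : sm gg N47312 = N44908 := ded_50_1 L617269 (flp_g L360898) L659913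
theorem L659923 : sm gg N42673 = N47313 := rfl
theorem L659925 : sm gb N47313 = N46538 := ded_23_1 (flp_g L653578) L653568 L659923
theorem L659927 : sm gc N47313 = N47313 := ded_30_1 (flp_g L659923) L360905 L659923
theorem L659928 : sm gd N47313 = N42681 := ded_36_1 (flp_g L360953) (flp_d L360906) L659923
theorem L659930 : sm ge N47313 = N46535 := ded_41_1 (flp_g L659911) L659908 L659923
theorem L659932 : sm gf N47313 = N46528 := ded_45_1 (flp_g L657617) L657613 L358909 (flp_f L360908) L659923
theorem L659934 : sm gj N47313 = N45374 := ded_49_2 (flp_g L383836) (flp_j L263781) (flp_g L248296) L360903 L659923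
theorem L659936 : sm gh N42673 = N47314 := rfl
theorem L659938 : sm gc N47314 = N47314 := ded_32_1 (flp_h L659936) L360905 L659936
theorem L659939 : sm gf N47314 = N42675 := ded_47_1 (flp_h L360917) (flp_f L360908) L659936
theorem L659941 : sm gj N47314 = N42674 := ded_52_1 (flp_h L360910) L360903 L659936
theorem L659943 : sm gd N42674 = N47315 := rfl
theorem L659945 : sm gf N47315 = N42676 := ded_35_2 (flp_d L360923) (flp_f L360913) L659943
theorem L659947 : sm gg N47315 = N45376 := ded_36_2 (flp_d L383848) (flp_g L360915) L659943
theorem L659949 : sm gh N47315 = N42683 := ded_38_2 (flp_d L360971) (flp_h L248330) (flp_d L248294) L360910 L659943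
theorem L659951 : sm gi N42674 = N47316 := rfl
theorem L659953 : sm gc N47316 = N47316 := ded_33_1 (flp_i L659951) L360912 L659951
theorem L659954 : sm gf N47316 = N42677 := ded_48_1 (flp_i L360929) (flp_f L360913) L659951
theorem L659956 : sm gg N47316 = N45377 := ded_51_1 (flp_i L383854) (flp_g L360915) L659951
theorem L659958 : sm gd N42675 = N47317 := rfl
theorem L659960 : sm gj N47317 = N42676 := ded_37_2 (flp_d L360923) (flp_j L360921) L659958
theorem L659962 : sm gh N47317 = N42685 := ded_38_2 (flp_d L360987) (flp_h L248340) (flp_d L248301) L360917 L659958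
theorem L659964 : sm gi N42675 = N47318 := rfl
theorem L659966 : sm gc N47318 = N47318 := ded_33_1 (flp_i L659964) L360919 L659964
theorem L659967 : sm ge N47318 = N47318 := ded_44_1 (flp_i L659964) L360920 L659964
theorem L659968 : sm gj N47318 = N42677 := ded_53_1 (flp_i L360929) (flp_j L360921) L659964
theorem L659970 : sm gc N42676 = N47319 := rfl
theorem L659972 : sm gg N47319 = N42678 := ded_30_2 (flp_c L360935) (flp_g L360925) L659970
theorem L659974 : sm gh N47319 = N42687 := ded_32_2 (flp_c L360999) (flp_h L360927) L659970
theorem L659976 : sm gd N47319 = N47319 := ded_27_2 (flp_c L659970) (flp_d L360923) L248306 L360923 L659970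
theorem L659977 : sm ge N42676 = N47320 := rfl
theorem L659979 : sm gg N47320 = N42679 := ded_41_2 (flp_e L360942) (flp_g L360925) L659977
theorem L659981 : sm gh N47320 = N42688 := ded_43_2 (flp_e L361005) (flp_h L360927) L659977
theorem L659983 : sm gd N47320 = N47320 := ded_34_1 (flp_e L659977) (flp_d L360923) L248307 L360923 L659977
theorem L659984 : sm gi N42676 = N47321 := rfl
theorem L659986 : sm gd N47321 = N42677 := ded_39_1 (flp_i L360929) L360923 L659984
theorem L659988 : sm gg N47321 = N42680 := ded_51_1 (flp_i L360947) (flp_g L360925) L659984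
theorem L659990 : sm gb N42678 = N47322 := rfl
theorem L659992 : sm gd N47322 = N47322 := ded_20_2 (flp_b L659990) L360941 L659990
theorem L659993 : sm gf N47322 = N45383 := ded_22_2 (flp_b L383893) (flp_f L360937) L659990
theorem L659995 : sm gh N47322 = N42690 := ded_25_2 (flp_b L361017) (flp_h L360939) L659990
theorem L659997 : sm gc N47322 = N44466 := ded_19_2 L376221 (flp_c L640465) L355558 L360935 L659990
theorem L659999 : sm ga N45240 = N47322 := ded_14_3 L659993 (flp_a L659473) L659475
theorem L660001 : sm ge N45197 = N47322 := ded_28_0 L659997 L552239 L382425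
theorem L660003 : sm ge N42678 = N47323 := rfl
theorem L660005 : sm gb N47323 = N45197 := ded_21_1 L660001 (flp_b L659990) L660003
theorem L660007 : sm gc N47323 = N42679 := ded_28_1 (flp_e L360942) L360935 L660003
theorem L660009 : sm gh N47323 = N42691 := ded_43_2 (flp_e L361023) (flp_h L360939) L660003
theorem L660011 : sm gd N45218 = N47323 := ded_20_0 L660005 L382429 L382618
theorem L660013 : sm gi N42678 = N47324 := rfl
theorem L660015 : sm gc N47324 = N42680 := ded_33_1 (flp_i L360947) L360935 L660013
theorem L660017 : sm gd N47324 = N47324 := ded_39_1 (flp_i L660013) L360941 L660013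
theorem L660018 : sm gf N47324 = N45385 := ded_48_1 (flp_i L383904) (flp_f L360937) L660013
theorem L660020 : sm gf N42679 = N47325 := rfl
theorem L660022 : sm gd N47325 = N47325 := ded_35_1 (flp_f L660020) L360946 L660020
theorem L660023 : sm gh N47325 = N42693 := ded_47_2 (flp_f L361036) (flp_h L360944) L660020
theorem L660025 : sm ge N47325 = N45386 := ded_40_1 (flp_f L383909) (flp_e L263818) (flp_f L248312) L360942 L660020
theorem L660027 : sm gi N42679 = N47326 := rfl
theorem L660029 : sm gd N47326 = N47326 := ded_39_1 (flp_i L660027) L360946 L660027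
theorem L660030 : sm ge N47326 = N42680 := ded_44_1 (flp_i L360947) L360942 L660027
theorem L660032 : sm gh N42680 = N47327 := rfl
theorem L660034 : sm gf N47327 = N45388 := ded_47_1 (flp_h L383921) (flp_f L360951) L660032
theorem L660036 : sm gi N47327 = N42695 := ded_54_2 (flp_h L361048) (flp_i L248370) (flp_h L248314) L360947 L660032
theorem L660038 : sm gh N42681 = N47328 := rfl
theorem L660040 : sm gc N47328 = N42708 := ded_32_1 (flp_h L361137) (flp_c L360955) L660038
theorem L660042 : sm ge N47328 = N43043 := ded_43_1 (flp_h L363998) (flp_e L360957) L660038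
theorem L660044 : sm gg N47328 = N42682 := ded_50_1 (flp_h L360961) L360953 L660038
theorem L660046 : sm gj N47328 = N45389 := ded_52_1 (flp_h L383925) (flp_j L360959) L660038
theorem L660048 : sm gd N42682 = N47329 := rfl
theorem L660050 : sm gf N47329 = N42685 := ded_35_2 (flp_d L360987) (flp_f L360967) L660048
theorem L660052 : sm gj N47329 = N42683 := ded_37_2 (flp_d L360971) (flp_j L360969) L660048
theorem L660054 : sm gi N42682 = N47330 := rfl
theorem L660056 : sm gc N47330 = N42710 := ded_33_1 (flp_i L361156) (flp_c L360963) L660054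
theorem L660058 : sm ge N47330 = N43045 := ded_44_1 (flp_i L364013) (flp_e L360965) L660054
theorem L660060 : sm gf N47330 = N42686 := ded_48_1 (flp_i L360991) (flp_f L360967) L660054
theorem L660062 : sm gj N47330 = N42684 := ded_53_1 (flp_i L360977) (flp_j L360969) L660054
theorem L660064 : sm gc N42683 = N47331 := rfl
theorem L660066 : sm gf N47331 = N42687 := ded_29_2 (flp_c L360999) (flp_f L360973) L660064
theorem L660068 : sm gg N47331 = N45392 := ded_30_2 (flp_c L383949) (flp_g L360975) L660064
theorem L660070 : sm gd N47331 = N42711 := ded_27_2 (flp_c L361166) (flp_d L248466) (flp_c L248332) L360971 L660064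
theorem L660072 : sm ge N42683 = N47332 := rfl
theorem L660074 : sm gg N47332 = N45393 := ded_41_2 (flp_e L383955) (flp_g L360975) L660072
theorem L660076 : sm gd N47332 = N43047 := ded_34_1 (flp_e L364029) (flp_d L250364) (flp_e L248334) L360971 L660072
theorem L660078 : sm gi N42683 = N47333 := rfl
theorem L660080 : sm gd N47333 = N42684 := ded_39_1 (flp_i L360977) L360971 L660078
theorem L660082 : sm gf N47333 = N42689 := ded_48_1 (flp_i L361011) (flp_f L360973) L660078
theorem L660084 : sm gg N47333 = N45394 := ded_51_1 (flp_i L383959) (flp_g L360975) L660078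
theorem L660086 : sm gc N42685 = N47334 := rfl
theorem L660088 : sm gg N47334 = N45239 := ded_30_2 (flp_c L657710) L657706 L660086
theorem L660090 : sm gj N47334 = N42687 := ded_31_2 (flp_c L360999) (flp_j L360989) L660086
theorem L660092 : sm gb N47334 = N45236 := ded_19_1 (flp_c L382745) (flp_b L375867) (flp_c L653709) L653703 L660086
theorem L660094 : sm gd N47334 = N42714 := ded_27_2 (flp_c L361193) (flp_d L248485) (flp_c L248342) L360987 L660086
theorem L660096 : sm ge N42685 = N47335 := rfl
theorem L660098 : sm gb N47335 = N45337 := ded_21_1 (flp_e L653711) L653703 L660096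
theorem L660100 : sm gg N47335 = N45340 := ded_41_2 (flp_e L657712) L657706 L660096
theorem L660102 : sm gj N47335 = N42688 := ded_42_2 (flp_e L361005) (flp_j L360989) L660096
theorem L660104 : sm gd N47335 = N42696 := ded_34_1 (flp_e L361052) (flp_d L248376) (flp_e L248344) L360987 L660096
theorem L660106 : sm gi N42685 = N47336 := rfl
theorem L660108 : sm gd N47336 = N42686 := ded_39_1 (flp_i L360991) L360987 L660106
theorem L660110 : sm gj N47336 = N42689 := ded_53_1 (flp_i L361011) (flp_j L360989) L660106
theorem L660112 : sm gb N42687 = N47337 := rfl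
theorem L660114 : sm gd N47337 = N42716 := ded_20_2 (flp_b L361208) (flp_d L361003) L660112
theorem L660116 : sm gg N47337 = N42690 := ded_23_2 (flp_b L361017) (flp_g L361001) L660112
theorem L660118 : sm gj N47337 = N45236 := ded_24_2 (flp_b L660092) L660090 L660112
theorem L660120 : sm gc N47337 = N45234 := ded_19_2 L653741 (flp_c L653727) L355605 L360999 L660112
theorem L660122 : sm ge N42687 = N47338 := rfl
theorem L660124 : sm gc N47338 = N42688 := ded_28_1 (flp_e L361005) L360999 L660122
theorem L660126 : sm gg N47338 = N42691 := ded_41_2 (flp_e L361023) (flp_g L361001) L660122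
theorem L660128 : sm gd N47338 = N47338 := ded_34_1 (flp_e L660122) L361003 L248503 (flp_d L361003) L660122
theorem L660129 : sm gi N42687 = N47339 := rfl
theorem L660131 : sm gc N47339 = N42689 := ded_33_1 (flp_i L361011) L360999 L660129
theorem L660133 : sm gd N47339 = N42717 := ded_39_1 (flp_i L361216) (flp_d L361003) L660129
theorem L660135 : sm gg N47339 = N42692 := ded_51_1 (flp_i L361028) (flp_g L361001) L660129
theorem L660137 : sm gf N42688 = N47340 := rfl
theorem L660139 : sm gd N47340 = N42698 := ded_35_1 (flp_f L361067) (flp_d L361009) L660137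
theorem L660141 : sm gi N42688 = N47341 := rfl
theorem L660143 : sm gd N47341 = N42699 := ded_39_1 (flp_i L361073) (flp_d L361009) L660141
theorem L660145 : sm ge N47341 = N42689 := ded_44_1 (flp_i L361011) L361005 L660141
theorem L660147 : sm gg N47341 = N42694 := ded_51_1 (flp_i L361042) (flp_g L361007) L660141
theorem L660149 : sm gh N42689 = N47342 := rfl
theorem L660151 : sm gg N47342 = N42695 := ded_50_1 (flp_h L361048) (flp_g L361015) L660149
theorem L660153 : sm ga N42690 = N47343 := rfl
theorem L660155 : sm gc N47343 = N45228 := ded_11_2 (flp_a L653777) L653779 L660153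
theorem L660157 : sm gd N47343 = N42719 := ded_12_2 (flp_a L361231) (flp_d L361019) L660153
theorem L660159 : sm gf N47343 = N45404 := ded_14_2 (flp_a L384021) (flp_f L361021) L660153
theorem L660161 : sm gh N47343 = N45240 := ded_17_2 L659999 L659995 L660153
theorem L660163 : sm ge N45227 = N47343 := ded_28_0 L660155 (flp_e L382689) L382684
theorem L660165 : sm ge N42690 = N47344 := rfl
theorem L660167 : sm ga N47344 = N45227 := ded_13_1 L660163 (flp_a L660153) L660165
theorem L660169 : sm gb N47344 = N42691 := ded_21_1 (flp_e L361023) L361017 L660165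
theorem L660171 : sm gc N47344 = N45190 := ded_28_1 L653781 L653779 L660165
theorem L660173 : sm gh N47344 = N45197 := ded_43_2 L660001 L659995 L660165
theorem L660175 : sm gd N47344 = N47344 := ded_34_1 (flp_e L660165) L361019 L248518 (flp_d L361019) L660165
theorem L660176 : sm gi N42690 = N47345 := rfl
theorem L660178 : sm gb N47345 = N42692 := ded_26_1 (flp_i L361028) L361017 L660176
theorem L660180 : sm gd N47345 = N42720 := ded_39_1 (flp_i L361239) (flp_d L361019) L660176
theorem L660182 : sm gf N47345 = N45406 := ded_48_1 (flp_i L384031) (flp_f L361021) L660176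
theorem L660184 : sm gf N42691 = N47346 := rfl
theorem L660186 : sm gc N47346 = N42693 := ded_29_1 (flp_f L361036) (flp_c L361025) L660184
theorem L660188 : sm gd N47346 = N47346 := ded_35_1 (flp_f L660184) L361027 L660184
theorem L660189 : sm ge N47346 = N45407 := ded_40_1 (flp_f L384037) (flp_e L263890) (flp_f L248362) L361023 L660184
theorem L660191 : sm gi N42691 = N47347 := rfl
theorem L660193 : sm gc N47347 = N42694 := ded_33_1 (flp_i L361042) (flp_c L361025) L660191
theorem L660195 : sm gd N47347 = N47347 := ded_39_1 (flp_i L660191) L361027 L660191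
theorem L660196 : sm ge N47347 = N42692 := ded_44_1 (flp_i L361028) L361023 L660191
theorem L660198 : sm gh N42692 = N47348 := rfl
theorem L660200 : sm gc N47348 = N42695 := ded_32_1 (flp_h L361048) (flp_c L361030) L660198
theorem L660202 : sm gf N47348 = N45409 := ded_47_1 (flp_h L384051) (flp_f L361034) L660198
theorem L660204 : sm gg N42693 = N47349 := rfl
theorem L660206 : sm gd N47349 = N42701 := ded_36_1 (flp_g L361088) (flp_d L361038) L660204
theorem L660208 : sm ge N47349 = N45410 := ded_41_1 (flp_g L384055) (flp_e L361040) L660204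
theorem L660210 : sm gi N42693 = N47350 := rfl
theorem L660212 : sm gd N47350 = N42702 := ded_39_1 (flp_i L361094) (flp_d L361038) L660210
theorem L660214 : sm ge N47350 = N45411 := ded_44_1 (flp_i L384059) (flp_e L361040) L660210
theorem L660216 : sm gf N47350 = N42694 := ded_48_1 (flp_i L361042) L361036 L660210
theorem L660218 : sm gh N42694 = N47351 := rfl
theorem L660220 : sm ge N47351 = N42695 := ded_43_1 (flp_h L361048) (flp_e L361046) L660218
theorem L660222 : sm gf N42696 = N47352 := rfl
theorem L660224 : sm gb N47352 = N45361 := ded_22_1 L383726 (flp_b L642506) L660222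
theorem L660226 : sm gc N47352 = N47352 := ded_29_1 (flp_f L660222) L361054 L660222
theorem L660227 : sm gj N47352 = N42698 := ded_46_2 (flp_f L361067) (flp_j L361055) L660222
theorem L660229 : sm gh N47352 = N47352 := ded_47_2 (flp_f L660222) L361057 L660222
theorem L660230 : sm ge N47352 = N43067 := ded_40_1 (flp_f L364164) (flp_e L250451) (flp_f L248378) L361052 L660222
theorem L660232 : sm gi N42696 = N47353 := rfl
theorem L660234 : sm gb N47353 = N45367 := ded_26_1 (flp_i L383776) (flp_b L642506) L660232
theorem L660236 : sm gc N47353 = N47353 := ded_33_1 (flp_i L660232) L361054 L660232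
theorem L660237 : sm ge N47353 = N42697 := ded_44_1 (flp_i L361058) L361052 L660232
theorem L660239 : sm gg N47353 = N45370 := ded_51_1 (flp_i L383804) (flp_g L642509) L660232
theorem L660241 : sm gj N47353 = N42699 := ded_53_1 (flp_i L361073) (flp_j L361055) L660232
theorem L660243 : sm gh N42697 = N47354 := rfl
theorem L660245 : sm gb N47354 = N46377 := ded_25_1 (flp_h L649721) (flp_b L649235) L660243
theorem L660247 : sm gc N47354 = N47354 := ded_32_1 (flp_h L660243) L361060 L660243
theorem L660248 : sm gf N47354 = N43069 := ded_47_1 (flp_h L364178) (flp_f L361063) L660243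
theorem L660250 : sm gg N47354 = N46379 := ded_50_1 (flp_h L649738) L649233 L660243
theorem L660252 : sm gj N47354 = N42700 := ded_52_1 (flp_h L361080) (flp_j L361065) L660243
theorem L660254 : sm gi N47354 = N47354 := ded_54_2 (flp_h L660243) (flp_i L361058) L248383 L361058 L660243
theorem L660255 : sm gg N42698 = N47355 := rfl
theorem L660257 : sm gc N47355 = N47355 := ded_30_1 (flp_g L660255) L361069 L660255
theorem L660258 : sm ge N47355 = N43070 := ded_41_1 (flp_g L364185) (flp_e L361071) L660255
theorem L660260 : sm gh N47355 = N47355 := ded_50_2 (flp_g L660255) L361070 L660255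
theorem L660261 : sm gf N47355 = N42701 := ded_45_1 (flp_g L361088) (flp_f L248407) (flp_g L248395) L361067 L660255
theorem L660263 : sm gi N42698 = N47356 := rfl
theorem L660265 : sm gc N47356 = N47356 := ded_33_1 (flp_i L660263) L361069 L660263
theorem L660266 : sm ge N47356 = N43071 := ded_44_1 (flp_i L364191) (flp_e L361071) L660263
theorem L660268 : sm gf N47356 = N42699 := ded_48_1 (flp_i L361073) L361067 L660263
theorem L660270 : sm gh N42699 = N47357 := rfl
theorem L660272 : sm gc N47357 = N47357 := ded_32_1 (flp_h L660270) L361075 L660270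
theorem L660273 : sm ge N47357 = N42700 := ded_43_1 (flp_h L361080) (flp_e L361076) L660270
theorem L660275 : sm gg N47357 = N42703 := ded_50_1 (flp_h L361101) (flp_g L361078) L660270
theorem L660277 : sm gi N47357 = N47357 := ded_54_2 (flp_h L660270) (flp_i L361073) L248397 L361073 L660270
theorem L660278 : sm gj N42701 = N47358 := rfl
theorem L660280 : sm gc N47358 = N47358 := ded_31_1 (flp_j L660278) L361090 L660278
theorem L660281 : sm ge N47358 = N42704 := ded_42_1 (flp_j L361107) (flp_e L361091) L660278
theorem L660283 : sm gh N47358 = N47358 := ded_52_2 (flp_j L660278) L361093 L660278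
theorem L660284 : sm gi N42701 = N47359 := rfl
theorem L660286 : sm gc N47359 = N47359 := ded_33_1 (flp_i L660284) L361090 L660284
theorem L660287 : sm ge N47359 = N42705 := ded_44_1 (flp_i L361115) (flp_e L361091) L660284
theorem L660289 : sm gg N47359 = N42702 := ded_51_1 (flp_i L361094) L361088 L660284
theorem L660291 : sm gh N42702 = N47360 := rfl
theorem L660293 : sm gc N47360 = N47360 := ded_32_1 (flp_h L660291) L361096 L660291
theorem L660294 : sm ge N47360 = N42706 := ded_43_1 (flp_h L361124) (flp_e L361097) L660291
theorem L660296 : sm gf N47360 = N42703 := ded_47_1 (flp_h L361101) (flp_f L361099) L660291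
theorem L660298 : sm gi N47360 = N47360 := ded_54_2 (flp_h L660291) (flp_i L361094) L248410 L361094 L660291
theorem L660299 : sm gd N42703 = N47361 := rfl
theorem L660301 : sm gi N47361 = N47361 := ded_39_2 (flp_d L660299) L361106 L660299
theorem L660302 : sm gi N42704 = N47362 := rfl
theorem L660304 : sm gc N47362 = N47362 := ded_33_1 (flp_i L660302) L361109 L660302
theorem L660305 : sm gd N47362 = N45423 := ded_39_1 (flp_i L384155) (flp_d L361110) L660302
theorem L660307 : sm gf N47362 = N43077 := ded_48_1 (flp_i L364231) (flp_f L361112) L660302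
theorem L660309 : sm gg N47362 = N46402 := ded_51_1 L657857 L657855 L660302
theorem L660311 : sm gj N47362 = N42705 := ded_53_1 (flp_i L361115) L361107 L660302
theorem L660313 : sm gh N46420 = N47362 := ded_38_0 L660305 L648682 L271382 L271692 L650043
theorem L660315 : sm gh N42705 = N47363 := rfl
theorem L660317 : sm gc N47363 = N47363 := ded_32_1 (flp_h L660315) L361117 L660315
theorem L660318 : sm gf N47363 = N43078 := ded_47_1 (flp_h L364239) (flp_f L361120) L660315
theorem L660320 : sm gg N47363 = N42706 := ded_50_1 (flp_h L361124) (flp_g L361122) L660315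
theorem L660322 : sm gj N47363 = N46420 := ded_52_1 L660313 L660311 L660315
theorem L660324 : sm gd N47363 = N46417 := ded_38_1 (flp_h L650019) (flp_d L649117) L501524 (flp_d L361118) L660315
theorem L660326 : sm gi N47363 = N47363 := ded_54_2 (flp_h L660315) (flp_i L361115) L248429 L361115 L660315
theorem L660327 : sm gi N42708 = N47364 := rfl
theorem L660329 : sm gb N47364 = N42723 := ded_26_1 (flp_i L361264) (flp_b L361139) L660327
theorem L660331 : sm ge N47364 = N43082 := ded_44_1 (flp_i L364271) (flp_e L361141) L660327
theorem L660333 : sm gg N47364 = N42710 := ded_51_1 (flp_i L361156) (flp_g L361143) L660327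
theorem L660335 : sm gj N47364 = N45428 := ded_53_1 (flp_i L384194) (flp_j L361145) L660327
theorem L660337 : sm gc N42709 = N47365 := rfl
theorem L660339 : sm gf N47365 = N42714 := ded_29_2 (flp_c L361193) (flp_f L361151) L660337
theorem L660341 : sm gj N47365 = N42711 := ded_31_2 (flp_c L361166) (flp_j L361153) L660337
theorem L660343 : sm gh N47365 = N47365 := ded_32_2 (flp_c L660337) L361155 L660337
theorem L660344 : sm gb N47365 = N45260 := ded_19_1 (flp_c L382912) L263159 L637653 (flp_b L361149) L660337
theorem L660346 : sm ge N42709 = N47366 := rfl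
theorem L660348 : sm gb N47366 = N42725 := ded_21_1 (flp_e L361281) (flp_b L361149) L660346
theorem L660350 : sm gj N47366 = N42712 := ded_42_2 (flp_e L361173) (flp_j L361153) L660346
theorem L660352 : sm gh N47366 = N47366 := ded_43_2 (flp_e L660346) L361155 L660346
theorem L660353 : sm gd N47366 = N43084 := ded_34_1 (flp_e L364288) (flp_d L250540) (flp_e L248460) L361147 L660346
theorem L660355 : sm gf N47366 = N47366 := ded_40_2 (flp_e L660346) L361151 L248491 (flp_f L361151) L660346
theorem L660356 : sm gi N42709 = N47367 := rfl
theorem L660358 : sm gb N47367 = N42726 := ded_26_1 (flp_i L361290) (flp_b L361149) L660356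
theorem L660360 : sm gd N47367 = N42710 := ded_39_1 (flp_i L361156) L361147 L660356
theorem L660362 : sm gf N47367 = N42715 := ded_48_1 (flp_i L361199) (flp_f L361151) L660356
theorem L660364 : sm gj N47367 = N42713 := ded_53_1 (flp_i L361183) (flp_j L361153) L660356
theorem L660366 : sm gb N42711 = N47368 := rfl
theorem L660368 : sm gf N47368 = N42716 := ded_22_2 (flp_b L361208) (flp_f L361168) L660366
theorem L660370 : sm gg N47368 = N45432 := ded_23_2 (flp_b L384230) (flp_g L361170) L660366
theorem L660372 : sm gj N47368 = N45260 := ded_24_2 (flp_b L660344) L660341 L660366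
theorem L660374 : sm gh N47368 = N47368 := ded_25_2 (flp_b L660366) L361172 L660366
theorem L660375 : sm gc N47368 = N42727 := ded_19_2 (flp_b L361299) (flp_c L248565) (flp_b L248468) L361166 L660366
theorem L660377 : sm ge N42711 = N47369 := rfl
theorem L660379 : sm gc N47369 = N42712 := ded_28_1 (flp_e L361173) L361166 L660377
theorem L660381 : sm gg N47369 = N45433 := ded_41_2 (flp_e L384237) (flp_g L361170) L660377
theorem L660383 : sm gh N47369 = N47369 := ded_43_2 (flp_e L660377) L361172 L660377
theorem L660384 : sm gf N47369 = N47369 := ded_40_2 (flp_e L660377) L361168 L248503 (flp_f L361168) L660377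
theorem L660385 : sm gi N42711 = N47370 := rfl
theorem L660387 : sm gc N47370 = N42713 := ded_33_1 (flp_i L361183) L361166 L660385
theorem L660389 : sm gf N47370 = N42717 := ded_48_1 (flp_i L361216) (flp_f L361168) L660385
theorem L660391 : sm gg N47370 = N45434 := ded_51_1 (flp_i L384244) (flp_g L361170) L660385
theorem L660393 : sm gi N42712 = N47371 := rfl
theorem L660395 : sm gb N47371 = N42730 := ded_26_1 (flp_i L361324) (flp_b L361175) L660393
theorem L660397 : sm gd N47371 = N43089 := ded_39_1 (flp_i L364334) (flp_d L361180) L660393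
theorem L660399 : sm ge N47371 = N42713 := ded_44_1 (flp_i L361183) L361173 L660393
theorem L660401 : sm gf N47371 = N47371 := ded_48_1 (flp_i L660393) L361182 L660393
theorem L660402 : sm gg N47371 = N45435 := ded_51_1 (flp_i L384250) (flp_g L361177) L660393
theorem L660404 : sm gh N42713 = N47372 := rfl
theorem L660406 : sm gb N47372 = N42731 := ded_25_1 (flp_h L361334) (flp_b L361185) L660404
theorem L660408 : sm gf N47372 = N42718 := ded_47_1 (flp_h L361223) (flp_f L361189) L660404
theorem L660410 : sm gg N47372 = N45436 := ded_50_1 (flp_h L384260) (flp_g L361191) L660404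
theorem L660412 : sm gi N47372 = N47372 := ded_54_2 (flp_h L660404) (flp_i L361183) L248474 L361183 L660404
theorem L660413 : sm gi N42714 = N47373 := rfl
theorem L660415 : sm gb N47373 = N45266 := ded_26_1 (flp_i L382956) (flp_b L637599) L660413
theorem L660417 : sm gc N47373 = N42715 := ded_33_1 (flp_i L361199) L361193 L660413
theorem L660419 : sm ge N47373 = N47373 := ded_44_1 (flp_i L660413) L361195 L660413
theorem L660420 : sm gg N47373 = N45269 := ded_51_1 (flp_i L382979) (flp_g L637602) L660413
theorem L660422 : sm gj N47373 = N42717 := ded_53_1 (flp_i L361216) (flp_j L361196) L660413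
theorem L660424 : sm gh N42715 = N47374 := rfl
theorem L660426 : sm gb N47374 = N42734 := ded_25_1 (flp_h L361356) (flp_b L361201) L660424
theorem L660428 : sm ge N47374 = N47374 := ded_43_1 (flp_h L660424) L361205 L660424
theorem L660429 : sm gg N47374 = N45288 := ded_50_1 (flp_h L383120) (flp_g L637092) L660424
theorem L660431 : sm gj N47374 = N42718 := ded_52_1 (flp_h L361223) (flp_j L361206) L660424
theorem L660433 : sm gi N47374 = N47374 := ded_54_2 (flp_h L660424) (flp_i L361199) L248492 L361199 L660424
theorem L660434 : sm ga N42716 = N47375 := rfl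
theorem L660436 : sm gc N47375 = N42735 := ded_11_2 (flp_a L361363) (flp_c L361214) L660434
theorem L660438 : sm ge N47375 = N47375 := ded_13_2 (flp_a L660434) L361210 L660434
theorem L660439 : sm gg N47375 = N42719 := ded_15_2 (flp_a L361231) (flp_g L361211) L660434
theorem L660441 : sm gj N47375 = N45216 := ded_16_2 L382602 (flp_j L637438) L660434
theorem L660443 : sm gh N47375 = N47375 := ded_17_2 (flp_a L660434) L361213 L660434
theorem L660444 : sm gi N42716 = N47376 := rfl
theorem L660446 : sm gb N47376 = N42717 := ded_26_1 (flp_i L361216) L361208 L660444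
theorem L660448 : sm gc N47376 = N42736 := ded_33_1 (flp_i L361370) (flp_c L361214) L660444
theorem L660450 : sm ge N47376 = N47376 := ded_44_1 (flp_i L660444) L361210 L660444
theorem L660451 : sm gg N47376 = N42720 := ded_51_1 (flp_i L361239) (flp_g L361211) L660444
theorem L660453 : sm gj N47376 = N45266 := ded_53_1 (flp_i L382956) (flp_j L637438) L660444
theorem L660455 : sm gh N42717 = N47377 := rfl
theorem L660457 : sm gc N47377 = N42718 := ded_32_1 (flp_h L361223) (flp_c L361218) L660455
theorem L660459 : sm ge N47377 = N47377 := ded_43_1 (flp_h L660455) L361220 L660455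
theorem L660460 : sm gg N47377 = N42721 := ded_50_1 (flp_h L361248) (flp_g L361221) L660455
theorem L660462 : sm gi N47377 = N47377 := ded_54_2 (flp_h L660455) (flp_i L361216) L248506 L361216 L660455
theorem L660463 : sm gi N42719 = N47378 := rfl
theorem L660465 : sm ga N47378 = N42720 := ded_18_1 (flp_i L361239) L361231 L660463
theorem L660467 : sm gc N47378 = N42738 := ded_33_1 (flp_i L361386) (flp_c L361233) L660463
theorem L660469 : sm ge N47378 = N47378 := ded_44_1 (flp_i L660463) L361235 L660463
theorem L660470 : sm gf N47378 = N45443 := ded_48_1 (flp_i L384321) (flp_f L361236) L660463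
theorem L660472 : sm gh N42720 = N47379 := rfl
theorem L660474 : sm gb N47379 = N42721 := ded_25_1 (flp_h L361248) (flp_b L361241) L660472
theorem L660476 : sm gc N47379 = N42739 := ded_32_1 (flp_h L361394) (flp_c L361243) L660472
theorem L660478 : sm ge N47379 = N47379 := ded_43_1 (flp_h L660472) L361245 L660472
theorem L660479 : sm gf N47379 = N45444 := ded_47_1 (flp_h L384329) (flp_f L361246) L660472
theorem L660481 : sm gi N47379 = N47379 := ded_54_2 (flp_h L660472) (flp_i L361239) L248521 L361239 L660472
theorem L660482 : sm gd N42721 = N47380 := rfl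
theorem L660484 : sm gf N47380 = N45445 := ded_35_2 (flp_d L384338) (flp_f L361253) L660482
theorem L660486 : sm gi N47380 = N47380 := ded_39_2 (flp_d L660482) L361255 L660482
theorem L660487 : sm gi N42725 = N47381 := rfl
theorem L660489 : sm ga N47381 = N47381 := ded_18_1 (flp_i L660487) L361283 L660487
theorem L660490 : sm gc N47381 = N45279 := ded_33_1 (flp_i L383052) (flp_c L637061) L660487
theorem L660492 : sm gd N47381 = N43106 := ded_39_1 (flp_i L364493) (flp_d L361287) L660487
theorem L660494 : sm ge N47381 = N42726 := ded_44_1 (flp_i L361290) L361281 L660487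
theorem L660496 : sm gf N47381 = N47381 := ded_48_1 (flp_i L660487) L361289 L660487
theorem L660497 : sm gj N47381 = N42730 := ded_53_1 (flp_i L361324) (flp_j L361284) L660487
theorem L660499 : sm gh N42726 = N47382 := rfl
theorem L660501 : sm ga N47382 = N47382 := ded_17_1 (flp_h L660499) L361292 L660499
theorem L660502 : sm gc N47382 = N45280 := ded_32_1 (flp_h L383060) (flp_c L637049) L660499
theorem L660504 : sm gf N47382 = N42734 := ded_47_1 (flp_h L361356) (flp_f L361295) L660499
theorem L660506 : sm gj N47382 = N42731 := ded_52_1 (flp_h L361334) (flp_j L361297) L660499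
theorem L660508 : sm gi N47382 = N47382 := ded_54_2 (flp_h L660499) (flp_i L361290) L248555 L361290 L660499
theorem L660509 : sm ga N42727 = N47383 := rfl
theorem L660511 : sm gd N47383 = N45211 := ded_12_2 L382552 (flp_d L637617) L660509
theorem L660513 : sm gf N47383 = N42735 := ded_14_2 (flp_a L361363) (flp_f L361301) L660509
theorem L660515 : sm gg N47383 = N45454 := ded_15_2 (flp_a L384407) (flp_g L361303) L660509
theorem L660517 : sm gj N47383 = N45212 := ded_16_2 L382563 (flp_j L637619) L660509
theorem L660519 : sm gh N47383 = N47383 := ded_17_2 (flp_a L660509) L361305 L660509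
theorem L660520 : sm gb N47383 = N47383 := ded_10_2 (flp_a L660509) (flp_b L361299) L248567 L361299 L660509
theorem L660521 : sm ge N42727 = N47384 := rfl
theorem L660523 : sm gb N47384 = N42728 := ded_21_1 (flp_e L361306) L361299 L660521
theorem L660525 : sm gg N47384 = N45455 := ded_41_2 (flp_e L384413) (flp_g L361303) L660521
theorem L660527 : sm gj N47384 = N45261 := ded_42_2 (flp_e L382917) (flp_j L637619) L660521
theorem L660529 : sm gh N47384 = N47384 := ded_43_2 (flp_e L660521) L361305 L660521
theorem L660530 : sm gd N47384 = N45610 := ded_34_1 (flp_e L385653) (flp_d L265000) (flp_e L263151) (flp_d L637617) L660521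
theorem L660532 : sm gf N47384 = N47384 := ded_40_2 (flp_e L660521) L361301 L248608 (flp_f L361301) L660521
theorem L660533 : sm gi N42727 = N47385 := rfl
theorem L660535 : sm gb N47385 = N42729 := ded_26_1 (flp_i L361315) L361299 L660533
theorem L660537 : sm gd N47385 = N45259 := ded_39_1 (flp_i L382900) (flp_d L637617) L660533
theorem L660539 : sm gf N47385 = N42736 := ded_48_1 (flp_i L361370) (flp_f L361301) L660533
theorem L660541 : sm gg N47385 = N45456 := ded_51_1 (flp_i L384420) (flp_g L361303) L660533
theorem L660543 : sm gj N47385 = N45262 := ded_53_1 (flp_i L382925) (flp_j L637619) L660533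
theorem L660545 : sm gi N42728 = N47386 := rfl
theorem L660547 : sm ga N47386 = N47386 := ded_18_1 (flp_i L660545) L361308 L660545
theorem L660548 : sm gc N47386 = N42730 := ded_33_1 (flp_i L361324) (flp_c L361309) L660545
theorem L660550 : sm gd N47386 = N45632 := ded_39_1 (flp_i L385842) (flp_d L637016) L660545
theorem L660552 : sm ge N47386 = N42729 := ded_44_1 (flp_i L361315) L361306 L660545
theorem L660554 : sm gf N47386 = N47386 := ded_48_1 (flp_i L660545) L361314 L660545
theorem L660555 : sm gg N47386 = N45458 := ded_51_1 (flp_i L384433) (flp_g L361311) L660545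
theorem L660557 : sm gj N47386 = N45279 := ded_53_1 (flp_i L383052) (flp_j L637019) L660545
theorem L660559 : sm gh N42729 = N47387 := rfl
theorem L660561 : sm ga N47387 = N47387 := ded_17_1 (flp_h L660559) L361317 L660559
theorem L660562 : sm gc N47387 = N42731 := ded_32_1 (flp_h L361334) (flp_c L361318) L660559
theorem L660564 : sm gf N47387 = N42737 := ded_47_1 (flp_h L361377) (flp_f L361320) L660559
theorem L660566 : sm gg N47387 = N45459 := ded_50_1 (flp_h L384442) (flp_g L361322) L660559
theorem L660568 : sm gj N47387 = N45280 := ded_52_1 (flp_h L383060) (flp_j L636993) L660559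
theorem L660570 : sm gd N47387 = N45453 := ded_38_1 (flp_h L384399) L264160 (flp_h L263250) (flp_d L636991) L660559
theorem L660572 : sm gi N47387 = N47387 := ded_54_2 (flp_h L660559) (flp_i L361315) L248572 L361315 L660559
theorem L660573 : sm gh N42730 = N47388 := rfl
theorem L660575 : sm ga N47388 = N47388 := ded_17_1 (flp_h L660573) L361326 L660573
theorem L660576 : sm ge N47388 = N42731 := ded_43_1 (flp_h L361334) (flp_e L361329) L660573
theorem L660578 : sm gf N47388 = N47388 := ded_47_1 (flp_h L660573) L361331 L660573
theorem L660579 : sm gg N47388 = N45460 := ded_50_1 (flp_h L384450) (flp_g L361332) L660573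
theorem L660581 : sm gi N47388 = N47388 := ded_54_2 (flp_h L660573) (flp_i L361324) L248578 L361324 L660573
theorem L660582 : sm gi N42735 = N47389 := rfl
theorem L660584 : sm ga N47389 = N42736 := ded_18_1 (flp_i L361370) L361363 L660582
theorem L660586 : sm gb N47389 = N47389 := ded_26_1 (flp_i L660582) L361369 L660582
theorem L660587 : sm gd N47389 = N45215 := ded_39_1 (flp_i L382589) (flp_d L637442) L660582
theorem L660589 : sm ge N47389 = N47389 := ded_44_1 (flp_i L660582) L361365 L660582
theorem L660590 : sm gg N47389 = N42738 := ded_51_1 (flp_i L361386) (flp_g L361366) L660582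
theorem L660592 : sm gj N47389 = N45217 := ded_53_1 (flp_i L382608) (flp_j L637445) L660582
theorem L660594 : sm gh N42736 = N47390 := rfl
theorem L660596 : sm gb N47390 = N42737 := ded_25_1 (flp_h L361377) (flp_b L361372) L660594
theorem L660598 : sm ge N47390 = N47390 := ded_43_1 (flp_h L660594) L361374 L660594
theorem L660599 : sm gg N47390 = N42739 := ded_50_1 (flp_h L361394) (flp_g L361375) L660594
theorem L660601 : sm gj N47390 = N45267 := ded_52_1 (flp_h L382963) (flp_j L637628) L660594
theorem L660603 : sm gd N47390 = N45439 := ded_38_1 (flp_h L384284) L264072 (flp_h L263190) (flp_d L637625) L660594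
theorem L660605 : sm gi N47390 = N47390 := ded_54_2 (flp_h L660594) (flp_i L361370) L248611 L361370 L660594
theorem L660606 : sm gh N42738 = N47391 := rfl
theorem L660608 : sm ga N47391 = N42739 := ded_17_1 (flp_h L361394) (flp_a L361388) L660606
theorem L660610 : sm gb N47391 = N47391 := ded_25_1 (flp_h L660606) L361390 L660606
theorem L660611 : sm ge N47391 = N47391 := ded_43_1 (flp_h L660606) L361391 L660606
theorem L660612 : sm gf N47391 = N45467 := ded_47_1 (flp_h L384508) (flp_f L361392) L660606
theorem L660614 : sm gi N47391 = N47391 := ded_54_2 (flp_h L660606) (flp_i L361386) L248632 L361386 L660606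
theorem L660615 : sm gd N42739 = N47392 := rfl
theorem L660617 : sm gb N47392 = N42740 := ded_20_1 (flp_d L361402) (flp_b L361396) L660615
theorem L660619 : sm gf N47392 = N45468 := ded_35_2 (flp_d L384516) (flp_f L361399) L660615
theorem L660621 : sm gg N47392 = N45439 := ded_36_2 (flp_d L660603) L660599 L660615
theorem L660623 : sm gj N47392 = N45145 := ded_37_2 (flp_d L657964) L657962 L660615
theorem L660625 : sm gi N47392 = N47392 := ded_39_2 (flp_d L660615) L361401 L660615
theorem L660626 : sm gh N47392 = N45142 := ded_38_2 L381956 (flp_h L641268) L355900 L361394 L660615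
theorem L660628 : sm ge N46352 = N47392 := ded_21_0 L660617 L649065 (flp_b L649509)
theorem L660630 : sm gi N42746 = N47393 := rfl
theorem L660632 : sm ga N47393 = N47393 := ded_18_1 (flp_i L660630) L361455 L660630
theorem L660633 : sm gb N47393 = N42762 := ded_26_1 (flp_i L361595) (flp_b L361456) L660630
theorem L660635 : sm gc N47393 = N43123 := ded_33_1 L364649 (flp_c L542453) L660630
theorem L660637 : sm gd N47393 = N42747 := ded_39_1 (flp_i L361462) L361453 L660630
theorem L660639 : sm ge N47393 = N42943 := ded_44_1 L363153 (flp_e L542455) L660630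
theorem L660641 : sm gf N47393 = N42750 := ded_48_1 (flp_i L361488) (flp_f L361458) L660630
theorem L660643 : sm gj N47393 = N47393 := ded_53_1 (flp_i L660630) L361460 L660630
theorem L660644 : sm gh N42750 = N47394 := rfl
theorem L660646 : sm ga N47394 = N47394 := ded_17_1 (flp_h L660644) L361490 L660644
theorem L660647 : sm gb N47394 = N42765 := ded_25_1 (flp_h L361625) (flp_b L361491) L660644
theorem L660649 : sm gj N47394 = N47394 := ded_52_1 (flp_h L660644) L361495 L660644
theorem L660650 : sm gd N47394 = N47394 := ded_38_1 (flp_h L660644) L361493 L248691 (flp_d L361493) L660644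
theorem L660651 : sm gi N47394 = N47394 := ded_54_2 (flp_h L660644) (flp_i L361488) L248682 L361488 L660644
theorem L660652 : sm ge N42759 = N47395 := rfl
theorem L660654 : sm ga N47395 = N42789 := ded_13_1 (flp_e L361836) (flp_a L361571) L660652
theorem L660656 : sm gb N47395 = N43500 := ded_21_1 (flp_e L658267) L658259 L660652
theorem L660658 : sm gc N47395 = N42856 := ded_28_1 (flp_e L362443) (flp_c L361575) L660652
theorem L660660 : sm gg N47395 = N42761 := ded_41_2 (flp_e L361587) (flp_g L361573) L660652
theorem L660662 : sm gj N47395 = N46554 := ded_42_2 (flp_e L658188) L658184 L660652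
theorem L660664 : sm gh N47395 = N47395 := ded_43_2 (flp_e L660652) L361577 L660652
theorem L660665 : sm gd N47395 = N43499 := ded_34_1 L542426 L292747 (flp_e L537200) L361569 L660652
theorem L660667 : sm gi N42759 = N47396 := rfl
theorem L660669 : sm ga N47396 = N42790 := ded_18_1 (flp_i L361844) (flp_a L361571) L660667
theorem L660671 : sm gc N47396 = N42857 := ded_33_1 (flp_i L362450) (flp_c L361575) L660667
theorem L660673 : sm gd N47396 = N42760 := ded_39_1 (flp_i L361578) L361569 L660667
theorem L660675 : sm gg N47396 = N42762 := ded_51_1 (flp_i L361595) (flp_g L361573) L660667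
theorem L660677 : sm gi N42761 = N47397 := rfl
theorem L660679 : sm ga N47397 = N42792 := ded_18_1 (flp_i L361862) (flp_a L361589) L660677
theorem L660681 : sm gb N47397 = N42943 := ded_26_1 L363153 (flp_b L648197) L660677
theorem L660683 : sm gc N47397 = N42859 := ded_33_1 (flp_i L362466) (flp_c L361591) L660677
theorem L660685 : sm gd N47397 = N42942 := ded_39_1 L363145 (flp_d L648199) L660677
theorem L660687 : sm ge N47397 = N42762 := ded_44_1 (flp_i L361595) L361587 L660677
theorem L660689 : sm gf N47397 = N45648 := ded_48_1 L385978 (flp_f L648201) L660677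
theorem L660691 : sm gj N47397 = N47397 := ded_53_1 (flp_i L660677) L361593 L660677
theorem L660692 : sm gh N42762 = N47398 := rfl
theorem L660694 : sm ga N47398 = N42793 := ded_17_1 (flp_h L361870) (flp_a L361597) L660692
theorem L660696 : sm gc N47398 = N42860 := ded_32_1 (flp_h L362473) (flp_c L361599) L660692
theorem L660698 : sm gf N47398 = N42765 := ded_47_1 (flp_h L361625) (flp_f L361603) L660692
theorem L660700 : sm gj N47398 = N47398 := ded_52_1 (flp_h L660692) L361605 L660692
theorem L660701 : sm gd N47398 = N47398 := ded_38_1 (flp_h L660692) L361601 L248757 (flp_d L361601) L660692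
theorem L660702 : sm gi N47398 = N47398 := ded_54_2 (flp_h L660692) (flp_i L361595) L248747 L361595 L660692
theorem L660703 : sm gi N42785 = N47399 := rfl
theorem L660705 : sm ga N47399 = N42942 := ded_18_1 L363145 (flp_a L533217) L660703
theorem L660707 : sm gb N47399 = N47399 := ded_26_1 (flp_i L660703) L361807 L660703
theorem L660708 : sm gc N47399 = N44791 := ded_33_1 (flp_i L378955) (flp_c L542406) L660703
theorem L660710 : sm gd N47399 = N42792 := ded_39_1 (flp_i L361862) (flp_d L361809) L660703
theorem L660712 : sm ge N47399 = N42786 := ded_44_1 (flp_i L361811) L361805 L660703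
theorem L660714 : sm gf N47399 = N45647 := ded_48_1 L385971 (flp_f L533220) L660703
theorem L660716 : sm gg N47399 = N46556 := ded_51_1 (flp_i L651198) L648455 L660703
theorem L660718 : sm gj N47399 = N47399 := ded_53_1 (flp_i L660703) L361808 L660703
theorem L660719 : sm gh N47399 = N42941 := ded_54_1 (flp_i L363130) L249801 L253006 (flp_h L533223) L660703
theorem L660721 : sm gi N42787 = N47400 := rfl
theorem L660723 : sm gb N47400 = N47400 := ded_26_1 (flp_i L660721) L361820 L660721
theorem L660724 : sm gc N47400 = N42900 := ded_33_1 (flp_i L362805) (flp_c L361824) L660721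
theorem L660726 : sm gd N47400 = N42788 := ded_39_1 (flp_i L361827) L361818 L660721
theorem L660728 : sm ge N47400 = N46557 := ded_44_1 (flp_i L651207) L648905 L660721
theorem L660730 : sm gg N47400 = N47400 := ded_51_1 (flp_i L660721) L361821 L660721
theorem L660731 : sm gj N47400 = N42790 := ded_53_1 (flp_i L361844) (flp_j L361822) L660721
theorem L660733 : sm gf N42789 = N47401 := rfl
theorem L660735 : sm gb N47401 = N47401 := ded_22_1 (flp_f L660733) L361838 L660733
theorem L660736 : sm gc N47401 = N42901 := ded_29_1 (flp_f L362812) (flp_c L361839) L660733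
theorem L660738 : sm gd N47401 = N46035 := ded_35_1 L389186 (flp_d L648901) L660733
theorem L660740 : sm gj N47401 = N46036 := ded_46_2 L389193 L649389 L660733
theorem L660742 : sm gh N47401 = N47401 := ded_47_2 (flp_f L660733) L361843 L660733
theorem L660743 : sm gi N42789 = N47402 := rfl
theorem L660745 : sm gb N47402 = N47402 := ded_26_1 (flp_i L660743) L361838 L660743
theorem L660746 : sm gc N47402 = N42902 := ded_33_1 (flp_i L362815) (flp_c L361839) L660743
theorem L660748 : sm gd N47402 = N46556 := ded_39_1 (flp_i L651198) (flp_d L648901) L660743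
theorem L660750 : sm ge N47402 = N42790 := ded_44_1 (flp_i L361844) L361836 L660743
theorem L660752 : sm gg N47402 = N42792 := ded_51_1 (flp_i L361862) (flp_g L361841) L660743
theorem L660754 : sm gj N47402 = N46557 := ded_53_1 (flp_i L651207) L649389 L660743
theorem L660756 : sm gh N42790 = N47403 := rfl
theorem L660758 : sm gb N47403 = N47403 := ded_25_1 (flp_h L660756) L361846 L660756
theorem L660759 : sm gc N47403 = N42903 := ded_32_1 (flp_h L362821) (flp_c L361847) L660756
theorem L660761 : sm gg N47403 = N42793 := ded_50_1 (flp_h L361870) (flp_g L361851) L660756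
theorem L660763 : sm gd N47403 = N47403 := ded_38_1 (flp_h L660756) L361849 L248926 (flp_d L361849) L660756
theorem L660764 : sm gi N47403 = N47403 := ded_54_2 (flp_h L660756) (flp_i L361844) L248918 L361844 L660756
theorem L660765 : sm gg N42791 = N47404 := rfl
theorem L660767 : sm ga N47404 = N46157 := ded_15_1 L390104 (flp_a L648448) L660765
theorem L660769 : sm gb N47404 = N47404 := ded_23_1 (flp_g L660765) L361855 L660765
theorem L660770 : sm gc N47404 = N42904 := ded_30_1 (flp_g L362828) (flp_c L361856) L660765
theorem L660772 : sm gd N47404 = N46156 := ded_36_1 L390098 (flp_d L648451) L660765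
theorem L660774 : sm ge N47404 = N42794 := ded_41_1 (flp_g L361880) (flp_e L361860) L660765
theorem L660776 : sm gh N47404 = N47404 := ded_50_2 (flp_g L660765) L361859 L660765
theorem L660777 : sm gj N46426 = N47404 := ded_16_0 L660767 L649283 (flp_a L650088)
theorem L660779 : sm gi N42791 = N47405 := rfl
theorem L660781 : sm ga N47405 = N45648 := ded_18_1 L385978 (flp_a L648448) L660779
theorem L660783 : sm gb N47405 = N47405 := ded_26_1 (flp_i L660779) L361855 L660779
theorem L660784 : sm gc N47405 = N42905 := ded_33_1 (flp_i L362833) (flp_c L361856) L660779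
theorem L660786 : sm gd N47405 = N45647 := ded_39_1 L385971 (flp_d L648451) L660779
theorem L660788 : sm ge N47405 = N42795 := ded_44_1 (flp_i L361887) (flp_e L361860) L660779
theorem L660790 : sm gf N47405 = N42792 := ded_48_1 (flp_i L361862) L361853 L660779
theorem L660792 : sm gj N47405 = N47405 := ded_53_1 (flp_i L660779) L361858 L660779
theorem L660793 : sm gh N42792 = N47406 := rfl
theorem L660795 : sm gb N47406 = N47406 := ded_25_1 (flp_h L660793) L361864 L660793
theorem L660796 : sm gc N47406 = N42906 := ded_32_1 (flp_h L362840) (flp_c L361865) L660793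
theorem L660798 : sm ge N47406 = N42793 := ded_43_1 (flp_h L361870) (flp_e L361867) L660793
theorem L660800 : sm gj N47406 = N47406 := ded_52_1 (flp_h L660793) L361869 L660793
theorem L660801 : sm gi N47406 = N47406 := ded_54_2 (flp_h L660793) (flp_i L361862) L248933 L361862 L660793
theorem L660802 : sm gi N42794 = N47407 := rfl
theorem L660804 : sm ga N47407 = N46424 := ded_18_1 (flp_i L650067) (flp_a L649383) L660802
theorem L660806 : sm gb N47407 = N47407 := ded_26_1 (flp_i L660802) L361882 L660802
theorem L660807 : sm gc N47407 = N42908 := ded_33_1 (flp_i L362852) (flp_c L361883) L660802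
theorem L660809 : sm gd N47407 = N47407 := ded_39_1 (flp_i L660802) L361885 L660802
theorem L660810 : sm gf N47407 = N46432 := ded_48_1 (flp_i L650135) L649403 L660802
theorem L660812 : sm gg N47407 = N42795 := ded_51_1 (flp_i L361887) L361880 L660802
theorem L660814 : sm gj N47407 = N46427 := ded_53_1 (flp_i L650093) L649405 L660802
theorem L660816 : sm gh N42795 = N47408 := rfl
theorem L660818 : sm gb N47408 = N47408 := ded_25_1 (flp_h L660816) L361889 L660816
theorem L660819 : sm gc N47408 = N42909 := ded_32_1 (flp_h L362858) (flp_c L361890) L660816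
theorem L660821 : sm gf N47408 = N42796 := ded_47_1 (flp_h L361896) (flp_f L361893) L660816
theorem L660823 : sm gj N47408 = N47408 := ded_52_1 (flp_h L660816) L361895 L660816
theorem L660824 : sm gi N47408 = N47408 := ded_54_2 (flp_h L660816) (flp_i L361887) L248951 L361887 L660816
theorem L660825 : sm gd N42796 = N47409 := rfl
theorem L660827 : sm gb N47409 = N47409 := ded_20_1 (flp_d L660825) L361898 L660825
theorem L660828 : sm gj N47409 = N47409 := ded_37_2 (flp_d L660825) L361903 L660825
theorem L660829 : sm gi N47409 = N47409 := ded_39_2 (flp_d L660825) L361904 L660825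
theorem L660830 : sm ge N47409 = N47409 := ded_34_2 (flp_d L660825) L361901 L248967 (flp_e L361901) L660825
theorem L660831 : sm gh N47409 = N47409 := ded_38_2 (flp_d L660825) (flp_h L361896) L248957 L361896 L660825
theorem L660832 : sm gi N42812 = N47410 := rfl
theorem L660834 : sm ga N47410 = N47410 := ded_18_1 (flp_i L660832) L362044 L660832
theorem L660835 : sm gb N47410 = N46555 := ded_26_1 (flp_i L651189) (flp_b L648491) L660832
theorem L660837 : sm gc N47410 = N42937 := ded_33_1 L363106 (flp_c L615419) L660832
theorem L660839 : sm ge N47410 = N42813 := ded_44_1 (flp_i L362050) L362042 L660832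
theorem L660841 : sm gf N47410 = N42933 := ded_48_1 (flp_i L363065) (flp_f L362048) L660832
theorem L660843 : sm gg N47410 = N47410 := ded_51_1 (flp_i L660832) L362045 L660832
theorem L660844 : sm gj N47410 = N42940 := ded_53_1 L363128 (flp_j L615425) L660832
theorem L660846 : sm gh N47410 = N42936 := ded_54_1 (flp_i L363090) L249764 L616074 (flp_h L362046) L660832
theorem L660848 : sm gj N42825 = N47411 := rfl
theorem L660850 : sm ga N47411 = N46535 := ded_16_1 (flp_j L651031) L648350 L660848
theorem L660852 : sm gb N47411 = N42846 := ded_24_1 (flp_j L362350) (flp_b L362168) L660848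
theorem L660854 : sm gc N47411 = N47411 := ded_31_1 (flp_j L660848) L362170 L660848
theorem L660855 : sm gd N47411 = N46109 := ded_37_1 L389739 (flp_d L552070) L660848
theorem L660857 : sm gf N47411 = N42826 := ded_46_1 (flp_j L362175) L362166 L660848
theorem L660859 : sm gi N47411 = N42951 := ded_53_2 (flp_j L363215) (flp_i L362171) L660848
theorem L660861 : sm gh N42825 = N47412 := rfl
theorem L660863 : sm ga N47412 = N44911 := ded_17_1 L379974 L648350 L660861
theorem L660865 : sm gb N47412 = N42847 := ded_25_1 (flp_h L362360) (flp_b L362168) L660861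
theorem L660867 : sm gc N47412 = N47412 := ded_32_1 (flp_h L660861) L362170 L660861
theorem L660868 : sm gf N47412 = N42827 := ded_47_1 (flp_h L362185) L362166 L660861
theorem L660870 : sm gg N47412 = N44843 := ded_50_1 L554280 (flp_g L362173) L660861
theorem L660872 : sm gh N42826 = N47413 := rfl
theorem L660874 : sm ga N47413 = N44914 := ded_17_1 L380003 L648344 L660872
theorem L660876 : sm gb N47413 = N42848 := ded_25_1 (flp_h L362370) (flp_b L362177) L660872
theorem L660878 : sm gc N47413 = N47413 := ded_32_1 (flp_h L660872) L362179 L660872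
theorem L660879 : sm ge N47413 = N42830 := ded_43_1 (flp_h L362213) (flp_e L362180) L660872
theorem L660881 : sm gg N47413 = N47413 := ded_50_1 (flp_h L660872) L362184 L660872
theorem L660882 : sm gj N47413 = N42827 := ded_52_1 (flp_h L362185) L362175 L660872
theorem L660884 : sm gd N42827 = N47414 := rfl
theorem L660886 : sm ga N47414 = N44905 := ded_12_1 L379922 (flp_a L502377) L660884
theorem L660888 : sm gb N47414 = N42849 := ded_20_1 (flp_d L362381) (flp_b L362187) L660884
theorem L660890 : sm gg N47414 = N42828 := ded_36_2 (flp_d L362194) (flp_g L362192) L660884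
theorem L660892 : sm gh N47414 = N45578 := ded_38_2 L385431 L265064 L552072 L362185 L660884
theorem L660894 : sm gi N42827 = N47415 := rfl
theorem L660896 : sm ga N47415 = N44915 := ded_18_1 (flp_i L380006) (flp_a L502377) L660894
theorem L660898 : sm gb N47415 = N42850 := ded_26_1 (flp_i L362387) (flp_b L362187) L660894
theorem L660900 : sm gc N47415 = N47415 := ded_33_1 (flp_i L660894) L362189 L660894
theorem L660901 : sm ge N47415 = N42832 := ded_44_1 (flp_i L362228) (flp_e L362190) L660894
theorem L660903 : sm gg N47415 = N42829 := ded_51_1 (flp_i L362201) (flp_g L362192) L660894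
theorem L660905 : sm gh N47415 = N42955 := ded_54_1 (flp_i L363247) (flp_h L249860) (flp_i L249159) L362185 L660894
theorem L660907 : sm gc N42828 = N47416 := rfl
theorem L660909 : sm ga N47416 = N44902 := ded_11_1 L379901 (flp_a L554310) L660907
theorem L660911 : sm ge N47416 = N43693 := ded_28_2 (flp_c L655198) L655205 L660907
theorem L660913 : sm gf N47416 = N44836 := ded_29_2 L379361 (flp_f L554313) L660907
theorem L660915 : sm gj N47416 = N47416 := ded_31_2 (flp_c L660907) L362200 L660907
theorem L660916 : sm gh N47416 = N44734 := ded_32_2 L378510 (flp_h L552110) L660907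
theorem L660918 : sm gb N47416 = N43694 := ded_19_1 L512670 L260105 L546929 (flp_b L362196) L660907
theorem L660920 : sm gd N47416 = N47416 := ded_27_2 (flp_c L660907) (flp_d L362194) L249165 L362194 L660907
theorem L660921 : sm gi N42828 = N47417 := rfl
theorem L660923 : sm ga N47417 = N44906 := ded_18_1 (flp_i L379924) (flp_a L554310) L660921
theorem L660925 : sm gb N47417 = N42853 := ded_26_1 (flp_i L362415) (flp_b L362196) L660921
theorem L660927 : sm gd N47417 = N42829 := ded_39_1 (flp_i L362201) L362194 L660921
theorem L660929 : sm gf N47417 = N44839 := ded_48_1 (flp_i L379381) (flp_f L554313) L660921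
theorem L660931 : sm gj N47417 = N47417 := ded_53_1 (flp_i L660921) L362200 L660921
theorem L660932 : sm gi N42830 = N47418 := rfl
theorem L660934 : sm ga N47418 = N44918 := ded_18_1 (flp_i L380034) (flp_a L502347) L660932
theorem L660936 : sm gb N47418 = N42855 := ded_26_1 (flp_i L362432) (flp_b L362215) L660932
theorem L660938 : sm gc N47418 = N47418 := ded_33_1 (flp_i L660932) L362217 L660932
theorem L660939 : sm gg N47418 = N47418 := ded_51_1 (flp_i L660932) L362218 L660932
theorem L660940 : sm gj N47418 = N42832 := ded_53_1 (flp_i L362228) (flp_j L362219) L660932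
theorem L660942 : sm gh N47418 = N42960 := ded_54_1 (flp_i L363286) (flp_h L249886) (flp_i L249177) L362213 L660932
theorem L660944 : sm gg N42846 = N47419 := rfl
theorem L660946 : sm ga N47419 = N42884 := ded_15_1 (flp_g L362690) (flp_a L362352) L660944
theorem L660948 : sm gc N47419 = N42864 := ded_30_1 (flp_g L362507) (flp_c L362354) L660944
theorem L660950 : sm gd N47419 = N46106 := ded_36_1 L389717 (flp_d L542917) L660944
theorem L660952 : sm gi N47419 = N42985 := ded_51_2 (flp_g L363492) (flp_i L362358) L660944
theorem L660954 : sm gf N47419 = N47419 := ded_45_1 (flp_g L660944) L362356 L249266 (flp_f L362356) L660944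
theorem L660955 : sm gj N47419 = N45511 := ded_49_2 (flp_g L384875) (flp_j L264476) (flp_g L249254) L362350 L660944
theorem L660957 : sm gh N42846 = N47420 := rfl
theorem L660959 : sm ga N47420 = N42885 := ded_17_1 (flp_h L362699) (flp_a L362352) L660957
theorem L660961 : sm gc N47420 = N42865 := ded_32_1 (flp_h L362519) (flp_c L362354) L660957
theorem L660963 : sm gf N47420 = N42848 := ded_47_1 (flp_h L362370) (flp_f L362356) L660957
theorem L660965 : sm gj N47420 = N42847 := ded_52_1 (flp_h L362360) L362350 L660957
theorem L660967 : sm gd N42847 = N47421 := rfl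
theorem L660969 : sm ga N47421 = N42886 := ded_12_1 (flp_d L362707) (flp_a L362362) L660967
theorem L660971 : sm gf N47421 = N42849 := ded_35_2 (flp_d L362381) (flp_f L362366) L660967
theorem L660973 : sm gg N47421 = N45513 := ded_36_2 (flp_d L384894) (flp_g L362368) L660967
theorem L660975 : sm gc N47421 = N45556 := ded_27_1 (flp_d L385275) L264763 L561899 (flp_c L362364) L660967
theorem L660977 : sm gh N47421 = N45572 := ded_38_2 L385398 L265024 (flp_d L542908) L362360 L660967
theorem L660979 : sm gi N42847 = N47422 := rfl
theorem L660981 : sm ga N47422 = N42887 := ded_18_1 (flp_i L362713) (flp_a L362362) L660979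
theorem L660983 : sm gc N47422 = N42867 := ded_33_1 (flp_i L362539) (flp_c L362364) L660979
theorem L660985 : sm gf N47422 = N42850 := ded_48_1 (flp_i L362387) (flp_f L362366) L660979
theorem L660987 : sm gg N47422 = N45514 := ded_51_1 (flp_i L384900) (flp_g L362368) L660979
theorem L660989 : sm gh N47422 = N42988 := ded_54_1 (flp_i L363519) (flp_h L250024) (flp_i L249252) L362360 L660979
theorem L660991 : sm gd N42848 = N47423 := rfl
theorem L660993 : sm ga N47423 = N42888 := ded_12_1 (flp_d L362723) (flp_a L362372) L660991
theorem L660995 : sm gg N47423 = N47423 := ded_36_2 (flp_d L660991) L362378 L660991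
theorem L660996 : sm gj N47423 = N42849 := ded_37_2 (flp_d L362381) (flp_j L362379) L660991
theorem L660998 : sm gc N47423 = N45558 := ded_27_1 (flp_d L385289) L264769 L561893 (flp_c L362374) L660991
theorem L661000 : sm gh N47423 = N45575 := ded_38_2 L385413 L265047 (flp_d L546827) L362370 L660991
theorem L661002 : sm gi N42848 = N47424 := rfl
theorem L661004 : sm ga N47424 = N42889 := ded_18_1 (flp_i L362728) (flp_a L362372) L661002
theorem L661006 : sm gc N47424 = N42869 := ded_33_1 (flp_i L362560) (flp_c L362374) L661002
theorem L661008 : sm ge N47424 = N42855 := ded_44_1 (flp_i L362432) (flp_e L362376) L661002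
theorem L661010 : sm gg N47424 = N47424 := ded_51_1 (flp_i L661002) L362378 L661002
theorem L661011 : sm gj N47424 = N42850 := ded_53_1 (flp_i L362387) (flp_j L362379) L661002
theorem L661013 : sm gh N47424 = N42990 := ded_54_1 (flp_i L363536) (flp_h L250034) (flp_i L249264) L362370 L661002
theorem L661015 : sm ge N42849 = N47425 := rfl
theorem L661017 : sm ga N47425 = N42891 := ded_13_1 (flp_e L362745) (flp_a L362383) L661015
theorem L661019 : sm gc N47425 = N45561 := ded_28_1 (flp_e L385315) (flp_c L508367) L661015
theorem L661021 : sm gg N47425 = N42852 := ded_41_2 (flp_e L362408) (flp_g L362385) L661015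
theorem L661023 : sm gh N47425 = N45579 := ded_43_2 (flp_e L385435) (flp_h L508372) L661015
theorem L661025 : sm gd N47425 = N42856 := ded_34_1 (flp_e L362443) (flp_d L249306) (flp_e L249273) L362381 L661015
theorem L661027 : sm gi N42849 = N47426 := rfl
theorem L661029 : sm ga N47426 = N42892 := ded_18_1 (flp_i L362751) (flp_a L362383) L661027
theorem L661031 : sm gc N47426 = N45562 := ded_33_1 (flp_i L385323) (flp_c L508367) L661027
theorem L661033 : sm gd N47426 = N42850 := ded_39_1 (flp_i L362387) L362381 L661027
theorem L661035 : sm gg N47426 = N42853 := ded_51_1 (flp_i L362415) (flp_g L362385) L661027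
theorem L661037 : sm gi N42852 = N47427 := rfl
theorem L661039 : sm ga N47427 = N42897 := ded_18_1 (flp_i L362785) (flp_a L362410) L661037
theorem L661041 : sm gc N47427 = N45567 := ded_33_1 (flp_i L385357) (flp_c L546895) L661037
theorem L661043 : sm gd N47427 = N42859 := ded_39_1 (flp_i L362466) (flp_d L362413) L661037
theorem L661045 : sm ge N47427 = N42853 := ded_44_1 (flp_i L362415) L362408 L661037
theorem L661047 : sm gj N47427 = N47427 := ded_53_1 (flp_i L661037) L362412 L661037
theorem L661048 : sm gh N42853 = N47428 := rfl
theorem L661050 : sm ga N47428 = N42898 := ded_17_1 (flp_h L362792) (flp_a L362417) L661048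
theorem L661052 : sm gc N47428 = N45568 := ded_32_1 (flp_h L385364) (flp_c L508363) L661048
theorem L661054 : sm gf N47428 = N45525 := ded_47_1 (flp_h L384992) (flp_f L362421) L661048
theorem L661056 : sm gj N47428 = N47428 := ded_52_1 (flp_h L661048) L362423 L661048
theorem L661057 : sm gd N47428 = N42999 := ded_38_1 (flp_h L363615) L250081 (flp_h L249295) (flp_d L362419) L661048
theorem L661059 : sm gi N47428 = N45589 := ded_54_2 (flp_h L385500) (flp_i L264883) L546918 L362415 L661048
theorem L661061 : sm ge N42854 = N47429 := rfl
theorem L661063 : sm ga N47429 = N42899 := ded_13_1 (flp_e L362799) (flp_a L362426) L661061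
theorem L661065 : sm gc N47429 = N46554 := ded_28_1 (flp_e L658188) L658186 L661061
theorem L661067 : sm gg N47429 = N47429 := ded_41_2 (flp_e L661061) L362428 L661061
theorem L661068 : sm gj N47429 = N42856 := ded_42_2 (flp_e L362443) (flp_j L362429) L661061
theorem L661070 : sm gh N47429 = N47429 := ded_43_2 (flp_e L661061) L362431 L661061
theorem L661071 : sm gi N42854 = N47430 := rfl
theorem L661073 : sm ga N47430 = N42900 := ded_18_1 (flp_i L362805) (flp_a L362426) L661071
theorem L661075 : sm gd N47430 = N42855 := ded_39_1 (flp_i L362432) L362424 L661071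
theorem L661077 : sm gg N47430 = N47430 := ded_51_1 (flp_i L661071) L362428 L661071
theorem L661078 : sm gj N47430 = N42857 := ded_53_1 (flp_i L362450) (flp_j L362429) L661071
theorem L661080 : sm gf N42856 = N47431 := rfl
theorem L661082 : sm ga N47431 = N42901 := ded_14_1 (flp_f L362812) (flp_a L362445) L661080
theorem L661084 : sm gh N47431 = N47431 := ded_47_2 (flp_f L661080) L362449 L661080
theorem L661085 : sm gi N42856 = N47432 := rfl
theorem L661087 : sm ga N47432 = N42902 := ded_18_1 (flp_i L362815) (flp_a L362445) L661085
theorem L661089 : sm ge N47432 = N42857 := ded_44_1 (flp_i L362450) L362443 L661085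
theorem L661091 : sm gg N47432 = N42859 := ded_51_1 (flp_i L362466) (flp_g L362447) L661085
theorem L661093 : sm gh N42857 = N47433 := rfl
theorem L661095 : sm ga N47433 = N42903 := ded_17_1 (flp_h L362821) (flp_a L362452) L661093
theorem L661097 : sm gg N47433 = N42860 := ded_50_1 (flp_h L362473) (flp_g L362456) L661093
theorem L661099 : sm gd N47433 = N43004 := ded_38_1 (flp_h L363656) L250117 (flp_h L249321) (flp_d L362454) L661093
theorem L661101 : sm gi N47433 = N47433 := ded_54_2 (flp_h L661093) (flp_i L362450) L249312 L362450 L661093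
theorem L661102 : sm gh N42859 = N47434 := rfl
theorem L661104 : sm ga N47434 = N42906 := ded_17_1 (flp_h L362840) (flp_a L362468) L661102
theorem L661106 : sm ge N47434 = N42860 := ded_43_1 (flp_h L362473) (flp_e L362470) L661102
theorem L661108 : sm gj N47434 = N47434 := ded_52_1 (flp_h L661102) L362472 L661102
theorem L661109 : sm gi N47434 = N47434 := ded_54_2 (flp_h L661102) (flp_i L362466) L249328 L362466 L661102
theorem L661110 : sm gh N42864 = N47435 := rfl
theorem L661112 : sm ga N47435 = N42911 := ded_17_1 (flp_h L362872) (flp_a L362509) L661110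
theorem L661114 : sm gb N47435 = N47435 := ded_25_1 (flp_h L661110) L362511 L661110
theorem L661115 : sm gf N47435 = N47435 := ded_47_1 (flp_h L661110) L362516 L661110
theorem L661116 : sm gg N47435 = N42865 := ded_50_1 (flp_h L362519) L362507 L661110
theorem L661118 : sm gj N47435 = N45538 := ded_52_1 (flp_h L385109) (flp_j L362517) L661110
theorem L661120 : sm gd N47435 = N46038 := ded_38_1 (flp_h L389205) L267414 L562266 (flp_d L362512) L661110
theorem L661122 : sm gi N42865 = N47436 := rfl
theorem L661124 : sm ga N47436 = N42913 := ded_18_1 (flp_i L362891) (flp_a L362521) L661122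
theorem L661126 : sm gb N47436 = N47436 := ded_26_1 (flp_i L661122) L362523 L661122
theorem L661127 : sm gd N47436 = N46040 := ded_39_1 (flp_i L389220) (flp_d L508512) L661122
theorem L661129 : sm gf N47436 = N42869 := ded_48_1 (flp_i L362560) (flp_f L362524) L661122
theorem L661131 : sm gj N47436 = N42867 := ded_53_1 (flp_i L362539) (flp_j L362526) L661122
theorem L661133 : sm gh N47436 = N43014 := ded_54_1 (flp_i L363747) (flp_h L250184) (flp_i L249372) L362519 L661122
theorem L661135 : sm gj N42875 = N47437 := rfl
theorem L661137 : sm ga N47437 = N46110 := ded_16_1 L389747 (flp_a L513196) L661135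
theorem L661139 : sm gc N47437 = N43408 := ded_31_1 (flp_j L367121) (flp_c L362620) L661135
theorem L661141 : sm ge N47437 = N42876 := ded_42_1 (flp_j L362627) L362618 L661135
theorem L661143 : sm gf N47437 = N47437 := ded_46_1 (flp_j L661135) L362626 L661135
theorem L661144 : sm gi N47437 = N43026 := ded_53_2 (flp_j L363867) (flp_i L362624) L661135
theorem L661146 : sm gh N42875 = N47438 := rfl
theorem L661148 : sm ga N47438 = N45613 := ded_17_1 L385684 (flp_a L513196) L661146
theorem L661150 : sm gc N47438 = N43409 := ded_32_1 (flp_h L367130) (flp_c L362620) L661146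
theorem L661152 : sm ge N47438 = N42877 := ded_43_1 (flp_h L362637) L362618 L661146
theorem L661154 : sm gf N47438 = N47438 := ded_47_1 (flp_h L661146) L362626 L661146
theorem L661155 : sm gg N47438 = N45553 := ded_50_1 (flp_h L385250) (flp_g L362622) L661146
theorem L661157 : sm gg N42876 = N47439 := rfl
theorem L661159 : sm ga N47439 = N46106 := ded_15_1 L389717 (flp_a L562229) L661157
theorem L661161 : sm gc N47439 = N43410 := ded_30_1 (flp_g L367138) (flp_c L362629) L661157
theorem L661163 : sm gd N47439 = N42884 := ded_36_1 (flp_g L362690) (flp_d L362631) L661157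
theorem L661165 : sm gi N47439 = N43028 := ded_51_2 (flp_g L363883) (flp_i L362635) L661157
theorem L661167 : sm gf N47439 = N47439 := ded_45_1 (flp_g L661157) L362633 L249461 (flp_f L362633) L661157
theorem L661168 : sm gj N47439 = N45554 := ded_49_2 (flp_g L385258) (flp_j L264751) (flp_g L249450) L362627 L661157
theorem L661170 : sm gh N42876 = N47440 := rfl
theorem L661172 : sm ga N47440 = N45609 := ded_17_1 L385651 (flp_a L562229) L661170
theorem L661174 : sm gc N47440 = N43411 := ded_32_1 (flp_h L367148) (flp_c L362629) L661170
theorem L661176 : sm gf N47440 = N42878 := ded_47_1 (flp_h L362645) (flp_f L362633) L661170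
theorem L661178 : sm gj N47440 = N42877 := ded_52_1 (flp_h L362637) L362627 L661170
theorem L661180 : sm gd N42877 = N47441 := rfl
theorem L661182 : sm ga N47441 = N45572 := ded_12_1 L385398 (flp_a L513188) L661180
theorem L661184 : sm gf N47441 = N42879 := ded_35_2 (flp_d L362653) (flp_f L362641) L661180
theorem L661186 : sm gg N47441 = N45556 := ded_36_2 (flp_d L385275) (flp_g L362643) L661180
theorem L661188 : sm gc N47441 = N45513 := ded_27_1 (flp_d L384894) L264490 (flp_d L562068) (flp_c L362639) L661180
theorem L661190 : sm gh N47441 = N42886 := ded_38_2 (flp_d L362707) (flp_h L249494) (flp_d L249446) L362637 L661180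
theorem L661192 : sm gi N42877 = N47442 := rfl
theorem L661194 : sm ga N47442 = N45614 := ded_18_1 (flp_i L385687) (flp_a L513188) L661192
theorem L661196 : sm gc N47442 = N43413 := ded_33_1 (flp_i L367164) (flp_c L362639) L661192
theorem L661198 : sm gf N47442 = N42880 := ded_48_1 (flp_i L362659) (flp_f L362641) L661192
theorem L661200 : sm gg N47442 = N45557 := ded_51_1 (flp_i L385281) (flp_g L362643) L661192
theorem L661202 : sm gh N47442 = N43031 := ded_54_1 (flp_i L363908) (flp_h L250298) (flp_i L249448) L362637 L661192
theorem L661204 : sm gd N42878 = N47443 := rfl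
theorem L661206 : sm ga N47443 = N45575 := ded_12_1 L385413 (flp_a L513121) L661204
theorem L661208 : sm gg N47443 = N47443 := ded_36_2 (flp_d L661204) L362650 L661204
theorem L661209 : sm gj N47443 = N42879 := ded_37_2 (flp_d L362653) (flp_j L362651) L661204
theorem L661211 : sm gc N47443 = N45515 := ded_27_1 (flp_d L384910) L264498 (flp_d L562050) (flp_c L362647) L661204
theorem L661213 : sm gh N47443 = N42888 := ded_38_2 (flp_d L362723) (flp_h L249502) (flp_d L249456) L362645 L661204
theorem L661215 : sm gi N42878 = N47444 := rfl
theorem L661217 : sm ga N47444 = N45618 := ded_18_1 (flp_i L385720) (flp_a L513121) L661215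
theorem L661219 : sm gc N47444 = N43415 := ded_33_1 (flp_i L367181) (flp_c L362647) L661215
theorem L661221 : sm ge N47444 = N47444 := ded_44_1 (flp_i L661215) L362649 L661215
theorem L661222 : sm gg N47444 = N47444 := ded_51_1 (flp_i L661215) L362650 L661215
theorem L661223 : sm gj N47444 = N42880 := ded_53_1 (flp_i L362659) (flp_j L362651) L661215
theorem L661225 : sm gh N47444 = N43033 := ded_54_1 (flp_i L363923) (flp_h L250306) (flp_i L249459) L362645 L661215
theorem L661227 : sm ge N42879 = N47445 := rfl
theorem L661229 : sm ga N47445 = N45579 := ded_13_1 (flp_e L385435) (flp_a L546910) L661227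
theorem L661231 : sm gc N47445 = N44795 := ded_28_1 L534703 (flp_c L546912) L661227
theorem L661233 : sm gg N47445 = N42882 := ded_41_2 (flp_e L362677) (flp_g L362655) L661227
theorem L661235 : sm gh N47445 = N42891 := ded_43_2 (flp_e L362745) (flp_h L362657) L661227
theorem L661237 : sm gd N47445 = N47445 := ded_34_1 (flp_e L661227) (flp_d L362653) L249466 L362653 L661227
theorem L661238 : sm gi N42879 = N47446 := rfl
theorem L661240 : sm ga N47446 = N45580 := ded_18_1 (flp_i L385442) (flp_a L546910) L661238
theorem L661242 : sm gc N47446 = N45519 := ded_33_1 (flp_i L384946) (flp_c L546912) L661238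
theorem L661244 : sm gd N47446 = N42880 := ded_39_1 (flp_i L362659) L362653 L661238
theorem L661246 : sm gg N47446 = N42883 := ded_51_1 (flp_i L362683) (flp_g L362655) L661238
theorem L661248 : sm gi N42882 = N47447 := rfl
theorem L661250 : sm ga N47447 = N45588 := ded_18_1 (flp_i L385492) (flp_a L534695) L661248
theorem L661252 : sm gc N47447 = N44799 := ded_33_1 (flp_i L379028) (flp_c L534697) L661248
theorem L661254 : sm gd N47447 = N47447 := ded_39_1 (flp_i L661248) L362682 L661248
theorem L661255 : sm ge N47447 = N42883 := ded_44_1 (flp_i L362683) L362677 L661248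
theorem L661257 : sm gj N47447 = N47447 := ded_53_1 (flp_i L661248) L362679 L661248
theorem L661258 : sm gh N42883 = N47448 := rfl
theorem L661260 : sm ga N47448 = N45589 := ded_17_1 (flp_h L385500) (flp_a L543039) L661258
theorem L661262 : sm gc N47448 = N45525 := ded_32_1 (flp_h L384992) (flp_c L543041) L661258
theorem L661264 : sm gf N47448 = N45568 := ded_47_1 (flp_h L385364) (flp_f L362687) L661258
theorem L661266 : sm gj N47448 = N47448 := ded_52_1 (flp_h L661258) L362689 L661258
theorem L661267 : sm gd N47448 = N43042 := ded_38_1 (flp_h L363991) L250344 (flp_h L249484) (flp_d L362685) L661258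
theorem L661269 : sm gi N47448 = N42898 := ded_54_2 (flp_h L362792) (flp_i L249537) (flp_h L249474) L362683 L661258
theorem L661271 : sm gh N42884 = N47449 := rfl
theorem L661273 : sm gc N47449 = N42911 := ded_32_1 (flp_h L362872) (flp_c L362692) L661271
theorem L661275 : sm gf N47449 = N47449 := ded_47_1 (flp_h L661271) L362696 L661271
theorem L661276 : sm gg N47449 = N42885 := ded_50_1 (flp_h L362699) L362690 L661271
theorem L661278 : sm gj N47449 = N45569 := ded_52_1 (flp_h L385371) (flp_j L362697) L661271
theorem L661280 : sm gd N42885 = N47450 := rfl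
theorem L661282 : sm gf N47450 = N42888 := ded_35_2 (flp_d L362723) (flp_f L362703) L661280
theorem L661284 : sm gj N47450 = N42886 := ded_37_2 (flp_d L362707) (flp_j L362705) L661280
theorem L661286 : sm gi N42885 = N47451 := rfl
theorem L661288 : sm gc N47451 = N42913 := ded_33_1 (flp_i L362891) (flp_c L362701) L661286
theorem L661290 : sm gf N47451 = N42889 := ded_48_1 (flp_i L362728) (flp_f L362703) L661286
theorem L661292 : sm gj N47451 = N42887 := ded_53_1 (flp_i L362713) (flp_j L362705) L661286
theorem L661294 : sm gh N47451 = N43045 := ded_54_1 (flp_i L364013) (flp_h L250356) (flp_i L249492) L362699 L661286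
theorem L661296 : sm gc N42886 = N47452 := rfl
theorem L661298 : sm ga N47452 = N45556 := ded_11_1 (flp_c L660975) L660969 L661296
theorem L661300 : sm gf N47452 = N42890 := ded_29_2 (flp_c L362739) (flp_f L362709) L661296
theorem L661302 : sm gg N47452 = N45572 := ded_30_2 (flp_c L385394) (flp_g L362711) L661296
theorem L661304 : sm gh N47452 = N45513 := ded_32_2 (flp_c L661188) L661190 L661296
theorem L661306 : sm gd N47452 = N42914 := ded_27_2 (flp_c L362901) (flp_d L249626) (flp_c L249496) L362707 L661296
theorem L661308 : sm ge N42886 = N47453 := rfl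
theorem L661310 : sm gg N47453 = N45573 := ded_41_2 (flp_e L385400) (flp_g L362711) L661308
theorem L661312 : sm gi N42886 = N47454 := rfl
theorem L661314 : sm gd N47454 = N42887 := ded_39_1 (flp_i L362713) L362707 L661312
theorem L661316 : sm gf N47454 = N42892 := ded_48_1 (flp_i L362751) (flp_f L362709) L661312
theorem L661318 : sm gg N47454 = N45574 := ded_51_1 (flp_i L385402) (flp_g L362711) L661312
theorem L661320 : sm gc N42888 = N47455 := rfl
theorem L661322 : sm ga N47455 = N45558 := ded_11_1 (flp_c L660998) L660993 L661320
theorem L661324 : sm gg N47455 = N47455 := ded_30_2 (flp_c L661320) L362725 L661320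
theorem L661325 : sm gj N47455 = N42890 := ded_31_2 (flp_c L362739) (flp_j L362726) L661320
theorem L661327 : sm gh N47455 = N45515 := ded_32_2 (flp_c L661211) L661213 L661320
theorem L661329 : sm gd N47455 = N42917 := ded_27_2 (flp_c L362927) (flp_d L249646) (flp_c L249504) L362723 L661320
theorem L661331 : sm gb N46544 = N47455 := ded_20_3 L661329 (flp_b L648392) L651120
theorem L661333 : sm ge N46541 = N47455 := ded_34_0 L661329 L508308 L614702 (flp_e L292688) L651090
theorem L661335 : sm ge N42888 = N47456 := rfl
theorem L661337 : sm gc N47456 = N46541 := ded_28_1 L661333 (flp_c L661320) L661335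
theorem L661339 : sm gg N47456 = N47456 := ded_41_2 (flp_e L661335) L362725 L661335
theorem L661340 : sm gj N47456 = N42891 := ded_42_2 (flp_e L362745) (flp_j L362726) L661335
theorem L661342 : sm gd N47456 = N42899 := ded_34_1 (flp_e L362799) (flp_d L249544) (flp_e L249506) L362723 L661335
theorem L661344 : sm gi N42888 = N47457 := rfl
theorem L661346 : sm gd N47457 = N42889 := ded_39_1 (flp_i L362728) L362723 L661344
theorem L661348 : sm gg N47457 = N47457 := ded_51_1 (flp_i L661344) L362725 L661344
theorem L661349 : sm gj N47457 = N42892 := ded_53_1 (flp_i L362751) (flp_j L362726) L661344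
theorem L661351 : sm gb N42890 = N47458 := rfl
theorem L661353 : sm gd N47458 = N42919 := ded_20_2 (flp_b L362943) (flp_d L362743) L661351
theorem L661355 : sm gg N47458 = N42893 := ded_23_2 (flp_b L362757) (flp_g L362741) L661351
theorem L661357 : sm gj N47458 = N46544 := ded_24_2 L661331 L661325 L661351
theorem L661359 : sm gh N47458 = N44833 := ded_25_2 L554282 (flp_h L508317) L661351
theorem L661361 : sm ga N47458 = N44876 := ded_10_1 L379698 (flp_a L534178) L378389 (flp_a L508312) L661351
theorem L661363 : sm ge N44821 = N47458 := ded_34_0 L661353 L547021 (flp_d L286927) (flp_e L260662) L379238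
theorem L661365 : sm ge N42890 = N47459 := rfl
theorem L661367 : sm ga N47459 = N45561 := ded_13_1 (flp_e L385315) (flp_a L508312) L661365
theorem L661369 : sm gb N47459 = N44821 := ded_21_1 L661363 (flp_b L661351) L661365
theorem L661371 : sm gc N47459 = N42891 := ded_28_1 (flp_e L362745) L362739 L661365
theorem L661373 : sm gg N47459 = N42894 := ded_41_2 (flp_e L362764) (flp_g L362741) L661365
theorem L661375 : sm gj N47459 = N46541 := ded_42_2 L661333 L661325 L661365
theorem L661377 : sm gh N47459 = N44795 := ded_43_2 L534703 (flp_h L508317) L661365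
theorem L661379 : sm gd N47459 = N44789 := ded_34_1 L378942 L547252 L561756 (flp_d L362743) L661365
theorem L661381 : sm gi N42890 = N47460 := rfl
theorem L661383 : sm ga N47460 = N45562 := ded_18_1 (flp_i L385323) (flp_a L508312) L661381
theorem L661385 : sm gc N47460 = N42892 := ded_33_1 (flp_i L362751) L362739 L661381
theorem L661387 : sm gd N47460 = N42920 := ded_39_1 (flp_i L362951) (flp_d L362743) L661381
theorem L661389 : sm gg N47460 = N42895 := ded_51_1 (flp_i L362769) (flp_g L362741) L661381
theorem L661391 : sm gf N42891 = N47461 := rfl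
theorem L661393 : sm gd N47461 = N42901 := ded_35_1 (flp_f L362812) (flp_d L362749) L661391
theorem L661395 : sm gi N42891 = N47462 := rfl
theorem L661397 : sm gd N47462 = N42902 := ded_39_1 (flp_i L362815) (flp_d L362749) L661395
theorem L661399 : sm ge N47462 = N42892 := ded_44_1 (flp_i L362751) L362745 L661395
theorem L661401 : sm gg N47462 = N42897 := ded_51_1 (flp_i L362785) (flp_g L362747) L661395
theorem L661403 : sm gh N42892 = N47463 := rfl
theorem L661405 : sm gg N47463 = N42898 := ded_50_1 (flp_h L362792) (flp_g L362755) L661403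
theorem L661407 : sm gd N47463 = N43057 := ded_38_1 (flp_h L364095) L250406 (flp_h L249523) (flp_d L362753) L661403
theorem L661409 : sm gi N42893 = N47464 := rfl
theorem L661411 : sm ga N47464 = N44882 := ded_18_1 (flp_i L379744) (flp_a L547032) L661409
theorem L661413 : sm gb N47464 = N42895 := ded_26_1 (flp_i L362769) L362757 L661409
theorem L661415 : sm gd N47464 = N42923 := ded_39_1 (flp_i L362976) (flp_d L362759) L661409
theorem L661417 : sm ge N47464 = N44825 := ded_44_1 (flp_i L379272) (flp_e L547037) L661409
theorem L661419 : sm gf N47464 = N45586 := ded_48_1 (flp_i L385479) (flp_f L362761) L661409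
theorem L661421 : sm gj N47464 = N47464 := ded_53_1 (flp_i L661409) L362763 L661409
theorem L661422 : sm gi N42894 = N47465 := rfl
theorem L661424 : sm ga N47465 = N45567 := ded_18_1 (flp_i L385357) (flp_a L547327) L661422
theorem L661426 : sm gb N47465 = N44825 := ded_26_1 (flp_i L379272) (flp_b L546920) L661422
theorem L661428 : sm gc N47465 = N42897 := ded_33_1 (flp_i L362785) (flp_c L362766) L661422
theorem L661430 : sm gd N47465 = N44791 := ded_39_1 (flp_i L378955) (flp_d L546922) L661422
theorem L661432 : sm ge N47465 = N42895 := ded_44_1 (flp_i L362769) L362764 L661422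
theorem L661434 : sm gj N47465 = N47465 := ded_53_1 (flp_i L661422) L362768 L661422
theorem L661435 : sm gh N42895 = N47466 := rfl
theorem L661437 : sm ga N47466 = N45568 := ded_17_1 (flp_h L385364) (flp_a L547018) L661435
theorem L661439 : sm gc N47466 = N42898 := ded_32_1 (flp_h L362792) (flp_c L362771) L661435
theorem L661441 : sm gf N47466 = N45589 := ded_47_1 (flp_h L385500) (flp_f L362775) L661435
theorem L661443 : sm gj N47466 = N47466 := ded_52_1 (flp_h L661435) L362777 L661435
theorem L661444 : sm gd N47466 = N45721 := ded_38_1 (flp_h L386568) L265594 L508233 (flp_d L362773) L661435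
theorem L661446 : sm gi N47466 = N45525 := ded_54_2 (flp_h L384992) (flp_i L264537) L508344 L362769 L661435
theorem L661448 : sm gg N42896 = N47467 := rfl
theorem L661450 : sm gb N47467 = N42992 := ded_23_1 L363559 (flp_b L550671) L661448
theorem L661452 : sm gd N47467 = N42904 := ded_36_1 (flp_g L362828) (flp_d L362780) L661448
theorem L661454 : sm ge N47467 = N42954 := ded_41_1 L363245 (flp_e L550673) L661448
theorem L661456 : sm gi N42896 = N47468 := rfl
theorem L661458 : sm gb N47468 = N42998 := ded_26_1 (flp_i L363606) (flp_b L550671) L661456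
theorem L661460 : sm gd N47468 = N42905 := ded_39_1 (flp_i L362833) (flp_d L362780) L661456
theorem L661462 : sm ge N47468 = N42958 := ded_44_1 (flp_i L363269) (flp_e L550673) L661456
theorem L661464 : sm gf N47468 = N42897 := ded_48_1 (flp_i L362785) L362778 L661456
theorem L661466 : sm gj N47468 = N47468 := ded_53_1 (flp_i L661456) L362782 L661456
theorem L661467 : sm gh N42897 = N47469 := rfl
theorem L661469 : sm ge N47469 = N42898 := ded_43_1 (flp_h L362792) (flp_e L362789) L661467
theorem L661471 : sm gj N47469 = N47469 := ded_52_1 (flp_h L661467) L362791 L661467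
theorem L661472 : sm gf N42899 = N47470 := rfl
theorem L661474 : sm gc N47470 = N46036 := ded_29_1 L389193 (flp_c L649391) L661472
theorem L661476 : sm gj N47470 = N42901 := ded_46_2 (flp_f L362812) (flp_j L362802) L661472
theorem L661478 : sm gh N47470 = N47470 := ded_47_2 (flp_f L661472) L362804 L661472
theorem L661479 : sm gi N42899 = N47471 := rfl
theorem L661481 : sm gc N47471 = N46557 := ded_33_1 (flp_i L651207) (flp_c L649391) L661479
theorem L661483 : sm ge N47471 = N42900 := ded_44_1 (flp_i L362805) L362799 L661479
theorem L661485 : sm gg N47471 = N47471 := ded_51_1 (flp_i L661479) L362801 L661479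
theorem L661486 : sm gj N47471 = N42902 := ded_53_1 (flp_i L362815) (flp_j L362802) L661479
theorem L661488 : sm gh N42900 = N47472 := rfl
theorem L661490 : sm gg N47472 = N47472 := ded_50_1 (flp_h L661488) L362809 L661488
theorem L661491 : sm gj N47472 = N42903 := ded_52_1 (flp_h L362821) (flp_j L362810) L661488
theorem L661493 : sm gd N47472 = N43069 := ded_38_1 (flp_h L364178) L250461 (flp_h L249557) (flp_d L362807) L661488
theorem L661495 : sm gi N47472 = N47472 := ded_54_2 (flp_h L661488) (flp_i L362805) L249549 L362805 L661488
theorem L661496 : sm gg N42901 = N47473 := rfl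
theorem L661498 : sm gb N47473 = N43002 := ded_23_1 (flp_g L654328) L654324 L661496
theorem L661500 : sm gh N47473 = N47473 := ded_50_2 (flp_g L661496) L362814 L661496
theorem L661501 : sm gf N47473 = N42904 := ded_45_1 (flp_g L362828) (flp_f L249570) (flp_g L249561) L362812 L661496
theorem L661503 : sm gi N42901 = N47474 := rfl
theorem L661505 : sm gf N47474 = N42902 := ded_48_1 (flp_i L362815) L362812 L661503
theorem L661507 : sm gh N42902 = N47475 := rfl
theorem L661509 : sm ge N47475 = N42903 := ded_43_1 (flp_h L362821) (flp_e L362817) L661507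
theorem L661511 : sm gg N47475 = N42906 := ded_50_1 (flp_h L362840) (flp_g L362819) L661507
theorem L661513 : sm gi N47475 = N47475 := ded_54_2 (flp_h L661507) (flp_i L362815) L249563 L362815 L661507
theorem L661514 : sm gj N42904 = N47476 := rfl
theorem L661516 : sm ga N47476 = N46410 := ded_16_1 (flp_j L654908) L654900 L661514
theorem L661518 : sm gb N47476 = N43000 := ded_24_1 L363628 (flp_b L506552) L661514
theorem L661520 : sm gc N47476 = N46426 := ded_31_1 L660777 L660770 L661514
theorem L661522 : sm ge N47476 = N42907 := ded_42_1 (flp_j L362846) (flp_e L362830) L661514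
theorem L661524 : sm gh N47476 = N47476 := ded_52_2 (flp_j L661514) L362832 L661514
theorem L661525 : sm gg N47476 = N47476 := ded_49_1 (flp_j L661514) (flp_g L362828) L249572 L362828 L661514
theorem L661526 : sm gi N42904 = N47477 := rfl
theorem L661528 : sm gb N47477 = N43003 := ded_26_1 (flp_i L363647) (flp_b L506552) L661526
theorem L661530 : sm ge N47477 = N42908 := ded_44_1 (flp_i L362852) (flp_e L362830) L661526
theorem L661532 : sm gg N47477 = N42905 := ded_51_1 (flp_i L362833) L362828 L661526
theorem L661534 : sm gh N42905 = N47478 := rfl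
theorem L661536 : sm gb N47478 = N43007 := ded_25_1 (flp_h L363682) (flp_b L550723) L661534
theorem L661538 : sm ge N47478 = N42909 := ded_43_1 (flp_h L362858) (flp_e L362835) L661534
theorem L661540 : sm gf N47478 = N42906 := ded_47_1 (flp_h L362840) (flp_f L362837) L661534
theorem L661542 : sm gj N47478 = N47478 := ded_52_1 (flp_h L661534) L362839 L661534
theorem L661543 : sm gi N47478 = N47478 := ded_54_2 (flp_h L661534) (flp_i L362833) L249573 L362833 L661534
theorem L661544 : sm gd N42906 = N47479 := rfl
theorem L661546 : sm gj N47479 = N47479 := ded_37_2 (flp_d L661544) L362844 L661544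
theorem L661547 : sm gi N47479 = N47479 := ded_39_2 (flp_d L661544) L362845 L661544
theorem L661548 : sm ge N47479 = N43076 := ded_34_2 (flp_d L364227) L250500 (flp_d L249586) (flp_e L362842) L661544
theorem L661550 : sm gi N42907 = N47480 := rfl
theorem L661552 : sm ga N47480 = N46411 := ded_18_1 (flp_i L649974) L648616 L661550
theorem L661554 : sm gb N47480 = N43001 := ded_26_1 (flp_i L363631) (flp_b L552043) L661550
theorem L661556 : sm gc N47480 = N46427 := ded_33_1 (flp_i L650093) (flp_c L649377) L661550
theorem L661558 : sm gd N47480 = N42960 := ded_39_1 (flp_i L363286) (flp_d L552045) L661550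
theorem L661560 : sm gf N47480 = N46418 := ded_48_1 (flp_i L650026) (flp_f L649379) L661550
theorem L661562 : sm gg N47480 = N47480 := ded_51_1 (flp_i L661550) L362851 L661550
theorem L661563 : sm gj N47480 = N42908 := ded_53_1 (flp_i L362852) L362846 L661550
theorem L661565 : sm gh N42908 = N47481 := rfl
theorem L661567 : sm gb N47481 = N43004 := ded_25_1 (flp_h L363656) (flp_b L550719) L661565
theorem L661569 : sm gg N47481 = N42909 := ded_50_1 (flp_h L362858) (flp_g L362856) L661565
theorem L661571 : sm gi N47481 = N47481 := ded_54_2 (flp_h L661565) (flp_i L362852) L249593 L362852 L661565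
theorem L661572 : sm gd N42911 = N47482 := rfl
theorem L661574 : sm ga N47482 = N46038 := ded_12_1 (flp_d L661120) L661112 L661572
theorem L661576 : sm gb N47482 = N42925 := ded_20_1 (flp_d L362994) (flp_b L362874) L661572
theorem L661578 : sm gf N47482 = N47482 := ded_35_2 (flp_d L661572) L362876 L661572
theorem L661579 : sm gg N47482 = N42912 := ded_36_2 (flp_d L362881) (flp_g L362877) L661572
theorem L661581 : sm gj N47482 = N45607 := ded_37_2 (flp_d L385627) (flp_j L362879) L661572
theorem L661583 : sm gh N47482 = N43461 := ded_38_2 (flp_d L367538) (flp_h L252770) (flp_d L249611) L362872 L661572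
theorem L661585 : sm ge N46147 = N47482 := ded_21_0 L661576 L615888 (flp_b L390024)
theorem L661587 : sm gi N42911 = N47483 := rfl
theorem L661589 : sm gb N47483 = N42926 := ded_26_1 (flp_i L363004) (flp_b L362874) L661587
theorem L661591 : sm gf N47483 = N47483 := ded_48_1 (flp_i L661587) L362876 L661587
theorem L661592 : sm gg N47483 = N42913 := ded_51_1 (flp_i L362891) (flp_g L362877) L661587
theorem L661594 : sm gj N47483 = N45608 := ded_53_1 (flp_i L385636) (flp_j L362879) L661587
theorem L661596 : sm gh N47483 = N43082 := ded_54_1 (flp_i L364271) (flp_h L250531) (flp_i L249613) L362872 L661587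
theorem L661598 : sm gc N42912 = N47484 := rfl
theorem L661600 : sm ga N47484 = N45555 := ded_11_1 L385269 (flp_a L490506) L661598
theorem L661602 : sm gf N47484 = N42917 := ded_29_2 (flp_c L362927) (flp_f L362885) L661598
theorem L661604 : sm gj N47484 = N42914 := ded_31_2 (flp_c L362901) (flp_j L362887) L661598
theorem L661606 : sm gh N47484 = N43463 := ded_32_2 (flp_c L367559) (flp_h L362889) L661598
theorem L661608 : sm gb N47484 = N45706 := ded_19_1 L386435 (flp_b L615494) (flp_c L363014) (flp_b L362883) L661598
theorem L661610 : sm ge N45657 = N47484 := ded_40_5 L661602 L508308 L614704 (flp_e L547237) (flp_f L386049)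
theorem L661612 : sm ge N42912 = N47485 := rfl
theorem L661614 : sm ga N47485 = N46035 := ded_13_1 L389184 (flp_a L490506) L661612
theorem L661616 : sm gb N47485 = N42928 := ded_21_1 (flp_e L363023) (flp_b L362883) L661612
theorem L661618 : sm gc N47485 = N45657 := ded_28_1 L661610 (flp_c L661598) L661612
theorem L661620 : sm gg N47485 = N46147 := ded_41_2 L661585 L661579 L661612
theorem L661622 : sm gj N47485 = N42915 := ded_42_2 (flp_e L362909) (flp_j L362887) L661612
theorem L661624 : sm gh N47485 = N43464 := ded_43_2 (flp_e L367565) (flp_h L362889) L661612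
theorem L661626 : sm gf N47485 = N43499 := ded_40_2 L542426 L616234 (flp_e L561801) (flp_f L362885) L661612
theorem L661628 : sm gi N42912 = N47486 := rfl
theorem L661630 : sm ga N47486 = N46040 := ded_18_1 (flp_i L389220) (flp_a L490506) L661628
theorem L661632 : sm gb N47486 = N42929 := ded_26_1 (flp_i L363030) (flp_b L362883) L661628
theorem L661634 : sm gd N47486 = N42913 := ded_39_1 (flp_i L362891) L362881 L661628
theorem L661636 : sm gf N47486 = N42918 := ded_48_1 (flp_i L362934) (flp_f L362885) L661628
theorem L661638 : sm gj N47486 = N42916 := ded_53_1 (flp_i L362917) (flp_j L362887) L661628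
theorem L661640 : sm gh N47486 = N46205 := ded_54_1 (flp_i L390495) (flp_h L268304) (flp_i L490504) (flp_h L362889) L661628
theorem L661642 : sm gb N42914 = N47487 := rfl
theorem L661644 : sm gf N47487 = N42919 := ded_22_2 (flp_b L362943) (flp_f L362903) L661642
theorem L661646 : sm gg N47487 = N45612 := ded_23_2 (flp_b L385672) (flp_g L362905) L661642
theorem L661648 : sm gj N47487 = N45706 := ded_24_2 (flp_b L661608) L661604 L661642
theorem L661650 : sm gh N47487 = N43466 := ded_25_2 (flp_b L367582) (flp_h L362907) L661642
theorem L661652 : sm ga N47487 = N45780 := ded_10_1 L648847 (flp_a L648469) L378372 (flp_a L561796) L661642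
theorem L661654 : sm gc N47487 = N42930 := ded_19_2 (flp_b L363039) (flp_c L249733) (flp_b L249628) L362901 L661642
theorem L661656 : sm ge N45708 = N47487 := ded_40_5 L661644 L547021 L615050 (flp_e L265549) (flp_f L386456)
theorem L661658 : sm ge N42914 = N47488 := rfl
theorem L661660 : sm ga N47488 = N45553 := ded_13_1 L385254 (flp_a L561796) L661658
theorem L661662 : sm gb N47488 = N45708 := ded_21_1 L661656 (flp_b L661642) L661658
theorem L661664 : sm gc N47488 = N42915 := ded_28_1 (flp_e L362909) L362901 L661658
theorem L661666 : sm gg N47488 = N45613 := ded_41_2 (flp_e L385680) (flp_g L362905) L661658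
theorem L661668 : sm gj N47488 = N45657 := ded_42_2 L661610 L661604 L661658
theorem L661670 : sm gh N47488 = N43467 := ded_43_2 (flp_e L367590) (flp_h L362907) L661658
theorem L661672 : sm gf N47488 = N45658 := ded_40_2 (flp_e L615357) L292265 L561756 (flp_f L362903) L661658
theorem L661674 : sm gi N42914 = N47489 := rfl
theorem L661676 : sm ga N47489 = N45557 := ded_18_1 (flp_i L385281) (flp_a L561796) L661674
theorem L661678 : sm gc N47489 = N42916 := ded_33_1 (flp_i L362917) L362901 L661674
theorem L661680 : sm gf N47489 = N42920 := ded_48_1 (flp_i L362951) (flp_f L362903) L661674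
theorem L661682 : sm gg N47489 = N45614 := ded_51_1 (flp_i L385687) (flp_g L362905) L661674
theorem L661684 : sm gh N47489 = N45710 := ded_54_1 (flp_i L386468) (flp_h L265535) L546979 (flp_h L362907) L661674
theorem L661686 : sm gi N42915 = N47490 := rfl
theorem L661688 : sm ga N47490 = N46037 := ded_18_1 (flp_i L389196) (flp_a L561792) L661686
theorem L661690 : sm gb N47490 = N42933 := ded_26_1 (flp_i L363065) (flp_b L362911) L661686
theorem L661692 : sm ge N47490 = N42916 := ded_44_1 (flp_i L362917) L362909 L661686
theorem L661694 : sm gf N47490 = N46555 := ded_48_1 (flp_i L651189) (flp_f L561794) L661686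
theorem L661696 : sm gg N47490 = N45615 := ded_51_1 (flp_i L385693) (flp_g L362913) L661686
theorem L661698 : sm gh N47490 = N46202 := ded_54_1 (flp_i L390470) (flp_h L268289) L513255 (flp_h L362915) L661686
theorem L661700 : sm gi N42917 = N47491 := rfl
theorem L661702 : sm ga N47491 = N45559 := ded_18_1 (flp_i L385296) (flp_a L508305) L661700
theorem L661704 : sm gb N47491 = N46545 := ded_26_1 (flp_i L651125) L648392 L661700
theorem L661706 : sm gc N47491 = N42918 := ded_33_1 (flp_i L362934) L362927 L661700
theorem L661708 : sm ge N47491 = N46540 := ded_44_1 (flp_i L651073) (flp_e L508308) L661700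
theorem L661710 : sm gg N47491 = N47491 := ded_51_1 (flp_i L661700) L362929 L661700
theorem L661711 : sm gj N47491 = N42920 := ded_53_1 (flp_i L362951) (flp_j L362930) L661700
theorem L661713 : sm gh N47491 = N45712 := ded_54_1 (flp_i L386485) (flp_h L265543) L561834 (flp_h L362932) L661700
theorem L661715 : sm gi N42919 = N47492 := rfl
theorem L661717 : sm ga N47492 = N46534 := ded_18_1 (flp_i L651019) (flp_a L648384) L661715
theorem L661719 : sm gb N47492 = N42920 := ded_26_1 (flp_i L362951) L362943 L661715
theorem L661721 : sm gc N47492 = N42939 := ded_33_1 (flp_i L363115) (flp_c L362949) L661715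
theorem L661723 : sm ge N47492 = N46532 := ded_44_1 (flp_i L650991) (flp_e L547021) L661715
theorem L661725 : sm gg N47492 = N42923 := ded_51_1 (flp_i L362976) (flp_g L362945) L661715
theorem L661727 : sm gj N47492 = N46545 := ded_53_1 (flp_i L651125) (flp_j L648386) L661715
theorem L661729 : sm gh N47492 = N45660 := ded_54_1 (flp_i L386068) (flp_h L265297) (flp_i L552155) (flp_h L362947) L661715
theorem L661731 : sm gi N42925 = N47493 := rfl
theorem L661733 : sm ga N47493 = N47493 := ded_18_1 (flp_i L661731) L362996 L661731
theorem L661734 : sm gc N47493 = N45640 := ded_33_1 L385908 (flp_c L615886) L661731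
theorem L661736 : sm gd N47493 = N42926 := ded_39_1 (flp_i L363004) L362994 L661731
theorem L661738 : sm ge N47493 = N45639 := ded_44_1 L385900 (flp_e L615888) L661731
theorem L661740 : sm gf N47493 = N47493 := ded_48_1 (flp_i L661731) L362997 L661731
theorem L661741 : sm gg N47493 = N42929 := ded_51_1 (flp_i L363030) (flp_g L362998) L661731
theorem L661743 : sm gj N47493 = N45628 := ded_53_1 (flp_i L385807) (flp_j L363000) L661731
theorem L661745 : sm gh N47493 = N45638 := ded_54_1 (flp_i L385885) L265163 (flp_i L615883) (flp_h L363002) L661731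
theorem L661747 : sm gi N42927 = N47494 := rfl
theorem L661749 : sm ga N47494 = N47494 := ded_18_1 (flp_i L661747) L363016 L661747
theorem L661750 : sm gb N47494 = N46202 := ded_26_1 (flp_i L390470) (flp_b L615494) L661747
theorem L661752 : sm gc N47494 = N42929 := ded_33_1 (flp_i L363030) L363014 L661747
theorem L661754 : sm ge N47494 = N42934 := ded_44_1 L363081 (flp_e L615496) L661747
theorem L661756 : sm gf N47494 = N42936 := ded_48_1 (flp_i L363090) (flp_f L363017) L661747
theorem L661758 : sm gg N47494 = N45640 := ded_51_1 L385908 (flp_g L615498) L661747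
theorem L661760 : sm gj N47494 = N42932 := ded_53_1 (flp_i L363056) (flp_j L363019) L661747
theorem L661762 : sm gh N47494 = N42933 := ded_54_1 (flp_i L363065) L249747 L616007 (flp_h L363021) L661747
theorem L661764 : sm gi N42928 = N47495 := rfl
theorem L661766 : sm ga N47495 = N47495 := ded_18_1 (flp_i L661764) L363025 L661764
theorem L661767 : sm gc N47495 = N42934 := ded_33_1 L363081 (flp_c L615556) L661764
theorem L661769 : sm ge N47495 = N42929 := ded_44_1 (flp_i L363030) L363023 L661764
theorem L661771 : sm gf N47495 = N42940 := ded_48_1 L363128 (flp_f L615558) L661764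
theorem L661773 : sm gg N47495 = N45639 := ded_51_1 L385900 (flp_g L615560) L661764
theorem L661775 : sm gj N47495 = N42933 := ded_53_1 (flp_i L363065) (flp_j L363026) L661764
theorem L661777 : sm gh N47495 = N42932 := ded_54_1 (flp_i L363056) L249740 (flp_i L615553) (flp_h L363028) L661764
theorem L661779 : sm gh N42929 = N47496 := rfl
theorem L661781 : sm ga N47496 = N47496 := ded_17_1 (flp_h L661779) L363032 L661779
theorem L661782 : sm gb N47496 = N46205 := ded_25_1 (flp_h L661640) L661632 L661779
theorem L661784 : sm gc N47496 = N42933 := ded_32_1 (flp_h L661762) L661752 L661779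
theorem L661786 : sm ge N47496 = N42932 := ded_43_1 (flp_h L661777) L661769 L661779
theorem L661788 : sm gf N47496 = N42937 := ded_47_1 (flp_h L363098) (flp_f L363035) L661779
theorem L661790 : sm gg N47496 = N45638 := ded_50_1 (flp_h L661745) L661741 L661779
theorem L661792 : sm gj N47496 = N42934 := ded_52_1 (flp_h L363072) (flp_j L363037) L661779
theorem L661794 : sm gd N47496 = N43107 := ded_38_1 (flp_h L364501) L250696 (flp_h L249731) (flp_d L363033) L661779
theorem L661796 : sm gi N47496 = N42931 := ded_54_2 L615927 (flp_i L252913) (flp_h L249722) L363030 L661779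
theorem L661798 : sm gi N42930 = N47497 := rfl
theorem L661800 : sm ga N47497 = N46263 := ded_18_1 (flp_i L390984) (flp_a L615945) L661798
theorem L661802 : sm gb N47497 = N42932 := ded_26_1 (flp_i L363056) L363039 L661798
theorem L661804 : sm ge N47497 = N46205 := ded_44_1 (flp_i L390495) (flp_e L615947) L661798
theorem L661806 : sm gf N47497 = N42939 := ded_48_1 (flp_i L363115) (flp_f L363041) L661798
theorem L661808 : sm gg N47497 = N45636 := ded_51_1 (flp_i L385875) (flp_g L363043) L661798
theorem L661810 : sm gj N47497 = N46202 := ded_53_1 (flp_i L390470) (flp_j L615950) L661798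
theorem L661812 : sm gh N42939 = N47498 := rfl
theorem L661814 : sm ga N47498 = N46556 := ded_17_1 L651205 L648879 L661812
theorem L661816 : sm gb N47498 = N42940 := ded_25_1 (flp_h L363121) (flp_b L363117) L661812
theorem L661818 : sm gc N47498 = N45660 := ded_32_1 (flp_h L661729) L661721 L661812
theorem L661820 : sm ge N47498 = N46543 := ded_43_1 L651118 L648881 L661812
theorem L661822 : sm gg N47498 = N42942 := ded_50_1 (flp_h L363138) (flp_g L363119) L661812
theorem L661824 : sm gj N47498 = N46555 := ded_52_1 L651196 L648885 L661812
theorem L661826 : sm gi N47498 = N43499 := ded_54_2 (flp_h L367845) (flp_i L252992) (flp_h L249778) L363115 L661812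
theorem L661828 : sm gd N42940 = N47499 := rfl
theorem L661830 : sm ga N47499 = N47499 := ded_12_1 (flp_d L661828) L363123 L661828
theorem L661831 : sm gg N47499 = N42943 := ded_36_2 (flp_d L363147) (flp_g L363126) L661828
theorem L661833 : sm gi N47499 = N43500 := ded_39_2 (flp_d L367851) (flp_i L363128) L661828
theorem L661835 : sm gc N47499 = N43120 := ded_27_1 (flp_d L364618) L250790 (flp_d L249792) (flp_c L363124) L661828
theorem L661837 : sm ge N42946 = N47500 := rfl
theorem L661839 : sm ga N47500 = N45554 := ded_13_1 L654731 L654719 L661837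
theorem L661841 : sm gb N47500 = N42976 := ded_21_1 (flp_e L363408) (flp_b L363177) L661837
theorem L661843 : sm gc N47500 = N43461 := ded_28_1 L615737 (flp_c L542663) L661837
theorem L661845 : sm gg N47500 = N43463 := ded_41_2 L614715 (flp_g L363181) L661837
theorem L661847 : sm gi N47500 = N45707 := ded_44_2 L615820 (flp_i L542666) L661837
theorem L661849 : sm gd N47500 = N45511 := ded_34_1 L659380 L659374 L360468 (flp_d L363179) L661837
theorem L661851 : sm gf N47500 = N47500 := ded_40_2 (flp_e L661837) (flp_f L363175) L249836 L363175 L661837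
theorem L661852 : sm gj N46106 = N47500 := ded_16_0 L661839 (flp_j L661168) L661159
theorem L661854 : sm gj N42946 = N47501 := rfl
theorem L661856 : sm gb N47501 = N42977 := ded_24_1 (flp_j L363417) (flp_b L363177) L661854
theorem L661858 : sm gc N47501 = N46107 := ded_31_1 L615869 (flp_c L542663) L661854
theorem L661860 : sm gd N47501 = N42951 := ded_37_1 (flp_j L363215) (flp_d L363179) L661854
theorem L661862 : sm ge N47501 = N46106 := ded_42_1 L661852 (flp_e L661837) L661854
theorem L661864 : sm gf N47501 = N42947 := ded_46_1 (flp_j L363183) L363175 L661854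
theorem L661866 : sm gi N47501 = N46109 := ded_53_2 L389739 (flp_i L542666) L661854
theorem L661868 : sm gg N47501 = N46110 := ded_49_1 L389747 (flp_g L367594) L614645 (flp_g L363181) L661854
theorem L661870 : sm gh N42946 = N47502 := rfl
theorem L661872 : sm gb N47502 = N42978 := ded_25_1 (flp_h L363427) (flp_b L363177) L661870
theorem L661874 : sm gc N47502 = N46147 := ded_32_1 (flp_h L390022) (flp_c L542663) L661870
theorem L661876 : sm gf N47502 = N42948 := ded_47_1 (flp_h L363191) L363175 L661870
theorem L661878 : sm gg N47502 = N45657 := ded_50_1 (flp_h L386045) (flp_g L363181) L661870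
theorem L661880 : sm gh N42947 = N47503 := rfl
theorem L661882 : sm gb N47503 = N42979 := ded_25_1 (flp_h L363437) (flp_b L363185) L661880
theorem L661884 : sm gc N47503 = N46154 := ded_32_1 (flp_h L390075) (flp_c L542952) L661880
theorem L661886 : sm ge N47503 = N47503 := ded_43_1 (flp_h L661880) L363189 L661880
theorem L661887 : sm gg N47503 = N47503 := ded_50_1 (flp_h L661880) L363190 L661880
theorem L661888 : sm gj N47503 = N42948 := ded_52_1 (flp_h L363191) L363183 L661880
theorem L661890 : sm gd N42948 = N47504 := rfl
theorem L661892 : sm gb N47504 = N42980 := ded_20_1 (flp_d L363447) (flp_b L363193) L661890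
theorem L661894 : sm gg N47504 = N42949 := ded_36_2 (flp_d L363198) (flp_g L363196) L661890
theorem L661896 : sm gh N47504 = N42954 := ded_38_2 (flp_d L363241) (flp_h L249860) (flp_d L249834) L363191 L661890
theorem L661898 : sm gi N42948 = N47505 := rfl
theorem L661900 : sm gb N47505 = N42981 := ded_26_1 (flp_i L363455) (flp_b L363193) L661898
theorem L661902 : sm gc N47505 = N45645 := ded_33_1 L385953 (flp_c L542652) L661898
theorem L661904 : sm ge N47505 = N47505 := ded_44_1 (flp_i L661898) L363195 L661898
theorem L661905 : sm gg N47505 = N42950 := ded_51_1 (flp_i L363207) (flp_g L363196) L661898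
theorem L661907 : sm gh N47505 = N45621 := ded_54_1 (flp_i L385749) L265064 L552076 L363191 L661898
theorem L661909 : sm gi N42949 = N47506 := rfl
theorem L661911 : sm gb N47506 = N42984 := ded_26_1 (flp_i L363483) (flp_b L363200) L661909
theorem L661913 : sm gd N47506 = N42950 := ded_39_1 (flp_i L363207) L363198 L661909
theorem L661915 : sm gf N47506 = N45567 := ded_48_1 (flp_i L385357) (flp_f L547301) L661909
theorem L661917 : sm gj N47506 = N47506 := ded_53_1 (flp_i L661909) L363204 L661909
theorem L661918 : sm gg N42951 = N47507 := rfl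
theorem L661920 : sm gb N47507 = N42985 := ded_23_1 (flp_g L363492) (flp_b L363217) L661918
theorem L661922 : sm gc N47507 = N47507 := ded_30_1 (flp_g L661918) L363219 L661918
theorem L661923 : sm gd N47507 = N46110 := ded_36_1 (flp_g L661868) L661860 L661918
theorem L661925 : sm gf N47507 = N47507 := ded_45_1 (flp_g L661918) L363220 L249859 (flp_f L363220) L661918
theorem L661926 : sm gj N47507 = N45664 := ded_49_2 (flp_g L386097) (flp_j L265319) (flp_g L249850) L363215 L661918
theorem L661928 : sm gh N42951 = N47508 := rfl
theorem L661930 : sm gb N47508 = N42986 := ded_25_1 (flp_h L363501) (flp_b L363217) L661928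
theorem L661932 : sm gc N47508 = N47508 := ded_32_1 (flp_h L661928) L363219 L661928
theorem L661933 : sm gf N47508 = N42953 := ded_47_1 (flp_h L363231) (flp_f L363220) L661928
theorem L661935 : sm gj N47508 = N42952 := ded_52_1 (flp_h L363222) L363215 L661928
theorem L661937 : sm gd N42952 = N47509 := rfl
theorem L661939 : sm gb N47509 = N42987 := ded_20_1 (flp_d L363511) (flp_b L363224) L661937
theorem L661941 : sm gf N47509 = N42954 := ded_35_2 (flp_d L363241) (flp_f L363227) L661937
theorem L661943 : sm gg N47509 = N45581 := ded_36_2 L385452 L552177 L661937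
theorem L661945 : sm gi N42952 = N47510 := rfl
theorem L661947 : sm gb N47510 = N42988 := ded_26_1 (flp_i L363519) (flp_b L363224) L661945
theorem L661949 : sm gc N47510 = N47510 := ded_33_1 (flp_i L661945) L363226 L661945
theorem L661950 : sm gf N47510 = N42955 := ded_48_1 (flp_i L363247) (flp_f L363227) L661945
theorem L661952 : sm gg N47510 = N45597 := ded_51_1 (flp_i L385553) L552177 L661945
theorem L661954 : sm gd N42953 = N47511 := rfl
theorem L661956 : sm gb N47511 = N42989 := ded_20_1 (flp_d L363529) (flp_b L363233) L661954
theorem L661958 : sm gg N47511 = N47511 := ded_36_2 (flp_d L661954) L363238 L661954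
theorem L661959 : sm gj N47511 = N42954 := ded_37_2 (flp_d L363241) (flp_j L363239) L661954
theorem L661961 : sm gi N42953 = N47512 := rfl
theorem L661963 : sm gb N47512 = N42990 := ded_26_1 (flp_i L363536) (flp_b L363233) L661961
theorem L661965 : sm gc N47512 = N47512 := ded_33_1 (flp_i L661961) L363235 L661961
theorem L661966 : sm ge N47512 = N42960 := ded_44_1 (flp_i L363286) (flp_e L363236) L661961
theorem L661968 : sm gg N47512 = N47512 := ded_51_1 (flp_i L661961) L363238 L661961
theorem L661969 : sm gj N47512 = N42955 := ded_53_1 (flp_i L363247) (flp_j L363239) L661961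
theorem L661971 : sm gc N42954 = N47513 := rfl
theorem L661973 : sm gg N47513 = N42956 := ded_30_2 (flp_c L363256) (flp_g L363245) L661971
theorem L661975 : sm gd N47513 = N47513 := ded_27_2 (flp_c L661971) (flp_d L363241) L249864 L363241 L661971
theorem L661976 : sm gi N42954 = N47514 := rfl
theorem L661978 : sm gb N47514 = N42993 := ded_26_1 (flp_i L363563) (flp_b L363243) L661976
theorem L661980 : sm gd N47514 = N42955 := ded_39_1 (flp_i L363247) L363241 L661976
theorem L661982 : sm gg N47514 = N42958 := ded_51_1 (flp_i L363269) (flp_g L363245) L661976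
theorem L661984 : sm gi N42956 = N47515 := rfl
theorem L661986 : sm gc N47515 = N42958 := ded_33_1 (flp_i L363269) L363256 L661984
theorem L661988 : sm gd N47515 = N47515 := ded_39_1 (flp_i L661984) L363261 L661984
theorem L661989 : sm gf N47515 = N45588 := ded_48_1 (flp_i L385492) (flp_f L534611) L661984
theorem L661991 : sm gj N47515 = N47515 := ded_53_1 (flp_i L661984) L363260 L661984
theorem L661992 : sm gh N42958 = N47516 := rfl
theorem L661994 : sm gb N47516 = N42999 := ded_25_1 (flp_h L363615) (flp_b L363271) L661992
theorem L661996 : sm gf N47516 = N45592 := ded_47_1 (flp_h L385516) L547359 L661992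
theorem L661998 : sm gj N47516 = N47516 := ded_52_1 (flp_h L661992) L363277 L661992
theorem L661999 : sm gj N42976 = N47517 := rfl
theorem L662001 : sm ga N47517 = N43026 := ded_16_1 (flp_j L363867) (flp_a L363410) L661999
theorem L662003 : sm gb N47517 = N46106 := ded_24_1 L661852 L661841 L661999
theorem L662005 : sm gc N47517 = N43545 := ded_31_1 (flp_j L368250) (flp_c L363412) L661999
theorem L662007 : sm ge N47517 = N42977 := ded_42_1 (flp_j L363417) L363408 L661999
theorem L662009 : sm gf N47517 = N47517 := ded_46_1 (flp_j L661999) L363416 L661999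
theorem L662010 : sm gi N47517 = N46110 := ded_53_2 L389747 (flp_i L513290) L661999
theorem L662012 : sm gg N47517 = N46109 := ded_49_1 L389739 (flp_g L367586) L615959 (flp_g L363414) L661999
theorem L662014 : sm gh N42976 = N47518 := rfl
theorem L662016 : sm ga N47518 = N43027 := ded_17_1 (flp_h L363874) (flp_a L363410) L662014
theorem L662018 : sm gc N47518 = N43546 := ded_32_1 (flp_h L368258) (flp_c L363412) L662014
theorem L662020 : sm ge N47518 = N42978 := ded_43_1 (flp_h L363427) L363408 L662014
theorem L662022 : sm gf N47518 = N47518 := ded_47_1 (flp_h L662014) L363416 L662014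
theorem L662023 : sm gg N47518 = N45706 := ded_50_1 (flp_h L386431) (flp_g L363414) L662014
theorem L662025 : sm gg N42977 = N47519 := rfl
theorem L662027 : sm ga N47519 = N43028 := ded_15_1 (flp_g L363883) (flp_a L363419) L662025
theorem L662029 : sm gb N47519 = N46110 := ded_23_1 (flp_g L661868) L661856 L662025
theorem L662031 : sm gc N47519 = N43547 := ded_30_1 (flp_g L368267) (flp_c L363421) L662025
theorem L662033 : sm gd N47519 = N42985 := ded_36_1 (flp_g L363492) (flp_d L363423) L662025
theorem L662035 : sm ge N47519 = N46109 := ded_41_1 (flp_g L662012) L662007 L662025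
theorem L662037 : sm gi N47519 = N46106 := ded_51_2 L389717 (flp_i L542658) L662025
theorem L662039 : sm gf N47519 = N47519 := ded_45_1 (flp_g L662025) L363425 L249987 (flp_f L363425) L662025
theorem L662040 : sm gj N47519 = N45707 := ded_49_2 (flp_g L386441) (flp_j L265525) (flp_g L249976) L363417 L662025
theorem L662042 : sm gh N42977 = N47520 := rfl
theorem L662044 : sm ga N47520 = N43029 := ded_17_1 (flp_h L363892) (flp_a L363419) L662042
theorem L662046 : sm gc N47520 = N43548 := ded_32_1 (flp_h L368276) (flp_c L363421) L662042
theorem L662048 : sm gf N47520 = N42979 := ded_47_1 (flp_h L363437) (flp_f L363425) L662042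
theorem L662050 : sm gj N47520 = N42978 := ded_52_1 (flp_h L363427) L363417 L662042
theorem L662052 : sm gd N42978 = N47521 := rfl
theorem L662054 : sm ga N47521 = N43030 := ded_12_1 (flp_d L363900) (flp_a L363429) L662052
theorem L662056 : sm gf N47521 = N42980 := ded_35_2 (flp_d L363447) (flp_f L363433) L662052
theorem L662058 : sm gg N47521 = N45709 := ded_36_2 (flp_d L386460) (flp_g L363435) L662052
theorem L662060 : sm gc N47521 = N46331 := ded_27_1 (flp_d L391505) L269044 (flp_d L562182) (flp_c L363431) L662052
theorem L662062 : sm gh N47521 = N42987 := ded_38_2 (flp_d L363511) (flp_h L250024) (flp_d L249974) L363427 L662052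
theorem L662064 : sm gi N42978 = N47522 := rfl
theorem L662066 : sm ga N47522 = N43031 := ded_18_1 (flp_i L363908) (flp_a L363429) L662064
theorem L662068 : sm gc N47522 = N43550 := ded_33_1 (flp_i L368294) (flp_c L363431) L662064
theorem L662070 : sm gf N47522 = N42981 := ded_48_1 (flp_i L363455) (flp_f L363433) L662064
theorem L662072 : sm gg N47522 = N45710 := ded_51_1 (flp_i L386468) (flp_g L363435) L662064
theorem L662074 : sm gh N47522 = N45614 := ded_54_1 (flp_i L385687) L265024 L542853 L363427 L662064
theorem L662076 : sm gd N42979 = N47523 := rfl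
theorem L662078 : sm ga N47523 = N43032 := ded_12_1 (flp_d L363916) (flp_a L363439) L662076
theorem L662080 : sm gg N47523 = N47523 := ded_36_2 (flp_d L662076) L363444 L662076
theorem L662081 : sm gj N47523 = N42980 := ded_37_2 (flp_d L363447) (flp_j L363445) L662076
theorem L662083 : sm gc N47523 = N46335 := ded_27_1 (flp_d L391538) L269078 L542582 (flp_c L363441) L662076
theorem L662085 : sm gh N47523 = N42989 := ded_38_2 (flp_d L363529) (flp_h L250034) (flp_d L249984) L363437 L662076
theorem L662087 : sm gi N42979 = N47524 := rfl
theorem L662089 : sm ga N47524 = N43033 := ded_18_1 (flp_i L363923) (flp_a L363439) L662087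
theorem L662091 : sm gc N47524 = N43552 := ded_33_1 (flp_i L368311) (flp_c L363441) L662087
theorem L662093 : sm ge N47524 = N47524 := ded_44_1 (flp_i L662087) L363443 L662087
theorem L662094 : sm gg N47524 = N47524 := ded_51_1 (flp_i L662087) L363444 L662087
theorem L662095 : sm gj N47524 = N42981 := ded_53_1 (flp_i L363455) (flp_j L363445) L662087
theorem L662097 : sm gh N47524 = N45618 := ded_54_1 (flp_i L385720) L265047 (flp_i L542946) L363437 L662087
theorem L662099 : sm ge N42980 = N47525 := rfl
theorem L662101 : sm ga N47525 = N43035 := ded_13_1 (flp_e L363939) (flp_a L363449) L662099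
theorem L662103 : sm gc N47525 = N46338 := ded_28_1 (flp_e L391559) (flp_c L542649) L662099
theorem L662105 : sm gg N47525 = N42983 := ded_41_2 (flp_e L363475) (flp_g L363451) L662099
theorem L662107 : sm gh N47525 = N42992 := ded_43_2 (flp_e L363555) (flp_h L363453) L662099
theorem L662109 : sm gd N47525 = N47525 := ded_34_1 (flp_e L662099) (flp_d L363447) L249994 L363447 L662099
theorem L662110 : sm gi N42980 = N47526 := rfl
theorem L662112 : sm ga N47526 = N43036 := ded_18_1 (flp_i L363946) (flp_a L363449) L662110
theorem L662114 : sm gc N47526 = N45882 := ded_33_1 L387860 (flp_c L542649) L662110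
theorem L662116 : sm gd N47526 = N42981 := ded_39_1 (flp_i L363455) L363447 L662110
theorem L662118 : sm gg N47526 = N42984 := ded_51_1 (flp_i L363483) (flp_g L363451) L662110
theorem L662120 : sm gi N42983 = N47527 := rfl
theorem L662122 : sm ga N47527 = N43041 := ded_18_1 (flp_i L363985) (flp_a L363477) L662120
theorem L662124 : sm gc N47527 = N45885 := ded_33_1 L387883 (flp_c L543068) L662120
theorem L662126 : sm gd N47527 = N47527 := ded_39_1 (flp_i L662120) L363482 L662120
theorem L662127 : sm ge N47527 = N42984 := ded_44_1 (flp_i L363483) L363475 L662120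
theorem L662129 : sm gj N47527 = N47527 := ded_53_1 (flp_i L662120) L363479 L662120
theorem L662130 : sm gh N42984 = N47528 := rfl
theorem L662132 : sm ga N47528 = N43042 := ded_17_1 (flp_h L363991) (flp_a L363485) L662130
theorem L662134 : sm gc N47528 = N45841 := ded_32_1 L387525 (flp_c L543064) L662130
theorem L662136 : sm gf N47528 = N45721 := ded_47_1 (flp_h L386568) (flp_f L363489) L662130
theorem L662138 : sm gj N47528 = N47528 := ded_52_1 (flp_h L662130) L363491 L662130
theorem L662139 : sm gd N47528 = N45589 := ded_38_1 (flp_h L385500) L264887 L546996 (flp_d L363487) L662130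
theorem L662141 : sm gi N47528 = N42999 := ded_54_2 (flp_h L363615) (flp_i L250077) (flp_h L250004) L363483 L662130
theorem L662143 : sm gh N42985 = N47529 := rfl
theorem L662145 : sm ga N47529 = N43043 := ded_17_1 (flp_h L363998) (flp_a L363494) L662143
theorem L662147 : sm gc N47529 = N43012 := ded_32_1 (flp_h L363726) (flp_c L363496) L662143
theorem L662149 : sm gf N47529 = N47529 := ded_47_1 (flp_h L662143) L363498 L662143
theorem L662150 : sm gg N47529 = N42986 := ded_50_1 (flp_h L363501) L363492 L662143
theorem L662152 : sm gj N47529 = N45722 := ded_52_1 (flp_h L386575) (flp_j L363499) L662143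
theorem L662154 : sm gd N42986 = N47530 := rfl
theorem L662156 : sm ga N47530 = N43044 := ded_12_1 (flp_d L364007) (flp_a L363503) L662154
theorem L662158 : sm gf N47530 = N42989 := ded_35_2 (flp_d L363529) (flp_f L363507) L662154
theorem L662160 : sm gj N47530 = N42987 := ded_37_2 (flp_d L363511) (flp_j L363509) L662154
theorem L662162 : sm gi N42986 = N47531 := rfl
theorem L662164 : sm ga N47531 = N43045 := ded_18_1 (flp_i L364013) (flp_a L363503) L662162
theorem L662166 : sm gc N47531 = N43014 := ded_33_1 (flp_i L363747) (flp_c L363505) L662162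
theorem L662168 : sm gf N47531 = N42990 := ded_48_1 (flp_i L363536) (flp_f L363507) L662162
theorem L662170 : sm gj N47531 = N42988 := ded_53_1 (flp_i L363519) (flp_j L363509) L662162
theorem L662172 : sm gc N42987 = N47532 := rfl
theorem L662174 : sm ga N47532 = N43046 := ded_11_1 (flp_c L364021) (flp_a L363513) L662172
theorem L662176 : sm gf N47532 = N42991 := ded_29_2 (flp_c L363547) (flp_f L363515) L662172
theorem L662178 : sm gg N47532 = N45725 := ded_30_2 (flp_c L386602) (flp_g L363517) L662172
theorem L662180 : sm gh N47532 = N46331 := ded_32_2 (flp_c L662060) L662062 L662172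
theorem L662182 : sm gd N47532 = N43015 := ded_27_2 (flp_c L363756) (flp_d L250193) (flp_c L250028) L363511 L662172
theorem L662184 : sm ge N42987 = N47533 := rfl
theorem L662186 : sm ga N47533 = N43047 := ded_13_1 (flp_e L364029) (flp_a L363513) L662184
theorem L662188 : sm gg N47533 = N45726 := ded_41_2 (flp_e L386610) (flp_g L363517) L662184
theorem L662190 : sm gi N42987 = N47534 := rfl
theorem L662192 : sm ga N47534 = N43048 := ded_18_1 (flp_i L364033) (flp_a L363513) L662190
theorem L662194 : sm gd N47534 = N42988 := ded_39_1 (flp_i L363519) L363511 L662190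
theorem L662196 : sm gf N47534 = N42993 := ded_48_1 (flp_i L363563) (flp_f L363515) L662190
theorem L662198 : sm gg N47534 = N45727 := ded_51_1 (flp_i L386614) (flp_g L363517) L662190
theorem L662200 : sm gc N42989 = N47535 := rfl
theorem L662202 : sm ga N47535 = N43049 := ded_11_1 (flp_c L364041) (flp_a L363531) L662200
theorem L662204 : sm gg N47535 = N47535 := ded_30_2 (flp_c L662200) L363533 L662200
theorem L662205 : sm gj N47535 = N42991 := ded_31_2 (flp_c L363547) (flp_j L363534) L662200
theorem L662207 : sm gh N47535 = N46335 := ded_32_2 (flp_c L662083) L662085 L662200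
theorem L662209 : sm gd N47535 = N43018 := ded_27_2 (flp_c L363787) (flp_d L250213) (flp_c L250038) L363529 L662200
theorem L662211 : sm gb N46520 = N47535 := ded_25_3 L662207 (flp_b L649303) L650886
theorem L662213 : sm ge N42989 = N47536 := rfl
theorem L662215 : sm ga N47536 = N43050 := ded_13_1 (flp_e L364048) (flp_a L363531) L662213
theorem L662217 : sm gg N47536 = N47536 := ded_41_2 (flp_e L662213) L363533 L662213
theorem L662218 : sm gj N47536 = N42992 := ded_42_2 (flp_e L363555) (flp_j L363534) L662213
theorem L662220 : sm gd N47536 = N43000 := ded_34_1 (flp_e L363622) (flp_d L250086) (flp_e L250040) L363529 L662213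
theorem L662222 : sm gi N42989 = N47537 := rfl
theorem L662224 : sm ga N47537 = N43051 := ded_18_1 (flp_i L364055) (flp_a L363531) L662222
theorem L662226 : sm gd N47537 = N42990 := ded_39_1 (flp_i L363536) L363529 L662222
theorem L662228 : sm gg N47537 = N47537 := ded_51_1 (flp_i L662222) L363533 L662222
theorem L662229 : sm gj N47537 = N42993 := ded_53_1 (flp_i L363563) (flp_j L363534) L662222
theorem L662231 : sm gb N42991 = N47538 := rfl
theorem L662233 : sm gd N47538 = N43020 := ded_20_2 (flp_b L363808) (flp_d L363553) L662231
theorem L662235 : sm gg N47538 = N42994 := ded_23_2 (flp_b L363571) (flp_g L363551) L662231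
theorem L662237 : sm gj N47538 = N46520 := ded_24_2 L662211 L662205 L662231
theorem L662239 : sm gh N47538 = N46337 := ded_25_2 L391555 (flp_h L546573) L662231
theorem L662241 : sm ge N42991 = N47539 := rfl
theorem L662243 : sm ga N47539 = N43053 := ded_13_1 (flp_e L364068) (flp_a L363549) L662241
theorem L662245 : sm gc N47539 = N42992 := ded_28_1 (flp_e L363555) L363547 L662241
theorem L662247 : sm gg N47539 = N42995 := ded_41_2 (flp_e L363578) (flp_g L363551) L662241
theorem L662249 : sm gh N47539 = N46338 := ded_43_2 (flp_e L391559) (flp_h L546573) L662241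
theorem L662251 : sm gd N47539 = N47539 := ded_34_1 (flp_e L662241) L363553 L250238 (flp_d L363553) L662241
theorem L662252 : sm gi N42991 = N47540 := rfl
theorem L662254 : sm ga N47540 = N43054 := ded_18_1 (flp_i L364075) (flp_a L363549) L662252
theorem L662256 : sm gc N47540 = N42993 := ded_33_1 (flp_i L363563) L363547 L662252
theorem L662258 : sm gd N47540 = N43021 := ded_39_1 (flp_i L363816) (flp_d L363553) L662252
theorem L662260 : sm gg N47540 = N42996 := ded_51_1 (flp_i L363586) (flp_g L363551) L662252
theorem L662262 : sm gf N42992 = N47541 := rfl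
theorem L662264 : sm ga N47541 = N43055 := ded_14_1 (flp_f L364083) (flp_a L363557) L662262
theorem L662266 : sm gd N47541 = N43002 := ded_35_1 (flp_f L363641) (flp_d L363561) L662262
theorem L662268 : sm gi N42992 = N47542 := rfl
theorem L662270 : sm ga N47542 = N43056 := ded_18_1 (flp_i L364087) (flp_a L363557) L662268
theorem L662272 : sm gd N47542 = N43003 := ded_39_1 (flp_i L363647) (flp_d L363561) L662268
theorem L662274 : sm ge N47542 = N42993 := ded_44_1 (flp_i L363563) L363555 L662268
theorem L662276 : sm gg N47542 = N42998 := ded_51_1 (flp_i L363606) (flp_g L363559) L662268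
theorem L662278 : sm gh N42993 = N47543 := rfl
theorem L662280 : sm ga N47543 = N43057 := ded_17_1 (flp_h L364095) (flp_a L363565) L662278
theorem L662282 : sm gg N47543 = N42999 := ded_50_1 (flp_h L363615) (flp_g L363569) L662278
theorem L662284 : sm gi N42994 = N47544 := rfl
theorem L662286 : sm gb N47544 = N42996 := ded_26_1 (flp_i L363586) L363571 L662284
theorem L662288 : sm gd N47544 = N43024 := ded_39_1 (flp_i L363846) (flp_d L363573) L662284
theorem L662290 : sm gf N47544 = N45739 := ded_48_1 (flp_i L386711) (flp_f L363575) L662284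
theorem L662292 : sm gj N47544 = N47544 := ded_53_1 (flp_i L662284) L363577 L662284
theorem L662293 : sm gi N42995 = N47545 := rfl
theorem L662295 : sm ga N47545 = N43062 := ded_18_1 (flp_i L364129) (flp_a L363580) L662293
theorem L662297 : sm gc N47545 = N42998 := ded_33_1 (flp_i L363606) (flp_c L363582) L662293
theorem L662299 : sm gd N47545 = N47545 := ded_39_1 (flp_i L662293) L363585 L662293
theorem L662300 : sm ge N47545 = N42996 := ded_44_1 (flp_i L363586) L363578 L662293
theorem L662302 : sm gj N47545 = N47545 := ded_53_1 (flp_i L662293) L363584 L662293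
theorem L662303 : sm gh N42996 = N47546 := rfl
theorem L662305 : sm ga N47546 = N43063 := ded_17_1 (flp_h L364137) (flp_a L363588) L662303
theorem L662307 : sm gc N47546 = N42999 := ded_32_1 (flp_h L363615) (flp_c L363590) L662303
theorem L662309 : sm gf N47546 = N45742 := ded_47_1 (flp_h L386738) (flp_f L363594) L662303
theorem L662311 : sm gj N47546 = N47546 := ded_52_1 (flp_h L662303) L363596 L662303
theorem L662312 : sm gd N47546 = N45803 := ded_38_1 (flp_h L387269) L266067 L508789 (flp_d L363592) L662303
theorem L662314 : sm gi N47546 = N45841 := ded_54_2 L387525 L266517 (flp_h L546588) L363586 L662303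
theorem L662316 : sm gh N42998 = N47547 := rfl
theorem L662318 : sm ga N47547 = N43066 := ded_17_1 (flp_h L364159) (flp_a L363608) L662316
theorem L662320 : sm ge N47547 = N42999 := ded_43_1 (flp_h L363615) (flp_e L363612) L662316
theorem L662322 : sm gj N47547 = N47547 := ded_52_1 (flp_h L662316) L363614 L662316
theorem L662323 : sm gf N43000 = N47548 := rfl
theorem L662325 : sm ga N47548 = N43067 := ded_14_1 (flp_f L364164) (flp_a L363624) L662323
theorem L662327 : sm gc N47548 = N47548 := ded_29_1 (flp_f L662323) L363626 L662323
theorem L662328 : sm gj N47548 = N43002 := ded_46_2 (flp_f L363641) (flp_j L363628) L662323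
theorem L662330 : sm gh N47548 = N47548 := ded_47_2 (flp_f L662323) L363630 L662323
theorem L662331 : sm gi N43000 = N47549 := rfl
theorem L662333 : sm ga N47549 = N43068 := ded_18_1 (flp_i L364170) (flp_a L363624) L662331
theorem L662335 : sm gc N47549 = N47549 := ded_33_1 (flp_i L662331) L363626 L662331
theorem L662336 : sm ge N47549 = N43001 := ded_44_1 (flp_i L363631) L363622 L662331
theorem L662338 : sm gg N47549 = N47549 := ded_51_1 (flp_i L662331) L363627 L662331
theorem L662339 : sm gj N47549 = N43003 := ded_53_1 (flp_i L363647) (flp_j L363628) L662331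
theorem L662341 : sm gh N43001 = N47550 := rfl
theorem L662343 : sm ga N47550 = N43069 := ded_17_1 (flp_h L364178) (flp_a L363633) L662341
theorem L662345 : sm gc N47550 = N47550 := ded_32_1 (flp_h L662341) L363635 L662341
theorem L662346 : sm gg N47550 = N47550 := ded_50_1 (flp_h L662341) L363638 L662341
theorem L662347 : sm gj N47550 = N43004 := ded_52_1 (flp_h L363656) (flp_j L363639) L662341
theorem L662349 : sm gi N47550 = N47550 := ded_54_2 (flp_h L662341) (flp_i L363631) L250094 L363631 L662341
theorem L662350 : sm gi N43002 = N47551 := rfl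
theorem L662352 : sm ga N47551 = N43071 := ded_18_1 (flp_i L364191) (flp_a L363643) L662350
theorem L662354 : sm gc N47551 = N47551 := ded_33_1 (flp_i L662350) L363645 L662350
theorem L662355 : sm gf N47551 = N43003 := ded_48_1 (flp_i L363647) L363641 L662350
theorem L662357 : sm gh N43003 = N47552 := rfl
theorem L662359 : sm ga N47552 = N43072 := ded_17_1 (flp_h L364196) (flp_a L363649) L662357
theorem L662361 : sm gc N47552 = N47552 := ded_32_1 (flp_h L662357) L363651 L662357
theorem L662362 : sm ge N47552 = N43004 := ded_43_1 (flp_h L363656) (flp_e L363652) L662357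
theorem L662364 : sm gg N47552 = N43007 := ded_50_1 (flp_h L363682) (flp_g L363654) L662357
theorem L662366 : sm gi N47552 = N47552 := ded_54_2 (flp_h L662357) (flp_i L363647) L250111 L363647 L662357
theorem L662367 : sm gd N43007 = N47553 := rfl
theorem L662369 : sm ga N47553 = N43076 := ded_12_1 (flp_d L364227) (flp_a L363684) L662367
theorem L662371 : sm gj N47553 = N47553 := ded_37_2 (flp_d L662367) L363689 L662367
theorem L662372 : sm gi N47553 = N47553 := ded_39_2 (flp_d L662367) L363690 L662367
theorem L662373 : sm gd N43012 = N47554 := rfl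
theorem L662375 : sm ga N47554 = N43081 := ded_12_1 (flp_d L364260) (flp_a L363728) L662373
theorem L662377 : sm gb N47554 = N47554 := ded_20_1 (flp_d L662373) L363730 L662373
theorem L662378 : sm gf N47554 = N47554 := ded_35_2 (flp_d L662373) L363731 L662373
theorem L662379 : sm gg N47554 = N43013 := ded_36_2 (flp_d L363736) (flp_g L363732) L662373
theorem L662381 : sm gj N47554 = N45760 := ded_37_2 (flp_d L386907) (flp_j L363734) L662373
theorem L662383 : sm gh N47554 = N43588 := ded_38_2 (flp_d L368629) (flp_h L253516) (flp_d L250179) L363726 L662373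
theorem L662385 : sm gi N43012 = N47555 := rfl
theorem L662387 : sm ga N47555 = N43082 := ded_18_1 (flp_i L364271) (flp_a L363728) L662385
theorem L662389 : sm gb N47555 = N47555 := ded_26_1 (flp_i L662385) L363730 L662385
theorem L662390 : sm gf N47555 = N47555 := ded_48_1 (flp_i L662385) L363731 L662385
theorem L662391 : sm gg N47555 = N43014 := ded_51_1 (flp_i L363747) (flp_g L363732) L662385
theorem L662393 : sm gj N47555 = N45761 := ded_53_1 (flp_i L386917) (flp_j L363734) L662385
theorem L662395 : sm gc N43013 = N47556 := rfl
theorem L662397 : sm ga N47556 = N43083 := ded_11_1 (flp_c L364280) (flp_a L363738) L662395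
theorem L662399 : sm gf N47556 = N43018 := ded_29_2 (flp_c L363787) (flp_f L363741) L662395
theorem L662401 : sm gj N47556 = N43015 := ded_31_2 (flp_c L363756) (flp_j L363743) L662395
theorem L662403 : sm gh N47556 = N43590 := ded_32_2 (flp_c L368650) (flp_h L363745) L662395
theorem L662405 : sm gb N46328 = N47556 := ded_22_3 L662399 (flp_b L649299) (flp_f L391488)
theorem L662407 : sm ge N43013 = N47557 := rfl
theorem L662409 : sm ga N47557 = N43084 := ded_13_1 (flp_e L364288) (flp_a L363738) L662407
theorem L662411 : sm gb N47557 = N47557 := ded_21_1 (flp_e L662407) L363740 L662407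
theorem L662412 : sm gj N47557 = N43016 := ded_42_2 (flp_e L363766) (flp_j L363743) L662407
theorem L662414 : sm gh N47557 = N43591 := ded_43_2 (flp_e L368658) (flp_h L363745) L662407
theorem L662416 : sm gf N47557 = N47557 := ded_40_2 (flp_e L662407) L363741 L250221 (flp_f L363741) L662407
theorem L662417 : sm gi N43013 = N47558 := rfl
theorem L662419 : sm ga N47558 = N43085 := ded_18_1 (flp_i L364297) (flp_a L363738) L662417
theorem L662421 : sm gb N47558 = N47558 := ded_26_1 (flp_i L662417) L363740 L662417
theorem L662422 : sm gd N47558 = N43014 := ded_39_1 (flp_i L363747) L363736 L662417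
theorem L662424 : sm gf N47558 = N43019 := ded_48_1 (flp_i L363797) (flp_f L363741) L662417
theorem L662426 : sm gj N47558 = N43017 := ded_53_1 (flp_i L363776) (flp_j L363743) L662417
theorem L662428 : sm gh N47558 = N46271 := ded_54_1 (flp_i L391042) L268710 L562337 (flp_h L363745) L662417
theorem L662430 : sm gb N43015 = N47559 := rfl
theorem L662432 : sm gf N47559 = N43020 := ded_22_2 (flp_b L363808) (flp_f L363760) L662430
theorem L662434 : sm gg N47559 = N45765 := ded_23_2 (flp_b L386957) (flp_g L363762) L662430
theorem L662436 : sm gj N47559 = N46328 := ded_24_2 L662405 L662401 L662430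
theorem L662438 : sm gh N47559 = N43593 := ded_25_2 (flp_b L368678) (flp_h L363764) L662430
theorem L662440 : sm gc N47559 = N47559 := ded_19_2 (flp_b L662430) (flp_c L363756) L250197 L363756 L662430
theorem L662441 : sm ge N43015 = N47560 := rfl
theorem L662443 : sm ga N47560 = N43087 := ded_13_1 (flp_e L364317) (flp_a L363758) L662441
theorem L662445 : sm gc N47560 = N43016 := ded_28_1 (flp_e L363766) L363756 L662441
theorem L662447 : sm gg N47560 = N45766 := ded_41_2 (flp_e L386964) (flp_g L363762) L662441
theorem L662449 : sm gh N47560 = N43594 := ded_43_2 (flp_e L368685) (flp_h L363764) L662441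
theorem L662451 : sm gf N47560 = N47560 := ded_40_2 (flp_e L662441) L363760 L250238 (flp_f L363760) L662441
theorem L662452 : sm gi N43015 = N47561 := rfl
theorem L662454 : sm ga N47561 = N43088 := ded_18_1 (flp_i L364326) (flp_a L363758) L662452
theorem L662456 : sm gc N47561 = N43017 := ded_33_1 (flp_i L363776) L363756 L662452
theorem L662458 : sm gf N47561 = N43021 := ded_48_1 (flp_i L363816) (flp_f L363760) L662452
theorem L662460 : sm gg N47561 = N45767 := ded_51_1 (flp_i L386974) (flp_g L363762) L662452
theorem L662462 : sm gh N47561 = N46274 := ded_54_1 (flp_i L391065) L268723 L546481 (flp_h L363764) L662452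
theorem L662464 : sm gi N43016 = N47562 := rfl
theorem L662466 : sm ga N47562 = N43089 := ded_18_1 (flp_i L364334) (flp_a L363768) L662464
theorem L662468 : sm gb N47562 = N47562 := ded_26_1 (flp_i L662464) L363770 L662464
theorem L662469 : sm ge N47562 = N43017 := ded_44_1 (flp_i L363776) L363766 L662464
theorem L662471 : sm gf N47562 = N47562 := ded_48_1 (flp_i L662464) L363775 L662464
theorem L662472 : sm gg N47562 = N45768 := ded_51_1 (flp_i L386982) (flp_g L363771) L662464
theorem L662474 : sm gh N47562 = N46275 := ded_54_1 (flp_i L391071) L268728 (flp_i L546382) (flp_h L363773) L662464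
theorem L662476 : sm gi N43018 = N47563 := rfl
theorem L662478 : sm ga N47563 = N43092 := ded_18_1 (flp_i L364363) (flp_a L363789) L662476
theorem L662480 : sm gb N47563 = N46526 := ded_26_1 (flp_i L650925) L649299 L662476
theorem L662482 : sm gc N47563 = N43019 := ded_33_1 (flp_i L363797) L363787 L662476
theorem L662484 : sm ge N47563 = N47563 := ded_44_1 (flp_i L662476) L363791 L662476
theorem L662485 : sm gg N47563 = N47563 := ded_51_1 (flp_i L662476) L363792 L662476
theorem L662486 : sm gj N47563 = N43021 := ded_53_1 (flp_i L363816) (flp_j L363793) L662476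
theorem L662488 : sm gh N47563 = N46278 := ded_54_1 (flp_i L391093) L268744 L546477 (flp_h L363795) L662476
theorem L662490 : sm ga N43020 = N47564 := rfl
theorem L662492 : sm gc N47564 = N47564 := ded_11_2 (flp_a L662490) L363815 L662490
theorem L662493 : sm ge N47564 = N47564 := ded_13_2 (flp_a L662490) L363810 L662490
theorem L662494 : sm gg N47564 = N43023 := ded_15_2 (flp_a L363835) (flp_g L363811) L662490
theorem L662496 : sm gj N47564 = N46523 := ded_16_2 L650905 L649297 L662490
theorem L662498 : sm gh N47564 = N43601 := ded_17_2 (flp_a L368750) (flp_h L363813) L662490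
theorem L662500 : sm gb N47564 = N43094 := ded_10_2 (flp_a L364381) (flp_b L250603) (flp_a L250236) L363808 L662490
theorem L662502 : sm gi N43020 = N47565 := rfl
theorem L662504 : sm gb N47565 = N43021 := ded_26_1 (flp_i L363816) L363808 L662502
theorem L662506 : sm gc N47565 = N47565 := ded_33_1 (flp_i L662502) L363815 L662502
theorem L662507 : sm ge N47565 = N47565 := ded_44_1 (flp_i L662502) L363810 L662502
theorem L662508 : sm gg N47565 = N43024 := ded_51_1 (flp_i L363846) (flp_g L363811) L662502
theorem L662510 : sm gj N47565 = N46526 := ded_53_1 (flp_i L650925) L649297 L662502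
theorem L662512 : sm gh N47565 = N46281 := ded_54_1 (flp_i L391118) L268760 L546497 (flp_h L363813) L662502
theorem L662514 : sm gi N43023 = N47566 := rfl
theorem L662516 : sm ga N47566 = N43024 := ded_18_1 (flp_i L363846) L363835 L662514
theorem L662518 : sm gb N47566 = N43097 := ded_26_1 (flp_i L364408) (flp_b L363844) L662514
theorem L662520 : sm gc N47566 = N47566 := ded_33_1 (flp_i L662514) L363837 L662514
theorem L662521 : sm ge N47566 = N47566 := ded_44_1 (flp_i L662514) L363838 L662514
theorem L662522 : sm gf N47566 = N45776 := ded_48_1 (flp_i L387065) (flp_f L363839) L662514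
theorem L662524 : sm gj N47566 = N47566 := ded_53_1 (flp_i L662514) L363841 L662514
theorem L662525 : sm gh N47566 = N46283 := ded_54_1 (flp_i L391135) L268783 (flp_i L543211) (flp_h L363842) L662514
theorem L662527 : sm gg N43026 = N47567 := rfl
theorem L662529 : sm ga N47567 = N46109 := ded_15_1 (flp_g L662012) L662001 L662527
theorem L662531 : sm gb N47567 = N46552 := ded_23_1 (flp_g L655442) L655434 L662527
theorem L662533 : sm gc N47567 = N43607 := ded_30_1 (flp_g L368802) (flp_c L363869) L662527
theorem L662535 : sm gd N47567 = N46535 := ded_36_1 (flp_g L659911) L659906 L662527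
theorem L662537 : sm ge N47567 = N43028 := ded_41_1 (flp_g L363883) (flp_e L363871) L662527
theorem L662539 : sm gj N47567 = N45779 := ded_49_2 (flp_g L387092) (flp_j L265967) (flp_g L250287) L363867 L662527
theorem L662541 : sm gf N46121 = N47567 := ded_14_0 L662529 L389737 L389823
theorem L662543 : sm gh N43026 = N47568 := rfl
theorem L662545 : sm gc N47568 = N43608 := ded_32_1 (flp_h L368810) (flp_c L363869) L662543
theorem L662547 : sm ge N47568 = N43029 := ded_43_1 (flp_h L363892) (flp_e L363871) L662543
theorem L662549 : sm gf N47568 = N47568 := ded_47_1 (flp_h L662543) L363873 L662543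
theorem L662550 : sm gj N47568 = N43027 := ded_52_1 (flp_h L363874) L363867 L662543
theorem L662552 : sm gd N43027 = N47569 := rfl
theorem L662554 : sm gf N47569 = N47569 := ded_35_2 (flp_d L662552) L363880 L662552
theorem L662555 : sm gg N47569 = N45781 := ded_36_2 (flp_d L387108) (flp_g L363881) L662552
theorem L662557 : sm gi N43027 = N47570 := rfl
theorem L662559 : sm gc N47570 = N43610 := ded_33_1 (flp_i L368825) (flp_c L363876) L662557
theorem L662561 : sm ge N47570 = N43031 := ded_44_1 (flp_i L363908) (flp_e L363878) L662557
theorem L662563 : sm gf N47570 = N47570 := ded_48_1 (flp_i L662557) L363880 L662557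
theorem L662564 : sm gg N47570 = N45782 := ded_51_1 (flp_i L387112) (flp_g L363881) L662557
theorem L662566 : sm gh N43028 = N47571 := rfl
theorem L662568 : sm gc N47571 = N43611 := ded_32_1 (flp_h L368833) (flp_c L363885) L662566
theorem L662570 : sm gf N47571 = N47571 := ded_47_1 (flp_h L662566) L363889 L662566
theorem L662571 : sm gg N47571 = N43029 := ded_50_1 (flp_h L363892) L363883 L662566
theorem L662573 : sm gj N47571 = N45783 := ded_52_1 (flp_h L387120) (flp_j L363890) L662566
theorem L662575 : sm gd N43029 = N47572 := rfl
theorem L662577 : sm gf N47572 = N43032 := ded_35_2 (flp_d L363916) (flp_f L363896) L662575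
theorem L662579 : sm gj N47572 = N43030 := ded_37_2 (flp_d L363900) (flp_j L363898) L662575
theorem L662581 : sm gh N47572 = N43044 := ded_38_2 (flp_d L364007) (flp_h L250356) (flp_d L250294) L363892 L662575
theorem L662583 : sm gi N43029 = N47573 := rfl
theorem L662585 : sm gc N47573 = N43613 := ded_33_1 (flp_i L368850) (flp_c L363894) L662583
theorem L662587 : sm gf N47573 = N43033 := ded_48_1 (flp_i L363923) (flp_f L363896) L662583
theorem L662589 : sm gj N47573 = N43031 := ded_53_1 (flp_i L363908) (flp_j L363898) L662583
theorem L662591 : sm gc N43030 = N47574 := rfl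
theorem L662593 : sm ga N47574 = N46331 := ded_11_1 (flp_c L662060) L662054 L662591
theorem L662595 : sm gf N47574 = N43034 := ded_29_2 (flp_c L363931) (flp_f L363902) L662591
theorem L662597 : sm gg N47574 = N45786 := ded_30_2 (flp_c L387143) (flp_g L363904) L662591
theorem L662599 : sm gh N47574 = N43046 := ded_32_2 (flp_c L364021) (flp_h L363906) L662591
theorem L662601 : sm gd N47574 = N43614 := ded_27_2 (flp_c L368857) (flp_d L253674) (flp_c L250300) L363900 L662591
theorem L662603 : sm ge N43030 = N47575 := rfl
theorem L662605 : sm gg N47575 = N45787 := ded_41_2 (flp_e L387151) (flp_g L363904) L662603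
theorem L662607 : sm gh N47575 = N43047 := ded_43_2 (flp_e L364029) (flp_h L363906) L662603
theorem L662609 : sm gi N43030 = N47576 := rfl
theorem L662611 : sm gd N47576 = N43031 := ded_39_1 (flp_i L363908) L363900 L662609
theorem L662613 : sm gf N47576 = N43036 := ded_48_1 (flp_i L363946) (flp_f L363902) L662609
theorem L662615 : sm gg N47576 = N45788 := ded_51_1 (flp_i L387155) (flp_g L363904) L662609
theorem L662617 : sm gc N43032 = N47577 := rfl
theorem L662619 : sm ga N47577 = N46335 := ded_11_1 (flp_c L662083) L662078 L662617
theorem L662621 : sm gg N47577 = N47577 := ded_30_2 (flp_c L662617) L363918 L662617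
theorem L662622 : sm gj N47577 = N43034 := ded_31_2 (flp_c L363931) (flp_j L363919) L662617
theorem L662624 : sm gh N47577 = N43049 := ded_32_2 (flp_c L364041) (flp_h L363921) L662617
theorem L662626 : sm gd N47577 = N43617 := ded_27_2 (flp_c L368881) (flp_d L253690) (flp_c L250308) L363916 L662617
theorem L662628 : sm ge N43032 = N47578 := rfl
theorem L662630 : sm gg N47578 = N47578 := ded_41_2 (flp_e L662628) L363918 L662628
theorem L662631 : sm gj N47578 = N43035 := ded_42_2 (flp_e L363939) (flp_j L363919) L662628
theorem L662633 : sm gh N47578 = N43050 := ded_43_2 (flp_e L364048) (flp_h L363921) L662628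
theorem L662635 : sm gd N47578 = N47578 := ded_34_1 (flp_e L662628) (flp_d L363916) L250310 L363916 L662628
theorem L662636 : sm gi N43032 = N47579 := rfl
theorem L662638 : sm gd N47579 = N43033 := ded_39_1 (flp_i L363923) L363916 L662636
theorem L662640 : sm gg N47579 = N47579 := ded_51_1 (flp_i L662636) L363918 L662636
theorem L662641 : sm gj N47579 = N43036 := ded_53_1 (flp_i L363946) (flp_j L363919) L662636
theorem L662643 : sm gb N43034 = N47580 := rfl
theorem L662645 : sm gd N47580 = N43620 := ded_20_2 (flp_b L368905) (flp_d L363937) L662643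
theorem L662647 : sm gg N47580 = N43037 := ded_23_2 (flp_b L363952) (flp_g L363933) L662643
theorem L662649 : sm gh N47580 = N43052 := ded_25_2 (flp_b L364062) (flp_h L363935) L662643
theorem L662651 : sm ge N43034 = N47581 := rfl
theorem L662653 : sm ga N47581 = N46338 := ded_13_1 (flp_e L391559) (flp_a L512928) L662651
theorem L662655 : sm gc N47581 = N43035 := ded_28_1 (flp_e L363939) L363931 L662651
theorem L662657 : sm gg N47581 = N43038 := ded_41_2 (flp_e L363961) (flp_g L363933) L662651
theorem L662659 : sm gh N47581 = N43053 := ded_43_2 (flp_e L364068) (flp_h L363935) L662651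
theorem L662661 : sm gd N47581 = N46525 := ded_34_1 (flp_e L650917) (flp_d L273878) L546089 (flp_d L363937) L662651
theorem L662663 : sm gi N43034 = N47582 := rfl
theorem L662665 : sm ga N47582 = N45882 := ded_18_1 L387860 (flp_a L512928) L662663
theorem L662667 : sm gc N47582 = N43036 := ded_33_1 (flp_i L363946) L363931 L662663
theorem L662669 : sm gd N47582 = N43622 := ded_39_1 (flp_i L368920) (flp_d L363937) L662663
theorem L662671 : sm gg N47582 = N43039 := ded_51_1 (flp_i L363968) (flp_g L363933) L662663
theorem L662673 : sm gf N43035 = N47583 := rfl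
theorem L662675 : sm gd N47583 = N47583 := ded_35_1 (flp_f L662673) L363945 L662673
theorem L662676 : sm gh N47583 = N43055 := ded_47_2 (flp_f L364083) (flp_h L363943) L662673
theorem L662678 : sm gi N43035 = N47584 := rfl
theorem L662680 : sm gd N47584 = N47584 := ded_39_1 (flp_i L662678) L363945 L662678
theorem L662681 : sm ge N47584 = N43036 := ded_44_1 (flp_i L363946) L363939 L662678
theorem L662683 : sm gg N47584 = N43041 := ded_51_1 (flp_i L363985) (flp_g L363941) L662678
theorem L662685 : sm gh N43036 = N47585 := rfl
theorem L662687 : sm gg N47585 = N43042 := ded_50_1 (flp_h L363991) (flp_g L363950) L662685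
theorem L662689 : sm gi N47585 = N43057 := ded_54_2 (flp_h L364095) (flp_i L250404) (flp_h L250318) L363946 L662685
theorem L662691 : sm gi N43037 = N47586 := rfl
theorem L662693 : sm gb N47586 = N43039 := ded_26_1 (flp_i L363968) L363952 L662691
theorem L662695 : sm gd N47586 = N43628 := ded_39_1 (flp_i L368965) (flp_d L363954) L662691
theorem L662697 : sm gf N47586 = N45800 := ded_48_1 (flp_i L387246) (flp_f L363956) L662691
theorem L662699 : sm gj N47586 = N47586 := ded_53_1 (flp_i L662691) L363958 L662691
theorem L662700 : sm gf N43038 = N47587 := rfl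
theorem L662702 : sm ga N47587 = N44835 := ded_14_1 (flp_f L648574) (flp_a L512960) L662700
theorem L662704 : sm gb N47587 = N44899 := ded_22_1 (flp_f L655746) L655751 L662700
theorem L662706 : sm gc N47587 = N43040 := ded_29_1 (flp_f L363977) (flp_c L363963) L662700
theorem L662708 : sm gd N47587 = N44864 := ded_35_1 (flp_f L648572) (flp_d L512962) L662700
theorem L662710 : sm gj N47587 = N47587 := ded_46_2 (flp_f L662700) L363965 L662700
theorem L662711 : sm gh N47587 = N43061 := ded_47_2 (flp_f L364121) (flp_h L363966) L662700
theorem L662713 : sm ge N47587 = N45801 := ded_40_1 (flp_f L387253) (flp_e L266055) (flp_f L250329) L363961 L662700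
theorem L662715 : sm gi N43038 = N47588 := rfl
theorem L662717 : sm ga N47588 = N45885 := ded_18_1 L387883 (flp_a L512960) L662715
theorem L662719 : sm gc N47588 = N43041 := ded_33_1 (flp_i L363985) (flp_c L363963) L662715
theorem L662721 : sm gd N47588 = N46470 := ded_39_1 L650485 (flp_d L512962) L662715
theorem L662723 : sm ge N47588 = N43039 := ded_44_1 (flp_i L363968) L363961 L662715
theorem L662725 : sm gj N47588 = N47588 := ded_53_1 (flp_i L662715) L363965 L662715
theorem L662726 : sm gh N43039 = N47589 := rfl
theorem L662728 : sm ga N47589 = N45841 := ded_17_1 L387525 (flp_a L512953) L662726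
theorem L662730 : sm gc N47589 = N43042 := ded_32_1 (flp_h L363991) (flp_c L363970) L662726
theorem L662732 : sm gf N47589 = N45803 := ded_47_1 (flp_h L387269) (flp_f L363974) L662726
theorem L662734 : sm gj N47589 = N47589 := ded_52_1 (flp_h L662726) L363976 L662726
theorem L662735 : sm gd N47589 = N45742 := ded_38_1 (flp_h L386738) L265690 L546708 (flp_d L363972) L662726
theorem L662737 : sm gi N47589 = N43063 := ded_54_2 (flp_h L364137) (flp_i L250423) (flp_h L250332) L363968 L662726
theorem L662739 : sm gg N43040 = N47590 := rfl
theorem L662741 : sm gd N47590 = N47590 := ded_36_1 (flp_g L662739) L363979 L662739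
theorem L662742 : sm ge N47590 = N45804 := ded_41_1 (flp_g L387276) (flp_e L363983) L662739
theorem L662744 : sm gh N47590 = N43064 := ded_50_2 (flp_g L364144) (flp_h L363981) L662739
theorem L662746 : sm gi N43040 = N47591 := rfl
theorem L662748 : sm gd N47591 = N47591 := ded_39_1 (flp_i L662746) L363979 L662746
theorem L662749 : sm ge N47591 = N45805 := ded_44_1 (flp_i L387282) (flp_e L363983) L662746
theorem L662751 : sm gf N47591 = N43041 := ded_48_1 (flp_i L363985) L363977 L662746
theorem L662753 : sm gj N47591 = N47591 := ded_53_1 (flp_i L662746) L363980 L662746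
theorem L662754 : sm gh N43041 = N47592 := rfl
theorem L662756 : sm ge N47592 = N43042 := ded_43_1 (flp_h L363991) (flp_e L363988) L662754
theorem L662758 : sm gj N47592 = N47592 := ded_52_1 (flp_h L662754) L363990 L662754
theorem L662759 : sm gi N47592 = N43066 := ded_54_2 (flp_h L364159) (flp_i L250439) (flp_h L250339) L363985 L662754
theorem L662761 : sm gd N43043 = N47593 := rfl
theorem L662763 : sm gf N47593 = N47593 := ded_35_2 (flp_d L662761) L364002 L662761
theorem L662764 : sm gg N47593 = N43044 := ded_36_2 (flp_d L364007) (flp_g L364003) L662761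
theorem L662766 : sm gj N47593 = N45807 := ded_37_2 (flp_d L387296) (flp_j L364005) L662761
theorem L662768 : sm gi N43043 = N47594 := rfl
theorem L662770 : sm gc N47594 = N43082 := ded_33_1 (flp_i L364271) (flp_c L364000) L662768
theorem L662772 : sm gf N47594 = N47594 := ded_48_1 (flp_i L662768) L364002 L662768
theorem L662773 : sm gg N47594 = N43045 := ded_51_1 (flp_i L364013) (flp_g L364003) L662768
theorem L662775 : sm gj N47594 = N45808 := ded_53_1 (flp_i L387301) (flp_j L364005) L662768
theorem L662777 : sm gc N43044 = N47595 := rfl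
theorem L662779 : sm gf N47595 = N43049 := ded_29_2 (flp_c L364041) (flp_f L364009) L662777
theorem L662781 : sm gj N47595 = N43046 := ded_31_2 (flp_c L364021) (flp_j L364011) L662777
theorem L662783 : sm gd N47595 = N43083 := ded_27_2 (flp_c L364280) (flp_d L250540) (flp_c L250358) L364007 L662777
theorem L662785 : sm ge N43044 = N47596 := rfl
theorem L662787 : sm gj N47596 = N43047 := ded_42_2 (flp_e L364029) (flp_j L364011) L662785
theorem L662789 : sm gi N43044 = N47597 := rfl
theorem L662791 : sm gd N47597 = N43045 := ded_39_1 (flp_i L364013) L364007 L662789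
theorem L662793 : sm gf N47597 = N43051 := ded_48_1 (flp_i L364055) (flp_f L364009) L662789
theorem L662795 : sm gj N47597 = N43048 := ded_53_1 (flp_i L364033) (flp_j L364011) L662789
theorem L662797 : sm gb N43046 = N47598 := rfl
theorem L662799 : sm gd N47598 = N43086 := ded_20_2 (flp_b L364307) (flp_d L364027) L662797
theorem L662801 : sm gf N47598 = N43052 := ded_22_2 (flp_b L364062) (flp_f L364023) L662797
theorem L662803 : sm gg N47598 = N45812 := ded_23_2 (flp_b L387328) (flp_g L364025) L662797
theorem L662805 : sm ge N43046 = N47599 := rfl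
theorem L662807 : sm gc N47599 = N43047 := ded_28_1 (flp_e L364029) L364021 L662805
theorem L662809 : sm gg N47599 = N45813 := ded_41_2 (flp_e L387334) (flp_g L364025) L662805
theorem L662811 : sm gi N43046 = N47600 := rfl
theorem L662813 : sm gc N47600 = N43048 := ded_33_1 (flp_i L364033) L364021 L662811
theorem L662815 : sm gd N47600 = N43088 := ded_39_1 (flp_i L364326) (flp_d L364027) L662811
theorem L662817 : sm gf N47600 = N43054 := ded_48_1 (flp_i L364075) (flp_f L364023) L662811
theorem L662819 : sm gg N47600 = N45814 := ded_51_1 (flp_i L387338) (flp_g L364025) L662811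
theorem L662821 : sm gf N43047 = N47601 := rfl
theorem L662823 : sm ge N47601 = N43055 := ded_40_1 (flp_f L364083) (flp_e L250398) (flp_f L250366) L364029 L662821
theorem L662825 : sm gi N43047 = N47602 := rfl
theorem L662827 : sm ge N47602 = N43048 := ded_44_1 (flp_i L364033) L364029 L662825
theorem L662829 : sm gg N47602 = N45816 := ded_51_1 (flp_i L387350) (flp_g L364031) L662825
theorem L662831 : sm gh N43048 = N47603 := rfl
theorem L662833 : sm gf N47603 = N43057 := ded_47_1 (flp_h L364095) (flp_f L364037) L662831
theorem L662835 : sm gg N47603 = N45817 := ded_50_1 (flp_h L387354) (flp_g L364039) L662831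
theorem L662837 : sm gb N43049 = N47604 := rfl
theorem L662839 : sm gd N47604 = N43091 := ded_20_2 (flp_b L364353) (flp_d L364046) L662837
theorem L662841 : sm gg N47604 = N47604 := ded_23_2 (flp_b L662837) L364043 L662837
theorem L662842 : sm gj N47604 = N43052 := ded_24_2 (flp_b L364062) (flp_j L364044) L662837
theorem L662844 : sm ge N43049 = N47605 := rfl
theorem L662846 : sm gc N47605 = N43050 := ded_28_1 (flp_e L364048) L364041 L662844
theorem L662848 : sm gg N47605 = N47605 := ded_41_2 (flp_e L662844) L364043 L662844
theorem L662849 : sm gj N47605 = N43053 := ded_42_2 (flp_e L364068) (flp_j L364044) L662844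
theorem L662851 : sm gd N47605 = N47605 := ded_34_1 (flp_e L662844) L364046 L250587 (flp_d L364046) L662844
theorem L662852 : sm gi N43049 = N47606 := rfl
theorem L662854 : sm gc N47606 = N43051 := ded_33_1 (flp_i L364055) L364041 L662852
theorem L662856 : sm gd N47606 = N43092 := ded_39_1 (flp_i L364363) (flp_d L364046) L662852
theorem L662858 : sm gg N47606 = N47606 := ded_51_1 (flp_i L662852) L364043 L662852
theorem L662859 : sm gj N47606 = N43054 := ded_53_1 (flp_i L364075) (flp_j L364044) L662852
theorem L662861 : sm gf N43050 = N47607 := rfl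
theorem L662863 : sm gd N47607 = N43067 := ded_35_1 (flp_f L364164) (flp_d L364053) L662861
theorem L662865 : sm gj N47607 = N43055 := ded_46_2 (flp_f L364083) (flp_j L364051) L662861
theorem L662867 : sm gi N43050 = N47608 := rfl
theorem L662869 : sm gd N47608 = N43068 := ded_39_1 (flp_i L364170) (flp_d L364053) L662867
theorem L662871 : sm ge N47608 = N43051 := ded_44_1 (flp_i L364055) L364048 L662867
theorem L662873 : sm gg N47608 = N47608 := ded_51_1 (flp_i L662867) L364050 L662867
theorem L662874 : sm gj N47608 = N43056 := ded_53_1 (flp_i L364087) (flp_j L364051) L662867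
theorem L662876 : sm gh N43051 = N47609 := rfl
theorem L662878 : sm gg N47609 = N47609 := ded_50_1 (flp_h L662876) L364059 L662876
theorem L662879 : sm gj N47609 = N43057 := ded_52_1 (flp_h L364095) (flp_j L364060) L662876
theorem L662881 : sm ga N43052 = N47610 := rfl
theorem L662883 : sm gd N47610 = N43094 := ded_12_2 (flp_a L364381) (flp_d L364064) L662881
theorem L662885 : sm gg N47610 = N43058 := ded_15_2 (flp_a L364099) (flp_g L364066) L662881
theorem L662887 : sm ge N43052 = N47611 := rfl
theorem L662889 : sm gb N47611 = N43053 := ded_21_1 (flp_e L364068) L364062 L662887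
theorem L662891 : sm gg N47611 = N43059 := ded_41_2 (flp_e L364106) (flp_g L364066) L662887
theorem L662893 : sm gd N47611 = N47611 := ded_34_1 (flp_e L662887) L364064 L250605 (flp_d L364064) L662887
theorem L662894 : sm gi N43052 = N47612 := rfl
theorem L662896 : sm gb N47612 = N43054 := ded_26_1 (flp_i L364075) L364062 L662894
theorem L662898 : sm gd N47612 = N43095 := ded_39_1 (flp_i L364390) (flp_d L364064) L662894
theorem L662900 : sm gg N47612 = N43060 := ded_51_1 (flp_i L364112) (flp_g L364066) L662894
theorem L662902 : sm gf N43053 = N47613 := rfl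
theorem L662904 : sm gc N47613 = N43055 := ded_29_1 (flp_f L364083) (flp_c L364070) L662902
theorem L662906 : sm gd N47613 = N47613 := ded_35_1 (flp_f L662902) L364074 L662902
theorem L662907 : sm gi N43053 = N47614 := rfl
theorem L662909 : sm gc N47614 = N43056 := ded_33_1 (flp_i L364087) (flp_c L364070) L662907
theorem L662911 : sm gd N47614 = N47614 := ded_39_1 (flp_i L662907) L364074 L662907
theorem L662912 : sm ge N47614 = N43054 := ded_44_1 (flp_i L364075) L364068 L662907
theorem L662914 : sm gg N47614 = N43062 := ded_51_1 (flp_i L364129) (flp_g L364072) L662907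
theorem L662916 : sm gh N43054 = N47615 := rfl
theorem L662918 : sm gc N47615 = N43057 := ded_32_1 (flp_h L364095) (flp_c L364077) L662916
theorem L662920 : sm gg N47615 = N43063 := ded_50_1 (flp_h L364137) (flp_g L364081) L662916
theorem L662922 : sm gg N43055 = N47616 := rfl
theorem L662924 : sm gd N47616 = N43070 := ded_36_1 (flp_g L364185) (flp_d L364085) L662922
theorem L662926 : sm gf N47616 = N43064 := ded_45_1 (flp_g L364144) (flp_f L250432) (flp_g L250400) L364083 L662922
theorem L662928 : sm gi N43055 = N47617 := rfl
theorem L662930 : sm gd N47617 = N43071 := ded_39_1 (flp_i L364191) (flp_d L364085) L662928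
theorem L662932 : sm gf N47617 = N43056 := ded_48_1 (flp_i L364087) L364083 L662928
theorem L662934 : sm gh N43056 = N47618 := rfl
theorem L662936 : sm ge N47618 = N43057 := ded_43_1 (flp_h L364095) (flp_e L364091) L662934
theorem L662938 : sm gg N47618 = N43066 := ded_50_1 (flp_h L364159) (flp_g L364093) L662934
theorem L662940 : sm gi N43058 = N47619 := rfl
theorem L662942 : sm ga N47619 = N43060 := ded_18_1 (flp_i L364112) L364099 L662940
theorem L662944 : sm gd N47619 = N43097 := ded_39_1 (flp_i L364408) (flp_d L364101) L662940
theorem L662946 : sm gf N47619 = N45834 := ded_48_1 (flp_i L387472) (flp_f L364103) L662940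
theorem L662948 : sm gj N47619 = N47619 := ded_53_1 (flp_i L662940) L364105 L662940
theorem L662949 : sm gf N43059 = N47620 := rfl
theorem L662951 : sm ga N47620 = N44878 := ded_14_1 (flp_f L655539) L655544 L662949
theorem L662953 : sm gb N47620 = N43061 := ded_22_1 (flp_f L364121) (flp_b L364108) L662949
theorem L662955 : sm gc N47620 = N45798 := ded_29_1 L655768 L655761 L662949
theorem L662957 : sm gd N47620 = N47620 := ded_35_1 (flp_f L662949) L364111 L662949
theorem L662958 : sm gj N47620 = N47620 := ded_46_2 (flp_f L662949) L364110 L662949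
theorem L662959 : sm gh N47620 = N44899 := ded_47_2 (flp_f L655746) L655749 L662949
theorem L662961 : sm ge N47620 = N45835 := ded_40_1 (flp_f L387479) (flp_e L266188) (flp_f L250414) L364106 L662949
theorem L662963 : sm gi N43059 = N47621 := rfl
theorem L662965 : sm gb N47621 = N43062 := ded_26_1 (flp_i L364129) (flp_b L364108) L662963
theorem L662967 : sm gd N47621 = N47621 := ded_39_1 (flp_i L662963) L364111 L662963
theorem L662968 : sm ge N47621 = N43060 := ded_44_1 (flp_i L364112) L364106 L662963
theorem L662970 : sm gj N47621 = N47621 := ded_53_1 (flp_i L662963) L364110 L662963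
theorem L662971 : sm gh N43060 = N47622 := rfl
theorem L662973 : sm gb N47622 = N43063 := ded_25_1 (flp_h L364137) (flp_b L364114) L662971
theorem L662975 : sm gf N47622 = N45837 := ded_47_1 (flp_h L387495) (flp_f L364118) L662971
theorem L662977 : sm gj N47622 = N47622 := ded_52_1 (flp_h L662971) L364120 L662971
theorem L662978 : sm gg N43061 = N47623 := rfl
theorem L662980 : sm gc N47623 = N43064 := ded_30_1 (flp_g L364144) (flp_c L364123) L662978
theorem L662982 : sm gd N47623 = N47623 := ded_36_1 (flp_g L662978) L364125 L662978
theorem L662983 : sm ge N47623 = N45838 := ded_41_1 (flp_g L387500) (flp_e L364127) L662978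
theorem L662985 : sm gi N43061 = N47624 := rfl
theorem L662987 : sm gc N47624 = N43065 := ded_33_1 (flp_i L364150) (flp_c L364123) L662985
theorem L662989 : sm gd N47624 = N47624 := ded_39_1 (flp_i L662985) L364125 L662985
theorem L662990 : sm ge N47624 = N45839 := ded_44_1 (flp_i L387506) (flp_e L364127) L662985
theorem L662992 : sm gf N47624 = N43062 := ded_48_1 (flp_i L364129) L364121 L662985
theorem L662994 : sm gj N47624 = N47624 := ded_53_1 (flp_i L662985) L364126 L662985
theorem L662995 : sm gh N43062 = N47625 := rfl
theorem L662997 : sm gc N47625 = N43066 := ded_32_1 (flp_h L364159) (flp_c L364131) L662995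
theorem L662999 : sm ge N47625 = N43063 := ded_43_1 (flp_h L364137) (flp_e L364134) L662995
theorem L663001 : sm gj N47625 = N47625 := ded_52_1 (flp_h L662995) L364136 L662995
theorem L663002 : sm gd N43063 = N47626 := rfl
theorem L663004 : sm ga N47626 = N45803 := ded_12_1 (flp_d L662312) L662305 L663002
theorem L663006 : sm gf N47626 = N45841 := ded_35_2 (flp_d L387522) (flp_f L364141) L663002
theorem L663008 : sm gj N47626 = N47626 := ded_37_2 (flp_d L663002) L364143 L663002
theorem L663009 : sm gi N47626 = N45742 := ded_39_2 (flp_d L662735) L662737 L663002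
theorem L663011 : sm gc N47626 = N45721 := ded_27_1 (flp_d L661444) L661439 L362797 (flp_c L364139) L663002
theorem L663013 : sm gh N47626 = N43099 := ded_38_2 (flp_d L364430) (flp_h L250648) (flp_d L250427) L364137 L663002
theorem L663015 : sm gj N43064 = N47627 := rfl
theorem L663017 : sm gd N47627 = N43073 := ded_37_1 (flp_j L364204) (flp_d L364146) L663015
theorem L663019 : sm ge N47627 = N45842 := ded_42_1 (flp_j L387527) (flp_e L364148) L663015
theorem L663021 : sm gg N47627 = N47627 := ded_49_1 (flp_j L663015) (flp_g L364144) L250436 L364144 L663015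
theorem L663022 : sm gi N43064 = N47628 := rfl
theorem L663024 : sm gd N47628 = N43074 := ded_39_1 (flp_i L364211) (flp_d L364146) L663022
theorem L663026 : sm ge N47628 = N45843 := ded_44_1 (flp_i L387532) (flp_e L364148) L663022
theorem L663028 : sm gg N47628 = N43065 := ded_51_1 (flp_i L364150) L364144 L663022
theorem L663030 : sm gh N43065 = N47629 := rfl
theorem L663032 : sm ge N47629 = N45844 := ded_43_1 (flp_h L387538) (flp_e L364154) L663030
theorem L663034 : sm gf N47629 = N43066 := ded_47_1 (flp_h L364159) (flp_f L364156) L663030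
theorem L663036 : sm gj N47629 = N47629 := ded_52_1 (flp_h L663030) L364158 L663030
theorem L663037 : sm gd N43066 = N47630 := rfl
theorem L663039 : sm gj N47630 = N47630 := ded_37_2 (flp_d L663037) L364163 L663037
theorem L663040 : sm gh N47630 = N43076 := ded_38_2 (flp_d L364227) (flp_h L250497) (flp_d L250441) L364159 L663037
theorem L663042 : sm gg N43067 = N47631 := rfl
theorem L663044 : sm gc N47631 = N47631 := ded_30_1 (flp_g L663042) L364166 L663042
theorem L663045 : sm gh N47631 = N47631 := ded_50_2 (flp_g L663042) L364169 L663042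
theorem L663046 : sm gf N47631 = N47631 := ded_45_1 (flp_g L663042) (flp_f L364164) L250454 L364164 L663042
theorem L663047 : sm gi N43067 = N47632 := rfl
theorem L663049 : sm gc N47632 = N47632 := ded_33_1 (flp_i L663047) L364166 L663047
theorem L663050 : sm gf N47632 = N43068 := ded_48_1 (flp_i L364170) L364164 L663047
theorem L663052 : sm gj N47632 = N43071 := ded_53_1 (flp_i L364191) (flp_j L364167) L663047
theorem L663054 : sm gh N43068 = N47633 := rfl
theorem L663056 : sm gc N47633 = N47633 := ded_32_1 (flp_h L663054) L364172 L663054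
theorem L663057 : sm ge N47633 = N43069 := ded_43_1 (flp_h L364178) (flp_e L364173) L663054
theorem L663059 : sm gg N47633 = N47633 := ded_50_1 (flp_h L663054) L364175 L663054
theorem L663060 : sm gj N47633 = N43072 := ded_52_1 (flp_h L364196) (flp_j L364176) L663054
theorem L663062 : sm gi N47633 = N47633 := ded_54_2 (flp_h L663054) (flp_i L364170) L250457 L364170 L663054
theorem L663063 : sm gj N43070 = N47634 := rfl
theorem L663065 : sm gc N47634 = N47634 := ded_31_1 (flp_j L663063) L364187 L663063
theorem L663066 : sm gf N47634 = N43073 := ded_46_1 (flp_j L364204) (flp_f L364189) L663063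
theorem L663068 : sm gh N47634 = N47634 := ded_52_2 (flp_j L663063) L364188 L663063
theorem L663069 : sm gi N43070 = N47635 := rfl
theorem L663071 : sm gc N47635 = N47635 := ded_33_1 (flp_i L663069) L364187 L663069
theorem L663072 : sm gf N47635 = N43074 := ded_48_1 (flp_i L364211) (flp_f L364189) L663069
theorem L663074 : sm gg N47635 = N43071 := ded_51_1 (flp_i L364191) L364185 L663069
theorem L663076 : sm gh N43071 = N47636 := rfl
theorem L663078 : sm gc N47636 = N47636 := ded_32_1 (flp_h L663076) L364193 L663076
theorem L663079 : sm gf N47636 = N43072 := ded_47_1 (flp_h L364196) (flp_f L364194) L663076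
theorem L663081 : sm gi N47636 = N47636 := ded_54_2 (flp_h L663076) (flp_i L364191) L250469 L364191 L663076
theorem L663082 : sm gd N43072 = N47637 := rfl
theorem L663084 : sm gg N47637 = N43076 := ded_36_2 (flp_d L364227) (flp_g L364201) L663082
theorem L663086 : sm gi N47637 = N47637 := ded_39_2 (flp_d L663082) L364203 L663082
theorem L663087 : sm gi N43073 = N47638 := rfl
theorem L663089 : sm gc N47638 = N47638 := ded_33_1 (flp_i L663087) L364206 L663087
theorem L663090 : sm ge N47638 = N43077 := ded_44_1 (flp_i L364231) (flp_e L364207) L663087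
theorem L663092 : sm gg N47638 = N47638 := ded_51_1 (flp_i L663087) L364210 L663087
theorem L663093 : sm gj N47638 = N43074 := ded_53_1 (flp_i L364211) L364204 L663087
theorem L663095 : sm gh N43074 = N47639 := rfl
theorem L663097 : sm gc N47639 = N47639 := ded_32_1 (flp_h L663095) L364213 L663095
theorem L663098 : sm ge N47639 = N43078 := ded_43_1 (flp_h L364239) (flp_e L364214) L663095
theorem L663100 : sm gg N47639 = N43075 := ded_50_1 (flp_h L364218) (flp_g L364216) L663095
theorem L663102 : sm gi N47639 = N47639 := ded_54_2 (flp_h L663095) (flp_i L364211) L250488 L364211 L663095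
theorem L663103 : sm gd N43075 = N47640 := rfl
theorem L663105 : sm gf N47640 = N43076 := ded_35_2 (flp_d L364227) (flp_f L364223) L663103
theorem L663107 : sm gj N47640 = N47640 := ded_37_2 (flp_d L663103) L364225 L663103
theorem L663108 : sm gi N47640 = N47640 := ded_39_2 (flp_d L663103) L364226 L663103
theorem L663109 : sm gc N43076 = N47641 := rfl
theorem L663111 : sm gj N47641 = N47641 := ded_31_2 (flp_c L663109) L364229 L663109
theorem L663112 : sm gi N47641 = N47641 := ded_33_2 (flp_c L663109) L364230 L663109
theorem L663113 : sm gd N47641 = N47641 := ded_27_2 (flp_c L663109) (flp_d L364227) L250499 L364227 L663109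
theorem L663114 : sm gh N43077 = N47642 := rfl
theorem L663116 : sm gc N47642 = N47642 := ded_32_1 (flp_h L663114) L364233 L663114
theorem L663117 : sm gf N47642 = N46420 := ded_47_1 L660313 L660307 L663114
theorem L663119 : sm gg N47642 = N47642 := ded_50_1 (flp_h L663114) L364236 L663114
theorem L663120 : sm gj N47642 = N43078 := ded_52_1 (flp_h L364239) (flp_j L364237) L663114
theorem L663122 : sm gd N47642 = N46414 := ded_38_1 (flp_h L649995) L649099 L575135 (flp_d L364234) L663114
theorem L663124 : sm gi N47642 = N47642 := ded_54_2 (flp_h L663114) (flp_i L364231) L250509 L364231 L663114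
theorem L663125 : sm gc N43081 = N47643 := rfl
theorem L663127 : sm gf N47643 = N47643 := ded_29_2 (flp_c L663125) L364264 L663125
theorem L663128 : sm gg N47643 = N43083 := ded_30_2 (flp_c L364280) (flp_g L364265) L663125
theorem L663130 : sm gj N47643 = N45862 := ded_31_2 (flp_c L387673) (flp_j L364267) L663125
theorem L663132 : sm gh N47643 = N43671 := ded_32_2 (flp_c L369308) (flp_h L364269) L663125
theorem L663134 : sm ge N43081 = N47644 := rfl
theorem L663136 : sm gb N47644 = N43101 := ded_21_1 (flp_e L364447) (flp_b L364262) L663134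
theorem L663138 : sm gg N47644 = N43084 := ded_41_2 (flp_e L364288) (flp_g L364265) L663134
theorem L663140 : sm gj N47644 = N43712 := ded_42_2 L645886 (flp_j L364267) L663134
theorem L663142 : sm gh N47644 = N43672 := ded_43_2 (flp_e L369315) (flp_h L364269) L663134
theorem L663144 : sm gf N43719 = N47644 := ded_22_0 L663136 L647117 (flp_b L369715)
theorem L663146 : sm gi N43081 = N47645 := rfl
theorem L663148 : sm gb N47645 = N43102 := ded_26_1 (flp_i L364456) (flp_b L364262) L663146
theorem L663150 : sm gd N47645 = N43082 := ded_39_1 (flp_i L364271) L364260 L663146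
theorem L663152 : sm gf N47645 = N47645 := ded_48_1 (flp_i L663146) L364264 L663146
theorem L663153 : sm gg N47645 = N43085 := ded_51_1 (flp_i L364297) (flp_g L364265) L663146
theorem L663155 : sm gj N47645 = N45864 := ded_53_1 (flp_i L387688) (flp_j L364267) L663146
theorem L663157 : sm gb N43083 = N47646 := rfl
theorem L663159 : sm gf N47646 = N43091 := ded_22_2 (flp_b L364353) (flp_f L364282) L663157
theorem L663161 : sm gj N47646 = N43086 := ded_24_2 (flp_b L364307) (flp_j L364284) L663157
theorem L663163 : sm gh N47646 = N43674 := ded_25_2 (flp_b L369335) (flp_h L364286) L663157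
theorem L663165 : sm gc N47646 = N43103 := ded_19_2 (flp_b L364466) (flp_c L250676) (flp_b L250542) L364280 L663157
theorem L663167 : sm ge N43083 = N47647 := rfl
theorem L663169 : sm gc N47647 = N43084 := ded_28_1 (flp_e L364288) L364280 L663167
theorem L663171 : sm gj N47647 = N43087 := ded_42_2 (flp_e L364317) (flp_j L364284) L663167
theorem L663173 : sm gh N47647 = N43675 := ded_43_2 (flp_e L369343) (flp_h L364286) L663167
theorem L663175 : sm gf N47647 = N47647 := ded_40_2 (flp_e L663167) L364282 L250587 (flp_f L364282) L663167
theorem L663176 : sm gi N43083 = N47648 := rfl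
theorem L663178 : sm gc N47648 = N43085 := ded_33_1 (flp_i L364297) L364280 L663176
theorem L663180 : sm gf N47648 = N43092 := ded_48_1 (flp_i L364363) (flp_f L364282) L663176
theorem L663182 : sm gj N47648 = N43088 := ded_53_1 (flp_i L364326) (flp_j L364284) L663176
theorem L663184 : sm gi N43084 = N47649 := rfl
theorem L663186 : sm gb N47649 = N43106 := ded_26_1 (flp_i L364493) (flp_b L364290) L663184
theorem L663188 : sm ge N47649 = N43085 := ded_44_1 (flp_i L364297) L364288 L663184
theorem L663190 : sm gf N47649 = N47649 := ded_48_1 (flp_i L663184) L364296 L663184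
theorem L663191 : sm gj N47649 = N43089 := ded_53_1 (flp_i L364334) (flp_j L364292) L663184
theorem L663193 : sm gh N43085 = N47650 := rfl
theorem L663195 : sm ga N47650 = N46271 := ded_17_1 (flp_h L662428) L662419 L663193
theorem L663197 : sm gb N47650 = N43107 := ded_25_1 (flp_h L364501) (flp_b L364299) L663193
theorem L663199 : sm gf N47650 = N43093 := ded_47_1 (flp_h L364371) (flp_f L364303) L663193
theorem L663201 : sm gj N47650 = N43090 := ded_52_1 (flp_h L364343) (flp_j L364305) L663193
theorem L663203 : sm gd N47650 = N46205 := ded_38_1 (flp_h L661640) L661634 L362899 (flp_d L364301) L663193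
theorem L663205 : sm gi N47650 = N43678 := ded_54_2 (flp_h L369368) (flp_i L254012) (flp_h L250548) L364297 L663193
theorem L663207 : sm ga N43086 = N47651 := rfl
theorem L663209 : sm gc N47651 = N43108 := ded_11_2 (flp_a L364510) (flp_c L364315) L663207
theorem L663211 : sm gf N47651 = N43094 := ded_14_2 (flp_a L364381) (flp_f L364309) L663207
theorem L663213 : sm gg N47651 = N45870 := ded_15_2 (flp_a L387745) (flp_g L364311) L663207
theorem L663215 : sm gh N47651 = N43679 := ded_17_2 (flp_a L369376) (flp_h L364313) L663207
theorem L663217 : sm ge N43086 = N47652 := rfl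
theorem L663219 : sm gb N47652 = N43087 := ded_21_1 (flp_e L364317) L364307 L663217
theorem L663221 : sm gc N47652 = N43109 := ded_28_1 (flp_e L364519) (flp_c L364315) L663217
theorem L663223 : sm gg N47652 = N45871 := ded_41_2 (flp_e L387753) (flp_g L364311) L663217
theorem L663225 : sm gh N47652 = N43680 := ded_43_2 (flp_e L369384) (flp_h L364313) L663217
theorem L663227 : sm gf N47652 = N47652 := ded_40_2 (flp_e L663217) L364309 L250605 (flp_f L364309) L663217
theorem L663228 : sm gi N43086 = N47653 := rfl
theorem L663230 : sm gb N47653 = N43088 := ded_26_1 (flp_i L364326) L364307 L663228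
theorem L663232 : sm gc N47653 = N43110 := ded_33_1 (flp_i L364528) (flp_c L364315) L663228
theorem L663234 : sm gf N47653 = N43095 := ded_48_1 (flp_i L364390) (flp_f L364309) L663228
theorem L663236 : sm gg N47653 = N45872 := ded_51_1 (flp_i L387763) (flp_g L364311) L663228
theorem L663238 : sm gd N43087 = N47654 := rfl
theorem L663240 : sm gf N47654 = N47654 := ded_35_2 (flp_d L663238) L364325 L663238
theorem L663241 : sm gg N47654 = N45873 := ded_36_2 (flp_d L387771) (flp_g L364321) L663238
theorem L663243 : sm gi N43087 = N47655 := rfl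
theorem L663245 : sm gc N47655 = N43089 := ded_33_1 (flp_i L364334) (flp_c L364319) L663243
theorem L663247 : sm ge N47655 = N43088 := ded_44_1 (flp_i L364326) L364317 L663243
theorem L663249 : sm gf N47655 = N47655 := ded_48_1 (flp_i L663243) L364325 L663243
theorem L663250 : sm gg N47655 = N45874 := ded_51_1 (flp_i L387775) (flp_g L364321) L663243
theorem L663252 : sm gh N43088 = N47656 := rfl
theorem L663254 : sm ga N47656 = N46274 := ded_17_1 (flp_h L662462) L662454 L663252
theorem L663256 : sm gc N47656 = N43090 := ded_32_1 (flp_h L364343) (flp_c L364328) L663252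
theorem L663258 : sm gf N47656 = N43096 := ded_47_1 (flp_h L364399) (flp_f L364330) L663252
theorem L663260 : sm gg N47656 = N45875 := ded_50_1 (flp_h L387783) (flp_g L364332) L663252
theorem L663262 : sm gi N47656 = N43684 := ded_54_2 (flp_h L369418) (flp_i L254037) (flp_h L250564) L364326 L663252
theorem L663264 : sm gh N43089 = N47657 := rfl
theorem L663266 : sm ga N47657 = N46275 := ded_17_1 (flp_h L662474) L662466 L663264
theorem L663268 : sm gb N47657 = N43114 := ded_25_1 (flp_h L364563) (flp_b L364336) L663264
theorem L663270 : sm ge N47657 = N43090 := ded_43_1 (flp_h L364343) (flp_e L364338) L663264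
theorem L663272 : sm gf N47657 = N47657 := ded_47_1 (flp_h L663264) L364340 L663264
theorem L663273 : sm gg N47657 = N45876 := ded_50_1 (flp_h L387791) (flp_g L364341) L663264
theorem L663275 : sm gi N47657 = N43685 := ded_54_2 (flp_h L369426) (flp_i L254045) (flp_h L250572) L364334 L663264
theorem L663277 : sm ga N43091 = N47658 := rfl
theorem L663279 : sm gc N47658 = N43115 := ded_11_2 (flp_a L364573) (flp_c L364361) L663277
theorem L663281 : sm ge N47658 = N47658 := ded_13_2 (flp_a L663277) L364355 L663277
theorem L663282 : sm gg N47658 = N47658 := ded_15_2 (flp_a L663277) L364356 L663277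
theorem L663283 : sm gj N47658 = N43094 := ded_16_2 (flp_a L364381) (flp_j L364357) L663277
theorem L663285 : sm gh N47658 = N43686 := ded_17_2 (flp_a L369435) (flp_h L364359) L663277
theorem L663287 : sm gb N47658 = N46523 := ded_10_2 L650905 L649299 L363789 L364353 L663277
theorem L663289 : sm gi N43091 = N47659 := rfl
theorem L663291 : sm gb N47659 = N43092 := ded_26_1 (flp_i L364363) L364353 L663289
theorem L663293 : sm gc N47659 = N43116 := ded_33_1 (flp_i L364582) (flp_c L364361) L663289
theorem L663295 : sm ge N47659 = N47659 := ded_44_1 (flp_i L663289) L364355 L663289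
theorem L663296 : sm gg N47659 = N47659 := ded_51_1 (flp_i L663289) L364356 L663289
theorem L663297 : sm gj N47659 = N43095 := ded_53_1 (flp_i L364390) (flp_j L364357) L663289
theorem L663299 : sm gh N43092 = N47660 := rfl
theorem L663301 : sm ga N47660 = N46278 := ded_17_1 (flp_h L662488) L662478 L663299
theorem L663303 : sm gc N47660 = N43093 := ded_32_1 (flp_h L364371) (flp_c L364365) L663299
theorem L663305 : sm ge N47660 = N47660 := ded_43_1 (flp_h L663299) L364367 L663299
theorem L663306 : sm gg N47660 = N47660 := ded_50_1 (flp_h L663299) L364368 L663299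
theorem L663307 : sm gj N47660 = N43096 := ded_52_1 (flp_h L364399) (flp_j L364369) L663299
theorem L663309 : sm gi N47660 = N43688 := ded_54_2 (flp_h L369453) (flp_i L254071) (flp_h L250591) L364363 L663299
theorem L663311 : sm gi N43094 = N47661 := rfl
theorem L663313 : sm ga N47661 = N43095 := ded_18_1 (flp_i L364390) L364381 L663311
theorem L663315 : sm gc N47661 = N43118 := ded_33_1 (flp_i L364601) (flp_c L364383) L663311
theorem L663317 : sm ge N47661 = N47661 := ded_44_1 (flp_i L663311) L364385 L663311
theorem L663318 : sm gg N47661 = N43097 := ded_51_1 (flp_i L364408) (flp_g L364386) L663311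
theorem L663320 : sm gh N43095 = N47662 := rfl
theorem L663322 : sm gb N47662 = N43096 := ded_25_1 (flp_h L364399) (flp_b L364392) L663320
theorem L663324 : sm gc N47662 = N43119 := ded_32_1 (flp_h L364609) (flp_c L364394) L663320
theorem L663326 : sm ge N47662 = N47662 := ded_43_1 (flp_h L663320) L364396 L663320
theorem L663327 : sm gg N47662 = N43098 := ded_50_1 (flp_h L364418) (flp_g L364397) L663320
theorem L663329 : sm gi N47662 = N43690 := ded_54_2 (flp_h L369470) (flp_i L254094) (flp_h L250608) L364390 L663320
theorem L663331 : sm gd N43096 = N47663 := rfl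
theorem L663333 : sm ga N47663 = N45794 := ded_12_1 L387207 (flp_a L562435) L663331
theorem L663335 : sm gg N47663 = N43099 := ded_36_2 (flp_d L364430) (flp_g L364404) L663331
theorem L663337 : sm gi N47663 = N43691 := ded_39_2 (flp_d L369479) (flp_i L364406) L663331
theorem L663339 : sm gc N47663 = N45715 := ded_27_1 L386520 L265566 L562431 (flp_c L364401) L663331
theorem L663341 : sm gh N43097 = N47664 := rfl
theorem L663343 : sm ga N47664 = N43098 := ded_17_1 (flp_h L364418) (flp_a L364410) L663341
theorem L663345 : sm gb N47664 = N46283 := ded_25_1 (flp_h L662525) L662518 L663341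
theorem L663347 : sm gc N47664 = N43121 := ded_32_1 (flp_h L364625) (flp_c L364412) L663341
theorem L663349 : sm ge N47664 = N47664 := ded_43_1 (flp_h L663341) L364414 L663341
theorem L663350 : sm gf N47664 = N45883 := ded_47_1 (flp_h L387862) (flp_f L364415) L663341
theorem L663352 : sm gj N47664 = N47664 := ded_52_1 (flp_h L663341) L364417 L663341
theorem L663353 : sm gi N47664 = N43692 := ded_54_2 (flp_h L369483) (flp_i L254110) (flp_h L250636) L364408 L663341
theorem L663355 : sm gd N43098 = N47665 := rfl
theorem L663357 : sm gb N47665 = N43099 := ded_20_1 (flp_d L364430) (flp_b L364420) L663355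
theorem L663359 : sm gf N47665 = N45884 := ded_35_2 (flp_d L387873) (flp_f L364425) L663355
theorem L663361 : sm gj N47665 = N47665 := ded_37_2 (flp_d L663355) L364427 L663355
theorem L663362 : sm gi N47665 = N43693 := ded_39_2 (flp_d L369493) (flp_i L364428) L663355
theorem L663364 : sm ge N43099 = N47666 := rfl
theorem L663366 : sm ga N47666 = N45802 := ded_13_1 L387266 (flp_a L512641) L663364
theorem L663368 : sm gc N47666 = N44724 := ded_28_1 L534109 (flp_c L512643) L663364
theorem L663370 : sm gj N47666 = N47666 := ded_42_2 (flp_e L663364) L364434 L663364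
theorem L663371 : sm gi N47666 = N43694 := ded_44_2 (flp_e L369500) (flp_i L364435) L663364
theorem L663373 : sm gd N47666 = N47666 := ded_34_1 (flp_e L663364) (flp_d L364430) L250652 L364430 L663364
theorem L663374 : sm gb N43100 = N47667 := rfl
theorem L663376 : sm ge N47667 = N43678 := ded_21_2 L369370 (flp_e L646867) L663374
theorem L663378 : sm gf N47667 = N47667 := ded_22_2 (flp_b L663374) L364440 L663374
theorem L663379 : sm gg N47667 = N43103 := ded_23_2 (flp_b L364466) (flp_g L364441) L663374
theorem L663381 : sm gj N47667 = N43685 := ded_24_2 L369428 (flp_j L646870) L663374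
theorem L663383 : sm gh N47667 = N43677 := ded_25_2 (flp_b L647091) (flp_h L364445) L663374
theorem L663385 : sm ga N47667 = N46270 := ded_56_6 L391039 L268829 (flp_e L268823) (flp_d L184942) L127371 L87964 L60899 (flp_h L60897) L42228 L29348 L20458 L14300 L10010 L7660 L5964 L4215 (flp_e L6081) L6080 (flp_c L8779) (flp_b L12542) (flp_a L17924) (flp_h L24917) (flp_f L35450) L35449 (flp_d L51075) (flp_c L589153) L623029 L94705 L622834 L94731 (flp_e L95542) L95540 (flp_c L96436) (flp_b L543871) L119619 (flp_h L119617) (flp_f L119607) L119606 (flp_d L171564) L171563 L616278 (flp_a L537026) L248879 (flp_f L613898) (flp_e L537183) L248834 (flp_c L249301) (flp_b L362215) L502347 L261189 (flp_f L284078) (flp_e L650939) (flp_d L657680) L657678 L359075 L247134 (flp_h L644078) L644074 L248542 L250658 L364437 L663374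
theorem L663387 : sm gi N43100 = N47668 := rfl
theorem L663389 : sm ga N47668 = N47668 := ded_18_1 (flp_i L663387) L364439 L663387
theorem L663390 : sm gc N47668 = N43102 := ded_33_1 (flp_i L364456) L364437 L663387
theorem L663392 : sm ge N47668 = N43107 := ded_44_1 L364508 (flp_e L646867) L663387
theorem L663394 : sm gf N47668 = N47668 := ded_48_1 (flp_i L663387) L364440 L663387
theorem L663395 : sm gg N47668 = N43105 := ded_51_1 (flp_i L364484) (flp_g L364441) L663387
theorem L663397 : sm gj N47668 = N43114 := ded_53_1 L364571 (flp_j L646870) L663387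
theorem L663399 : sm gh N47668 = N43106 := ded_54_1 (flp_i L364493) L250690 L647126 (flp_h L364445) L663387
theorem L663401 : sm gi N43101 = N47669 := rfl
theorem L663403 : sm ga N47669 = N47669 := ded_18_1 (flp_i L663401) L364449 L663401
theorem L663404 : sm gc N47669 = N43107 := ded_33_1 L364508 (flp_c L647115) L663401
theorem L663406 : sm ge N47669 = N43102 := ded_44_1 (flp_i L364456) L364447 L663401
theorem L663408 : sm gf N47669 = N43117 := ded_48_1 L364599 (flp_f L647117) L663401
theorem L663410 : sm gg N47669 = N43106 := ded_51_1 (flp_i L364493) (flp_g L364450) L663401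
theorem L663412 : sm gj N47669 = N43113 := ded_53_1 L364561 (flp_j L647119) L663401
theorem L663414 : sm gh N47669 = N43105 := ded_54_1 (flp_i L364484) L250683 L628488 (flp_h L364454) L663401
theorem L663416 : sm gh N43102 = N47670 := rfl
theorem L663418 : sm ga N47670 = N47670 := ded_17_1 (flp_h L663416) L364458 L663416
theorem L663419 : sm gc N47670 = N43106 := ded_32_1 (flp_h L663399) L663390 L663416
theorem L663421 : sm ge N47670 = N43105 := ded_43_1 (flp_h L663414) L663406 L663416
theorem L663423 : sm gf N47670 = N47670 := ded_47_1 (flp_h L663416) L364461 L663416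
theorem L663424 : sm gg N47670 = N43107 := ded_50_1 (flp_h L364501) (flp_g L364462) L663416
theorem L663426 : sm gj N47670 = N43112 := ded_52_1 L646505 (flp_j L364464) L663416
theorem L663428 : sm gd N47670 = N45638 := ded_38_1 (flp_h L661745) L661736 L363012 (flp_d L364459) L663416
theorem L663430 : sm gi N47670 = N43104 := ded_54_2 (flp_h L647111) (flp_i L254152) (flp_h L250666) L364456 L663416
theorem L663432 : sm ga N43103 = N47671 := rfl
theorem L663434 : sm gf N47671 = N43115 := ded_14_2 (flp_a L364573) (flp_f L364468) L663432
theorem L663436 : sm gg N47671 = N46270 := ded_15_2 (flp_a L663385) L663379 L663432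
theorem L663438 : sm gj N47671 = N43108 := ded_16_2 (flp_a L364510) (flp_j L364470) L663432
theorem L663440 : sm gh N47671 = N43701 := ded_17_2 (flp_a L369558) (flp_h L364472) L663432
theorem L663442 : sm gb N47671 = N47671 := ded_10_2 (flp_a L663432) (flp_b L364466) L250678 L364466 L663432
theorem L663443 : sm ge N46267 = N47671 := ded_41_3 L663436 (flp_e L391034) (flp_g L391016)
theorem L663445 : sm ge N43103 = N47672 := rfl
theorem L663447 : sm ga N47672 = N46267 := ded_13_1 L663443 (flp_a L663432) L663445
theorem L663449 : sm gb N47672 = N43104 := ded_21_1 (flp_e L364474) L364466 L663445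
theorem L663451 : sm gg N47672 = N43678 := ded_41_2 (flp_e L663376) L663379 L663445
theorem L663453 : sm gj N47672 = N43109 := ded_42_2 (flp_e L364519) (flp_j L364470) L663445
theorem L663455 : sm gh N47672 = N43673 := ded_43_2 L629230 (flp_h L364472) L663445
theorem L663457 : sm gd N47672 = N45635 := ded_34_1 (flp_e L385868) (flp_d L378790) (flp_e L656131) L656129 L663445
theorem L663459 : sm gf N47672 = N47672 := ded_40_2 (flp_e L663445) L364468 L250748 (flp_f L364468) L663445
theorem L663460 : sm gi N43103 = N47673 := rfl
theorem L663462 : sm gb N47673 = N43105 := ded_26_1 (flp_i L364484) L364466 L663460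
theorem L663464 : sm gf N47673 = N43116 := ded_48_1 (flp_i L364582) (flp_f L364468) L663460
theorem L663466 : sm gj N47673 = N43110 := ded_53_1 (flp_i L364528) (flp_j L364470) L663460
theorem L663468 : sm ge N43108 = N47674 := rfl
theorem L663470 : sm ga N47674 = N43109 := ded_13_1 (flp_e L364519) L364510 L663468
theorem L663472 : sm gb N47674 = N47674 := ded_21_1 (flp_e L663468) L364518 L663468
theorem L663473 : sm gg N47674 = N43612 := ded_41_2 L646540 (flp_g L364514) L663468
theorem L663475 : sm gj N47674 = N46267 := ded_42_2 L663443 L663438 L663468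
theorem L663477 : sm gh N47674 = N43633 := ded_43_2 L646488 (flp_h L364516) L663468
theorem L663479 : sm gf N47674 = N47674 := ded_40_2 (flp_e L663468) L364512 L250774 (flp_f L364512) L663468
theorem L663480 : sm gd N43611 = N47674 := ded_36_3 L663473 (flp_d L368841) (flp_g L368837)
theorem L663482 : sm gi N43108 = N47675 := rfl
theorem L663484 : sm ga N47675 = N43110 := ded_18_1 (flp_i L364528) L364510 L663482
theorem L663486 : sm gb N47675 = N47675 := ded_26_1 (flp_i L663482) L364518 L663482
theorem L663487 : sm gf N47675 = N43118 := ded_48_1 (flp_i L364601) (flp_f L364512) L663482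
theorem L663489 : sm gg N47675 = N45900 := ded_51_1 (flp_i L388010) (flp_g L364514) L663482
theorem L663491 : sm gd N43109 = N47676 := rfl
theorem L663493 : sm ga N47676 = N43611 := ded_12_1 L663480 L663470 L663491
theorem L663495 : sm gb N47676 = N43111 := ded_20_1 (flp_d L364536) (flp_b L364521) L663491
theorem L663497 : sm gf N47676 = N47676 := ded_35_2 (flp_d L663491) L364527 L663491
theorem L663498 : sm gg N47676 = N43548 := ded_36_2 L646518 (flp_g L364523) L663491
theorem L663500 : sm gj N47676 = N45635 := ded_37_2 (flp_d L663457) L663453 L663491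
theorem L663502 : sm ge N47676 = N45629 := ded_34_2 L656182 (flp_e L656171) L357603 L364519 L663491
theorem L663504 : sm gh N47676 = N43547 := ded_38_2 L368271 L562966 L646841 (flp_h L364525) L663491
theorem L663506 : sm gi N43109 = N47677 := rfl
theorem L663508 : sm gb N47677 = N43112 := ded_26_1 (flp_i L364542) (flp_b L364521) L663506
theorem L663510 : sm ge N47677 = N43110 := ded_44_1 (flp_i L364528) L364519 L663506
theorem L663512 : sm gf N47677 = N47677 := ded_48_1 (flp_i L663506) L364527 L663506
theorem L663513 : sm gg N47677 = N45869 := ded_51_1 L629202 (flp_g L364523) L663506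
theorem L663515 : sm gh N47677 = N45864 := ded_54_1 (flp_i L387688) L266358 L646852 (flp_h L364525) L663506
theorem L663517 : sm gh N43110 = N47678 := rfl
theorem L663519 : sm gb N47678 = N43113 := ded_25_1 (flp_h L364552) (flp_b L364530) L663517
theorem L663521 : sm ge N47678 = N45864 := ded_43_1 (flp_h L663515) L663510 L663517
theorem L663523 : sm gf N47678 = N43119 := ded_47_1 (flp_h L364609) (flp_f L364532) L663517
theorem L663525 : sm gg N47678 = N45868 := ded_50_1 L646973 (flp_g L364534) L663517
theorem L663527 : sm gi N47678 = N43712 := ded_54_2 (flp_h L369652) (flp_i L254218) (flp_h L250708) L364528 L663517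
theorem L663529 : sm gi N43111 = N47679 := rfl
theorem L663531 : sm ga N47679 = N47679 := ded_18_1 (flp_i L663529) L364538 L663529
theorem L663532 : sm gc N47679 = N45632 := ded_33_1 (flp_i L385842) (flp_c L645627) L663529
theorem L663534 : sm gd N47679 = N43112 := ded_39_1 (flp_i L364542) L364536 L663529
theorem L663536 : sm ge N47679 = N45631 := ded_44_1 (flp_i L385833) (flp_e L645630) L663529
theorem L663538 : sm gf N47679 = N47679 := ded_48_1 (flp_i L663529) L364539 L663529
theorem L663539 : sm gg N47679 = N45633 := ded_51_1 L645514 (flp_g L364540) L663529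
theorem L663541 : sm gj N47679 = N45638 := ded_53_1 (flp_i L385885) (flp_j L645633) L663529
theorem L663543 : sm gh N47679 = N45628 := ded_54_1 (flp_i L385807) L265116 L267913 (flp_h L645635) L663529
theorem L663545 : sm gd N43113 = N47680 := rfl
theorem L663547 : sm ga N47680 = N47680 := ded_12_1 (flp_d L663545) L364554 L663545
theorem L663548 : sm gf N47680 = N43120 := ded_35_2 (flp_d L364618) (flp_f L364557) L663545
theorem L663550 : sm gg N47680 = N45452 := ded_36_2 L384391 (flp_g L646956) L663545
theorem L663552 : sm gi N47680 = N43716 := ded_39_2 (flp_d L369688) (flp_i L364561) L663545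
theorem L663554 : sm ge N47680 = N45448 := ded_34_2 L384358 L264135 (flp_d L266537) (flp_e L646954) L663545
theorem L663556 : sm gd N43114 = N47681 := rfl
theorem L663558 : sm ga N47681 = N47681 := ded_12_1 (flp_d L663556) L364565 L663556
theorem L663559 : sm gf N47681 = N47681 := ded_35_2 (flp_d L663556) L364568 L663556
theorem L663560 : sm gg N47681 = N44946 := ded_36_2 L380257 (flp_g L646920) L663556
theorem L663562 : sm gi N47681 = N43717 := ded_39_2 (flp_d L369696) (flp_i L364571) L663556
theorem L663564 : sm gc N47681 = N44943 := ded_27_1 L380229 L261331 (flp_d L266537) (flp_c L646917) L663556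
theorem L663566 : sm gi N43115 = N47682 := rfl
theorem L663568 : sm ga N47682 = N43116 := ded_18_1 (flp_i L364582) L364573 L663566
theorem L663570 : sm gb N47682 = N47682 := ded_26_1 (flp_i L663566) L364581 L663566
theorem L663571 : sm ge N47682 = N47682 := ded_44_1 (flp_i L663566) L364575 L663566
theorem L663572 : sm gg N47682 = N47682 := ded_51_1 (flp_i L663566) L364576 L663566
theorem L663573 : sm gj N47682 = N43118 := ded_53_1 (flp_i L364601) (flp_j L364577) L663566
theorem L663575 : sm gh N43116 = N47683 := rfl
theorem L663577 : sm gb N47683 = N43117 := ded_25_1 (flp_h L364590) (flp_b L364584) L663575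
theorem L663579 : sm ge N47683 = N47683 := ded_43_1 (flp_h L663575) L364586 L663575
theorem L663580 : sm gg N47683 = N47683 := ded_50_1 (flp_h L663575) L364587 L663575
theorem L663581 : sm gj N47683 = N43119 := ded_52_1 (flp_h L364609) (flp_j L364588) L663575
theorem L663583 : sm gi N47683 = N43719 := ded_54_2 (flp_h L369713) (flp_i L254270) (flp_h L250752) L364582 L663575
theorem L663585 : sm gd N43117 = N47684 := rfl
theorem L663587 : sm ga N47684 = N47684 := ded_12_1 (flp_d L663585) L364592 L663585
theorem L663588 : sm gg N47684 = N47684 := ded_36_2 (flp_d L663585) L364596 L663585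
theorem L663589 : sm gj N47684 = N43120 := ded_37_2 (flp_d L364618) (flp_j L364597) L663585
theorem L663591 : sm gi N47684 = N43720 := ded_39_2 (flp_d L369721) (flp_i L364599) L663585
theorem L663593 : sm gh N43118 = N47685 := rfl
theorem L663595 : sm ga N47685 = N43119 := ded_17_1 (flp_h L364609) (flp_a L364603) L663593
theorem L663597 : sm gb N47685 = N47685 := ded_25_1 (flp_h L663593) L364605 L663593
theorem L663598 : sm ge N47685 = N47685 := ded_43_1 (flp_h L663593) L364606 L663593
theorem L663599 : sm gg N47685 = N43121 := ded_50_1 (flp_h L364625) (flp_g L364607) L663593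
theorem L663601 : sm gi N47685 = N43721 := ded_54_2 (flp_h L369728) (flp_i L254288) (flp_h L250777) L364601 L663593
theorem L663603 : sm gd N43119 = N47686 := rfl
theorem L663605 : sm gb N47686 = N43120 := ded_20_1 (flp_d L364618) (flp_b L364611) L663603
theorem L663607 : sm gg N47686 = N43122 := ded_36_2 (flp_d L364636) (flp_g L364614) L663603
theorem L663609 : sm gi N47686 = N43722 := ded_39_2 (flp_d L369736) (flp_i L364616) L663603
theorem L663611 : sm ge N43120 = N47687 := rfl
theorem L663613 : sm ga N47687 = N47687 := ded_13_1 (flp_e L663611) L364620 L663611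
theorem L663614 : sm gg N47687 = N43123 := ded_41_2 (flp_e L364645) (flp_g L364621) L663611
theorem L663616 : sm gi N47687 = N43723 := ded_44_2 (flp_e L369743) (flp_i L364623) L663611
theorem L663618 : sm gd N47687 = N47687 := ded_34_1 (flp_e L663611) (flp_d L364618) L250792 L364618 L663611
theorem L663619 : sm gg N43408 = N47688 := rfl
theorem L663621 : sm ga N47688 = N46107 := ded_15_1 L389723 (flp_a L562224) L663619
theorem L663623 : sm gb N47688 = N47688 := ded_23_1 (flp_g L663619) L367123 L663619
theorem L663624 : sm gd N47688 = N47688 := ded_36_1 (flp_g L663619) L367124 L663619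
theorem L663625 : sm ge N47688 = N43410 := ded_41_1 (flp_g L367138) (flp_e L367125) L663619
theorem L663627 : sm gi N47688 = N43607 := ded_51_2 (flp_g L368802) (flp_i L367128) L663619
theorem L663629 : sm gj N47688 = N46034 := ded_49_2 (flp_g L389173) (flp_j L267394) (flp_g L252498) L367121 L663619
theorem L663631 : sm gf N46153 = N47688 := ded_14_0 L663621 L615867 (flp_a L390067)
theorem L663633 : sm gh N43408 = N47689 := rfl
theorem L663635 : sm ga N47689 = N45610 := ded_17_1 L385659 (flp_a L562224) L663633
theorem L663637 : sm gb N47689 = N47689 := ded_25_1 (flp_h L663633) L367123 L663633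
theorem L663638 : sm ge N47689 = N43411 := ded_43_1 (flp_h L367148) (flp_e L367125) L663633
theorem L663640 : sm gf N47689 = N47689 := ded_47_1 (flp_h L663633) L367127 L663633
theorem L663641 : sm gj N47689 = N43409 := ded_52_1 (flp_h L367130) L367121 L663633
theorem L663643 : sm gd N43409 = N47690 := rfl
theorem L663645 : sm ga N47690 = N45261 := ded_12_1 L382922 (flp_a L513217) L663643
theorem L663647 : sm gb N47690 = N47690 := ded_20_1 (flp_d L663643) L367132 L663643
theorem L663648 : sm gf N47690 = N47690 := ded_35_2 (flp_d L663643) L367135 L663643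
theorem L663649 : sm gg N47690 = N46036 := ded_36_2 (flp_d L389190) (flp_g L367136) L663643
theorem L663651 : sm ge N47690 = N45212 := ded_34_2 (flp_d L382561) L262916 (flp_d L562068) (flp_e L367133) L663643
theorem L663653 : sm gh N47690 = N47690 := ded_38_2 (flp_d L663643) (flp_h L367130) L252502 L367130 L663643
theorem L663654 : sm gi N43409 = N47691 := rfl
theorem L663656 : sm ga N47691 = N45615 := ded_18_1 (flp_i L385693) (flp_a L513217) L663654
theorem L663658 : sm gb N47691 = N47691 := ded_26_1 (flp_i L663654) L367132 L663654
theorem L663659 : sm ge N47691 = N43413 := ded_44_1 (flp_i L367164) (flp_e L367133) L663654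
theorem L663661 : sm gf N47691 = N47691 := ded_48_1 (flp_i L663654) L367135 L663654
theorem L663662 : sm gg N47691 = N46037 := ded_51_1 (flp_i L389196) (flp_g L367136) L663654
theorem L663664 : sm gh N47691 = N43610 := ded_54_1 (flp_i L368825) (flp_h L253651) (flp_i L252500) L367130 L663654
theorem L663666 : sm gh N43410 = N47692 := rfl
theorem L663668 : sm ga N47692 = N45607 := ded_17_1 L385634 (flp_a L490107) L663666
theorem L663670 : sm gb N47692 = N47692 := ded_25_1 (flp_h L663666) L367140 L663666
theorem L663671 : sm gf N47692 = N47692 := ded_47_1 (flp_h L663666) L367145 L663666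
theorem L663672 : sm gg N47692 = N43411 := ded_50_1 (flp_h L367148) L367138 L663666
theorem L663674 : sm gj N47692 = N46038 := ded_52_1 (flp_h L389205) (flp_j L367146) L663666
theorem L663676 : sm gd N47692 = N45538 := ded_38_1 (flp_h L385109) L264643 L562259 (flp_d L367141) L663666
theorem L663678 : sm gi N43411 = N47693 := rfl
theorem L663680 : sm ga N47693 = N45611 := ded_18_1 (flp_i L385662) (flp_a L562211) L663678
theorem L663682 : sm gb N47693 = N47693 := ded_26_1 (flp_i L663678) L367150 L663678
theorem L663683 : sm gd N47693 = N45540 := ded_39_1 (flp_i L385128) (flp_d L562214) L663678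
theorem L663685 : sm gf N47693 = N43415 := ded_48_1 (flp_i L367181) (flp_f L367151) L663678
theorem L663687 : sm gj N47693 = N43413 := ded_53_1 (flp_i L367164) (flp_j L367153) L663678
theorem L663689 : sm gh N47693 = N43613 := ded_54_1 (flp_i L368850) (flp_h L253667) (flp_i L252511) L367148 L663678
theorem L663691 : sm gh N43545 = N47694 := rfl
theorem L663693 : sm ga N47694 = N43608 := ded_17_1 (flp_h L368810) (flp_a L368252) L663691
theorem L663695 : sm gb N47694 = N44952 := ded_25_1 L645645 (flp_b L615629) L663691
theorem L663697 : sm ge N47694 = N43548 := ded_43_1 (flp_h L368276) (flp_e L368255) L663691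
theorem L663699 : sm gf N47694 = N47694 := ded_47_1 (flp_h L663691) L368257 L663691
theorem L663700 : sm gg N47694 = N45629 := ded_50_1 L385821 (flp_g L615633) L663691
theorem L663702 : sm gj N47694 = N43546 := ded_52_1 (flp_h L368258) L368250 L663691
theorem L663704 : sm gd N44950 = N47694 := ded_20_0 L663695 (flp_d L380301) (flp_b L380289)
theorem L663706 : sm gd N43546 = N47695 := rfl
theorem L663708 : sm ga N47695 = N43609 := ded_12_1 (flp_d L368818) (flp_a L368260) L663706
theorem L663710 : sm gb N47695 = N44945 := ded_20_1 L646902 (flp_b L513275) L663706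
theorem L663712 : sm gf N47695 = N47695 := ded_35_2 (flp_d L663706) L368264 L663706
theorem L663713 : sm gg N47695 = N46201 := ded_36_2 (flp_d L390463) (flp_g L368265) L663706
theorem L663715 : sm gj N47695 = N44950 := ded_37_2 L663704 L663702 L663706
theorem L663717 : sm ge N47695 = N44944 := ded_34_2 L380236 L646908 (flp_d L562182) (flp_e L368262) L663706
theorem L663719 : sm gh N47695 = N47695 := ded_38_2 (flp_d L663706) (flp_h L368258) L253266 L368258 L663706
theorem L663720 : sm gi N43546 = N47696 := rfl
theorem L663722 : sm ga N47696 = N43610 := ded_18_1 (flp_i L368825) (flp_a L368260) L663720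
theorem L663724 : sm gb N47696 = N45640 := ded_26_1 L385908 (flp_b L513275) L663720
theorem L663726 : sm ge N47696 = N43550 := ded_44_1 (flp_i L368294) (flp_e L368262) L663720
theorem L663728 : sm gf N47696 = N47696 := ded_48_1 (flp_i L663720) L368264 L663720
theorem L663729 : sm gg N47696 = N46202 := ded_51_1 (flp_i L390470) (flp_g L368265) L663720
theorem L663731 : sm gh N47696 = N45615 := ded_54_1 (flp_i L385693) L265030 L542830 L368258 L663720
theorem L663733 : sm gi N43548 = N47697 := rfl
theorem L663735 : sm ga N47697 = N43613 := ded_18_1 (flp_i L368850) (flp_a L368278) L663733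
theorem L663737 : sm gb N47697 = N45633 := ded_26_1 L645514 (flp_b L646516) L663733
theorem L663739 : sm gd N47697 = N45869 := ded_39_1 L629202 (flp_d L646518) L663733
theorem L663741 : sm gf N47697 = N43552 := ded_48_1 (flp_i L368311) (flp_f L368280) L663733
theorem L663743 : sm gj N47697 = N43550 := ded_53_1 (flp_i L368294) (flp_j L368282) L663733
theorem L663745 : sm gh N47697 = N45611 := ded_54_1 (flp_i L385662) L265008 L563022 L368276 L663733
theorem L663747 : sm gc N43588 = N47698 := rfl
theorem L663749 : sm ga N47698 = N43671 := ded_11_1 (flp_c L369308) (flp_a L368631) L663747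
theorem L663751 : sm gf N47698 = N47698 := ded_29_2 (flp_c L663747) L368634 L663747
theorem L663752 : sm gg N47698 = N43590 := ded_30_2 (flp_c L368650) (flp_g L368635) L663747
theorem L663754 : sm gj N47698 = N46236 := ded_31_2 (flp_c L390755) (flp_j L368637) L663747
theorem L663756 : sm gi N47698 = N46286 := ded_33_2 (flp_c L391156) (flp_i L562308) L663747
theorem L663758 : sm gd N47698 = N43680 := ded_27_2 L369388 (flp_d L646841) L562929 L368629 L663747
theorem L663760 : sm gb N43682 = N47698 := ded_23_3 L663752 L646477 (flp_g L369406)
theorem L663762 : sm ge N43588 = N47699 := rfl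
theorem L663764 : sm ga N47699 = N43672 := ded_13_1 (flp_e L369315) (flp_a L368631) L663762
theorem L663766 : sm gb N47699 = N47699 := ded_21_1 (flp_e L663762) L368633 L663762
theorem L663767 : sm gg N47699 = N43591 := ded_41_2 (flp_e L368658) (flp_g L368635) L663762
theorem L663769 : sm gj N47699 = N43709 := ded_42_2 L645867 (flp_j L368637) L663762
theorem L663771 : sm gi N47699 = N43701 := ded_44_2 L648698 (flp_i L562308) L663762
theorem L663773 : sm gd N47699 = N47699 := ded_34_1 (flp_e L663762) (flp_d L368629) L253521 L368629 L663762
theorem L663774 : sm gf N43718 = N47699 := ded_14_0 L663764 L647136 (flp_a L369705)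
theorem L663776 : sm ge N43590 = N47700 := rfl
theorem L663778 : sm ga N47700 = N43675 := ded_13_1 (flp_e L369343) (flp_a L368652) L663776
theorem L663780 : sm gb N47700 = N46297 := ded_21_1 L391245 (flp_b L646477) L663776
theorem L663782 : sm gc N47700 = N43591 := ded_28_1 (flp_e L368658) L368650 L663776
theorem L663784 : sm gj N47700 = N43594 := ded_42_2 (flp_e L368685) (flp_j L368656) L663776
theorem L663786 : sm gi N47700 = N46290 := ded_44_2 (flp_e L391186) (flp_i L546411) L663776
theorem L663788 : sm gd N47700 = N46295 := ded_34_1 (flp_e L391226) L268841 L646473 (flp_d L546408) L663776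
theorem L663790 : sm gf N47700 = N47700 := ded_40_2 (flp_e L663776) L368654 L253578 (flp_f L368654) L663776
theorem L663791 : sm ga N43593 = N47701 := rfl
theorem L663793 : sm gc N47701 = N47701 := ded_11_2 (flp_a L663791) L368684 L663791
theorem L663794 : sm gd N47701 = N46240 := ded_12_2 L390789 (flp_d L646438) L663791
theorem L663796 : sm gf N47701 = N43601 := ded_14_2 (flp_a L368750) (flp_f L368680) L663791
theorem L663798 : sm gg N47701 = N46244 := ded_15_2 (flp_a L390828) (flp_g L368682) L663791
theorem L663800 : sm gj N47701 = N46247 := ded_16_2 L390851 (flp_j L646440) L663791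
theorem L663802 : sm gi N47701 = N46294 := ded_18_2 (flp_a L391219) (flp_i L546451) L663791
theorem L663804 : sm gb N47701 = N43679 := ded_10_2 (flp_a L369376) (flp_b L254022) (flp_a L253548) L368678 L663791
theorem L663806 : sm ge N43593 = N47702 := rfl
theorem L663808 : sm gb N47702 = N43594 := ded_21_1 (flp_e L368685) L368678 L663806
theorem L663810 : sm gc N47702 = N47702 := ded_28_1 (flp_e L663806) L368684 L663806
theorem L663811 : sm gg N47702 = N46245 := ded_41_2 (flp_e L390835) (flp_g L368682) L663806
theorem L663813 : sm gj N47702 = N46297 := ded_42_2 L391245 (flp_j L646440) L663806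
theorem L663815 : sm gi N47702 = N46295 := ded_44_2 (flp_e L391226) (flp_i L546451) L663806
theorem L663817 : sm gd N47702 = N46290 := ded_34_1 (flp_e L391186) L268821 L268972 (flp_d L646438) L663806
theorem L663819 : sm gf N47702 = N47702 := ded_40_2 (flp_e L663806) L368680 L253595 (flp_f L368680) L663806
theorem L663820 : sm gd N43594 = N47703 := rfl
theorem L663822 : sm ga N47703 = N43682 := ded_12_1 (flp_d L369403) (flp_a L368687) L663820
theorem L663824 : sm gb N47703 = N46290 := ded_20_1 (flp_d L663817) L663808 L663820
theorem L663826 : sm gf N47703 = N47703 := ded_35_2 (flp_d L663820) L368693 L663820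
theorem L663827 : sm gg N47703 = N46247 := ded_36_2 (flp_d L390849) (flp_g L368691) L663820
theorem L663829 : sm gj N47703 = N46295 := ded_37_2 (flp_d L663788) L663784 L663820
theorem L663831 : sm gi N47703 = N46297 := ded_39_2 (flp_d L391241) (flp_i L546392) L663820
theorem L663833 : sm gc N47703 = N47703 := ded_27_1 (flp_d L663820) L368689 L253561 (flp_c L368689) L663820
theorem L663834 : sm ge N47703 = N46289 := ded_34_2 L391179 (flp_e L646566) (flp_d L546443) L368685 L663820
theorem L663836 : sm gh N43607 = N47704 := rfl
theorem L663838 : sm ga N47704 = N45629 := ded_17_1 L385821 (flp_a L615791) L663836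
theorem L663840 : sm gb N47704 = N47704 := ded_25_1 (flp_h L663836) L368804 L663836
theorem L663841 : sm ge N47704 = N43611 := ded_43_1 (flp_h L368833) (flp_e L368806) L663836
theorem L663843 : sm gf N47704 = N45641 := ded_47_1 L385916 (flp_f L615795) L663836
theorem L663845 : sm gg N47704 = N43608 := ded_50_1 (flp_h L368810) L368802 L663836
theorem L663847 : sm gj N47704 = N45634 := ded_52_1 L385865 (flp_j L615797) L663836
theorem L663849 : sm gd N43608 = N47705 := rfl
theorem L663851 : sm ga N47705 = N44950 := ded_12_1 L663704 L663693 L663849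
theorem L663853 : sm gb N47705 = N47705 := ded_20_1 (flp_d L663849) L368812 L663849
theorem L663854 : sm gf N47705 = N47705 := ded_35_2 (flp_d L663849) L368815 L663849
theorem L663855 : sm gj N47705 = N43609 := ded_37_2 (flp_d L368818) (flp_j L368816) L663849
theorem L663857 : sm ge N47705 = N44949 := ded_34_2 L380281 (flp_e L646540) (flp_d L368841) (flp_e L368813) L663849
theorem L663859 : sm gh N47705 = N47705 := ded_38_2 (flp_d L663849) (flp_h L368810) L253647 L368810 L663849
theorem L663860 : sm gi N43608 = N47706 := rfl
theorem L663862 : sm gb N47706 = N47706 := ded_26_1 (flp_i L663860) L368812 L663860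
theorem L663863 : sm ge N47706 = N43613 := ded_44_1 (flp_i L368850) (flp_e L368813) L663860
theorem L663865 : sm gf N47706 = N47706 := ded_48_1 (flp_i L663860) L368815 L663860
theorem L663866 : sm gj N47706 = N43610 := ded_53_1 (flp_i L368825) (flp_j L368816) L663860
theorem L663868 : sm gc N43609 = N47707 := rfl
theorem L663870 : sm gf N47707 = N47707 := ded_29_2 (flp_c L663868) L368821 L663868
theorem L663871 : sm gg N47707 = N46264 := ded_30_2 (flp_c L390993) (flp_g L368822) L663868
theorem L663873 : sm gh N47707 = N47707 := ded_32_2 (flp_c L663868) L368824 L663868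
theorem L663874 : sm ge N43609 = N47708 := rfl
theorem L663876 : sm ga N47708 = N44944 := ded_13_1 (flp_e L663717) L663708 L663874
theorem L663878 : sm gb N47708 = N47708 := ded_21_1 (flp_e L663874) L368820 L663874
theorem L663879 : sm gg N47708 = N46265 := ded_41_2 (flp_e L390998) (flp_g L368822) L663874
theorem L663881 : sm gj N47708 = N44949 := ded_42_2 (flp_e L663857) L663855 L663874
theorem L663883 : sm gh N47708 = N47708 := ded_43_2 (flp_e L663874) L368824 L663874
theorem L663884 : sm gd N47708 = N43615 := ded_34_1 (flp_e L368865) (flp_d L253674) (flp_e L253654) L368818 L663874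
theorem L663886 : sm gf N44956 = N47708 := ded_14_0 L663876 L380238 L380330
theorem L663888 : sm gi N43609 = N47709 := rfl
theorem L663890 : sm gb N47709 = N47709 := ded_26_1 (flp_i L663888) L368820 L663888
theorem L663891 : sm gd N47709 = N43610 := ded_39_1 (flp_i L368825) L368818 L663888
theorem L663893 : sm gf N47709 = N47709 := ded_48_1 (flp_i L663888) L368821 L663888
theorem L663894 : sm gg N47709 = N46266 := ded_51_1 (flp_i L391005) (flp_g L368822) L663888
theorem L663896 : sm gi N43611 = N47710 := rfl
theorem L663898 : sm gb N47710 = N47710 := ded_26_1 (flp_i L663896) L368835 L663896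
theorem L663899 : sm gf N47710 = N47710 := ded_48_1 (flp_i L663896) L368836 L663896
theorem L663900 : sm gg N47710 = N43613 := ded_51_1 (flp_i L368850) (flp_g L368837) L663896
theorem L663902 : sm gj N47710 = N46268 := ded_53_1 (flp_i L391020) (flp_j L368839) L663896
theorem L663904 : sm gc N43612 = N47711 := rfl
theorem L663906 : sm ga N47711 = N45871 := ded_11_1 L387757 (flp_a L646537) L663904
theorem L663908 : sm ge N47711 = N45870 := ded_28_2 L387747 (flp_e L646540) L663904
theorem L663910 : sm gf N47711 = N43617 := ded_29_2 (flp_c L368881) (flp_f L368844) L663904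
theorem L663912 : sm gj N47711 = N43614 := ded_31_2 (flp_c L368857) (flp_j L368846) L663904
theorem L663914 : sm gh N47711 = N43635 := ded_32_2 (flp_c L369024) (flp_h L368848) L663904
theorem L663916 : sm gi N43612 = N47712 := rfl
theorem L663918 : sm ga N47712 = N45869 := ded_18_1 L629202 (flp_a L646537) L663916
theorem L663920 : sm gb N47712 = N47712 := ded_26_1 (flp_i L663916) L368843 L663916
theorem L663921 : sm gd N47712 = N43613 := ded_39_1 (flp_i L368850) L368841 L663916
theorem L663923 : sm ge N47712 = N45900 := ded_44_1 (flp_i L388010) (flp_e L646540) L663916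
theorem L663925 : sm gf N47712 = N43619 := ded_48_1 (flp_i L368897) (flp_f L368844) L663916
theorem L663927 : sm gj N47712 = N43616 := ded_53_1 (flp_i L368872) (flp_j L368846) L663916
theorem L663929 : sm gh N47712 = N45764 := ded_54_1 (flp_i L386946) L265848 L509036 (flp_h L368848) L663916
theorem L663931 : sm gb N43614 = N47713 := rfl
theorem L663933 : sm gf N47713 = N43620 := ded_22_2 (flp_b L368905) (flp_f L368859) L663931
theorem L663935 : sm gg N47713 = N46272 := ded_23_2 (flp_b L391051) (flp_g L368861) L663931
theorem L663937 : sm gh N47713 = N43638 := ded_25_2 (flp_b L369047) (flp_h L368863) L663931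
theorem L663939 : sm gc N47713 = N47713 := ded_19_2 (flp_b L663931) (flp_c L368857) L253676 L368857 L663931
theorem L663940 : sm ge N43614 = N47714 := rfl
theorem L663942 : sm ga N47714 = N45865 := ded_13_1 L629382 (flp_a L512924) L663940
theorem L663944 : sm gc N47714 = N43615 := ded_28_1 (flp_e L368865) L368857 L663940
theorem L663946 : sm gg N47714 = N46273 := ded_41_2 (flp_e L391058) (flp_g L368861) L663940
theorem L663948 : sm gj N47714 = N45870 := ded_42_2 (flp_e L663908) L663912 L663940
theorem L663950 : sm gh N47714 = N43639 := ded_43_2 (flp_e L369056) (flp_h L368863) L663940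
theorem L663952 : sm gf N47714 = N45877 := ded_40_2 L387805 L646245 L546089 (flp_f L368859) L663940
theorem L663954 : sm gi N43614 = N47715 := rfl
theorem L663956 : sm ga N47715 = N45875 := ded_18_1 L387789 (flp_a L512924) L663954
theorem L663958 : sm gc N47715 = N43616 := ded_33_1 (flp_i L368872) L368857 L663954
theorem L663960 : sm gf N47715 = N43622 := ded_48_1 (flp_i L368920) (flp_f L368859) L663954
theorem L663962 : sm gg N47715 = N46274 := ded_51_1 (flp_i L391065) (flp_g L368861) L663954
theorem L663964 : sm gh N47715 = N45767 := ded_54_1 (flp_i L386974) L265865 (flp_i L546238) (flp_h L368863) L663954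
theorem L663966 : sm gi N43615 = N47716 := rfl
theorem L663968 : sm ga N47716 = N45876 := ded_18_1 L646929 L646906 L663966
theorem L663970 : sm gb N47716 = N47716 := ded_26_1 (flp_i L663966) L368867 L663966
theorem L663971 : sm ge N47716 = N43616 := ded_44_1 (flp_i L368872) L368865 L663966
theorem L663973 : sm gf N47716 = N45909 := ded_48_1 (flp_i L388078) (flp_f L646081) L663966
theorem L663975 : sm gg N47716 = N46275 := ded_51_1 (flp_i L391071) (flp_g L368868) L663966
theorem L663977 : sm gj N47716 = N45900 := ded_53_1 (flp_i L388010) (flp_j L646083) L663966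
theorem L663979 : sm gh N47716 = N45768 := ded_54_1 (flp_i L386982) L265872 L546196 (flp_h L368870) L663966
theorem L663981 : sm gb N43617 = N47717 := rfl
theorem L663983 : sm ge N47717 = N46456 := ded_21_2 L650355 L645808 L663981
theorem L663985 : sm gg N47717 = N47717 := ded_23_2 (flp_b L663981) L368883 L663981
theorem L663986 : sm gj N47717 = N43620 := ded_24_2 (flp_b L368905) (flp_j L368884) L663981
theorem L663988 : sm gh N47717 = N43644 := ded_25_2 (flp_b L369094) (flp_h L368886) L663981
theorem L663990 : sm ga N47717 = N46457 := ded_10_1 L650359 L272665 (flp_b L646381) (flp_a L512917) L663981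
theorem L663992 : sm gc N47717 = N47717 := ded_19_2 (flp_b L663981) (flp_c L368881) L253692 L368881 L663981
theorem L663993 : sm gi N43617 = N47718 := rfl
theorem L663995 : sm ga N47718 = N45879 := ded_18_1 L387832 (flp_a L512917) L663993
theorem L663997 : sm gc N47718 = N43619 := ded_33_1 (flp_i L368897) L368881 L663993
theorem L663999 : sm ge N47718 = N46464 := ded_44_1 L650431 L645808 L663993
theorem L664001 : sm gg N47718 = N47718 := ded_51_1 (flp_i L663993) L368883 L663993
theorem L664002 : sm gj N47718 = N43622 := ded_53_1 (flp_i L368920) (flp_j L368884) L663993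
theorem L664004 : sm gh N47718 = N45771 := ded_54_1 (flp_i L387010) L265894 L546140 (flp_h L368886) L663993
theorem L664006 : sm ga N43620 = N47719 := rfl
theorem L664008 : sm gc N47719 = N47719 := ded_11_2 (flp_a L664006) L368911 L664006
theorem L664009 : sm ge N47719 = N46454 := ded_13_2 L650328 (flp_e L543330) L664006
theorem L664011 : sm gg N47719 = N43626 := ded_15_2 (flp_a L368948) (flp_g L368907) L664006
theorem L664013 : sm gj N47719 = N46457 := ded_16_2 (flp_a L663990) L663986 L664006
theorem L664015 : sm gh N47719 = N43650 := ded_17_2 (flp_a L369142) (flp_h L368909) L664006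
theorem L664017 : sm gb N47719 = N46336 := ded_10_2 L391545 L269097 L543470 L368905 L664006
theorem L664019 : sm gi N43620 = N47720 := rfl
theorem L664021 : sm gb N47720 = N43622 := ded_26_1 (flp_i L368920) L368905 L664019
theorem L664023 : sm gc N47720 = N47720 := ded_33_1 (flp_i L664019) L368911 L664019
theorem L664024 : sm ge N47720 = N46466 := ded_44_1 L650449 (flp_e L543330) L664019
theorem L664026 : sm gg N47720 = N43628 := ded_51_1 (flp_i L368965) (flp_g L368907) L664019
theorem L664028 : sm gh N47720 = N45774 := ded_54_1 (flp_i L387044) L265914 (flp_i L543412) (flp_h L368909) L664019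
theorem L664030 : sm gi N43626 = N47721 := rfl
theorem L664032 : sm ga N47721 = N43628 := ded_18_1 (flp_i L368965) L368948 L664030
theorem L664034 : sm gb N47721 = N45883 := ded_26_1 L387871 (flp_b L543323) L664030
theorem L664036 : sm gc N47721 = N47721 := ded_33_1 (flp_i L664030) L368950 L664030
theorem L664037 : sm ge N47721 = N46468 := ded_44_1 L650469 (flp_e L543326) L664030
theorem L664039 : sm gf N47721 = N46283 := ded_48_1 (flp_i L391135) (flp_f L368951) L664030
theorem L664041 : sm gj N47721 = N47721 := ded_53_1 (flp_i L664030) L368953 L664030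
theorem L664042 : sm gh N47721 = N45776 := ded_54_1 (flp_i L387065) L265944 (flp_i L543180) (flp_h L368954) L664030
theorem L664044 : sm gc N43633 = N47722 := rfl
theorem L664046 : sm ga N47722 = N43680 := ded_11_1 L369388 (flp_a L646485) L664044
theorem L664048 : sm ge N47722 = N43679 := ded_28_2 L369378 (flp_e L646488) L664044
theorem L664050 : sm gf N47722 = N47722 := ded_29_2 (flp_c L664044) L369008 L664044
theorem L664051 : sm gg N47722 = N43635 := ded_30_2 (flp_c L369024) (flp_g L369009) L664044
theorem L664053 : sm gj N47722 = N46286 := ded_31_2 (flp_c L391156) (flp_j L369011) L664044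
theorem L664055 : sm gi N47722 = N46236 := ded_33_2 (flp_c L390755) (flp_i L546151) L664044
theorem L664057 : sm gd N47722 = N43671 := ded_27_2 (flp_c L369308) (flp_d L253979) (flp_c L253768) L369005 L664044
theorem L664059 : sm gb N43635 = N47723 := rfl
theorem L664061 : sm gd N47723 = N43674 := ded_20_2 (flp_b L369335) (flp_d L369030) L664059
theorem L664063 : sm ge N47723 = N46244 := ded_21_2 L390833 (flp_e L646483) L664059
theorem L664065 : sm gf N47723 = N43644 := ded_22_2 (flp_b L369094) (flp_f L369026) L664059
theorem L664067 : sm gj N47723 = N43638 := ded_24_2 (flp_b L369047) (flp_j L369028) L664059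
theorem L664069 : sm gi N47723 = N46239 := ded_26_2 (flp_b L390780) (flp_i L546174) L664059
theorem L664071 : sm ga N47723 = N46245 := ded_10_1 L390837 L268558 L646479 (flp_a L546171) L664059
theorem L664073 : sm gc N47723 = N47723 := ded_19_2 (flp_b L664059) (flp_c L369024) L253778 L369024 L664059
theorem L664074 : sm ga N43638 = N47724 := rfl
theorem L664076 : sm gc N47724 = N47724 := ded_11_2 (flp_a L664074) L369055 L664074
theorem L664077 : sm gd N47724 = N43679 := ded_12_2 (flp_a L369376) (flp_d L369049) L664074
theorem L664079 : sm gf N47724 = N43650 := ded_14_2 (flp_a L369142) (flp_f L369051) L664074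
theorem L664081 : sm gg N47724 = N46294 := ded_15_2 (flp_a L391219) (flp_g L369053) L664074
theorem L664083 : sm gj N47724 = N46245 := ded_16_2 (flp_a L664071) L664067 L664074
theorem L664085 : sm gi N47724 = N46244 := ded_18_2 (flp_a L390828) (flp_i L543416) L664074
theorem L664087 : sm gb N47724 = N46240 := ded_10_2 L390789 (flp_b L646564) (flp_a L546235) L369047 L664074
theorem L664089 : sm ge N46239 = N47724 := ded_40_5 L664079 (flp_e L646206) L273733 (flp_e L268591) (flp_f L390782)
theorem L664091 : sm ge N43638 = N47725 := rfl
theorem L664093 : sm ga N47725 = N46239 := ded_13_1 L664089 (flp_a L664074) L664091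
theorem L664095 : sm gb N47725 = N43639 := ded_21_1 (flp_e L369056) L369047 L664091
theorem L664097 : sm gc N47725 = N47725 := ded_28_1 (flp_e L664091) L369055 L664091
theorem L664098 : sm gg N47725 = N46295 := ded_41_2 (flp_e L391226) (flp_g L369053) L664091
theorem L664100 : sm gj N47725 = N46244 := ded_42_2 (flp_e L664063) L664067 L664091
theorem L664102 : sm gi N47725 = N46245 := ded_44_2 (flp_e L390835) (flp_i L543416) L664091
theorem L664104 : sm gf N47725 = N46251 := ded_40_2 (flp_e L645846) L273798 (flp_e L543406) (flp_f L369051) L664091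
theorem L664106 : sm gd N43639 = N47726 := rfl
theorem L664108 : sm ga N47726 = N46289 := ded_12_1 L391179 L646446 L664106
theorem L664110 : sm gf N47726 = N46301 := ded_35_2 L391269 L646321 L664106
theorem L664112 : sm gg N47726 = N46297 := ded_36_2 (flp_d L391241) (flp_g L369060) L664106
theorem L664114 : sm gj N47726 = N46294 := ded_37_2 L391222 (flp_j L646076) L664106
theorem L664116 : sm gi N47726 = N46247 := ded_39_2 (flp_d L390849) (flp_i L546209) L664106
theorem L664118 : sm gc N47726 = N47726 := ded_27_1 (flp_d L664106) L369058 L253806 (flp_c L369058) L664106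
theorem L664119 : sm ge N47726 = N43682 := ded_34_2 (flp_d L369403) (flp_e L254030) (flp_d L253799) L369056 L664106
theorem L664121 : sm gb N43671 = N47727 := rfl
theorem L664123 : sm gf N47727 = N47727 := ded_22_2 (flp_b L664121) L369310 L664121
theorem L664124 : sm gg N47727 = N43674 := ded_23_2 (flp_b L369335) (flp_g L369311) L664121
theorem L664126 : sm gj N47727 = N43683 := ded_24_2 L646458 (flp_j L369313) L664121
theorem L664128 : sm ga N47727 = N46290 := ded_10_1 (flp_b L663824) L663822 L663760 L663749 L664121
theorem L664130 : sm gc N47727 = N43677 := ded_19_2 (flp_b L647091) (flp_c L254135) (flp_b L253981) L369308 L664121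
theorem L664132 : sm ge N43676 = N47727 := ded_42_3 L664126 L369413 (flp_j L369356)
theorem L664134 : sm gi N43675 = N47727 := ded_53_0 L664126 (flp_i L369409) (flp_j L369347)
theorem L664136 : sm ge N43671 = N47728 := rfl
theorem L664138 : sm gb N47728 = N43676 := ded_21_1 L664132 (flp_b L664121) L664136
theorem L664140 : sm gc N47728 = N43672 := ded_28_1 (flp_e L369315) L369308 L664136
theorem L664142 : sm gg N47728 = N43675 := ded_41_2 (flp_e L369343) (flp_g L369311) L664136
theorem L664144 : sm gj N47728 = N43681 := ded_42_2 L646426 (flp_j L369313) L664136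
theorem L664146 : sm gd N47728 = N46239 := ded_34_1 L664089 L664077 (flp_e L664048) L664057 L664136
theorem L664148 : sm gf N43687 = N47728 := ded_22_0 L664138 L369354 (flp_b L369445)
theorem L664150 : sm gi N43674 = N47728 := ded_26_0 L664138 (flp_i L369350) L369335
theorem L664152 : sm gi N43671 = N47729 := rfl
theorem L664154 : sm ga N47729 = N46286 := ded_18_1 (flp_i L663756) L663749 L664152
theorem L664156 : sm gb N47729 = N43675 := ded_26_1 L664134 (flp_b L664121) L664152
theorem L664158 : sm gc N47729 = N43673 := ded_33_1 (flp_i L369324) L369308 L664152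
theorem L664160 : sm gd N47729 = N46236 := ded_39_1 (flp_i L664055) L664057 L664152
theorem L664162 : sm ge N47729 = N43674 := ded_44_1 L664150 (flp_e L664136) L664152
theorem L664164 : sm gf N47729 = N47729 := ded_48_1 (flp_i L664152) L369310 L664152
theorem L664165 : sm gg N47729 = N43676 := ded_51_1 (flp_i L369350) (flp_g L369311) L664152
theorem L664167 : sm gj N47729 = N43680 := ded_53_1 L629239 (flp_j L369313) L664152
theorem L664169 : sm ga N43674 = N47730 := rfl
theorem L664171 : sm gc N47730 = N43701 := ded_11_2 (flp_a L369558) (flp_c L369341) L664169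
theorem L664173 : sm gd N47730 = N46245 := ded_12_2 (flp_a L664071) L664061 L664169
theorem L664175 : sm ge N47730 = N46286 := ded_13_2 (flp_a L664154) L664162 L664169
theorem L664177 : sm gf N47730 = N43686 := ded_14_2 (flp_a L369435) (flp_f L369337) L664169
theorem L664179 : sm gg N47730 = N46290 := ded_15_2 (flp_a L664128) L664124 L664169
theorem L664181 : sm gj N47730 = N43679 := ded_16_2 (flp_a L369376) (flp_j L369339) L664169
theorem L664183 : sm gb N47730 = N46247 := ded_10_2 L390851 (flp_b L646477) L368652 L369335 L664169
theorem L664185 : sm gd N43675 = N47731 := rfl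
theorem L664187 : sm ga N47731 = N46295 := ded_12_1 (flp_d L663788) L663778 L664185
theorem L664189 : sm gb N47731 = N46236 := ded_20_1 (flp_d L664160) L664156 L664185
theorem L664191 : sm gf N47731 = N47731 := ded_35_2 (flp_d L664185) L369349 L664185
theorem L664192 : sm gg N47731 = N46239 := ded_36_2 (flp_d L664146) L664142 L664185
theorem L664194 : sm gj N47731 = N43682 := ded_37_2 (flp_d L369403) (flp_j L369347) L664185
theorem L664196 : sm gc N47731 = N47731 := ded_27_1 (flp_d L664185) L369345 L254010 (flp_c L369345) L664185
theorem L664197 : sm ge N47731 = N46294 := ded_34_2 L391222 (flp_e L646483) L369030 L369343 L664185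
theorem L664199 : sm gh N43676 = N47732 := rfl
theorem L664201 : sm ga N47732 = N46269 := ded_17_1 L391032 (flp_a L562327) L664199
theorem L664203 : sm gc N47732 = N43678 := ded_32_1 (flp_h L369368) (flp_c L369352) L664199
theorem L664205 : sm gf N47732 = N43688 := ded_47_1 (flp_h L369453) (flp_f L369354) L664199
theorem L664207 : sm gj N47732 = N43684 := ded_52_1 (flp_h L369418) (flp_j L369356) L664199
theorem L664209 : sm gi N43679 = N47733 := rfl
theorem L664211 : sm ga N47733 = N43681 := ded_18_1 (flp_i L369393) L369376 L664209
theorem L664213 : sm gb N47733 = N46294 := ded_26_1 (flp_i L663802) L663804 L664209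
theorem L664215 : sm gc N47733 = N43709 := ded_33_1 (flp_i L369625) (flp_c L369378) L664209
theorem L664217 : sm gd N47733 = N46244 := ded_39_1 (flp_i L664085) L664077 L664209
theorem L664219 : sm ge N47733 = N46236 := ded_44_1 (flp_i L664055) L664048 L664209
theorem L664221 : sm gf N47733 = N43689 := ded_48_1 (flp_i L369461) (flp_f L369380) L664209
theorem L664223 : sm gg N47733 = N46240 := ded_51_1 L646444 (flp_g L369382) L664209
theorem L664225 : sm gh N43681 = N47734 := rfl
theorem L664227 : sm gb N47734 = N43684 := ded_25_1 (flp_h L369418) (flp_b L369395) L664225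
theorem L664229 : sm gc N47734 = N43712 := ded_32_1 (flp_h L369652) (flp_c L369397) L664225
theorem L664231 : sm ge N47734 = N45862 := ded_43_1 L387678 (flp_e L646426) L664225
theorem L664233 : sm gf N47734 = N43690 := ded_47_1 (flp_h L369470) (flp_f L369399) L664225
theorem L664235 : sm gg N47734 = N45866 := ded_50_1 L387713 (flp_g L646428) L664225
theorem L664237 : sm gh N43682 = N47735 := rfl
theorem L664239 : sm gc N47735 = N47735 := ded_32_1 (flp_h L664237) L369408 L664237
theorem L664240 : sm gf N47735 = N47735 := ded_47_1 (flp_h L664237) L369405 L664237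
theorem L664241 : sm gg N47735 = N46328 := ded_50_1 (flp_h L391485) (flp_g L369406) L664237
theorem L664243 : sm gi N43682 = N47736 := rfl
theorem L664245 : sm ga N47736 = N46297 := ded_18_1 (flp_i L663831) L663822 L664243
theorem L664247 : sm gb N47736 = N46286 := ded_26_1 (flp_i L663756) (flp_b L663760) L664243
theorem L664249 : sm gc N47736 = N47736 := ded_33_1 (flp_i L664243) L369408 L664243
theorem L664250 : sm gd N47736 = N43683 := ded_39_1 (flp_i L369409) L369403 L664243
theorem L664252 : sm ge N47736 = N46247 := ded_44_1 (flp_i L664116) L664119 L664243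
theorem L664254 : sm gf N47736 = N47736 := ded_48_1 (flp_i L664243) L369405 L664243
theorem L664255 : sm gg N47736 = N46289 := ded_51_1 L646308 (flp_g L369406) L664243
theorem L664257 : sm gh N43683 = N47737 := rfl
theorem L664259 : sm ga N47737 = N46273 := ded_17_1 L391062 (flp_a L512809) L664257
theorem L664261 : sm gb N47737 = N45862 := ded_25_1 L387678 (flp_b L646458) L664257
theorem L664263 : sm gc N47737 = N43685 := ded_32_1 (flp_h L369426) (flp_c L369411) L664257
theorem L664265 : sm ge N47737 = N43684 := ded_43_1 (flp_h L369418) (flp_e L369413) L664257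
theorem L664267 : sm gf N47737 = N47737 := ded_47_1 (flp_h L664257) L369415 L664257
theorem L664268 : sm gg N47737 = N45865 := ded_50_1 L387703 (flp_g L646462) L664257
theorem L664270 : sm gd N43684 = N47738 := rfl
theorem L664272 : sm ga N47738 = N45786 := ded_12_1 L387149 (flp_a L512837) L664270
theorem L664274 : sm gf N47738 = N43691 := ded_35_2 (flp_d L369479) (flp_f L369422) L664270
theorem L664276 : sm gg N47738 = N46331 := ded_36_2 (flp_d L391505) (flp_g L369424) L664270
theorem L664278 : sm gc N47738 = N45709 := ded_27_1 (flp_d L386460) L265539 (flp_d L562391) (flp_c L369420) L664270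
theorem L664280 : sm gh N47738 = N45725 := ded_38_2 L386608 L265865 L512848 L369418 L664270
theorem L664282 : sm gd N43685 = N47739 := rfl
theorem L664284 : sm ga N47739 = N46265 := ded_12_1 L391002 (flp_a L512801) L664282
theorem L664286 : sm gb N47739 = N43717 := ded_20_1 (flp_d L369696) (flp_b L369428) L664282
theorem L664288 : sm gf N47739 = N47739 := ded_35_2 (flp_d L664282) L369432 L664282
theorem L664289 : sm gg N47739 = N44944 := ded_36_2 L380236 L646910 L664282
theorem L664291 : sm ge N47739 = N46201 := ded_34_2 (flp_d L390463) L268293 (flp_d L562391) (flp_e L369430) L664282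
theorem L664293 : sm gh N47739 = N47739 := ded_38_2 (flp_d L664282) (flp_h L369426) L254049 L369426 L664282
theorem L664294 : sm gi N43686 = N47740 := rfl
theorem L664296 : sm ga N47740 = N43687 := ded_18_1 (flp_i L369443) L369435 L664294
theorem L664298 : sm gb N47740 = N46301 := ded_26_1 L648503 L649301 L664294
theorem L664300 : sm gc N47740 = N43718 := ded_33_1 (flp_i L369703) (flp_c L369437) L664294
theorem L664302 : sm gd N47740 = N46251 := ded_39_1 L648499 (flp_d L649371) L664294
theorem L664304 : sm ge N47740 = N47740 := ded_44_1 (flp_i L664294) L369439 L664294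
theorem L664305 : sm gg N47740 = N47740 := ded_51_1 (flp_i L664294) L369440 L664294
theorem L664306 : sm gj N47740 = N43689 := ded_53_1 (flp_i L369461) (flp_j L369441) L664294
theorem L664308 : sm gh N43687 = N47741 := rfl
theorem L664310 : sm gb N47741 = N43688 := ded_25_1 (flp_h L369453) (flp_b L369445) L664308
theorem L664312 : sm gc N47741 = N43719 := ded_32_1 (flp_h L369713) (flp_c L369447) L664308
theorem L664314 : sm ge N47741 = N47741 := ded_43_1 (flp_h L664308) L369449 L664308
theorem L664315 : sm gg N47741 = N47741 := ded_50_1 (flp_h L664308) L369450 L664308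
theorem L664316 : sm gj N47741 = N43690 := ded_52_1 (flp_h L369470) (flp_j L369451) L664308
theorem L664318 : sm gd N43688 = N47742 := rfl
theorem L664320 : sm ga N47742 = N45789 := ded_12_1 L387168 (flp_a L562366) L664318
theorem L664322 : sm gg N47742 = N47742 := ded_36_2 (flp_d L664318) L369458 L664318
theorem L664323 : sm gj N47742 = N43691 := ded_37_2 (flp_d L369479) (flp_j L369459) L664318
theorem L664325 : sm gc N47742 = N45711 := ded_27_1 (flp_d L386476) L265547 L562362 (flp_c L369455) L664318
theorem L664327 : sm gh N47742 = N45728 := ded_38_2 L386629 L265894 (flp_d L562341) L369453 L664318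
theorem L664329 : sm gh N43689 = N47743 := rfl
theorem L664331 : sm ga N47743 = N43690 := ded_17_1 (flp_h L369470) (flp_a L369463) L664329
theorem L664333 : sm gb N47743 = N46280 := ded_25_1 L391116 (flp_b L543400) L664329
theorem L664335 : sm gc N47743 = N43721 := ded_32_1 (flp_h L369728) (flp_c L369465) L664329
theorem L664337 : sm ge N47743 = N47743 := ded_43_1 (flp_h L664329) L369467 L664329
theorem L664338 : sm gg N47743 = N43692 := ded_50_1 (flp_h L369483) (flp_g L369468) L664329
theorem L664340 : sm gd N43690 = N47744 := rfl
theorem L664342 : sm gb N47744 = N43691 := ded_20_1 (flp_d L369479) (flp_b L369472) L664340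
theorem L664344 : sm gg N47744 = N43693 := ded_36_2 (flp_d L369493) (flp_g L369477) L664340
theorem L664346 : sm gh N47744 = N45731 := ded_38_2 L386651 L265914 L543394 L369470 L664340
theorem L664348 : sm ge N43691 = N47745 := rfl
theorem L664350 : sm ga N47745 = N45793 := ded_13_1 (flp_e L387194) (flp_a L512652) L664348
theorem L664352 : sm gc N47745 = N44720 := ded_28_1 L534180 (flp_c L512654) L664348
theorem L664354 : sm gg N47745 = N43694 := ded_41_2 (flp_e L369500) (flp_g L369481) L664348
theorem L664356 : sm gh N47745 = N44731 := ded_43_2 L534708 (flp_h L512657) L664348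
theorem L664358 : sm gd N47745 = N47745 := ded_34_1 (flp_e L664348) (flp_d L369479) L254107 L369479 L664348
theorem L664359 : sm gh N43709 = N47746 := rfl
theorem L664361 : sm ga N47746 = N43712 := ded_17_1 (flp_h L369652) (flp_a L369627) L664359
theorem L664363 : sm gb N47746 = N47746 := ded_25_1 (flp_h L664359) L369629 L664359
theorem L664364 : sm ge N47746 = N45760 := ded_43_1 L386915 (flp_e L645867) L664359
theorem L664366 : sm gf N47746 = N43721 := ded_47_1 (flp_h L369728) (flp_f L369631) L664359
theorem L664368 : sm gg N47746 = N45763 := ded_50_1 L386942 (flp_g L645869) L664359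
theorem L664370 : sm gd N43712 = N47747 := rfl
theorem L664372 : sm gb N47747 = N43716 := ded_20_1 (flp_d L369688) (flp_b L369654) L664370
theorem L664374 : sm gf N47747 = N43722 := ded_35_2 (flp_d L369736) (flp_f L369656) L664370
theorem L664376 : sm gg N47747 = N45430 := ded_36_2 L384216 L647015 L664370
theorem L664378 : sm ge N47747 = N45427 := ded_34_2 (flp_d L384187) L264016 L266351 (flp_e L645886) L664370
theorem L664380 : sm gh N47747 = N47747 := ded_38_2 (flp_d L664370) (flp_h L369652) L254222 L369652 L664370
theorem L664381 : sm gh N43718 = N47748 := rfl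
theorem L664383 : sm ga N47748 = N43719 := ded_17_1 (flp_h L369713) (flp_a L369705) L664381
theorem L664385 : sm gb N47748 = N47748 := ded_25_1 (flp_h L664381) L369707 L664381
theorem L664386 : sm ge N47748 = N47748 := ded_43_1 (flp_h L664381) L369709 L664381
theorem L664387 : sm gg N47748 = N47748 := ded_50_1 (flp_h L664381) L369710 L664381
theorem L664388 : sm gj N47748 = N43721 := ded_52_1 (flp_h L369728) (flp_j L369711) L664381
theorem L664390 : sm gd N43719 = N47749 := rfl
theorem L664392 : sm gb N47749 = N43720 := ded_20_1 (flp_d L369721) (flp_b L369715) L664390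
theorem L664394 : sm gg N47749 = N47749 := ded_36_2 (flp_d L664390) L369718 L664390
theorem L664395 : sm gj N47749 = N43722 := ded_37_2 (flp_d L369736) (flp_j L369719) L664390
theorem L664397 : sm gh N47749 = N47749 := ded_38_2 (flp_d L664390) (flp_h L369713) L254274 L369713 L664390
theorem L664398 : sm gd N44038 = N47750 := rfl
theorem L664400 : sm ga N47750 = N44303 := ded_12_1 (flp_d L374839) (flp_a L621479) L664398
theorem L664402 : sm gb N47750 = N47750 := ded_20_1 (flp_d L664398) L372536 L664398
theorem L664403 : sm gf N47750 = N46349 := ded_35_2 (flp_d L651913) L651907 L664398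
theorem L664405 : sm gg N47750 = N44506 := ded_36_2 (flp_d L376568) (flp_g L621484) L664398
theorem L664407 : sm gj N47750 = N44271 := ded_37_2 (flp_d L374555) (flp_j L621486) L664398
theorem L664409 : sm gi N47750 = N46405 := ded_39_2 (flp_d L653562) L653564 L664398
theorem L664411 : sm ge N47750 = N47750 := ded_34_2 (flp_d L664398) L621482 L257542 (flp_e L621482) L664398
theorem L664412 : sm gh N47750 = N44042 := ded_38_2 (flp_d L372567) (flp_h L256171) L256153 L372534 L664398
theorem L664414 : sm gd N44210 = N47751 := rfl
theorem L664416 : sm ga N47751 = N44284 := ded_12_1 (flp_d L374670) (flp_a L621535) L664414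
theorem L664418 : sm gb N47751 = N45001 := ded_20_1 (flp_d L380764) (flp_b L373994) L664414
theorem L664420 : sm gg N47751 = N44258 := ded_36_2 (flp_d L374433) (flp_g L621541) L664414
theorem L664422 : sm gj N47751 = N44415 := ded_37_2 (flp_d L375819) (flp_j L373998) L664414
theorem L664424 : sm ge N47751 = N45068 := ded_34_2 (flp_d L381323) L262076 L621548 (flp_e L621539) L664414
theorem L664426 : sm gh N47751 = N44214 := ded_38_2 (flp_d L374031) (flp_h L257151) L257131 L373992 L664414
theorem L664428 : sm gi N44210 = N47752 := rfl
theorem L664430 : sm ga N47752 = N44285 := ded_18_1 (flp_i L374676) (flp_a L621535) L664428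
theorem L664432 : sm gb N47752 = N45002 := ded_26_1 (flp_i L380770) (flp_b L373994) L664428
theorem L664434 : sm gc N47752 = N44272 := ded_33_1 (flp_i L374563) (flp_c L621537) L664428
theorem L664436 : sm ge N47752 = N44262 := ded_44_1 (flp_i L374470) (flp_e L621539) L664428
theorem L664438 : sm gg N47752 = N44259 := ded_51_1 (flp_i L374439) (flp_g L621541) L664428
theorem L664440 : sm gj N47752 = N44416 := ded_53_1 (flp_i L375825) (flp_j L373998) L664428
theorem L664442 : sm gh N47752 = N44280 := ded_54_1 (flp_i L374632) (flp_h L257560) (flp_i L257137) L373992 L664428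
theorem L664444 : sm gi N44214 = N47753 := rfl
theorem L664446 : sm ga N47753 = N45121 := ded_18_1 (flp_i L381777) (flp_a L521713) L664444
theorem L664448 : sm gb N47753 = N45010 := ded_26_1 (flp_i L380831) (flp_b L374033) L664444
theorem L664450 : sm gd N47753 = N44215 := ded_39_1 (flp_i L374037) L374031 L664444
theorem L664452 : sm ge N47753 = N45077 := ded_44_1 (flp_i L381402) (flp_e L521716) L664444
theorem L664454 : sm gj N47753 = N44424 := ded_53_1 (flp_i L375893) (flp_j L374035) L664444
theorem L664456 : sm gd N44245 = N47754 := rfl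
theorem L664458 : sm ga N47754 = N45009 := ded_12_1 L380829 L553477 L664456
theorem L664460 : sm gb N47754 = N44258 := ded_20_1 (flp_d L374433) (flp_b L374305) L664456
theorem L664462 : sm gg N47754 = N45001 := ded_36_2 (flp_d L380764) (flp_g L612338) L664456
theorem L664464 : sm gj N47754 = N44466 := ded_37_2 (flp_d L376217) (flp_j L374310) L664456
theorem L664466 : sm ge N47754 = N44980 := ded_34_2 (flp_d L380557) L261549 (flp_d L550890) (flp_e L374308) L664456
theorem L664468 : sm gh N47754 = N45006 := ded_38_2 (flp_d L380805) (flp_h L261723) L617602 L374301 L664456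
theorem L664470 : sm gi N44245 = N47755 := rfl
theorem L664472 : sm ga N47755 = N45016 := ded_18_1 (flp_i L380882) L553477 L664470
theorem L664474 : sm gb N47755 = N44259 := ded_26_1 (flp_i L374439) (flp_b L374305) L664470
theorem L664476 : sm gc N47755 = N47755 := ded_33_1 (flp_i L664470) L374307 L664470
theorem L664477 : sm ge N47755 = N44249 := ded_44_1 (flp_i L374346) (flp_e L374308) L664470
theorem L664479 : sm gg N47755 = N45002 := ded_51_1 (flp_i L380770) (flp_g L612338) L664470
theorem L664481 : sm gj N47755 = N44467 := ded_53_1 (flp_i L376223) (flp_j L374310) L664470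
theorem L664483 : sm gh N47755 = N44294 := ded_54_1 (flp_i L374761) L611995 L611973 L374301 L664470
theorem L664485 : sm ge N44258 = N47756 := rfl
theorem L664487 : sm ga N47756 = N44287 := ded_13_1 (flp_e L374692) (flp_a L374435) L664485
theorem L664489 : sm gb N47756 = N44980 := ded_21_1 (flp_e L664466) L664460 L664485
theorem L664491 : sm gg N47756 = N45068 := ded_41_2 (flp_e L664424) L664420 L664485
theorem L664493 : sm gj N47756 = N44490 := ded_42_2 (flp_e L376429) (flp_j L374437) L664485
theorem L664495 : sm gh N47756 = N45073 := ded_43_2 L652550 L652546 L664485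
theorem L664497 : sm gd N47756 = N44263 := ded_34_1 (flp_e L374479) (flp_d L257450) (flp_e L257426) L374433 L664485
theorem L664499 : sm gi N44258 = N47757 := rfl
theorem L664501 : sm ga N47757 = N44288 := ded_18_1 (flp_i L374700) (flp_a L374435) L664499
theorem L664503 : sm gd N47757 = N44259 := ded_39_1 (flp_i L374439) L374433 L664499
theorem L664505 : sm gj N47757 = N44491 := ded_53_1 (flp_i L376435) (flp_j L374437) L664499
theorem L664507 : sm gi N44263 = N47758 := rfl
theorem L664509 : sm ga N47758 = N44294 := ded_18_1 (flp_i L374761) (flp_a L374481) L664507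
theorem L664511 : sm gb N47758 = N44981 := ded_26_1 (flp_i L380563) (flp_b L550196) L664507
theorem L664513 : sm gc N47758 = N47758 := ded_33_1 (flp_i L664507) L374483 L664507
theorem L664514 : sm ge N47758 = N44264 := ded_44_1 (flp_i L374488) L374479 L664507
theorem L664516 : sm gg N47758 = N45069 := ded_51_1 (flp_i L381331) (flp_g L612171) L664507
theorem L664518 : sm gj N47758 = N44497 := ded_53_1 (flp_i L376491) (flp_j L374484) L664507
theorem L664520 : sm gh N47758 = N45016 := ded_54_1 (flp_i L380882) L553486 (flp_i L261482) (flp_h L550200) L664507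
theorem L664522 : sm gi N44269 = N47759 := rfl
theorem L664524 : sm ga N47759 = N44302 := ded_18_1 (flp_i L374832) (flp_a L374538) L664522
theorem L664526 : sm gb N47759 = N47759 := ded_26_1 (flp_i L664522) L374540 L664522
theorem L664527 : sm gd N47759 = N46348 := ded_39_1 L649477 (flp_d L648951) L664522
theorem L664529 : sm ge N47759 = N47759 := ded_44_1 (flp_i L664522) L374541 L664522
theorem L664530 : sm gf N47759 = N44272 := ded_48_1 (flp_i L374563) (flp_f L374542) L664522
theorem L664532 : sm gg N47759 = N46347 := ded_51_1 (flp_i L649458) L649207 L664522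
theorem L664534 : sm gj N47759 = N44512 := ded_53_1 (flp_i L651915) L651911 L664522
theorem L664536 : sm gh N47759 = N44274 := ded_54_1 (flp_i L374579) (flp_h L645139) L549885 L374536 L664522
theorem L664538 : sm gi N44271 = N47760 := rfl
theorem L664540 : sm ga N47760 = N44306 := ded_18_1 (flp_i L374863) (flp_a L374557) L664538
theorem L664542 : sm gb N47760 = N47760 := ded_26_1 (flp_i L664538) L374559 L664538
theorem L664543 : sm gd N47760 = N44272 := ded_39_1 (flp_i L374563) L374555 L664538
theorem L664545 : sm ge N47760 = N47760 := ded_44_1 (flp_i L664538) L374562 L664538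
theorem L664546 : sm gf N47760 = N46348 := ded_48_1 L649477 (flp_f L649157) L664538
theorem L664548 : sm gg N47760 = N44274 := ded_51_1 (flp_i L374579) (flp_g L374560) L664538
theorem L664550 : sm gj N47760 = N46405 := ded_53_1 (flp_i L664409) L664407 L664538
theorem L664552 : sm gh N47760 = N46347 := ded_54_1 (flp_i L649458) (flp_h L649203) (flp_i L648296) (flp_h L648945) L664538
theorem L664554 : sm gi N44279 = N47761 := rfl
theorem L664556 : sm gb N47761 = N45107 := ded_26_1 (flp_i L381682) (flp_b L374626) L664554
theorem L664558 : sm gd N47761 = N44280 := ded_39_1 (flp_i L374632) L374624 L664554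
theorem L664560 : sm ge N47761 = N45116 := ded_44_1 (flp_i L381743) (flp_e L621653) L664554
theorem L664562 : sm gg N47761 = N45121 := ded_51_1 (flp_i L381777) (flp_g L621655) L664554
theorem L664564 : sm gj N47761 = N44521 := ded_53_1 (flp_i L376677) (flp_j L374628) L664554
theorem L664566 : sm gd N44282 = N47762 := rfl
theorem L664568 : sm gb N47762 = N45110 := ded_20_1 (flp_d L381704) (flp_b L374651) L664566
theorem L664570 : sm gf N47762 = N44284 := ded_35_2 (flp_d L374670) (flp_f L374656) L664566
theorem L664572 : sm gj N47762 = N45386 := ded_37_2 L383911 (flp_j L648809) L664566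
theorem L664574 : sm gh N47762 = N45120 := ded_38_2 L381773 L262418 (flp_d L612200) L374649 L664566
theorem L664576 : sm gi N44282 = N47763 := rfl
theorem L664578 : sm gb N47763 = N45111 := ded_26_1 (flp_i L381708) (flp_b L374651) L664576
theorem L664580 : sm gc N47763 = N44302 := ded_33_1 (flp_i L374832) (flp_c L374653) L664576
theorem L664582 : sm ge N47763 = N47763 := ded_44_1 (flp_i L664576) L374655 L664576
theorem L664583 : sm gf N47763 = N44285 := ded_48_1 (flp_i L374676) (flp_f L374656) L664576
theorem L664585 : sm gj N47763 = N44562 := ded_53_1 L648322 (flp_j L648809) L664576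
theorem L664587 : sm gh N47763 = N44308 := ded_54_1 (flp_i L374879) (flp_h L636083) L620521 L374649 L664576
theorem L664589 : sm gc N44284 = N47764 := rfl
theorem L664591 : sm ge N47764 = N45105 := ded_28_2 (flp_c L381667) (flp_e L612246) L664589
theorem L664593 : sm gg N47764 = N44286 := ded_30_2 (flp_c L374686) (flp_g L374674) L664589
theorem L664595 : sm gj N47764 = N45384 := ded_31_2 L383900 (flp_j L612248) L664589
theorem L664597 : sm gh N47764 = N45118 := ded_32_2 L381757 (flp_h L612250) L664589
theorem L664599 : sm gd N47764 = N44305 := ded_27_2 (flp_c L374858) (flp_d L257714) (flp_c L257589) L374670 L664589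
theorem L664601 : sm gi N44284 = N47765 := rfl
theorem L664603 : sm gb N47765 = N45116 := ded_26_1 (flp_i L381743) (flp_b L374672) L664601
theorem L664605 : sm gd N47765 = N44285 := ded_39_1 (flp_i L374676) L374670 L664601
theorem L664607 : sm ge N47765 = N45107 := ded_44_1 (flp_i L381682) (flp_e L612246) L664601
theorem L664609 : sm gg N47765 = N44288 := ded_51_1 (flp_i L374700) (flp_g L374674) L664601
theorem L664611 : sm gj N47765 = N45387 := ded_53_1 (flp_i L383915) (flp_j L612248) L664601
theorem L664613 : sm gb N44286 = N47766 := rfl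
theorem L664615 : sm gd N47766 = N44307 := ded_20_2 (flp_b L374872) (flp_d L374690) L664613
theorem L664617 : sm gf N47766 = N45006 := ded_22_2 L652552 L652540 L664613
theorem L664619 : sm gj N47766 = N44531 := ded_24_2 (flp_b L376757) (flp_j L374688) L664613
theorem L664621 : sm gc N47766 = N45117 := ded_19_2 (flp_b L381749) (flp_c L262357) (flp_b L257597) L374686 L664613
theorem L664623 : sm ge N44286 = N47767 := rfl
theorem L664625 : sm gc N47767 = N44287 := ded_28_1 (flp_e L374692) L374686 L664623
theorem L664627 : sm gg N47767 = N45105 := ded_41_2 (flp_e L664591) L664593 L664623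
theorem L664629 : sm gj N47767 = N44532 := ded_42_2 (flp_e L376763) (flp_j L374688) L664623
theorem L664631 : sm gh N47767 = N45114 := ded_43_2 (flp_e L652387) L652389 L664623
theorem L664633 : sm gd N47767 = N47767 := ded_34_1 (flp_e L664623) L374690 L257731 (flp_d L374690) L664623
theorem L664634 : sm gi N44286 = N47768 := rfl
theorem L664636 : sm gc N47768 = N44288 := ded_33_1 (flp_i L374700) L374686 L664634
theorem L664638 : sm gd N47768 = N44308 := ded_39_1 (flp_i L374879) (flp_d L374690) L664634
theorem L664640 : sm gj N47768 = N44533 := ded_53_1 (flp_i L376768) (flp_j L374688) L664634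
theorem L664642 : sm gf N44287 = N47769 := rfl
theorem L664644 : sm gb N47769 = N45120 := ded_22_1 (flp_f L381771) (flp_b L374694) L664642
theorem L664646 : sm gd N47769 = N44293 := ded_35_1 (flp_f L374750) (flp_d L374698) L664642
theorem L664648 : sm gj N47769 = N44534 := ded_46_2 (flp_f L376774) (flp_j L374696) L664642
theorem L664650 : sm gh N47769 = N45110 := ded_47_2 L381706 (flp_h L612163) L664642
theorem L664652 : sm gi N44287 = N47770 := rfl
theorem L664654 : sm gb N47770 = N45121 := ded_26_1 (flp_i L381777) (flp_b L374694) L664652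
theorem L664656 : sm gd N47770 = N44294 := ded_39_1 (flp_i L374761) (flp_d L374698) L664652
theorem L664658 : sm ge N47770 = N44288 := ded_44_1 (flp_i L374700) L374692 L664652
theorem L664660 : sm gg N47770 = N45107 := ded_51_1 (flp_i L381682) (flp_g L612161) L664652
theorem L664662 : sm gj N47770 = N44535 := ded_53_1 (flp_i L376780) (flp_j L374696) L664652
theorem L664664 : sm gh N44288 = N47771 := rfl
theorem L664666 : sm gb N47771 = N45122 := ded_25_1 (flp_h L381785) (flp_b L374702) L664664
theorem L664668 : sm gj N47771 = N44536 := ded_52_1 (flp_h L376788) (flp_j L374706) L664664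
theorem L664670 : sm gi N44293 = N47772 := rfl
theorem L664672 : sm gb N47772 = N45129 := ded_26_1 (flp_i L381842) (flp_b L374752) L664670
theorem L664674 : sm gc N47772 = N47772 := ded_33_1 (flp_i L664670) L374754 L664670
theorem L664675 : sm ge N47772 = N44297 := ded_44_1 (flp_i L374789) (flp_e L374759) L664670
theorem L664677 : sm gf N47772 = N44294 := ded_48_1 (flp_i L374761) L374750 L664670
theorem L664679 : sm gj N47772 = N44543 := ded_53_1 (flp_i L376850) (flp_j L374755) L664670
theorem L664681 : sm gj N44296 = N47773 := rfl
theorem L664683 : sm gb N47773 = N45131 := ded_24_1 (flp_j L381862) (flp_b L374783) L664681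
theorem L664685 : sm gc N47773 = N47773 := ded_31_1 (flp_j L664681) L374785 L664681
theorem L664686 : sm gf N47773 = N47773 := ded_46_1 (flp_j L664681) L374788 L664681
theorem L664687 : sm gh N47773 = N46382 := ded_52_2 L649768 (flp_h L374786) L664681
theorem L664689 : sm gg N47773 = N44545 := ded_49_1 (flp_j L376868) (flp_g L259076) (flp_j L257666) L374781 L664681
theorem L664691 : sm gi N46398 = N47773 := ded_26_0 L664683 (flp_i L649058) (flp_b L649881)
theorem L664693 : sm gi N44296 = N47774 := rfl
theorem L664695 : sm gb N47774 = N45132 := ded_26_1 (flp_i L381871) (flp_b L374783) L664693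
theorem L664697 : sm gc N47774 = N47774 := ded_33_1 (flp_i L664693) L374785 L664693
theorem L664698 : sm gf N47774 = N47774 := ded_48_1 (flp_i L664693) L374788 L664693
theorem L664699 : sm gg N47774 = N44297 := ded_51_1 (flp_i L374789) L374781 L664693
theorem L664701 : sm gj N47774 = N46398 := ded_53_1 L664691 (flp_j L664681) L664693
theorem L664703 : sm gh N47774 = N46344 := ded_54_1 (flp_i L649433) L649209 (flp_i L648326) (flp_h L374786) L664693
theorem L664705 : sm gc N44303 = N47775 := rfl
theorem L664707 : sm ge N47775 = N47775 := ded_28_2 (flp_c L664705) L374847 L664705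
theorem L664708 : sm gg N47775 = N44555 := ded_30_2 (flp_c L376948) (flp_g L374843) L664705
theorem L664710 : sm gj N47775 = N44305 := ded_31_2 (flp_c L374858) (flp_j L374845) L664705
theorem L664712 : sm gh N47775 = N46383 := ded_32_2 L649772 L648953 L664705
theorem L664714 : sm gd N47775 = N45384 := ded_27_2 L383900 L263822 (flp_c L617548) L374839 L664705
theorem L664716 : sm gi N44305 = N47776 := rfl
theorem L664718 : sm gc N47776 = N44306 := ded_33_1 (flp_i L374863) L374858 L664716
theorem L664720 : sm ge N47776 = N47776 := ded_44_1 (flp_i L664716) L374860 L664716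
theorem L664721 : sm gg N47776 = N44308 := ded_51_1 (flp_i L374879) (flp_g L374861) L664716
theorem L664723 : sm gi N44307 = N47777 := rfl
theorem L664725 : sm gb N47777 = N44308 := ded_26_1 (flp_i L374879) L374872 L664723
theorem L664727 : sm gc N47777 = N44322 := ded_33_1 (flp_i L374990) (flp_c L374877) L664723
theorem L664729 : sm ge N47777 = N47777 := ded_44_1 (flp_i L664723) L374874 L664723
theorem L664730 : sm gf N47777 = N45007 := ded_48_1 (flp_i L380809) (flp_f L637292) L664723
theorem L664732 : sm gj N47777 = N44561 := ded_53_1 (flp_i L376988) (flp_j L374875) L664723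
theorem L664734 : sm gh N47777 = N45111 := ded_54_1 (flp_i L381708) (flp_h L262328) (flp_i L261710) (flp_h L637294) L664723
theorem L664736 : sm gi N44321 = N47778 := rfl
theorem L664738 : sm ga N47778 = N44322 := ded_18_1 (flp_i L374990) L374982 L664736
theorem L664740 : sm gb N47778 = N47778 := ded_26_1 (flp_i L664736) L374989 L664736
theorem L664741 : sm gd N47778 = N45165 := ded_39_1 (flp_i L382150) (flp_d L374984) L664736
theorem L664743 : sm ge N47778 = N47778 := ded_44_1 (flp_i L664736) L374986 L664736
theorem L664744 : sm gf N47778 = N44994 := ded_48_1 (flp_i L380697) (flp_f L637298) L664736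
theorem L664746 : sm gj N47778 = N44579 := ded_53_1 (flp_i L377122) (flp_j L374987) L664736
theorem L664748 : sm gh N47778 = N45091 := ded_54_1 (flp_i L381548) (flp_h L262217) (flp_i L261624) (flp_h L637300) L664736
theorem L664750 : sm gh N44412 = N47779 := rfl
theorem L664752 : sm ga N47779 = N44523 := ded_17_1 (flp_h L376691) (flp_a L611660) L664750
theorem L664754 : sm gb N47779 = N45223 := ded_25_1 (flp_h L382657) (flp_b L375795) L664750
theorem L664756 : sm gc N47779 = N44503 := ded_32_1 (flp_h L376541) (flp_c L611662) L664750
theorem L664758 : sm ge N47779 = N44827 := ded_43_1 (flp_h L379286) (flp_e L611664) L664750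
theorem L664760 : sm gf N47779 = N44414 := ded_47_1 (flp_h L375811) L375793 L664750
theorem L664762 : sm gj N47779 = N44485 := ded_52_1 (flp_h L376387) (flp_j L611666) L664750
theorem L664764 : sm gd N44414 = N47780 := rfl
theorem L664766 : sm ga N47780 = N44526 := ded_12_1 (flp_d L376719) (flp_a L611648) L664764
theorem L664768 : sm gb N47780 = N45225 := ded_20_1 (flp_d L382669) (flp_b L375813) L664764
theorem L664770 : sm gg N47780 = N44415 := ded_36_2 (flp_d L375819) (flp_g L375817) L664764
theorem L664772 : sm gj N47780 = N44487 := ded_37_2 (flp_d L376407) (flp_j L611654) L664764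
theorem L664774 : sm ge N47780 = N45326 := ded_34_2 (flp_d L383418) L263494 (flp_d L622168) L622170 L664764
theorem L664776 : sm gh N47780 = N44420 := ded_38_2 (flp_d L375865) (flp_h L258390) (flp_d L258358) L375811 L664764
theorem L664778 : sm gi N44414 = N47781 := rfl
theorem L664780 : sm ga N47781 = N44527 := ded_18_1 (flp_i L376725) (flp_a L611648) L664778
theorem L664782 : sm gb N47781 = N45226 := ded_26_1 (flp_i L382675) (flp_b L375813) L664778
theorem L664784 : sm gc N47781 = N44507 := ded_33_1 (flp_i L376576) (flp_c L611650) L664778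
theorem L664786 : sm ge N47781 = N44493 := ded_44_1 (flp_i L376452) L622170 L664778
theorem L664788 : sm gg N47781 = N44416 := ded_51_1 (flp_i L375825) (flp_g L375817) L664778
theorem L664790 : sm gj N47781 = N44488 := ded_53_1 (flp_i L376413) (flp_j L611654) L664778
theorem L664792 : sm gh N47781 = N44518 := ded_54_1 (flp_i L376657) (flp_h L258928) (flp_i L258362) L375811 L664778
theorem L664794 : sm gc N44415 = N47782 := rfl
theorem L664796 : sm ga N47782 = N45384 := ded_11_1 L383900 (flp_a L576774) L664794
theorem L664798 : sm ge N47782 = N45328 := ded_28_2 (flp_c L383435) (flp_e L576776) L664794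
theorem L664800 : sm gh N47782 = N44422 := ded_32_2 (flp_c L375883) (flp_h L375823) L664794
theorem L664802 : sm gi N44415 = N47783 := rfl
theorem L664804 : sm ga N47783 = N45387 := ded_18_1 (flp_i L383915) (flp_a L576774) L664802
theorem L664806 : sm gb N47783 = N45229 := ded_26_1 (flp_i L382695) (flp_b L375821) L664802
theorem L664808 : sm gd N47783 = N44416 := ded_39_1 (flp_i L375825) L375819 L664802
theorem L664810 : sm ge N47783 = N45330 := ded_44_1 (flp_i L383450) (flp_e L576776) L664802
theorem L664812 : sm gd N44418 = N47784 := rfl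
theorem L664814 : sm ga N47784 = N45401 := ded_12_1 L384007 (flp_a L567734) L664812
theorem L664816 : sm gb N47784 = N45232 := ded_20_1 (flp_d L382717) (flp_b L375847) L664812
theorem L664818 : sm gf N47784 = N44420 := ded_35_2 (flp_d L375865) (flp_f L375853) L664812
theorem L664820 : sm gi N44418 = N47785 := rfl
theorem L664822 : sm ga N47785 = N45417 := ded_18_1 (flp_i L384107) (flp_a L567734) L664820
theorem L664824 : sm gb N47785 = N45233 := ded_26_1 (flp_i L382721) (flp_b L375847) L664820
theorem L664826 : sm gc N47785 = N44438 := ded_33_1 (flp_i L376011) (flp_c L375849) L664820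
theorem L664828 : sm ge N47785 = N44728 := ded_44_1 (flp_i L378453) (flp_e L375851) L664820
theorem L664830 : sm gf N47785 = N44421 := ded_48_1 (flp_i L375871) (flp_f L375853) L664820
theorem L664832 : sm gh N47785 = N44525 := ded_54_1 (flp_i L376709) (flp_h L258958) (flp_i L258376) L375845 L664820
theorem L664834 : sm gi N44420 = N47786 := rfl
theorem L664836 : sm ga N47786 = N45402 := ded_18_1 (flp_i L384009) (flp_a L521718) L664834
theorem L664838 : sm gb N47786 = N45238 := ded_26_1 (flp_i L382757) (flp_b L375867) L664834
theorem L664840 : sm gd N47786 = N44421 := ded_39_1 (flp_i L375871) L375865 L664834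
theorem L664842 : sm ge N47786 = N45339 := ded_44_1 (flp_i L383524) (flp_e L521721) L664834
theorem L664844 : sm gg N47786 = N44424 := ded_51_1 (flp_i L375893) (flp_g L375869) L664834
theorem L664846 : sm gi N44422 = N47787 := rfl
theorem L664848 : sm ga N47787 = N45408 := ded_18_1 (flp_i L384043) (flp_a L521682) L664846
theorem L664850 : sm gc N47787 = N44424 := ded_33_1 (flp_i L375893) L375883 L664846
theorem L664852 : sm gd N47787 = N44444 := ded_39_1 (flp_i L376053) (flp_d L375885) L664846
theorem L664854 : sm ge N47787 = N45342 := ded_44_1 (flp_i L383544) (flp_e L521687) L664846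
theorem L664856 : sm gh N44424 = N47788 := rfl
theorem L664858 : sm ga N47788 = N45412 := ded_17_1 (flp_h L384065) (flp_a L521708) L664856
theorem L664860 : sm gb N47788 = N45244 := ded_25_1 (flp_h L382788) (flp_b L375895) L664856
theorem L664862 : sm ge N47788 = N45345 := ded_43_1 (flp_h L383566) (flp_e L521711) L664856
theorem L664864 : sm gd N47788 = N44536 := ded_38_1 (flp_h L376788) L259008 (flp_h L258412) (flp_d L375897) L664856
theorem L664866 : sm gh N44444 = N47789 := rfl
theorem L664868 : sm ga N47789 = N46401 := ded_17_1 (flp_h L649897) L648424 L664866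
theorem L664870 : sm gc N47789 = N44445 := ded_32_1 (flp_h L376057) (flp_c L376055) L664866
theorem L664872 : sm ge N47789 = N46373 := ded_43_1 (flp_h L649685) (flp_e L648426) L664866
theorem L664874 : sm gh N44463 = N47790 := rfl
theorem L664876 : sm ga N47790 = N45247 := ded_17_1 L552224 (flp_a L376190) L664874
theorem L664878 : sm gb N47790 = N44485 := ded_25_1 (flp_h L376387) (flp_b L376192) L664874
theorem L664880 : sm gc N47790 = N47790 := ded_32_1 (flp_h L664874) L376194 L664874
theorem L664881 : sm ge N47790 = N44793 := ded_43_1 (flp_h L378973) (flp_e L376195) L664874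
theorem L664883 : sm gf N47790 = N44465 := ded_47_1 (flp_h L376206) L376188 L664874
theorem L664885 : sm gj N47790 = N45223 := ded_52_1 (flp_h L382657) (flp_j L622138) L664874
theorem L664887 : sm gd N44465 = N47791 := rfl
theorem L664889 : sm ga N47791 = N45237 := ded_12_1 L382755 (flp_a L552229) L664887
theorem L664891 : sm gb N47791 = N44487 := ded_20_1 (flp_d L376407) (flp_b L376210) L664887
theorem L664893 : sm gg N47791 = N44466 := ded_36_2 (flp_d L376217) (flp_g L376215) L664887
theorem L664895 : sm gj N47791 = N45225 := ded_37_2 (flp_d L382669) (flp_j L606959) L664887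
theorem L664897 : sm ge N47791 = N45195 := ded_34_2 (flp_d L382407) L262805 L576471 (flp_e L376213) L664887
theorem L664899 : sm gh N47791 = N45234 := ded_38_2 (flp_d L382731) (flp_h L263027) L622142 L376206 L664887
theorem L664901 : sm gi N44465 = N47792 := rfl
theorem L664903 : sm ga N47792 = N45248 := ded_18_1 (flp_i L382815) (flp_a L552229) L664901
theorem L664905 : sm gb N47792 = N44488 := ded_26_1 (flp_i L376413) (flp_b L376210) L664901
theorem L664907 : sm gc N47792 = N47792 := ded_33_1 (flp_i L664901) L376212 L664901
theorem L664908 : sm ge N47792 = N44470 := ded_44_1 (flp_i L376255) (flp_e L376213) L664901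
theorem L664910 : sm gg N47792 = N44467 := ded_51_1 (flp_i L376223) (flp_g L376215) L664901
theorem L664912 : sm gj N47792 = N45226 := ded_53_1 (flp_i L382675) (flp_j L606959) L664901
theorem L664914 : sm gh N47792 = N44540 := ded_54_1 (flp_i L376821) L607032 L607008 L376206 L664901
theorem L664916 : sm gi N44466 = N47793 := rfl
theorem L664918 : sm ga N47793 = N45243 := ded_18_1 (flp_i L382782) (flp_a L552237) L664916
theorem L664920 : sm gb N47793 = N44491 := ded_26_1 (flp_i L376435) (flp_b L376221) L664916
theorem L664922 : sm gd N47793 = N44467 := ded_39_1 (flp_i L376223) L376217 L664916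
theorem L664924 : sm ge N47793 = N45199 := ded_44_1 (flp_i L382437) (flp_e L552239) L664916
theorem L664926 : sm gd N44485 = N47794 := rfl
theorem L664928 : sm ga N47794 = N44524 := ded_12_1 (flp_d L376703) (flp_a L376389) L664926
theorem L664930 : sm gf N47794 = N44487 := ded_35_2 (flp_d L376407) (flp_f L376395) L664926
theorem L664932 : sm gi N44485 = N47795 := rfl
theorem L664934 : sm ga N47795 = N44525 := ded_18_1 (flp_i L376709) (flp_a L376389) L664932
theorem L664936 : sm gc N47795 = N44505 := ded_33_1 (flp_i L376559) (flp_c L376391) L664932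
theorem L664938 : sm ge N47795 = N44829 := ded_44_1 (flp_i L379302) (flp_e L376393) L664932
theorem L664940 : sm gf N47795 = N44488 := ded_48_1 (flp_i L376413) (flp_f L376395) L664932
theorem L664942 : sm gh N47795 = N45417 := ded_54_1 (flp_i L384107) L263936 (flp_i L591904) L376387 L664932
theorem L664944 : sm ge N44487 = N47796 := rfl
theorem L664946 : sm ga N47796 = N44529 := ded_13_1 (flp_e L376741) (flp_a L376409) L664944
theorem L664948 : sm gb N47796 = N45195 := ded_21_1 (flp_e L664897) L664891 L664944
theorem L664950 : sm gg N47796 = N44490 := ded_41_2 (flp_e L376429) (flp_g L376411) L664944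
theorem L664952 : sm gj N47796 = N45326 := ded_42_2 (flp_e L664774) L664772 L664944
theorem L664954 : sm gh N47796 = N45335 := ded_43_2 L653739 L653735 L664944
theorem L664956 : sm gd N47796 = N44494 := ded_34_1 (flp_e L376462) (flp_d L258785) (flp_e L258759) L376407 L664944
theorem L664958 : sm gi N44487 = N47797 := rfl
theorem L664960 : sm ga N47797 = N44530 := ded_18_1 (flp_i L376749) (flp_a L376409) L664958
theorem L664962 : sm gd N47797 = N44488 := ded_39_1 (flp_i L376413) L376407 L664958
theorem L664964 : sm gg N47797 = N44491 := ded_51_1 (flp_i L376435) (flp_g L376411) L664958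
theorem L664966 : sm gi N44490 = N47798 := rfl
theorem L664968 : sm ga N47798 = N44535 := ded_18_1 (flp_i L376780) (flp_a L376431) L664966
theorem L664970 : sm gb N47798 = N45199 := ded_26_1 (flp_i L382437) (flp_b L550202) L664966
theorem L664972 : sm gd N47798 = N44497 := ded_39_1 (flp_i L376491) (flp_d L376433) L664966
theorem L664974 : sm ge N47798 = N44491 := ded_44_1 (flp_i L376435) L376429 L664966
theorem L664976 : sm gh N44491 = N47799 := rfl
theorem L664978 : sm ga N47799 = N44536 := ded_17_1 (flp_h L376788) (flp_a L376437) L664976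
theorem L664980 : sm gd N47799 = N45412 := ded_38_1 (flp_h L384065) L263908 L455320 (flp_d L376439) L664976
theorem L664982 : sm gf N44494 = N47800 := rfl
theorem L664984 : sm ga N47800 = N44539 := ded_14_1 (flp_f L376812) (flp_a L376464) L664982
theorem L664986 : sm gb N47800 = N45193 := ded_22_1 L382395 (flp_b L576464) L664982
theorem L664988 : sm gc N47800 = N47800 := ded_29_1 (flp_f L664982) L376466 L664982
theorem L664989 : sm gj N47800 = N45324 := ded_46_2 L383407 (flp_j L622091) L664982
theorem L664991 : sm gh N47800 = N45171 := ded_47_2 (flp_f L382198) L576504 L664982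
theorem L664993 : sm ge N47800 = N44843 := ded_40_1 (flp_f L379415) (flp_e L260764) (flp_f L258789) L376462 L664982
theorem L664995 : sm gi N44494 = N47801 := rfl
theorem L664997 : sm ga N47801 = N44540 := ded_18_1 (flp_i L376821) (flp_a L376464) L664995
theorem L664999 : sm gb N47801 = N45196 := ded_26_1 (flp_i L382413) (flp_b L576464) L664995
theorem L665001 : sm gc N47801 = N47801 := ded_33_1 (flp_i L664995) L376466 L664995
theorem L665002 : sm ge N47801 = N44495 := ded_44_1 (flp_i L376471) L376462 L664995
theorem L665004 : sm gg N47801 = N44497 := ded_51_1 (flp_i L376491) (flp_g L376467) L664995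
theorem L665006 : sm gj N47801 = N45327 := ded_53_1 (flp_i L383426) (flp_j L622091) L664995
theorem L665008 : sm gh N47801 = N45248 := ded_54_1 (flp_i L382815) (flp_h L504915) (flp_i L262691) L576504 L664995
theorem L665010 : sm gh N44502 = N47802 := rfl
theorem L665012 : sm ga N47802 = N44549 := ded_17_1 (flp_h L376903) (flp_a L376536) L665010
theorem L665014 : sm gb N47802 = N47802 := ded_25_1 (flp_h L665010) L376538 L665010
theorem L665015 : sm ge N47802 = N44853 := ded_43_1 (flp_h L379501) (flp_e L376539) L665010
theorem L665017 : sm gf N47802 = N46403 := ded_47_1 L651897 L651893 L665010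
theorem L665019 : sm gg N47802 = N44503 := ded_50_1 (flp_h L376541) L376534 L665010
theorem L665021 : sm gj N47802 = N46391 := ded_52_1 (flp_h L653522) L653528 L665010
theorem L665023 : sm gd N47802 = N46407 := ded_38_1 L649945 (flp_d L651271) (flp_h L651928) L651924 L665010
theorem L665025 : sm gd N44503 = N47803 := rfl
theorem L665027 : sm ga N47803 = N44550 := ded_12_1 (flp_d L376911) (flp_a L376543) L665025
theorem L665029 : sm gb N47803 = N47803 := ded_20_1 (flp_d L665025) L376545 L665025
theorem L665030 : sm gf N47803 = N44506 := ded_35_2 (flp_d L376568) (flp_f L376548) L665025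
theorem L665032 : sm gg N47803 = N46407 := ded_36_2 (flp_d L665023) L665019 L665025
theorem L665034 : sm gj N47803 = N44504 := ded_37_2 (flp_d L376552) (flp_j L376550) L665025
theorem L665036 : sm gh N47803 = N46567 := ded_38_2 (flp_d L652036) L652041 L621342 L376541 L665025
theorem L665038 : sm ge N46517 = N47803 := ded_13_0 L665027 (flp_e L654372) L654368
theorem L665040 : sm gi N44503 = N47804 := rfl
theorem L665042 : sm ga N47804 = N44551 := ded_18_1 (flp_i L376919) (flp_a L376543) L665040
theorem L665044 : sm gb N47804 = N47804 := ded_26_1 (flp_i L665040) L376545 L665040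
theorem L665045 : sm ge N47804 = N44855 := ded_44_1 (flp_i L379519) (flp_e L376546) L665040
theorem L665047 : sm gf N47804 = N44507 := ded_48_1 (flp_i L376576) (flp_f L376548) L665040
theorem L665049 : sm gj N47804 = N44505 := ded_53_1 (flp_i L376559) (flp_j L376550) L665040
theorem L665051 : sm gh N47804 = N46406 := ded_54_1 (flp_i L649929) L271465 (flp_i L483795) L376541 L665040
theorem L665053 : sm gi N44504 = N47805 := rfl
theorem L665055 : sm ga N47805 = N44554 := ded_18_1 (flp_i L376940) (flp_a L376554) L665053
theorem L665057 : sm gb N47805 = N47805 := ded_26_1 (flp_i L665053) L376556 L665053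
theorem L665058 : sm gd N47805 = N44505 := ded_39_1 (flp_i L376559) L376552 L665053
theorem L665060 : sm ge N47805 = N46518 := ded_44_1 (flp_i L650873) (flp_e L649353) L665053
theorem L665062 : sm gf N47805 = N44509 := ded_48_1 (flp_i L376592) (flp_f L376557) L665053
theorem L665064 : sm gg N47805 = N46406 := ded_51_1 (flp_i L649929) (flp_g L649275) L665053
theorem L665066 : sm gi N44506 = N47806 := rfl
theorem L665068 : sm ga N47806 = N44556 := ded_18_1 (flp_i L376953) (flp_a L376570) L665066
theorem L665070 : sm gb N47806 = N47806 := ded_26_1 (flp_i L665066) L376572 L665066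
theorem L665071 : sm gd N47806 = N44507 := ded_39_1 (flp_i L376576) L376568 L665066
theorem L665073 : sm ge N47806 = N47806 := ded_44_1 (flp_i L665066) L376575 L665066
theorem L665074 : sm gg N47806 = N46405 := ded_51_1 (flp_i L664409) L664405 L665066
theorem L665076 : sm gj N47806 = N44509 := ded_53_1 (flp_i L376592) (flp_j L376573) L665066
theorem L665078 : sm gh N47806 = N46404 := ded_54_1 (flp_i L649915) (flp_h L649798) (flp_i L652025) L652023 L665066
theorem L665080 : sm gh N44509 = N47807 := rfl
theorem L665082 : sm ga N47807 = N44559 := ded_17_1 (flp_h L376976) (flp_a L376594) L665080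
theorem L665084 : sm gb N47807 = N47807 := ded_25_1 (flp_h L665080) L376596 L665080
theorem L665085 : sm ge N47807 = N47807 := ded_43_1 (flp_h L665080) L376599 L665080
theorem L665086 : sm gg N47807 = N44512 := ded_50_1 (flp_h L376613) (flp_g L376600) L665080
theorem L665088 : sm gj N47807 = N46404 := ded_52_1 (flp_h L665078) L665076 L665080
theorem L665090 : sm gd N47807 = N46393 := ded_38_1 (flp_h L649842) L271394 (flp_h L591889) (flp_d L376597) L665080
theorem L665092 : sm gi N47807 = N46403 := ded_54_2 L651897 L651891 L645145 L376592 L665080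
theorem L665094 : sm gd N44515 = N47808 := rfl
theorem L665096 : sm gb N47808 = N45376 := ded_20_1 (flp_d L383848) (flp_b L376637) L665094
theorem L665098 : sm gf N47808 = N44517 := ded_35_2 (flp_d L376649) (flp_f L376639) L665094
theorem L665100 : sm gj N47808 = N45401 := ded_37_2 L384007 (flp_j L611456) L665094
theorem L665102 : sm gh N47808 = N44524 := ded_38_2 (flp_d L376703) (flp_h L258958) (flp_d L258918) L376635 L665094
theorem L665104 : sm gi N44515 = N47809 := rfl
theorem L665106 : sm gb N47809 = N45377 := ded_26_1 (flp_i L383854) (flp_b L376637) L665104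
theorem L665108 : sm gc N47809 = N46406 := ded_33_1 (flp_i L649929) (flp_c L611449) L665104
theorem L665110 : sm ge N47809 = N45847 := ded_44_1 (flp_i L387555) (flp_e L611451) L665104
theorem L665112 : sm gf N47809 = N44518 := ded_48_1 (flp_i L376657) (flp_f L376639) L665104
theorem L665114 : sm gj N47809 = N45417 := ded_53_1 (flp_i L384107) (flp_j L611456) L665104
theorem L665116 : sm gi N44517 = N47810 := rfl
theorem L665118 : sm gb N47810 = N45382 := ded_26_1 (flp_i L383887) (flp_b L376651) L665116
theorem L665120 : sm gd N47810 = N44518 := ded_39_1 (flp_i L376657) L376649 L665116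
theorem L665122 : sm ge N47810 = N45397 := ded_44_1 (flp_i L383977) (flp_e L611547) L665116
theorem L665124 : sm gg N47810 = N44521 := ded_51_1 (flp_i L376677) (flp_g L376653) L665116
theorem L665126 : sm gj N47810 = N45402 := ded_53_1 (flp_i L384009) (flp_j L611549) L665116
theorem L665128 : sm gf N44520 = N47811 := rfl
theorem L665130 : sm gb N47811 = N45386 := ded_22_1 (flp_f L383909) (flp_b L376671) L665128
theorem L665132 : sm gd N47811 = N45109 := ded_35_1 L381700 (flp_d L617531) L665128
theorem L665134 : sm gj N47811 = N45110 := ded_46_2 L381706 (flp_j L617535) L665128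
theorem L665136 : sm gh N47811 = N44534 := ded_47_2 (flp_f L376774) (flp_h L376673) L665128
theorem L665138 : sm gi N44520 = N47812 := rfl
theorem L665140 : sm gb N47812 = N45387 := ded_26_1 (flp_i L383915) (flp_b L376671) L665138
theorem L665142 : sm gd N47812 = N45113 := ded_39_1 (flp_i L381721) (flp_d L617531) L665138
theorem L665144 : sm ge N47812 = N44521 := ded_44_1 (flp_i L376677) L376669 L665138
theorem L665146 : sm gg N47812 = N45397 := ded_51_1 (flp_i L383977) (flp_g L617533) L665138
theorem L665148 : sm gj N47812 = N45116 := ded_53_1 (flp_i L381743) (flp_j L617535) L665138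
theorem L665150 : sm gh N44521 = N47813 := rfl
theorem L665152 : sm gb N47813 = N45388 := ded_25_1 (flp_h L383921) (flp_b L376679) L665150
theorem L665154 : sm gi N47813 = N44536 := ded_54_2 (flp_h L376788) (flp_i L259004) (flp_h L258940) L376677 L665150
theorem L665156 : sm gh N44522 = N47814 := rfl
theorem L665158 : sm gb N47814 = N45389 := ded_25_1 (flp_h L383925) (flp_b L376685) L665156
theorem L665160 : sm gc N47814 = N44549 := ded_32_1 (flp_h L376903) (flp_c L376687) L665156
theorem L665162 : sm ge N47814 = N44884 := ded_43_1 (flp_h L379760) (flp_e L376689) L665156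
theorem L665164 : sm gf N47814 = N46536 := ded_47_1 L651041 (flp_f L648943) L665156
theorem L665166 : sm gg N47814 = N44523 := ded_50_1 (flp_h L376691) L376683 L665156
theorem L665168 : sm gd N44523 = N47815 := rfl
theorem L665170 : sm gb N47815 = N45390 := ded_20_1 (flp_d L383933) (flp_b L376693) L665168
theorem L665172 : sm gf N47815 = N44526 := ded_35_2 (flp_d L376719) (flp_f L376699) L665168
theorem L665174 : sm gj N47815 = N44524 := ded_37_2 (flp_d L376703) (flp_j L376701) L665168
theorem L665176 : sm gh N47815 = N45401 := ded_38_2 L384007 L263936 L617222 L376691 L665168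
theorem L665178 : sm gi N44523 = N47816 := rfl
theorem L665180 : sm gb N47816 = N45391 := ded_26_1 (flp_i L383939) (flp_b L376693) L665178
theorem L665182 : sm gc N47816 = N44551 := ded_33_1 (flp_i L376919) (flp_c L376695) L665178
theorem L665184 : sm ge N47816 = N44886 := ded_44_1 (flp_i L379777) (flp_e L376697) L665178
theorem L665186 : sm gf N47816 = N44527 := ded_48_1 (flp_i L376725) (flp_f L376699) L665178
theorem L665188 : sm gj N47816 = N44525 := ded_53_1 (flp_i L376709) (flp_j L376701) L665178
theorem L665190 : sm gc N44524 = N47817 := rfl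
theorem L665192 : sm gf N47817 = N44528 := ded_29_2 (flp_c L376735) (flp_f L376707) L665190
theorem L665194 : sm gd N47817 = N44552 := ded_27_2 (flp_c L376929) (flp_d L259119) (flp_c L258962) L376703 L665190
theorem L665196 : sm ge N44524 = N47818 := rfl
theorem L665198 : sm gb N47818 = N45393 := ded_21_1 (flp_e L383955) (flp_b L376705) L665196
theorem L665200 : sm gd N47818 = N44888 := ded_34_1 (flp_e L379793) (flp_d L261015) (flp_e L258964) L376703 L665196
theorem L665202 : sm gi N44524 = N47819 := rfl
theorem L665204 : sm gb N47819 = N45394 := ded_26_1 (flp_i L383959) (flp_b L376705) L665202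
theorem L665206 : sm gd N47819 = N44525 := ded_39_1 (flp_i L376709) L376703 L665202
theorem L665208 : sm gf N47819 = N44530 := ded_48_1 (flp_i L376749) (flp_f L376707) L665202
theorem L665210 : sm gc N44526 = N47820 := rfl
theorem L665212 : sm ge N47820 = N45380 := ded_28_2 (flp_c L383872) (flp_e L611615) L665210
theorem L665214 : sm gg N47820 = N45384 := ded_30_2 L383900 (flp_g L611617) L665210
theorem L665216 : sm gj N47820 = N44528 := ded_31_2 (flp_c L376735) (flp_j L376723) L665210
theorem L665218 : sm gh N47820 = N45399 := ded_32_2 L383991 (flp_h L611619) L665210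
theorem L665220 : sm gd N47820 = N44555 := ded_27_2 (flp_c L376948) (flp_d L259133) (flp_c L258972) L376719 L665210
theorem L665222 : sm gi N44526 = N47821 := rfl
theorem L665224 : sm gb N47821 = N45397 := ded_26_1 (flp_i L383977) (flp_b L376721) L665222
theorem L665226 : sm gd N47821 = N44527 := ded_39_1 (flp_i L376725) L376719 L665222
theorem L665228 : sm ge N47821 = N45382 := ded_44_1 (flp_i L383887) (flp_e L611615) L665222
theorem L665230 : sm gg N47821 = N45387 := ded_51_1 (flp_i L383915) (flp_g L611617) L665222
theorem L665232 : sm gj N47821 = N44530 := ded_53_1 (flp_i L376749) (flp_j L376723) L665222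
theorem L665234 : sm gb N44528 = N47822 := rfl
theorem L665236 : sm gd N47822 = N44557 := ded_20_2 (flp_b L376962) (flp_d L376739) L665234
theorem L665238 : sm gg N47822 = N44531 := ded_23_2 (flp_b L376757) (flp_g L376737) L665234
theorem L665240 : sm gc N47822 = N45398 := ded_19_2 (flp_b L383983) (flp_c L263868) (flp_b L258980) L376735 L665234
theorem L665242 : sm ge N44528 = N47823 := rfl
theorem L665244 : sm gc N47823 = N44529 := ded_28_1 (flp_e L376741) L376735 L665242
theorem L665246 : sm gg N47823 = N44532 := ded_41_2 (flp_e L376763) (flp_g L376737) L665242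
theorem L665248 : sm gj N47823 = N45380 := ded_42_2 (flp_e L665212) L665216 L665242
theorem L665250 : sm gh N47823 = N45395 := ded_43_2 (flp_e L653397) L653399 L665242
theorem L665252 : sm gd N47823 = N47823 := ded_34_1 (flp_e L665242) L376739 L259150 (flp_d L376739) L665242
theorem L665253 : sm gi N44528 = N47824 := rfl
theorem L665255 : sm gc N47824 = N44530 := ded_33_1 (flp_i L376749) L376735 L665253
theorem L665257 : sm gd N47824 = N44558 := ded_39_1 (flp_i L376969) (flp_d L376739) L665253
theorem L665259 : sm gg N47824 = N44533 := ded_51_1 (flp_i L376768) (flp_g L376737) L665253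
theorem L665261 : sm gf N44529 = N47825 := rfl
theorem L665263 : sm gb N47825 = N45401 := ded_22_1 (flp_f L384005) (flp_b L376743) L665261
theorem L665265 : sm gd N47825 = N44539 := ded_35_1 (flp_f L376812) (flp_d L376747) L665261
theorem L665267 : sm gj N47825 = N45376 := ded_46_2 L383850 (flp_j L622083) L665261
theorem L665269 : sm gh N47825 = N45390 := ded_47_2 L383935 (flp_h L622085) L665261
theorem L665271 : sm gi N44529 = N47826 := rfl
theorem L665273 : sm gb N47826 = N45402 := ded_26_1 (flp_i L384009) (flp_b L376743) L665271
theorem L665275 : sm gd N47826 = N44540 := ded_39_1 (flp_i L376821) (flp_d L376747) L665271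
theorem L665277 : sm ge N47826 = N44530 := ded_44_1 (flp_i L376749) L376741 L665271
theorem L665279 : sm gg N47826 = N44535 := ded_51_1 (flp_i L376780) (flp_g L376745) L665271
theorem L665281 : sm gj N47826 = N45382 := ded_53_1 (flp_i L383887) (flp_j L622083) L665271
theorem L665283 : sm gh N44530 = N47827 := rfl
theorem L665285 : sm gb N47827 = N45403 := ded_25_1 (flp_h L384017) (flp_b L376751) L665283
theorem L665287 : sm gg N47827 = N44536 := ded_50_1 (flp_h L376788) (flp_g L376755) L665283
theorem L665289 : sm ge N44531 = N47828 := rfl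
theorem L665291 : sm gb N47828 = N44532 := ded_21_1 (flp_e L376763) L376757 L665289
theorem L665293 : sm gc N47828 = N45405 := ded_28_1 (flp_e L384025) (flp_c L376761) L665289
theorem L665295 : sm gd N47828 = N47828 := ded_34_1 (flp_e L665289) L376759 L259164 (flp_d L376759) L665289
theorem L665296 : sm gi N44531 = N47829 := rfl
theorem L665298 : sm gb N47829 = N44533 := ded_26_1 (flp_i L376768) L376757 L665296
theorem L665300 : sm gc N47829 = N45406 := ded_33_1 (flp_i L384031) (flp_c L376761) L665296
theorem L665302 : sm gd N47829 = N44561 := ded_39_1 (flp_i L376988) (flp_d L376759) L665296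
theorem L665304 : sm gf N44532 = N47830 := rfl
theorem L665306 : sm gc N47830 = N44534 := ded_29_1 (flp_f L376774) (flp_c L376765) L665304
theorem L665308 : sm gd N47830 = N47830 := ded_35_1 (flp_f L665304) L376767 L665304
theorem L665309 : sm gi N44532 = N47831 := rfl
theorem L665311 : sm gc N47831 = N44535 := ded_33_1 (flp_i L376780) (flp_c L376765) L665309
theorem L665313 : sm gd N47831 = N47831 := ded_39_1 (flp_i L665309) L376767 L665309
theorem L665314 : sm ge N47831 = N44533 := ded_44_1 (flp_i L376768) L376763 L665309
theorem L665316 : sm gh N44533 = N47832 := rfl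
theorem L665318 : sm gc N47832 = N44536 := ded_32_1 (flp_h L376788) (flp_c L376770) L665316
theorem L665320 : sm gg N44534 = N47833 := rfl
theorem L665322 : sm gb N47833 = N45410 := ded_23_1 (flp_g L384055) (flp_b L376776) L665320
theorem L665324 : sm gd N47833 = N44542 := ded_36_1 (flp_g L376841) (flp_d L376778) L665320
theorem L665326 : sm gi N44534 = N47834 := rfl
theorem L665328 : sm gb N47834 = N45411 := ded_26_1 (flp_i L384059) (flp_b L376776) L665326
theorem L665330 : sm gd N47834 = N44543 := ded_39_1 (flp_i L376850) (flp_d L376778) L665326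
theorem L665332 : sm gf N47834 = N44535 := ded_48_1 (flp_i L376780) L376774 L665326
theorem L665334 : sm gh N44535 = N47835 := rfl
theorem L665336 : sm gb N47835 = N45412 := ded_25_1 (flp_h L384065) (flp_b L376782) L665334
theorem L665338 : sm ge N47835 = N44536 := ded_43_1 (flp_h L376788) (flp_e L376786) L665334
theorem L665340 : sm gg N44539 = N47836 := rfl
theorem L665342 : sm gb N47836 = N45416 := ded_23_1 (flp_g L384097) (flp_b L376814) L665340
theorem L665344 : sm gc N47836 = N47836 := ded_30_1 (flp_g L665340) L376816 L665340
theorem L665345 : sm ge N47836 = N44911 := ded_41_1 (flp_g L379969) (flp_e L376819) L665340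
theorem L665347 : sm gh N47836 = N45374 := ded_50_2 (flp_g L383836) L622107 L665340
theorem L665349 : sm gf N47836 = N44542 := ded_45_1 (flp_g L376841) (flp_f L259051) (flp_g L259036) L376812 L665340
theorem L665351 : sm gi N44539 = N47837 := rfl
theorem L665353 : sm gb N47837 = N45417 := ded_26_1 (flp_i L384107) (flp_b L376814) L665351
theorem L665355 : sm gc N47837 = N47837 := ded_33_1 (flp_i L665351) L376816 L665351
theorem L665356 : sm ge N47837 = N44912 := ded_44_1 (flp_i L379978) (flp_e L376819) L665351
theorem L665358 : sm gf N47837 = N44540 := ded_48_1 (flp_i L376821) L376812 L665351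
theorem L665360 : sm gj N47837 = N45377 := ded_53_1 (flp_i L383854) (flp_j L622075) L665351
theorem L665362 : sm gj N44542 = N47838 := rfl
theorem L665364 : sm gb N47838 = N45419 := ded_24_1 (flp_j L384125) (flp_b L376843) L665362
theorem L665366 : sm gc N47838 = N47838 := ded_31_1 (flp_j L665362) L376845 L665362
theorem L665367 : sm ge N47838 = N44545 := ded_42_1 (flp_j L376868) (flp_e L376846) L665362
theorem L665369 : sm gh N47838 = N46528 := ded_52_2 (flp_j L650934) (flp_h L376848) L665362
theorem L665371 : sm gi N44542 = N47839 := rfl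
theorem L665373 : sm gb N47839 = N45420 := ded_26_1 (flp_i L384133) (flp_b L376843) L665371
theorem L665375 : sm gc N47839 = N47839 := ded_33_1 (flp_i L665371) L376845 L665371
theorem L665376 : sm ge N47839 = N44546 := ded_44_1 (flp_i L376877) (flp_e L376846) L665371
theorem L665378 : sm gg N47839 = N44543 := ded_51_1 (flp_i L376850) L376841 L665371
theorem L665380 : sm gi N44545 = N47840 := rfl
theorem L665382 : sm gb N47840 = N45423 := ded_26_1 (flp_i L384155) (flp_b L376870) L665380
theorem L665384 : sm gc N47840 = N47840 := ded_33_1 (flp_i L665380) L376872 L665380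
theorem L665385 : sm gf N47840 = N44918 := ded_48_1 (flp_i L380034) (flp_f L376873) L665380
theorem L665387 : sm gg N47840 = N46398 := ded_51_1 L664691 L664689 L665380
theorem L665389 : sm gj N47840 = N44546 := ded_53_1 (flp_i L376877) L376868 L665380
theorem L665391 : sm gh N47840 = N46388 := ded_54_1 (flp_i L649807) L649251 (flp_i L648334) (flp_h L376875) L665380
theorem L665393 : sm gi N44549 = N47841 := rfl
theorem L665395 : sm gb N47841 = N44564 := ded_26_1 (flp_i L377005) (flp_b L376905) L665393
theorem L665397 : sm ge N47841 = N44923 := ded_44_1 (flp_i L380074) (flp_e L376907) L665393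
theorem L665399 : sm gf N47841 = N44559 := ded_48_1 L652980 L652969 L665393
theorem L665401 : sm gg N47841 = N44551 := ded_51_1 (flp_i L376919) (flp_g L376909) L665393
theorem L665403 : sm gh N47841 = N44554 := ded_54_1 (flp_i L376940) (flp_h L373247) L641006 L376903 L665393
theorem L665405 : sm gc N44550 = N47842 := rfl
theorem L665407 : sm gf N47842 = N44555 := ded_29_2 (flp_c L376948) (flp_f L376915) L665405
theorem L665409 : sm gj N47842 = N44552 := ded_31_2 (flp_c L376929) (flp_j L376917) L665405
theorem L665411 : sm gi N44550 = N47843 := rfl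
theorem L665413 : sm gb N47843 = N44567 := ded_26_1 (flp_i L377031) (flp_b L376913) L665411
theorem L665415 : sm gd N47843 = N44551 := ded_39_1 (flp_i L376919) L376911 L665411
theorem L665417 : sm gf N47843 = N44556 := ded_48_1 (flp_i L376953) (flp_f L376915) L665411
theorem L665419 : sm gj N47843 = N44554 := ded_53_1 (flp_i L376940) (flp_j L376917) L665411
theorem L665421 : sm gb N44552 = N47844 := rfl
theorem L665423 : sm gf N47844 = N44557 := ded_22_2 (flp_b L376962) (flp_f L376931) L665421
theorem L665425 : sm gg N47844 = N45231 := ded_23_2 (flp_b L653949) L653943 L665421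
theorem L665427 : sm gh N47844 = N45230 := ded_25_2 (flp_b L653330) L653336 L665421
theorem L665429 : sm gc N47844 = N44568 := ded_19_2 (flp_b L377040) (flp_c L259204) (flp_b L259121) L376929 L665421
theorem L665431 : sm ge N45569 = N47844 := ded_41_3 L665425 L382711 (flp_g L385376)
theorem L665433 : sm ge N44552 = N47845 := rfl
theorem L665435 : sm ga N47845 = N45846 := ded_13_1 (flp_e L653588) L653582 L665433
theorem L665437 : sm gb N47845 = N45569 := ded_21_1 L665431 (flp_b L665421) L665433
theorem L665439 : sm gc N47845 = N44553 := ded_28_1 (flp_e L376933) L376929 L665433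
theorem L665441 : sm gg N47845 = N44726 := ded_41_2 (flp_e L653939) L653943 L665433
theorem L665443 : sm gh N47845 = N44725 := ded_43_2 L653342 L653336 L665433
theorem L665445 : sm gf N47845 = N47845 := ded_40_2 (flp_e L665433) L376931 L259150 (flp_f L376931) L665433
theorem L665446 : sm gi N44552 = N47846 := rfl
theorem L665448 : sm gc N47846 = N44554 := ded_33_1 (flp_i L376940) L376929 L665446
theorem L665450 : sm gf N47846 = N44558 := ded_48_1 (flp_i L376969) (flp_f L376931) L665446
theorem L665452 : sm gi N44553 = N47847 := rfl
theorem L665454 : sm ga N47847 = N46518 := ded_18_1 (flp_i L650873) L648278 L665452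
theorem L665456 : sm gb N47847 = N44571 := ded_26_1 (flp_i L377061) (flp_b L376935) L665452
theorem L665458 : sm gd N47847 = N44930 := ded_39_1 (flp_i L380125) (flp_d L376937) L665452
theorem L665460 : sm ge N47847 = N44554 := ded_44_1 (flp_i L376940) L376933 L665452
theorem L665462 : sm gf N47847 = N47847 := ded_48_1 (flp_i L665452) L376939 L665452
theorem L665463 : sm gg N47847 = N44754 := ded_51_1 (flp_i L378662) (flp_g L635162) L665452
theorem L665465 : sm gh N47847 = N44923 := ded_54_1 (flp_i L380074) (flp_h L261216) (flp_i L260276) (flp_h L635164) L665452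
theorem L665467 : sm gb N44555 = N47848 := rfl
theorem L665469 : sm ge N47848 = N47848 := ded_21_2 (flp_b L665467) L376950 L665467
theorem L665470 : sm gj N47848 = N44557 := ded_24_2 (flp_b L376962) (flp_j L376951) L665467
theorem L665472 : sm gc N47848 = N44573 := ded_19_2 (flp_b L377074) (flp_c L259224) (flp_b L259135) L376948 L665467
theorem L665474 : sm gi N44555 = N47849 := rfl
theorem L665476 : sm gc N47849 = N44556 := ded_33_1 (flp_i L376953) L376948 L665474
theorem L665478 : sm ge N47849 = N47849 := ded_44_1 (flp_i L665474) L376950 L665474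
theorem L665479 : sm gj N47849 = N44558 := ded_53_1 (flp_i L376969) (flp_j L376951) L665474
theorem L665481 : sm gi N44557 = N47850 := rfl
theorem L665483 : sm gb N47850 = N44558 := ded_26_1 (flp_i L376969) L376962 L665481
theorem L665485 : sm gc N47850 = N44577 := ded_33_1 (flp_i L377105) (flp_c L376967) L665481
theorem L665487 : sm ge N47850 = N47850 := ded_44_1 (flp_i L665481) L376964 L665481
theorem L665488 : sm gg N47850 = N44561 := ded_51_1 (flp_i L376988) (flp_g L376965) L665481
theorem L665490 : sm gh N44558 = N47851 := rfl
theorem L665492 : sm gc N47851 = N44559 := ded_32_1 (flp_h L376976) (flp_c L376971) L665490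
theorem L665494 : sm ge N47851 = N47851 := ded_43_1 (flp_h L665490) L376973 L665490
theorem L665495 : sm gg N47851 = N44562 := ded_50_1 (flp_h L376995) (flp_g L376974) L665490
theorem L665497 : sm gi N47851 = N46536 := ded_54_2 L651041 (flp_i L648320) L640393 L376969 L665490
theorem L665499 : sm gh N44561 = N47852 := rfl
theorem L665501 : sm gb N47852 = N44562 := ded_25_1 (flp_h L376995) (flp_b L376990) L665499
theorem L665503 : sm gc N47852 = N44580 := ded_32_1 (flp_h L377130) (flp_c L376992) L665499
theorem L665505 : sm ge N47852 = N47852 := ded_43_1 (flp_h L665499) L376994 L665499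
theorem L665506 : sm gf N47852 = N45113 := ded_47_1 (flp_h L654001) L653995 L665499
theorem L665508 : sm gj N47852 = N45111 := ded_52_1 (flp_h L664734) L664732 L665499
theorem L665510 : sm gi N47852 = N45109 := ded_54_2 (flp_h L381695) (flp_i L617611) L640399 L376988 L665499
theorem L665512 : sm gd N44562 = N47853 := rfl
theorem L665514 : sm gf N47853 = N45387 := ded_35_2 L383917 (flp_f L649347) L665512
theorem L665516 : sm gi N47853 = N45386 := ded_39_2 L383911 (flp_i L648322) L665512
theorem L665518 : sm ga N44568 = N47854 := rfl
theorem L665520 : sm gd N47854 = N45454 := ded_12_2 (flp_a L384407) (flp_d L377042) L665518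
theorem L665522 : sm ge N47854 = N45538 := ded_13_2 L385111 (flp_e L641033) L665518
theorem L665524 : sm gf N47854 = N44576 := ded_14_2 (flp_a L377097) (flp_f L377044) L665518
theorem L665526 : sm gg N47854 = N45211 := ded_15_2 L382552 (flp_g L641035) L665518
theorem L665528 : sm gh N47854 = N45210 := ded_17_2 L382542 (flp_h L641037) L665518
theorem L665530 : sm gb N47854 = N47854 := ded_10_2 (flp_a L665518) (flp_b L377040) L259206 L377040 L665518
theorem L665531 : sm gi N44568 = N47855 := rfl
theorem L665533 : sm gb N47855 = N44570 := ded_26_1 (flp_i L377052) L377040 L665531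
theorem L665535 : sm gd N47855 = N45456 := ded_39_1 (flp_i L384420) (flp_d L377042) L665531
theorem L665537 : sm ge N47855 = N45608 := ded_44_1 (flp_i L385636) (flp_e L641033) L665531
theorem L665539 : sm gf N47855 = N44577 := ded_48_1 (flp_i L377105) (flp_f L377044) L665531
theorem L665541 : sm gg N47855 = N45259 := ded_51_1 (flp_i L382900) (flp_g L641035) L665531
theorem L665543 : sm gh N47855 = N45428 := ded_54_1 (flp_i L384194) (flp_h L264012) (flp_i L263145) (flp_h L641037) L665531
theorem L665545 : sm ga N44573 = N47856 := rfl
theorem L665547 : sm gd N47856 = N45461 := ded_12_2 (flp_a L384458) (flp_d L377076) L665545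
theorem L665549 : sm ge N47856 = N47856 := ded_13_2 (flp_a L665545) L377078 L665545
theorem L665550 : sm gj N47856 = N44576 := ded_16_2 (flp_a L377097) (flp_j L377079) L665545
theorem L665552 : sm gb N47856 = N47856 := ded_10_2 (flp_a L665545) (flp_b L377074) L259226 L377074 L665545
theorem L665553 : sm gi N44573 = N47857 := rfl
theorem L665555 : sm gb N47857 = N44574 := ded_26_1 (flp_i L377081) L377074 L665553
theorem L665557 : sm gd N47857 = N45462 := ded_39_1 (flp_i L384466) (flp_d L377076) L665553
theorem L665559 : sm ge N47857 = N47857 := ded_44_1 (flp_i L665553) L377078 L665553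
theorem L665560 : sm gj N47857 = N44577 := ded_53_1 (flp_i L377105) (flp_j L377079) L665553
theorem L665562 : sm gi N44576 = N47858 := rfl
theorem L665564 : sm ga N47858 = N44577 := ded_18_1 (flp_i L377105) L377097 L665562
theorem L665566 : sm gb N47858 = N47858 := ded_26_1 (flp_i L665562) L377104 L665562
theorem L665567 : sm gd N47858 = N45464 := ded_39_1 (flp_i L384484) (flp_d L377099) L665562
theorem L665569 : sm ge N47858 = N47858 := ded_44_1 (flp_i L665562) L377101 L665562
theorem L665570 : sm gg N47858 = N44579 := ded_51_1 (flp_i L377122) (flp_g L377102) L665562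
theorem L665572 : sm gh N44577 = N47859 := rfl
theorem L665574 : sm gb N47859 = N44578 := ded_25_1 (flp_h L377114) (flp_b L377107) L665572
theorem L665576 : sm ge N47859 = N47859 := ded_43_1 (flp_h L665572) L377111 L665572
theorem L665577 : sm gf N47859 = N45428 := ded_47_1 (flp_h L665543) L665539 L665572
theorem L665579 : sm gg N47859 = N44580 := ded_50_1 (flp_h L377130) (flp_g L377112) L665572
theorem L665581 : sm gi N47859 = N45135 := ded_54_2 (flp_h L381895) (flp_i L641085) L373378 L377105 L665572
theorem L665583 : sm gh N44579 = N47860 := rfl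
theorem L665585 : sm ga N47860 = N44580 := ded_17_1 (flp_h L377130) (flp_a L377124) L665583
theorem L665587 : sm gb N47860 = N47860 := ded_25_1 (flp_h L665583) L377126 L665583
theorem L665588 : sm ge N47860 = N47860 := ded_43_1 (flp_h L665583) L377129 L665583
theorem L665589 : sm gf N47860 = N45093 := ded_47_1 (flp_h L654020) L654014 L665583
theorem L665591 : sm gj N47860 = N45091 := ded_52_1 (flp_h L664748) L664746 L665583
theorem L665593 : sm gi N47860 = N45089 := ded_54_2 (flp_h L381530) (flp_i L617644) L641121 L377122 L665583
theorem L665595 : sm gd N44580 = N47861 := rfl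
theorem L665597 : sm gb N47861 = N44581 := ded_20_1 (flp_d L377135) (flp_b L377132) L665595
theorem L665599 : sm gf N47861 = N45142 := ded_35_2 L381956 (flp_f L641192) L665595
theorem L665601 : sm gj N47861 = N45140 := ded_37_2 L381939 (flp_j L641194) L665595
theorem L665603 : sm gi N47861 = N45136 := ded_39_2 (flp_d L381904) (flp_i L641196) L665595
theorem L665605 : sm gh N47861 = N45468 := ded_38_2 (flp_d L384516) (flp_h L264258) (flp_d L259273) L377130 L665595
theorem L665607 : sm ge N44581 = N47862 := rfl
theorem L665609 : sm ga N47862 = N47862 := ded_13_1 (flp_e L665607) L377137 L665607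
theorem L665610 : sm gj N47862 = N45157 := ded_42_2 L382084 (flp_j L641182) L665607
theorem L665612 : sm gh N47862 = N45469 := ded_43_2 (flp_e L384521) (flp_h L377138) L665607
theorem L665614 : sm gi N47862 = N45152 := ded_44_2 (flp_e L382042) (flp_i L641184) L665607
theorem L665616 : sm gd N47862 = N47862 := ded_34_1 (flp_e L665607) (flp_d L377135) L259281 L377135 L665607
theorem L665617 : sm gf N47862 = N46359 := ded_40_2 L649572 L270357 (flp_e L262620) (flp_f L641180) L665607
theorem L665619 : sm ga N44657 = N47863 := rfl
theorem L665621 : sm gc N47863 = N46448 := ded_11_2 (flp_a L650265) (flp_c L648412) L665619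
theorem L665623 : sm gd N47863 = N47863 := ded_12_2 (flp_a L665619) L377814 L665619
theorem L665624 : sm ge N47863 = N44779 := ded_13_2 (flp_a L378850) (flp_e L377815) L665619
theorem L665626 : sm gg N47863 = N44660 := ded_15_2 (flp_a L377839) (flp_g L377817) L665619
theorem L665628 : sm gh N47863 = N47863 := ded_17_2 (flp_a L665619) L377819 L665619
theorem L665629 : sm gb N47863 = N47863 := ded_10_2 (flp_a L665619) (flp_b L377812) L259728 L377812 L665619
theorem L665630 : sm gi N44657 = N47864 := rfl
theorem L665632 : sm gb N47864 = N44658 := ded_26_1 (flp_i L377820) L377812 L665630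
theorem L665634 : sm gc N47864 = N46449 := ded_33_1 (flp_i L650274) (flp_c L648412) L665630
theorem L665636 : sm gd N47864 = N47864 := ded_39_1 (flp_i L665630) L377814 L665630
theorem L665637 : sm ge N47864 = N44780 := ded_44_1 (flp_i L378858) (flp_e L377815) L665630
theorem L665639 : sm gg N47864 = N44661 := ded_51_1 (flp_i L377848) (flp_g L377817) L665630
theorem L665641 : sm gh N44658 = N47865 := rfl
theorem L665643 : sm ga N47865 = N47865 := ded_17_1 (flp_h L665641) L377822 L665641
theorem L665644 : sm gc N47865 = N44659 := ded_32_1 (flp_h L377830) (flp_c L377823) L665641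
theorem L665646 : sm ge N47865 = N44781 := ded_43_1 (flp_h L378866) (flp_e L377826) L665641
theorem L665648 : sm gg N47865 = N44662 := ded_50_1 (flp_h L377857) (flp_g L377828) L665641
theorem L665650 : sm gi N47865 = N47865 := ded_54_2 (flp_h L665641) (flp_i L377820) L259733 L377820 L665641
theorem L665651 : sm gi N44660 = N47866 := rfl
theorem L665653 : sm ga N47866 = N44661 := ded_18_1 (flp_i L377848) L377839 L665651
theorem L665655 : sm gb N47866 = N47866 := ded_26_1 (flp_i L665651) L377847 L665651
theorem L665656 : sm gc N47866 = N46451 := ded_33_1 (flp_i L650291) (flp_c L648410) L665651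
theorem L665658 : sm gd N47866 = N47866 := ded_39_1 (flp_i L665651) L377841 L665651
theorem L665659 : sm ge N47866 = N44782 := ded_44_1 (flp_i L378874) (flp_e L377842) L665651
theorem L665661 : sm gf N47866 = N47866 := ded_48_1 (flp_i L665651) L377844 L665651
theorem L665662 : sm gj N47866 = N47866 := ded_53_1 (flp_i L665651) L377845 L665651
theorem L665663 : sm gh N44661 = N47867 := rfl
theorem L665665 : sm gb N47867 = N44662 := ded_25_1 (flp_h L377857) (flp_b L377850) L665663
theorem L665667 : sm gc N47867 = N46452 := ded_32_1 (flp_h L650301) (flp_c L648414) L665663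
theorem L665669 : sm ge N47867 = N44783 := ded_43_1 (flp_h L378882) (flp_e L377853) L665663
theorem L665671 : sm gf N47867 = N47867 := ded_47_1 (flp_h L665663) L377855 L665663
theorem L665672 : sm gj N47867 = N47867 := ded_52_1 (flp_h L665663) L377856 L665663
theorem L665673 : sm gi N47867 = N47867 := ded_54_2 (flp_h L665663) (flp_i L377848) L259751 L377848 L665663
theorem L665674 : sm gd N44662 = N47868 := rfl
theorem L665676 : sm ga N47868 = N47868 := ded_12_1 (flp_d L665674) L377859 L665674
theorem L665677 : sm gf N47868 = N47868 := ded_35_2 (flp_d L665674) L377864 L665674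
theorem L665678 : sm gj N47868 = N47868 := ded_37_2 (flp_d L665674) L377865 L665674
theorem L665679 : sm gi N47868 = N47868 := ded_39_2 (flp_d L665674) L377866 L665674
theorem L665680 : sm gc N47868 = N47868 := ded_27_1 (flp_d L665674) L377860 L259769 (flp_c L377860) L665674
theorem L665681 : sm gh N47868 = N47868 := ded_38_2 (flp_d L665674) (flp_h L377857) L259757 L377857 L665674
theorem L665682 : sm gh N44716 = N47869 := rfl
theorem L665684 : sm ga N47869 = N44870 := ded_17_1 (flp_h L379646) (flp_a L615160) L665682
theorem L665686 : sm gb N47869 = N45553 := ded_25_1 (flp_h L385250) (flp_b L378352) L665682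
theorem L665688 : sm gc N47869 = N47869 := ded_32_1 (flp_h L665682) L378354 L665682
theorem L665689 : sm ge N47869 = N44718 := ded_43_1 (flp_h L378370) L378350 L665682
theorem L665691 : sm gf N47869 = N44820 := ded_47_1 (flp_h L379228) (flp_f L615165) L665682
theorem L665693 : sm gj N47869 = N44819 := ded_52_1 (flp_h L379221) (flp_j L615167) L665682
theorem L665695 : sm gh N44717 = N47870 := rfl
theorem L665697 : sm ga N47870 = N44868 := ded_17_1 (flp_h L379629) (flp_a L615087) L665695
theorem L665699 : sm gb N47870 = N45555 := ded_25_1 (flp_h L385267) (flp_b L378361) L665695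
theorem L665701 : sm gc N47870 = N47870 := ded_32_1 (flp_h L665695) L378363 L665695
theorem L665702 : sm ge N47870 = N44819 := ded_43_1 (flp_h L379221) (flp_e L615090) L665695
theorem L665704 : sm gf N47870 = N44719 := ded_47_1 (flp_h L378377) (flp_f L378366) L665695
theorem L665706 : sm gj N47870 = N44718 := ded_52_1 (flp_h L378370) L378359 L665695
theorem L665708 : sm gd N44718 = N47871 := rfl
theorem L665710 : sm ga N47871 = N45795 := ded_12_1 L387213 (flp_a L648469) L665708
theorem L665712 : sm gb N47871 = N45556 := ded_20_1 (flp_d L385275) (flp_b L378372) L665708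
theorem L665714 : sm gf N47871 = N44720 := ded_35_2 (flp_d L378387) (flp_f L378375) L665708
theorem L665716 : sm gh N47871 = N44727 := ded_38_2 (flp_d L378447) (flp_h L260130) (flp_d L260078) L378370 L665708
theorem L665718 : sm gi N44718 = N47872 := rfl
theorem L665720 : sm ga N47872 = N46549 := ded_18_1 (flp_i L651151) (flp_a L648469) L665718
theorem L665722 : sm gb N47872 = N45557 := ded_26_1 (flp_i L385281) (flp_b L378372) L665718
theorem L665724 : sm gc N47872 = N47872 := ded_33_1 (flp_i L665718) L378374 L665718
theorem L665725 : sm gf N47872 = N44721 := ded_48_1 (flp_i L378395) (flp_f L378375) L665718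
theorem L665727 : sm gh N47872 = N44872 := ded_54_1 (flp_i L379663) (flp_h L260942) (flp_i L260080) L378370 L665718
theorem L665729 : sm gd N44719 = N47873 := rfl
theorem L665731 : sm ga N47873 = N45790 := ded_12_1 (flp_d L615004) L648457 L665729
theorem L665733 : sm gb N47873 = N45558 := ded_20_1 (flp_d L385289) (flp_b L378379) L665729
theorem L665735 : sm gg N47873 = N47873 := ded_36_2 (flp_d L665729) L378384 L665729
theorem L665736 : sm gj N47873 = N44720 := ded_37_2 (flp_d L378387) (flp_j L378385) L665729
theorem L665738 : sm ge N47873 = N45711 := ded_34_2 (flp_d L386476) L265549 (flp_d L534038) (flp_e L378382) L665729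
theorem L665740 : sm gh N47873 = N44729 := ded_38_2 (flp_d L378463) (flp_h L260138) (flp_d L260087) L378377 L665729
theorem L665742 : sm gi N44719 = N47874 := rfl
theorem L665744 : sm ga N47874 = N46533 := ded_18_1 (flp_i L651009) L648457 L665742
theorem L665746 : sm gb N47874 = N45559 := ded_26_1 (flp_i L385296) (flp_b L378379) L665742
theorem L665748 : sm gc N47874 = N47874 := ded_33_1 (flp_i L665742) L378381 L665742
theorem L665749 : sm ge N47874 = N46530 := ded_44_1 (flp_i L650957) (flp_e L378382) L665742
theorem L665751 : sm gg N47874 = N47874 := ded_51_1 (flp_i L665742) L378384 L665742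
theorem L665752 : sm gj N47874 = N44721 := ded_53_1 (flp_i L378395) (flp_j L378385) L665742
theorem L665754 : sm gh N47874 = N44874 := ded_54_1 (flp_i L379679) (flp_h L260949) (flp_i L260091) L378377 L665742
theorem L665756 : sm gi N44720 = N47875 := rfl
theorem L665758 : sm ga N47875 = N45796 := ded_18_1 (flp_i L387217) (flp_a L534178) L665756
theorem L665760 : sm gb N47875 = N45562 := ded_26_1 (flp_i L385323) (flp_b L378389) L665756
theorem L665762 : sm gd N47875 = N44721 := ded_39_1 (flp_i L378395) L378387 L665756
theorem L665764 : sm ge N47875 = N45715 := ded_44_1 (flp_i L386516) (flp_e L534180) L665756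
theorem L665766 : sm gg N47875 = N44724 := ded_51_1 (flp_i L378421) (flp_g L378391) L665756
theorem L665768 : sm gh N44724 = N47876 := rfl
theorem L665770 : sm ga N47876 = N45806 := ded_17_1 (flp_h L387289) (flp_a L534107) L665768
theorem L665772 : sm gb N47876 = N45568 := ded_25_1 (flp_h L385364) (flp_b L378423) L665768
theorem L665774 : sm ge N47876 = N45721 := ded_43_1 (flp_h L386568) (flp_e L534109) L665768
theorem L665776 : sm gj N47876 = N47876 := ded_52_1 (flp_h L665768) L378427 L665768
theorem L665777 : sm gd N47876 = N44883 := ded_38_1 (flp_h L379753) L260995 (flp_h L260118) (flp_d L378425) L665768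
theorem L665779 : sm gi N47876 = N44739 := ded_54_2 (flp_h L378540) (flp_i L260179) (flp_h L260108) L378421 L665768
theorem L665781 : sm gd N44726 = N47877 := rfl
theorem L665783 : sm ga N47877 = N45821 := ded_12_1 L387385 (flp_a L575926) L665781
theorem L665785 : sm gb N47877 = N45570 := ded_20_1 (flp_d L385378) (flp_b L378439) L665781
theorem L665787 : sm gf N47877 = N44729 := ded_35_2 (flp_d L378463) (flp_f L378443) L665781
theorem L665789 : sm gj N47877 = N44727 := ded_37_2 (flp_d L378447) (flp_j L378445) L665781
theorem L665791 : sm gi N44726 = N47878 := rfl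
theorem L665793 : sm ga N47878 = N45847 := ded_18_1 (flp_i L387555) (flp_a L575926) L665791
theorem L665795 : sm gb N47878 = N45571 := ded_26_1 (flp_i L385384) (flp_b L378439) L665791
theorem L665797 : sm gc N47878 = N44754 := ded_33_1 (flp_i L378662) (flp_c L378441) L665791
theorem L665799 : sm gf N47878 = N44730 := ded_48_1 (flp_i L378470) (flp_f L378443) L665791
theorem L665801 : sm gj N47878 = N44728 := ded_53_1 (flp_i L378453) (flp_j L378445) L665791
theorem L665803 : sm gh N47878 = N44886 := ded_54_1 (flp_i L379777) (flp_h L261005) (flp_i L260128) L378437 L665791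
theorem L665805 : sm gc N44727 = N47879 := rfl
theorem L665807 : sm ga N47879 = N45827 := ded_11_1 L387427 (flp_a L534203) L665805
theorem L665809 : sm gf N47879 = N44731 := ded_29_2 (flp_c L378483) (flp_f L378451) L665805
theorem L665811 : sm gd N47879 = N44755 := ded_27_2 (flp_c L378672) (flp_d L260287) (flp_c L260134) L378447 L665805
theorem L665813 : sm ge N44727 = N47880 := rfl
theorem L665815 : sm ga N47880 = N45815 := ded_13_1 L387348 (flp_a L534203) L665813
theorem L665817 : sm gb N47880 = N45573 := ded_21_1 (flp_e L385400) (flp_b L378449) L665813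
theorem L665819 : sm gf N47880 = N45726 := ded_40_2 (flp_e L386610) L265618 L534210 (flp_f L378451) L665813
theorem L665821 : sm gi N44727 = N47881 := rfl
theorem L665823 : sm ga N47881 = N45831 := ded_18_1 (flp_i L387453) (flp_a L534203) L665821
theorem L665825 : sm gb N47881 = N45574 := ded_26_1 (flp_i L385402) (flp_b L378449) L665821
theorem L665827 : sm gd N47881 = N44728 := ded_39_1 (flp_i L378453) L378447 L665821
theorem L665829 : sm gf N47881 = N44733 := ded_48_1 (flp_i L378497) (flp_f L378451) L665821
theorem L665831 : sm gc N44729 = N47882 := rfl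
theorem L665833 : sm ga N47882 = N45819 := ded_11_1 L387367 (flp_a L575938) L665831
theorem L665835 : sm ge N47882 = N45728 := ded_28_2 (flp_c L386622) (flp_e L575940) L665831
theorem L665837 : sm gg N47882 = N47882 := ded_30_2 (flp_c L665831) L378467 L665831
theorem L665838 : sm gj N47882 = N44731 := ded_31_2 (flp_c L378483) (flp_j L378468) L665831
theorem L665840 : sm gd N47882 = N44758 := ded_27_2 (flp_c L378690) (flp_d L260302) (flp_c L260142) L378463 L665831
theorem L665842 : sm gi N44729 = N47883 := rfl
theorem L665844 : sm ga N47883 = N45822 := ded_18_1 (flp_i L387389) (flp_a L575938) L665842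
theorem L665846 : sm gb N47883 = N45577 := ded_26_1 (flp_i L385422) (flp_b L378465) L665842
theorem L665848 : sm gd N47883 = N44730 := ded_39_1 (flp_i L378470) L378463 L665842
theorem L665850 : sm ge N47883 = N45730 := ded_44_1 (flp_i L386640) (flp_e L575940) L665842
theorem L665852 : sm gg N47883 = N47883 := ded_51_1 (flp_i L665842) L378467 L665842
theorem L665853 : sm gj N47883 = N44733 := ded_53_1 (flp_i L378497) (flp_j L378468) L665842
theorem L665855 : sm gb N44731 = N47884 := rfl
theorem L665857 : sm gd N47884 = N44760 := ded_20_2 (flp_b L378705) (flp_d L378487) L665855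
theorem L665859 : sm ge N47884 = N45731 := ded_21_2 (flp_b L386649) (flp_e L534708) L665855
theorem L665861 : sm gg N47884 = N44734 := ded_23_2 (flp_b L378505) (flp_g L378485) L665855
theorem L665863 : sm gc N47884 = N45578 := ded_19_2 (flp_b L385429) (flp_c L264854) (flp_b L260151) L378483 L665855
theorem L665865 : sm gi N44731 = N47885 := rfl
theorem L665867 : sm ga N47885 = N45828 := ded_18_1 (flp_i L387431) (flp_a L534705) L665865
theorem L665869 : sm gc N47885 = N44733 := ded_33_1 (flp_i L378497) L378483 L665865
theorem L665871 : sm gd N47885 = N44761 := ded_39_1 (flp_i L378712) (flp_d L378487) L665865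
theorem L665873 : sm ge N47885 = N45733 := ded_44_1 (flp_i L386665) (flp_e L534708) L665865
theorem L665875 : sm gg N47885 = N44736 := ded_51_1 (flp_i L378517) (flp_g L378485) L665865
theorem L665877 : sm gh N44733 = N47886 := rfl
theorem L665879 : sm ga N47886 = N45832 := ded_17_1 (flp_h L387459) (flp_a L575894) L665877
theorem L665881 : sm gb N47886 = N45583 := ded_25_1 (flp_h L385462) (flp_b L378499) L665877
theorem L665883 : sm ge N47886 = N45736 := ded_43_1 (flp_h L386691) (flp_e L575896) L665877
theorem L665885 : sm gg N47886 = N44739 := ded_50_1 (flp_h L378540) (flp_g L378503) L665877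
theorem L665887 : sm gd N47886 = N44898 := ded_38_1 (flp_h L379869) L261065 (flp_h L260165) (flp_d L378501) L665877
theorem L665889 : sm ga N44734 = N47887 := rfl
theorem L665891 : sm gc N47887 = N44881 := ded_11_2 L542370 (flp_c L378510) L665889
theorem L665893 : sm gd N47887 = N44763 := ded_12_2 (flp_a L378727) (flp_d L378507) L665889
theorem L665895 : sm ge N47887 = N45737 := ded_13_2 (flp_a L386697) (flp_e L547422) L665889
theorem L665897 : sm gf N47887 = N44879 := ded_14_2 L654244 L654237 L665889
theorem L665899 : sm gj N47887 = N47887 := ded_16_2 (flp_a L665889) L378509 L665889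
theorem L665900 : sm gh N47887 = N44902 := ded_17_2 (flp_a L660909) L660916 L665889
theorem L665902 : sm gb N47887 = N45833 := ded_10_2 L387467 L266190 (flp_a L547406) L378505 L665889
theorem L665904 : sm gi N44734 = N47888 := rfl
theorem L665906 : sm gb N47888 = N44736 := ded_26_1 (flp_i L378517) L378505 L665904
theorem L665908 : sm gc N47888 = N45586 := ded_33_1 (flp_i L385479) (flp_c L378510) L665904
theorem L665910 : sm gd N47888 = N44764 := ded_39_1 (flp_i L378733) (flp_d L378507) L665904
theorem L665912 : sm ge N47888 = N45739 := ded_44_1 (flp_i L386711) (flp_e L547422) L665904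
theorem L665914 : sm gj N47888 = N47888 := ded_53_1 (flp_i L665904) L378509 L665904
theorem L665915 : sm gh N44736 = N47889 := rfl
theorem L665917 : sm ga N47889 = N45840 := ded_17_1 (flp_h L387515) (flp_a L507857) L665915
theorem L665919 : sm gc N47889 = N44739 := ded_32_1 (flp_h L378540) (flp_c L378519) L665915
theorem L665921 : sm ge N47889 = N45742 := ded_43_1 (flp_h L386738) (flp_e L507862) L665915
theorem L665923 : sm gj N47889 = N47889 := ded_52_1 (flp_h L665915) L378523 L665915
theorem L665924 : sm gb N44755 = N47890 := rfl
theorem L665926 : sm gf N47890 = N44760 := ded_22_2 (flp_b L378705) (flp_f L378674) L665924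
theorem L665928 : sm gh N47890 = N47890 := ded_25_2 (flp_b L665924) L378676 L665924
theorem L665929 : sm gc N47890 = N44771 := ded_19_2 (flp_b L378788) (flp_c L260380) (flp_b L260289) L378672 L665924
theorem L665931 : sm gi N44755 = N47891 := rfl
theorem L665933 : sm ga N47891 = N46497 := ded_18_1 (flp_i L650711) (flp_a L648525) L665931
theorem L665935 : sm gc N47891 = N44757 := ded_33_1 (flp_i L378682) L378672 L665931
theorem L665937 : sm gf N47891 = N44761 := ded_48_1 (flp_i L378712) (flp_f L378674) L665931
theorem L665939 : sm gh N44757 = N47892 := rfl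
theorem L665941 : sm ga N47892 = N46502 := ded_17_1 (flp_h L650751) (flp_a L648728) L665939
theorem L665943 : sm gb N47892 = N44775 := ded_25_1 (flp_h L378815) (flp_b L378684) L665939
theorem L665945 : sm gf N47892 = N44762 := ded_47_1 (flp_h L378718) (flp_f L378688) L665939
theorem L665947 : sm gd N47892 = N44931 := ded_38_1 (flp_h L380132) L261255 (flp_h L260300) (flp_d L378686) L665939
theorem L665949 : sm gi N47892 = N47892 := ded_54_2 (flp_h L665939) (flp_i L378682) L260293 L378682 L665939
theorem L665950 : sm gb N44758 = N47893 := rfl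
theorem L665952 : sm ge N47893 = N46445 := ded_21_2 (flp_b L650237) L648521 L665950
theorem L665954 : sm gg N47893 = N47893 := ded_23_2 (flp_b L665950) L378692 L665950
theorem L665955 : sm gj N47893 = N44760 := ded_24_2 (flp_b L378705) (flp_j L378693) L665950
theorem L665957 : sm gh N47893 = N47893 := ded_25_2 (flp_b L665950) L378695 L665950
theorem L665958 : sm gc N47893 = N44776 := ded_19_2 (flp_b L378823) (flp_c L260399) (flp_b L260304) L378690 L665950
theorem L665960 : sm gi N44758 = N47894 := rfl
theorem L665962 : sm ga N47894 = N46487 := ded_18_1 (flp_i L650629) (flp_a L648404) L665960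
theorem L665964 : sm gc N47894 = N44759 := ded_33_1 (flp_i L378696) L378690 L665960
theorem L665966 : sm ge N47894 = N46446 := ded_44_1 (flp_i L650245) L648521 L665960
theorem L665968 : sm gg N47894 = N47894 := ded_51_1 (flp_i L665960) L378692 L665960
theorem L665969 : sm gj N47894 = N44761 := ded_53_1 (flp_i L378712) (flp_j L378693) L665960
theorem L665971 : sm gh N44759 = N47895 := rfl
theorem L665973 : sm ga N47895 = N46490 := ded_17_1 (flp_h L650655) (flp_a L648408) L665971
theorem L665975 : sm gb N47895 = N44778 := ded_25_1 (flp_h L378841) (flp_b L378698) L665971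
theorem L665977 : sm ge N47895 = N46447 := ded_43_1 (flp_h L650256) (flp_e L648580) L665971
theorem L665979 : sm gg N47895 = N47895 := ded_50_1 (flp_h L665971) L378702 L665971
theorem L665980 : sm gj N47895 = N44762 := ded_52_1 (flp_h L378718) (flp_j L378703) L665971
theorem L665982 : sm gd N47895 = N44934 := ded_38_1 (flp_h L380156) L261270 (flp_h L260319) (flp_d L378700) L665971
theorem L665984 : sm gi N47895 = N47895 := ded_54_2 (flp_h L665971) (flp_i L378696) L260309 L378696 L665971
theorem L665985 : sm ga N44760 = N47896 := rfl
theorem L665987 : sm gc N47896 = N44779 := ded_11_2 (flp_a L378850) (flp_c L378710) L665985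
theorem L665989 : sm ge N47896 = N46448 := ded_13_2 (flp_a L650265) L648519 L665985
theorem L665991 : sm gg N47896 = N44763 := ded_15_2 (flp_a L378727) (flp_g L378707) L665985
theorem L665993 : sm gh N47896 = N47896 := ded_17_2 (flp_a L665985) L378709 L665985
theorem L665994 : sm gb N47896 = N46491 := ded_10_2 L650666 L272929 L547386 L378705 L665985
theorem L665996 : sm gi N44760 = N47897 := rfl
theorem L665998 : sm gb N47897 = N44761 := ded_26_1 (flp_i L378712) L378705 L665996
theorem L666000 : sm gc N47897 = N44780 := ded_33_1 (flp_i L378858) (flp_c L378710) L665996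
theorem L666002 : sm ge N47897 = N46449 := ded_44_1 (flp_i L650274) L648519 L665996
theorem L666004 : sm gg N47897 = N44764 := ded_51_1 (flp_i L378733) (flp_g L378707) L665996
theorem L666006 : sm gh N44761 = N47898 := rfl
theorem L666008 : sm ga N47898 = N46498 := ded_17_1 (flp_h L650717) (flp_a L648527) L666006
theorem L666010 : sm gc N47898 = N44762 := ded_32_1 (flp_h L378718) (flp_c L378714) L666006
theorem L666012 : sm ge N47898 = N46450 := ded_43_1 (flp_h L650282) L648523 L666006
theorem L666014 : sm gg N47898 = N44765 := ded_50_1 (flp_h L378740) (flp_g L378716) L666006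
theorem L666016 : sm gi N47898 = N47898 := ded_54_2 (flp_h L666006) (flp_i L378712) L260325 L378712 L666006
theorem L666017 : sm gi N44763 = N47899 := rfl
theorem L666019 : sm ga N47899 = N44764 := ded_18_1 (flp_i L378733) L378727 L666017
theorem L666021 : sm gb N47899 = N46504 := ded_26_1 (flp_i L650765) (flp_b L648533) L666017
theorem L666023 : sm gc N47899 = N44782 := ded_33_1 (flp_i L378874) (flp_c L378729) L666017
theorem L666025 : sm ge N47899 = N46451 := ded_44_1 (flp_i L650291) L648529 L666017
theorem L666027 : sm gj N47899 = N47899 := ded_53_1 (flp_i L666017) L378731 L666017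
theorem L666028 : sm gh N44764 = N47900 := rfl
theorem L666030 : sm gb N47900 = N44765 := ded_25_1 (flp_h L378740) (flp_b L378735) L666028
theorem L666032 : sm gc N47900 = N44783 := ded_32_1 (flp_h L378882) (flp_c L378737) L666028
theorem L666034 : sm ge N47900 = N46452 := ded_43_1 (flp_h L650301) L648531 L666028
theorem L666036 : sm gj N47900 = N47900 := ded_52_1 (flp_h L666028) L378739 L666028
theorem L666037 : sm gi N47900 = N47900 := ded_54_2 (flp_h L666028) (flp_i L378733) L260337 L378733 L666028
theorem L666038 : sm gd N44765 = N47901 := rfl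
theorem L666040 : sm ga N47901 = N46513 := ded_12_1 (flp_d L650838) (flp_a L648370) L666038
theorem L666042 : sm gj N47901 = N47901 := ded_37_2 (flp_d L666038) L378744 L666038
theorem L666043 : sm gi N47901 = N47901 := ded_39_2 (flp_d L666038) L378745 L666038
theorem L666044 : sm gc N47901 = N44940 := ded_27_1 (flp_d L380207) L261316 (flp_d L260350) (flp_c L378742) L666038
theorem L666046 : sm ga N44771 = N47902 := rfl
theorem L666048 : sm gd N47902 = N45634 := ded_12_2 (flp_a L385861) (flp_d L378790) L666046
theorem L666050 : sm gf N47902 = N44779 := ded_14_2 (flp_a L378850) (flp_f L378792) L666046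
theorem L666052 : sm gg N47902 = N46262 := ded_15_2 L654591 L654586 L666046
theorem L666054 : sm gh N47902 = N47902 := ded_17_2 (flp_a L666046) L378794 L666046
theorem L666055 : sm gb N47902 = N47902 := ded_10_2 (flp_a L666046) (flp_b L378788) L260382 L378788 L666046
theorem L666056 : sm gi N44771 = N47903 := rfl
theorem L666058 : sm gb N47903 = N44773 := ded_26_1 (flp_i L378801) L378788 L666056
theorem L666060 : sm gd N47903 = N45636 := ded_39_1 (flp_i L385875) (flp_d L378790) L666056
theorem L666062 : sm gf N47903 = N44780 := ded_48_1 (flp_i L378858) (flp_f L378792) L666056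
theorem L666064 : sm gh N44773 = N47904 := rfl
theorem L666066 : sm ga N47904 = N47904 := ded_17_1 (flp_h L666064) L378803 L666064
theorem L666067 : sm gc N47904 = N44775 := ded_32_1 (flp_h L378815) (flp_c L378804) L666064
theorem L666069 : sm gf N47904 = N44781 := ded_47_1 (flp_h L378866) (flp_f L378808) L666064
theorem L666071 : sm gi N47904 = N47904 := ded_54_2 (flp_h L666064) (flp_i L378801) L260385 L378801 L666064
theorem L666072 : sm ga N44776 = N47905 := rfl
theorem L666074 : sm gd N47905 = N45641 := ded_12_2 (flp_a L385910) (flp_d L378825) L666072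
theorem L666076 : sm gg N47905 = N47905 := ded_15_2 (flp_a L666072) L378827 L666072
theorem L666077 : sm gj N47905 = N44779 := ded_16_2 (flp_a L378850) (flp_j L378828) L666072
theorem L666079 : sm gh N47905 = N47905 := ded_17_2 (flp_a L666072) L378830 L666072
theorem L666080 : sm gb N47905 = N47905 := ded_10_2 (flp_a L666072) (flp_b L378823) L260401 L378823 L666072
theorem L666081 : sm gi N44776 = N47906 := rfl
theorem L666083 : sm gb N47906 = N44777 := ded_26_1 (flp_i L378831) L378823 L666081
theorem L666085 : sm gd N47906 = N45642 := ded_39_1 (flp_i L385919) (flp_d L378825) L666081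
theorem L666087 : sm gg N47906 = N47906 := ded_51_1 (flp_i L666081) L378827 L666081
theorem L666088 : sm gj N47906 = N44780 := ded_53_1 (flp_i L378858) (flp_j L378828) L666081
theorem L666090 : sm gh N44777 = N47907 := rfl
theorem L666092 : sm ga N47907 = N47907 := ded_17_1 (flp_h L666090) L378833 L666090
theorem L666093 : sm gc N47907 = N44778 := ded_32_1 (flp_h L378841) (flp_c L378834) L666090
theorem L666095 : sm gg N47907 = N47907 := ded_50_1 (flp_h L666090) L378838 L666090
theorem L666096 : sm gj N47907 = N44781 := ded_52_1 (flp_h L378866) (flp_j L378839) L666090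
theorem L666098 : sm gd N47907 = N46430 := ded_38_1 (flp_h L650117) L649289 (flp_h L385927) (flp_d L378836) L666090
theorem L666100 : sm gi N47907 = N47907 := ded_54_2 (flp_h L666090) (flp_i L378831) L260405 L378831 L666090
theorem L666101 : sm gi N44779 = N47908 := rfl
theorem L666103 : sm ga N47908 = N44780 := ded_18_1 (flp_i L378858) L378850 L666101
theorem L666105 : sm gb N47908 = N47908 := ded_26_1 (flp_i L666101) L378857 L666101
theorem L666106 : sm gd N47908 = N45644 := ded_39_1 (flp_i L385938) (flp_d L378852) L666101
theorem L666108 : sm gg N47908 = N44782 := ded_51_1 (flp_i L378874) (flp_g L378854) L666101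
theorem L666110 : sm gh N44780 = N47909 := rfl
theorem L666112 : sm gb N47909 = N44781 := ded_25_1 (flp_h L378866) (flp_b L378860) L666110
theorem L666114 : sm gg N47909 = N44783 := ded_50_1 (flp_h L378882) (flp_g L378864) L666110
theorem L666116 : sm gi N47909 = N47909 := ded_54_2 (flp_h L666110) (flp_i L378858) L260422 L378858 L666110
theorem L666117 : sm gd N44781 = N47910 := rfl
theorem L666119 : sm ga N47910 = N47910 := ded_12_1 (flp_d L666117) L378868 L666117
theorem L666120 : sm gg N47910 = N44784 := ded_36_2 (flp_d L378888) (flp_g L378871) L666117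
theorem L666122 : sm gj N47910 = N46430 := ded_37_2 (flp_d L666098) L666096 L666117
theorem L666124 : sm gi N47910 = N47910 := ded_39_2 (flp_d L666117) L378873 L666117
theorem L666125 : sm gc N47910 = N44961 := ded_27_1 (flp_d L380378) L261446 (flp_d L260437) (flp_c L378869) L666117
theorem L666127 : sm gh N47910 = N45646 := ded_38_2 (flp_d L385955) (flp_h L265231) (flp_d L260428) L378866 L666117
theorem L666129 : sm ge N46425 = N47910 := ded_42_3 L666122 L650122 (flp_j L650083)
theorem L666131 : sm gh N44782 = N47911 := rfl
theorem L666133 : sm ga N47911 = N44783 := ded_17_1 (flp_h L378882) (flp_a L378876) L666131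
theorem L666135 : sm gb N47911 = N47911 := ded_25_1 (flp_h L666131) L378878 L666131
theorem L666136 : sm gj N47911 = N47911 := ded_52_1 (flp_h L666131) L378881 L666131
theorem L666137 : sm gi N47911 = N47911 := ded_54_2 (flp_h L666131) (flp_i L378874) L260445 L378874 L666131
theorem L666138 : sm gd N44783 = N47912 := rfl
theorem L666140 : sm gb N47912 = N44784 := ded_20_1 (flp_d L378888) (flp_b L378884) L666138
theorem L666142 : sm gj N47912 = N47912 := ded_37_2 (flp_d L666138) L378886 L666138
theorem L666143 : sm gi N47912 = N47912 := ded_39_2 (flp_d L666138) L378887 L666138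
theorem L666144 : sm gh N47912 = N45648 := ded_38_2 (flp_d L385973) (flp_h L265248) (flp_d L260451) L378882 L666138
theorem L666146 : sm ge N44784 = N47913 := rfl
theorem L666148 : sm ga N47913 = N47913 := ded_13_1 (flp_e L666146) L378890 L666146
theorem L666149 : sm gc N47913 = N44964 := ded_28_1 (flp_e L380402) (flp_c L378893) L666146
theorem L666151 : sm gg N47913 = N46425 := ded_41_2 L666129 L666120 L666146
theorem L666153 : sm gj N47913 = N47913 := ded_42_2 (flp_e L666146) L378891 L666146
theorem L666154 : sm gh N47913 = N45649 := ded_43_2 (flp_e L385980) (flp_h L378895) L666146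
theorem L666156 : sm gi N47913 = N47913 := ded_44_2 (flp_e L666146) L378892 L666146
theorem L666157 : sm gh N44787 = N47914 := rfl
theorem L666159 : sm ga N47914 = N45657 := ded_17_1 (flp_h L386045) (flp_a L378919) L666157
theorem L666161 : sm gb N47914 = N44819 := ded_25_1 (flp_h L379221) (flp_b L378921) L666157
theorem L666163 : sm gc N47914 = N46035 := ded_32_1 (flp_h L389181) (flp_c L616103) L666157
theorem L666165 : sm ge N47914 = N45555 := ded_43_1 (flp_h L385267) (flp_e L616105) L666157
theorem L666167 : sm gf N47914 = N44789 := ded_47_1 (flp_h L378936) L378917 L666157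
theorem L666169 : sm gj N47914 = N45553 := ded_52_1 (flp_h L385250) (flp_j L616107) L666157
theorem L666171 : sm gi N44789 = N47915 := rfl
theorem L666173 : sm ga N47915 = N45660 := ded_18_1 (flp_i L386068) (flp_a L378938) L666171
theorem L666175 : sm gb N47915 = N44822 := ded_26_1 (flp_i L379246) (flp_b L378940) L666171
theorem L666177 : sm gc N47915 = N46556 := ded_33_1 (flp_i L651198) (flp_c L648485) L666171
theorem L666179 : sm ge N47915 = N46531 := ded_44_1 (flp_i L650973) (flp_e L378942) L666171
theorem L666181 : sm gg N47915 = N44791 := ded_51_1 (flp_i L378955) (flp_g L378944) L666171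
theorem L666183 : sm gj N47915 = N46542 := ded_53_1 (flp_i L651093) L648857 L666171
theorem L666185 : sm gh N47915 = N46534 := ded_54_1 (flp_i L651019) L287392 L551293 L378936 L666171
theorem L666187 : sm gh N44792 = N47916 := rfl
theorem L666189 : sm ga N47916 = N45593 := ded_17_1 (flp_h L552196) (flp_a L378966) L666187
theorem L666191 : sm gb N47916 = N44827 := ded_25_1 (flp_h L379286) (flp_b L378968) L666187
theorem L666193 : sm gc N47916 = N47916 := ded_32_1 (flp_h L666187) L378970 L666187
theorem L666194 : sm ge N47916 = N45223 := ded_43_1 (flp_h L382657) (flp_e L615394) L666187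
theorem L666196 : sm gf N47916 = N44794 := ded_47_1 (flp_h L378982) (flp_f L378971) L666187
theorem L666198 : sm gj N47916 = N44793 := ded_52_1 (flp_h L378973) L378964 L666187
theorem L666200 : sm gd N44793 = N47917 := rfl
theorem L666202 : sm ga N47917 = N45581 := ded_12_1 L385452 L552170 L666200
theorem L666204 : sm gb N47917 = N44828 := ded_20_1 (flp_d L379296) (flp_b L378977) L666200
theorem L666206 : sm gf N47917 = N44795 := ded_35_2 (flp_d L378994) (flp_f L378980) L666200
theorem L666208 : sm gi N44793 = N47918 := rfl
theorem L666210 : sm ga N47918 = N45597 := ded_18_1 (flp_i L385553) L552170 L666208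
theorem L666212 : sm gb N47918 = N44829 := ded_26_1 (flp_i L379302) (flp_b L378977) L666208
theorem L666214 : sm gc N47918 = N47918 := ded_33_1 (flp_i L666208) L378979 L666208
theorem L666215 : sm gf N47918 = N44796 := ded_48_1 (flp_i L379002) (flp_f L378980) L666208
theorem L666217 : sm gh N47918 = N44912 := ded_54_1 (flp_i L379978) L261135 (flp_i L567759) L378973 L666208
theorem L666219 : sm gd N44794 = N47919 := rfl
theorem L666221 : sm ga N47919 = N45576 := ded_12_1 L385420 L554149 L666219
theorem L666223 : sm gb N47919 = N44830 := ded_20_1 (flp_d L379310) (flp_b L378986) L666219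
theorem L666225 : sm gg N47919 = N47919 := ded_36_2 (flp_d L666219) L378991 L666219
theorem L666226 : sm gj N47919 = N44795 := ded_37_2 (flp_d L378994) (flp_j L378992) L666219
theorem L666228 : sm ge N47919 = N45515 := ded_34_2 (flp_d L384910) L264500 (flp_d L554169) (flp_e L378989) L666219
theorem L666230 : sm gh N47919 = N46541 := ded_38_2 (flp_d L651090) (flp_h L292684) (flp_d L615383) L378982 L666219
theorem L666232 : sm gi N44794 = N47920 := rfl
theorem L666234 : sm ga N47920 = N45594 := ded_18_1 (flp_i L385528) L554149 L666232
theorem L666236 : sm gb N47920 = N44831 := ded_26_1 (flp_i L379317) (flp_b L378986) L666232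
theorem L666238 : sm gc N47920 = N47920 := ded_33_1 (flp_i L666232) L378988 L666232
theorem L666239 : sm ge N47920 = N44801 := ded_44_1 (flp_i L379048) (flp_e L378989) L666232
theorem L666241 : sm gg N47920 = N47920 := ded_51_1 (flp_i L666232) L378991 L666232
theorem L666242 : sm gj N47920 = N44796 := ded_53_1 (flp_i L379002) (flp_j L378992) L666232
theorem L666244 : sm gh N47920 = N44909 := ded_54_1 (flp_i L379949) L261118 L554250 L378982 L666232
theorem L666246 : sm gi N44795 = N47921 := rfl
theorem L666248 : sm ga N47921 = N45582 := ded_18_1 (flp_i L385454) (flp_a L534701) L666246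
theorem L666250 : sm gb N47921 = N44834 := ded_26_1 (flp_i L379344) (flp_b L378998) L666246
theorem L666252 : sm gd N47921 = N44796 := ded_39_1 (flp_i L379002) L378994 L666246
theorem L666254 : sm ge N47921 = N45519 := ded_44_1 (flp_i L384946) (flp_e L534703) L666246
theorem L666256 : sm gg N47921 = N44799 := ded_51_1 (flp_i L379028) (flp_g L379000) L666246
theorem L666258 : sm gh N44799 = N47922 := rfl
theorem L666260 : sm ga N47922 = N45592 := ded_17_1 (flp_h L385516) L547354 L666258
theorem L666262 : sm gb N47922 = N44840 := ded_25_1 (flp_h L379390) (flp_b L379032) L666258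
theorem L666264 : sm ge N47922 = N45525 := ded_43_1 (flp_h L384992) (flp_e L534658) L666258
theorem L666266 : sm gj N47922 = N47922 := ded_52_1 (flp_h L666258) L379036 L666258
theorem L666267 : sm gd N47922 = N44907 := ded_38_1 (flp_h L379933) L261100 (flp_h L554349) (flp_d L379034) L666258
theorem L666269 : sm gd N44819 = N47923 := rfl
theorem L666271 : sm ga N47923 = N44871 := ded_12_1 (flp_d L379655) (flp_a L379223) L666269
theorem L666273 : sm gf N47923 = N44821 := ded_35_2 (flp_d L379238) (flp_f L379226) L666269
theorem L666275 : sm gh N47923 = N44828 := ded_38_2 (flp_d L379296) (flp_h L260689) (flp_d L260645) L379221 L666269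
theorem L666277 : sm gi N44819 = N47924 := rfl
theorem L666279 : sm ga N47924 = N44872 := ded_18_1 (flp_i L379663) (flp_a L379223) L666277
theorem L666281 : sm gc N47924 = N47924 := ded_33_1 (flp_i L666277) L379225 L666277
theorem L666282 : sm gf N47924 = N44822 := ded_48_1 (flp_i L379246) (flp_f L379226) L666277
theorem L666284 : sm gh N47924 = N46549 := ded_54_1 (flp_i L651151) L294195 (flp_i L567756) L379221 L666277
theorem L666286 : sm gd N44820 = N47925 := rfl
theorem L666288 : sm ga N47925 = N44873 := ded_12_1 (flp_d L379670) (flp_a L379230) L666286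
theorem L666290 : sm gb N47925 = N46541 := ded_20_1 (flp_d L651090) (flp_b L648841) L666286
theorem L666292 : sm gg N47925 = N47925 := ded_36_2 (flp_d L666286) L379235 L666286
theorem L666293 : sm gj N47925 = N44821 := ded_37_2 (flp_d L379238) (flp_j L379236) L666286
theorem L666295 : sm ge N47925 = N46544 := ded_34_2 (flp_d L651120) L293756 (flp_d L534070) L614939 L666286
theorem L666297 : sm gh N47925 = N44830 := ded_38_2 (flp_d L379310) (flp_h L260697) (flp_d L260652) L379228 L666286
theorem L666299 : sm gi N44820 = N47926 := rfl
theorem L666301 : sm ga N47926 = N44874 := ded_18_1 (flp_i L379679) (flp_a L379230) L666299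
theorem L666303 : sm gb N47926 = N46542 := ded_26_1 (flp_i L651093) (flp_b L648841) L666299
theorem L666305 : sm gc N47926 = N47926 := ded_33_1 (flp_i L666299) L379232 L666299
theorem L666306 : sm ge N47926 = N46529 := ded_44_1 (flp_i L650941) L614939 L666299
theorem L666308 : sm gg N47926 = N47926 := ded_51_1 (flp_i L666299) L379235 L666299
theorem L666309 : sm gj N47926 = N44822 := ded_53_1 (flp_i L379246) (flp_j L379236) L666299
theorem L666311 : sm gh N47926 = N46533 := ded_54_1 (flp_i L651009) (flp_h L287318) L617279 L379228 L666299
theorem L666313 : sm gc N44821 = N47927 := rfl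
theorem L666315 : sm ga N47927 = N44875 := ded_11_1 (flp_c L379689) (flp_a L379240) L666313
theorem L666317 : sm gg N47927 = N44823 := ded_30_2 (flp_c L379255) (flp_g L379242) L666313
theorem L666319 : sm gh N47927 = N44832 := ded_32_2 (flp_c L379328) (flp_h L379244) L666313
theorem L666321 : sm gd N47927 = N47927 := ded_27_2 (flp_c L666313) (flp_d L379238) L260661 L379238 L666313
theorem L666322 : sm gi N44821 = N47928 := rfl
theorem L666324 : sm ga N47928 = N44877 := ded_18_1 (flp_i L379706) (flp_a L379240) L666322
theorem L666326 : sm gd N47928 = N44822 := ded_39_1 (flp_i L379246) L379238 L666322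
theorem L666328 : sm gg N47928 = N44825 := ded_51_1 (flp_i L379272) (flp_g L379242) L666322
theorem L666330 : sm gi N44823 = N47929 := rfl
theorem L666332 : sm ga N47929 = N44880 := ded_18_1 (flp_i L379729) (flp_a L379257) L666330
theorem L666334 : sm gc N47929 = N44825 := ded_33_1 (flp_i L379272) L379255 L666330
theorem L666336 : sm gd N47929 = N47929 := ded_39_1 (flp_i L666330) L379262 L666330
theorem L666337 : sm gj N47929 = N47929 := ded_53_1 (flp_i L666330) L379259 L666330
theorem L666338 : sm gh N44825 = N47930 := rfl
theorem L666340 : sm ga N47930 = N44883 := ded_17_1 (flp_h L379753) (flp_a L379274) L666338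
theorem L666342 : sm gj N47930 = N47930 := ded_52_1 (flp_h L666338) L379278 L666338
theorem L666343 : sm gd N47930 = N45806 := ded_38_1 (flp_h L387289) L266079 L590550 (flp_d L379276) L666338
theorem L666345 : sm gi N47930 = N44840 := ded_54_2 (flp_h L379390) (flp_i L260738) (flp_h L260671) L379272 L666338
theorem L666347 : sm gh N44826 = N47931 := rfl
theorem L666349 : sm ga N47931 = N44884 := ded_17_1 (flp_h L379760) (flp_a L379281) L666347
theorem L666351 : sm gc N47931 = N44853 := ded_32_1 (flp_h L379501) (flp_c L379283) L666347
theorem L666353 : sm gf N47931 = N47931 := ded_47_1 (flp_h L666347) L379285 L666347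
theorem L666354 : sm gg N47931 = N44827 := ded_50_1 (flp_h L379286) L379279 L666347
theorem L666356 : sm gd N44827 = N47932 := rfl
theorem L666358 : sm ga N47932 = N44885 := ded_12_1 (flp_d L379769) (flp_a L379288) L666356
theorem L666360 : sm gf N47932 = N44830 := ded_35_2 (flp_d L379310) (flp_f L379292) L666356
theorem L666362 : sm gj N47932 = N44828 := ded_37_2 (flp_d L379296) (flp_j L379294) L666356
theorem L666364 : sm gi N44827 = N47933 := rfl
theorem L666366 : sm ga N47933 = N44886 := ded_18_1 (flp_i L379777) (flp_a L379288) L666364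
theorem L666368 : sm gc N47933 = N44855 := ded_33_1 (flp_i L379519) (flp_c L379290) L666364
theorem L666370 : sm gf N47933 = N44831 := ded_48_1 (flp_i L379317) (flp_f L379292) L666364
theorem L666372 : sm gj N47933 = N44829 := ded_53_1 (flp_i L379302) (flp_j L379294) L666364
theorem L666374 : sm gh N47933 = N45847 := ded_54_1 (flp_i L387555) L266245 (flp_i L567752) L379286 L666364
theorem L666376 : sm gc N44828 = N47934 := rfl
theorem L666378 : sm ga N47934 = N44887 := ded_11_1 (flp_c L379787) (flp_a L379298) L666376
theorem L666380 : sm gf N47934 = N44832 := ded_29_2 (flp_c L379328) (flp_f L379300) L666376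
theorem L666382 : sm gd N47934 = N44856 := ded_27_2 (flp_c L379528) (flp_d L260851) (flp_c L260693) L379296 L666376
theorem L666384 : sm ge N44828 = N47935 := rfl
theorem L666386 : sm ga N47935 = N44888 := ded_13_1 (flp_e L379793) (flp_a L379298) L666384
theorem L666388 : sm gi N44828 = N47936 := rfl
theorem L666390 : sm ga N47936 = N44889 := ded_18_1 (flp_i L379797) (flp_a L379298) L666388
theorem L666392 : sm gd N47936 = N44829 := ded_39_1 (flp_i L379302) L379296 L666388
theorem L666394 : sm gf N47936 = N44834 := ded_48_1 (flp_i L379344) (flp_f L379300) L666388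
theorem L666396 : sm gc N44830 = N47937 := rfl
theorem L666398 : sm ga N47937 = N44890 := ded_11_1 (flp_c L379805) (flp_a L379312) L666396
theorem L666400 : sm gg N47937 = N47937 := ded_30_2 (flp_c L666396) L379314 L666396
theorem L666401 : sm gj N47937 = N44832 := ded_31_2 (flp_c L379328) (flp_j L379315) L666396
theorem L666403 : sm gd N47937 = N44859 := ded_27_2 (flp_c L379551) (flp_d L260866) (flp_c L260701) L379310 L666396
theorem L666405 : sm ge N44830 = N47938 := rfl
theorem L666407 : sm ga N47938 = N44891 := ded_13_1 (flp_e L379812) (flp_a L379312) L666405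
theorem L666409 : sm gb N47938 = N45515 := ded_21_1 (flp_e L666228) L666223 L666405
theorem L666411 : sm gg N47938 = N47938 := ded_41_2 (flp_e L666405) L379314 L666405
theorem L666412 : sm gj N47938 = N44833 := ded_42_2 (flp_e L379336) (flp_j L379315) L666405
theorem L666414 : sm gh N47938 = N46544 := ded_43_2 (flp_e L666295) L666297 L666405
theorem L666416 : sm gd N47938 = N44841 := ded_34_1 (flp_e L379395) (flp_d L260745) (flp_e L260703) L379310 L666405
theorem L666418 : sm gi N44830 = N47939 := rfl
theorem L666420 : sm ga N47939 = N44892 := ded_18_1 (flp_i L379821) (flp_a L379312) L666418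
theorem L666422 : sm gd N47939 = N44831 := ded_39_1 (flp_i L379317) L379310 L666418
theorem L666424 : sm gg N47939 = N47939 := ded_51_1 (flp_i L666418) L379314 L666418
theorem L666425 : sm gj N47939 = N44834 := ded_53_1 (flp_i L379344) (flp_j L379315) L666418
theorem L666427 : sm gb N44832 = N47940 := rfl
theorem L666429 : sm gd N47940 = N44861 := ded_20_2 (flp_b L379571) (flp_d L379334) L666427
theorem L666431 : sm gg N47940 = N44835 := ded_23_2 (flp_b L379352) (flp_g L379332) L666427
theorem L666433 : sm ge N44832 = N47941 := rfl
theorem L666435 : sm ga N47941 = N44894 := ded_13_1 (flp_e L379838) (flp_a L379330) L666433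
theorem L666437 : sm gc N47941 = N44833 := ded_28_1 (flp_e L379336) L379328 L666433
theorem L666439 : sm gg N47941 = N44836 := ded_41_2 (flp_e L379357) (flp_g L379332) L666433
theorem L666441 : sm gd N47941 = N47941 := ded_34_1 (flp_e L666433) L379334 L260890 (flp_d L379334) L666433
theorem L666442 : sm gi N44832 = N47942 := rfl
theorem L666444 : sm ga N47942 = N44895 := ded_18_1 (flp_i L379845) (flp_a L379330) L666442
theorem L666446 : sm gc N47942 = N44834 := ded_33_1 (flp_i L379344) L379328 L666442
theorem L666448 : sm gd N47942 = N44862 := ded_39_1 (flp_i L379578) (flp_d L379334) L666442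
theorem L666450 : sm gg N47942 = N44837 := ded_51_1 (flp_i L379365) (flp_g L379332) L666442
theorem L666452 : sm gf N44833 = N47943 := rfl
theorem L666454 : sm ga N47943 = N44896 := ded_14_1 (flp_f L379853) (flp_a L379338) L666452
theorem L666456 : sm gb N47943 = N45513 := ded_22_1 L384898 (flp_b L554282) L666452
theorem L666458 : sm gd N47943 = N44843 := ded_35_1 (flp_f L379415) (flp_d L379342) L666452
theorem L666460 : sm gi N44833 = N47944 := rfl
theorem L666462 : sm ga N47944 = N44897 := ded_18_1 (flp_i L379859) (flp_a L379338) L666460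
theorem L666464 : sm gb N47944 = N45519 := ded_26_1 (flp_i L384946) (flp_b L554282) L666460
theorem L666466 : sm gd N47944 = N44844 := ded_39_1 (flp_i L379422) (flp_d L379342) L666460
theorem L666468 : sm ge N47944 = N44834 := ded_44_1 (flp_i L379344) L379336 L666460
theorem L666470 : sm gg N47944 = N44839 := ded_51_1 (flp_i L379381) (flp_g L379340) L666460
theorem L666472 : sm gh N44834 = N47945 := rfl
theorem L666474 : sm ga N47945 = N44898 := ded_17_1 (flp_h L379869) (flp_a L379346) L666472
theorem L666476 : sm gg N47945 = N44840 := ded_50_1 (flp_h L379390) (flp_g L379350) L666472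
theorem L666478 : sm gd N47945 = N45832 := ded_38_1 (flp_h L387459) L266173 L575907 (flp_d L379348) L666472
theorem L666480 : sm gi N44835 = N47946 := rfl
theorem L666482 : sm gb N47946 = N44837 := ded_26_1 (flp_i L379365) L379352 L666480
theorem L666484 : sm gd N47946 = N44865 := ded_39_1 (flp_i L379604) (flp_d L379354) L666480
theorem L666486 : sm gf N47946 = N45885 := ded_48_1 L387883 L648574 L666480
theorem L666488 : sm gj N47946 = N47946 := ded_53_1 (flp_i L666480) L379356 L666480
theorem L666489 : sm gi N44836 = N47947 := rfl
theorem L666491 : sm ga N47947 = N44903 := ded_18_1 (flp_i L379905) (flp_a L379359) L666489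
theorem L666493 : sm gc N47947 = N44839 := ded_33_1 (flp_i L379381) (flp_c L379361) L666489
theorem L666495 : sm gd N47947 = N47947 := ded_39_1 (flp_i L666489) L379364 L666489
theorem L666496 : sm ge N47947 = N44837 := ded_44_1 (flp_i L379365) L379357 L666489
theorem L666498 : sm gj N47947 = N47947 := ded_53_1 (flp_i L666489) L379363 L666489
theorem L666499 : sm gh N44837 = N47948 := rfl
theorem L666501 : sm ga N47948 = N44904 := ded_17_1 (flp_h L379913) (flp_a L379367) L666499
theorem L666503 : sm gc N47948 = N44840 := ded_32_1 (flp_h L379390) (flp_c L379369) L666499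
theorem L666505 : sm gj N47948 = N47948 := ded_52_1 (flp_h L666499) L379373 L666499
theorem L666506 : sm gh N44839 = N47949 := rfl
theorem L666508 : sm ga N47949 = N44907 := ded_17_1 (flp_h L379933) (flp_a L379383) L666506
theorem L666510 : sm gb N47949 = N45525 := ded_25_1 (flp_h L384992) (flp_b L554333) L666506
theorem L666512 : sm ge N47949 = N44840 := ded_43_1 (flp_h L379390) (flp_e L379387) L666506
theorem L666514 : sm gj N47949 = N47949 := ded_52_1 (flp_h L666506) L379389 L666506
theorem L666515 : sm gd N47949 = N45592 := ded_38_1 (flp_h L385516) L264897 L553244 (flp_d L379385) L666506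
theorem L666517 : sm gf N44841 = N47950 := rfl
theorem L666519 : sm ga N47950 = N44908 := ded_14_1 (flp_f L379940) (flp_a L379397) L666517
theorem L666521 : sm gb N47950 = N45512 := ded_22_1 L384890 (flp_b L554271) L666517
theorem L666523 : sm gc N47950 = N47950 := ded_29_1 (flp_f L666517) L379399 L666517
theorem L666524 : sm gj N47950 = N44843 := ded_46_2 (flp_f L379415) (flp_j L379401) L666517
theorem L666526 : sm gh N47950 = N45322 := ded_47_2 L616061 (flp_h L554275) L666517
theorem L666528 : sm ge N47950 = N45324 := ded_40_1 L383407 L263494 (flp_f L622054) L379395 L666517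
theorem L666530 : sm gi N44841 = N47951 := rfl
theorem L666532 : sm ga N47951 = N44909 := ded_18_1 (flp_i L379949) (flp_a L379397) L666530
theorem L666534 : sm gb N47951 = N45516 := ded_26_1 (flp_i L384917) (flp_b L554271) L666530

end Cfsg.Agent.Helper28.FicA
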