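import Cfsg.Agent.Helper28.FicB34

/-! # The Fi₂₃ presentation, cosets of the subgroup generated by a, …, i: the coset enumeration, part 35 (helper28; generated) -/

set_option autoImplicit false

noncomputable section

namespace Cfsg.Agent.Helper28.FicA

open Cfsg.Agent.Helper28.CosetTable

theorem L666536 : sm gc N47951 = N47951 := ded_33_1 (flp_i L666530) L379399 L666530
theorem L666537 : sm ge N47951 = N44842 := ded_44_1 (flp_i L379405) L379395 L666530
theorem L666539 : sm gg N47951 = N47951 := ded_51_1 (flp_i L666530) L379400 L666530
theorem L666540 : sm gj N47951 = N44844 := ded_53_1 (flp_i L379422) (flp_j L379401) L666530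
theorem L666542 : sm gh N47951 = N45594 := ded_54_1 (flp_i L385528) (flp_h L554196) (flp_i L264310) (flp_h L554275) L666530
theorem L666544 : sm gi N44843 = N47952 := rfl
theorem L666546 : sm ga N47952 = N44912 := ded_18_1 (flp_i L379978) (flp_a L379417) L666544
theorem L666548 : sm gb N47952 = N45514 := ded_26_1 (flp_i L384900) (flp_b L554277) L666544
theorem L666550 : sm gc N47952 = N47952 := ded_33_1 (flp_i L666544) L379419 L666544
theorem L666551 : sm gf N47952 = N44844 := ded_48_1 (flp_i L379422) L379415 L666544
theorem L666553 : sm gh N47952 = N45597 := ded_54_1 (flp_i L385553) L552182 (flp_i L264301) (flp_h L554280) L666544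
theorem L666555 : sm gd N44853 = N47953 := rfl
theorem L666557 : sm ga N47953 = N44922 := ded_12_1 (flp_d L380066) (flp_a L379503) L666555
theorem L666559 : sm gb N47953 = N47953 := ded_20_1 (flp_d L666555) L379505 L666555
theorem L666560 : sm gf N47953 = N47953 := ded_35_2 (flp_d L666555) L379506 L666555
theorem L666561 : sm gg N47953 = N44854 := ded_36_2 (flp_d L379509) (flp_g L379507) L666555
theorem L666563 : sm gj N47953 = N46480 := ded_37_2 L655343 L655341 L666555
theorem L666565 : sm ge N47953 = N46500 := ded_34_2 L650737 (flp_e L649941) (flp_d L665023) L665015 L666555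
theorem L666567 : sm gh N47953 = N47953 := ded_38_2 (flp_d L666555) (flp_h L379501) L260840 L379501 L666555
theorem L666568 : sm gi N44853 = N47954 := rfl
theorem L666570 : sm ga N47954 = N44923 := ded_18_1 (flp_i L380074) (flp_a L379503) L666568
theorem L666572 : sm gb N47954 = N47954 := ded_26_1 (flp_i L666568) L379505 L666568
theorem L666573 : sm gf N47954 = N47954 := ded_48_1 (flp_i L666568) L379506 L666568
theorem L666574 : sm gg N47954 = N44855 := ded_51_1 (flp_i L379519) (flp_g L379507) L666568
theorem L666576 : sm gh N47954 = N46518 := ded_54_1 (flp_i L650873) L273092 (flp_i L483771) L379501 L666568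
theorem L666578 : sm gc N44854 = N47955 := rfl
theorem L666580 : sm ga N47955 = N44924 := ded_11_1 (flp_c L380081) (flp_a L379511) L666578
theorem L666582 : sm gf N47955 = N44859 := ded_29_2 (flp_c L379551) (flp_f L379514) L666578
theorem L666584 : sm gj N47955 = N44856 := ded_31_2 (flp_c L379528) (flp_j L379516) L666578
theorem L666586 : sm gh N47955 = N47955 := ded_32_2 (flp_c L666578) L379518 L666578
theorem L666587 : sm ge N44854 = N47956 := rfl
theorem L666589 : sm ga N47956 = N44925 := ded_13_1 (flp_e L380088) (flp_a L379511) L666587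
theorem L666591 : sm gb N47956 = N47956 := ded_21_1 (flp_e L666587) L379513 L666587
theorem L666592 : sm gg N47956 = N46500 := ded_41_2 (flp_e L666565) L666561 L666587
theorem L666594 : sm gj N47956 = N44857 := ded_42_2 (flp_e L379535) (flp_j L379516) L666587
theorem L666596 : sm gh N47956 = N47956 := ded_43_2 (flp_e L666587) L379518 L666587
theorem L666597 : sm gd N47956 = N46517 := ded_34_1 L665038 (flp_d L665025) L376546 L379509 L666587
theorem L666599 : sm gf N47956 = N47956 := ded_40_2 (flp_e L666587) L379514 L260874 (flp_f L379514) L666587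
theorem L666600 : sm gi N44854 = N47957 := rfl
theorem L666602 : sm ga N47957 = N44926 := ded_18_1 (flp_i L380096) (flp_a L379511) L666600
theorem L666604 : sm gb N47957 = N47957 := ded_26_1 (flp_i L666600) L379513 L666600
theorem L666605 : sm gd N47957 = N44855 := ded_39_1 (flp_i L379519) L379509 L666600
theorem L666607 : sm gf N47957 = N44860 := ded_48_1 (flp_i L379560) (flp_f L379514) L666600
theorem L666609 : sm gj N47957 = N44858 := ded_53_1 (flp_i L379542) (flp_j L379516) L666600
theorem L666611 : sm gb N44856 = N47958 := rfl
theorem L666613 : sm gf N47958 = N44861 := ded_22_2 (flp_b L379571) (flp_f L379532) L666611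
theorem L666615 : sm gg N47958 = N46527 := ded_23_2 L655373 L655368 L666611
theorem L666617 : sm gh N47958 = N47958 := ded_25_2 (flp_b L666611) L379534 L666611
theorem L666618 : sm gc N47958 = N47958 := ded_19_2 (flp_b L666611) (flp_c L379528) L260855 L379528 L666611
theorem L666619 : sm ge N44856 = N47959 := rfl
theorem L666621 : sm ga N47959 = N44928 := ded_13_1 (flp_e L380113) (flp_a L379530) L666619
theorem L666623 : sm gc N47959 = N44857 := ded_28_1 (flp_e L379535) L379528 L666619
theorem L666625 : sm gg N47959 = N46486 := ded_41_2 (flp_e L655364) L655368 L666619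
theorem L666627 : sm gh N47959 = N47959 := ded_43_2 (flp_e L666619) L379534 L666619
theorem L666628 : sm gf N47959 = N47959 := ded_40_2 (flp_e L666619) L379532 L260890 (flp_f L379532) L666619
theorem L666629 : sm gi N44856 = N47960 := rfl
theorem L666631 : sm ga N47960 = N44929 := ded_18_1 (flp_i L380119) (flp_a L379530) L666629
theorem L666633 : sm gc N47960 = N44858 := ded_33_1 (flp_i L379542) L379528 L666629
theorem L666635 : sm gf N47960 = N44862 := ded_48_1 (flp_i L379578) (flp_f L379532) L666629
theorem L666637 : sm gi N44857 = N47961 := rfl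
theorem L666639 : sm ga N47961 = N44930 := ded_18_1 (flp_i L380125) (flp_a L379537) L666637
theorem L666641 : sm gb N47961 = N47961 := ded_26_1 (flp_i L666637) L379539 L666637
theorem L666642 : sm gd N47961 = N46518 := ded_39_1 (flp_i L650873) (flp_d L649351) L666637
theorem L666644 : sm ge N47961 = N44858 := ded_44_1 (flp_i L379542) L379535 L666637
theorem L666646 : sm gf N47961 = N47961 := ded_48_1 (flp_i L666637) L379541 L666637
theorem L666647 : sm gg N47961 = N46489 := ded_51_1 (flp_i L650646) L649365 L666637
theorem L666649 : sm gh N44858 = N47962 := rfl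
theorem L666651 : sm ga N47962 = N44931 := ded_17_1 (flp_h L380132) (flp_a L379544) L666649
theorem L666653 : sm gb N47962 = N47962 := ded_25_1 (flp_h L666649) L379546 L666649
theorem L666654 : sm gf N47962 = N44863 := ded_47_1 (flp_h L379587) (flp_f L379549) L666649
theorem L666656 : sm gd N47962 = N46502 := ded_38_1 (flp_h L650751) L272975 (flp_h L568016) (flp_d L379547) L666649
theorem L666658 : sm gi N47962 = N47962 := ded_54_2 (flp_h L666649) (flp_i L379542) L260858 L379542 L666649
theorem L666659 : sm gb N44859 = N47963 := rfl
theorem L666661 : sm ge N47963 = N47963 := ded_21_2 (flp_b L666659) L379555 L666659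
theorem L666662 : sm gg N47963 = N47963 := ded_23_2 (flp_b L666659) L379556 L666659
theorem L666663 : sm gj N47963 = N44861 := ded_24_2 (flp_b L379571) (flp_j L379557) L666659
theorem L666665 : sm gh N47963 = N47963 := ded_25_2 (flp_b L666659) L379559 L666659
theorem L666666 : sm gc N47963 = N47963 := ded_19_2 (flp_b L666659) (flp_c L379551) L260870 L379551 L666659
theorem L666667 : sm gi N44859 = N47964 := rfl
theorem L666669 : sm ga N47964 = N44933 := ded_18_1 (flp_i L380148) (flp_a L379553) L666667
theorem L666671 : sm gc N47964 = N44860 := ded_33_1 (flp_i L379560) L379551 L666667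
theorem L666673 : sm ge N47964 = N47964 := ded_44_1 (flp_i L666667) L379555 L666667
theorem L666674 : sm gg N47964 = N47964 := ded_51_1 (flp_i L666667) L379556 L666667
theorem L666675 : sm gj N47964 = N44862 := ded_53_1 (flp_i L379578) (flp_j L379557) L666667
theorem L666677 : sm gh N44860 = N47965 := rfl
theorem L666679 : sm ga N47965 = N44934 := ded_17_1 (flp_h L380156) (flp_a L379562) L666677
theorem L666681 : sm gb N47965 = N47965 := ded_25_1 (flp_h L666677) L379564 L666677
theorem L666682 : sm ge N47965 = N47965 := ded_43_1 (flp_h L666677) L379567 L666677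
theorem L666683 : sm gg N47965 = N47965 := ded_50_1 (flp_h L666677) L379568 L666677
theorem L666684 : sm gj N47965 = N44863 := ded_52_1 (flp_h L379587) (flp_j L379569) L666677
theorem L666686 : sm gd N47965 = N46490 := ded_38_1 (flp_h L650655) L272904 (flp_h L568005) (flp_d L379565) L666677
theorem L666688 : sm gi N47965 = N47965 := ded_54_2 (flp_h L666677) (flp_i L379560) L260875 L379560 L666677
theorem L666689 : sm ga N44861 = N47966 := rfl
theorem L666691 : sm gc N47966 = N47966 := ded_11_2 (flp_a L666689) L379577 L666689
theorem L666692 : sm ge N47966 = N47966 := ded_13_2 (flp_a L666689) L379573 L666689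
theorem L666693 : sm gg N47966 = N44864 := ded_15_2 (flp_a L379596) (flp_g L379574) L666689
theorem L666695 : sm gh N47966 = N47966 := ded_17_2 (flp_a L666689) L379576 L666689
theorem L666696 : sm gb N47966 = N44935 := ded_10_2 (flp_a L380165) (flp_b L261276) (flp_a L260888) L379571 L666689
theorem L666698 : sm gi N44861 = N47967 := rfl
theorem L666700 : sm gb N47967 = N44862 := ded_26_1 (flp_i L379578) L379571 L666698
theorem L666702 : sm gc N47967 = N47967 := ded_33_1 (flp_i L666698) L379577 L666698
theorem L666703 : sm ge N47967 = N47967 := ded_44_1 (flp_i L666698) L379573 L666698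
theorem L666704 : sm gg N47967 = N44865 := ded_51_1 (flp_i L379604) (flp_g L379574) L666698
theorem L666706 : sm gh N44862 = N47968 := rfl
theorem L666708 : sm ga N47968 = N44937 := ded_17_1 (flp_h L380182) (flp_a L379580) L666706
theorem L666710 : sm gc N47968 = N44863 := ded_32_1 (flp_h L379587) (flp_c L379582) L666706
theorem L666712 : sm ge N47968 = N47968 := ded_43_1 (flp_h L666706) L379584 L666706
theorem L666713 : sm gg N47968 = N44866 := ded_50_1 (flp_h L379611) (flp_g L379585) L666706
theorem L666715 : sm gi N47968 = N47968 := ded_54_2 (flp_h L666706) (flp_i L379578) L260893 L379578 L666706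
theorem L666716 : sm gi N44864 = N47969 := rfl
theorem L666718 : sm ga N47969 = N44865 := ded_18_1 (flp_i L379604) L379596 L666716
theorem L666720 : sm gb N47969 = N44938 := ded_26_1 (flp_i L380190) (flp_b L379602) L666716
theorem L666722 : sm gc N47969 = N47969 := ded_33_1 (flp_i L666716) L379598 L666716
theorem L666723 : sm ge N47969 = N47969 := ded_44_1 (flp_i L666716) L379599 L666716
theorem L666724 : sm gf N47969 = N46470 := ded_48_1 L650485 L648572 L666716
theorem L666726 : sm gj N47969 = N47969 := ded_53_1 (flp_i L666716) L379600 L666716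
theorem L666727 : sm gh N44865 = N47970 := rfl
theorem L666729 : sm gb N47970 = N44866 := ded_25_1 (flp_h L379611) (flp_b L379606) L666727
theorem L666731 : sm gc N47970 = N47970 := ded_32_1 (flp_h L666727) L379608 L666727
theorem L666732 : sm ge N47970 = N47970 := ded_43_1 (flp_h L666727) L379609 L666727
theorem L666733 : sm gf N47970 = N46514 := ded_47_1 L650846 L648576 L666727
theorem L666735 : sm gj N47970 = N47970 := ded_52_1 (flp_h L666727) L379610 L666727
theorem L666736 : sm gi N47970 = N47970 := ded_54_2 (flp_h L666727) (flp_i L379604) L260908 L379604 L666727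
theorem L666737 : sm gd N44866 = N47971 := rfl
theorem L666739 : sm ga N47971 = N44940 := ded_12_1 (flp_d L380207) (flp_a L379613) L666737
theorem L666741 : sm gj N47971 = N47971 := ded_37_2 (flp_d L666737) L379618 L666737
theorem L666742 : sm gi N47971 = N47971 := ded_39_2 (flp_d L666737) L379619 L666737
theorem L666743 : sm gc N47971 = N46513 := ded_27_1 (flp_d L650838) L273043 (flp_d L547485) (flp_c L379615) L666737
theorem L666745 : sm gd N44868 = N47972 := rfl
theorem L666747 : sm gb N47972 = N45781 := ded_20_1 (flp_d L387108) (flp_b L379631) L666745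
theorem L666749 : sm gf N47972 = N45790 := ded_35_2 (flp_d L615004) (flp_f L379636) L666745
theorem L666751 : sm gj N47972 = N45795 := ded_37_2 L387213 L648845 L666745
theorem L666753 : sm gh N47972 = N45821 := ded_38_2 L387385 L266245 (flp_d L617250) L379629 L666745
theorem L666755 : sm gi N44868 = N47973 := rfl
theorem L666757 : sm gb N47973 = N45782 := ded_26_1 (flp_i L387112) (flp_b L379631) L666755
theorem L666759 : sm gc N47973 = N47973 := ded_33_1 (flp_i L666755) L379633 L666755
theorem L666760 : sm ge N47973 = N44872 := ded_44_1 (flp_i L379663) (flp_e L379634) L666755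
theorem L666762 : sm gf N47973 = N46533 := ded_48_1 (flp_i L651009) (flp_f L379636) L666755
theorem L666764 : sm gj N47973 = N46549 := ded_53_1 (flp_i L651151) L648845 L666755
theorem L666766 : sm gh N44869 = N47974 := rfl
theorem L666768 : sm gb N47974 = N45783 := ded_25_1 (flp_h L387120) (flp_b L379640) L666766
theorem L666770 : sm gc N47974 = N47974 := ded_32_1 (flp_h L666766) L379642 L666766
theorem L666771 : sm ge N47974 = N46548 := ded_43_1 L651147 (flp_e L648851) L666766
theorem L666773 : sm gf N47974 = N47974 := ded_47_1 (flp_h L666766) L379645 L666766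
theorem L666774 : sm gg N47974 = N44870 := ded_50_1 (flp_h L379646) L379638 L666766
theorem L666776 : sm gd N44870 = N47975 := rfl
theorem L666778 : sm gb N47975 = N45784 := ded_20_1 (flp_d L387127) (flp_b L379648) L666776
theorem L666780 : sm gf N47975 = N44873 := ded_35_2 (flp_d L379670) (flp_f L379651) L666776
theorem L666782 : sm gj N47975 = N44871 := ded_37_2 (flp_d L379655) (flp_j L379653) L666776
theorem L666784 : sm gh N47975 = N44885 := ded_38_2 (flp_d L379769) (flp_h L261005) (flp_d L260938) L379646 L666776
theorem L666786 : sm gi N44870 = N47976 := rfl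
theorem L666788 : sm gb N47976 = N45785 := ded_26_1 (flp_i L387135) (flp_b L379648) L666786
theorem L666790 : sm gc N47976 = N47976 := ded_33_1 (flp_i L666786) L379650 L666786
theorem L666791 : sm ge N47976 = N46549 := ded_44_1 (flp_i L651151) (flp_e L648853) L666786
theorem L666793 : sm gf N47976 = N44874 := ded_48_1 (flp_i L379679) (flp_f L379651) L666786
theorem L666795 : sm gj N47976 = N44872 := ded_53_1 (flp_i L379663) (flp_j L379653) L666786
theorem L666797 : sm gc N44871 = N47977 := rfl
theorem L666799 : sm gf N47977 = N44875 := ded_29_2 (flp_c L379689) (flp_f L379659) L666797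
theorem L666801 : sm gh N47977 = N44887 := ded_32_2 (flp_c L379787) (flp_h L379661) L666797
theorem L666803 : sm gd N47977 = N47977 := ded_27_2 (flp_c L666797) (flp_d L379655) L260946 L379655 L666797
theorem L666804 : sm ge N44871 = N47978 := rfl
theorem L666806 : sm gb N47978 = N45787 := ded_21_1 (flp_e L387151) (flp_b L379657) L666804
theorem L666808 : sm gh N47978 = N44888 := ded_43_2 (flp_e L379793) (flp_h L379661) L666804
theorem L666810 : sm gi N44871 = N47979 := rfl
theorem L666812 : sm gb N47979 = N45788 := ded_26_1 (flp_i L387155) (flp_b L379657) L666810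
theorem L666814 : sm gd N47979 = N44872 := ded_39_1 (flp_i L379663) L379655 L666810
theorem L666816 : sm gf N47979 = N44877 := ded_48_1 (flp_i L379706) (flp_f L379659) L666810
theorem L666818 : sm gc N44873 = N47980 := rfl
theorem L666820 : sm ge N47980 = N46546 := ded_28_2 (flp_c L651134) (flp_e L648855) L666818
theorem L666822 : sm gg N47980 = N47980 := ded_30_2 (flp_c L666818) L379674 L666818
theorem L666823 : sm gj N47980 = N44875 := ded_31_2 (flp_c L379689) (flp_j L379675) L666818
theorem L666825 : sm gh N47980 = N44890 := ded_32_2 (flp_c L379805) (flp_h L379677) L666818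
theorem L666827 : sm gd N47980 = N47980 := ded_27_2 (flp_c L666818) (flp_d L379670) L260953 L379670 L666818
theorem L666828 : sm gi N44873 = N47981 := rfl
theorem L666830 : sm gb N47981 = N45791 := ded_26_1 (flp_i L387179) (flp_b L379672) L666828
theorem L666832 : sm gd N47981 = N44874 := ded_39_1 (flp_i L379679) L379670 L666828
theorem L666834 : sm ge N47981 = N46547 := ded_44_1 (flp_i L651139) (flp_e L648855) L666828
theorem L666836 : sm gg N47981 = N47981 := ded_51_1 (flp_i L666828) L379674 L666828
theorem L666837 : sm gj N47981 = N44877 := ded_53_1 (flp_i L379706) (flp_j L379675) L666828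
theorem L666839 : sm gb N44875 = N47982 := rfl
theorem L666841 : sm gd N47982 = N47982 := ded_20_2 (flp_b L666839) L379695 L666839
theorem L666842 : sm gg N47982 = N44878 := ded_23_2 (flp_b L379714) (flp_g L379691) L666839
theorem L666844 : sm gh N47982 = N44893 := ded_25_2 (flp_b L379830) (flp_h L379693) L666839
theorem L666846 : sm gc N47982 = N45792 := ded_19_2 (flp_b L387186) (flp_c L266026) (flp_b L260961) L379689 L666839
theorem L666848 : sm ge N44875 = N47983 := rfl
theorem L666850 : sm gc N47983 = N44876 := ded_28_1 (flp_e L379696) L379689 L666848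
theorem L666852 : sm gg N47983 = N44879 := ded_41_2 (flp_e L379722) (flp_g L379691) L666848
theorem L666854 : sm gj N47983 = N46546 := ded_42_2 (flp_e L666820) L666823 L666848
theorem L666856 : sm gh N47983 = N44894 := ded_43_2 (flp_e L379838) (flp_h L379693) L666848
theorem L666858 : sm gd N46560 = N47983 := ded_27_0 L666850 L379704 L615041 L295766 L651228
theorem L666860 : sm gi N44875 = N47984 := rfl
theorem L666862 : sm gc N47984 = N44877 := ded_33_1 (flp_i L379706) L379689 L666860
theorem L666864 : sm gd N47984 = N47984 := ded_39_1 (flp_i L666860) L379695 L666860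
theorem L666865 : sm gg N47984 = N44880 := ded_51_1 (flp_i L379729) (flp_g L379691) L666860
theorem L666867 : sm gf N44876 = N47985 := rfl
theorem L666869 : sm gb N47985 = N45795 := ded_22_1 (flp_f L387211) (flp_b L379698) L666867
theorem L666871 : sm gd N47985 = N45780 := ded_35_1 (flp_f L615043) (flp_d L379704) L666867
theorem L666873 : sm gj N47985 = N45781 := ded_46_2 L387110 L648849 L666867
theorem L666875 : sm gh N47985 = N44896 := ded_47_2 (flp_f L379853) (flp_h L379702) L666867
theorem L666877 : sm gi N44876 = N47986 := rfl
theorem L666879 : sm gb N47986 = N45796 := ded_26_1 (flp_i L387217) (flp_b L379698) L666877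
theorem L666881 : sm gd N47986 = N46534 := ded_39_1 (flp_i L651019) (flp_d L379704) L666877
theorem L666883 : sm ge N47986 = N44877 := ded_44_1 (flp_i L379706) L379696 L666877
theorem L666885 : sm gg N47986 = N44882 := ded_51_1 (flp_i L379744) (flp_g L379700) L666877
theorem L666887 : sm gj N47986 = N46547 := ded_53_1 (flp_i L651139) L648849 L666877
theorem L666889 : sm gh N44877 = N47987 := rfl
theorem L666891 : sm gb N47987 = N45797 := ded_25_1 (flp_h L387225) (flp_b L379708) L666889
theorem L666893 : sm gg N47987 = N44883 := ded_50_1 (flp_h L379753) (flp_g L379712) L666889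
theorem L666895 : sm gi N47987 = N44898 := ded_54_2 (flp_h L379869) (flp_i L261061) (flp_h L260965) L379706 L666889
theorem L666897 : sm ge N44878 = N47988 := rfl
theorem L666899 : sm ga N47988 = N45835 := ded_13_1 (flp_e L662961) L662951 L666897
theorem L666901 : sm gb N47988 = N44879 := ded_21_1 (flp_e L379722) L379714 L666897
theorem L666903 : sm gc N47988 = N45799 := ded_28_1 (flp_e L387238) (flp_c L379720) L666897
theorem L666905 : sm gj N47988 = N47988 := ded_42_2 (flp_e L666897) L379717 L666897
theorem L666906 : sm gh N47988 = N44900 := ded_43_2 (flp_e L379882) (flp_h L379718) L666897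
theorem L666908 : sm gf N47988 = N45833 := ded_40_2 (flp_e L387465) (flp_f L364103) L655548 L655539 L666897
theorem L666910 : sm gd N47988 = N46503 := ded_56_3 L650761 (flp_b L654512) (flp_a L654499) L356529 L356526 L547425 L187395 L129249 (flp_b L129243) L89178 L61830 L43044 (flp_e L60869) (flp_d L87937) (flp_c L87933) L60798 L546630 L120656 L120661 L88036 L62100 (flp_c L89747) (flp_b L130006) (flp_a L188663) (flp_h L188661) L130002 (flp_e L185171) L543467 L253618 L253623 (flp_a L174978) (flp_h L172621) L172618 L126215 (flp_d L129344) L129349 (flp_b L129342) (flp_a L129059) L129063 L129061 L547395 (flp_d L260170) (flp_c L260167) L179039 (flp_a L181964) L508344 L249527 L264877 L264882 L264879 (flp_b L553266) L125823 (flp_h L126010) (flp_f L172410) L250336 L250341 (flp_c L363963) (flp_b L655751) (flp_a L655740) (flp_h L655542) L655539 L666897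
theorem L666912 : sm gi N44878 = N47989 := rfl
theorem L666914 : sm gb N47989 = N44880 := ded_26_1 (flp_i L379729) L379714 L666912
theorem L666916 : sm gc N47989 = N45800 := ded_33_1 (flp_i L387246) (flp_c L379720) L666912
theorem L666918 : sm gd N47989 = N47989 := ded_39_1 (flp_i L666912) L379716 L666912
theorem L666919 : sm gj N47989 = N47989 := ded_53_1 (flp_i L666912) L379717 L666912
theorem L666920 : sm gi N44879 = N47990 := rfl
theorem L666922 : sm gc N47990 = N44882 := ded_33_1 (flp_i L379744) (flp_c L379724) L666920
theorem L666924 : sm ge N47990 = N44880 := ded_44_1 (flp_i L379729) L379722 L666920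
theorem L666926 : sm gj N47990 = N47990 := ded_53_1 (flp_i L666920) L379726 L666920
theorem L666927 : sm gh N44880 = N47991 := rfl
theorem L666929 : sm gc N47991 = N44883 := ded_32_1 (flp_h L379753) (flp_c L379731) L666927
theorem L666931 : sm gj N47991 = N47991 := ded_52_1 (flp_h L666927) L379734 L666927
theorem L666932 : sm gi N47991 = N44904 := ded_54_2 (flp_h L379913) (flp_i L261082) (flp_h L260979) L379729 L666927
theorem L666934 : sm gg N44881 = N47992 := rfl
theorem L666936 : sm ga N47992 = N45578 := ded_15_1 L385433 (flp_a L542370) L666934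
theorem L666938 : sm gb N47992 = N45804 := ded_23_1 (flp_g L387276) (flp_b L379737) L666934
theorem L666940 : sm gd N47992 = N45620 := ded_36_1 L385745 (flp_d L542372) L666934
theorem L666942 : sm gh N47992 = N44905 := ded_50_2 (flp_g L379918) (flp_h L379742) L666934
theorem L666944 : sm gi N44881 = N47993 := rfl
theorem L666946 : sm ga N47993 = N45586 := ded_18_1 (flp_i L385479) (flp_a L542370) L666944
theorem L666948 : sm gb N47993 = N45805 := ded_26_1 (flp_i L387282) (flp_b L379737) L666944
theorem L666950 : sm gd N47993 = N45623 := ded_39_1 (flp_i L385767) (flp_d L542372) L666944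
theorem L666952 : sm gf N47993 = N44882 := ded_48_1 (flp_i L379744) L379735 L666944
theorem L666954 : sm gj N47993 = N47993 := ded_53_1 (flp_i L666944) L379741 L666944
theorem L666955 : sm gh N44882 = N47994 := rfl
theorem L666957 : sm gb N47994 = N45806 := ded_25_1 (flp_h L387289) (flp_b L379746) L666955
theorem L666959 : sm ge N47994 = N44883 := ded_43_1 (flp_h L379753) (flp_e L379750) L666955
theorem L666961 : sm gj N47994 = N47994 := ded_52_1 (flp_h L666955) L379752 L666955
theorem L666962 : sm gi N47994 = N44907 := ded_54_2 (flp_h L379933) (flp_i L261096) (flp_h L260987) L379744 L666955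
theorem L666964 : sm gd N44884 = N47995 := rfl
theorem L666966 : sm gb N47995 = N45807 := ded_20_1 (flp_d L387296) (flp_b L379762) L666964
theorem L666968 : sm gf N47995 = N47995 := ded_35_2 (flp_d L666964) L379766 L666964
theorem L666969 : sm gg N47995 = N44885 := ded_36_2 (flp_d L379769) (flp_g L379767) L666964
theorem L666971 : sm gi N44884 = N47996 := rfl
theorem L666973 : sm gb N47996 = N45808 := ded_26_1 (flp_i L387301) (flp_b L379762) L666971
theorem L666975 : sm gc N47996 = N44923 := ded_33_1 (flp_i L380074) (flp_c L379764) L666971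
theorem L666977 : sm gf N47996 = N47996 := ded_48_1 (flp_i L666971) L379766 L666971
theorem L666978 : sm gg N47996 = N44886 := ded_51_1 (flp_i L379777) (flp_g L379767) L666971
theorem L666980 : sm gc N44885 = N47997 := rfl
theorem L666982 : sm gf N47997 = N44890 := ded_29_2 (flp_c L379805) (flp_f L379773) L666980
theorem L666984 : sm gj N47997 = N44887 := ded_31_2 (flp_c L379787) (flp_j L379775) L666980
theorem L666986 : sm gd N47997 = N44924 := ded_27_2 (flp_c L380081) (flp_d L261223) (flp_c L261009) L379769 L666980
theorem L666988 : sm ge N44885 = N47998 := rfl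
theorem L666990 : sm gb N47998 = N45810 := ded_21_1 (flp_e L387316) (flp_b L379771) L666988
theorem L666992 : sm gj N47998 = N44888 := ded_42_2 (flp_e L379793) (flp_j L379775) L666988
theorem L666994 : sm gi N44885 = N47999 := rfl
theorem L666996 : sm gb N47999 = N45811 := ded_26_1 (flp_i L387320) (flp_b L379771) L666994
theorem L666998 : sm gd N47999 = N44886 := ded_39_1 (flp_i L379777) L379769 L666994
theorem L667000 : sm gf N47999 = N44892 := ded_48_1 (flp_i L379821) (flp_f L379773) L666994
theorem L667002 : sm gj N47999 = N44889 := ded_53_1 (flp_i L379797) (flp_j L379775) L666994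
theorem L667004 : sm gb N44887 = N48000 := rfl
theorem L667006 : sm gd N48000 = N44927 := ded_20_2 (flp_b L380106) (flp_d L379791) L667004
theorem L667008 : sm gf N48000 = N44893 := ded_22_2 (flp_b L379830) (flp_f L379789) L667004
theorem L667010 : sm gc N48000 = N45812 := ded_19_2 (flp_b L387328) (flp_c L266110) (flp_b L261017) L379787 L667004
theorem L667012 : sm ge N44887 = N48001 := rfl
theorem L667014 : sm gc N48001 = N44888 := ded_28_1 (flp_e L379793) L379787 L667012
theorem L667016 : sm gi N44887 = N48002 := rfl
theorem L667018 : sm gc N48002 = N44889 := ded_33_1 (flp_i L379797) L379787 L667016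
theorem L667020 : sm gd N48002 = N44929 := ded_39_1 (flp_i L380119) (flp_d L379791) L667016
theorem L667022 : sm gf N48002 = N44895 := ded_48_1 (flp_i L379845) (flp_f L379789) L667016
theorem L667024 : sm gf N44888 = N48003 := rfl
theorem L667026 : sm gb N48003 = N45815 := ded_22_1 (flp_f L387346) (flp_b L379795) L667024
theorem L667028 : sm ge N48003 = N44896 := ded_40_1 (flp_f L379853) (flp_e L261053) (flp_f L261019) L379793 L667024
theorem L667030 : sm gi N44888 = N48004 := rfl
theorem L667032 : sm gb N48004 = N45816 := ded_26_1 (flp_i L387350) (flp_b L379795) L667030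
theorem L667034 : sm ge N48004 = N44889 := ded_44_1 (flp_i L379797) L379793 L667030
theorem L667036 : sm gh N44889 = N48005 := rfl
theorem L667038 : sm gb N48005 = N45817 := ded_25_1 (flp_h L387354) (flp_b L379799) L667036
theorem L667040 : sm gf N48005 = N44898 := ded_47_1 (flp_h L379869) (flp_f L379803) L667036
theorem L667042 : sm gb N44890 = N48006 := rfl
theorem L667044 : sm gd N48006 = N44932 := ded_20_2 (flp_b L380139) (flp_d L379810) L667042
theorem L667046 : sm gg N48006 = N48006 := ded_23_2 (flp_b L667042) L379807 L667042
theorem L667047 : sm gj N48006 = N44893 := ded_24_2 (flp_b L379830) (flp_j L379808) L667042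
theorem L667049 : sm gc N48006 = N45818 := ded_19_2 (flp_b L387358) (flp_c L266124) (flp_b L261031) L379805 L667042
theorem L667051 : sm ge N44890 = N48007 := rfl
theorem L667053 : sm gc N48007 = N44891 := ded_28_1 (flp_e L379812) L379805 L667051
theorem L667055 : sm gg N48007 = N48007 := ded_41_2 (flp_e L667051) L379807 L667051
theorem L667056 : sm gj N48007 = N44894 := ded_42_2 (flp_e L379838) (flp_j L379808) L667051
theorem L667058 : sm gh N48007 = N46546 := ded_43_2 (flp_e L666820) L666825 L667051
theorem L667060 : sm gd N48007 = N48007 := ded_34_1 (flp_e L667051) L379810 L261261 (flp_d L379810) L667051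
theorem L667061 : sm gi N44890 = N48008 := rfl
theorem L667063 : sm gc N48008 = N44892 := ded_33_1 (flp_i L379821) L379805 L667061
theorem L667065 : sm gd N48008 = N44933 := ded_39_1 (flp_i L380148) (flp_d L379810) L667061
theorem L667067 : sm gg N48008 = N48008 := ded_51_1 (flp_i L667061) L379807 L667061
theorem L667068 : sm gj N48008 = N44895 := ded_53_1 (flp_i L379845) (flp_j L379808) L667061
theorem L667070 : sm gf N44891 = N48009 := rfl
theorem L667072 : sm gb N48009 = N45821 := ded_22_1 (flp_f L387383) (flp_b L379814) L667070
theorem L667074 : sm gd N48009 = N44908 := ded_35_1 (flp_f L379940) (flp_d L379819) L667070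
theorem L667076 : sm gj N48009 = N44896 := ded_46_2 (flp_f L379853) (flp_j L379817) L667070
theorem L667078 : sm gh N48009 = N45781 := ded_47_2 L387110 L648927 L667070
theorem L667080 : sm gi N44891 = N48010 := rfl
theorem L667082 : sm gb N48010 = N45822 := ded_26_1 (flp_i L387389) (flp_b L379814) L667080
theorem L667084 : sm gd N48010 = N44909 := ded_39_1 (flp_i L379949) (flp_d L379819) L667080
theorem L667086 : sm ge N48010 = N44892 := ded_44_1 (flp_i L379821) L379812 L667080
theorem L667088 : sm gg N48010 = N48010 := ded_51_1 (flp_i L667080) L379816 L667080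
theorem L667089 : sm gj N48010 = N44897 := ded_53_1 (flp_i L379859) (flp_j L379817) L667080
theorem L667091 : sm gh N44892 = N48011 := rfl
theorem L667093 : sm gb N48011 = N45823 := ded_25_1 (flp_h L387398) (flp_b L379823) L667091
theorem L667095 : sm gg N48011 = N48011 := ded_50_1 (flp_h L667091) L379827 L667091
theorem L667096 : sm gj N48011 = N44898 := ded_52_1 (flp_h L379869) (flp_j L379828) L667091
theorem L667098 : sm ga N44893 = N48012 := rfl
theorem L667100 : sm gc N48012 = N45824 := ded_11_2 (flp_a L387403) (flp_c L379836) L667098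
theorem L667102 : sm gd N48012 = N44935 := ded_12_2 (flp_a L380165) (flp_d L379832) L667098
theorem L667104 : sm gg N48012 = N44899 := ded_15_2 (flp_a L379875) (flp_g L379834) L667098
theorem L667106 : sm ge N44893 = N48013 := rfl
theorem L667108 : sm gb N48013 = N44894 := ded_21_1 (flp_e L379838) L379830 L667106
theorem L667110 : sm gc N48013 = N45825 := ded_28_1 (flp_e L387409) (flp_c L379836) L667106
theorem L667112 : sm gg N48013 = N44900 := ded_41_2 (flp_e L379882) (flp_g L379834) L667106
theorem L667114 : sm gd N48013 = N48013 := ded_34_1 (flp_e L667106) L379832 L261278 (flp_d L379832) L667106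
theorem L667115 : sm gi N44893 = N48014 := rfl
theorem L667117 : sm gb N48014 = N44895 := ded_26_1 (flp_i L379845) L379830 L667115
theorem L667119 : sm gc N48014 = N45826 := ded_33_1 (flp_i L387417) (flp_c L379836) L667115
theorem L667121 : sm gd N48014 = N44936 := ded_39_1 (flp_i L380173) (flp_d L379832) L667115
theorem L667123 : sm gg N48014 = N44901 := ded_51_1 (flp_i L379890) (flp_g L379834) L667115
theorem L667125 : sm gf N44894 = N48015 := rfl
theorem L667127 : sm gc N48015 = N44896 := ded_29_1 (flp_f L379853) (flp_c L379840) L667125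
theorem L667129 : sm gd N48015 = N48015 := ded_35_1 (flp_f L667125) L379844 L667125
theorem L667130 : sm gi N44894 = N48016 := rfl
theorem L667132 : sm gc N48016 = N44897 := ded_33_1 (flp_i L379859) (flp_c L379840) L667130
theorem L667134 : sm gd N48016 = N48016 := ded_39_1 (flp_i L667130) L379844 L667130
theorem L667135 : sm ge N48016 = N44895 := ded_44_1 (flp_i L379845) L379838 L667130
theorem L667137 : sm gg N48016 = N44903 := ded_51_1 (flp_i L379905) (flp_g L379842) L667130
theorem L667139 : sm gh N44895 = N48017 := rfl
theorem L667141 : sm gc N48017 = N44898 := ded_32_1 (flp_h L379869) (flp_c L379847) L667139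
theorem L667143 : sm gg N48017 = N44904 := ded_50_1 (flp_h L379913) (flp_g L379851) L667139
theorem L667145 : sm gg N44896 = N48018 := rfl
theorem L667147 : sm gb N48018 = N45830 := ded_23_1 (flp_g L387447) (flp_b L379855) L667145
theorem L667149 : sm gd N48018 = N44911 := ded_36_1 (flp_g L379969) (flp_d L379857) L667145
theorem L667151 : sm gf N48018 = N44905 := ded_45_1 (flp_g L379918) (flp_f L261089) (flp_g L261057) L379853 L667145
theorem L667153 : sm gi N44896 = N48019 := rfl
theorem L667155 : sm gb N48019 = N45831 := ded_26_1 (flp_i L387453) (flp_b L379855) L667153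
theorem L667157 : sm gd N48019 = N44912 := ded_39_1 (flp_i L379978) (flp_d L379857) L667153
theorem L667159 : sm gf N48019 = N44897 := ded_48_1 (flp_i L379859) L379853 L667153
theorem L667161 : sm gh N44897 = N48020 := rfl
theorem L667163 : sm gb N48020 = N45832 := ded_25_1 (flp_h L387459) (flp_b L379861) L667161
theorem L667165 : sm ge N48020 = N44898 := ded_43_1 (flp_h L379869) (flp_e L379865) L667161
theorem L667167 : sm gg N48020 = N44907 := ded_50_1 (flp_h L379933) (flp_g L379867) L667161
theorem L667169 : sm ge N44899 = N48021 := rfl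
theorem L667171 : sm ga N48021 = N44900 := ded_13_1 (flp_e L379882) L379875 L667169
theorem L667173 : sm gb N48021 = N45801 := ded_21_1 (flp_e L662713) L662704 L667169
theorem L667175 : sm gc N48021 = N45833 := ded_28_1 (flp_e L387465) (flp_c L379877) L667169
theorem L667177 : sm gj N48021 = N48021 := ded_42_2 (flp_e L667169) L379881 L667169
theorem L667178 : sm gh N48021 = N45835 := ded_43_2 (flp_e L662961) L662959 L667169
theorem L667180 : sm gd N48021 = N48021 := ded_34_1 (flp_e L667169) L379879 L261303 (flp_d L379879) L667169
theorem L667181 : sm gf N48021 = N45799 := ded_40_2 (flp_e L387238) (flp_f L363956) L655753 L655746 L667169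
theorem L667183 : sm gi N44899 = N48022 := rfl
theorem L667185 : sm ga N48022 = N44901 := ded_18_1 (flp_i L379890) L379875 L667183
theorem L667187 : sm gc N48022 = N45834 := ded_33_1 (flp_i L387472) (flp_c L379877) L667183
theorem L667189 : sm gd N48022 = N44938 := ded_39_1 (flp_i L380190) (flp_d L379879) L667183
theorem L667191 : sm gj N48022 = N48022 := ded_53_1 (flp_i L667183) L379881 L667183
theorem L667192 : sm gf N44900 = N48023 := rfl
theorem L667194 : sm ga N48023 = N45799 := ded_14_1 (flp_f L667181) L667171 L667192
theorem L667196 : sm gb N48023 = N44902 := ded_22_1 (flp_f L379899) (flp_b L379884) L667192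
theorem L667198 : sm gc N48023 = N45835 := ded_29_1 (flp_f L387479) (flp_c L379886) L667192
theorem L667200 : sm gd N48023 = N48023 := ded_35_1 (flp_f L667192) L379889 L667192
theorem L667201 : sm gj N48023 = N48023 := ded_46_2 (flp_f L667192) L379888 L667192
theorem L667202 : sm gh N48023 = N45833 := ded_47_2 (flp_f L666908) L666906 L667192
theorem L667204 : sm ge N48023 = N45798 := ded_40_1 L655768 (flp_e L655755) L357310 L379882 L667192
theorem L667206 : sm gi N44900 = N48024 := rfl
theorem L667208 : sm gb N48024 = N44903 := ded_26_1 (flp_i L379905) (flp_b L379884) L667206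
theorem L667210 : sm gc N48024 = N45836 := ded_33_1 (flp_i L387486) (flp_c L379886) L667206
theorem L667212 : sm gd N48024 = N48024 := ded_39_1 (flp_i L667206) L379889 L667206
theorem L667213 : sm ge N48024 = N44901 := ded_44_1 (flp_i L379890) L379882 L667206
theorem L667215 : sm gj N48024 = N48024 := ded_53_1 (flp_i L667206) L379888 L667206
theorem L667216 : sm gh N44901 = N48025 := rfl
theorem L667218 : sm gb N48025 = N44904 := ded_25_1 (flp_h L379913) (flp_b L379892) L667216
theorem L667220 : sm gc N48025 = N45837 := ded_32_1 (flp_h L387495) (flp_c L379894) L667216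
theorem L667222 : sm gj N48025 = N48025 := ded_52_1 (flp_h L667216) L379898 L667216
theorem L667223 : sm gg N44902 = N48026 := rfl
theorem L667225 : sm gc N48026 = N44905 := ded_30_1 (flp_g L379918) (flp_c L379901) L667223
theorem L667227 : sm gd N48026 = N48026 := ded_36_1 (flp_g L667223) L379903 L667223
theorem L667228 : sm gi N44902 = N48027 := rfl
theorem L667230 : sm gc N48027 = N44906 := ded_33_1 (flp_i L379924) (flp_c L379901) L667228
theorem L667232 : sm gd N48027 = N48027 := ded_39_1 (flp_i L667228) L379903 L667228
theorem L667233 : sm gf N48027 = N44903 := ded_48_1 (flp_i L379905) L379899 L667228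
theorem L667235 : sm gj N48027 = N48027 := ded_53_1 (flp_i L667228) L379904 L667228
theorem L667236 : sm gh N44903 = N48028 := rfl
theorem L667238 : sm gc N48028 = N44907 := ded_32_1 (flp_h L379933) (flp_c L379907) L667236
theorem L667240 : sm ge N48028 = N44904 := ded_43_1 (flp_h L379913) (flp_e L379910) L667236
theorem L667242 : sm gj N48028 = N48028 := ded_52_1 (flp_h L667236) L379912 L667236
theorem L667243 : sm gd N44904 = N48029 := rfl
theorem L667245 : sm gj N48029 = N48029 := ded_37_2 (flp_d L667243) L379917 L667243
theorem L667246 : sm gh N48029 = N44940 := ded_38_2 (flp_d L380207) (flp_h L261314) (flp_d L261086) L379913 L667243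
theorem L667248 : sm gj N44905 = N48030 := rfl
theorem L667250 : sm gb N48030 = N45842 := ded_24_1 (flp_j L387527) (flp_b L379920) L667248
theorem L667252 : sm gd N48030 = N44914 := ded_37_1 (flp_j L379996) (flp_d L379922) L667248
theorem L667254 : sm gg N48030 = N48030 := ded_49_1 (flp_j L667248) (flp_g L379918) L261095 L379918 L667248
theorem L667255 : sm gi N44905 = N48031 := rfl
theorem L667257 : sm gb N48031 = N45843 := ded_26_1 (flp_i L387532) (flp_b L379920) L667255
theorem L667259 : sm gd N48031 = N44915 := ded_39_1 (flp_i L380006) (flp_d L379922) L667255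
theorem L667261 : sm gg N48031 = N44906 := ded_51_1 (flp_i L379924) L379918 L667255
theorem L667263 : sm gh N44906 = N48032 := rfl
theorem L667265 : sm gb N48032 = N45844 := ded_25_1 (flp_h L387538) (flp_b L379926) L667263
theorem L667267 : sm gf N48032 = N44907 := ded_47_1 (flp_h L379933) (flp_f L379930) L667263
theorem L667269 : sm gj N48032 = N48032 := ded_52_1 (flp_h L667263) L379932 L667263
theorem L667270 : sm gi N44908 = N48033 := rfl
theorem L667272 : sm gb N48033 = N45847 := ded_26_1 (flp_i L387555) (flp_b L379942) L667270
theorem L667274 : sm gc N48033 = N48033 := ded_33_1 (flp_i L667270) L379944 L667270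
theorem L667275 : sm ge N48033 = N45377 := ded_44_1 (flp_i L383854) (flp_e L617266) L667270
theorem L667277 : sm gf N48033 = N44909 := ded_48_1 (flp_i L379949) L379940 L667270
theorem L667279 : sm gj N48033 = N44912 := ded_53_1 (flp_i L379978) (flp_j L379945) L667270
theorem L667281 : sm gj N44911 = N48034 := rfl
theorem L667283 : sm gb N48034 = N45849 := ded_24_1 (flp_j L387574) (flp_b L379971) L667281
theorem L667285 : sm gc N48034 = N48034 := ded_31_1 (flp_j L667281) L379973 L667281
theorem L667286 : sm gf N48034 = N44914 := ded_46_1 (flp_j L379996) (flp_f L379976) L667281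
theorem L667288 : sm gh N48034 = N46535 := ded_52_2 (flp_j L651031) (flp_h L379974) L667281
theorem L667290 : sm gi N44911 = N48035 := rfl
theorem L667292 : sm gb N48035 = N45850 := ded_26_1 (flp_i L387582) (flp_b L379971) L667290
theorem L667294 : sm gc N48035 = N48035 := ded_33_1 (flp_i L667290) L379973 L667290
theorem L667295 : sm gf N48035 = N44915 := ded_48_1 (flp_i L380006) (flp_f L379976) L667290
theorem L667297 : sm gg N48035 = N44912 := ded_51_1 (flp_i L379978) L379969 L667290
theorem L667299 : sm gi N44914 = N48036 := rfl
theorem L667301 : sm gb N48036 = N45853 := ded_26_1 (flp_i L387604) (flp_b L379998) L667299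
theorem L667303 : sm gc N48036 = N48036 := ded_33_1 (flp_i L667299) L380000 L667299
theorem L667304 : sm ge N48036 = N44918 := ded_44_1 (flp_i L380034) (flp_e L380001) L667299
theorem L667306 : sm gg N48036 = N48036 := ded_51_1 (flp_i L667299) L380005 L667299
theorem L667307 : sm gj N48036 = N44915 := ded_53_1 (flp_i L380006) L379996 L667299
theorem L667309 : sm gc N44922 = N48037 := rfl
theorem L667311 : sm gf N48037 = N48037 := ded_29_2 (flp_c L667309) L380070 L667309
theorem L667312 : sm gg N48037 = N44924 := ded_30_2 (flp_c L380081) (flp_g L380071) L667309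
theorem L667314 : sm gh N48037 = N48037 := ded_32_2 (flp_c L667309) L380073 L667309
theorem L667315 : sm gi N44922 = N48038 := rfl
theorem L667317 : sm gb N48038 = N44943 := ded_26_1 (flp_i L380226) (flp_b L380068) L667315
theorem L667319 : sm gd N48038 = N44923 := ded_39_1 (flp_i L380074) L380066 L667315
theorem L667321 : sm gf N48038 = N48038 := ded_48_1 (flp_i L667315) L380070 L667315
theorem L667322 : sm gg N48038 = N44926 := ded_51_1 (flp_i L380096) (flp_g L380071) L667315
theorem L667324 : sm gb N44924 = N48039 := rfl
theorem L667326 : sm gf N48039 = N44932 := ded_22_2 (flp_b L380139) (flp_f L380083) L667324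
theorem L667328 : sm gj N48039 = N44927 := ded_24_2 (flp_b L380106) (flp_j L380085) L667324
theorem L667330 : sm gh N48039 = N48039 := ded_25_2 (flp_b L667324) L380087 L667324
theorem L667331 : sm gc N48039 = N44944 := ded_19_2 (flp_b L380234) (flp_c L261336) (flp_b L261225) L380081 L667324
theorem L667333 : sm ge N44924 = N48040 := rfl
theorem L667335 : sm gc N48040 = N44925 := ded_28_1 (flp_e L380088) L380081 L667333
theorem L667337 : sm gj N48040 = N44928 := ded_42_2 (flp_e L380113) (flp_j L380085) L667333
theorem L667339 : sm gh N48040 = N48040 := ded_43_2 (flp_e L667333) L380087 L667333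
theorem L667340 : sm gf N48040 = N48040 := ded_40_2 (flp_e L667333) L380083 L261261 (flp_f L380083) L667333
theorem L667341 : sm gi N44924 = N48041 := rfl
theorem L667343 : sm gc N48041 = N44926 := ded_33_1 (flp_i L380096) L380081 L667341
theorem L667345 : sm gf N48041 = N44933 := ded_48_1 (flp_i L380148) (flp_f L380083) L667341
theorem L667347 : sm gj N48041 = N44929 := ded_53_1 (flp_i L380119) (flp_j L380085) L667341
theorem L667349 : sm gi N44925 = N48042 := rfl
theorem L667351 : sm gb N48042 = N44947 := ded_26_1 (flp_i L380263) (flp_b L380090) L667349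
theorem L667353 : sm ge N48042 = N44926 := ded_44_1 (flp_i L380096) L380088 L667349
theorem L667355 : sm gf N48042 = N48042 := ded_48_1 (flp_i L667349) L380095 L667349
theorem L667356 : sm gj N48042 = N44930 := ded_53_1 (flp_i L380125) (flp_j L380092) L667349
theorem L667358 : sm gh N44926 = N48043 := rfl
theorem L667360 : sm gb N48043 = N44948 := ded_25_1 (flp_h L380271) (flp_b L380098) L667358
theorem L667362 : sm gf N48043 = N44934 := ded_47_1 (flp_h L380156) (flp_f L380102) L667358
theorem L667364 : sm gj N48043 = N44931 := ded_52_1 (flp_h L380132) (flp_j L380104) L667358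
theorem L667366 : sm gi N48043 = N48043 := ded_54_2 (flp_h L667358) (flp_i L380096) L261231 L380096 L667358
theorem L667367 : sm ga N44927 = N48044 := rfl
theorem L667369 : sm gc N48044 = N44949 := ded_11_2 (flp_a L380279) (flp_c L380111) L667367
theorem L667371 : sm gf N48044 = N44935 := ded_14_2 (flp_a L380165) (flp_f L380108) L667367
theorem L667373 : sm gh N48044 = N48044 := ded_17_2 (flp_a L667367) L380110 L667367
theorem L667374 : sm ge N44927 = N48045 := rfl
theorem L667376 : sm gb N48045 = N44928 := ded_21_1 (flp_e L380113) L380106 L667374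
theorem L667378 : sm gc N48045 = N44950 := ded_28_1 (flp_e L380287) (flp_c L380111) L667374
theorem L667380 : sm gh N48045 = N48045 := ded_43_2 (flp_e L667374) L380110 L667374
theorem L667381 : sm gf N48045 = N48045 := ded_40_2 (flp_e L667374) L380108 L261278 (flp_f L380108) L667374
theorem L667382 : sm gi N44927 = N48046 := rfl
theorem L667384 : sm gb N48046 = N44929 := ded_26_1 (flp_i L380119) L380106 L667382
theorem L667386 : sm gc N48046 = N44951 := ded_33_1 (flp_i L380293) (flp_c L380111) L667382
theorem L667388 : sm gf N48046 = N44936 := ded_48_1 (flp_i L380173) (flp_f L380108) L667382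
theorem L667390 : sm gd N44928 = N48047 := rfl
theorem L667392 : sm gf N48047 = N48047 := ded_35_2 (flp_d L667390) L380118 L667390
theorem L667393 : sm gi N44928 = N48048 := rfl
theorem L667395 : sm gc N48048 = N44930 := ded_33_1 (flp_i L380125) (flp_c L380115) L667393
theorem L667397 : sm ge N48048 = N44929 := ded_44_1 (flp_i L380119) L380113 L667393
theorem L667399 : sm gf N48048 = N48048 := ded_48_1 (flp_i L667393) L380118 L667393
theorem L667400 : sm gh N44929 = N48049 := rfl
theorem L667402 : sm gc N48049 = N44931 := ded_32_1 (flp_h L380132) (flp_c L380121) L667400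
theorem L667404 : sm gf N48049 = N44937 := ded_47_1 (flp_h L380182) (flp_f L380123) L667400
theorem L667406 : sm gi N48049 = N48049 := ded_54_2 (flp_h L667400) (flp_i L380119) L261244 L380119 L667400
theorem L667407 : sm gh N44930 = N48050 := rfl
theorem L667409 : sm gb N48050 = N44955 := ded_25_1 (flp_h L380323) (flp_b L380127) L667407
theorem L667411 : sm ge N48050 = N44931 := ded_43_1 (flp_h L380132) (flp_e L380129) L667407
theorem L667413 : sm gf N48050 = N48050 := ded_47_1 (flp_h L667407) L380131 L667407
theorem L667414 : sm gi N48050 = N48050 := ded_54_2 (flp_h L667407) (flp_i L380125) L261249 L380125 L667407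
theorem L667415 : sm ga N44932 = N48051 := rfl
theorem L667417 : sm gc N48051 = N44956 := ded_11_2 (flp_a L380330) (flp_c L380146) L667415
theorem L667419 : sm ge N48051 = N48051 := ded_13_2 (flp_a L667415) L380141 L667415
theorem L667420 : sm gg N48051 = N48051 := ded_15_2 (flp_a L667415) L380142 L667415
theorem L667421 : sm gj N48051 = N44935 := ded_16_2 (flp_a L380165) (flp_j L380143) L667415
theorem L667423 : sm gh N48051 = N48051 := ded_17_2 (flp_a L667415) L380145 L667415
theorem L667424 : sm gi N44932 = N48052 := rfl
theorem L667426 : sm gb N48052 = N44933 := ded_26_1 (flp_i L380148) L380139 L667424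
theorem L667428 : sm gc N48052 = N44957 := ded_33_1 (flp_i L380340) (flp_c L380146) L667424
theorem L667430 : sm ge N48052 = N48052 := ded_44_1 (flp_i L667424) L380141 L667424
theorem L667431 : sm gg N48052 = N48052 := ded_51_1 (flp_i L667424) L380142 L667424
theorem L667432 : sm gj N48052 = N44936 := ded_53_1 (flp_i L380173) (flp_j L380143) L667424
theorem L667434 : sm gh N44933 = N48053 := rfl
theorem L667436 : sm gc N48053 = N44934 := ded_32_1 (flp_h L380156) (flp_c L380150) L667434
theorem L667438 : sm ge N48053 = N48053 := ded_43_1 (flp_h L667434) L380152 L667434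
theorem L667439 : sm gg N48053 = N48053 := ded_50_1 (flp_h L667434) L380153 L667434
theorem L667440 : sm gj N48053 = N44937 := ded_52_1 (flp_h L380182) (flp_j L380154) L667434
theorem L667442 : sm gi N48053 = N48053 := ded_54_2 (flp_h L667434) (flp_i L380148) L261265 L380148 L667434
theorem L667443 : sm gi N44935 = N48054 := rfl
theorem L667445 : sm ga N48054 = N44936 := ded_18_1 (flp_i L380173) L380165 L667443
theorem L667447 : sm gc N48054 = N44959 := ded_33_1 (flp_i L380360) (flp_c L380167) L667443
theorem L667449 : sm ge N48054 = N48054 := ded_44_1 (flp_i L667443) L380169 L667443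
theorem L667450 : sm gg N48054 = N44938 := ded_51_1 (flp_i L380190) (flp_g L380170) L667443
theorem L667452 : sm gh N44936 = N48055 := rfl
theorem L667454 : sm gb N48055 = N44937 := ded_25_1 (flp_h L380182) (flp_b L380175) L667452
theorem L667456 : sm gc N48055 = N44960 := ded_32_1 (flp_h L380370) (flp_c L380177) L667452
theorem L667458 : sm ge N48055 = N48055 := ded_43_1 (flp_h L667452) L380179 L667452
theorem L667459 : sm gg N48055 = N44939 := ded_50_1 (flp_h L380198) (flp_g L380180) L667452
theorem L667461 : sm gi N48055 = N48055 := ded_54_2 (flp_h L667452) (flp_i L380173) L261281 L380173 L667452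
theorem L667462 : sm gd N44937 = N48056 := rfl
theorem L667464 : sm gg N48056 = N44940 := ded_36_2 (flp_d L380207) (flp_g L380187) L667462
theorem L667466 : sm gi N48056 = N48056 := ded_39_2 (flp_d L667462) L380189 L667462
theorem L667467 : sm gh N44938 = N48057 := rfl
theorem L667469 : sm ga N48057 = N44939 := ded_17_1 (flp_h L380198) (flp_a L380192) L667467
theorem L667471 : sm gc N48057 = N44962 := ded_32_1 (flp_h L380386) (flp_c L380194) L667467
theorem L667473 : sm ge N48057 = N48057 := ded_43_1 (flp_h L667467) L380196 L667467
theorem L667474 : sm gj N48057 = N48057 := ded_52_1 (flp_h L667467) L380197 L667467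
theorem L667475 : sm gi N48057 = N48057 := ded_54_2 (flp_h L667467) (flp_i L380190) L261305 L380190 L667467
theorem L667476 : sm gd N44939 = N48058 := rfl
theorem L667478 : sm gb N48058 = N44940 := ded_20_1 (flp_d L380207) (flp_b L380200) L667476
theorem L667480 : sm gj N48058 = N48058 := ded_37_2 (flp_d L667476) L380205 L667476
theorem L667481 : sm gi N48058 = N48058 := ded_39_2 (flp_d L667476) L380206 L667476
theorem L667482 : sm ge N44940 = N48059 := rfl
theorem L667484 : sm gj N48059 = N48059 := ded_42_2 (flp_e L667482) L380209 L667482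
theorem L667485 : sm gi N48059 = N48059 := ded_44_2 (flp_e L667482) L380210 L667482
theorem L667486 : sm gd N48059 = N48059 := ded_34_1 (flp_e L667482) (flp_d L380207) L261318 L380207 L667482
theorem L667487 : sm gh N44943 = N48060 := rfl
theorem L667489 : sm ga N48060 = N48060 := ded_17_1 (flp_h L667487) L380228 L667487
theorem L667490 : sm gf N48060 = N48060 := ded_47_1 (flp_h L667487) L380231 L667487
theorem L667491 : sm gg N48060 = N44948 := ded_50_1 (flp_h L380271) (flp_g L380232) L667487
theorem L667493 : sm gd N48060 = N44955 := ded_38_1 (flp_h L380323) (flp_d L377064) L635147 (flp_d L380229) L667487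
theorem L667495 : sm gi N48060 = N48060 := ded_54_2 (flp_h L667487) (flp_i L380226) L261327 L380226 L667487
theorem L667496 : sm gi N44944 = N48061 := rfl
theorem L667498 : sm gb N48061 = N44946 := ded_26_1 (flp_i L380252) L380234 L667496
theorem L667500 : sm gd N48061 = N45876 := ded_39_1 L646929 (flp_d L380236) L667496
theorem L667502 : sm gf N48061 = N44957 := ded_48_1 (flp_i L380340) (flp_f L380238) L667496
theorem L667504 : sm gj N48061 = N44951 := ded_53_1 (flp_i L380293) (flp_j L380240) L667496
theorem L667506 : sm gi N44945 = N48062 := rfl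
theorem L667508 : sm ga N48062 = N48062 := ded_18_1 (flp_i L667506) L380245 L667506
theorem L667509 : sm gc N48062 = N44947 := ded_33_1 (flp_i L380263) (flp_c L380246) L667506
theorem L667511 : sm gd N48062 = N45640 := ded_39_1 L385908 (flp_d L646902) L667506
theorem L667513 : sm ge N48062 = N44946 := ded_44_1 (flp_i L380252) L380243 L667506
theorem L667515 : sm gf N48062 = N48062 := ded_48_1 (flp_i L667506) L380251 L667506
theorem L667516 : sm gj N48062 = N44953 := ded_53_1 (flp_i L380307) (flp_j L380248) L667506
theorem L667518 : sm gh N44946 = N48063 := rfl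
theorem L667520 : sm ga N48063 = N48063 := ded_17_1 (flp_h L667518) L380254 L667518
theorem L667521 : sm gc N48063 = N44948 := ded_32_1 (flp_h L380271) (flp_c L380255) L667518
theorem L667523 : sm gf N48063 = N44958 := ded_47_1 (flp_h L380350) (flp_f L380259) L667518
theorem L667525 : sm gj N48063 = N44954 := ded_52_1 (flp_h L380315) (flp_j L380261) L667518
theorem L667527 : sm gd N48063 = N45460 := ded_38_1 (flp_h L384450) L264189 L646950 (flp_d L380257) L667518
theorem L667529 : sm gi N48063 = N48063 := ded_54_2 (flp_h L667518) (flp_i L380252) L261343 L380252 L667518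
theorem L667530 : sm gh N44947 = N48064 := rfl
theorem L667532 : sm ga N48064 = N48064 := ded_17_1 (flp_h L667530) L380265 L667530
theorem L667533 : sm ge N48064 = N44948 := ded_43_1 (flp_h L380271) (flp_e L380266) L667530
theorem L667535 : sm gf N48064 = N48064 := ded_47_1 (flp_h L667530) L380268 L667530
theorem L667536 : sm gj N48064 = N44955 := ded_52_1 (flp_h L380323) (flp_j L380269) L667530
theorem L667538 : sm gi N48064 = N48064 := ded_54_2 (flp_h L667530) (flp_i L380263) L261351 L380263 L667530
theorem L667539 : sm gi N44949 = N48065 := rfl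
theorem L667541 : sm ga N48065 = N44951 := ded_18_1 (flp_i L380293) L380279 L667539
theorem L667543 : sm gb N48065 = N48065 := ded_26_1 (flp_i L667539) L380286 L667539
theorem L667544 : sm gd N48065 = N45900 := ded_39_1 (flp_i L388010) (flp_d L380281) L667539
theorem L667546 : sm gf N48065 = N44959 := ded_48_1 (flp_i L380360) (flp_f L380283) L667539
theorem L667548 : sm gi N44950 = N48066 := rfl
theorem L667550 : sm gb N48066 = N44953 := ded_26_1 (flp_i L380307) (flp_b L380289) L667548
theorem L667552 : sm ge N48066 = N44951 := ded_44_1 (flp_i L380293) L380287 L667548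
theorem L667554 : sm gf N48066 = N48066 := ded_48_1 (flp_i L667548) L380292 L667548
theorem L667555 : sm gh N44951 = N48067 := rfl
theorem L667557 : sm gb N48067 = N44954 := ded_25_1 (flp_h L380315) (flp_b L380295) L667555
theorem L667559 : sm gf N48067 = N44960 := ded_47_1 (flp_h L380370) (flp_f L380299) L667555
theorem L667561 : sm gi N48067 = N48067 := ded_54_2 (flp_h L667555) (flp_i L380293) L261368 L380293 L667555
theorem L667562 : sm gi N44952 = N48068 := rfl
theorem L667564 : sm ga N48068 = N48068 := ded_18_1 (flp_i L667562) L380303 L667562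
theorem L667565 : sm gc N48068 = N45628 := ded_33_1 (flp_i L385807) (flp_c L645638) L667562
theorem L667567 : sm gd N48068 = N44953 := ded_39_1 (flp_i L380307) L380301 L667562
theorem L667569 : sm ge N48068 = N45633 := ded_44_1 L645514 (flp_e L380305) L667562
theorem L667571 : sm gf N48068 = N48068 := ded_48_1 (flp_i L667562) L380304 L667562
theorem L667572 : sm gg N48068 = N45631 := ded_51_1 (flp_i L385833) (flp_g L645641) L667562
theorem L667574 : sm gj N48068 = N45640 := ded_53_1 L385908 (flp_j L645643) L667562
theorem L667576 : sm gh N48068 = N45632 := ded_54_1 (flp_i L385842) L265140 L615850 (flp_h L645645) L667562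
theorem L667578 : sm gh N44953 = N48069 := rfl
theorem L667580 : sm ga N48069 = N48069 := ded_17_1 (flp_h L667578) L380309 L667578
theorem L667581 : sm gc N48069 = N44955 := ded_32_1 (flp_h L380323) (flp_c L380310) L667578
theorem L667583 : sm ge N48069 = N44954 := ded_43_1 (flp_h L380315) (flp_e L380312) L667578
theorem L667585 : sm gf N48069 = N48069 := ded_47_1 (flp_h L667578) L380314 L667578
theorem L667586 : sm gi N48069 = N48069 := ded_54_2 (flp_h L667578) (flp_i L380307) L261374 L380307 L667578
theorem L667587 : sm gd N44954 = N48070 := rfl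
theorem L667589 : sm ga N48070 = N48070 := ded_12_1 (flp_d L667587) L380317 L667587
theorem L667590 : sm gf N48070 = N44961 := ded_35_2 (flp_d L380378) (flp_f L380320) L667587
theorem L667592 : sm gj N48070 = N45460 := ded_37_2 (flp_d L667527) L667525 L667587
theorem L667594 : sm gi N48070 = N48070 := ded_39_2 (flp_d L667587) L380322 L667587
theorem L667595 : sm gh N48070 = N45452 := ded_38_2 L384391 (flp_h L628606) (flp_d L261381) L380315 L667587
theorem L667597 : sm ge N45453 = N48070 := ded_40_5 L667590 (flp_e L649293) L271782 (flp_e L264220) (flp_f L384402)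
theorem L667599 : sm gi N44956 = N48071 := rfl
theorem L667601 : sm ga N48071 = N44957 := ded_18_1 (flp_i L380340) L380330 L667599
theorem L667603 : sm gb N48071 = N48071 := ded_26_1 (flp_i L667599) L380339 L667599
theorem L667604 : sm gd N48071 = N45909 := ded_39_1 (flp_i L388078) (flp_d L380332) L667599
theorem L667606 : sm ge N48071 = N48071 := ded_44_1 (flp_i L667599) L380334 L667599
theorem L667607 : sm gg N48071 = N48071 := ded_51_1 (flp_i L667599) L380335 L667599
theorem L667608 : sm gj N48071 = N44959 := ded_53_1 (flp_i L380360) (flp_j L380336) L667599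
theorem L667610 : sm gh N44957 = N48072 := rfl
theorem L667612 : sm gb N48072 = N44958 := ded_25_1 (flp_h L380350) (flp_b L380342) L667610
theorem L667614 : sm ge N48072 = N48072 := ded_43_1 (flp_h L667610) L380346 L667610
theorem L667615 : sm gg N48072 = N48072 := ded_50_1 (flp_h L667610) L380347 L667610
theorem L667616 : sm gj N48072 = N44960 := ded_52_1 (flp_h L380370) (flp_j L380348) L667610
theorem L667618 : sm gd N48072 = N46415 := ded_38_1 (flp_h L650003) L271642 L646273 (flp_d L380344) L667610
theorem L667620 : sm gi N48072 = N48072 := ded_54_2 (flp_h L667610) (flp_i L380340) L261405 L380340 L667610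
theorem L667621 : sm gh N44959 = N48073 := rfl
theorem L667623 : sm ga N48073 = N44960 := ded_17_1 (flp_h L380370) (flp_a L380362) L667621
theorem L667625 : sm gb N48073 = N48073 := ded_25_1 (flp_h L667621) L380364 L667621
theorem L667626 : sm ge N48073 = N48073 := ded_43_1 (flp_h L667621) L380367 L667621
theorem L667627 : sm gg N48073 = N44962 := ded_50_1 (flp_h L380386) (flp_g L380368) L667621
theorem L667629 : sm gi N48073 = N48073 := ded_54_2 (flp_h L667621) (flp_i L380360) L261432 L380360 L667621
theorem L667630 : sm gd N44960 = N48074 := rfl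
theorem L667632 : sm gb N48074 = N44961 := ded_20_1 (flp_d L380378) (flp_b L380372) L667630
theorem L667634 : sm gg N48074 = N44963 := ded_36_2 (flp_d L380394) (flp_g L380375) L667630
theorem L667636 : sm gj N48074 = N46415 := ded_37_2 (flp_d L667618) L667616 L667630
theorem L667638 : sm gi N48074 = N48074 := ded_39_2 (flp_d L667630) L380377 L667630
theorem L667639 : sm gh N48074 = N45913 := ded_38_2 (flp_d L388118) (flp_h L266681) (flp_d L261438) L380370 L667630
theorem L667641 : sm ge N46409 = N48074 := ded_21_0 L667632 (flp_e L649293) (flp_b L649958)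
theorem L667643 : sm gd N44976 = N48075 := rfl
theorem L667645 : sm ga N48075 = N45001 := ded_12_1 (flp_d L380764) (flp_a L380519) L667643
theorem L667647 : sm gb N48075 = N45073 := ded_20_1 (flp_d L381370) (flp_b L611856) L667643
theorem L667649 : sm gg N48075 = N45009 := ded_36_2 L380829 (flp_g L611861) L667643
theorem L667651 : sm gj N48075 = N45190 := ded_37_2 (flp_d L382360) (flp_j L380524) L667643
theorem L667653 : sm ge N48075 = N45006 := ded_34_2 (flp_d L380805) L261727 L261754 L617191 L667643
theorem L667655 : sm gh N48075 = N44980 := ded_38_2 (flp_d L380557) (flp_h L261543) L261522 L380517 L667643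
theorem L667657 : sm gi N44976 = N48076 := rfl
theorem L667659 : sm ga N48076 = N45002 := ded_18_1 (flp_i L380770) (flp_a L380519) L667657
theorem L667661 : sm gb N48076 = N45074 := ded_26_1 (flp_i L381376) (flp_b L611856) L667657
theorem L667663 : sm gc N48076 = N48076 := ded_33_1 (flp_i L667657) L380521 L667657
theorem L667664 : sm ge N48076 = N45014 := ded_44_1 (flp_i L380865) L617191 L667657
theorem L667666 : sm gg N48076 = N45016 := ded_51_1 (flp_i L380882) (flp_g L611861) L667657
theorem L667668 : sm gj N48076 = N45191 := ded_53_1 (flp_i L382366) (flp_j L380524) L667657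
theorem L667670 : sm gh N48076 = N45069 := ded_54_1 (flp_i L381331) (flp_h L262071) (flp_i L261528) L380517 L667657
theorem L667672 : sm gd N44979 = N48077 := rfl
theorem L667674 : sm ga N48077 = N45006 := ded_12_1 (flp_d L380805) (flp_a L380549) L667672
theorem L667676 : sm gb N48077 = N45068 := ded_20_1 (flp_d L381323) (flp_b L611899) L667672
theorem L667678 : sm gg N48077 = N44980 := ded_36_2 (flp_d L380557) (flp_g L380555) L667672
theorem L667680 : sm gj N48077 = N45228 := ded_37_2 L504831 (flp_j L611904) L667672
theorem L667682 : sm ge N48077 = N45001 := ded_34_2 (flp_d L380764) L261702 L621558 (flp_e L380553) L667672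
theorem L667684 : sm gh N48077 = N45009 := ded_38_2 L380829 L553486 (flp_d L611888) L380547 L667672
theorem L667686 : sm gi N44979 = N48078 := rfl
theorem L667688 : sm ga N48078 = N45007 := ded_18_1 (flp_i L380809) (flp_a L380549) L667686
theorem L667690 : sm gb N48078 = N45069 := ded_26_1 (flp_i L381331) (flp_b L611899) L667686
theorem L667692 : sm gc N48078 = N44994 := ded_33_1 (flp_i L380697) (flp_c L380551) L667686
theorem L667694 : sm ge N48078 = N44984 := ded_44_1 (flp_i L380596) (flp_e L380553) L667686
theorem L667696 : sm gg N48078 = N44981 := ded_51_1 (flp_i L380563) (flp_g L380555) L667686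
theorem L667698 : sm gj N48078 = N45296 := ded_53_1 (flp_i L383175) (flp_j L611904) L667686
theorem L667700 : sm gh N48078 = N45074 := ded_54_1 (flp_i L381376) (flp_h L262097) (flp_i L261541) L380547 L667686
theorem L667702 : sm gc N44980 = N48079 := rfl
theorem L667704 : sm ga N48079 = N45008 := ded_11_1 (flp_c L380819) (flp_a L380559) L667702
theorem L667706 : sm gj N48079 = N45197 := ded_31_2 (flp_c L382425) (flp_j L380561) L667702
theorem L667708 : sm gd N48079 = N44995 := ded_27_2 (flp_c L380708) (flp_d L261648) (flp_c L261547) L380557 L667702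
theorem L667710 : sm gi N44980 = N48080 := rfl
theorem L667712 : sm ga N48080 = N45010 := ded_18_1 (flp_i L380831) (flp_a L380559) L667710
theorem L667714 : sm gd N48080 = N44981 := ded_39_1 (flp_i L380563) L380557 L667710
theorem L667716 : sm gj N48080 = N45199 := ded_53_1 (flp_i L382437) (flp_j L380561) L667710
theorem L667718 : sm gb N44995 = N48081 := rfl
theorem L667720 : sm ge N48081 = N48081 := ded_21_2 (flp_b L667718) L380712 L667718
theorem L667721 : sm gj N48081 = N45218 := ded_24_2 (flp_b L382618) (flp_j L380713) L667718
theorem L667723 : sm gh N48081 = N48081 := ded_25_2 (flp_b L667718) L380715 L667718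
theorem L667724 : sm gc N48081 = N48081 := ded_19_2 (flp_b L667718) (flp_c L380708) L261652 L380708 L667718
theorem L667725 : sm gi N44995 = N48082 := rfl
theorem L667727 : sm ga N48082 = N45030 := ded_18_1 (flp_i L381003) (flp_a L380710) L667725
theorem L667729 : sm gc N48082 = N44996 := ded_33_1 (flp_i L380716) L380708 L667725
theorem L667731 : sm ge N48082 = N48082 := ded_44_1 (flp_i L667725) L380712 L667725
theorem L667732 : sm gj N48082 = N45219 := ded_53_1 (flp_i L382623) (flp_j L380713) L667725
theorem L667734 : sm gh N44996 = N48083 := rfl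
theorem L667736 : sm ga N48083 = N45031 := ded_17_1 (flp_h L381010) (flp_a L380718) L667734
theorem L667738 : sm gb N48083 = N48083 := ded_25_1 (flp_h L667734) L380720 L667734
theorem L667739 : sm ge N48083 = N48083 := ded_43_1 (flp_h L667734) L380723 L667734
theorem L667740 : sm gj N48083 = N45220 := ded_52_1 (flp_h L382630) (flp_j L380724) L667734
theorem L667742 : sm gd N48083 = N45098 := ded_38_1 (flp_h L381617) L262269 (flp_h L261666) (flp_d L380721) L667734
theorem L667744 : sm gi N48083 = N48083 := ded_54_2 (flp_h L667734) (flp_i L380716) L261656 L380716 L667734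
theorem L667745 : sm gc N45001 = N48084 := rfl
theorem L667747 : sm gj N48084 = N45227 := ded_31_2 (flp_c L382684) (flp_j L380766) L667745
theorem L667749 : sm gh N48084 = N45008 := ded_32_2 (flp_c L380819) (flp_h L380768) L667745
theorem L667751 : sm gd N48084 = N48084 := ded_27_2 (flp_c L667745) (flp_d L380764) L261701 L380764 L667745
theorem L667752 : sm gi N45001 = N48085 := rfl
theorem L667754 : sm gd N48085 = N45002 := ded_39_1 (flp_i L380770) L380764 L667752
theorem L667756 : sm gj N48085 = N45229 := ded_53_1 (flp_i L382695) (flp_j L380766) L667752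
theorem L667758 : sm gi N45006 = N48086 := rfl
theorem L667760 : sm gd N48086 = N45007 := ded_39_1 (flp_i L380809) L380805 L667758
theorem L667762 : sm gg N48086 = N45010 := ded_51_1 (flp_i L380831) (flp_g L380807) L667758
theorem L667764 : sm ge N45008 = N48087 := rfl
theorem L667766 : sm gc N48087 = N45009 := ded_28_1 (flp_e L380825) L380819 L667764
theorem L667768 : sm gj N48087 = N45240 := ded_42_2 (flp_e L382767) (flp_j L380821) L667764
theorem L667770 : sm gd N48087 = N48087 := ded_34_1 (flp_e L667764) L380823 L261859 (flp_d L380823) L667764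
theorem L667771 : sm gi N45008 = N48088 := rfl
theorem L667773 : sm gc N48088 = N45010 := ded_33_1 (flp_i L380831) L380819 L667771
theorem L667775 : sm gd N48088 = N45030 := ded_39_1 (flp_i L381003) (flp_d L380823) L667771
theorem L667777 : sm gj N48088 = N45241 := ded_53_1 (flp_i L382772) (flp_j L380821) L667771
theorem L667779 : sm gi N45009 = N48089 := rfl
theorem L667781 : sm gb N48089 = N45077 := ded_26_1 (flp_i L381402) (flp_b L504863) L667779
theorem L667783 : sm gd N48089 = N45016 := ded_39_1 (flp_i L380882) (flp_d L380829) L667779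
theorem L667785 : sm ge N48089 = N45010 := ded_44_1 (flp_i L380831) L380825 L667779
theorem L667787 : sm gj N48089 = N45243 := ded_53_1 (flp_i L382782) (flp_j L380827) L667779
theorem L667789 : sm gh N45010 = N48090 := rfl
theorem L667791 : sm gj N48090 = N45244 := ded_52_1 (flp_h L382788) (flp_j L380835) L667789
theorem L667793 : sm gd N48090 = N45122 := ded_38_1 (flp_h L381785) L262371 (flp_h L261743) (flp_d L380833) L667789
theorem L667795 : sm gh N45030 = N48091 := rfl
theorem L667797 : sm gc N48091 = N45031 := ded_32_1 (flp_h L381010) (flp_c L381005) L667795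
theorem L667799 : sm ge N48091 = N48091 := ded_43_1 (flp_h L667795) L381007 L667795
theorem L667800 : sm gj N48091 = N45270 := ded_52_1 (flp_h L382986) (flp_j L381008) L667795
theorem L667802 : sm gi N48091 = N48091 := ded_54_2 (flp_h L667795) (flp_i L381003) L261862 L381003 L667795
theorem L667803 : sm gc N45068 = N48092 := rfl
theorem L667805 : sm ga N48092 = N45105 := ded_11_1 (flp_c L381667) (flp_a L381325) L667803
theorem L667807 : sm gj N48092 = N45328 := ded_31_2 (flp_c L383435) (flp_j L381327) L667803
theorem L667809 : sm gh N48092 = N45075 := ded_32_2 (flp_c L381386) (flp_h L381329) L667803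
theorem L667811 : sm gd N48092 = N48092 := ded_27_2 (flp_c L667803) (flp_d L381323) L262075 L381323 L667803
theorem L667812 : sm gi N45068 = N48093 := rfl
theorem L667814 : sm ga N48093 = N45107 := ded_18_1 (flp_i L381682) (flp_a L381325) L667812
theorem L667816 : sm gd N48093 = N45069 := ded_39_1 (flp_i L381331) L381323 L667812
theorem L667818 : sm gj N48093 = N45330 := ded_53_1 (flp_i L383450) (flp_j L381327) L667812
theorem L667820 : sm gd N45071 = N48094 := rfl
theorem L667822 : sm ga N48094 = N45110 := ded_12_1 (flp_d L381704) (flp_a L381351) L667820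
theorem L667824 : sm gf N48094 = N45073 := ded_35_2 (flp_d L381370) (flp_f L381356) L667820
theorem L667826 : sm gi N45071 = N48095 := rfl
theorem L667828 : sm ga N48095 = N45111 := ded_18_1 (flp_i L381708) (flp_a L381351) L667826
theorem L667830 : sm gc N48095 = N45091 := ded_33_1 (flp_i L381548) (flp_c L381353) L667826
theorem L667832 : sm ge N48095 = N48095 := ded_44_1 (flp_i L667826) L381355 L667826
theorem L667833 : sm gf N48095 = N45074 := ded_48_1 (flp_i L381376) (flp_f L381356) L667826
theorem L667835 : sm gi N45072 = N48096 := rfl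
theorem L667837 : sm ga N48096 = N45113 := ded_18_1 (flp_i L381721) (flp_a L381360) L667835
theorem L667839 : sm gb N48096 = N45191 := ded_26_1 (flp_i L382366) (flp_b L617528) L667835
theorem L667841 : sm gc N48096 = N45093 := ded_33_1 (flp_i L381568) (flp_c L381362) L667835
theorem L667843 : sm ge N48096 = N45079 := ded_44_1 (flp_i L381423) (flp_e L381364) L667835
theorem L667845 : sm gg N48096 = N45336 := ded_51_1 (flp_i L383498) (flp_g L381366) L667835
theorem L667847 : sm gj N48096 = N45074 := ded_53_1 (flp_i L381376) (flp_j L381368) L667835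
theorem L667849 : sm gh N48096 = N45296 := ded_54_1 (flp_i L383175) (flp_h L263341) L617625 L381358 L667835
theorem L667851 : sm gi N45073 = N48097 := rfl
theorem L667853 : sm ga N48097 = N45116 := ded_18_1 (flp_i L381743) (flp_a L381372) L667851
theorem L667855 : sm gd N48097 = N45074 := ded_39_1 (flp_i L381376) L381370 L667851
theorem L667857 : sm gg N48097 = N45077 := ded_51_1 (flp_i L381402) (flp_g L381374) L667851
theorem L667859 : sm gi N45075 = N48098 := rfl
theorem L667861 : sm ga N48098 = N45119 := ded_18_1 (flp_i L381763) (flp_a L381388) L667859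
theorem L667863 : sm gc N48098 = N45077 := ded_33_1 (flp_i L381402) L381386 L667859
theorem L667865 : sm gd N48098 = N45097 := ded_39_1 (flp_i L381607) (flp_d L381392) L667859
theorem L667867 : sm gj N48098 = N45342 := ded_53_1 (flp_i L383544) (flp_j L381390) L667859
theorem L667869 : sm gh N45077 = N48099 := rfl
theorem L667871 : sm ga N48099 = N45122 := ded_17_1 (flp_h L381785) (flp_a L381404) L667869
theorem L667873 : sm gj N48099 = N45345 := ded_52_1 (flp_h L383566) (flp_j L381408) L667869
theorem L667875 : sm gh N45088 = N48100 := rfl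
theorem L667877 : sm ga N48100 = N45135 := ded_17_1 (flp_h L381895) (flp_a L381523) L667875
theorem L667879 : sm gb N48100 = N48100 := ded_25_1 (flp_h L667875) L381525 L667875
theorem L667880 : sm ge N48100 = N48100 := ded_43_1 (flp_h L667875) L381527 L667875
theorem L667881 : sm gf N48100 = N45358 := ded_47_1 (flp_h L383692) (flp_f L381528) L667875
theorem L667883 : sm gg N48100 = N45089 := ded_50_1 (flp_h L381530) L381521 L667875
theorem L667885 : sm gi N45090 = N48101 := rfl
theorem L667887 : sm ga N48101 = N45140 := ded_18_1 (flp_i L381935) (flp_a L381542) L667885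
theorem L667889 : sm gb N48101 = N48101 := ded_26_1 (flp_i L667885) L381544 L667885
theorem L667890 : sm gd N48101 = N45091 := ded_39_1 (flp_i L381548) L381540 L667885
theorem L667892 : sm gf N48101 = N45095 := ded_48_1 (flp_i L381588) (flp_f L381545) L667885
theorem L667894 : sm gh N45095 = N48102 := rfl
theorem L667896 : sm ga N48102 = N45145 := ded_17_1 (flp_h L381981) (flp_a L381590) L667894
theorem L667898 : sm gb N48102 = N48102 := ded_25_1 (flp_h L667894) L381592 L667894
theorem L667899 : sm ge N48102 = N46341 := ded_43_1 (flp_h L649407) (flp_e L381595) L667894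
theorem L667901 : sm gg N48102 = N45098 := ded_50_1 (flp_h L381617) (flp_g L381597) L667894
theorem L667903 : sm gi N48102 = N48102 := ded_54_2 (flp_h L667894) (flp_i L381588) L262245 L381588 L667894
theorem L667904 : sm gh N45097 = N48103 := rfl
theorem L667906 : sm ga N48103 = N45148 := ded_17_1 (flp_h L382009) (flp_a L381609) L667904
theorem L667908 : sm gc N48103 = N45098 := ded_32_1 (flp_h L381617) (flp_c L381611) L667904
theorem L667910 : sm ge N48103 = N46342 := ded_43_1 (flp_h L649416) (flp_e L381613) L667904
theorem L667912 : sm gj N48103 = N45371 := ded_52_1 (flp_h L383811) (flp_j L381615) L667904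
theorem L667914 : sm gi N48103 = N48103 := ded_54_2 (flp_h L667904) (flp_i L381607) L262263 L381607 L667904
theorem L667915 : sm gb N45105 = N48104 := rfl
theorem L667917 : sm gd N48104 = N48104 := ded_20_2 (flp_b L667915) L381673 L667915
theorem L667918 : sm gj N48104 = N45383 := ded_24_2 (flp_b L383893) (flp_j L381669) L667915
theorem L667920 : sm gh N48104 = N45117 := ded_25_2 (flp_b L381749) (flp_h L381671) L667915
theorem L667922 : sm gi N45105 = N48105 := rfl
theorem L667924 : sm gc N48105 = N45107 := ded_33_1 (flp_i L381682) L381667 L667922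
theorem L667926 : sm gd N48105 = N48105 := ded_39_1 (flp_i L667922) L381673 L667922
theorem L667927 : sm gj N48105 = N45385 := ded_53_1 (flp_i L383904) (flp_j L381669) L667922
theorem L667929 : sm gh N45107 = N48106 := rfl
theorem L667931 : sm gj N48106 = N45388 := ded_52_1 (flp_h L383921) (flp_j L381686) L667929
theorem L667933 : sm gi N48106 = N45122 := ded_54_2 (flp_h L381785) (flp_i L262369) (flp_h L262312) L381682 L667929
theorem L667935 : sm gh N45108 = N48107 := rfl
theorem L667937 : sm gb N48107 = N46536 := ded_25_1 L651041 L648941 L667935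
theorem L667939 : sm gc N48107 = N45135 := ded_32_1 (flp_h L381895) (flp_c L381690) L667935
theorem L667941 : sm ge N48107 = N48107 := ded_43_1 (flp_h L667935) L381692 L667935
theorem L667942 : sm gf N48107 = N45389 := ded_47_1 (flp_h L383925) (flp_f L381693) L667935
theorem L667944 : sm gg N48107 = N45109 := ded_50_1 (flp_h L381695) L381688 L667935
theorem L667946 : sm gc N45110 = N48108 := rfl
theorem L667948 : sm gf N48108 = N45114 := ded_29_2 (flp_c L381731) (flp_f L381706) L667946
theorem L667950 : sm gd N48108 = N45138 := ded_27_2 (flp_c L381922) (flp_d L262483) (flp_c L262330) L381704 L667946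
theorem L667952 : sm ge N45110 = N48109 := rfl
theorem L667954 : sm gd N48109 = N48109 := ded_34_1 (flp_e L667952) (flp_d L381704) L262332 L381704 L667952
theorem L667955 : sm gi N45110 = N48110 := rfl
theorem L667957 : sm gd N48110 = N45111 := ded_39_1 (flp_i L381708) L381704 L667955
theorem L667959 : sm gf N48110 = N45116 := ded_48_1 (flp_i L381743) (flp_f L381706) L667955
theorem L667961 : sm gb N45114 = N48111 := rfl
theorem L667963 : sm gd N48111 = N45143 := ded_20_2 (flp_b L381964) (flp_d L381735) L667961
theorem L667965 : sm gg N48111 = N45117 := ded_23_2 (flp_b L381749) (flp_g L381733) L667961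
theorem L667967 : sm gi N45114 = N48112 := rfl
theorem L667969 : sm gc N48112 = N45116 := ded_33_1 (flp_i L381743) L381731 L667967
theorem L667971 : sm gd N48112 = N45144 := ded_39_1 (flp_i L381973) (flp_d L381735) L667967
theorem L667973 : sm gg N48112 = N45119 := ded_51_1 (flp_i L381763) (flp_g L381733) L667967
theorem L667975 : sm gh N45116 = N48113 := rfl
theorem L667977 : sm gg N48113 = N45122 := ded_50_1 (flp_h L381785) (flp_g L381747) L667975
theorem L667979 : sm ga N45117 = N48114 := rfl
theorem L667981 : sm gd N48114 = N45146 := ded_12_2 (flp_a L381990) (flp_d L381751) L667979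
theorem L667983 : sm gj N48114 = N45404 := ded_16_2 (flp_a L384021) (flp_j L381753) L667979
theorem L667985 : sm ge N45117 = N48115 := rfl
theorem L667987 : sm gb N48115 = N45118 := ded_21_1 (flp_e L381755) L381749 L667985
theorem L667989 : sm gj N48115 = N45405 := ded_42_2 (flp_e L384025) (flp_j L381753) L667985
theorem L667991 : sm gd N48115 = N46343 := ded_34_1 (flp_e L649426) L270056 (flp_e L262537) (flp_d L381751) L667985
theorem L667993 : sm gi N45117 = N48116 := rfl
theorem L667995 : sm gb N48116 = N45119 := ded_26_1 (flp_i L381763) L381749 L667993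
theorem L667997 : sm gd N48116 = N45147 := ded_39_1 (flp_i L381999) (flp_d L381751) L667993
theorem L667999 : sm gj N48116 = N45406 := ded_53_1 (flp_i L384031) (flp_j L381753) L667993
theorem L668001 : sm gf N45118 = N48117 := rfl
theorem L668003 : sm gc N48117 = N45120 := ded_29_1 (flp_f L381771) (flp_c L381757) L668001
theorem L668005 : sm gd N48117 = N46345 := ded_35_1 (flp_f L649443) (flp_d L381761) L668001
theorem L668007 : sm gj N48117 = N45407 := ded_46_2 (flp_f L384037) (flp_j L381759) L668001
theorem L668009 : sm gi N45118 = N48118 := rfl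
theorem L668011 : sm gc N48118 = N45121 := ded_33_1 (flp_i L381777) (flp_c L381757) L668009
theorem L668013 : sm gd N48118 = N46346 := ded_39_1 (flp_i L649450) (flp_d L381761) L668009
theorem L668015 : sm ge N48118 = N45119 := ded_44_1 (flp_i L381763) L381755 L668009
theorem L668017 : sm gj N48118 = N45408 := ded_53_1 (flp_i L384043) (flp_j L381759) L668009
theorem L668019 : sm gh N45119 = N48119 := rfl
theorem L668021 : sm gc N48119 = N45122 := ded_32_1 (flp_h L381785) (flp_c L381765) L668019
theorem L668023 : sm gj N48119 = N45409 := ded_52_1 (flp_h L384051) (flp_j L381769) L668019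
theorem L668025 : sm gg N45120 = N48120 := rfl
theorem L668027 : sm gd N48120 = N45128 := ded_36_1 (flp_g L381834) (flp_d L381773) L668025
theorem L668029 : sm gi N45120 = N48121 := rfl
theorem L668031 : sm gd N48121 = N45129 := ded_39_1 (flp_i L381842) (flp_d L381773) L668029
theorem L668033 : sm gf N48121 = N45121 := ded_48_1 (flp_i L381777) L381771 L668029
theorem L668035 : sm gj N48121 = N45411 := ded_53_1 (flp_i L384059) (flp_j L381775) L668029
theorem L668037 : sm gh N45121 = N48122 := rfl
theorem L668039 : sm ge N48122 = N45122 := ded_43_1 (flp_h L381785) (flp_e L381781) L668037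
theorem L668041 : sm gj N48122 = N45412 := ded_52_1 (flp_h L384065) (flp_j L381783) L668037
theorem L668043 : sm gj N45128 = N48123 := rfl
theorem L668045 : sm gc N48123 = N46349 := ded_31_1 (flp_j L649479) (flp_c L381836) L668043
theorem L668047 : sm ge N48123 = N45131 := ded_42_1 (flp_j L381862) (flp_e L381838) L668043
theorem L668049 : sm gh N48123 = N46385 := ded_52_2 L649790 (flp_h L381840) L668043
theorem L668051 : sm gg N48123 = N45419 := ded_49_1 (flp_j L384125) (flp_g L263958) (flp_j L262416) L381834 L668043
theorem L668053 : sm gi N46401 = N48123 := ded_33_0 L668045 L649486 (flp_c L649899)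
theorem L668055 : sm gi N45128 = N48124 := rfl
theorem L668057 : sm gc N48124 = N46348 := ded_33_1 L649477 (flp_c L381836) L668055
theorem L668059 : sm ge N48124 = N45132 := ded_44_1 (flp_i L381871) (flp_e L381838) L668055
theorem L668061 : sm gg N48124 = N45129 := ded_51_1 (flp_i L381842) L381834 L668055
theorem L668063 : sm gj N48124 = N46401 := ded_53_1 L668053 (flp_j L668043) L668055
theorem L668065 : sm gh N48124 = N46346 := ded_54_1 (flp_i L649450) (flp_h L649201) (flp_i L648294) (flp_h L381840) L668055
theorem L668067 : sm gi N45138 = N48125 := rfl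
theorem L668069 : sm gc N48125 = N45140 := ded_33_1 (flp_i L381935) L381922 L668067
theorem L668071 : sm gf N48125 = N45144 := ded_48_1 (flp_i L381973) (flp_f L381924) L668067
theorem L668073 : sm gi N45139 = N48126 := rfl
theorem L668075 : sm gb N48126 = N45157 := ded_26_1 (flp_i L382080) (flp_b L381929) L668073
theorem L668077 : sm gd N48126 = N48126 := ded_39_1 (flp_i L668073) L381932 L668073
theorem L668078 : sm ge N48126 = N45140 := ded_44_1 (flp_i L381935) L381927 L668073
theorem L668080 : sm gf N48126 = N46350 := ded_48_1 (flp_i L649490) (flp_f L381933) L668073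
theorem L668082 : sm gh N45140 = N48127 := rfl
theorem L668084 : sm gb N48127 = N45158 := ded_25_1 (flp_h L382088) (flp_b L381937) L668082
theorem L668086 : sm gf N48127 = N45145 := ded_47_1 (flp_h L381981) (flp_f L381941) L668082
theorem L668088 : sm gj N48127 = N45468 := ded_52_1 (flp_h L665605) L665601 L668082
theorem L668090 : sm gd N48127 = N45166 := ded_38_1 (flp_h L382159) (flp_d L374994) L637276 (flp_d L381939) L668082
theorem L668092 : sm gi N48127 = N48127 := ded_54_2 (flp_h L668082) (flp_i L381935) L262489 L381935 L668082
theorem L668093 : sm gi N45143 = N48128 := rfl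
theorem L668095 : sm gb N48128 = N45144 := ded_26_1 (flp_i L381973) L381964 L668093
theorem L668097 : sm gc N48128 = N45163 := ded_33_1 (flp_i L382132) (flp_c L381971) L668093
theorem L668099 : sm ge N48128 = N46353 := ded_44_1 (flp_i L649517) (flp_e L381966) L668093
theorem L668101 : sm gg N48128 = N45147 := ded_51_1 (flp_i L381999) (flp_g L381968) L668093
theorem L668103 : sm gh N45144 = N48129 := rfl
theorem L668105 : sm gc N48129 = N45145 := ded_32_1 (flp_h L381981) (flp_c L381975) L668103
theorem L668107 : sm ge N48129 = N46354 := ded_43_1 (flp_h L649525) (flp_e L381977) L668103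
theorem L668109 : sm gg N48129 = N45148 := ded_50_1 (flp_h L382009) (flp_g L381979) L668103
theorem L668111 : sm gi N48129 = N48129 := ded_54_2 (flp_h L668103) (flp_i L381973) L262524 L381973 L668103
theorem L668112 : sm gi N45146 = N48130 := rfl
theorem L668114 : sm ga N48130 = N45147 := ded_18_1 (flp_i L381999) L381990 L668112
theorem L668116 : sm gc N48130 = N45165 := ded_33_1 (flp_i L382150) (flp_c L381992) L668112
theorem L668118 : sm ge N48130 = N46355 := ded_44_1 (flp_i L649532) (flp_e L381994) L668112
theorem L668120 : sm gj N48130 = N45443 := ded_53_1 (flp_i L384321) (flp_j L381996) L668112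
theorem L668122 : sm gh N45147 = N48131 := rfl
theorem L668124 : sm gb N48131 = N45148 := ded_25_1 (flp_h L382009) (flp_b L382001) L668122
theorem L668126 : sm gc N48131 = N45166 := ded_32_1 (flp_h L382159) (flp_c L382003) L668122
theorem L668128 : sm ge N48131 = N46356 := ded_43_1 (flp_h L649541) (flp_e L382005) L668122
theorem L668130 : sm gj N48131 = N45444 := ded_52_1 (flp_h L384329) (flp_j L382007) L668122
theorem L668132 : sm gi N48131 = N48131 := ded_54_2 (flp_h L668122) (flp_i L381999) L262541 L381999 L668122
theorem L668133 : sm gd N45148 = N48132 := rfl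
theorem L668135 : sm gj N48132 = N45445 := ded_37_2 (flp_d L384338) (flp_j L382015) L668133
theorem L668137 : sm gi N48132 = N48132 := ded_39_2 (flp_d L668133) L382017 L668133
theorem L668138 : sm gh N45157 = N48133 := rfl
theorem L668140 : sm ga N48133 = N48133 := ded_17_1 (flp_h L668138) L382082 L668138
theorem L668141 : sm ge N48133 = N45158 := ded_43_1 (flp_h L382088) (flp_e L382084) L668138
theorem L668143 : sm gf N48133 = N46364 := ded_47_1 (flp_h L649610) (flp_f L382086) L668138
theorem L668145 : sm gj N48133 = N45469 := ded_52_1 (flp_h L665612) L665610 L668138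
theorem L668147 : sm gi N48133 = N48133 := ded_54_2 (flp_h L668138) (flp_i L382080) L262594 L382080 L668138
theorem L668148 : sm gd N46372 = N48133 := ded_34_5 L668141 L649188 L262671 L270465 L649677
theorem L668150 : sm gi N45159 = N48134 := rfl
theorem L668152 : sm gb N48134 = N45160 := ded_26_1 (flp_i L382103) L382094 L668150
theorem L668154 : sm ge N48134 = N46365 := ded_44_1 (flp_i L649617) (flp_e L382096) L668150
theorem L668156 : sm gg N48134 = N45462 := ded_51_1 (flp_i L384466) (flp_g L382098) L668150
theorem L668158 : sm gj N48134 = N45163 := ded_53_1 (flp_i L382132) (flp_j L382100) L668150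
theorem L668160 : sm gi N45162 = N48135 := rfl
theorem L668162 : sm ga N48135 = N45163 := ded_18_1 (flp_i L382132) L382124 L668160
theorem L668164 : sm gb N48135 = N48135 := ded_26_1 (flp_i L668160) L382131 L668160
theorem L668165 : sm ge N48135 = N46367 := ded_44_1 (flp_i L649636) (flp_e L382126) L668160
theorem L668167 : sm gg N48135 = N45165 := ded_51_1 (flp_i L382150) (flp_g L382128) L668160
theorem L668169 : sm gh N45163 = N48136 := rfl
theorem L668171 : sm gb N48136 = N45164 := ded_25_1 (flp_h L382140) (flp_b L382134) L668169
theorem L668173 : sm ge N48136 = N46368 := ded_43_1 (flp_h L649644) (flp_e L382136) L668169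
theorem L668175 : sm gg N48136 = N45166 := ded_50_1 (flp_h L382159) (flp_g L382138) L668169
theorem L668177 : sm gi N48136 = N48136 := ded_54_2 (flp_h L668169) (flp_i L382132) L262632 L382132 L668169
theorem L668178 : sm gh N45165 = N48137 := rfl
theorem L668180 : sm ga N48137 = N45166 := ded_17_1 (flp_h L382159) (flp_a L382152) L668178
theorem L668182 : sm gb N48137 = N48137 := ded_25_1 (flp_h L668178) L382154 L668178
theorem L668183 : sm ge N48137 = N46370 := ded_43_1 (flp_h L649659) (flp_e L382155) L668178
theorem L668185 : sm gj N48137 = N45467 := ded_52_1 (flp_h L384508) (flp_j L382157) L668178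
theorem L668187 : sm gi N48137 = N48137 := ded_54_2 (flp_h L668178) (flp_i L382150) L262656 L382150 L668178
theorem L668188 : sm gh N45187 = N48138 := rfl
theorem L668190 : sm ga N48138 = N45223 := ded_17_1 (flp_h L382657) (flp_a L382333) L668188
theorem L668192 : sm gb N48138 = N45332 := ded_25_1 (flp_h L383464) (flp_b L617173) L668188
theorem L668194 : sm gc N48138 = N48138 := ded_32_1 (flp_h L668188) L382335 L668188
theorem L668195 : sm ge N48138 = N45593 := ded_43_1 (flp_h L552196) (flp_e L617176) L668188
theorem L668197 : sm gf N48138 = N45189 := ded_47_1 (flp_h L382351) L382331 L668188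
theorem L668199 : sm gj N48138 = N45247 := ded_52_1 L552224 (flp_j L617178) L668188
theorem L668201 : sm gd N45189 = N48139 := rfl
theorem L668203 : sm ga N48139 = N45225 := ded_12_1 (flp_d L382669) (flp_a L382353) L668201
theorem L668205 : sm gb N48139 = N45335 := ded_20_1 (flp_d L383492) (flp_b L617166) L668201
theorem L668207 : sm gg N48139 = N45190 := ded_36_2 (flp_d L382360) (flp_g L382358) L668201
theorem L668209 : sm gj N48139 = N45237 := ded_37_2 L382755 (flp_j L617171) L668201
theorem L668211 : sm ge N48139 = N45234 := ded_34_2 (flp_d L382731) L263031 L263061 L622178 L668201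
theorem L668213 : sm gh N48139 = N45195 := ded_38_2 (flp_d L382407) (flp_h L262799) (flp_d L262766) L382351 L668201
theorem L668215 : sm gi N45189 = N48140 := rfl
theorem L668217 : sm ga N48140 = N45226 := ded_18_1 (flp_i L382675) (flp_a L382353) L668215
theorem L668219 : sm gb N48140 = N45336 := ded_26_1 (flp_i L383498) (flp_b L617166) L668215
theorem L668221 : sm gc N48140 = N48140 := ded_33_1 (flp_i L668215) L382355 L668215
theorem L668222 : sm ge N48140 = N45246 := ded_44_1 (flp_i L382799) L622178 L668215
theorem L668224 : sm gg N48140 = N45191 := ded_51_1 (flp_i L382366) (flp_g L382358) L668215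
theorem L668226 : sm gj N48140 = N45248 := ded_53_1 (flp_i L382815) (flp_j L617171) L668215
theorem L668228 : sm gh N48140 = N45327 := ded_54_1 (flp_i L383426) (flp_h L263489) (flp_i L262770) L382351 L668215
theorem L668230 : sm gi N45190 = N48141 := rfl
theorem L668232 : sm ga N48141 = N45229 := ded_18_1 (flp_i L382695) (flp_a L382362) L668230
theorem L668234 : sm gd N48141 = N45191 := ded_39_1 (flp_i L382366) L382360 L668230
theorem L668236 : sm gh N45192 = N48142 := rfl
theorem L668238 : sm ga N48142 = N45231 := ded_17_1 (flp_h L382707) (flp_a L382377) L668236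
theorem L668240 : sm gb N48142 = N45324 := ded_25_1 (flp_h L383402) (flp_b L612519) L668236
theorem L668242 : sm gc N48142 = N45211 := ded_32_1 (flp_h L382550) (flp_c L382379) L668236
theorem L668244 : sm ge N48142 = N45512 := ded_43_1 (flp_h L384884) (flp_e L382381) L668236
theorem L668246 : sm gf N48142 = N45194 := ded_47_1 (flp_h L382397) (flp_f L382383) L668236
theorem L668248 : sm gj N48142 = N45193 := ded_52_1 (flp_h L382387) L382375 L668236
theorem L668250 : sm gd N45193 = N48143 := rfl
theorem L668252 : sm ga N48143 = N45232 := ded_12_1 (flp_d L382717) (flp_a L382389) L668250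
theorem L668254 : sm gf N48143 = N45195 := ded_35_2 (flp_d L382407) (flp_f L382395) L668250
theorem L668256 : sm gi N45193 = N48144 := rfl
theorem L668258 : sm ga N48144 = N45233 := ded_18_1 (flp_i L382721) (flp_a L382389) L668256
theorem L668260 : sm gc N48144 = N45213 := ded_33_1 (flp_i L382569) (flp_c L382391) L668256
theorem L668262 : sm ge N48144 = N45514 := ded_44_1 (flp_i L384900) (flp_e L382393) L668256
theorem L668264 : sm gf N48144 = N45196 := ded_48_1 (flp_i L382413) (flp_f L382395) L668256
theorem L668266 : sm gh N48144 = N45334 := ded_54_1 (flp_i L383482) (flp_h L263521) (flp_i L262785) L382387 L668256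
theorem L668268 : sm gd N45194 = N48145 := rfl
theorem L668270 : sm ga N48145 = N45234 := ded_12_1 (flp_d L382731) (flp_a L382399) L668268
theorem L668272 : sm gb N48145 = N45326 := ded_20_1 (flp_d L383418) (flp_b L612514) L668268
theorem L668274 : sm gg N48145 = N45228 := ded_36_2 L504831 (flp_g L612517) L668268
theorem L668276 : sm gj N48145 = N45195 := ded_37_2 (flp_d L382407) (flp_j L382405) L668268
theorem L668278 : sm ge N48145 = N45225 := ded_34_2 (flp_d L382669) L262994 (flp_d L622162) (flp_e L382403) L668268
theorem L668280 : sm gh N48145 = N45237 := ded_38_2 L382755 (flp_h L504915) L622151 L382397 L668268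
theorem L668282 : sm gi N45194 = N48146 := rfl
theorem L668284 : sm ga N48146 = N45235 := ded_18_1 (flp_i L382735) (flp_a L382399) L668282
theorem L668286 : sm gb N48146 = N45327 := ded_26_1 (flp_i L383426) (flp_b L612514) L668282
theorem L668288 : sm gc N48146 = N45215 := ded_33_1 (flp_i L382589) (flp_c L382401) L668282
theorem L668290 : sm ge N48146 = N45201 := ded_44_1 (flp_i L382454) (flp_e L382403) L668282
theorem L668292 : sm gg N48146 = N45296 := ded_51_1 (flp_i L383175) (flp_g L612517) L668282
theorem L668294 : sm gj N48146 = N45196 := ded_53_1 (flp_i L382413) (flp_j L382405) L668282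
theorem L668296 : sm gh N48146 = N45336 := ded_54_1 (flp_i L383498) (flp_h L263531) (flp_i L262797) L382397 L668282
theorem L668298 : sm gc N45195 = N48147 := rfl
theorem L668300 : sm ga N48147 = N45236 := ded_11_1 (flp_c L382745) (flp_a L382409) L668298
theorem L668302 : sm gg N48147 = N45197 := ded_30_2 (flp_c L382425) (flp_g L382411) L668298
theorem L668304 : sm gd N48147 = N45216 := ded_27_2 (flp_c L382600) (flp_d L262929) (flp_c L262803) L382407 L668298
theorem L668306 : sm gi N45195 = N48148 := rfl
theorem L668308 : sm ga N48148 = N45238 := ded_18_1 (flp_i L382757) (flp_a L382409) L668306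
theorem L668310 : sm gd N48148 = N45196 := ded_39_1 (flp_i L382413) L382407 L668306
theorem L668312 : sm gg N48148 = N45199 := ded_51_1 (flp_i L382437) (flp_g L382411) L668306
theorem L668314 : sm gi N45197 = N48149 := rfl
theorem L668316 : sm ga N48149 = N45241 := ded_18_1 (flp_i L382772) (flp_a L382427) L668314
theorem L668318 : sm gc N48149 = N45199 := ded_33_1 (flp_i L382437) L382425 L668314
theorem L668320 : sm gd N48149 = N45219 := ded_39_1 (flp_i L382623) (flp_d L382429) L668314
theorem L668322 : sm gh N45199 = N48150 := rfl
theorem L668324 : sm ga N48150 = N45244 := ded_17_1 (flp_h L382788) (flp_a L382439) L668322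
theorem L668326 : sm gd N48150 = N45345 := ded_38_1 (flp_h L383566) L263573 (flp_h L262821) (flp_d L382441) L668322
theorem L668328 : sm gi N45211 = N48151 := rfl
theorem L668330 : sm ga N48151 = N45259 := ded_18_1 (flp_i L382900) (flp_a L382552) L668328
theorem L668332 : sm gb N48151 = N48151 := ded_26_1 (flp_i L668328) L382554 L668328
theorem L668333 : sm ge N48151 = N45540 := ded_44_1 (flp_i L385128) (flp_e L382555) L668328
theorem L668335 : sm gf N48151 = N45215 := ded_48_1 (flp_i L382589) (flp_f L382557) L668328
theorem L668337 : sm gj N48151 = N45213 := ded_53_1 (flp_i L382569) (flp_j L382559) L668328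
theorem L668339 : sm gh N48151 = N45360 := ded_54_1 (flp_i L383711) (flp_h L263685) (flp_i L262909) L382550 L668328
theorem L668341 : sm gc N45212 = N48152 := rfl
theorem L668343 : sm ga N48152 = N45260 := ded_11_1 (flp_c L382912) (flp_a L382563) L668341
theorem L668345 : sm gf N48152 = N45216 := ded_29_2 (flp_c L382600) (flp_f L382566) L668341
theorem L668347 : sm gh N48152 = N48152 := ded_32_2 (flp_c L668341) L382568 L668341
theorem L668348 : sm gi N45212 = N48153 := rfl
theorem L668350 : sm ga N48153 = N45262 := ded_18_1 (flp_i L382925) (flp_a L382563) L668348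
theorem L668352 : sm gb N48153 = N48153 := ded_26_1 (flp_i L668348) L382565 L668348
theorem L668353 : sm gd N48153 = N45213 := ded_39_1 (flp_i L382569) L382561 L668348
theorem L668355 : sm gf N48153 = N45217 := ded_48_1 (flp_i L382608) (flp_f L382566) L668348
theorem L668357 : sm gb N45216 = N48154 := rfl
theorem L668359 : sm ge N48154 = N48154 := ded_21_2 (flp_b L668357) L382604 L668357
theorem L668360 : sm gg N48154 = N45218 := ded_23_2 (flp_b L382618) (flp_g L382605) L668357
theorem L668362 : sm gh N48154 = N48154 := ded_25_2 (flp_b L668357) L382607 L668357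
theorem L668363 : sm gc N48154 = N48154 := ded_19_2 (flp_b L668357) (flp_c L382600) L262933 L382600 L668357
theorem L668364 : sm gi N45216 = N48155 := rfl
theorem L668366 : sm ga N48155 = N45266 := ded_18_1 (flp_i L382956) (flp_a L382602) L668364
theorem L668368 : sm gc N48155 = N45217 := ded_33_1 (flp_i L382608) L382600 L668364
theorem L668370 : sm ge N48155 = N48155 := ded_44_1 (flp_i L668364) L382604 L668364
theorem L668371 : sm gg N48155 = N45219 := ded_51_1 (flp_i L382623) (flp_g L382605) L668364
theorem L668373 : sm gh N45217 = N48156 := rfl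
theorem L668375 : sm ga N48156 = N45267 := ded_17_1 (flp_h L382963) (flp_a L382610) L668373
theorem L668377 : sm gb N48156 = N48156 := ded_25_1 (flp_h L668373) L382612 L668373
theorem L668378 : sm ge N48156 = N48156 := ded_43_1 (flp_h L668373) L382615 L668373
theorem L668379 : sm gg N48156 = N45220 := ded_50_1 (flp_h L382630) (flp_g L382616) L668373
theorem L668381 : sm gd N48156 = N45368 := ded_38_1 (flp_h L383786) L263746 (flp_h L262947) (flp_d L382613) L668373
theorem L668383 : sm gi N48156 = N48156 := ded_54_2 (flp_h L668373) (flp_i L382608) L262937 L382608 L668373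
theorem L668384 : sm ga N45218 = N48157 := rfl
theorem L668386 : sm gc N48157 = N48157 := ded_11_2 (flp_a L668384) L382622 L668384
theorem L668387 : sm ge N48157 = N48157 := ded_13_2 (flp_a L668384) L382620 L668384
theorem L668388 : sm gh N48157 = N48157 := ded_17_2 (flp_a L668384) L382621 L668384
theorem L668389 : sm gb N48157 = N45268 := ded_10_2 (flp_a L382973) (flp_b L263207) (flp_a L262951) L382618 L668384
theorem L668391 : sm gi N45218 = N48158 := rfl
theorem L668393 : sm gb N48158 = N45219 := ded_26_1 (flp_i L382623) L382618 L668391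
theorem L668395 : sm gc N48158 = N48158 := ded_33_1 (flp_i L668391) L382622 L668391
theorem L668396 : sm ge N48158 = N48158 := ded_44_1 (flp_i L668391) L382620 L668391
theorem L668397 : sm gh N45219 = N48159 := rfl
theorem L668399 : sm ga N48159 = N45270 := ded_17_1 (flp_h L382986) (flp_a L382625) L668397
theorem L668401 : sm gc N48159 = N45220 := ded_32_1 (flp_h L382630) (flp_c L382627) L668397
theorem L668403 : sm ge N48159 = N48159 := ded_43_1 (flp_h L668397) L382629 L668397
theorem L668404 : sm gi N48159 = N48159 := ded_54_2 (flp_h L668397) (flp_i L382623) L262954 L382623 L668397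
theorem L668405 : sm gd N45223 = N48160 := rfl
theorem L668407 : sm gf N48160 = N45225 := ded_35_2 (flp_d L382669) (flp_f L382660) L668405
theorem L668409 : sm gh N48160 = N45232 := ded_38_2 (flp_d L382717) (flp_h L263019) (flp_d L262978) L382657 L668405
theorem L668411 : sm gi N45223 = N48161 := rfl
theorem L668413 : sm gc N48161 = N48161 := ded_33_1 (flp_i L668411) L382659 L668411
theorem L668414 : sm gf N48161 = N45226 := ded_48_1 (flp_i L382675) (flp_f L382660) L668411
theorem L668416 : sm gh N48161 = N45377 := ded_54_1 (flp_i L383854) (flp_h L263788) (flp_i L262980) L382657 L668411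
theorem L668418 : sm gc N45225 = N48162 := rfl
theorem L668420 : sm gg N48162 = N45227 := ded_30_2 (flp_c L382684) (flp_g L382671) L668418
theorem L668422 : sm gh N48162 = N45236 := ded_32_2 (flp_c L382745) (flp_h L382673) L668418
theorem L668424 : sm gd N48162 = N48162 := ded_27_2 (flp_c L668418) (flp_d L382669) L262993 L382669 L668418
theorem L668425 : sm gi N45225 = N48163 := rfl
theorem L668427 : sm gd N48163 = N45226 := ded_39_1 (flp_i L382675) L382669 L668425
theorem L668429 : sm gg N48163 = N45229 := ded_51_1 (flp_i L382695) (flp_g L382671) L668425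
theorem L668431 : sm gb N45227 = N48164 := rfl
theorem L668433 : sm gd N48164 = N48164 := ded_20_2 (flp_b L668431) L382688 L668431
theorem L668434 : sm gh N48164 = N45239 := ded_25_2 (flp_b L382763) (flp_h L382686) L668431
theorem L668436 : sm gi N45227 = N48165 := rfl
theorem L668438 : sm gc N48165 = N45229 := ded_33_1 (flp_i L382695) L382684 L668436
theorem L668440 : sm gd N48165 = N48165 := ded_39_1 (flp_i L668436) L382688 L668436
theorem L668441 : sm gi N45228 = N48166 := rfl
theorem L668443 : sm gb N48166 = N45330 := ded_26_1 (flp_i L383450) (flp_b L504829) L668441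
theorem L668445 : sm gd N48166 = N45296 := ded_39_1 (flp_i L383175) (flp_d L504831) L668441
theorem L668447 : sm ge N48166 = N45229 := ded_44_1 (flp_i L382695) L382689 L668441
theorem L668449 : sm gh N45229 = N48167 := rfl
theorem L668451 : sm gd N48167 = N45388 := ded_38_1 (flp_h L383921) L263826 (flp_h L263007) (flp_d L382697) L668449
theorem L668453 : sm gi N48167 = N45244 := ded_54_2 (flp_h L382788) (flp_i L263057) (flp_h L263000) L382695 L668449
theorem L668455 : sm gd N45231 = N48168 := rfl
theorem L668457 : sm gf N48168 = N45234 := ded_35_2 (flp_d L382731) (flp_f L382713) L668455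
theorem L668459 : sm gj N48168 = N45232 := ded_37_2 (flp_d L382717) (flp_j L382715) L668455
theorem L668461 : sm gi N45231 = N48169 := rfl
theorem L668463 : sm gc N48169 = N45259 := ded_33_1 (flp_i L382900) (flp_c L382709) L668461
theorem L668465 : sm ge N48169 = N45571 := ded_44_1 (flp_i L385384) (flp_e L382711) L668461
theorem L668467 : sm gf N48169 = N45235 := ded_48_1 (flp_i L382735) (flp_f L382713) L668461
theorem L668469 : sm gj N48169 = N45233 := ded_53_1 (flp_i L382721) (flp_j L382715) L668461
theorem L668471 : sm gh N48169 = N45391 := ded_54_1 (flp_i L383939) (flp_h L263834) (flp_i L263017) L382707 L668461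
theorem L668473 : sm gc N45232 = N48170 := rfl
theorem L668475 : sm gf N48170 = N45236 := ded_29_2 (flp_c L382745) (flp_f L382719) L668473
theorem L668477 : sm gd N48170 = N45260 := ded_27_2 (flp_c L382912) (flp_d L263157) (flp_c L263021) L382717 L668473
theorem L668479 : sm ge N45232 = N48171 := rfl
theorem L668481 : sm gd N48171 = N45573 := ded_34_1 (flp_e L385400) (flp_d L264826) (flp_e L263023) L382717 L668479
theorem L668483 : sm gi N45232 = N48172 := rfl
theorem L668485 : sm gd N48172 = N45233 := ded_39_1 (flp_i L382721) L382717 L668483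
theorem L668487 : sm gf N48172 = N45238 := ded_48_1 (flp_i L382757) (flp_f L382719) L668483
theorem L668489 : sm gi N45234 = N48173 := rfl
theorem L668491 : sm gd N48173 = N45235 := ded_39_1 (flp_i L382735) L382731 L668489
theorem L668493 : sm gj N48173 = N45238 := ded_53_1 (flp_i L382757) (flp_j L382733) L668489
theorem L668495 : sm ge N45236 = N48174 := rfl
theorem L668497 : sm gc N48174 = N45237 := ded_28_1 (flp_e L382751) L382745 L668495
theorem L668499 : sm gg N48174 = N45240 := ded_41_2 (flp_e L382767) (flp_g L382747) L668495
theorem L668501 : sm gd N48174 = N48174 := ded_34_1 (flp_e L668495) L382749 L263194 (flp_d L382749) L668495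
theorem L668502 : sm gi N45236 = N48175 := rfl
theorem L668504 : sm gc N48175 = N45238 := ded_33_1 (flp_i L382757) L382745 L668502
theorem L668506 : sm gd N48175 = N45266 := ded_39_1 (flp_i L382956) (flp_d L382749) L668502
theorem L668508 : sm gg N48175 = N45241 := ded_51_1 (flp_i L382772) (flp_g L382747) L668502
theorem L668510 : sm gf N45237 = N48176 := rfl
theorem L668512 : sm gb N48176 = N45333 := ded_22_1 L383480 (flp_b L504866) L668510
theorem L668514 : sm gd N48176 = N45247 := ded_35_1 (flp_f L382808) (flp_d L382755) L668510
theorem L668516 : sm gi N45237 = N48177 := rfl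
theorem L668518 : sm gb N48177 = N45339 := ded_26_1 (flp_i L383524) (flp_b L504866) L668516
theorem L668520 : sm gd N48177 = N45248 := ded_39_1 (flp_i L382815) (flp_d L382755) L668516
theorem L668522 : sm ge N48177 = N45238 := ded_44_1 (flp_i L382757) L382751 L668516
theorem L668524 : sm gg N48177 = N45243 := ded_51_1 (flp_i L382782) (flp_g L382753) L668516
theorem L668526 : sm gh N45238 = N48178 := rfl
theorem L668528 : sm gg N48178 = N45244 := ded_50_1 (flp_h L382788) (flp_g L382761) L668526
theorem L668530 : sm gd N48178 = N45403 := ded_38_1 (flp_h L384017) L263882 (flp_h L263047) (flp_d L382759) L668526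
theorem L668532 : sm ga N45239 = N48179 := rfl
theorem L668534 : sm gd N48179 = N45268 := ded_12_2 (flp_a L382973) (flp_d L382765) L668532
theorem L668536 : sm ge N45239 = N48180 := rfl
theorem L668538 : sm gb N48180 = N45240 := ded_21_1 (flp_e L382767) L382763 L668536
theorem L668540 : sm gc N48180 = N45340 := ded_28_1 (flp_e L657712) L657710 L668536
theorem L668542 : sm gd N48180 = N48180 := ded_34_1 (flp_e L668536) L382765 L263209 (flp_d L382765) L668536
theorem L668543 : sm gi N45239 = N48181 := rfl
theorem L668545 : sm gb N48181 = N45241 := ded_26_1 (flp_i L382772) L382763 L668543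
theorem L668547 : sm gd N48181 = N45269 := ded_39_1 (flp_i L382979) (flp_d L382765) L668543
theorem L668549 : sm gi N45240 = N48182 := rfl
theorem L668551 : sm gc N48182 = N45243 := ded_33_1 (flp_i L382782) (flp_c L382769) L668549
theorem L668553 : sm gd N48182 = N48182 := ded_39_1 (flp_i L668549) L382771 L668549
theorem L668554 : sm ge N48182 = N45241 := ded_44_1 (flp_i L382772) L382767 L668549
theorem L668556 : sm gh N45241 = N48183 := rfl
theorem L668558 : sm gc N48183 = N45244 := ded_32_1 (flp_h L382788) (flp_c L382774) L668556
theorem L668560 : sm gh N45243 = N48184 := rfl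
theorem L668562 : sm gb N48184 = N45345 := ded_25_1 (flp_h L383566) (flp_b L504860) L668560
theorem L668564 : sm ge N48184 = N45244 := ded_43_1 (flp_h L382788) (flp_e L382786) L668560
theorem L668566 : sm gi N45247 = N48185 := rfl
theorem L668568 : sm gb N48185 = N45334 := ded_26_1 (flp_i L383482) (flp_b L552221) L668566
theorem L668570 : sm gc N48185 = N48185 := ded_33_1 (flp_i L668566) L382810 L668566
theorem L668571 : sm ge N48185 = N45597 := ded_44_1 (flp_i L385553) (flp_e L382813) L668566
theorem L668573 : sm gf N48185 = N45248 := ded_48_1 (flp_i L382815) L382808 L668566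
theorem L668575 : sm ge N45260 = N48186 := rfl
theorem L668577 : sm gc N48186 = N45261 := ded_28_1 (flp_e L382917) L382912 L668575
theorem L668579 : sm gh N48186 = N48186 := ded_43_2 (flp_e L668575) L382916 L668575
theorem L668580 : sm gf N48186 = N48186 := ded_40_2 (flp_e L668575) L382914 L263194 (flp_f L382914) L668575
theorem L668581 : sm gi N45260 = N48187 := rfl
theorem L668583 : sm gc N48187 = N45262 := ded_33_1 (flp_i L382925) L382912 L668581
theorem L668585 : sm gf N48187 = N45266 := ded_48_1 (flp_i L382956) (flp_f L382914) L668581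
theorem L668587 : sm gi N45261 = N48188 := rfl
theorem L668589 : sm gb N48188 = N45279 := ded_26_1 (flp_i L383052) (flp_b L382919) L668587
theorem L668591 : sm gd N48188 = N45615 := ded_39_1 (flp_i L385693) (flp_d L382922) L668587
theorem L668593 : sm ge N48188 = N45262 := ded_44_1 (flp_i L382925) L382917 L668587
theorem L668595 : sm gf N48188 = N48188 := ded_48_1 (flp_i L668587) L382924 L668587
theorem L668596 : sm gh N45262 = N48189 := rfl
theorem L668598 : sm gb N48189 = N45280 := ded_25_1 (flp_h L383060) (flp_b L382927) L668596
theorem L668600 : sm gf N48189 = N45267 := ded_47_1 (flp_h L382963) (flp_f L382931) L668596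
theorem L668602 : sm gd N48189 = N45436 := ded_38_1 (flp_h L384260) L264057 (flp_h L263172) (flp_d L382929) L668596
theorem L668604 : sm gi N48189 = N48189 := ded_54_2 (flp_h L668596) (flp_i L382925) L263163 L382925 L668596
theorem L668605 : sm gh N45266 = N48190 := rfl
theorem L668607 : sm gc N48190 = N45267 := ded_32_1 (flp_h L382963) (flp_c L382958) L668605
theorem L668609 : sm ge N48190 = N48190 := ded_43_1 (flp_h L668605) L382960 L668605
theorem L668610 : sm gg N48190 = N45270 := ded_50_1 (flp_h L382986) (flp_g L382961) L668605
theorem L668612 : sm gi N48190 = N48190 := ded_54_2 (flp_h L668605) (flp_i L382956) L263197 L382956 L668605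
theorem L668613 : sm gi N45268 = N48191 := rfl
theorem L668615 : sm ga N48191 = N45269 := ded_18_1 (flp_i L382979) L382973 L668613
theorem L668617 : sm gc N48191 = N45287 := ded_33_1 (flp_i L383114) (flp_c L382975) L668613
theorem L668619 : sm ge N48191 = N48191 := ded_44_1 (flp_i L668613) L382977 L668613
theorem L668620 : sm gh N45269 = N48192 := rfl
theorem L668622 : sm gb N48192 = N45270 := ded_25_1 (flp_h L382986) (flp_b L382981) L668620
theorem L668624 : sm gc N48192 = N45288 := ded_32_1 (flp_h L383120) (flp_c L382983) L668620
theorem L668626 : sm ge N48192 = N48192 := ded_43_1 (flp_h L668620) L382985 L668620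
theorem L668627 : sm gi N48192 = N48192 := ded_54_2 (flp_h L668620) (flp_i L382979) L263210 L382979 L668620
theorem L668628 : sm gd N45270 = N48193 := rfl
theorem L668630 : sm gi N48193 = N48193 := ded_39_2 (flp_d L668628) L382991 L668628
theorem L668631 : sm gc N48193 = N45445 := ded_27_1 (flp_d L384338) L264121 (flp_d L263223) (flp_c L382988) L668628
theorem L668633 : sm gh N45279 = N48194 := rfl
theorem L668635 : sm ga N48194 = N48194 := ded_17_1 (flp_h L668633) L383054 L668633
theorem L668636 : sm ge N48194 = N45280 := ded_43_1 (flp_h L383060) (flp_e L383057) L668633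
theorem L668638 : sm gf N48194 = N48194 := ded_47_1 (flp_h L668633) L383059 L668633
theorem L668639 : sm gi N48194 = N48194 := ded_54_2 (flp_h L668633) (flp_i L383052) L263261 L383052 L668633
theorem L668640 : sm gh N45287 = N48195 := rfl
theorem L668642 : sm ga N48195 = N45288 := ded_17_1 (flp_h L383120) (flp_a L383116) L668640
theorem L668644 : sm gb N48195 = N48195 := ded_25_1 (flp_h L668640) L383118 L668640
theorem L668645 : sm ge N48195 = N48195 := ded_43_1 (flp_h L668640) L383119 L668640
theorem L668646 : sm gi N48195 = N48195 := ded_54_2 (flp_h L668640) (flp_i L383114) L263313 L383114 L668640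
theorem L668647 : sm gd N45288 = N48196 := rfl
theorem L668649 : sm gb N48196 = N45289 := ded_20_1 (flp_d L383126) (flp_b L383122) L668647
theorem L668651 : sm gi N48196 = N48196 := ded_39_2 (flp_d L668647) L383125 L668647
theorem L668652 : sm ge N45289 = N48197 := rfl
theorem L668654 : sm ga N48197 = N48197 := ded_13_1 (flp_e L668652) L383128 L668652
theorem L668655 : sm gc N48197 = N45469 := ded_28_1 (flp_e L384521) (flp_c L383130) L668652
theorem L668657 : sm gi N48197 = N48197 := ded_44_2 (flp_e L668652) L383129 L668652
theorem L668658 : sm gd N48197 = N48197 := ded_34_1 (flp_e L668652) (flp_d L383126) L263325 L383126 L668652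
theorem L668659 : sm gd N45324 = N48198 := rfl
theorem L668661 : sm ga N48198 = N45376 := ded_12_1 (flp_d L383848) (flp_a L383404) L668659
theorem L668663 : sm gf N48198 = N45326 := ded_35_2 (flp_d L383418) (flp_f L383407) L668659
theorem L668665 : sm gh N48198 = N45333 := ded_38_2 (flp_d L383476) (flp_h L263521) (flp_d L263478) L383402 L668659
theorem L668667 : sm gi N45324 = N48199 := rfl
theorem L668669 : sm ga N48199 = N45377 := ded_18_1 (flp_i L383854) (flp_a L383404) L668667
theorem L668671 : sm gc N48199 = N48199 := ded_33_1 (flp_i L668667) L383406 L668667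
theorem L668672 : sm gf N48199 = N45327 := ded_48_1 (flp_i L383426) (flp_f L383407) L668667
theorem L668674 : sm gc N45326 = N48200 := rfl
theorem L668676 : sm ga N48200 = N45380 := ded_11_1 (flp_c L383872) (flp_a L383420) L668674
theorem L668678 : sm gg N48200 = N45328 := ded_30_2 (flp_c L383435) (flp_g L383422) L668674
theorem L668680 : sm gh N48200 = N45337 := ded_32_2 (flp_c L383508) (flp_h L383424) L668674
theorem L668682 : sm gd N48200 = N48200 := ded_27_2 (flp_c L668674) (flp_d L383418) L263493 L383418 L668674
theorem L668683 : sm gi N45326 = N48201 := rfl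
theorem L668685 : sm ga N48201 = N45382 := ded_18_1 (flp_i L383887) (flp_a L383420) L668683
theorem L668687 : sm gd N48201 = N45327 := ded_39_1 (flp_i L383426) L383418 L668683
theorem L668689 : sm gg N48201 = N45330 := ded_51_1 (flp_i L383450) (flp_g L383422) L668683
theorem L668691 : sm gb N45328 = N48202 := rfl
theorem L668693 : sm gd N48202 = N48202 := ded_20_2 (flp_b L668691) L383441 L668691
theorem L668694 : sm gh N48202 = N45340 := ded_25_2 (flp_b L383532) (flp_h L383439) L668691
theorem L668696 : sm gi N45328 = N48203 := rfl
theorem L668698 : sm ga N48203 = N45385 := ded_18_1 (flp_i L383904) (flp_a L383437) L668696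
theorem L668700 : sm gc N48203 = N45330 := ded_33_1 (flp_i L383450) L383435 L668696
theorem L668702 : sm gd N48203 = N48203 := ded_39_1 (flp_i L668696) L383441 L668696
theorem L668703 : sm gh N45330 = N48204 := rfl
theorem L668705 : sm ga N48204 = N45388 := ded_17_1 (flp_h L383921) (flp_a L383452) L668703
theorem L668707 : sm gi N48204 = N45345 := ded_54_2 (flp_h L383566) (flp_i L263569) (flp_h L263502) L383450 L668703
theorem L668709 : sm gh N45331 = N48205 := rfl
theorem L668711 : sm ga N48205 = N45389 := ded_17_1 (flp_h L383925) (flp_a L383458) L668709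
theorem L668713 : sm gc N48205 = N45358 := ded_32_1 (flp_h L383692) (flp_c L383460) L668709
theorem L668715 : sm ge N48205 = N45722 := ded_43_1 (flp_h L386575) (flp_e L383462) L668709
theorem L668717 : sm gg N48205 = N45332 := ded_50_1 (flp_h L383464) L383456 L668709
theorem L668719 : sm gd N45332 = N48206 := rfl
theorem L668721 : sm ga N48206 = N45390 := ded_12_1 (flp_d L383933) (flp_a L383466) L668719
theorem L668723 : sm gf N48206 = N45335 := ded_35_2 (flp_d L383492) (flp_f L383472) L668719
theorem L668725 : sm gj N48206 = N45333 := ded_37_2 (flp_d L383476) (flp_j L383474) L668719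
theorem L668727 : sm gi N45332 = N48207 := rfl
theorem L668729 : sm ga N48207 = N45391 := ded_18_1 (flp_i L383939) (flp_a L383466) L668727
theorem L668731 : sm gc N48207 = N45360 := ded_33_1 (flp_i L383711) (flp_c L383468) L668727
theorem L668733 : sm ge N48207 = N45724 := ded_44_1 (flp_i L386592) (flp_e L383470) L668727
theorem L668735 : sm gf N48207 = N45336 := ded_48_1 (flp_i L383498) (flp_f L383472) L668727
theorem L668737 : sm gj N48207 = N45334 := ded_53_1 (flp_i L383482) (flp_j L383474) L668727
theorem L668739 : sm gc N45333 = N48208 := rfl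
theorem L668741 : sm ga N48208 = N45392 := ded_11_1 (flp_c L383949) (flp_a L383478) L668739
theorem L668743 : sm gf N48208 = N45337 := ded_29_2 (flp_c L383508) (flp_f L383480) L668739
theorem L668745 : sm gd N48208 = N45361 := ded_27_2 (flp_c L383722) (flp_d L263696) (flp_c L263525) L383476 L668739
theorem L668747 : sm ge N45333 = N48209 := rfl
theorem L668749 : sm ga N48209 = N45393 := ded_13_1 (flp_e L383955) (flp_a L383478) L668747
theorem L668751 : sm gd N48209 = N45726 := ded_34_1 (flp_e L386610) (flp_d L265614) (flp_e L263527) L383476 L668747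
theorem L668753 : sm gi N45333 = N48210 := rfl
theorem L668755 : sm ga N48210 = N45394 := ded_18_1 (flp_i L383959) (flp_a L383478) L668753
theorem L668757 : sm gd N48210 = N45334 := ded_39_1 (flp_i L383482) L383476 L668753
theorem L668759 : sm gf N48210 = N45339 := ded_48_1 (flp_i L383524) (flp_f L383480) L668753
theorem L668761 : sm gi N45335 = N48211 := rfl
theorem L668763 : sm ga N48211 = N45397 := ded_18_1 (flp_i L383977) (flp_a L383494) L668761
theorem L668765 : sm gd N48211 = N45336 := ded_39_1 (flp_i L383498) L383492 L668761
theorem L668767 : sm gj N48211 = N45339 := ded_53_1 (flp_i L383524) (flp_j L383496) L668761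
theorem L668769 : sm gi N45337 = N48212 := rfl
theorem L668771 : sm ga N48212 = N45400 := ded_18_1 (flp_i L383997) (flp_a L383510) L668769
theorem L668773 : sm gc N48212 = N45339 := ded_33_1 (flp_i L383524) L383508 L668769
theorem L668775 : sm gd N48212 = N45367 := ded_39_1 (flp_i L383776) (flp_d L383514) L668769
theorem L668777 : sm gg N48212 = N45342 := ded_51_1 (flp_i L383544) (flp_g L383512) L668769
theorem L668779 : sm gh N45339 = N48213 := rfl
theorem L668781 : sm ga N48213 = N45403 := ded_17_1 (flp_h L384017) (flp_a L383526) L668779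
theorem L668783 : sm gg N48213 = N45345 := ded_50_1 (flp_h L383566) (flp_g L383530) L668779
theorem L668785 : sm ga N45340 = N48214 := rfl
theorem L668787 : sm gd N48214 = N45369 := ded_12_2 (flp_a L383796) (flp_d L383534) L668785
theorem L668789 : sm gb N48214 = N45404 := ded_10_2 (flp_a L384021) (flp_b L263886) (flp_a L263559) L383532 L668785
theorem L668791 : sm gi N45340 = N48215 := rfl
theorem L668793 : sm gb N48215 = N45342 := ded_26_1 (flp_i L383544) L383532 L668791
theorem L668795 : sm gd N48215 = N45370 := ded_39_1 (flp_i L383804) (flp_d L383534) L668791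
theorem L668797 : sm gh N45342 = N48216 := rfl
theorem L668799 : sm ga N48216 = N45409 := ded_17_1 (flp_h L384051) (flp_a L383546) L668797
theorem L668801 : sm gc N48216 = N45345 := ded_32_1 (flp_h L383566) (flp_c L383548) L668797
theorem L668803 : sm gd N45358 = N48217 := rfl
theorem L668805 : sm ga N48217 = N45427 := ded_12_1 (flp_d L384187) (flp_a L383694) L668803
theorem L668807 : sm gb N48217 = N48217 := ded_20_1 (flp_d L668803) L383696 L668803
theorem L668808 : sm gg N48217 = N45359 := ded_36_2 (flp_d L383701) (flp_g L383699) L668803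
theorem L668810 : sm gh N48217 = N48217 := ded_38_2 (flp_d L668803) (flp_h L383692) L263682 L383692 L668803
theorem L668811 : sm gi N45358 = N48218 := rfl
theorem L668813 : sm ga N48218 = N45428 := ded_18_1 (flp_i L384194) (flp_a L383694) L668811
theorem L668815 : sm gb N48218 = N48218 := ded_26_1 (flp_i L668811) L383696 L668811
theorem L668816 : sm ge N48218 = N45761 := ded_44_1 (flp_i L386917) (flp_e L383697) L668811
theorem L668818 : sm gg N48218 = N45360 := ded_51_1 (flp_i L383711) (flp_g L383699) L668811
theorem L668820 : sm gi N45359 = N48219 := rfl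
theorem L668822 : sm ga N48219 = N45431 := ded_18_1 (flp_i L384220) (flp_a L383703) L668820
theorem L668824 : sm gb N48219 = N48219 := ded_26_1 (flp_i L668820) L383705 L668820
theorem L668825 : sm gd N48219 = N45360 := ded_39_1 (flp_i L383711) L383701 L668820
theorem L668827 : sm gf N48219 = N45365 := ded_48_1 (flp_i L383757) (flp_f L383706) L668820
theorem L668829 : sm gj N48219 = N45363 := ded_53_1 (flp_i L383739) (flp_j L383708) L668820
theorem L668831 : sm gi N45361 = N48220 := rfl
theorem L668833 : sm ga N48220 = N45434 := ded_18_1 (flp_i L384244) (flp_a L383724) L668831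
theorem L668835 : sm gc N48220 = N45363 := ded_33_1 (flp_i L383739) L383722 L668831
theorem L668837 : sm gf N48220 = N45367 := ded_48_1 (flp_i L383776) (flp_f L383726) L668831
theorem L668839 : sm gi N45362 = N48221 := rfl
theorem L668841 : sm ga N48221 = N45435 := ded_18_1 (flp_i L384250) (flp_a L383731) L668839
theorem L668843 : sm gb N48221 = N48221 := ded_26_1 (flp_i L668839) L383733 L668839
theorem L668844 : sm gd N48221 = N45768 := ded_39_1 (flp_i L386982) (flp_d L383735) L668839
theorem L668846 : sm ge N48221 = N45363 := ded_44_1 (flp_i L383739) L383729 L668839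
theorem L668848 : sm gf N48221 = N46374 := ded_48_1 (flp_i L649692) (flp_f L383737) L668839
theorem L668850 : sm gh N45363 = N48222 := rfl
theorem L668852 : sm ga N48222 = N45436 := ded_17_1 (flp_h L384260) (flp_a L383741) L668850
theorem L668854 : sm gb N48222 = N48222 := ded_25_1 (flp_h L668850) L383743 L668850
theorem L668855 : sm gf N48222 = N45368 := ded_47_1 (flp_h L383786) (flp_f L383746) L668850
theorem L668857 : sm gi N48222 = N48222 := ded_54_2 (flp_h L668850) (flp_i L383739) L263703 L383739 L668850
theorem L668858 : sm gh N45365 = N48223 := rfl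
theorem L668860 : sm ga N48223 = N45439 := ded_17_1 (flp_h L384284) (flp_a L383759) L668858
theorem L668862 : sm gb N48223 = N48223 := ded_25_1 (flp_h L668858) L383761 L668858
theorem L668863 : sm ge N48223 = N46376 := ded_43_1 (flp_h L649712) (flp_e L383764) L668858
theorem L668865 : sm gj N48223 = N45368 := ded_52_1 (flp_h L383786) (flp_j L383766) L668858
theorem L668867 : sm gi N48223 = N48223 := ded_54_2 (flp_h L668858) (flp_i L383757) L263722 L383757 L668858
theorem L668868 : sm gh N45367 = N48224 := rfl
theorem L668870 : sm ga N48224 = N45442 := ded_17_1 (flp_h L384312) (flp_a L383778) L668868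
theorem L668872 : sm gc N48224 = N45368 := ded_32_1 (flp_h L383786) (flp_c L383780) L668868
theorem L668874 : sm ge N48224 = N46377 := ded_43_1 (flp_h L649721) (flp_e L383782) L668868
theorem L668876 : sm gg N48224 = N45371 := ded_50_1 (flp_h L383811) (flp_g L383784) L668868
theorem L668878 : sm gi N48224 = N48224 := ded_54_2 (flp_h L668868) (flp_i L383776) L263740 L383776 L668868
theorem L668879 : sm gi N45369 = N48225 := rfl
theorem L668881 : sm ga N48225 = N45370 := ded_18_1 (flp_i L383804) L383796 L668879
theorem L668883 : sm gb N48225 = N45443 := ded_26_1 (flp_i L384321) (flp_b L383802) L668879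
theorem L668885 : sm gc N48225 = N48225 := ded_33_1 (flp_i L668879) L383798 L668879
theorem L668886 : sm ge N48225 = N46378 := ded_44_1 (flp_i L649730) (flp_e L383799) L668879
theorem L668888 : sm gh N45370 = N48226 := rfl
theorem L668890 : sm gb N48226 = N45371 := ded_25_1 (flp_h L383811) (flp_b L383806) L668888
theorem L668892 : sm gc N48226 = N48226 := ded_32_1 (flp_h L668888) L383808 L668888
theorem L668893 : sm ge N48226 = N46379 := ded_43_1 (flp_h L649738) (flp_e L383809) L668888
theorem L668895 : sm gi N48226 = N48226 := ded_54_2 (flp_h L668888) (flp_i L383804) L263756 L383804 L668888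
theorem L668896 : sm gd N45371 = N48227 := rfl
theorem L668898 : sm ga N48227 = N45445 := ded_12_1 (flp_d L384338) (flp_a L383813) L668896
theorem L668900 : sm gi N48227 = N48227 := ded_39_2 (flp_d L668896) L383819 L668896
theorem L668901 : sm gc N45376 = N48228 := rfl
theorem L668903 : sm gf N48228 = N45380 := ded_29_2 (flp_c L383872) (flp_f L383850) L668901
theorem L668905 : sm gh N48228 = N45392 := ded_32_2 (flp_c L383949) (flp_h L383852) L668901
theorem L668907 : sm gd N48228 = N48228 := ded_27_2 (flp_c L668901) (flp_d L383848) L263790 L383848 L668901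
theorem L668908 : sm ge N45376 = N48229 := rfl
theorem L668910 : sm gh N48229 = N45393 := ded_43_2 (flp_e L383955) (flp_h L383852) L668908
theorem L668912 : sm gi N45376 = N48230 := rfl
theorem L668914 : sm gd N48230 = N45377 := ded_39_1 (flp_i L383854) L383848 L668912
theorem L668916 : sm gf N48230 = N45382 := ded_48_1 (flp_i L383887) (flp_f L383850) L668912
theorem L668918 : sm gb N45380 = N48231 := rfl
theorem L668920 : sm gd N48231 = N48231 := ded_20_2 (flp_b L668918) L383878 L668918
theorem L668921 : sm gg N48231 = N45383 := ded_23_2 (flp_b L383893) (flp_g L383874) L668918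
theorem L668923 : sm gh N48231 = N45398 := ded_25_2 (flp_b L383983) (flp_h L383876) L668918
theorem L668925 : sm gi N45380 = N48232 := rfl
theorem L668927 : sm gc N48232 = N45382 := ded_33_1 (flp_i L383887) L383872 L668925
theorem L668929 : sm gd N48232 = N48232 := ded_39_1 (flp_i L668925) L383878 L668925
theorem L668930 : sm gg N48232 = N45385 := ded_51_1 (flp_i L383904) (flp_g L383874) L668925
theorem L668932 : sm gh N45382 = N48233 := rfl
theorem L668934 : sm gg N48233 = N45388 := ded_50_1 (flp_h L383921) (flp_g L383891) L668932
theorem L668936 : sm gi N48233 = N45403 := ded_54_2 (flp_h L384017) (flp_i L263880) (flp_h L263804) L383887 L668932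
theorem L668938 : sm ge N45383 = N48234 := rfl
theorem L668940 : sm gb N48234 = N45384 := ded_21_1 (flp_e L383898) L383893 L668938
theorem L668942 : sm gh N48234 = N45405 := ded_43_2 (flp_e L384025) (flp_h L383896) L668938
theorem L668944 : sm gi N45383 = N48235 := rfl
theorem L668946 : sm gb N48235 = N45385 := ded_26_1 (flp_i L383904) L383893 L668944
theorem L668948 : sm gd N48235 = N48235 := ded_39_1 (flp_i L668944) L383895 L668944
theorem L668949 : sm gf N45384 = N48236 := rfl
theorem L668951 : sm gc N48236 = N45386 := ded_29_1 (flp_f L383909) (flp_c L383900) L668949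
theorem L668953 : sm gh N48236 = N45407 := ded_47_2 (flp_f L384037) (flp_h L383902) L668949
theorem L668955 : sm gi N45384 = N48237 := rfl
theorem L668957 : sm gc N48237 = N45387 := ded_33_1 (flp_i L383915) (flp_c L383900) L668955
theorem L668959 : sm ge N48237 = N45385 := ded_44_1 (flp_i L383904) L383898 L668955
theorem L668961 : sm gh N45385 = N48238 := rfl
theorem L668963 : sm gc N48238 = N45388 := ded_32_1 (flp_h L383921) (flp_c L383906) L668961
theorem L668965 : sm gi N48238 = N45409 := ded_54_2 (flp_h L384051) (flp_i L263896) (flp_h L263815) L383904 L668961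
theorem L668967 : sm gg N45386 = N48239 := rfl
theorem L668969 : sm gd N48239 = N46536 := ded_36_1 (flp_g L651038) (flp_d L383911) L668967
theorem L668971 : sm gh N48239 = N45410 := ded_50_2 (flp_g L384055) (flp_h L383913) L668967
theorem L668973 : sm gh N45387 = N48240 := rfl
theorem L668975 : sm ge N48240 = N45388 := ded_43_1 (flp_h L383921) (flp_e L383919) L668973
theorem L668977 : sm gi N48240 = N45412 := ded_54_2 (flp_h L384065) (flp_i L263906) (flp_h L263820) L383915 L668973
theorem L668979 : sm gd N45389 = N48241 := rfl
theorem L668981 : sm gg N48241 = N45390 := ded_36_2 (flp_d L383933) (flp_g L383931) L668979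
theorem L668983 : sm gi N45389 = N48242 := rfl
theorem L668985 : sm gc N48242 = N45428 := ded_33_1 (flp_i L384194) (flp_c L383927) L668983
theorem L668987 : sm ge N48242 = N45808 := ded_44_1 (flp_i L387301) (flp_e L383929) L668983
theorem L668989 : sm gg N48242 = N45391 := ded_51_1 (flp_i L383939) (flp_g L383931) L668983
theorem L668991 : sm gc N45390 = N48243 := rfl
theorem L668993 : sm gf N48243 = N45395 := ded_29_2 (flp_c L383965) (flp_f L383935) L668991
theorem L668995 : sm gj N48243 = N45392 := ded_31_2 (flp_c L383949) (flp_j L383937) L668991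
theorem L668997 : sm gd N48243 = N45429 := ded_27_2 (flp_c L384202) (flp_d L264020) (flp_c L263836) L383933 L668991
theorem L668999 : sm ge N45390 = N48244 := rfl
theorem L669001 : sm gj N48244 = N45393 := ded_42_2 (flp_e L383955) (flp_j L383937) L668999
theorem L669003 : sm gd N48244 = N45810 := ded_34_1 (flp_e L387316) (flp_d L266096) (flp_e L263838) L383933 L668999
theorem L669005 : sm gi N45390 = N48245 := rfl
theorem L669007 : sm gd N48245 = N45391 := ded_39_1 (flp_i L383939) L383933 L669005
theorem L669009 : sm gf N48245 = N45397 := ded_48_1 (flp_i L383977) (flp_f L383935) L669005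
theorem L669011 : sm gj N48245 = N45394 := ded_53_1 (flp_i L383959) (flp_j L383937) L669005
theorem L669013 : sm gb N45392 = N48246 := rfl
theorem L669015 : sm gd N48246 = N45432 := ded_20_2 (flp_b L384230) (flp_d L383953) L669013
theorem L669017 : sm gf N48246 = N45398 := ded_22_2 (flp_b L383983) (flp_f L383951) L669013
theorem L669019 : sm ge N45392 = N48247 := rfl
theorem L669021 : sm gc N48247 = N45393 := ded_28_1 (flp_e L383955) L383949 L669019
theorem L669023 : sm gi N45392 = N48248 := rfl
theorem L669025 : sm gc N48248 = N45394 := ded_33_1 (flp_i L383959) L383949 L669023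
theorem L669027 : sm gd N48248 = N45434 := ded_39_1 (flp_i L384244) (flp_d L383953) L669023
theorem L669029 : sm gf N48248 = N45400 := ded_48_1 (flp_i L383997) (flp_f L383951) L669023
theorem L669031 : sm gf N45393 = N48249 := rfl
theorem L669033 : sm gd N48249 = N45815 := ded_35_1 (flp_f L387346) (flp_d L383957) L669031
theorem L669035 : sm ge N48249 = N45401 := ded_40_1 (flp_f L384005) (flp_e L263874) (flp_f L263846) L383955 L669031
theorem L669037 : sm gi N45393 = N48250 := rfl
theorem L669039 : sm gd N48250 = N45816 := ded_39_1 (flp_i L387350) (flp_d L383957) L669037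
theorem L669041 : sm ge N48250 = N45394 := ded_44_1 (flp_i L383959) L383955 L669037
theorem L669043 : sm gh N45394 = N48251 := rfl
theorem L669045 : sm gf N48251 = N45403 := ded_47_1 (flp_h L384017) (flp_f L383963) L669043
theorem L669047 : sm gb N45395 = N48252 := rfl
theorem L669049 : sm gd N48252 = N45437 := ded_20_2 (flp_b L384267) (flp_d L383969) L669047
theorem L669051 : sm gj N48252 = N45398 := ded_24_2 (flp_b L383983) (flp_j L383967) L669047
theorem L669053 : sm gi N45395 = N48253 := rfl
theorem L669055 : sm gc N48253 = N45397 := ded_33_1 (flp_i L383977) L383965 L669053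
theorem L669057 : sm gd N48253 = N45438 := ded_39_1 (flp_i L384276) (flp_d L383969) L669053
theorem L669059 : sm gj N48253 = N45400 := ded_53_1 (flp_i L383997) (flp_j L383967) L669053
theorem L669061 : sm gh N45397 = N48254 := rfl
theorem L669063 : sm gj N48254 = N45403 := ded_52_1 (flp_h L384017) (flp_j L383981) L669061
theorem L669065 : sm ga N45398 = N48255 := rfl
theorem L669067 : sm gd N48255 = N45440 := ded_12_2 (flp_a L384293) (flp_d L383985) L669065
theorem L669069 : sm gg N48255 = N45404 := ded_15_2 (flp_a L384021) (flp_g L383987) L669065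
theorem L669071 : sm ge N45398 = N48256 := rfl
theorem L669073 : sm gb N48256 = N45399 := ded_21_1 (flp_e L383989) L383983 L669071
theorem L669075 : sm gg N48256 = N45405 := ded_41_2 (flp_e L384025) (flp_g L383987) L669071
theorem L669077 : sm gd N48256 = N46387 := ded_34_1 (flp_e L649800) L271367 (flp_e L264080) (flp_d L383985) L669071
theorem L669079 : sm gi N45398 = N48257 := rfl
theorem L669081 : sm gb N48257 = N45400 := ded_26_1 (flp_i L383997) L383983 L669079
theorem L669083 : sm gd N48257 = N45441 := ded_39_1 (flp_i L384302) (flp_d L383985) L669079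
theorem L669085 : sm gg N48257 = N45406 := ded_51_1 (flp_i L384031) (flp_g L383987) L669079
theorem L669087 : sm gf N45399 = N48258 := rfl
theorem L669089 : sm gc N48258 = N45401 := ded_29_1 (flp_f L384005) (flp_c L383991) L669087
theorem L669091 : sm gd N48258 = N46389 := ded_35_1 (flp_f L649816) (flp_d L383995) L669087
theorem L669093 : sm gi N45399 = N48259 := rfl
theorem L669095 : sm gc N48259 = N45402 := ded_33_1 (flp_i L384009) (flp_c L383991) L669093
theorem L669097 : sm gd N48259 = N46390 := ded_39_1 (flp_i L649820) (flp_d L383995) L669093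
theorem L669099 : sm ge N48259 = N45400 := ded_44_1 (flp_i L383997) L383989 L669093
theorem L669101 : sm gg N48259 = N45408 := ded_51_1 (flp_i L384043) (flp_g L383993) L669093
theorem L669103 : sm gh N45400 = N48260 := rfl
theorem L669105 : sm gc N48260 = N45403 := ded_32_1 (flp_h L384017) (flp_c L383999) L669103
theorem L669107 : sm gg N48260 = N45409 := ded_50_1 (flp_h L384051) (flp_g L384003) L669103
theorem L669109 : sm gg N45401 = N48261 := rfl
theorem L669111 : sm gd N48261 = N45416 := ded_36_1 (flp_g L384097) (flp_d L384007) L669109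
theorem L669113 : sm gf N48261 = N45410 := ded_45_1 (flp_g L384055) (flp_f L263902) (flp_g L263876) L384005 L669109
theorem L669115 : sm gi N45401 = N48262 := rfl
theorem L669117 : sm gd N48262 = N45417 := ded_39_1 (flp_i L384107) (flp_d L384007) L669115
theorem L669119 : sm gf N48262 = N45402 := ded_48_1 (flp_i L384009) L384005 L669115
theorem L669121 : sm gh N45402 = N48263 := rfl
theorem L669123 : sm ge N48263 = N45403 := ded_43_1 (flp_h L384017) (flp_e L384013) L669121
theorem L669125 : sm gg N48263 = N45412 := ded_50_1 (flp_h L384065) (flp_g L384015) L669121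
theorem L669127 : sm ge N45404 = N48264 := rfl
theorem L669129 : sm ga N48264 = N45405 := ded_13_1 (flp_e L384025) L384021 L669127
theorem L669131 : sm gd N48264 = N46394 := ded_34_1 (flp_e L649853) L271409 (flp_e L264108) (flp_d L384023) L669127
theorem L669133 : sm gi N45404 = N48265 := rfl
theorem L669135 : sm ga N48265 = N45406 := ded_18_1 (flp_i L384031) L384021 L669133
theorem L669137 : sm gd N48265 = N45443 := ded_39_1 (flp_i L384321) (flp_d L384023) L669133
theorem L669139 : sm gf N45405 = N48266 := rfl
theorem L669141 : sm gb N48266 = N45407 := ded_22_1 (flp_f L384037) (flp_b L384027) L669139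
theorem L669143 : sm gd N48266 = N46396 := ded_35_1 (flp_f L649866) (flp_d L384029) L669139
theorem L669145 : sm gi N45405 = N48267 := rfl
theorem L669147 : sm gb N48267 = N45408 := ded_26_1 (flp_i L384043) (flp_b L384027) L669145
theorem L669149 : sm gd N48267 = N46397 := ded_39_1 (flp_i L649872) (flp_d L384029) L669145
theorem L669151 : sm ge N48267 = N45406 := ded_44_1 (flp_i L384031) L384025 L669145
theorem L669153 : sm gh N45406 = N48268 := rfl
theorem L669155 : sm gb N48268 = N45409 := ded_25_1 (flp_h L384051) (flp_b L384033) L669153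
theorem L669157 : sm gg N45407 = N48269 := rfl
theorem L669159 : sm gc N48269 = N45410 := ded_30_1 (flp_g L384055) (flp_c L384039) L669157
theorem L669161 : sm gd N48269 = N46399 := ded_36_1 (flp_g L649885) (flp_d L384041) L669157
theorem L669163 : sm gi N45407 = N48270 := rfl
theorem L669165 : sm gc N48270 = N45411 := ded_33_1 (flp_i L384059) (flp_c L384039) L669163
theorem L669167 : sm gd N48270 = N46400 := ded_39_1 (flp_i L649890) (flp_d L384041) L669163
theorem L669169 : sm gf N48270 = N45408 := ded_48_1 (flp_i L384043) L384037 L669163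
theorem L669171 : sm gh N45408 = N48271 := rfl
theorem L669173 : sm gc N48271 = N45412 := ded_32_1 (flp_h L384065) (flp_c L384045) L669171
theorem L669175 : sm ge N48271 = N45409 := ded_43_1 (flp_h L384051) (flp_e L384049) L669171
theorem L669177 : sm gd N45409 = N48272 := rfl
theorem L669179 : sm gh N48272 = N45445 := ded_38_2 (flp_d L384338) (flp_h L264119) (flp_d L263900) L384051 L669177
theorem L669181 : sm gj N45410 = N48273 := rfl
theorem L669183 : sm gd N48273 = N45419 := ded_37_1 (flp_j L384125) (flp_d L384057) L669181
theorem L669185 : sm gi N45410 = N48274 := rfl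
theorem L669187 : sm gd N48274 = N45420 := ded_39_1 (flp_i L384133) (flp_d L384057) L669185
theorem L669189 : sm gg N48274 = N45411 := ded_51_1 (flp_i L384059) L384055 L669185
theorem L669191 : sm gh N45411 = N48275 := rfl
theorem L669193 : sm gf N48275 = N45412 := ded_47_1 (flp_h L384065) (flp_f L384063) L669191
theorem L669195 : sm gj N45416 = N48276 := rfl
theorem L669197 : sm gc N48276 = N46407 := ded_31_1 (flp_j L649938) (flp_c L384099) L669195
theorem L669199 : sm ge N48276 = N45849 := ded_42_1 (flp_j L387574) (flp_e L384101) L669195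
theorem L669201 : sm gf N48276 = N45419 := ded_46_1 (flp_j L384125) (flp_f L384105) L669195
theorem L669203 : sm gh N48276 = N46538 := ded_52_2 (flp_j L651048) (flp_h L384103) L669195
theorem L669205 : sm gi N45416 = N48277 := rfl
theorem L669207 : sm gc N48277 = N46408 := ded_33_1 (flp_i L649947) (flp_c L384099) L669205
theorem L669209 : sm ge N48277 = N45850 := ded_44_1 (flp_i L387582) (flp_e L384101) L669205
theorem L669211 : sm gf N48277 = N45420 := ded_48_1 (flp_i L384133) (flp_f L384105) L669205
theorem L669213 : sm gg N48277 = N45417 := ded_51_1 (flp_i L384107) L384097 L669205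
theorem L669215 : sm gi N45419 = N48278 := rfl
theorem L669217 : sm gc N48278 = N46393 := ded_33_1 L649851 (flp_c L384127) L669215
theorem L669219 : sm ge N48278 = N45423 := ded_44_1 (flp_i L384155) (flp_e L384129) L669215
theorem L669221 : sm gg N48278 = N46401 := ded_51_1 L668053 L668051 L669215
theorem L669223 : sm gj N48278 = N45420 := ded_53_1 (flp_i L384133) L384125 L669215
theorem L669225 : sm gh N48278 = N46390 := ded_54_1 (flp_i L649820) (flp_h L649241) L648302 (flp_h L384131) L669215
theorem L669227 : sm gc N45427 = N48279 := rfl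
theorem L669229 : sm gg N48279 = N45429 := ded_30_2 (flp_c L384202) (flp_g L384191) L669227
theorem L669231 : sm gh N48279 = N48279 := ded_32_2 (flp_c L669227) L384193 L669227
theorem L669232 : sm gi N45427 = N48280 := rfl
theorem L669234 : sm gb N48280 = N45448 := ded_26_1 (flp_i L384355) (flp_b L384189) L669232
theorem L669236 : sm gd N48280 = N45428 := ded_39_1 (flp_i L384194) L384187 L669232
theorem L669238 : sm gg N48280 = N45431 := ded_51_1 (flp_i L384220) (flp_g L384191) L669232
theorem L669240 : sm gb N45429 = N48281 := rfl
theorem L669242 : sm gf N48281 = N45437 := ded_22_2 (flp_b L384267) (flp_f L384204) L669240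
theorem L669244 : sm gj N48281 = N45432 := ded_24_2 (flp_b L384230) (flp_j L384206) L669240
theorem L669246 : sm gh N48281 = N48281 := ded_25_2 (flp_b L669240) L384208 L669240
theorem L669247 : sm gc N48281 = N45449 := ded_19_2 (flp_b L384362) (flp_c L264139) (flp_b L264022) L384202 L669240
theorem L669249 : sm gi N45429 = N48282 := rfl
theorem L669251 : sm gc N48282 = N45431 := ded_33_1 (flp_i L384220) L384202 L669249
theorem L669253 : sm gf N48282 = N45438 := ded_48_1 (flp_i L384276) (flp_f L384204) L669249
theorem L669255 : sm gj N48282 = N45434 := ded_53_1 (flp_i L384244) (flp_j L384206) L669249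
theorem L669257 : sm gi N45430 = N48283 := rfl
theorem L669259 : sm gb N48283 = N45452 := ded_26_1 (flp_i L384388) (flp_b L384211) L669257
theorem L669261 : sm gd N48283 = N45868 := ded_39_1 (flp_i L387725) (flp_d L384216) L669257
theorem L669263 : sm ge N48283 = N45431 := ded_44_1 (flp_i L384220) L384209 L669257
theorem L669265 : sm gf N48283 = N45913 := ded_48_1 L388124 L645698 L669257
theorem L669267 : sm gj N48283 = N45435 := ded_53_1 (flp_i L384250) (flp_j L384213) L669257
theorem L669269 : sm gh N45431 = N48284 := rfl
theorem L669271 : sm gb N48284 = N45453 := ded_25_1 (flp_h L384399) (flp_b L384222) L669269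
theorem L669273 : sm gf N48284 = N45439 := ded_47_1 (flp_h L384284) (flp_f L384226) L669269
theorem L669275 : sm gj N48284 = N45436 := ded_52_1 (flp_h L384260) (flp_j L384228) L669269
theorem L669277 : sm gi N48284 = N48284 := ded_54_2 (flp_h L669269) (flp_i L384220) L264028 L384220 L669269
theorem L669278 : sm ga N45432 = N48285 := rfl
theorem L669280 : sm gc N48285 = N45454 := ded_11_2 (flp_a L384407) (flp_c L384235) L669278
theorem L669282 : sm gf N48285 = N45440 := ded_14_2 (flp_a L384293) (flp_f L384232) L669278
theorem L669284 : sm gh N48285 = N48285 := ded_17_2 (flp_a L669278) L384234 L669278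
theorem L669285 : sm ge N45432 = N48286 := rfl
theorem L669287 : sm gb N48286 = N45433 := ded_21_1 (flp_e L384237) L384230 L669285
theorem L669289 : sm gc N48286 = N45455 := ded_28_1 (flp_e L384413) (flp_c L384235) L669285
theorem L669291 : sm gh N48286 = N48286 := ded_43_2 (flp_e L669285) L384234 L669285
theorem L669292 : sm gf N48286 = N46410 := ded_40_2 (flp_e L649966) L271619 (flp_e L264080) (flp_f L384232) L669285
theorem L669294 : sm gi N45432 = N48287 := rfl
theorem L669296 : sm gb N48287 = N45434 := ded_26_1 (flp_i L384244) L384230 L669294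
theorem L669298 : sm gc N48287 = N45456 := ded_33_1 (flp_i L384420) (flp_c L384235) L669294
theorem L669300 : sm gf N48287 = N45441 := ded_48_1 (flp_i L384302) (flp_f L384232) L669294
theorem L669302 : sm gd N45433 = N48288 := rfl
theorem L669304 : sm gf N48288 = N46412 := ded_35_2 (flp_d L649983) (flp_f L384242) L669302
theorem L669306 : sm gc N48288 = N45873 := ded_27_1 (flp_d L387771) L266405 (flp_d L264049) (flp_c L384239) L669302
theorem L669308 : sm gi N45433 = N48289 := rfl
theorem L669310 : sm gc N48289 = N45435 := ded_33_1 (flp_i L384250) (flp_c L384239) L669308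
theorem L669312 : sm ge N48289 = N45434 := ded_44_1 (flp_i L384244) L384237 L669308
theorem L669314 : sm gf N48289 = N46413 := ded_48_1 (flp_i L649988) (flp_f L384242) L669308
theorem L669316 : sm gh N45434 = N48290 := rfl
theorem L669318 : sm gc N48290 = N45436 := ded_32_1 (flp_h L384260) (flp_c L384246) L669316
theorem L669320 : sm gf N48290 = N45442 := ded_47_1 (flp_h L384312) (flp_f L384248) L669316
theorem L669322 : sm gi N48290 = N48290 := ded_54_2 (flp_h L669316) (flp_i L384244) L264043 L384244 L669316
theorem L669323 : sm gh N45435 = N48291 := rfl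
theorem L669325 : sm gb N48291 = N45460 := ded_25_1 (flp_h L384450) (flp_b L384252) L669323
theorem L669327 : sm ge N48291 = N45436 := ded_43_1 (flp_h L384260) (flp_e L384256) L669323
theorem L669329 : sm gf N48291 = N46415 := ded_47_1 (flp_h L650003) (flp_f L384258) L669323
theorem L669331 : sm gi N48291 = N48291 := ded_54_2 (flp_h L669323) (flp_i L384250) L264048 L384250 L669323
theorem L669332 : sm gi N45437 = N48292 := rfl
theorem L669334 : sm gb N48292 = N45438 := ded_26_1 (flp_i L384276) L384267 L669332
theorem L669336 : sm gc N48292 = N45462 := ded_33_1 (flp_i L384466) (flp_c L384274) L669332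
theorem L669338 : sm ge N48292 = N46416 := ded_44_1 (flp_i L650011) (flp_e L384269) L669332
theorem L669340 : sm gj N48292 = N45441 := ded_53_1 (flp_i L384302) (flp_j L384271) L669332
theorem L669342 : sm gh N45438 = N48293 := rfl
theorem L669344 : sm gc N48293 = N45439 := ded_32_1 (flp_h L384284) (flp_c L384278) L669342
theorem L669346 : sm ge N48293 = N46417 := ded_43_1 (flp_h L650019) (flp_e L384280) L669342
theorem L669348 : sm gj N48293 = N45442 := ded_52_1 (flp_h L384312) (flp_j L384282) L669342
theorem L669350 : sm gi N48293 = N48293 := ded_54_2 (flp_h L669342) (flp_i L384276) L264067 L384276 L669342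
theorem L669351 : sm gi N45440 = N48294 := rfl
theorem L669353 : sm ga N48294 = N45441 := ded_18_1 (flp_i L384302) L384293 L669351
theorem L669355 : sm gc N48294 = N45464 := ded_33_1 (flp_i L384484) (flp_c L384295) L669351
theorem L669357 : sm ge N48294 = N46418 := ded_44_1 (flp_i L650026) (flp_e L384297) L669351
theorem L669359 : sm gg N48294 = N45443 := ded_51_1 (flp_i L384321) (flp_g L384299) L669351
theorem L669361 : sm gh N45441 = N48295 := rfl
theorem L669363 : sm gb N48295 = N45442 := ded_25_1 (flp_h L384312) (flp_b L384304) L669361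
theorem L669365 : sm gc N48295 = N45465 := ded_32_1 (flp_h L384493) (flp_c L384306) L669361
theorem L669367 : sm ge N48295 = N46419 := ded_43_1 (flp_h L650034) (flp_e L384308) L669361
theorem L669369 : sm gg N48295 = N45444 := ded_50_1 (flp_h L384329) (flp_g L384310) L669361
theorem L669371 : sm gi N48295 = N48295 := ded_54_2 (flp_h L669361) (flp_i L384302) L264084 L384302 L669361
theorem L669372 : sm gd N45442 = N48296 := rfl
theorem L669374 : sm gg N48296 = N45445 := ded_36_2 (flp_d L384338) (flp_g L384318) L669372
theorem L669376 : sm gi N48296 = N48296 := ded_39_2 (flp_d L669372) L384320 L669372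
theorem L669377 : sm gh N45443 = N48297 := rfl
theorem L669379 : sm ga N48297 = N45444 := ded_17_1 (flp_h L384329) (flp_a L384323) L669377
theorem L669381 : sm gc N48297 = N45467 := ded_32_1 (flp_h L384508) (flp_c L384325) L669377
theorem L669383 : sm ge N48297 = N46421 := ded_43_1 (flp_h L650049) (flp_e L384327) L669377
theorem L669385 : sm gi N48297 = N48297 := ded_54_2 (flp_h L669377) (flp_i L384321) L264110 L384321 L669377
theorem L669386 : sm gd N45444 = N48298 := rfl
theorem L669388 : sm gb N48298 = N45445 := ded_20_1 (flp_d L384338) (flp_b L384331) L669386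
theorem L669390 : sm gi N48298 = N48298 := ded_39_2 (flp_d L669386) L384337 L669386
theorem L669391 : sm ge N45445 = N48299 := rfl
theorem L669393 : sm gi N48299 = N48299 := ded_44_2 (flp_e L669391) L384340 L669391
theorem L669394 : sm gd N48299 = N46423 := ded_34_1 (flp_e L650063) (flp_d L271714) (flp_e L264123) L384338 L669391
theorem L669396 : sm gh N45448 = N48300 := rfl
theorem L669398 : sm ga N48300 = N48300 := ded_17_1 (flp_h L669396) L384357 L669396
theorem L669399 : sm gf N48300 = N45466 := ded_47_1 L659283 L659277 L669396
theorem L669401 : sm gg N48300 = N45453 := ded_50_1 (flp_h L384399) (flp_g L384360) L669396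
theorem L669403 : sm gd N48300 = N45459 := ded_38_1 (flp_h L384442) (flp_d L377057) L634922 (flp_d L384358) L669396
theorem L669405 : sm gi N48300 = N48300 := ded_54_2 (flp_h L669396) (flp_i L384355) L264131 L384355 L669396
theorem L669406 : sm ga N45449 = N48301 := rfl
theorem L669408 : sm gf N48301 = N45461 := ded_14_2 (flp_a L384458) (flp_f L384364) L669406
theorem L669410 : sm gj N48301 = N45454 := ded_16_2 (flp_a L384407) (flp_j L384366) L669406
theorem L669412 : sm gh N48301 = N48301 := ded_17_2 (flp_a L669406) L384368 L669406
theorem L669413 : sm gb N48301 = N48301 := ded_10_2 (flp_a L669406) (flp_b L384362) L264141 L384362 L669406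
theorem L669414 : sm ge N45449 = N48302 := rfl
theorem L669416 : sm gb N48302 = N45450 := ded_21_1 (flp_e L384369) L384362 L669414
theorem L669418 : sm gj N48302 = N45455 := ded_42_2 (flp_e L384413) (flp_j L384366) L669414
theorem L669420 : sm gh N48302 = N48302 := ded_43_2 (flp_e L669414) L384368 L669414
theorem L669421 : sm gd N48302 = N46147 := ded_34_1 L661585 (flp_d L661572) (flp_e L659043) (flp_d L659051) L669414
theorem L669423 : sm gf N48302 = N46157 := ded_40_2 L648650 L271747 (flp_e L264203) (flp_f L384364) L669414
theorem L669425 : sm gi N45449 = N48303 := rfl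
theorem L669427 : sm gb N48303 = N45451 := ded_26_1 (flp_i L384379) L384362 L669425
theorem L669429 : sm gf N48303 = N45462 := ded_48_1 (flp_i L384466) (flp_f L384364) L669425
theorem L669431 : sm gj N48303 = N45456 := ded_53_1 (flp_i L384420) (flp_j L384366) L669425
theorem L669433 : sm gi N45450 = N48304 := rfl
theorem L669435 : sm ga N48304 = N48304 := ded_18_1 (flp_i L669433) L384371 L669433
theorem L669436 : sm gc N48304 = N45452 := ded_33_1 (flp_i L384388) (flp_c L384372) L669433
theorem L669438 : sm gd N48304 = N45639 := ded_39_1 L385900 (flp_d L645676) L669433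
theorem L669440 : sm ge N48304 = N45451 := ded_44_1 (flp_i L384379) L384369 L669433
theorem L669442 : sm gf N48304 = N45646 := ded_48_1 L385960 (flp_f L645678) L669433
theorem L669444 : sm gj N48304 = N45458 := ded_53_1 (flp_i L384433) (flp_j L384374) L669433
theorem L669446 : sm gh N45451 = N48305 := rfl
theorem L669448 : sm ga N48305 = N48305 := ded_17_1 (flp_h L669446) L384381 L669446
theorem L669449 : sm gc N48305 = N45453 := ded_32_1 (flp_h L384399) (flp_c L384382) L669446
theorem L669451 : sm gf N48305 = N45463 := ded_47_1 (flp_h L384474) (flp_f L384384) L669446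
theorem L669453 : sm gj N48305 = N45459 := ded_52_1 (flp_h L384442) (flp_j L384386) L669446
theorem L669455 : sm gi N48305 = N48305 := ded_54_2 (flp_h L669446) (flp_i L384379) L264146 L384379 L669446
theorem L669456 : sm ge N45454 = N48306 := rfl
theorem L669458 : sm ga N48306 = N45455 := ded_13_1 (flp_e L384413) L384407 L669456
theorem L669460 : sm gb N48306 = N48306 := ded_21_1 (flp_e L669456) L384412 L669456
theorem L669461 : sm gh N48306 = N48306 := ded_43_2 (flp_e L669456) L384411 L669456
theorem L669462 : sm gf N48306 = N46426 := ded_40_2 (flp_e L650086) L271791 (flp_e L264227) (flp_f L384409) L669456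
theorem L669464 : sm gi N45454 = N48307 := rfl
theorem L669466 : sm ga N48307 = N45456 := ded_18_1 (flp_i L384420) L384407 L669464
theorem L669468 : sm gb N48307 = N48307 := ded_26_1 (flp_i L669464) L384412 L669464
theorem L669469 : sm gf N48307 = N45464 := ded_48_1 (flp_i L384484) (flp_f L384409) L669464
theorem L669471 : sm gd N45455 = N48308 := rfl
theorem L669473 : sm gb N48308 = N45457 := ded_20_1 (flp_d L384426) (flp_b L384415) L669471
theorem L669475 : sm gf N48308 = N46154 := ded_35_2 (flp_d L649287) (flp_f L384418) L669471
theorem L669477 : sm gg N48308 = N45610 := ded_36_2 (flp_d L660530) L660525 L669471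
theorem L669479 : sm gj N48308 = N46147 := ded_37_2 (flp_d L669421) L669418 L669471
theorem L669481 : sm ge N48308 = N45607 := ded_34_2 (flp_d L385627) (flp_e L641033) L377042 L384413 L669471
theorem L669483 : sm gh N46107 = N48308 := ded_25_0 L669473 L645487 (flp_b L389721)
theorem L669485 : sm gi N45455 = N48309 := rfl
theorem L669487 : sm gb N48309 = N45458 := ded_26_1 (flp_i L384433) (flp_b L384415) L669485
theorem L669489 : sm ge N48309 = N45456 := ded_44_1 (flp_i L384420) L384413 L669485
theorem L669491 : sm gf N48309 = N46428 := ded_48_1 (flp_i L650102) (flp_f L384418) L669485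
theorem L669493 : sm gh N45456 = N48310 := rfl
theorem L669495 : sm gb N48310 = N45459 := ded_25_1 (flp_h L384442) (flp_b L384422) L669493
theorem L669497 : sm gf N48310 = N45465 := ded_47_1 (flp_h L384493) (flp_f L384424) L669493
theorem L669499 : sm gi N48310 = N48310 := ded_54_2 (flp_h L669493) (flp_i L384420) L264170 L384420 L669493
theorem L669500 : sm gi N45457 = N48311 := rfl
theorem L669502 : sm ga N48311 = N48311 := ded_18_1 (flp_i L669500) L384428 L669500
theorem L669503 : sm gc N48311 = N45633 := ded_33_1 L645514 (flp_c L384431) L669500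
theorem L669505 : sm gd N48311 = N45458 := ded_39_1 (flp_i L384433) L384426 L669500
theorem L669507 : sm ge N48311 = N45628 := ded_44_1 (flp_i L385807) (flp_e L645479) L669500
theorem L669509 : sm gf N48311 = N45643 := ded_48_1 L385936 (flp_f L645481) L669500
theorem L669511 : sm gg N48311 = N45632 := ded_51_1 (flp_i L385842) (flp_g L645483) L669500
theorem L669513 : sm gj N48311 = N45639 := ded_53_1 L385900 (flp_j L645485) L669500
theorem L669515 : sm gh N48311 = N45631 := ded_54_1 (flp_i L385833) L265133 L615605 (flp_h L645487) L669500
theorem L669517 : sm gh N45458 = N48312 := rfl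
theorem L669519 : sm ga N48312 = N48312 := ded_17_1 (flp_h L669517) L384435 L669517
theorem L669520 : sm gc N48312 = N45460 := ded_32_1 (flp_h L384450) (flp_c L384436) L669517
theorem L669522 : sm ge N48312 = N45459 := ded_43_1 (flp_h L384442) (flp_e L384438) L669517
theorem L669524 : sm gf N48312 = N46430 := ded_47_1 (flp_h L650117) (flp_f L384440) L669517
theorem L669526 : sm gi N48312 = N48312 := ded_54_2 (flp_h L669517) (flp_i L384433) L264176 L384433 L669517
theorem L669527 : sm gi N45461 = N48313 := rfl
theorem L669529 : sm ga N48313 = N45462 := ded_18_1 (flp_i L384466) L384458 L669527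
theorem L669531 : sm gb N48313 = N48313 := ded_26_1 (flp_i L669527) L384465 L669527
theorem L669532 : sm ge N48313 = N46432 := ded_44_1 (flp_i L650135) (flp_e L384460) L669527
theorem L669534 : sm gj N48313 = N45464 := ded_53_1 (flp_i L384484) (flp_j L384462) L669527
theorem L669536 : sm gh N45462 = N48314 := rfl
theorem L669538 : sm gb N48314 = N45463 := ded_25_1 (flp_h L384474) (flp_b L384468) L669536
theorem L669540 : sm ge N48314 = N46433 := ded_43_1 (flp_h L650143) (flp_e L384470) L669536
theorem L669542 : sm gj N48314 = N45465 := ded_52_1 (flp_h L384493) (flp_j L384472) L669536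
theorem L669544 : sm gi N48314 = N48314 := ded_54_2 (flp_h L669536) (flp_i L384466) L264207 L384466 L669536
theorem L669545 : sm gh N45464 = N48315 := rfl
theorem L669547 : sm ga N48315 = N45465 := ded_17_1 (flp_h L384493) (flp_a L384486) L669545
theorem L669549 : sm gb N48315 = N48315 := ded_25_1 (flp_h L669545) L384488 L669545
theorem L669550 : sm ge N48315 = N46435 := ded_43_1 (flp_h L650158) (flp_e L384489) L669545
theorem L669552 : sm gg N48315 = N45467 := ded_50_1 (flp_h L384508) (flp_g L384491) L669545
theorem L669554 : sm gi N48315 = N48315 := ded_54_2 (flp_h L669545) (flp_i L384484) L264231 L384484 L669545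
theorem L669555 : sm gd N45465 = N48316 := rfl
theorem L669557 : sm gb N48316 = N45466 := ded_20_1 (flp_d L384502) (flp_b L384495) L669555
theorem L669559 : sm gg N48316 = N45468 := ded_36_2 (flp_d L384516) (flp_g L384499) L669555
theorem L669561 : sm gi N48316 = N48316 := ded_39_2 (flp_d L669555) L384501 L669555
theorem L669562 : sm ge N45466 = N48317 := rfl
theorem L669564 : sm ga N48317 = N48317 := ded_13_1 (flp_e L669562) L384504 L669562
theorem L669565 : sm gg N48317 = N45469 := ded_41_2 (flp_e L384521) (flp_g L384505) L669562
theorem L669567 : sm gi N48317 = N48317 := ded_44_2 (flp_e L669562) L384507 L669562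
theorem L669568 : sm gd N48317 = N46437 := ded_34_1 (flp_e L650174) (flp_d L271878) (flp_e L264246) L384502 L669562
theorem L669570 : sm gd N45467 = N48318 := rfl
theorem L669572 : sm ga N48318 = N45468 := ded_12_1 (flp_d L384516) (flp_a L384510) L669570
theorem L669574 : sm gb N48318 = N48318 := ded_20_1 (flp_d L669570) L384512 L669570
theorem L669575 : sm gi N48318 = N48318 := ded_39_2 (flp_d L669570) L384515 L669570
theorem L669576 : sm gc N45468 = N48319 := rfl
theorem L669578 : sm gi N48319 = N48319 := ded_33_2 (flp_c L669576) L384520 L669576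
theorem L669579 : sm ge N45468 = N48320 := rfl
theorem L669581 : sm gb N48320 = N45469 := ded_21_1 (flp_e L384521) (flp_b L384518) L669579
theorem L669583 : sm gi N48320 = N48320 := ded_44_2 (flp_e L669579) L384520 L669579
theorem L669584 : sm gd N48320 = N46440 := ded_34_1 (flp_e L650196) (flp_d L271893) (flp_e L264262) L384516 L669579
theorem L669586 : sm gf N45469 = N48321 := rfl
theorem L669588 : sm ga N48321 = N48321 := ded_14_1 (flp_f L669586) L384523 L669586
theorem L669589 : sm gd N48321 = N46441 := ded_35_1 (flp_f L650202) (flp_d L384525) L669586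
theorem L669591 : sm gj N48321 = N46364 := ded_46_2 (flp_f L668143) L668145 L669586
theorem L669593 : sm gh N48321 = N46359 := ded_47_2 (flp_f L665617) L665612 L669586
theorem L669595 : sm gi N48321 = N48321 := ded_48_2 (flp_f L669586) L384524 L669586
theorem L669596 : sm ge N48321 = N46360 := ded_40_1 L649579 (flp_e L649065) L361405 L384521 L669586
theorem L669598 : sm gh N45511 = N48322 := rfl
theorem L669600 : sm ga N48322 = N45569 := ded_17_1 (flp_h L385371) (flp_a L384877) L669598
theorem L669602 : sm gc N48322 = N45538 := ded_32_1 (flp_h L385109) (flp_c L384879) L669598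
theorem L669604 : sm gf N48322 = N48322 := ded_47_1 (flp_h L669598) L384883 L669598
theorem L669605 : sm gg N48322 = N45512 := ded_50_1 (flp_h L384884) L384875 L669598
theorem L669607 : sm gd N45512 = N48323 := rfl
theorem L669609 : sm ga N48323 = N45570 := ded_12_1 (flp_d L385378) (flp_a L384886) L669607
theorem L669611 : sm gf N48323 = N45515 := ded_35_2 (flp_d L384910) (flp_f L384890) L669607
theorem L669613 : sm gj N48323 = N45513 := ded_37_2 (flp_d L384894) (flp_j L384892) L669607
theorem L669615 : sm gi N45512 = N48324 := rfl
theorem L669617 : sm ga N48324 = N45571 := ded_18_1 (flp_i L385384) (flp_a L384886) L669615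
theorem L669619 : sm gc N48324 = N45540 := ded_33_1 (flp_i L385128) (flp_c L384888) L669615
theorem L669621 : sm gf N48324 = N45516 := ded_48_1 (flp_i L384917) (flp_f L384890) L669615
theorem L669623 : sm gj N48324 = N45514 := ded_53_1 (flp_i L384900) (flp_j L384892) L669615
theorem L669625 : sm gh N48324 = N45724 := ded_54_1 (flp_i L386592) (flp_h L265604) (flp_i L264484) L384884 L669615
theorem L669627 : sm ge N45513 = N48325 := rfl
theorem L669629 : sm ga N48325 = N45573 := ded_13_1 (flp_e L385400) (flp_a L384896) L669627
theorem L669631 : sm gi N45513 = N48326 := rfl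
theorem L669633 : sm ga N48326 = N45574 := ded_18_1 (flp_i L385402) (flp_a L384896) L669631
theorem L669635 : sm gd N48326 = N45514 := ded_39_1 (flp_i L384900) L384894 L669631
theorem L669637 : sm gf N48326 = N45519 := ded_48_1 (flp_i L384946) (flp_f L384898) L669631
theorem L669639 : sm gi N45515 = N48327 := rfl
theorem L669641 : sm ga N48327 = N45577 := ded_18_1 (flp_i L385422) (flp_a L384912) L669639
theorem L669643 : sm gd N48327 = N45516 := ded_39_1 (flp_i L384917) L384910 L669639
theorem L669645 : sm gg N48327 = N48327 := ded_51_1 (flp_i L669639) L384914 L669639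
theorem L669646 : sm gj N48327 = N45519 := ded_53_1 (flp_i L384946) (flp_j L384915) L669639
theorem L669648 : sm gh N45519 = N48328 := rfl
theorem L669650 : sm ga N48328 = N45583 := ded_17_1 (flp_h L385462) (flp_a L384948) L669648
theorem L669652 : sm gg N48328 = N45525 := ded_50_1 (flp_h L384992) (flp_g L384952) L669648
theorem L669654 : sm gd N48328 = N45736 := ded_38_1 (flp_h L386691) L265666 (flp_h L264521) (flp_d L384950) L669648
theorem L669656 : sm gi N45538 = N48329 := rfl
theorem L669658 : sm ga N48329 = N45608 := ded_18_1 (flp_i L385636) (flp_a L385111) L669656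
theorem L669660 : sm gb N48329 = N48329 := ded_26_1 (flp_i L669656) L385113 L669656
theorem L669661 : sm gf N48329 = N48329 := ded_48_1 (flp_i L669656) L385114 L669656
theorem L669662 : sm gg N48329 = N45540 := ded_51_1 (flp_i L385128) (flp_g L385115) L669656
theorem L669664 : sm gh N48329 = N45761 := ded_54_1 (flp_i L386917) (flp_h L265831) (flp_i L264645) L385109 L669656
theorem L669666 : sm gd N45553 = N48330 := rfl
theorem L669668 : sm gf N48330 = N46541 := ded_35_2 (flp_d L651090) (flp_f L385256) L669666
theorem L669670 : sm gi N45553 = N48331 := rfl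
theorem L669672 : sm gc N48331 = N46037 := ded_33_1 (flp_i L389196) (flp_c L385252) L669670
theorem L669674 : sm ge N48331 = N45557 := ded_44_1 (flp_i L385281) (flp_e L385254) L669670
theorem L669676 : sm gf N48331 = N46542 := ded_48_1 (flp_i L651093) (flp_f L385256) L669670
theorem L669678 : sm gh N48331 = N45782 := ded_54_1 (flp_i L387112) (flp_h L265975) (flp_i L264747) L385250 L669670
theorem L669680 : sm gh N45554 = N48332 := rfl
theorem L669682 : sm gc N48332 = N46038 := ded_32_1 (flp_h L389205) (flp_c L385260) L669680
theorem L669684 : sm gf N48332 = N48332 := ded_47_1 (flp_h L669680) L385266 L669680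
theorem L669685 : sm gg N48332 = N45555 := ded_50_1 (flp_h L385267) L385258 L669680
theorem L669687 : sm gd N45555 = N48333 := rfl
theorem L669689 : sm gf N48333 = N45558 := ded_35_2 (flp_d L385289) (flp_f L385271) L669687
theorem L669691 : sm gj N48333 = N45556 := ded_37_2 (flp_d L385275) (flp_j L385273) L669687
theorem L669693 : sm gh N48333 = N45570 := ded_38_2 (flp_d L385378) (flp_h L264818) (flp_d L264755) L385267 L669687
theorem L669695 : sm gi N45555 = N48334 := rfl
theorem L669697 : sm gc N48334 = N46040 := ded_33_1 (flp_i L389220) (flp_c L385269) L669695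
theorem L669699 : sm gf N48334 = N45559 := ded_48_1 (flp_i L385296) (flp_f L385271) L669695
theorem L669701 : sm gj N48334 = N45557 := ded_53_1 (flp_i L385281) (flp_j L385273) L669695
theorem L669703 : sm gh N48334 = N45785 := ded_54_1 (flp_i L387135) (flp_h L265990) (flp_i L264759) L385267 L669695
theorem L669705 : sm ge N45556 = N48335 := rfl
theorem L669707 : sm gh N48335 = N45573 := ded_43_2 (flp_e L385400) (flp_h L385279) L669705
theorem L669709 : sm gi N45556 = N48336 := rfl
theorem L669711 : sm gd N48336 = N45557 := ded_39_1 (flp_i L385281) L385275 L669709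
theorem L669713 : sm gf N48336 = N45562 := ded_48_1 (flp_i L385323) (flp_f L385277) L669709
theorem L669715 : sm ge N45558 = N48337 := rfl
theorem L669717 : sm ga N48337 = N46541 := ded_13_1 L661333 L661322 L669715
theorem L669719 : sm gb N48337 = N45711 := ded_21_1 (flp_e L665738) L665733 L669715
theorem L669721 : sm gg N48337 = N48337 := ded_41_2 (flp_e L669715) L385291 L669715
theorem L669722 : sm gj N48337 = N45561 := ded_42_2 (flp_e L385315) (flp_j L385292) L669715
theorem L669724 : sm gh N48337 = N45576 := ded_43_2 (flp_e L385415) (flp_h L385294) L669715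
theorem L669726 : sm gd N48337 = N45658 := ded_34_1 (flp_e L615357) L615355 (flp_e L264771) L385289 L669715
theorem L669728 : sm gi N45558 = N48338 := rfl
theorem L669730 : sm gd N48338 = N45559 := ded_39_1 (flp_i L385296) L385289 L669728
theorem L669732 : sm gg N48338 = N48338 := ded_51_1 (flp_i L669728) L385291 L669728
theorem L669733 : sm gj N48338 = N45562 := ded_53_1 (flp_i L385323) (flp_j L385292) L669728
theorem L669735 : sm gf N45561 = N48339 := rfl
theorem L669737 : sm gb N48339 = N45709 := ded_22_1 L386464 (flp_b L547297) L669735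
theorem L669739 : sm gd N48339 = N45657 := ded_35_1 L386049 (flp_d L547299) L669735
theorem L669741 : sm gh N48339 = N45581 := ded_47_2 (flp_f L385450) (flp_h L385319) L669735
theorem L669743 : sm gi N45561 = N48340 := rfl
theorem L669745 : sm gb N48340 = N45715 := ded_26_1 (flp_i L386516) (flp_b L547297) L669743
theorem L669747 : sm gd N48340 = N45660 := ded_39_1 (flp_i L386068) (flp_d L547299) L669743
theorem L669749 : sm ge N48340 = N45562 := ded_44_1 (flp_i L385323) L385315 L669743
theorem L669751 : sm gg N48340 = N45567 := ded_51_1 (flp_i L385357) (flp_g L385317) L669743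
theorem L669753 : sm gh N45562 = N48341 := rfl
theorem L669755 : sm gg N48341 = N45568 := ded_50_1 (flp_h L385364) (flp_g L385327) L669753
theorem L669757 : sm gd N48341 = N45797 := ded_38_1 (flp_h L387225) L266044 (flp_h L264790) (flp_d L385325) L669753
theorem L669759 : sm gi N48341 = N45583 := ded_54_2 (flp_h L385462) (flp_i L264866) (flp_h L264780) L385323 L669753
theorem L669761 : sm gh N45567 = N48342 := rfl
theorem L669763 : sm gb N48342 = N45721 := ded_25_1 (flp_h L386568) (flp_b L507951) L669761
theorem L669765 : sm ge N48342 = N45568 := ded_43_1 (flp_h L385364) (flp_e L385361) L669761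
theorem L669767 : sm gj N48342 = N48342 := ded_52_1 (flp_h L669761) L385363 L669761
theorem L669768 : sm gi N48342 = N45592 := ded_54_2 (flp_h L385516) (flp_i L264895) (flp_h L264802) L385357 L669761
theorem L669770 : sm gd N45569 = N48343 := rfl
theorem L669772 : sm gf N48343 = N48343 := ded_35_2 (flp_d L669770) L385375 L669770
theorem L669773 : sm gg N48343 = N45570 := ded_36_2 (flp_d L385378) (flp_g L385376) L669770
theorem L669775 : sm gi N45569 = N48344 := rfl
theorem L669777 : sm gc N48344 = N45608 := ded_33_1 (flp_i L385636) (flp_c L385373) L669775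
theorem L669779 : sm gf N48344 = N48344 := ded_48_1 (flp_i L669775) L385375 L669775
theorem L669780 : sm gg N48344 = N45571 := ded_51_1 (flp_i L385384) (flp_g L385376) L669775
theorem L669782 : sm gh N48344 = N45808 := ded_54_1 (flp_i L387301) (flp_h L266089) (flp_i L264815) L385371 L669775
theorem L669784 : sm gc N45570 = N48345 := rfl
theorem L669786 : sm gf N48345 = N45575 := ded_29_2 (flp_c L385408) (flp_f L385380) L669784
theorem L669788 : sm gj N48345 = N45572 := ded_31_2 (flp_c L385394) (flp_j L385382) L669784
theorem L669790 : sm gd N48345 = N45609 := ded_27_2 (flp_c L385645) (flp_d L265000) (flp_c L264820) L385378 L669784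
theorem L669792 : sm ge N45570 = N48346 := rfl
theorem L669794 : sm gj N48346 = N45573 := ded_42_2 (flp_e L385400) (flp_j L385382) L669792
theorem L669796 : sm gi N45570 = N48347 := rfl
theorem L669798 : sm gd N48347 = N45571 := ded_39_1 (flp_i L385384) L385378 L669796
theorem L669800 : sm gf N48347 = N45577 := ded_48_1 (flp_i L385422) (flp_f L385380) L669796
theorem L669802 : sm gj N48347 = N45574 := ded_53_1 (flp_i L385402) (flp_j L385382) L669796
theorem L669804 : sm gb N45572 = N48348 := rfl
theorem L669806 : sm gd N48348 = N45612 := ded_20_2 (flp_b L385672) (flp_d L385398) L669804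
theorem L669808 : sm gf N48348 = N45578 := ded_22_2 (flp_b L385429) (flp_f L385396) L669804
theorem L669810 : sm ge N45572 = N48349 := rfl
theorem L669812 : sm gc N48349 = N45573 := ded_28_1 (flp_e L385400) L385394 L669810
theorem L669814 : sm gi N45572 = N48350 := rfl
theorem L669816 : sm gc N48350 = N45574 := ded_33_1 (flp_i L385402) L385394 L669814
theorem L669818 : sm gd N48350 = N45614 := ded_39_1 (flp_i L385687) (flp_d L385398) L669814
theorem L669820 : sm gf N48350 = N45580 := ded_48_1 (flp_i L385442) (flp_f L385396) L669814
theorem L669822 : sm gf N45573 = N48351 := rfl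
theorem L669824 : sm gb N48351 = N45726 := ded_22_1 (flp_f L665819) L665817 L669822
theorem L669826 : sm ge N48351 = N45581 := ded_40_1 (flp_f L385450) (flp_e L264860) (flp_f L264828) L385400 L669822
theorem L669828 : sm gi N45573 = N48352 := rfl
theorem L669830 : sm ge N48352 = N45574 := ded_44_1 (flp_i L385402) L385400 L669828
theorem L669832 : sm gh N45574 = N48353 := rfl
theorem L669834 : sm gf N48353 = N45583 := ded_47_1 (flp_h L385462) (flp_f L385406) L669832
theorem L669836 : sm gd N48353 = N45817 := ded_38_1 (flp_h L387354) L266120 (flp_h L264836) (flp_d L385404) L669832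
theorem L669838 : sm gb N45575 = N48354 := rfl
theorem L669840 : sm gd N48354 = N45617 := ded_20_2 (flp_b L385710) (flp_d L385413) L669838
theorem L669842 : sm gg N48354 = N48354 := ded_23_2 (flp_b L669838) L385410 L669838
theorem L669843 : sm gj N48354 = N45578 := ded_24_2 (flp_b L385429) (flp_j L385411) L669838
theorem L669845 : sm ge N45575 = N48355 := rfl
theorem L669847 : sm gc N48355 = N45576 := ded_28_1 (flp_e L385415) L385408 L669845
theorem L669849 : sm gg N48355 = N48355 := ded_41_2 (flp_e L669845) L385410 L669845
theorem L669850 : sm gj N48355 = N45579 := ded_42_2 (flp_e L385435) (flp_j L385411) L669845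
theorem L669852 : sm gd N48355 = N48355 := ded_34_1 (flp_e L669845) L385413 L265043 (flp_d L385413) L669845
theorem L669853 : sm gi N45575 = N48356 := rfl
theorem L669855 : sm gc N48356 = N45577 := ded_33_1 (flp_i L385422) L385408 L669853
theorem L669857 : sm gd N48356 = N45618 := ded_39_1 (flp_i L385720) (flp_d L385413) L669853
theorem L669859 : sm gg N48356 = N48356 := ded_51_1 (flp_i L669853) L385410 L669853
theorem L669860 : sm gj N48356 = N45580 := ded_53_1 (flp_i L385442) (flp_j L385411) L669853
theorem L669862 : sm gf N45576 = N48357 := rfl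
theorem L669864 : sm gb N48357 = N45723 := ded_22_1 L386588 (flp_b L534563) L669862
theorem L669866 : sm gd N48357 = N45593 := ded_35_1 (flp_f L385521) (flp_d L385420) L669862
theorem L669868 : sm gj N48357 = N45581 := ded_46_2 (flp_f L385450) (flp_j L385418) L669862
theorem L669870 : sm gi N45576 = N48358 := rfl
theorem L669872 : sm gb N48358 = N45730 := ded_26_1 (flp_i L386640) (flp_b L534563) L669870
theorem L669874 : sm gd N48358 = N45594 := ded_39_1 (flp_i L385528) (flp_d L385420) L669870
theorem L669876 : sm ge N48358 = N45577 := ded_44_1 (flp_i L385422) L385415 L669870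
theorem L669878 : sm gg N48358 = N48358 := ded_51_1 (flp_i L669870) L385417 L669870
theorem L669879 : sm gj N48358 = N45582 := ded_53_1 (flp_i L385454) (flp_j L385418) L669870
theorem L669881 : sm gh N45577 = N48359 := rfl
theorem L669883 : sm gg N48359 = N48359 := ded_50_1 (flp_h L669881) L385426 L669881
theorem L669884 : sm gj N48359 = N45583 := ded_52_1 (flp_h L385462) (flp_j L385427) L669881
theorem L669886 : sm gd N48359 = N45823 := ded_38_1 (flp_h L387398) L266140 (flp_h L264852) (flp_d L385424) L669881
theorem L669888 : sm ge N45578 = N48360 := rfl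
theorem L669890 : sm gb N48360 = N45579 := ded_21_1 (flp_e L385435) L385429 L669888
theorem L669892 : sm gc N48360 = N45731 := ded_28_1 (flp_e L665859) L665863 L669888
theorem L669894 : sm gg N48360 = N45585 := ded_41_2 (flp_e L385473) (flp_g L385433) L669888
theorem L669896 : sm gd N48360 = N48360 := ded_34_1 (flp_e L669888) L385431 L265061 (flp_d L385431) L669888
theorem L669897 : sm gi N45578 = N48361 := rfl
theorem L669899 : sm gb N48361 = N45580 := ded_26_1 (flp_i L385442) L385429 L669897
theorem L669901 : sm gd N48361 = N45621 := ded_39_1 (flp_i L385749) (flp_d L385431) L669897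
theorem L669903 : sm gg N48361 = N45586 := ded_51_1 (flp_i L385479) (flp_g L385433) L669897
theorem L669905 : sm gf N45579 = N48362 := rfl
theorem L669907 : sm gc N48362 = N45581 := ded_29_1 (flp_f L385450) (flp_c L385437) L669905
theorem L669909 : sm gd N48362 = N48362 := ded_35_1 (flp_f L669905) L385441 L669905
theorem L669910 : sm gi N45579 = N48363 := rfl
theorem L669912 : sm gc N48363 = N45582 := ded_33_1 (flp_i L385454) (flp_c L385437) L669910
theorem L669914 : sm gd N48363 = N48363 := ded_39_1 (flp_i L669910) L385441 L669910
theorem L669915 : sm ge N48363 = N45580 := ded_44_1 (flp_i L385442) L385435 L669910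
theorem L669917 : sm gg N48363 = N45588 := ded_51_1 (flp_i L385492) (flp_g L385439) L669910
theorem L669919 : sm gh N45580 = N48364 := rfl
theorem L669921 : sm gc N48364 = N45583 := ded_32_1 (flp_h L385462) (flp_c L385444) L669919
theorem L669923 : sm gg N48364 = N45589 := ded_50_1 (flp_h L385500) (flp_g L385448) L669919
theorem L669925 : sm gi N45581 = N48365 := rfl
theorem L669927 : sm gb N48365 = N45727 := ded_26_1 (flp_i L386614) (flp_b L534567) L669925
theorem L669929 : sm gd N48365 = N45597 := ded_39_1 (flp_i L385553) (flp_d L385452) L669925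
theorem L669931 : sm gf N48365 = N45582 := ded_48_1 (flp_i L385454) L385450 L669925
theorem L669933 : sm gh N45582 = N48366 := rfl
theorem L669935 : sm gb N48366 = N45736 := ded_25_1 (flp_h L386691) (flp_b L534236) L669933
theorem L669937 : sm ge N48366 = N45583 := ded_43_1 (flp_h L385462) (flp_e L385458) L669933
theorem L669939 : sm gg N48366 = N45592 := ded_50_1 (flp_h L385516) (flp_g L385460) L669933
theorem L669941 : sm gi N45585 = N48367 := rfl
theorem L669943 : sm gb N48367 = N45588 := ded_26_1 (flp_i L385492) (flp_b L385475) L669941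
theorem L669945 : sm gc N48367 = N45739 := ded_33_1 (flp_i L386711) (flp_c L534682) L669941
theorem L669947 : sm gd N48367 = N48367 := ded_39_1 (flp_i L669941) L385478 L669941
theorem L669948 : sm ge N48367 = N45586 := ded_44_1 (flp_i L385479) L385473 L669941
theorem L669950 : sm gj N48367 = N48367 := ded_53_1 (flp_i L669941) L385477 L669941
theorem L669951 : sm gh N45586 = N48368 := rfl
theorem L669953 : sm gb N48368 = N45589 := ded_25_1 (flp_h L385500) (flp_b L385481) L669951
theorem L669955 : sm gj N48368 = N48368 := ded_52_1 (flp_h L669951) L385485 L669951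
theorem L669956 : sm gh N45588 = N48369 := rfl
theorem L669958 : sm gc N48369 = N45592 := ded_32_1 (flp_h L385516) (flp_c L385494) L669956
theorem L669960 : sm ge N48369 = N45589 := ded_43_1 (flp_h L385500) (flp_e L385497) L669956
theorem L669962 : sm gj N48369 = N48369 := ded_52_1 (flp_h L669956) L385499 L669956
theorem L669963 : sm gg N45593 = N48370 := rfl
theorem L669965 : sm gb N48370 = N45722 := ded_23_1 L386582 (flp_b L552184) L669963
theorem L669967 : sm gc N48370 = N48370 := ded_30_1 (flp_g L669963) L385523 L669963
theorem L669968 : sm gh N48370 = N45664 := ded_50_2 (flp_g L386097) L552196 L669963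
theorem L669970 : sm gf N48370 = N48370 := ded_45_1 (flp_g L669963) (flp_f L385521) L264910 L385521 L669963
theorem L669971 : sm gi N45593 = N48371 := rfl
theorem L669973 : sm gb N48371 = N45724 := ded_26_1 (flp_i L386592) (flp_b L552184) L669971
theorem L669975 : sm gc N48371 = N48371 := ded_33_1 (flp_i L669971) L385523 L669971
theorem L669976 : sm gf N48371 = N45594 := ded_48_1 (flp_i L385528) L385521 L669971
theorem L669978 : sm gj N48371 = N45597 := ded_53_1 (flp_i L385553) (flp_j L385524) L669971
theorem L669980 : sm gc N45607 = N48372 := rfl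
theorem L669982 : sm gf N48372 = N48372 := ded_29_2 (flp_c L669980) L385631 L669980
theorem L669983 : sm gg N48372 = N45609 := ded_30_2 (flp_c L385645) (flp_g L385632) L669980
theorem L669985 : sm gh N48372 = N46106 := ded_32_2 (flp_c L389714) (flp_h L385634) L669980
theorem L669987 : sm gi N45607 = N48373 := rfl
theorem L669989 : sm gb N48373 = N45628 := ded_26_1 (flp_i L385807) (flp_b L385629) L669987
theorem L669991 : sm gd N48373 = N45608 := ded_39_1 (flp_i L385636) L385627 L669987
theorem L669993 : sm gf N48373 = N48373 := ded_48_1 (flp_i L669987) L385631 L669987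
theorem L669994 : sm gg N48373 = N45611 := ded_51_1 (flp_i L385662) (flp_g L385632) L669987
theorem L669996 : sm gb N45609 = N48374 := rfl
theorem L669998 : sm gf N48374 = N45617 := ded_22_2 (flp_b L385710) (flp_f L385647) L669996
theorem L670000 : sm gj N48374 = N45612 := ded_24_2 (flp_b L385672) (flp_j L385649) L669996
theorem L670002 : sm gh N48374 = N46109 := ded_25_2 (flp_b L389735) (flp_h L385651) L669996
theorem L670004 : sm gc N48374 = N45629 := ded_19_2 (flp_b L385815) (flp_c L265126) (flp_b L265002) L385645 L669996
theorem L670006 : sm ge N45609 = N48375 := rfl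
theorem L670008 : sm gc N48375 = N45610 := ded_28_1 (flp_e L385653) L385645 L670006
theorem L670010 : sm gj N48375 = N45613 := ded_42_2 (flp_e L385680) (flp_j L385649) L670006
theorem L670012 : sm gh N48375 = N46110 := ded_43_2 (flp_e L389743) (flp_h L385651) L670006
theorem L670014 : sm gf N48375 = N48375 := ded_40_2 (flp_e L670006) L385647 L265043 (flp_f L385647) L670006
theorem L670015 : sm gi N45609 = N48376 := rfl
theorem L670017 : sm gc N48376 = N45611 := ded_33_1 (flp_i L385662) L385645 L670015
theorem L670019 : sm gf N48376 = N45618 := ded_48_1 (flp_i L385720) (flp_f L385647) L670015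
theorem L670021 : sm gj N48376 = N45614 := ded_53_1 (flp_i L385687) (flp_j L385649) L670015
theorem L670023 : sm gi N45610 = N48377 := rfl
theorem L670025 : sm gb N48377 = N45632 := ded_26_1 (flp_i L385842) (flp_b L385655) L670023
theorem L670027 : sm ge N48377 = N45611 := ded_44_1 (flp_i L385662) L385653 L670023
theorem L670029 : sm gf N48377 = N48377 := ded_48_1 (flp_i L670023) L385661 L670023
theorem L670030 : sm gj N48377 = N45615 := ded_53_1 (flp_i L385693) (flp_j L385657) L670023
theorem L670032 : sm ga N45612 = N48378 := rfl
theorem L670034 : sm gc N48378 = N45634 := ded_11_2 (flp_a L385861) (flp_c L385678) L670032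
theorem L670036 : sm gf N48378 = N45620 := ded_14_2 (flp_a L385740) (flp_f L385674) L670032
theorem L670038 : sm gg N48378 = N45780 := ded_15_2 (flp_a L661652) L661646 L670032
theorem L670040 : sm gh N48378 = N45779 := ded_17_2 L615810 (flp_h L385676) L670032
theorem L670042 : sm gb N48378 = N46548 := ded_10_2 (flp_a L654051) L654053 L513188 L385672 L670032
theorem L670044 : sm ge N45783 = N48378 := ded_28_0 L670034 L615787 (flp_c L387122)
theorem L670046 : sm ge N45612 = N48379 := rfl
theorem L670048 : sm ga N48379 = N45783 := ded_13_1 L670044 (flp_a L670032) L670046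
theorem L670050 : sm gb N48379 = N45613 := ded_21_1 (flp_e L385680) L385672 L670046
theorem L670052 : sm gc N48379 = N45635 := ded_28_1 (flp_e L385868) (flp_c L385678) L670046
theorem L670054 : sm gg N48379 = N45708 := ded_41_2 L661656 L661646 L670046
theorem L670056 : sm gh N48379 = N45707 := ded_43_2 L615820 (flp_h L385676) L670046
theorem L670058 : sm gf N48379 = N48379 := ded_40_2 (flp_e L670046) L385674 L265061 (flp_f L385674) L670046
theorem L670059 : sm gi N45612 = N48380 := rfl
theorem L670061 : sm gb N48380 = N45614 := ded_26_1 (flp_i L385687) L385672 L670059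
theorem L670063 : sm gc N48380 = N45636 := ded_33_1 (flp_i L385875) (flp_c L385678) L670059
theorem L670065 : sm gf N48380 = N45621 := ded_48_1 (flp_i L385749) (flp_f L385674) L670059
theorem L670067 : sm gd N45613 = N48381 := rfl
theorem L670069 : sm gf N48381 = N48381 := ded_35_2 (flp_d L670067) L385686 L670067
theorem L670070 : sm gi N45613 = N48382 := rfl
theorem L670072 : sm gc N48382 = N45615 := ded_33_1 (flp_i L385693) (flp_c L385682) L670070
theorem L670074 : sm ge N48382 = N45614 := ded_44_1 (flp_i L385687) L385680 L670070
theorem L670076 : sm gf N48382 = N48382 := ded_48_1 (flp_i L670070) L385686 L670070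
theorem L670077 : sm ga N45617 = N48383 := rfl
theorem L670079 : sm gc N48383 = N45641 := ded_11_2 (flp_a L385910) (flp_c L385718) L670077
theorem L670081 : sm ge N48383 = N48383 := ded_13_2 (flp_a L670077) L385712 L670077
theorem L670082 : sm gg N48383 = N48383 := ded_15_2 (flp_a L670077) L385713 L670077
theorem L670083 : sm gj N48383 = N45620 := ded_16_2 (flp_a L385740) (flp_j L385714) L670077
theorem L670085 : sm gh N48383 = N46121 := ded_17_2 (flp_a L389823) (flp_h L385716) L670077
theorem L670087 : sm gb N48383 = N46550 := ded_10_2 (flp_a L654062) L654064 L513121 L385710 L670077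
theorem L670089 : sm gi N45617 = N48384 := rfl
theorem L670091 : sm gb N48384 = N45618 := ded_26_1 (flp_i L385720) L385710 L670089
theorem L670093 : sm gc N48384 = N45642 := ded_33_1 (flp_i L385919) (flp_c L385718) L670089
theorem L670095 : sm ge N48384 = N48384 := ded_44_1 (flp_i L670089) L385712 L670089
theorem L670096 : sm gg N48384 = N48384 := ded_51_1 (flp_i L670089) L385713 L670089
theorem L670097 : sm gj N48384 = N45621 := ded_53_1 (flp_i L385749) (flp_j L385714) L670089
theorem L670099 : sm gi N45620 = N48385 := rfl
theorem L670101 : sm ga N48385 = N45621 := ded_18_1 (flp_i L385749) L385740 L670099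
theorem L670103 : sm gb N48385 = N46551 := ded_26_1 (flp_i L651163) (flp_b L648483) L670099
theorem L670105 : sm gc N48385 = N45644 := ded_33_1 (flp_i L385938) (flp_c L385742) L670099
theorem L670107 : sm ge N48385 = N48385 := ded_44_1 (flp_i L670099) L385744 L670099
theorem L670108 : sm gg N48385 = N45623 := ded_51_1 (flp_i L385767) (flp_g L385745) L670099
theorem L670110 : sm gi N45629 = N48386 := rfl
theorem L670112 : sm gb N48386 = N45631 := ded_26_1 (flp_i L385833) L385815 L670110
theorem L670114 : sm gf N48386 = N45642 := ded_48_1 (flp_i L385919) (flp_f L385817) L670110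
theorem L670116 : sm gj N48386 = N45636 := ded_53_1 (flp_i L385875) (flp_j L385819) L670110
theorem L670118 : sm gi N45634 = N48387 := rfl
theorem L670120 : sm ga N48387 = N45636 := ded_18_1 (flp_i L385875) L385861 L670118
theorem L670122 : sm gb N48387 = N48387 := ded_26_1 (flp_i L670118) L385867 L670118
theorem L670123 : sm ge N48387 = N46268 := ded_44_1 (flp_i L391020) (flp_e L615787) L670118
theorem L670125 : sm gf N48387 = N45644 := ded_48_1 (flp_i L385938) (flp_f L385863) L670118
theorem L670127 : sm gg N48387 = N46263 := ded_51_1 (flp_i L390984) (flp_g L615789) L670118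
theorem L670129 : sm gi N45635 = N48388 := rfl
theorem L670131 : sm ga N48388 = N46268 := ded_18_1 (flp_i L391020) (flp_a L615742) L670129
theorem L670133 : sm gb N48388 = N45638 := ded_26_1 (flp_i L385885) (flp_b L385870) L670129
theorem L670135 : sm ge N48388 = N45636 := ded_44_1 (flp_i L385875) L385868 L670129
theorem L670137 : sm gf N48388 = N48388 := ded_48_1 (flp_i L670129) L385874 L670129
theorem L670138 : sm gg N48388 = N46205 := ded_51_1 (flp_i L390495) (flp_g L615745) L670129
theorem L670140 : sm gh N45636 = N48389 := rfl
theorem L670142 : sm gb N48389 = N45639 := ded_25_1 (flp_h L385893) (flp_b L385877) L670140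
theorem L670144 : sm gf N48389 = N45645 := ded_47_1 (flp_h L385946) (flp_f L385879) L670140
theorem L670146 : sm gi N48389 = N46147 := ded_54_2 (flp_h L390022) (flp_i L267975) (flp_h L265156) L385875 L670140
theorem L670148 : sm gi N45641 = N48390 := rfl
theorem L670150 : sm ga N48390 = N45642 := ded_18_1 (flp_i L385919) L385910 L670148
theorem L670152 : sm gb N48390 = N48390 := ded_26_1 (flp_i L670148) L385918 L670148
theorem L670153 : sm ge N48390 = N48390 := ded_44_1 (flp_i L670148) L385912 L670148
theorem L670154 : sm gg N48390 = N48390 := ded_51_1 (flp_i L670148) L385913 L670148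
theorem L670155 : sm gj N48390 = N45644 := ded_53_1 (flp_i L385938) (flp_j L385914) L670148
theorem L670157 : sm gh N45642 = N48391 := rfl
theorem L670159 : sm gb N48391 = N45643 := ded_25_1 (flp_h L385927) (flp_b L385921) L670157
theorem L670161 : sm ge N48391 = N48391 := ded_43_1 (flp_h L670157) L385923 L670157
theorem L670162 : sm gg N48391 = N48391 := ded_50_1 (flp_h L670157) L385924 L670157
theorem L670163 : sm gj N48391 = N45645 := ded_52_1 (flp_h L385946) (flp_j L385925) L670157
theorem L670165 : sm gi N48391 = N46154 := ded_54_2 (flp_h L390075) (flp_i L268017) (flp_h L265194) L385919 L670157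
theorem L670167 : sm gd N46428 = N48391 := ded_20_0 L670159 (flp_d L649289) (flp_b L650104)
theorem L670169 : sm gh N45644 = N48392 := rfl
theorem L670171 : sm ga N48392 = N45645 := ded_17_1 (flp_h L385946) (flp_a L385940) L670169
theorem L670173 : sm gb N48392 = N48392 := ded_25_1 (flp_h L670169) L385942 L670169
theorem L670174 : sm ge N48392 = N48392 := ded_43_1 (flp_h L670169) L385943 L670169
theorem L670175 : sm gg N48392 = N45647 := ded_50_1 (flp_h L385964) (flp_g L385944) L670169
theorem L670177 : sm gi N48392 = N46156 := ded_54_2 (flp_h L390092) (flp_i L268035) (flp_h L265221) L385938 L670169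
theorem L670179 : sm gd N45645 = N48393 := rfl
theorem L670181 : sm gb N48393 = N45646 := ded_20_1 (flp_d L385955) (flp_b L385948) L670179
theorem L670183 : sm gg N48393 = N45648 := ded_36_2 (flp_d L385973) (flp_g L385951) L670179
theorem L670185 : sm gj N48393 = N46428 := ded_37_2 L670167 L670163 L670179
theorem L670187 : sm gi N48393 = N46157 := ded_39_2 (flp_d L390100) (flp_i L385953) L670179
theorem L670189 : sm ge N46424 = N48393 := ded_21_0 L670181 (flp_e L649281) (flp_b L650069)
theorem L670191 : sm gi N45657 = N48394 := rfl
theorem L670193 : sm gb N48394 = N45710 := ded_26_1 (flp_i L386468) (flp_b L386047) L670191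
theorem L670195 : sm gf N48394 = N45660 := ded_48_1 (flp_i L386068) (flp_f L386049) L670191
theorem L670197 : sm gi N45658 = N48395 := rfl
theorem L670199 : sm ga N48395 = N46542 := ded_18_1 (flp_i L651093) (flp_a L648859) L670197
theorem L670201 : sm gb N48395 = N45712 := ded_26_1 (flp_i L386485) (flp_b L386053) L670197
theorem L670203 : sm gc N48395 = N46555 := ded_33_1 (flp_i L651189) L648702 L670197
theorem L670205 : sm ge N48395 = N46539 := ded_44_1 (flp_i L651056) L615357 L670197
theorem L670207 : sm gg N48395 = N48395 := ded_51_1 (flp_i L670197) L386057 L670197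
theorem L670208 : sm gj N48395 = N45660 := ded_53_1 (flp_i L386068) (flp_j L386058) L670197
theorem L670210 : sm gh N48395 = N46545 := ded_54_1 (flp_i L651125) (flp_h L293750) L616047 L386051 L670197
theorem L670212 : sm gd N45706 = N48396 := rfl
theorem L670214 : sm ga N48396 = N45781 := ded_12_1 (flp_d L387108) (flp_a L386433) L670212
theorem L670216 : sm gf N48396 = N46544 := ded_35_2 (flp_d L651120) (flp_f L386439) L670212
theorem L670218 : sm gi N45706 = N48397 := rfl
theorem L670220 : sm ga N48397 = N45782 := ded_18_1 (flp_i L387112) (flp_a L386433) L670218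
theorem L670222 : sm gc N48397 = N46202 := ded_33_1 (flp_i L390470) (flp_c L386435) L670218
theorem L670224 : sm ge N48397 = N45710 := ded_44_1 (flp_i L386468) (flp_e L386437) L670218
theorem L670226 : sm gf N48397 = N46545 := ded_48_1 (flp_i L651125) (flp_f L386439) L670218
theorem L670228 : sm gd N45708 = N48398 := rfl
theorem L670230 : sm ga N48398 = N45784 := ded_12_1 (flp_d L387127) (flp_a L386452) L670228
theorem L670232 : sm gf N48398 = N45711 := ded_35_2 (flp_d L386476) (flp_f L386456) L670228
theorem L670234 : sm gj N48398 = N45709 := ded_37_2 (flp_d L386460) (flp_j L386458) L670228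
theorem L670236 : sm gh N48398 = N45723 := ded_38_2 (flp_d L386584) (flp_h L265604) (flp_d L265531) L386450 L670228
theorem L670238 : sm gi N45708 = N48399 := rfl
theorem L670240 : sm ga N48399 = N45785 := ded_18_1 (flp_i L387135) (flp_a L386452) L670238
theorem L670242 : sm gc N48399 = N46205 := ded_33_1 (flp_i L390495) (flp_c L386454) L670238
theorem L670244 : sm gf N48399 = N45712 := ded_48_1 (flp_i L386485) (flp_f L386456) L670238
theorem L670246 : sm gj N48399 = N45710 := ded_53_1 (flp_i L386468) (flp_j L386458) L670238
theorem L670248 : sm ge N45709 = N48400 := rfl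
theorem L670250 : sm ga N48400 = N45787 := ded_13_1 (flp_e L387151) (flp_a L386462) L670248
theorem L670252 : sm gh N48400 = N45726 := ded_43_2 (flp_e L386610) (flp_h L386466) L670248
theorem L670254 : sm gi N45709 = N48401 := rfl
theorem L670256 : sm ga N48401 = N45788 := ded_18_1 (flp_i L387155) (flp_a L386462) L670254
theorem L670258 : sm gd N48401 = N45710 := ded_39_1 (flp_i L386468) L386460 L670254
theorem L670260 : sm gf N48401 = N45715 := ded_48_1 (flp_i L386516) (flp_f L386464) L670254
theorem L670262 : sm gi N45711 = N48402 := rfl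
theorem L670264 : sm ga N48402 = N45791 := ded_18_1 (flp_i L387179) (flp_a L386478) L670262
theorem L670266 : sm gd N48402 = N45712 := ded_39_1 (flp_i L386485) L386476 L670262
theorem L670268 : sm gg N48402 = N48402 := ded_51_1 (flp_i L670262) L386480 L670262
theorem L670269 : sm gj N48402 = N45715 := ded_53_1 (flp_i L386516) (flp_j L386481) L670262
theorem L670271 : sm gh N45715 = N48403 := rfl
theorem L670273 : sm ga N48403 = N45797 := ded_17_1 (flp_h L387225) (flp_a L386518) L670271
theorem L670275 : sm gg N48403 = N45721 := ded_50_1 (flp_h L386568) (flp_g L386522) L670271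
theorem L670277 : sm gi N48403 = N45736 := ded_54_2 (flp_h L386691) (flp_i L265662) (flp_h L265560) L386516 L670271
theorem L670279 : sm gd N45722 = N48404 := rfl
theorem L670281 : sm ga N48404 = N45807 := ded_12_1 (flp_d L387296) (flp_a L386577) L670279
theorem L670283 : sm gf N48404 = N48404 := ded_35_2 (flp_d L670279) L386581 L670279
theorem L670284 : sm gg N48404 = N45723 := ded_36_2 (flp_d L386584) (flp_g L386582) L670279
theorem L670286 : sm gi N45722 = N48405 := rfl
theorem L670288 : sm ga N48405 = N45808 := ded_18_1 (flp_i L387301) (flp_a L386577) L670286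
theorem L670290 : sm gc N48405 = N45761 := ded_33_1 (flp_i L386917) (flp_c L386579) L670286
theorem L670292 : sm gf N48405 = N48405 := ded_48_1 (flp_i L670286) L386581 L670286
theorem L670293 : sm gg N48405 = N45724 := ded_51_1 (flp_i L386592) (flp_g L386582) L670286
theorem L670295 : sm gc N45723 = N48406 := rfl
theorem L670297 : sm ga N48406 = N45809 := ded_11_1 (flp_c L387308) (flp_a L386586) L670295
theorem L670299 : sm gf N48406 = N45728 := ded_29_2 (flp_c L386622) (flp_f L386588) L670295
theorem L670301 : sm gj N48406 = N45725 := ded_31_2 (flp_c L386602) (flp_j L386590) L670295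
theorem L670303 : sm gd N48406 = N45762 := ded_27_2 (flp_c L386925) (flp_d L265839) (flp_c L265608) L386584 L670295
theorem L670305 : sm ge N45723 = N48407 := rfl
theorem L670307 : sm ga N48407 = N45810 := ded_13_1 (flp_e L387316) (flp_a L386586) L670305
theorem L670309 : sm gj N48407 = N45726 := ded_42_2 (flp_e L386610) (flp_j L386590) L670305
theorem L670311 : sm gi N45723 = N48408 := rfl
theorem L670313 : sm ga N48408 = N45811 := ded_18_1 (flp_i L387320) (flp_a L386586) L670311
theorem L670315 : sm gd N48408 = N45724 := ded_39_1 (flp_i L386592) L386584 L670311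
theorem L670317 : sm gf N48408 = N45730 := ded_48_1 (flp_i L386640) (flp_f L386588) L670311
theorem L670319 : sm gj N48408 = N45727 := ded_53_1 (flp_i L386614) (flp_j L386590) L670311
theorem L670321 : sm gb N45725 = N48409 := rfl
theorem L670323 : sm gd N48409 = N45765 := ded_20_2 (flp_b L386957) (flp_d L386608) L670321
theorem L670325 : sm gf N48409 = N45731 := ded_22_2 (flp_b L386649) (flp_f L386606) L670321
theorem L670327 : sm ge N45725 = N48410 := rfl
theorem L670329 : sm ga N48410 = N45813 := ded_13_1 (flp_e L387334) (flp_a L386604) L670327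
theorem L670331 : sm gc N48410 = N45726 := ded_28_1 (flp_e L386610) L386602 L670327
theorem L670333 : sm gi N45725 = N48411 := rfl
theorem L670335 : sm ga N48411 = N45814 := ded_18_1 (flp_i L387338) (flp_a L386604) L670333
theorem L670337 : sm gc N48411 = N45727 := ded_33_1 (flp_i L386614) L386602 L670333
theorem L670339 : sm gd N48411 = N45767 := ded_39_1 (flp_i L386974) (flp_d L386608) L670333
theorem L670341 : sm gf N48411 = N45733 := ded_48_1 (flp_i L386665) (flp_f L386606) L670333
theorem L670343 : sm gi N45726 = N48412 := rfl
theorem L670345 : sm ga N48412 = N45816 := ded_18_1 (flp_i L387350) (flp_a L386612) L670343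
theorem L670347 : sm ge N48412 = N45727 := ded_44_1 (flp_i L386614) L386610 L670343
theorem L670349 : sm gh N45727 = N48413 := rfl
theorem L670351 : sm ga N48413 = N45817 := ded_17_1 (flp_h L387354) (flp_a L386616) L670349
theorem L670353 : sm gf N48413 = N45736 := ded_47_1 (flp_h L386691) (flp_f L386620) L670349
theorem L670355 : sm gb N45728 = N48414 := rfl
theorem L670357 : sm gd N48414 = N45770 := ded_20_2 (flp_b L387000) (flp_d L386629) L670355
theorem L670359 : sm gg N48414 = N48414 := ded_23_2 (flp_b L670355) L386626 L670355
theorem L670360 : sm gj N48414 = N45731 := ded_24_2 (flp_b L386649) (flp_j L386627) L670355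
theorem L670362 : sm gi N45728 = N48415 := rfl
theorem L670364 : sm ga N48415 = N45820 := ded_18_1 (flp_i L387374) (flp_a L386624) L670362
theorem L670366 : sm gc N48415 = N45730 := ded_33_1 (flp_i L386640) L386622 L670362
theorem L670368 : sm gd N48415 = N45771 := ded_39_1 (flp_i L387010) (flp_d L386629) L670362
theorem L670370 : sm gg N48415 = N48415 := ded_51_1 (flp_i L670362) L386626 L670362
theorem L670371 : sm gj N48415 = N45733 := ded_53_1 (flp_i L386665) (flp_j L386627) L670362
theorem L670373 : sm gh N45730 = N48416 := rfl
theorem L670375 : sm ga N48416 = N45823 := ded_17_1 (flp_h L387398) (flp_a L386642) L670373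
theorem L670377 : sm gg N48416 = N48416 := ded_50_1 (flp_h L670373) L386646 L670373
theorem L670378 : sm gj N48416 = N45736 := ded_52_1 (flp_h L386691) (flp_j L386647) L670373
theorem L670380 : sm ga N45731 = N48417 := rfl
theorem L670382 : sm gd N48417 = N45773 := ded_12_2 (flp_a L387033) (flp_d L386651) L670380
theorem L670384 : sm gg N48417 = N45737 := ded_15_2 (flp_a L386697) (flp_g L386653) L670380
theorem L670386 : sm gb N48417 = N45824 := ded_10_2 (flp_a L387403) (flp_b L266145) (flp_a L265648) L386649 L670380
theorem L670388 : sm gi N45731 = N48418 := rfl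
theorem L670390 : sm gb N48418 = N45733 := ded_26_1 (flp_i L386665) L386649 L670388
theorem L670392 : sm gd N48418 = N45774 := ded_39_1 (flp_i L387044) (flp_d L386651) L670388
theorem L670394 : sm gg N48418 = N45739 := ded_51_1 (flp_i L386711) (flp_g L386653) L670388
theorem L670396 : sm gh N45733 = N48419 := rfl
theorem L670398 : sm ga N48419 = N45829 := ded_17_1 (flp_h L387441) (flp_a L386667) L670396
theorem L670400 : sm gc N48419 = N45736 := ded_32_1 (flp_h L386691) (flp_c L386669) L670396
theorem L670402 : sm gg N48419 = N45742 := ded_50_1 (flp_h L386738) (flp_g L386673) L670396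
theorem L670404 : sm gi N45737 = N48420 := rfl
theorem L670406 : sm ga N48420 = N45739 := ded_18_1 (flp_i L386711) L386697 L670404
theorem L670408 : sm gb N48420 = N45834 := ded_26_1 (flp_i L387472) (flp_b L386702) L670404
theorem L670410 : sm gd N48420 = N45776 := ded_39_1 (flp_i L387065) (flp_d L386699) L670404
theorem L670412 : sm gj N48420 = N48420 := ded_53_1 (flp_i L670404) L386701 L670404
theorem L670413 : sm gh N45739 = N48421 := rfl
theorem L670415 : sm gb N48421 = N45742 := ded_25_1 (flp_h L386738) (flp_b L386713) L670413
theorem L670417 : sm gj N48421 = N48421 := ded_52_1 (flp_h L670413) L386717 L670413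
theorem L670418 : sm gc N45760 = N48422 := rfl
theorem L670420 : sm ga N48422 = N45862 := ded_11_1 (flp_c L387673) (flp_a L386909) L670418
theorem L670422 : sm gf N48422 = N48422 := ded_29_2 (flp_c L670418) L386912 L670418
theorem L670423 : sm gg N48422 = N45762 := ded_30_2 (flp_c L386925) (flp_g L386913) L670418
theorem L670425 : sm gh N48422 = N46236 := ded_32_2 (flp_c L390755) (flp_h L386915) L670418
theorem L670427 : sm gi N45760 = N48423 := rfl
theorem L670429 : sm ga N48423 = N45864 := ded_18_1 (flp_i L387688) (flp_a L386909) L670427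
theorem L670431 : sm gb N48423 = N48423 := ded_26_1 (flp_i L670427) L386911 L670427
theorem L670432 : sm gd N48423 = N45761 := ded_39_1 (flp_i L386917) L386907 L670427
theorem L670434 : sm gf N48423 = N48423 := ded_48_1 (flp_i L670427) L386912 L670427
theorem L670435 : sm gg N48423 = N45764 := ded_51_1 (flp_i L386946) (flp_g L386913) L670427
theorem L670437 : sm gb N45762 = N48424 := rfl
theorem L670439 : sm gf N48424 = N45770 := ded_22_2 (flp_b L387000) (flp_f L386929) L670437
theorem L670441 : sm gj N48424 = N45765 := ded_24_2 (flp_b L386957) (flp_j L386931) L670437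
theorem L670443 : sm gh N48424 = N46239 := ded_25_2 (flp_b L390780) (flp_h L386933) L670437
theorem L670445 : sm gc N48424 = N48424 := ded_19_2 (flp_b L670437) (flp_c L386925) L265843 L386925 L670437
theorem L670446 : sm ge N45762 = N48425 := rfl
theorem L670448 : sm ga N48425 = N45866 := ded_13_1 (flp_e L387707) (flp_a L386927) L670446
theorem L670450 : sm gc N48425 = N45763 := ded_28_1 (flp_e L386935) L386925 L670446
theorem L670452 : sm gj N48425 = N45766 := ded_42_2 (flp_e L386964) (flp_j L386931) L670446
theorem L670454 : sm gh N48425 = N46240 := ded_43_2 (flp_e L390787) (flp_h L386933) L670446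
theorem L670456 : sm gf N48425 = N46336 := ded_40_2 (flp_e L646150) L272629 (flp_e L265889) (flp_f L386929) L670446
theorem L670458 : sm gi N45762 = N48426 := rfl
theorem L670460 : sm ga N48426 = N45867 := ded_18_1 (flp_i L387717) (flp_a L386927) L670458
theorem L670462 : sm gc N48426 = N45764 := ded_33_1 (flp_i L386946) L386925 L670458
theorem L670464 : sm gf N48426 = N45771 := ded_48_1 (flp_i L387010) (flp_f L386929) L670458
theorem L670466 : sm gj N48426 = N45767 := ded_53_1 (flp_i L386974) (flp_j L386931) L670458
theorem L670468 : sm gi N45763 = N48427 := rfl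
theorem L670470 : sm ga N48427 = N45868 := ded_18_1 (flp_i L387725) (flp_a L386937) L670468
theorem L670472 : sm gb N48427 = N48427 := ded_26_1 (flp_i L670468) L386939 L670468
theorem L670473 : sm ge N48427 = N45764 := ded_44_1 (flp_i L386946) L386935 L670468
theorem L670475 : sm gf N48427 = N45912 := ded_48_1 L388116 L629643 L670468
theorem L670477 : sm gj N48427 = N45768 := ded_53_1 (flp_i L386982) (flp_j L386940) L670468
theorem L670479 : sm gh N48427 = N45900 := ded_54_1 (flp_i L388010) L266592 L629668 (flp_h L386942) L670468
theorem L670481 : sm ga N45765 = N48428 := rfl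
theorem L670483 : sm gc N48428 = N48428 := ded_11_2 (flp_a L670481) L386963 L670481
theorem L670484 : sm gf N48428 = N45773 := ded_14_2 (flp_a L387033) (flp_f L386959) L670481
theorem L670486 : sm gh N48428 = N46244 := ded_17_2 (flp_a L390828) (flp_h L386961) L670481
theorem L670488 : sm gb N48428 = N45870 := ded_10_2 (flp_a L387745) (flp_b L266395) (flp_a L265861) L386957 L670481
theorem L670490 : sm ge N45765 = N48429 := rfl
theorem L670492 : sm gb N48429 = N45766 := ded_21_1 (flp_e L386964) L386957 L670490
theorem L670494 : sm gc N48429 = N48429 := ded_28_1 (flp_e L670490) L386963 L670490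
theorem L670495 : sm gh N48429 = N46245 := ded_43_2 (flp_e L390835) (flp_h L386961) L670490
theorem L670497 : sm gf N48429 = N46457 := ded_40_2 (flp_e L650357) L272657 (flp_e L265910) (flp_f L386959) L670490
theorem L670499 : sm gi N45765 = N48430 := rfl
theorem L670501 : sm gb N48430 = N45767 := ded_26_1 (flp_i L386974) L386957 L670499
theorem L670503 : sm gc N48430 = N48430 := ded_33_1 (flp_i L670499) L386963 L670499
theorem L670504 : sm gf N48430 = N45774 := ded_48_1 (flp_i L387044) (flp_f L386959) L670499
theorem L670506 : sm gd N45766 = N48431 := rfl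
theorem L670508 : sm ga N48431 = N45873 := ded_12_1 (flp_d L387771) (flp_a L386966) L670506
theorem L670510 : sm gf N48431 = N46459 := ded_35_2 (flp_d L650373) (flp_f L386972) L670506
theorem L670512 : sm gi N45766 = N48432 := rfl
theorem L670514 : sm ga N48432 = N45874 := ded_18_1 (flp_i L387775) (flp_a L386966) L670512
theorem L670516 : sm gc N48432 = N45768 := ded_33_1 (flp_i L386982) (flp_c L386968) L670512
theorem L670518 : sm ge N48432 = N45767 := ded_44_1 (flp_i L386974) L386964 L670512
theorem L670520 : sm gf N48432 = N46460 := ded_48_1 (flp_i L650378) (flp_f L386972) L670512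
theorem L670522 : sm ga N45770 = N48433 := rfl
theorem L670524 : sm gc N48433 = N48433 := ded_11_2 (flp_a L670522) L387009 L670522
theorem L670525 : sm ge N48433 = N46462 := ded_13_2 (flp_a L650400) (flp_e L387002) L670522
theorem L670527 : sm gg N48433 = N48433 := ded_15_2 (flp_a L670522) L387004 L670522
theorem L670528 : sm gj N48433 = N45773 := ded_16_2 (flp_a L387033) (flp_j L387005) L670522
theorem L670530 : sm gh N48433 = N46251 := ded_17_2 (flp_a L390883) (flp_h L387007) L670522
theorem L670532 : sm gb N48433 = N45877 := ded_10_2 (flp_a L387801) (flp_b L266433) (flp_a L265887) L387000 L670522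
theorem L670534 : sm gi N45770 = N48434 := rfl
theorem L670536 : sm gb N48434 = N45771 := ded_26_1 (flp_i L387010) L387000 L670534
theorem L670538 : sm gc N48434 = N48434 := ded_33_1 (flp_i L670534) L387009 L670534
theorem L670539 : sm ge N48434 = N46463 := ded_44_1 (flp_i L650412) (flp_e L387002) L670534
theorem L670541 : sm gg N48434 = N48434 := ded_51_1 (flp_i L670534) L387004 L670534
theorem L670542 : sm gj N48434 = N45774 := ded_53_1 (flp_i L387044) (flp_j L387005) L670534
theorem L670544 : sm gi N45773 = N48435 := rfl
theorem L670546 : sm ga N48435 = N45774 := ded_18_1 (flp_i L387044) L387033 L670544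
theorem L670548 : sm gb N48435 = N45880 := ded_26_1 (flp_i L387834) (flp_b L387042) L670544
theorem L670550 : sm gc N48435 = N48435 := ded_33_1 (flp_i L670544) L387035 L670544
theorem L670551 : sm ge N48435 = N46465 := ded_44_1 (flp_i L650433) (flp_e L387036) L670544
theorem L670553 : sm gg N48435 = N45776 := ded_51_1 (flp_i L387065) (flp_g L387038) L670544
theorem L670555 : sm gi N45780 = N48436 := rfl
theorem L670557 : sm gb N48436 = N46549 := ded_26_1 (flp_i L651151) (flp_b L648847) L670555
theorem L670559 : sm gc N48436 = N46263 := ded_33_1 (flp_i L390984) (flp_c L387100) L670555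
theorem L670561 : sm ge N48436 = N45785 := ded_44_1 (flp_i L387135) (flp_e L387102) L670555
theorem L670563 : sm gf N48436 = N46534 := ded_48_1 (flp_i L651019) L615043 L670555
theorem L670565 : sm gj N48436 = N45782 := ded_53_1 (flp_i L387112) (flp_j L387106) L670555
theorem L670567 : sm gc N45781 = N48437 := rfl
theorem L670569 : sm gf N48437 = N46546 := ded_29_2 (flp_c L651134) (flp_f L387110) L670567
theorem L670571 : sm gd N48437 = N46264 := ded_27_2 (flp_c L390993) (flp_d L268684) (flp_c L265977) L387108 L670567
theorem L670573 : sm ge N45781 = N48438 := rfl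
theorem L670575 : sm gd N48438 = N45787 := ded_34_1 (flp_e L387151) (flp_d L265998) (flp_e L265979) L387108 L670573
theorem L670577 : sm gi N45781 = N48439 := rfl
theorem L670579 : sm gd N48439 = N45782 := ded_39_1 (flp_i L387112) L387108 L670577
theorem L670581 : sm gf N48439 = N46547 := ded_48_1 (flp_i L651139) (flp_f L387110) L670577
theorem L670583 : sm gd N45783 = N48440 := rfl
theorem L670585 : sm gf N48440 = N48440 := ded_35_2 (flp_d L670583) L387124 L670583
theorem L670586 : sm gg N48440 = N45784 := ded_36_2 (flp_d L387127) (flp_g L387125) L670583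
theorem L670588 : sm gh N48440 = N45807 := ded_38_2 (flp_d L387296) (flp_h L266089) (flp_d L265987) L387120 L670583
theorem L670590 : sm gi N45783 = N48441 := rfl
theorem L670592 : sm gc N48441 = N46268 := ded_33_1 (flp_i L391020) (flp_c L387122) L670590
theorem L670594 : sm gf N48441 = N48441 := ded_48_1 (flp_i L670590) L387124 L670590
theorem L670595 : sm gg N48441 = N45785 := ded_51_1 (flp_i L387135) (flp_g L387125) L670590
theorem L670597 : sm gc N45784 = N48442 := rfl
theorem L670599 : sm gf N48442 = N45789 := ded_29_2 (flp_c L387161) (flp_f L387129) L670597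
theorem L670601 : sm gj N48442 = N45786 := ded_31_2 (flp_c L387143) (flp_j L387131) L670597
theorem L670603 : sm gh N48442 = N45809 := ded_32_2 (flp_c L387308) (flp_h L387133) L670597
theorem L670605 : sm gd N48442 = N46269 := ded_27_2 (flp_c L391026) (flp_d L268703) (flp_c L265992) L387127 L670597
theorem L670607 : sm ge N45784 = N48443 := rfl
theorem L670609 : sm gj N48443 = N45787 := ded_42_2 (flp_e L387151) (flp_j L387131) L670607
theorem L670611 : sm gh N48443 = N45810 := ded_43_2 (flp_e L387316) (flp_h L387133) L670607
theorem L670613 : sm gi N45784 = N48444 := rfl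
theorem L670615 : sm gd N48444 = N45785 := ded_39_1 (flp_i L387135) L387127 L670613
theorem L670617 : sm gf N48444 = N45791 := ded_48_1 (flp_i L387179) (flp_f L387129) L670613
theorem L670619 : sm gj N48444 = N45788 := ded_53_1 (flp_i L387155) (flp_j L387131) L670613
theorem L670621 : sm gb N45786 = N48445 := rfl
theorem L670623 : sm gd N48445 = N46272 := ded_20_2 (flp_b L391051) (flp_d L387149) L670621
theorem L670625 : sm gf N48445 = N45792 := ded_22_2 (flp_b L387186) (flp_f L387145) L670621
theorem L670627 : sm gh N48445 = N45812 := ded_25_2 (flp_b L387328) (flp_h L387147) L670621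
theorem L670629 : sm ge N45786 = N48446 := rfl
theorem L670631 : sm gc N48446 = N45787 := ded_28_1 (flp_e L387151) L387143 L670629
theorem L670633 : sm gh N48446 = N45813 := ded_43_2 (flp_e L387334) (flp_h L387147) L670629
theorem L670635 : sm gi N45786 = N48447 := rfl
theorem L670637 : sm gc N48447 = N45788 := ded_33_1 (flp_i L387155) L387143 L670635
theorem L670639 : sm gd N48447 = N46274 := ded_39_1 (flp_i L391065) (flp_d L387149) L670635
theorem L670641 : sm gf N48447 = N45794 := ded_48_1 (flp_i L387203) (flp_f L387145) L670635
theorem L670643 : sm gf N45787 = N48448 := rfl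
theorem L670645 : sm gh N48448 = N45815 := ded_47_2 (flp_f L387346) (flp_h L387153) L670643
theorem L670647 : sm ge N48448 = N45795 := ded_40_1 (flp_f L387211) (flp_e L266034) (flp_f L266000) L387151 L670643
theorem L670649 : sm gi N45787 = N48449 := rfl
theorem L670651 : sm ge N48449 = N45788 := ded_44_1 (flp_i L387155) L387151 L670649
theorem L670653 : sm gh N45788 = N48450 := rfl
theorem L670655 : sm gf N48450 = N45797 := ded_47_1 (flp_h L387225) (flp_f L387159) L670653
theorem L670657 : sm gi N48450 = N45817 := ded_54_2 (flp_h L387354) (flp_i L266118) (flp_h L266002) L387155 L670653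
theorem L670659 : sm gb N45789 = N48451 := rfl
theorem L670661 : sm gd N48451 = N46277 := ded_20_2 (flp_b L391084) (flp_d L387168) L670659
theorem L670663 : sm gg N48451 = N48451 := ded_23_2 (flp_b L670659) L387163 L670659
theorem L670664 : sm gj N48451 = N45792 := ded_24_2 (flp_b L387186) (flp_j L387164) L670659
theorem L670666 : sm gh N48451 = N45818 := ded_25_2 (flp_b L387358) (flp_h L387166) L670659
theorem L670668 : sm ge N45789 = N48452 := rfl
theorem L670670 : sm gc N48452 = N45790 := ded_28_1 (flp_e L387170) L387161 L670668
theorem L670672 : sm gg N48452 = N48452 := ded_41_2 (flp_e L670668) L387163 L670668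
theorem L670673 : sm gj N48452 = N45793 := ded_42_2 (flp_e L387194) (flp_j L387164) L670668
theorem L670675 : sm gh N48452 = N45819 := ded_43_2 (flp_e L387365) (flp_h L387166) L670668
theorem L670677 : sm gd N48452 = N48452 := ded_34_1 (flp_e L670668) L387168 L268740 (flp_d L387168) L670668
theorem L670678 : sm gi N45789 = N48453 := rfl
theorem L670680 : sm gc N48453 = N45791 := ded_33_1 (flp_i L387179) L387161 L670678
theorem L670682 : sm gd N48453 = N46278 := ded_39_1 (flp_i L391093) (flp_d L387168) L670678
theorem L670684 : sm gg N48453 = N48453 := ded_51_1 (flp_i L670678) L387163 L670678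
theorem L670685 : sm gj N48453 = N45794 := ded_53_1 (flp_i L387203) (flp_j L387164) L670678
theorem L670687 : sm gi N45790 = N48454 := rfl
theorem L670689 : sm gb N48454 = N46547 := ded_26_1 (flp_i L651139) (flp_b L648843) L670687
theorem L670691 : sm gd N48454 = N46533 := ded_39_1 (flp_i L651009) L615004 L670687
theorem L670693 : sm ge N48454 = N45791 := ded_44_1 (flp_i L387179) L387170 L670687
theorem L670695 : sm gg N48454 = N48454 := ded_51_1 (flp_i L670687) L387172 L670687
theorem L670696 : sm gj N48454 = N45796 := ded_53_1 (flp_i L387217) (flp_j L387173) L670687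
theorem L670698 : sm gh N45791 = N48455 := rfl
theorem L670700 : sm gg N48455 = N48455 := ded_50_1 (flp_h L670698) L387183 L670698
theorem L670701 : sm gj N48455 = N45797 := ded_52_1 (flp_h L387225) (flp_j L387184) L670698
theorem L670703 : sm gi N48455 = N45823 := ded_54_2 (flp_h L387398) (flp_i L266138) (flp_h L266015) L387179 L670698
theorem L670705 : sm ga N45792 = N48456 := rfl
theorem L670707 : sm gd N48456 = N46280 := ded_12_2 (flp_a L391110) (flp_d L387188) L670705
theorem L670709 : sm gg N48456 = N45798 := ded_15_2 (flp_a L387231) (flp_g L387190) L670705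
theorem L670711 : sm gh N48456 = N45824 := ded_17_2 (flp_a L387403) (flp_h L387192) L670705
theorem L670713 : sm ge N45792 = N48457 := rfl
theorem L670715 : sm gb N48457 = N45793 := ded_21_1 (flp_e L387194) L387186 L670713
theorem L670717 : sm gg N48457 = N45799 := ded_41_2 (flp_e L387238) (flp_g L387190) L670713
theorem L670719 : sm gh N48457 = N45825 := ded_43_2 (flp_e L387409) (flp_h L387192) L670713
theorem L670721 : sm gd N48457 = N48457 := ded_34_1 (flp_e L670713) L387188 L268757 (flp_d L387188) L670713
theorem L670722 : sm gi N45792 = N48458 := rfl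
theorem L670724 : sm gb N48458 = N45794 := ded_26_1 (flp_i L387203) L387186 L670722
theorem L670726 : sm gd N48458 = N46281 := ded_39_1 (flp_i L391118) (flp_d L387188) L670722
theorem L670728 : sm gg N48458 = N45800 := ded_51_1 (flp_i L387246) (flp_g L387190) L670722
theorem L670730 : sm gf N45793 = N48459 := rfl
theorem L670732 : sm gc N48459 = N45795 := ded_29_1 (flp_f L387211) (flp_c L387196) L670730
theorem L670734 : sm gd N48459 = N48459 := ded_35_1 (flp_f L670730) L387202 L670730
theorem L670735 : sm gh N48459 = N45827 := ded_47_2 (flp_f L387425) (flp_h L387200) L670730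
theorem L670737 : sm gi N45793 = N48460 := rfl
theorem L670739 : sm gc N48460 = N45796 := ded_33_1 (flp_i L387217) (flp_c L387196) L670737
theorem L670741 : sm gd N48460 = N48460 := ded_39_1 (flp_i L670737) L387202 L670737
theorem L670742 : sm ge N48460 = N45794 := ded_44_1 (flp_i L387203) L387194 L670737
theorem L670744 : sm gg N48460 = N45802 := ded_51_1 (flp_i L387261) (flp_g L387198) L670737
theorem L670746 : sm gh N45794 = N48461 := rfl
theorem L670748 : sm gc N48461 = N45797 := ded_32_1 (flp_h L387225) (flp_c L387205) L670746
theorem L670750 : sm gg N48461 = N45803 := ded_50_1 (flp_h L387269) (flp_g L387209) L670746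
theorem L670752 : sm gi N48461 = N45829 := ded_54_2 (flp_h L387441) (flp_i L266159) (flp_h L266030) L387203 L670746
theorem L670754 : sm gg N45795 = N48462 := rfl
theorem L670756 : sm gd N48462 = N46548 := ded_36_1 (flp_g L651144) (flp_d L387213) L670754
theorem L670758 : sm gh N48462 = N45830 := ded_50_2 (flp_g L387447) (flp_h L387215) L670754
theorem L670760 : sm gf N48462 = N45804 := ded_45_1 (flp_g L387276) (flp_f L266070) (flp_g L266036) L387211 L670754
theorem L670762 : sm gi N45795 = N48463 := rfl
theorem L670764 : sm gd N48463 = N46549 := ded_39_1 (flp_i L651151) (flp_d L387213) L670762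
theorem L670766 : sm gf N48463 = N45796 := ded_48_1 (flp_i L387217) L387211 L670762
theorem L670768 : sm gh N45796 = N48464 := rfl
theorem L670770 : sm ge N48464 = N45797 := ded_43_1 (flp_h L387225) (flp_e L387221) L670768
theorem L670772 : sm gg N48464 = N45806 := ded_50_1 (flp_h L387289) (flp_g L387223) L670768
theorem L670774 : sm gi N48464 = N45832 := ded_54_2 (flp_h L387459) (flp_i L266171) (flp_h L266038) L387217 L670768
theorem L670776 : sm gi N45798 = N48465 := rfl
theorem L670778 : sm ga N48465 = N45800 := ded_18_1 (flp_i L387246) L387231 L670776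
theorem L670780 : sm gd N48465 = N46283 := ded_39_1 (flp_i L391135) (flp_d L387233) L670776
theorem L670782 : sm gj N48465 = N48465 := ded_53_1 (flp_i L670776) L387235 L670776
theorem L670783 : sm gi N45799 = N48466 := rfl
theorem L670785 : sm gb N48466 = N45802 := ded_26_1 (flp_i L387261) (flp_b L387240) L670783
theorem L670787 : sm gd N48466 = N48466 := ded_39_1 (flp_i L670783) L387245 L670783
theorem L670788 : sm ge N48466 = N45800 := ded_44_1 (flp_i L387246) L387238 L670783
theorem L670790 : sm gj N48466 = N48466 := ded_53_1 (flp_i L670783) L387242 L670783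
theorem L670791 : sm gh N45800 = N48467 := rfl
theorem L670793 : sm gb N48467 = N45803 := ded_25_1 (flp_h L387269) (flp_b L387248) L670791
theorem L670795 : sm gj N48467 = N48467 := ded_52_1 (flp_h L670791) L387252 L670791
theorem L670796 : sm gi N48467 = N45837 := ded_54_2 (flp_h L387495) (flp_i L266195) (flp_h L266053) L387246 L670791
theorem L670798 : sm gg N45801 = N48468 := rfl
theorem L670800 : sm gc N48468 = N45804 := ded_30_1 (flp_g L387276) (flp_c L387255) L670798
theorem L670802 : sm gd N48468 = N48468 := ded_36_1 (flp_g L670798) L387257 L670798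
theorem L670803 : sm gh N48468 = N45838 := ded_50_2 (flp_g L387500) (flp_h L387259) L670798
theorem L670805 : sm gi N45801 = N48469 := rfl
theorem L670807 : sm gc N48469 = N45805 := ded_33_1 (flp_i L387282) (flp_c L387255) L670805
theorem L670809 : sm gd N48469 = N48469 := ded_39_1 (flp_i L670805) L387257 L670805
theorem L670810 : sm gf N48469 = N45802 := ded_48_1 (flp_i L387261) L387253 L670805
theorem L670812 : sm gj N48469 = N48469 := ded_53_1 (flp_i L670805) L387258 L670805
theorem L670813 : sm gh N45802 = N48470 := rfl
theorem L670815 : sm gc N48470 = N45806 := ded_32_1 (flp_h L387289) (flp_c L387263) L670813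
theorem L670817 : sm ge N48470 = N45803 := ded_43_1 (flp_h L387269) (flp_e L387266) L670813
theorem L670819 : sm gj N48470 = N48470 := ded_52_1 (flp_h L670813) L387268 L670813
theorem L670820 : sm gi N48470 = N45840 := ded_54_2 (flp_h L387515) (flp_i L266209) (flp_h L266060) L387261 L670813
theorem L670822 : sm gj N45804 = N48471 := rfl
theorem L670824 : sm gd N48471 = N46550 := ded_37_1 (flp_j L651156) (flp_d L387278) L670822
theorem L670826 : sm gh N48471 = N45842 := ded_52_2 (flp_j L387527) (flp_h L387280) L670822
theorem L670828 : sm gg N48471 = N48471 := ded_49_1 (flp_j L670822) (flp_g L387276) L266074 L387276 L670822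
theorem L670829 : sm gi N45804 = N48472 := rfl
theorem L670831 : sm gd N48472 = N46551 := ded_39_1 (flp_i L651163) (flp_d L387278) L670829
theorem L670833 : sm gg N48472 = N45805 := ded_51_1 (flp_i L387282) L387276 L670829
theorem L670835 : sm gh N45805 = N48473 := rfl
theorem L670837 : sm gf N48473 = N45806 := ded_47_1 (flp_h L387289) (flp_f L387286) L670835
theorem L670839 : sm gj N48473 = N48473 := ded_52_1 (flp_h L670835) L387288 L670835
theorem L670840 : sm gi N48473 = N45844 := ded_54_2 (flp_h L387538) (flp_i L266227) (flp_h L266075) L387282 L670835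
theorem L670842 : sm gc N45807 = N48474 := rfl
theorem L670844 : sm gf N48474 = N48474 := ded_29_2 (flp_c L670842) L387298 L670842
theorem L670845 : sm gg N48474 = N45809 := ded_30_2 (flp_c L387308) (flp_g L387299) L670842
theorem L670847 : sm gd N48474 = N45862 := ded_27_2 (flp_c L387673) (flp_d L266351) (flp_c L266091) L387296 L670842
theorem L670849 : sm ge N45807 = N48475 := rfl
theorem L670851 : sm gg N48475 = N45810 := ded_41_2 (flp_e L387316) (flp_g L387299) L670849
theorem L670853 : sm gi N45807 = N48476 := rfl
theorem L670855 : sm gd N48476 = N45808 := ded_39_1 (flp_i L387301) L387296 L670853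
theorem L670857 : sm gf N48476 = N48476 := ded_48_1 (flp_i L670853) L387298 L670853
theorem L670858 : sm gg N48476 = N45811 := ded_51_1 (flp_i L387320) (flp_g L387299) L670853
theorem L670860 : sm gb N45809 = N48477 := rfl
theorem L670862 : sm gd N48477 = N45865 := ded_20_2 (flp_b L387697) (flp_d L387314) L670860
theorem L670864 : sm gf N48477 = N45818 := ded_22_2 (flp_b L387358) (flp_f L387310) L670860
theorem L670866 : sm gj N48477 = N45812 := ded_24_2 (flp_b L387328) (flp_j L387312) L670860
theorem L670868 : sm ge N45809 = N48478 := rfl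
theorem L670870 : sm gc N48478 = N45810 := ded_28_1 (flp_e L387316) L387308 L670868
theorem L670872 : sm gj N48478 = N45813 := ded_42_2 (flp_e L387334) (flp_j L387312) L670868
theorem L670874 : sm gi N45809 = N48479 := rfl
theorem L670876 : sm gc N48479 = N45811 := ded_33_1 (flp_i L387320) L387308 L670874
theorem L670878 : sm gd N48479 = N45867 := ded_39_1 (flp_i L387717) (flp_d L387314) L670874
theorem L670880 : sm gf N48479 = N45820 := ded_48_1 (flp_i L387374) (flp_f L387310) L670874
theorem L670882 : sm gj N48479 = N45814 := ded_53_1 (flp_i L387338) (flp_j L387312) L670874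
theorem L670884 : sm gf N45810 = N48480 := rfl
theorem L670886 : sm gj N48480 = N45815 := ded_46_2 (flp_f L387346) (flp_j L387318) L670884
theorem L670888 : sm ge N48480 = N45821 := ded_40_1 (flp_f L387383) (flp_e L266131) (flp_f L266098) L387316 L670884
theorem L670890 : sm gi N45810 = N48481 := rfl
theorem L670892 : sm ge N48481 = N45811 := ded_44_1 (flp_i L387320) L387316 L670890
theorem L670894 : sm gj N48481 = N45816 := ded_53_1 (flp_i L387350) (flp_j L387318) L670890
theorem L670896 : sm gh N45811 = N48482 := rfl
theorem L670898 : sm gf N48482 = N45823 := ded_47_1 (flp_h L387398) (flp_f L387324) L670896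
theorem L670900 : sm gj N48482 = N45817 := ded_52_1 (flp_h L387354) (flp_j L387326) L670896
theorem L670902 : sm ga N45812 = N48483 := rfl
theorem L670904 : sm gd N48483 = N45870 := ded_12_2 (flp_a L387745) (flp_d L387330) L670902
theorem L670906 : sm gf N48483 = N45824 := ded_14_2 (flp_a L387403) (flp_f L387332) L670902
theorem L670908 : sm ge N45812 = N48484 := rfl
theorem L670910 : sm gb N48484 = N45813 := ded_21_1 (flp_e L387334) L387328 L670908
theorem L670912 : sm gi N45812 = N48485 := rfl
theorem L670914 : sm gb N48485 = N45814 := ded_26_1 (flp_i L387338) L387328 L670912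
theorem L670916 : sm gd N48485 = N45872 := ded_39_1 (flp_i L387763) (flp_d L387330) L670912
theorem L670918 : sm gf N48485 = N45826 := ded_48_1 (flp_i L387417) (flp_f L387332) L670912
theorem L670920 : sm gd N45813 = N48486 := rfl
theorem L670922 : sm ge N48486 = N45873 := ded_34_2 (flp_d L387771) (flp_e L266403) (flp_d L266114) L387334 L670920
theorem L670924 : sm gf N45813 = N48487 := rfl
theorem L670926 : sm gc N48487 = N45815 := ded_29_1 (flp_f L387346) (flp_c L387336) L670924
theorem L670928 : sm ge N48487 = N45827 := ded_40_1 (flp_f L387425) (flp_e L266151) (flp_f L266112) L387334 L670924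
theorem L670930 : sm gi N45813 = N48488 := rfl
theorem L670932 : sm gc N48488 = N45816 := ded_33_1 (flp_i L387350) (flp_c L387336) L670930
theorem L670934 : sm ge N48488 = N45814 := ded_44_1 (flp_i L387338) L387334 L670930
theorem L670936 : sm gh N45814 = N48489 := rfl
theorem L670938 : sm gc N48489 = N45817 := ded_32_1 (flp_h L387354) (flp_c L387340) L670936
theorem L670940 : sm gf N48489 = N45829 := ded_47_1 (flp_h L387441) (flp_f L387344) L670936
theorem L670942 : sm gg N45815 = N48490 := rfl
theorem L670944 : sm ge N48490 = N45830 := ded_41_1 (flp_g L387447) (flp_e L387348) L670942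
theorem L670946 : sm gi N45815 = N48491 := rfl
theorem L670948 : sm ge N48491 = N45831 := ded_44_1 (flp_i L387453) (flp_e L387348) L670946
theorem L670950 : sm gf N48491 = N45816 := ded_48_1 (flp_i L387350) L387346 L670946
theorem L670952 : sm gh N45816 = N48492 := rfl
theorem L670954 : sm ge N48492 = N45817 := ded_43_1 (flp_h L387354) (flp_e L387352) L670952
theorem L670956 : sm ga N45818 = N48493 := rfl
theorem L670958 : sm gd N48493 = N45877 := ded_12_2 (flp_a L387801) (flp_d L387360) L670956
theorem L670960 : sm gg N48493 = N48493 := ded_15_2 (flp_a L670956) L387362 L670956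
theorem L670961 : sm gj N48493 = N45824 := ded_16_2 (flp_a L387403) (flp_j L387363) L670956
theorem L670963 : sm ge N45818 = N48494 := rfl
theorem L670965 : sm gb N48494 = N45819 := ded_21_1 (flp_e L387365) L387358 L670963
theorem L670967 : sm gg N48494 = N48494 := ded_41_2 (flp_e L670963) L387362 L670963
theorem L670968 : sm gj N48494 = N45825 := ded_42_2 (flp_e L387409) (flp_j L387363) L670963
theorem L670970 : sm gd N48494 = N46484 := ded_34_1 (flp_e L650601) L272869 (flp_e L266435) (flp_d L387360) L670963
theorem L670972 : sm gi N45818 = N48495 := rfl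
theorem L670974 : sm gb N48495 = N45820 := ded_26_1 (flp_i L387374) L387358 L670972
theorem L670976 : sm gd N48495 = N45878 := ded_39_1 (flp_i L387812) (flp_d L387360) L670972
theorem L670978 : sm gg N48495 = N48495 := ded_51_1 (flp_i L670972) L387362 L670972
theorem L670979 : sm gj N48495 = N45826 := ded_53_1 (flp_i L387417) (flp_j L387363) L670972
theorem L670981 : sm gf N45819 = N48496 := rfl
theorem L670983 : sm gc N48496 = N45821 := ded_29_1 (flp_f L387383) (flp_c L387367) L670981
theorem L670985 : sm gd N48496 = N46486 := ded_35_1 (flp_f L650622) (flp_d L387372) L670981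
theorem L670987 : sm gj N48496 = N45827 := ded_46_2 (flp_f L387425) (flp_j L387370) L670981
theorem L670989 : sm gi N45819 = N48497 := rfl
theorem L670991 : sm gc N48497 = N45822 := ded_33_1 (flp_i L387389) (flp_c L387367) L670989
theorem L670993 : sm gd N48497 = N46487 := ded_39_1 (flp_i L650629) (flp_d L387372) L670989
theorem L670995 : sm ge N48497 = N45820 := ded_44_1 (flp_i L387374) L387365 L670989
theorem L670997 : sm gg N48497 = N48497 := ded_51_1 (flp_i L670989) L387369 L670989
theorem L670998 : sm gj N48497 = N45828 := ded_53_1 (flp_i L387431) (flp_j L387370) L670989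
theorem L671000 : sm gh N45820 = N48498 := rfl
theorem L671002 : sm gc N48498 = N45823 := ded_32_1 (flp_h L387398) (flp_c L387376) L671000
theorem L671004 : sm gg N48498 = N48498 := ded_50_1 (flp_h L671000) L387380 L671000
theorem L671005 : sm gj N48498 = N45829 := ded_52_1 (flp_h L387441) (flp_j L387381) L671000
theorem L671007 : sm gg N45821 = N48499 := rfl
theorem L671009 : sm gd N48499 = N45846 := ded_36_1 (flp_g L387548) (flp_d L387385) L671007
theorem L671011 : sm gf N48499 = N48499 := ded_45_1 (flp_g L671007) (flp_f L387383) L266133 L387383 L671007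
theorem L671012 : sm gi N45821 = N48500 := rfl
theorem L671014 : sm gd N48500 = N45847 := ded_39_1 (flp_i L387555) (flp_d L387385) L671012
theorem L671016 : sm gf N48500 = N45822 := ded_48_1 (flp_i L387389) L387383 L671012
theorem L671018 : sm gj N48500 = N45831 := ded_53_1 (flp_i L387453) (flp_j L387387) L671012
theorem L671020 : sm gh N45822 = N48501 := rfl
theorem L671022 : sm ge N48501 = N45823 := ded_43_1 (flp_h L387398) (flp_e L387393) L671020
theorem L671024 : sm gg N48501 = N48501 := ded_50_1 (flp_h L671020) L387395 L671020
theorem L671025 : sm gj N48501 = N45832 := ded_52_1 (flp_h L387459) (flp_j L387396) L671020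
theorem L671027 : sm ge N45824 = N48502 := rfl
theorem L671029 : sm ga N48502 = N45825 := ded_13_1 (flp_e L387409) L387403 L671027
theorem L671031 : sm gg N48502 = N45833 := ded_41_2 (flp_e L387465) (flp_g L387407) L671027
theorem L671033 : sm gd N48502 = N46491 := ded_34_1 (flp_e L650664) L272922 (flp_e L266468) (flp_d L387405) L671027
theorem L671035 : sm gi N45824 = N48503 := rfl
theorem L671037 : sm ga N48503 = N45826 := ded_18_1 (flp_i L387417) L387403 L671035
theorem L671039 : sm gd N48503 = N45880 := ded_39_1 (flp_i L387834) (flp_d L387405) L671035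
theorem L671041 : sm gg N48503 = N45834 := ded_51_1 (flp_i L387472) (flp_g L387407) L671035
theorem L671043 : sm gf N45825 = N48504 := rfl
theorem L671045 : sm gb N48504 = N45827 := ded_22_1 (flp_f L387425) (flp_b L387411) L671043
theorem L671047 : sm gd N48504 = N46493 := ded_35_1 (flp_f L650681) (flp_d L387415) L671043
theorem L671049 : sm gi N45825 = N48505 := rfl
theorem L671051 : sm gb N48505 = N45828 := ded_26_1 (flp_i L387431) (flp_b L387411) L671049
theorem L671053 : sm gd N48505 = N46494 := ded_39_1 (flp_i L650687) (flp_d L387415) L671049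
theorem L671055 : sm ge N48505 = N45826 := ded_44_1 (flp_i L387417) L387409 L671049
theorem L671057 : sm gg N48505 = N45836 := ded_51_1 (flp_i L387486) (flp_g L387413) L671049
theorem L671059 : sm gh N45826 = N48506 := rfl
theorem L671061 : sm gb N48506 = N45829 := ded_25_1 (flp_h L387441) (flp_b L387419) L671059
theorem L671063 : sm gg N48506 = N45837 := ded_50_1 (flp_h L387495) (flp_g L387423) L671059
theorem L671065 : sm gg N45827 = N48507 := rfl
theorem L671067 : sm gc N48507 = N45830 := ded_30_1 (flp_g L387447) (flp_c L387427) L671065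
theorem L671069 : sm gd N48507 = N46496 := ded_36_1 (flp_g L650704) (flp_d L387429) L671065
theorem L671071 : sm gf N48507 = N45838 := ded_45_1 (flp_g L387500) (flp_f L266202) (flp_g L266155) L387425 L671065
theorem L671073 : sm gi N45827 = N48508 := rfl
theorem L671075 : sm gc N48508 = N45831 := ded_33_1 (flp_i L387453) (flp_c L387427) L671073
theorem L671077 : sm gd N48508 = N46497 := ded_39_1 (flp_i L650711) (flp_d L387429) L671073
theorem L671079 : sm gf N48508 = N45828 := ded_48_1 (flp_i L387431) L387425 L671073
theorem L671081 : sm gh N45828 = N48509 := rfl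
theorem L671083 : sm gc N48509 = N45832 := ded_32_1 (flp_h L387459) (flp_c L387433) L671081
theorem L671085 : sm ge N48509 = N45829 := ded_43_1 (flp_h L387441) (flp_e L387437) L671081
theorem L671087 : sm gg N48509 = N45840 := ded_50_1 (flp_h L387515) (flp_g L387439) L671081
theorem L671089 : sm gd N45829 = N48510 := rfl
theorem L671091 : sm gg N48510 = N45841 := ded_36_2 (flp_d L387522) (flp_g L387445) L671089
theorem L671093 : sm gh N48510 = N45882 := ded_38_2 (flp_d L387856) (flp_h L266484) (flp_d L266163) L387441 L671089
theorem L671095 : sm gj N45830 = N48511 := rfl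
theorem L671097 : sm gd N48511 = N45849 := ded_37_1 (flp_j L387574) (flp_d L387449) L671095
theorem L671099 : sm gf N48511 = N45842 := ded_46_1 (flp_j L387527) (flp_f L387451) L671095
theorem L671101 : sm gi N45830 = N48512 := rfl
theorem L671103 : sm gd N48512 = N45850 := ded_39_1 (flp_i L387582) (flp_d L387449) L671101
theorem L671105 : sm gf N48512 = N45843 := ded_48_1 (flp_i L387532) (flp_f L387451) L671101
theorem L671107 : sm gg N48512 = N45831 := ded_51_1 (flp_i L387453) L387447 L671101
theorem L671109 : sm gh N45831 = N48513 := rfl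
theorem L671111 : sm gf N48513 = N45832 := ded_47_1 (flp_h L387459) (flp_f L387457) L671109
theorem L671113 : sm gi N45833 = N48514 := rfl
theorem L671115 : sm ga N48514 = N45836 := ded_18_1 (flp_i L387486) (flp_a L387467) L671113
theorem L671117 : sm gd N48514 = N46504 := ded_39_1 (flp_i L650765) (flp_d L387470) L671113
theorem L671119 : sm ge N48514 = N45834 := ded_44_1 (flp_i L387472) L387465 L671113
theorem L671121 : sm gj N48514 = N48514 := ded_53_1 (flp_i L671113) L387469 L671113
theorem L671122 : sm gh N45834 = N48515 := rfl
theorem L671124 : sm ga N48515 = N45837 := ded_17_1 (flp_h L387495) (flp_a L387474) L671122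
theorem L671126 : sm gj N48515 = N48515 := ded_52_1 (flp_h L671122) L387478 L671122
theorem L671127 : sm gg N45835 = N48516 := rfl
theorem L671129 : sm gb N48516 = N45838 := ded_23_1 (flp_g L387500) (flp_b L387481) L671127
theorem L671131 : sm gd N48516 = N46506 := ded_36_1 (flp_g L650781) (flp_d L387483) L671127
theorem L671133 : sm gi N45835 = N48517 := rfl
theorem L671135 : sm gb N48517 = N45839 := ded_26_1 (flp_i L387506) (flp_b L387481) L671133
theorem L671137 : sm gd N48517 = N46507 := ded_39_1 (flp_i L650788) (flp_d L387483) L671133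
theorem L671139 : sm gf N48517 = N45836 := ded_48_1 (flp_i L387486) L387479 L671133
theorem L671141 : sm gj N48517 = N48517 := ded_53_1 (flp_i L671133) L387485 L671133
theorem L671142 : sm gh N45836 = N48518 := rfl
theorem L671144 : sm gb N48518 = N45840 := ded_25_1 (flp_h L387515) (flp_b L387488) L671142
theorem L671146 : sm ge N48518 = N45837 := ded_43_1 (flp_h L387495) (flp_e L387492) L671142
theorem L671148 : sm gj N48518 = N48518 := ded_52_1 (flp_h L671142) L387494 L671142
theorem L671149 : sm gd N45837 = N48519 := rfl
theorem L671151 : sm gb N48519 = N45841 := ded_20_1 (flp_d L387522) (flp_b L387497) L671149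
theorem L671153 : sm gj N48519 = N48519 := ded_37_2 (flp_d L671149) L387499 L671149
theorem L671154 : sm gh N48519 = N45884 := ded_38_2 (flp_d L387873) (flp_h L266503) (flp_d L266199) L387495 L671149
theorem L671156 : sm gj N45838 = N48520 := rfl
theorem L671158 : sm gc N48520 = N45842 := ded_31_1 (flp_j L387527) (flp_c L387502) L671156
theorem L671160 : sm gd N48520 = N46510 := ded_37_1 (flp_j L650815) (flp_d L387504) L671156
theorem L671162 : sm gg N48520 = N48520 := ded_49_1 (flp_j L671156) (flp_g L387500) L266208 L387500 L671156
theorem L671163 : sm gi N45838 = N48521 := rfl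
theorem L671165 : sm gc N48521 = N45843 := ded_33_1 (flp_i L387532) (flp_c L387502) L671163
theorem L671167 : sm gd N48521 = N46511 := ded_39_1 (flp_i L650822) (flp_d L387504) L671163
theorem L671169 : sm gg N48521 = N45839 := ded_51_1 (flp_i L387506) L387500 L671163
theorem L671171 : sm gh N45839 = N48522 := rfl
theorem L671173 : sm gc N48522 = N45844 := ded_32_1 (flp_h L387538) (flp_c L387508) L671171
theorem L671175 : sm gf N48522 = N45840 := ded_47_1 (flp_h L387515) (flp_f L387512) L671171
theorem L671177 : sm gj N48522 = N48522 := ded_52_1 (flp_h L671171) L387514 L671171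
theorem L671178 : sm gd N45840 = N48523 := rfl
theorem L671180 : sm gj N48523 = N48523 := ded_37_2 (flp_d L671178) L387521 L671178
theorem L671181 : sm gh N48523 = N46513 := ded_38_2 (flp_d L650838) (flp_h L273041) (flp_d L266213) L387515 L671178
theorem L671183 : sm ge N45841 = N48524 := rfl
theorem L671185 : sm gj N48524 = N48524 := ded_42_2 (flp_e L671183) L387524 L671183
theorem L671186 : sm gh N48524 = N45885 := ded_43_2 (flp_e L387880) (flp_h L387525) L671183
theorem L671188 : sm gi N45842 = N48525 := rfl
theorem L671190 : sm gd N48525 = N45853 := ded_39_1 (flp_i L387604) (flp_d L387529) L671188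
theorem L671192 : sm gg N48525 = N48525 := ded_51_1 (flp_i L671188) L387531 L671188
theorem L671193 : sm gj N48525 = N45843 := ded_53_1 (flp_i L387532) L387527 L671188
theorem L671195 : sm gh N45843 = N48526 := rfl
theorem L671197 : sm gg N48526 = N45844 := ded_50_1 (flp_h L387538) (flp_g L387536) L671195
theorem L671199 : sm gj N45846 = N48527 := rfl
theorem L671201 : sm gc N48527 = N46517 := ded_31_1 (flp_j L650865) (flp_c L387550) L671199
theorem L671203 : sm gf N48527 = N48527 := ded_46_1 (flp_j L671199) L387554 L671199
theorem L671204 : sm gh N48527 = N46553 := ded_52_2 (flp_j L651176) (flp_h L387552) L671199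
theorem L671206 : sm gg N48527 = N45849 := ded_49_1 (flp_j L387574) (flp_g L266265) (flp_j L266243) L387548 L671199
theorem L671208 : sm gi N45846 = N48528 := rfl
theorem L671210 : sm gc N48528 = N46518 := ded_33_1 (flp_i L650873) (flp_c L387550) L671208
theorem L671212 : sm gf N48528 = N48528 := ded_48_1 (flp_i L671208) L387554 L671208
theorem L671213 : sm gg N48528 = N45847 := ded_51_1 (flp_i L387555) L387548 L671208
theorem L671215 : sm gi N45849 = N48529 := rfl
theorem L671217 : sm gc N48529 = N46519 := ded_33_1 (flp_i L650879) (flp_c L387576) L671215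
theorem L671219 : sm gf N48529 = N45853 := ded_48_1 (flp_i L387604) (flp_f L387578) L671215
theorem L671221 : sm gj N48529 = N45850 := ded_53_1 (flp_i L387582) L387574 L671215
theorem L671223 : sm gi N45862 = N48530 := rfl
theorem L671225 : sm gc N48530 = N45864 := ded_33_1 (flp_i L387688) L387673 L671223
theorem L671227 : sm gf N48530 = N48530 := ded_48_1 (flp_i L671223) L387675 L671223
theorem L671228 : sm gg N48530 = N45867 := ded_51_1 (flp_i L387717) (flp_g L387676) L671223
theorem L671230 : sm gi N45865 = N48531 := rfl
theorem L671232 : sm gb N48531 = N45867 := ded_26_1 (flp_i L387717) L387697 L671230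
theorem L671234 : sm gc N48531 = N45876 := ded_33_1 L646929 (flp_c L387705) L671230
theorem L671236 : sm ge N48531 = N45875 := ded_44_1 L387789 (flp_e L629382) L671230
theorem L671238 : sm gf N48531 = N45878 := ded_48_1 (flp_i L387812) (flp_f L387699) L671230
theorem L671240 : sm gj N48531 = N45872 := ded_53_1 (flp_i L387763) (flp_j L387701) L671230
theorem L671242 : sm gh N48531 = N45874 := ded_54_1 (flp_i L387775) L266407 L646481 (flp_h L387703) L671230
theorem L671244 : sm gd N45866 = N48532 := rfl
theorem L671246 : sm gb N48532 = N46331 := ded_20_1 (flp_d L391505) (flp_b L629294) L671244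
theorem L671248 : sm gf N48532 = N46337 := ded_35_2 (flp_d L391553) L629306 L671244
theorem L671250 : sm gj N48532 = N45873 := ded_37_2 (flp_d L387771) (flp_j L387711) L671244
theorem L671252 : sm gi N45866 = N48533 := rfl
theorem L671254 : sm gb N48533 = N45875 := ded_26_1 L387789 (flp_b L629294) L671252
theorem L671256 : sm gc N48533 = N45868 := ded_33_1 (flp_i L387725) (flp_c L387709) L671252
theorem L671258 : sm ge N48533 = N45867 := ded_44_1 (flp_i L387717) L387707 L671252
theorem L671260 : sm gf N48533 = N45881 := ded_48_1 L387854 L629306 L671252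
theorem L671262 : sm gj N48533 = N45874 := ded_53_1 (flp_i L387775) (flp_j L387711) L671252
theorem L671264 : sm gh N48533 = N45872 := ded_54_1 (flp_i L387763) L266399 L646475 (flp_h L387713) L671252
theorem L671266 : sm gh N45867 = N48534 := rfl
theorem L671268 : sm gb N48534 = N45874 := ded_25_1 (flp_h L671242) L671232 L671266
theorem L671270 : sm gc N48534 = N45869 := ded_32_1 (flp_h L387735) (flp_c L387719) L671266
theorem L671272 : sm ge N48534 = N45872 := ded_43_1 (flp_h L671264) L671258 L671266
theorem L671274 : sm gf N48534 = N45879 := ded_47_1 (flp_h L387823) (flp_f L387721) L671266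
theorem L671276 : sm gj N48534 = N45875 := ded_52_1 (flp_h L387783) (flp_j L387723) L671266
theorem L671278 : sm gi N48534 = N45871 := ded_54_2 L646524 (flp_i L268980) (flp_h L266373) L387717 L671266
theorem L671280 : sm gi N45870 = N48535 := rfl
theorem L671282 : sm ga N48535 = N45872 := ded_18_1 (flp_i L387763) L387745 L671280
theorem L671284 : sm gc N48535 = N45900 := ded_33_1 (flp_i L388010) (flp_c L387747) L671280
theorem L671286 : sm gf N48535 = N45880 := ded_48_1 (flp_i L387834) (flp_f L387749) L671280
theorem L671288 : sm gd N45871 = N48536 := rfl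
theorem L671290 : sm gb N48536 = N45873 := ded_20_1 (flp_d L387771) (flp_b L387755) L671288
theorem L671292 : sm gf N48536 = N46335 := ded_35_2 (flp_d L391538) (flp_f L646520) L671288
theorem L671294 : sm gj N48536 = N46331 := ded_37_2 (flp_d L391505) (flp_j L646522) L671288
theorem L671296 : sm gh N45873 = N48537 := rfl
theorem L671298 : sm gf N48537 = N46520 := ded_47_1 (flp_h L650886) (flp_f L387773) L671296
theorem L671300 : sm gd N48537 = N46328 := ded_38_1 (flp_h L391485) (flp_d L269029) (flp_h L266407) L387771 L671296
theorem L671302 : sm gi N45873 = N48538 := rfl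
theorem L671304 : sm gd N48538 = N45874 := ded_39_1 (flp_i L387775) L387771 L671302
theorem L671306 : sm gf N48538 = N46521 := ded_48_1 (flp_i L650891) (flp_f L387773) L671302
theorem L671308 : sm gd N45875 = N48539 := rfl
theorem L671310 : sm gf N48539 = N45882 := ded_35_2 (flp_d L387856) (flp_f L387787) L671308
theorem L671312 : sm gi N48539 = N46331 := ded_39_2 (flp_d L391505) (flp_i L387789) L671308
theorem L671314 : sm gi N45877 = N48540 := rfl
theorem L671316 : sm ga N48540 = N45878 := ded_18_1 (flp_i L387812) L387801 L671314
theorem L671318 : sm gc N48540 = N45909 := ded_33_1 (flp_i L388078) (flp_c L387803) L671314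
theorem L671320 : sm ge N48540 = N46461 := ded_44_1 L650398 (flp_e L387805) L671314
theorem L671322 : sm gg N48540 = N48540 := ded_51_1 (flp_i L671314) L387807 L671314
theorem L671323 : sm gj N48540 = N45880 := ded_53_1 (flp_i L387834) (flp_j L387808) L671314
theorem L671325 : sm gh N48540 = N46460 := ded_54_1 (flp_i L650378) L272670 L646370 (flp_h L387810) L671314
theorem L671327 : sm gd N45879 = N48541 := rfl
theorem L671329 : sm gb N48541 = N46521 := ded_20_1 L650893 L649305 L671327
theorem L671331 : sm gg N48541 = N48541 := ded_36_2 (flp_d L671327) L387829 L671327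
theorem L671332 : sm gj N48541 = N45882 := ded_37_2 (flp_d L387856) (flp_j L387830) L671327
theorem L671334 : sm gi N48541 = N46335 := ded_39_2 (flp_d L391538) (flp_i L387832) L671327
theorem L671336 : sm gh N45880 = N48542 := rfl
theorem L671338 : sm ga N48542 = N45881 := ded_17_1 (flp_h L387844) (flp_a L387836) L671336
theorem L671340 : sm gc N48542 = N45912 := ded_32_1 (flp_h L388107) (flp_c L387838) L671336
theorem L671342 : sm ge N48542 = N46455 := ded_43_1 L650343 (flp_e L387840) L671336
theorem L671344 : sm gg N48542 = N45883 := ded_50_1 (flp_h L387862) (flp_g L387842) L671336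
theorem L671346 : sm gj N48542 = N46460 := ded_52_1 (flp_h L671325) L671323 L671336
theorem L671348 : sm gi N48542 = N46336 := ded_54_2 (flp_h L391543) (flp_i L269085) (flp_h L266472) L387834 L671336
theorem L671350 : sm gd N45881 = N48543 := rfl
theorem L671352 : sm gb N48543 = N45882 := ded_20_1 (flp_d L387856) (flp_b L387846) L671350
theorem L671354 : sm gg N48543 = N45884 := ded_36_2 (flp_d L387873) (flp_g L387852) L671350
theorem L671356 : sm gj N48543 = N46521 := ded_37_2 L650893 (flp_j L649011) L671350
theorem L671358 : sm gi N48543 = N46337 := ded_39_2 (flp_d L391553) (flp_i L387854) L671350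
theorem L671360 : sm ge N45882 = N48544 := rfl
theorem L671362 : sm gg N48544 = N45885 := ded_41_2 (flp_e L387880) (flp_g L387858) L671360
theorem L671364 : sm gi N48544 = N46338 := ded_44_2 (flp_e L391559) (flp_i L387860) L671360
theorem L671366 : sm gd N48544 = N46522 := ded_34_1 (flp_e L650896) (flp_d L273384) (flp_e L266488) L387856 L671360
theorem L671368 : sm gh N46034 = N48545 := rfl
theorem L671370 : sm ga N48545 = N46147 := ded_17_1 (flp_h L390022) (flp_a L615778) L671368
theorem L671372 : sm gb N48545 = N48545 := ded_25_1 (flp_h L671368) L389175 L671368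
theorem L671373 : sm ge N48545 = N46038 := ded_43_1 (flp_h L389205) (flp_e L389177) L671368
theorem L671375 : sm gf N48545 = N46156 := ded_47_1 (flp_h L390092) (flp_f L615782) L671368
theorem L671377 : sm gg N48545 = N46035 := ded_50_1 (flp_h L389181) L389173 L671368
theorem L671379 : sm gi N46035 = N48546 := rfl
theorem L671381 : sm gb N48546 = N48546 := ded_26_1 (flp_i L671379) L389183 L671379
theorem L671382 : sm ge N48546 = N46040 := ded_44_1 (flp_i L389220) (flp_e L389184) L671379
theorem L671384 : sm gf N48546 = N46556 := ded_48_1 (flp_i L651198) (flp_f L389186) L671379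
theorem L671386 : sm gj N48546 = N46037 := ded_53_1 (flp_i L389196) (flp_j L389188) L671379
theorem L671388 : sm gh N48546 = N46263 := ded_54_1 (flp_i L390984) (flp_h L268675) (flp_i L267402) L389181 L671379
theorem L671390 : sm gi N46036 = N48547 := rfl
theorem L671392 : sm gb N48547 = N48547 := ded_26_1 (flp_i L671390) L389192 L671390
theorem L671393 : sm gd N48547 = N46037 := ded_39_1 (flp_i L389196) L389190 L671390
theorem L671395 : sm gf N48547 = N46557 := ded_48_1 (flp_i L651207) (flp_f L389193) L671390
theorem L671397 : sm gi N46038 = N48548 := rfl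
theorem L671399 : sm gb N48548 = N48548 := ded_26_1 (flp_i L671397) L389207 L671397
theorem L671400 : sm gf N48548 = N48548 := ded_48_1 (flp_i L671397) L389208 L671397
theorem L671401 : sm gg N48548 = N46040 := ded_51_1 (flp_i L389220) (flp_g L389209) L671397
theorem L671403 : sm gh N48548 = N46268 := ded_54_1 (flp_i L391020) (flp_h L268697) (flp_i L267416) L389205 L671397
theorem L671405 : sm gh N46153 = N48549 := rfl
theorem L671407 : sm ga N48549 = N46154 := ded_17_1 (flp_h L390075) (flp_a L390067) L671405
theorem L671409 : sm gb N48549 = N48549 := ded_25_1 (flp_h L671405) L390069 L671405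
theorem L671410 : sm ge N48549 = N48549 := ded_43_1 (flp_h L671405) L390071 L671405
theorem L671411 : sm gg N48549 = N48549 := ded_50_1 (flp_h L671405) L390072 L671405
theorem L671412 : sm gj N48549 = N46156 := ded_52_1 (flp_h L390092) (flp_j L390073) L671405
theorem L671414 : sm gd N46426 = N48549 := ded_12_0 L671407 (flp_d L649287) (flp_a L650088)
theorem L671416 : sm gc N46201 = N48550 := rfl
theorem L671418 : sm ga N48550 = N46264 := ded_11_1 (flp_c L390993) (flp_a L390465) L671416
theorem L671420 : sm gf N48550 = N46558 := ded_29_2 (flp_c L651213) (flp_f L390467) L671416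
theorem L671422 : sm gh N48550 = N48550 := ded_32_2 (flp_c L671416) L390469 L671416
theorem L671423 : sm gi N46201 = N48551 := rfl
theorem L671425 : sm ga N48551 = N46266 := ded_18_1 (flp_i L391005) (flp_a L390465) L671423
theorem L671427 : sm gd N48551 = N46202 := ded_39_1 (flp_i L390470) L390463 L671423
theorem L671429 : sm gf N48551 = N46559 := ded_48_1 (flp_i L651220) (flp_f L390467) L671423
theorem L671431 : sm gh N46247 = N48552 := rfl
theorem L671433 : sm ga N48552 = N46328 := ded_17_1 (flp_h L391485) (flp_a L390851) L671431
theorem L671435 : sm gc N48552 = N48552 := ded_32_1 (flp_h L671431) L390855 L671431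
theorem L671436 : sm gf N48552 = N46523 := ded_47_1 (flp_h L650903) (flp_f L390853) L671431
theorem L671438 : sm gc N46262 = N48553 := rfl
theorem L671440 : sm gf N48553 = N46560 := ded_29_2 (flp_c L651228) (flp_f L390979) L671438
theorem L671442 : sm gj N48553 = N46264 := ded_31_2 (flp_c L390993) (flp_j L390981) L671438
theorem L671444 : sm gh N48553 = N48553 := ded_32_2 (flp_c L671438) L390983 L671438
theorem L671445 : sm ge N46262 = N48554 := rfl
theorem L671447 : sm gb N48554 = N48554 := ded_21_1 (flp_e L671445) L390978 L671445
theorem L671448 : sm gj N48554 = N46265 := ded_42_2 (flp_e L390998) (flp_j L390981) L671445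
theorem L671450 : sm gh N48554 = N48554 := ded_43_2 (flp_e L671445) L390983 L671445
theorem L671451 : sm gd N48554 = N46270 := ded_34_1 (flp_e L391034) (flp_d L268703) (flp_e L268678) L390976 L671445
theorem L671453 : sm gf N48554 = N48554 := ded_40_2 (flp_e L671445) L390979 L295771 (flp_f L390979) L671445
theorem L671454 : sm gi N46262 = N48555 := rfl
theorem L671456 : sm gb N48555 = N48555 := ded_26_1 (flp_i L671454) L390978 L671454
theorem L671457 : sm gd N48555 = N46263 := ded_39_1 (flp_i L390984) L390976 L671454
theorem L671459 : sm gf N48555 = N46561 := ded_48_1 (flp_i L651234) (flp_f L390979) L671454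
theorem L671461 : sm gj N48555 = N46266 := ded_53_1 (flp_i L391005) (flp_j L390981) L671454
theorem L671463 : sm gb N46264 = N48556 := rfl
theorem L671465 : sm gf N48556 = N46562 := ded_22_2 (flp_b L651242) (flp_f L390995) L671463
theorem L671467 : sm gh N48556 = N48556 := ded_25_2 (flp_b L671463) L390997 L671463
theorem L671468 : sm gc N48556 = N48556 := ded_19_2 (flp_b L671463) (flp_c L390993) L268686 L390993 L671463
theorem L671469 : sm ge N46264 = N48557 := rfl
theorem L671471 : sm gc N48557 = N46265 := ded_28_1 (flp_e L390998) L390993 L671469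
theorem L671473 : sm gh N48557 = N48557 := ded_43_2 (flp_e L671469) L390997 L671469
theorem L671474 : sm gf N48557 = N48557 := ded_40_2 (flp_e L671469) L390995 L295782 (flp_f L390995) L671469
theorem L671475 : sm gi N46264 = N48558 := rfl
theorem L671477 : sm gc N48558 = N46266 := ded_33_1 (flp_i L391005) L390993 L671475
theorem L671479 : sm gf N48558 = N46563 := ded_48_1 (flp_i L651248) (flp_f L390995) L671475
theorem L671481 : sm gi N46265 = N48559 := rfl
theorem L671483 : sm gb N48559 = N48559 := ded_26_1 (flp_i L671481) L391000 L671481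
theorem L671484 : sm gd N48559 = N46275 := ded_39_1 (flp_i L391071) (flp_d L391002) L671481
theorem L671486 : sm ge N48559 = N46266 := ded_44_1 (flp_i L391005) L390998 L671481
theorem L671488 : sm gf N48559 = N48559 := ded_48_1 (flp_i L671481) L391004 L671481
theorem L671489 : sm gh N46266 = N48560 := rfl
theorem L671491 : sm gb N48560 = N48560 := ded_25_1 (flp_h L671489) L391007 L671489
theorem L671492 : sm gf N48560 = N46564 := ded_47_1 (flp_h L651254) (flp_f L391010) L671489
theorem L671494 : sm gi N48560 = N48560 := ded_54_2 (flp_h L671489) (flp_i L391005) L268689 L391005 L671489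
theorem L671495 : sm gc N46267 = N48561 := rfl
theorem L671497 : sm gf N48561 = N48561 := ded_29_2 (flp_c L671495) L391015 L671495
theorem L671498 : sm gg N48561 = N46269 := ded_30_2 (flp_c L391026) (flp_g L391016) L671495
theorem L671500 : sm gh N48561 = N46286 := ded_32_2 (flp_c L391156) (flp_h L391018) L671495
theorem L671502 : sm gi N46267 = N48562 := rfl
theorem L671504 : sm gb N48562 = N48562 := ded_26_1 (flp_i L671502) L391014 L671502
theorem L671505 : sm gd N48562 = N46268 := ded_39_1 (flp_i L391020) L391012 L671502
theorem L671507 : sm gf N48562 = N48562 := ded_48_1 (flp_i L671502) L391015 L671502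
theorem L671508 : sm gg N48562 = N46271 := ded_51_1 (flp_i L391042) (flp_g L391016) L671502
theorem L671510 : sm gb N46269 = N48563 := rfl
theorem L671512 : sm gf N48563 = N46277 := ded_22_2 (flp_b L391084) (flp_f L391028) L671510
theorem L671514 : sm gj N48563 = N46272 := ded_24_2 (flp_b L391051) (flp_j L391030) L671510
theorem L671516 : sm gh N48563 = N46289 := ded_25_2 (flp_b L391177) (flp_h L391032) L671510
theorem L671518 : sm gc N48563 = N48563 := ded_19_2 (flp_b L671510) (flp_c L391026) L268705 L391026 L671510
theorem L671519 : sm ge N46269 = N48564 := rfl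
theorem L671521 : sm gc N48564 = N46270 := ded_28_1 (flp_e L391034) L391026 L671519
theorem L671523 : sm gj N48564 = N46273 := ded_42_2 (flp_e L391058) (flp_j L391030) L671519
theorem L671525 : sm gh N48564 = N46290 := ded_43_2 (flp_e L391186) (flp_h L391032) L671519
theorem L671527 : sm gf N48564 = N48564 := ded_40_2 (flp_e L671519) L391028 L268740 (flp_f L391028) L671519
theorem L671528 : sm gi N46269 = N48565 := rfl
theorem L671530 : sm gc N48565 = N46271 := ded_33_1 (flp_i L391042) L391026 L671528
theorem L671532 : sm gf N48565 = N46278 := ded_48_1 (flp_i L391093) (flp_f L391028) L671528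
theorem L671534 : sm gj N48565 = N46274 := ded_53_1 (flp_i L391065) (flp_j L391030) L671528
theorem L671536 : sm gi N46270 = N48566 := rfl
theorem L671538 : sm gb N48566 = N48566 := ded_26_1 (flp_i L671536) L391036 L671536
theorem L671539 : sm ge N48566 = N46271 := ded_44_1 (flp_i L391042) L391034 L671536
theorem L671541 : sm gf N48566 = N48566 := ded_48_1 (flp_i L671536) L391041 L671536
theorem L671542 : sm gj N48566 = N46275 := ded_53_1 (flp_i L391071) (flp_j L391037) L671536
theorem L671544 : sm ga N46272 = N48567 := rfl
theorem L671546 : sm gc N48567 = N48567 := ded_11_2 (flp_a L671544) L391057 L671544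
theorem L671547 : sm gf N48567 = N46280 := ded_14_2 (flp_a L391110) (flp_f L391053) L671544
theorem L671549 : sm gh N48567 = N46294 := ded_17_2 (flp_a L391219) (flp_h L391055) L671544
theorem L671551 : sm ge N46272 = N48568 := rfl
theorem L671553 : sm gb N48568 = N46273 := ded_21_1 (flp_e L391058) L391051 L671551
theorem L671555 : sm gc N48568 = N48568 := ded_28_1 (flp_e L671551) L391057 L671551
theorem L671556 : sm gh N48568 = N46295 := ded_43_2 (flp_e L391226) (flp_h L391055) L671551
theorem L671558 : sm gf N48568 = N48568 := ded_40_2 (flp_e L671551) L391053 L268757 (flp_f L391053) L671551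
theorem L671559 : sm gi N46272 = N48569 := rfl
theorem L671561 : sm gb N48569 = N46274 := ded_26_1 (flp_i L391065) L391051 L671559
theorem L671563 : sm gc N48569 = N48569 := ded_33_1 (flp_i L671559) L391057 L671559
theorem L671564 : sm gf N48569 = N46281 := ded_48_1 (flp_i L391118) (flp_f L391053) L671559
theorem L671566 : sm gd N46273 = N48570 := rfl
theorem L671568 : sm gf N48570 = N48570 := ded_35_2 (flp_d L671566) L391064 L671566
theorem L671569 : sm gi N46273 = N48571 := rfl
theorem L671571 : sm gc N48571 = N46275 := ded_33_1 (flp_i L391071) (flp_c L391060) L671569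
theorem L671573 : sm ge N48571 = N46274 := ded_44_1 (flp_i L391065) L391058 L671569
theorem L671575 : sm gf N48571 = N48571 := ded_48_1 (flp_i L671569) L391064 L671569
theorem L671576 : sm ga N46277 = N48572 := rfl
theorem L671578 : sm gc N48572 = N48572 := ded_11_2 (flp_a L671576) L391092 L671576
theorem L671579 : sm ge N48572 = N48572 := ded_13_2 (flp_a L671576) L391086 L671576
theorem L671580 : sm gg N48572 = N48572 := ded_15_2 (flp_a L671576) L391087 L671576
theorem L671581 : sm gj N48572 = N46280 := ded_16_2 (flp_a L391110) (flp_j L391088) L671576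
theorem L671583 : sm gh N48572 = N46301 := ded_17_2 (flp_a L391266) (flp_h L391090) L671576
theorem L671585 : sm gi N46277 = N48573 := rfl
theorem L671587 : sm gb N48573 = N46278 := ded_26_1 (flp_i L391093) L391084 L671585
theorem L671589 : sm gc N48573 = N48573 := ded_33_1 (flp_i L671585) L391092 L671585
theorem L671590 : sm ge N48573 = N48573 := ded_44_1 (flp_i L671585) L391086 L671585
theorem L671591 : sm gg N48573 = N48573 := ded_51_1 (flp_i L671585) L391087 L671585
theorem L671592 : sm gj N48573 = N46281 := ded_53_1 (flp_i L391118) (flp_j L391088) L671585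
theorem L671594 : sm gh N48573 = N46526 := ded_54_1 (flp_i L650925) (flp_h L274059) L646338 (flp_h L391090) L671585
theorem L671596 : sm gi N46280 = N48574 := rfl
theorem L671598 : sm ga N48574 = N46281 := ded_18_1 (flp_i L391118) L391110 L671596
theorem L671600 : sm gc N48574 = N48574 := ded_33_1 (flp_i L671596) L391112 L671596
theorem L671601 : sm ge N48574 = N48574 := ded_44_1 (flp_i L671596) L391113 L671596
theorem L671602 : sm gg N48574 = N46283 := ded_51_1 (flp_i L391135) (flp_g L391114) L671596
theorem L671604 : sm gh N46297 = N48575 := rfl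
theorem L671606 : sm gc N48575 = N48575 := ded_32_1 (flp_h L671604) L391244 L671604
theorem L671607 : sm ge N48575 = N46328 := ded_43_1 (flp_h L391485) (flp_e L391245) L671604
theorem L671609 : sm gf N48575 = N48575 := ded_47_1 (flp_h L671604) L391243 L671604
theorem L671610 : sm gi N46328 = N48576 := rfl
theorem L671612 : sm gc N48576 = N48576 := ded_33_1 (flp_i L671610) L391487 L671610
theorem L671613 : sm gf N48576 = N46526 := ded_48_1 (flp_i L650925) (flp_f L391488) L671610
theorem L671615 : sm ge N46331 = N48577 := rfl
theorem L671617 : sm ge N46335 = N48578 := rfl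
theorem L671619 : sm gb N48578 = N46476 := ded_21_1 L650545 L649303 L671617
theorem L671621 : sm gg N48578 = N48578 := ded_41_2 (flp_e L671617) L391540 L671617
theorem L671622 : sm gj N48578 = N46338 := ded_42_2 (flp_e L391559) (flp_j L391541) L671617
theorem L671624 : sm gd N48578 = N46474 := ded_34_1 (flp_e L650521) L272825 L646634 L391538 L671617
theorem L671626 : sm gf N46338 = N48579 := rfl
theorem L671628 : sm gd N48579 = N46527 := ded_35_1 (flp_f L650930) (flp_d L391563) L671626
theorem L671630 : sm gd N46342 = N48580 := rfl
theorem L671632 : sm ga N48580 = N46357 := ded_12_1 (flp_d L649551) (flp_a L649418) L671630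
theorem L671634 : sm gf N48580 = N48580 := ded_35_2 (flp_d L671630) L649422 L671630
theorem L671635 : sm gj N48580 = N46380 := ded_37_2 (flp_d L649745) (flp_j L649423) L671630
theorem L671637 : sm gi N48580 = N48580 := ded_39_2 (flp_d L671630) L649425 L671630
theorem L671638 : sm gc N48580 = N48580 := ded_27_1 (flp_d L671630) L649420 L269901 (flp_c L649420) L671630
theorem L671639 : sm gi N46343 = N48581 := rfl
theorem L671641 : sm gb N48581 = N46346 := ded_26_1 (flp_i L649450) (flp_b L649428) L671639
theorem L671643 : sm gc N48581 = N48581 := ded_33_1 (flp_i L671639) L649430 L671639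
theorem L671644 : sm ge N48581 = N46344 := ded_44_1 (flp_i L649433) L649426 L671639
theorem L671646 : sm gj N48581 = N46397 := ded_53_1 (flp_i L649872) (flp_j L649431) L671639
theorem L671648 : sm gi N46345 = N48582 := rfl
theorem L671650 : sm gc N48582 = N46347 := ded_33_1 (flp_i L649458) (flp_c L649445) L671648
theorem L671652 : sm ge N48582 = N48582 := ded_44_1 (flp_i L671648) L649449 L671648
theorem L671653 : sm gf N48582 = N46346 := ded_48_1 (flp_i L649450) L649443 L671648
theorem L671655 : sm gj N48582 = N46400 := ded_53_1 (flp_i L649890) (flp_j L649447) L671648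
theorem L671657 : sm gh N46350 = N48583 := rfl
theorem L671659 : sm gb N48583 = N46364 := ded_25_1 (flp_h L649610) (flp_b L649492) L671657
theorem L671661 : sm ge N48583 = N46351 := ded_43_1 (flp_h L649498) (flp_e L649495) L671657
theorem L671663 : sm gg N48583 = N48583 := ded_50_1 (flp_h L671657) L649497 L671657
theorem L671664 : sm gi N48583 = N48583 := ded_54_2 (flp_h L671657) (flp_i L649490) L270242 L649490 L671657
theorem L671665 : sm gh N46353 = N48584 := rfl
theorem L671667 : sm gb N48584 = N46354 := ded_25_1 (flp_h L649525) (flp_b L649519) L671665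
theorem L671669 : sm gc N48584 = N46368 := ded_32_1 (flp_h L649644) (flp_c L649521) L671665
theorem L671671 : sm gg N48584 = N46356 := ded_50_1 (flp_h L649541) (flp_g L649523) L671665
theorem L671673 : sm gi N48584 = N48584 := ded_54_2 (flp_h L671665) (flp_i L649517) L270274 L649517 L671665
theorem L671674 : sm gh N46355 = N48585 := rfl
theorem L671676 : sm ga N48585 = N46356 := ded_17_1 (flp_h L649541) (flp_a L649534) L671674
theorem L671678 : sm gc N48585 = N46370 := ded_32_1 (flp_h L649659) (flp_c L649536) L671674
theorem L671680 : sm gf N48585 = N48585 := ded_47_1 (flp_h L671674) L649538 L671674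
theorem L671681 : sm gj N48585 = N46421 := ded_52_1 (flp_h L650049) (flp_j L649539) L671674
theorem L671683 : sm gi N48585 = N48585 := ded_54_2 (flp_h L671674) (flp_i L649532) L270298 L649532 L671674
theorem L671684 : sm gd N46356 = N48586 := rfl
theorem L671686 : sm gb N48586 = N46357 := ded_20_1 (flp_d L649551) (flp_b L649543) L671684
theorem L671688 : sm gf N48586 = N48586 := ded_35_2 (flp_d L671684) L649547 L671684
theorem L671689 : sm gj N48586 = N46422 := ded_37_2 (flp_d L650057) (flp_j L649548) L671684
theorem L671691 : sm gi N48586 = N48586 := ded_39_2 (flp_d L671684) L649550 L671684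
theorem L671692 : sm ge N46357 = N48587 := rfl
theorem L671694 : sm gc N48587 = N48587 := ded_28_1 (flp_e L671692) L649557 L671692
theorem L671695 : sm gj N48587 = N46423 := ded_42_2 (flp_e L650063) (flp_j L649554) L671692
theorem L671697 : sm gi N48587 = N48587 := ded_44_2 (flp_e L671692) L649556 L671692
theorem L671698 : sm gh N46358 = N48588 := rfl
theorem L671700 : sm ga N48588 = N48588 := ded_17_1 (flp_h L671698) L649560 L671698
theorem L671701 : sm gc N48588 = N46360 := ded_32_1 (flp_h L649576) (flp_c L649561) L671698
theorem L671703 : sm gf N48588 = N46366 := ded_47_1 (flp_h L649626) (flp_f L649564) L671698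
theorem L671705 : sm gj N48588 = N46363 := ded_52_1 (flp_h L649601) (flp_j L649566) L671698
theorem L671707 : sm gi N48588 = N48588 := ded_54_2 (flp_h L671698) (flp_i L649558) L270343 L649558 L671698
theorem L671708 : sm gh N46361 = N48589 := rfl
theorem L671710 : sm gb N48589 = N46363 := ded_25_1 (flp_h L649601) (flp_b L649587) L671708
theorem L671712 : sm gf N48589 = N46368 := ded_47_1 (flp_h L649644) (flp_f L649590) L671708
theorem L671714 : sm gg N48589 = N48589 := ded_50_1 (flp_h L671708) L649592 L671708
theorem L671715 : sm gi N48589 = N48589 := ded_54_2 (flp_h L671708) (flp_i L649585) L270367 L649585 L671708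
theorem L671716 : sm gh N46362 = N48590 := rfl
theorem L671718 : sm ga N48590 = N48590 := ded_17_1 (flp_h L671716) L649595 L671716
theorem L671719 : sm gc N48590 = N46364 := ded_32_1 (flp_h L649610) (flp_c L649596) L671716
theorem L671721 : sm ge N48590 = N46363 := ded_43_1 (flp_h L649601) (flp_e L649598) L671716
theorem L671723 : sm gg N48590 = N48590 := ded_50_1 (flp_h L671716) L649600 L671716
theorem L671724 : sm gd N48590 = N48590 := ded_38_1 (flp_h L671716) (flp_d L656316) L656324 L656316 L671716
theorem L671725 : sm gi N48590 = N48590 := ded_54_2 (flp_h L671716) (flp_i L649593) L270374 L649593 L671716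
theorem L671726 : sm gd N46363 = N48591 := rfl
theorem L671728 : sm ga N48591 = N48591 := ded_12_1 (flp_d L671726) L649603 L671726
theorem L671729 : sm gf N48591 = N46369 := ded_35_2 (flp_d L649651) (flp_f L649606) L671726
theorem L671731 : sm gg N48591 = N48591 := ded_36_2 (flp_d L671726) L649608 L671726
theorem L671732 : sm gi N48591 = N48591 := ded_39_2 (flp_d L671726) L649609 L671726
theorem L671733 : sm gc N48591 = N48591 := ded_27_1 (flp_d L671726) L649604 L270397 (flp_c L649604) L671726
theorem L671734 : sm ge N48591 = N48591 := ded_34_2 (flp_d L671726) (flp_e L671721) L671724 L671721 L671726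
theorem L671735 : sm gh N48591 = N48591 := ded_38_2 (flp_d L671726) (flp_h L649601) L270380 L649601 L671726
theorem L671736 : sm gd N46364 = N48592 := rfl
theorem L671738 : sm ga N48592 = N48592 := ded_12_1 (flp_d L671736) L649612 L671736
theorem L671739 : sm gf N48592 = N46372 := ded_35_2 L668148 L668143 L671736
theorem L671741 : sm gg N48592 = N48592 := ded_36_2 (flp_d L671736) L649615 L671736
theorem L671742 : sm gj N48592 = N46441 := ded_37_2 (flp_d L669589) L669591 L671736
theorem L671744 : sm gi N48592 = N48592 := ded_39_2 (flp_d L671736) L649616 L671736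
theorem L671745 : sm gc N48592 = N48592 := ded_27_1 (flp_d L671736) (flp_c L671719) L671724 L671719 L671736
theorem L671746 : sm ge N48592 = N48592 := ded_34_2 (flp_d L671736) L649613 L270397 (flp_e L649613) L671736
theorem L671747 : sm gh N48592 = N48592 := ded_38_2 (flp_d L671736) (flp_h L649610) L270387 L649610 L671736
theorem L671748 : sm gh N46365 = N48593 := rfl
theorem L671750 : sm gb N48593 = N46366 := ded_25_1 (flp_h L649626) (flp_b L649619) L671748
theorem L671752 : sm gg N48593 = N46433 := ded_50_1 (flp_h L650143) (flp_g L649622) L671748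
theorem L671754 : sm gj N48593 = N46368 := ded_52_1 (flp_h L649644) (flp_j L649624) L671748
theorem L671756 : sm gi N48593 = N48593 := ded_54_2 (flp_h L671748) (flp_i L649617) L270406 L649617 L671748
theorem L671757 : sm gd N46366 = N48594 := rfl
theorem L671759 : sm ga N48594 = N48594 := ded_12_1 (flp_d L671757) L649628 L671757
theorem L671760 : sm gg N48594 = N46434 := ded_36_2 (flp_d L650150) (flp_g L649631) L671757
theorem L671762 : sm gj N48594 = N46369 := ded_37_2 (flp_d L649651) (flp_j L649633) L671757
theorem L671764 : sm gi N48594 = N48594 := ded_39_2 (flp_d L671757) L649635 L671757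
theorem L671765 : sm gc N48594 = N48594 := ded_27_1 (flp_d L671757) L649629 L270424 (flp_c L649629) L671757
theorem L671766 : sm gh N48594 = N48594 := ded_38_2 (flp_d L671757) (flp_h L649626) L270412 L649626 L671757
theorem L671767 : sm gh N46367 = N48595 := rfl
theorem L671769 : sm ga N48595 = N46368 := ded_17_1 (flp_h L649644) (flp_a L649638) L671767
theorem L671771 : sm gb N48595 = N48595 := ded_25_1 (flp_h L671767) L649640 L671767
theorem L671772 : sm gg N48595 = N46370 := ded_50_1 (flp_h L649659) (flp_g L649642) L671767
theorem L671774 : sm gi N48595 = N48595 := ded_54_2 (flp_h L671767) (flp_i L649636) L270431 L649636 L671767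
theorem L671775 : sm gd N46368 = N48596 := rfl
theorem L671777 : sm gb N48596 = N46369 := ded_20_1 (flp_d L649651) (flp_b L649646) L671775
theorem L671779 : sm gg N48596 = N46371 := ded_36_2 (flp_d L649668) (flp_g L649648) L671775
theorem L671781 : sm gi N48596 = N48596 := ded_39_2 (flp_d L671775) L649650 L671775
theorem L671782 : sm gh N48596 = N48596 := ded_38_2 (flp_d L671775) (flp_h L649644) L270437 L649644 L671775
theorem L671783 : sm ge N46369 = N48597 := rfl
theorem L671785 : sm ga N48597 = N48597 := ded_13_1 (flp_e L671783) L649653 L671783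
theorem L671786 : sm gc N48597 = N48597 := ded_28_1 (flp_e L671783) L649657 L671783
theorem L671787 : sm gg N48597 = N46372 := ded_41_2 (flp_e L649677) (flp_g L649654) L671783
theorem L671789 : sm gh N48597 = N48597 := ded_43_2 (flp_e L671783) L649658 L671783
theorem L671790 : sm gi N48597 = N48597 := ded_44_2 (flp_e L671783) L649656 L671783
theorem L671791 : sm gf N48597 = N48597 := ded_40_2 (flp_e L671783) (flp_f L671729) L671734 L671729 L671783
theorem L671792 : sm gd N46370 = N48598 := rfl
theorem L671794 : sm ga N48598 = N46371 := ded_12_1 (flp_d L649668) (flp_a L649661) L671792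
theorem L671796 : sm gb N48598 = N48598 := ded_20_1 (flp_d L671792) L649663 L671792
theorem L671797 : sm gf N48598 = N48598 := ded_35_2 (flp_d L671792) L649664 L671792
theorem L671798 : sm gj N48598 = N46438 := ded_37_2 (flp_d L650182) (flp_j L649665) L671792
theorem L671800 : sm gi N48598 = N48598 := ded_39_2 (flp_d L671792) L649667 L671792
theorem L671801 : sm gh N48598 = N48598 := ded_38_2 (flp_d L671792) (flp_h L649659) L270453 L649659 L671792
theorem L671802 : sm gc N46371 = N48599 := rfl
theorem L671804 : sm gf N48599 = N48599 := ded_29_2 (flp_c L671802) L649672 L671802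
theorem L671805 : sm gj N48599 = N46439 := ded_31_2 (flp_c L650190) (flp_j L649673) L671802
theorem L671807 : sm gh N48599 = N48599 := ded_32_2 (flp_c L671802) L649676 L671802
theorem L671808 : sm gi N48599 = N48599 := ded_33_2 (flp_c L671802) L649675 L671802
theorem L671809 : sm gb N48599 = N48599 := ded_19_1 (flp_c L671802) L649670 L270472 (flp_b L649670) L671802
theorem L671810 : sm ge N46371 = N48600 := rfl
theorem L671812 : sm gb N48600 = N46372 := ded_21_1 (flp_e L649677) (flp_b L649670) L671810
theorem L671814 : sm gj N48600 = N46440 := ded_42_2 (flp_e L650196) (flp_j L649673) L671810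
theorem L671816 : sm gh N48600 = N48600 := ded_43_2 (flp_e L671810) L649676 L671810
theorem L671817 : sm gi N48600 = N48600 := ded_44_2 (flp_e L671810) L649675 L671810
theorem L671818 : sm gd N46373 = N48601 := rfl
theorem L671820 : sm ga N48601 = N46402 := ded_12_1 (flp_d L649903) (flp_a L649687) L671818
theorem L671822 : sm gf N48601 = N48601 := ded_35_2 (flp_d L671818) L649691 L671818
theorem L671823 : sm gc N48601 = N48601 := ded_27_1 (flp_d L671818) L649689 L270955 (flp_c L649689) L671818
theorem L671824 : sm gh N48601 = N46380 := ded_38_2 (flp_d L649745) (flp_h L271172) (flp_d L270932) L649685 L671818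
theorem L671826 : sm gh N46374 = N48602 := rfl
theorem L671828 : sm ga N48602 = N46415 := ded_17_1 (flp_h L650003) (flp_a L649694) L671826
theorem L671830 : sm gb N48602 = N48602 := ded_25_1 (flp_h L671826) L649696 L671826
theorem L671831 : sm ge N48602 = N46375 := ded_43_1 (flp_h L649702) (flp_e L649699) L671826
theorem L671833 : sm gg N48602 = N48602 := ded_50_1 (flp_h L671826) L649701 L671826
theorem L671834 : sm gi N48602 = N48602 := ded_54_2 (flp_h L671826) (flp_i L649692) L271107 L649692 L671826
theorem L671835 : sm gd N46377 = N48603 := rfl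
theorem L671837 : sm ga N48603 = N46420 := ded_12_1 (flp_d L650043) (flp_a L649723) L671835
theorem L671839 : sm gg N48603 = N46380 := ded_36_2 (flp_d L649745) (flp_g L649727) L671835
theorem L671841 : sm gi N48603 = N48603 := ded_39_2 (flp_d L671835) L649729 L671835
theorem L671842 : sm gc N48603 = N48603 := ded_27_1 (flp_d L671835) L649725 L271157 (flp_c L649725) L671835
theorem L671843 : sm gh N46378 = N48604 := rfl
theorem L671845 : sm ga N48604 = N46379 := ded_17_1 (flp_h L649738) (flp_a L649732) L671843
theorem L671847 : sm gb N48604 = N46421 := ded_25_1 (flp_h L650049) (flp_b L649734) L671843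
theorem L671849 : sm gc N48604 = N48604 := ded_32_1 (flp_h L671843) L649736 L671843
theorem L671850 : sm gf N48604 = N48604 := ded_47_1 (flp_h L671843) L649737 L671843
theorem L671851 : sm gi N48604 = N48604 := ded_54_2 (flp_h L671843) (flp_i L649730) L271163 L649730 L671843
theorem L671852 : sm gd N46379 = N48605 := rfl
theorem L671854 : sm gb N48605 = N46380 := ded_20_1 (flp_d L649745) (flp_b L649740) L671852
theorem L671856 : sm gf N48605 = N48605 := ded_35_2 (flp_d L671852) L649743 L671852
theorem L671857 : sm gi N48605 = N48605 := ded_39_2 (flp_d L671852) L649744 L671852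
theorem L671858 : sm ge N46380 = N48606 := rfl
theorem L671860 : sm ga N48606 = N46423 := ded_13_1 (flp_e L650063) (flp_a L649747) L671858
theorem L671862 : sm gc N48606 = N48606 := ded_28_1 (flp_e L671858) L649751 L671858
theorem L671863 : sm gi N48606 = N48606 := ded_44_2 (flp_e L671858) L649750 L671858
theorem L671864 : sm gf N46387 = N48607 := rfl
theorem L671866 : sm gb N48607 = N46389 := ded_22_1 (flp_f L649816) (flp_b L649802) L671864
theorem L671868 : sm gc N48607 = N48607 := ded_29_1 (flp_f L671864) L649804 L671864
theorem L671869 : sm gi N46387 = N48608 := rfl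
theorem L671871 : sm gb N48608 = N46390 := ded_26_1 (flp_i L649820) (flp_b L649802) L671869
theorem L671873 : sm gc N48608 = N48608 := ded_33_1 (flp_i L671869) L649804 L671869
theorem L671874 : sm ge N48608 = N46388 := ded_44_1 (flp_i L649807) L649800 L671869
theorem L671876 : sm gg N48608 = N46397 := ded_51_1 (flp_i L649872) (flp_g L649805) L671869
theorem L671878 : sm gg N46389 = N48609 := rfl
theorem L671880 : sm gc N48609 = N46391 := ded_30_1 (flp_g L649828) (flp_c L649818) L671878
theorem L671882 : sm gf N48609 = N46399 := ded_45_1 (flp_g L649885) (flp_f L271425) (flp_g L271376) L649816 L671878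
theorem L671884 : sm gi N46389 = N48610 := rfl
theorem L671886 : sm gc N48610 = N46392 := ded_33_1 (flp_i L649835) (flp_c L649818) L671884
theorem L671888 : sm gf N48610 = N46390 := ded_48_1 (flp_i L649820) L649816 L671884
theorem L671890 : sm gi N46391 = N48611 := rfl
theorem L671892 : sm gb N48611 = N48611 := ded_26_1 (flp_i L671890) L649830 L671890
theorem L671893 : sm gd N48611 = N46408 := ded_39_1 (flp_i L649947) (flp_d L649831) L671890
theorem L671895 : sm gf N48611 = N46404 := ded_48_1 (flp_i L649915) (flp_f L649833) L671890
theorem L671897 : sm gg N48611 = N46392 := ded_51_1 (flp_i L649835) L649828 L671890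
theorem L671899 : sm gh N46392 = N48612 := rfl
theorem L671901 : sm gb N48612 = N48612 := ded_25_1 (flp_h L671899) L649837 L671899
theorem L671902 : sm ge N48612 = N46519 := ded_43_1 (flp_h L655358) L655352 L671899
theorem L671904 : sm gf N48612 = N46393 := ded_47_1 (flp_h L649842) (flp_f L649840) L671899
theorem L671906 : sm gj N48612 = N46408 := ded_52_1 (flp_h L653545) L653543 L671899
theorem L671908 : sm gi N48612 = N46407 := ded_54_2 L649945 (flp_i L648304) L649243 L649835 L671899
theorem L671910 : sm gf N46394 = N48613 := rfl
theorem L671912 : sm ga N48613 = N46396 := ded_14_1 (flp_f L649866) (flp_a L649855) L671910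
theorem L671914 : sm gc N48613 = N48613 := ded_29_1 (flp_f L671910) L649857 L671910
theorem L671915 : sm ge N48613 = N48613 := ded_40_1 (flp_f L671910) (flp_e L649853) L271411 L649853 L671910
theorem L671916 : sm gi N46394 = N48614 := rfl
theorem L671918 : sm ga N48614 = N46397 := ded_18_1 (flp_i L649872) (flp_a L649855) L671916
theorem L671920 : sm gc N48614 = N48614 := ded_33_1 (flp_i L671916) L649857 L671916
theorem L671921 : sm ge N48614 = N46395 := ded_44_1 (flp_i L649858) L649853 L671916
theorem L671923 : sm gh N46395 = N48615 := rfl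
theorem L671925 : sm ga N48615 = N46398 := ded_17_1 (flp_h L649879) (flp_a L649860) L671923
theorem L671927 : sm gc N48615 = N48615 := ded_32_1 (flp_h L671923) L649862 L671923
theorem L671928 : sm gf N48615 = N48615 := ded_47_1 (flp_h L671923) L649865 L671923
theorem L671929 : sm gi N46396 = N48616 := rfl
theorem L671931 : sm gb N48616 = N46400 := ded_26_1 (flp_i L649890) (flp_b L649868) L671929
theorem L671933 : sm gc N48616 = N48616 := ded_33_1 (flp_i L671929) L649870 L671929
theorem L671934 : sm ge N48616 = N48616 := ded_44_1 (flp_i L671929) L649871 L671929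
theorem L671935 : sm gf N48616 = N46397 := ded_48_1 (flp_i L649872) L649866 L671929
theorem L671937 : sm gh N46397 = N48617 := rfl
theorem L671939 : sm gb N48617 = N46401 := ded_25_1 (flp_h L649897) (flp_b L649874) L671937
theorem L671941 : sm gc N48617 = N48617 := ded_32_1 (flp_h L671937) L649876 L671937
theorem L671942 : sm ge N48617 = N46398 := ded_43_1 (flp_h L649879) (flp_e L649877) L671937
theorem L671944 : sm gd N46398 = N48618 := rfl
theorem L671946 : sm gb N48618 = N46402 := ded_20_1 (flp_d L649903) (flp_b L649881) L671944
theorem L671948 : sm gf N48618 = N48618 := ded_35_2 (flp_d L671944) L649884 L671944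
theorem L671949 : sm gh N48618 = N46422 := ded_38_2 (flp_d L650057) (flp_h L271706) (flp_d L271422) L649879 L671944
theorem L671951 : sm gi N46399 = N48619 := rfl
theorem L671953 : sm gc N48619 = N46404 := ded_33_1 (flp_i L649915) (flp_c L649887) L671951
theorem L671955 : sm ge N48619 = N48619 := ded_44_1 (flp_i L671951) L649889 L671951
theorem L671956 : sm gg N48619 = N46400 := ded_51_1 (flp_i L649890) L649885 L671951
theorem L671958 : sm gh N46400 = N48620 := rfl
theorem L671960 : sm gc N48620 = N46405 := ded_32_1 (flp_h L649923) (flp_c L649892) L671958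
theorem L671962 : sm ge N48620 = N48620 := ded_43_1 (flp_h L671958) L649894 L671958
theorem L671963 : sm gf N48620 = N46401 := ded_47_1 (flp_h L649897) (flp_f L649895) L671958
theorem L671965 : sm gd N46401 = N48621 := rfl
theorem L671967 : sm ge N46402 = N48622 := rfl
theorem L671969 : sm gc N48622 = N48622 := ded_28_1 (flp_e L671967) L649906 L671967
theorem L671970 : sm gh N48622 = N46423 := ded_43_2 (flp_e L650063) (flp_h L649907) L671967
theorem L671972 : sm gd N46410 = N48623 := rfl
theorem L671974 : sm gb N48623 = N46412 := ded_20_1 (flp_d L649983) (flp_b L649968) L671972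
theorem L671976 : sm gg N48623 = N48623 := ded_36_2 (flp_d L671972) L649972 L671972
theorem L671977 : sm gi N46410 = N48624 := rfl
theorem L671979 : sm gb N48624 = N46413 := ded_26_1 (flp_i L649988) (flp_b L649968) L671977
theorem L671981 : sm gc N48624 = N46428 := ded_33_1 (flp_i L650102) (flp_c L649970) L671977
theorem L671983 : sm ge N48624 = N46411 := ded_44_1 (flp_i L649974) L649966 L671977
theorem L671985 : sm gg N48624 = N48624 := ded_51_1 (flp_i L671977) L649972 L671977
theorem L671986 : sm gh N46411 = N48625 := rfl
theorem L671988 : sm gb N48625 = N46414 := ded_25_1 (flp_h L649995) (flp_b L649976) L671986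
theorem L671990 : sm gc N48625 = N46429 := ded_32_1 (flp_h L650109) (flp_c L649978) L671986
theorem L671992 : sm gf N48625 = N46419 := ded_47_1 (flp_h L650034) (flp_f L649980) L671986
theorem L671994 : sm gg N48625 = N48625 := ded_50_1 (flp_h L671986) L649982 L671986
theorem L671995 : sm gi N48625 = N48625 := ded_54_2 (flp_h L671986) (flp_i L649974) L271622 L649974 L671986
theorem L671996 : sm gh N46412 = N48626 := rfl
theorem L671998 : sm gc N48626 = N46520 := ded_32_1 (flp_h L650886) (flp_c L649986) L671996
theorem L672000 : sm gg N48626 = N48626 := ded_50_1 (flp_h L671996) L649985 L671996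
theorem L672001 : sm gd N48626 = N48626 := ded_38_1 (flp_h L671996) (flp_d L649983) L271630 L649983 L671996
theorem L672002 : sm gi N46412 = N48627 := rfl
theorem L672004 : sm gc N48627 = N46521 := ded_33_1 (flp_i L650891) (flp_c L649986) L672002
theorem L672006 : sm gd N48627 = N46413 := ded_39_1 (flp_i L649988) L649983 L672002
theorem L672008 : sm gg N48627 = N48627 := ded_51_1 (flp_i L672002) L649985 L672002
theorem L672009 : sm gh N46413 = N48628 := rfl
theorem L672011 : sm gc N48628 = N46415 := ded_32_1 (flp_h L650003) (flp_c L649990) L672009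
theorem L672013 : sm ge N48628 = N46414 := ded_43_1 (flp_h L649995) (flp_e L649992) L672009
theorem L672015 : sm gg N48628 = N48628 := ded_50_1 (flp_h L672009) L649994 L672009
theorem L672016 : sm gi N48628 = N48628 := ded_54_2 (flp_h L672009) (flp_i L649988) L271630 L649988 L672009
theorem L672017 : sm gh N46416 = N48629 := rfl
theorem L672019 : sm gb N48629 = N46417 := ded_25_1 (flp_h L650019) (flp_b L650013) L672017
theorem L672021 : sm gc N48629 = N46433 := ded_32_1 (flp_h L650143) (flp_c L650015) L672017
theorem L672023 : sm gj N48629 = N46419 := ded_52_1 (flp_h L650034) (flp_j L650017) L672017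
theorem L672025 : sm gi N48629 = N48629 := ded_54_2 (flp_h L672017) (flp_i L650011) L271660 L650011 L672017
theorem L672026 : sm gh N46418 = N48630 := rfl
theorem L672028 : sm ga N48630 = N46419 := ded_17_1 (flp_h L650034) (flp_a L650028) L672026
theorem L672030 : sm gc N48630 = N46435 := ded_32_1 (flp_h L650158) (flp_c L650030) L672026
theorem L672032 : sm gg N48630 = N46421 := ded_50_1 (flp_h L650049) (flp_g L650032) L672026
theorem L672034 : sm gi N48630 = N48630 := ded_54_2 (flp_h L672026) (flp_i L650026) L271683 L650026 L672026
theorem L672035 : sm gd N46419 = N48631 := rfl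
theorem L672037 : sm gb N48631 = N46420 := ded_20_1 (flp_d L650043) (flp_b L650036) L672035
theorem L672039 : sm gg N48631 = N46422 := ded_36_2 (flp_d L650057) (flp_g L650040) L672035
theorem L672041 : sm gi N48631 = N48631 := ded_39_2 (flp_d L672035) L650042 L672035
theorem L672042 : sm ge N46420 = N48632 := rfl
theorem L672044 : sm gc N48632 = N48632 := ded_28_1 (flp_e L672042) L650048 L672042
theorem L672045 : sm gg N48632 = N46423 := ded_41_2 (flp_e L650063) (flp_g L650045) L672042
theorem L672047 : sm gi N48632 = N48632 := ded_44_2 (flp_e L672042) L650047 L672042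
theorem L672048 : sm gd N46421 = N48633 := rfl
theorem L672050 : sm ga N48633 = N46422 := ded_12_1 (flp_d L650057) (flp_a L650051) L672048
theorem L672052 : sm gf N48633 = N48633 := ded_35_2 (flp_d L672048) L650055 L672048
theorem L672053 : sm gi N48633 = N48633 := ded_39_2 (flp_d L672048) L650056 L672048
theorem L672054 : sm gc N46422 = N48634 := rfl
theorem L672056 : sm gf N48634 = N48634 := ded_29_2 (flp_c L672054) L650061 L672054
theorem L672057 : sm gi N48634 = N48634 := ded_33_2 (flp_c L672054) L650062 L672054
theorem L672058 : sm gb N48634 = N48634 := ded_19_1 (flp_c L672054) L650059 L271718 (flp_b L650059) L672054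
theorem L672059 : sm gd N48634 = N46439 := ded_27_2 (flp_c L650190) (flp_d L271893) (flp_c L271710) L650057 L672054
theorem L672061 : sm ge N46422 = N48635 := rfl
theorem L672063 : sm gb N48635 = N46423 := ded_21_1 (flp_e L650063) (flp_b L650059) L672061
theorem L672065 : sm gi N48635 = N48635 := ded_44_2 (flp_e L672061) L650062 L672061
theorem L672066 : sm gf N46423 = N48636 := rfl
theorem L672068 : sm gc N48636 = N48636 := ded_29_1 (flp_f L672066) L650065 L672066
theorem L672069 : sm gi N48636 = N48636 := ded_48_2 (flp_f L672066) L650066 L672066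
theorem L672070 : sm ge N48636 = N48636 := ded_40_1 (flp_f L672066) (flp_e L650063) L271716 L650063 L672066
theorem L672071 : sm gh N46424 = N48637 := rfl
theorem L672073 : sm gb N48637 = N46425 := ded_25_1 (flp_h L650076) (flp_b L650069) L672071
theorem L672075 : sm gf N48637 = N46433 := ded_47_1 (flp_h L650143) (flp_f L650072) L672071
theorem L672077 : sm gj N48637 = N46429 := ded_52_1 (flp_h L650109) (flp_j L650074) L672071
theorem L672079 : sm gi N48637 = N48637 := ded_54_2 (flp_h L672071) (flp_i L650067) L271751 L650067 L672071
theorem L672080 : sm gd N46425 = N48638 := rfl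
theorem L672082 : sm ga N48638 = N48638 := ded_12_1 (flp_d L672080) L650078 L672080
theorem L672083 : sm gf N48638 = N46434 := ded_35_2 (flp_d L650150) (flp_f L650081) L672080
theorem L672085 : sm gj N48638 = N46431 := ded_37_2 (flp_d L650126) (flp_j L650083) L672080
theorem L672087 : sm gi N48638 = N48638 := ded_39_2 (flp_d L672080) L650085 L672080
theorem L672088 : sm gc N48638 = N48638 := ded_27_1 (flp_d L672080) L650079 L271786 (flp_c L650079) L672080
theorem L672089 : sm gh N48638 = N48638 := ded_38_2 (flp_d L672080) (flp_h L650076) L271765 L650076 L672080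
theorem L672090 : sm gi N46426 = N48639 := rfl
theorem L672092 : sm ga N48639 = N46428 := ded_18_1 (flp_i L650102) (flp_a L650088) L672090
theorem L672094 : sm gb N48639 = N48639 := ded_26_1 (flp_i L672090) L650090 L672090
theorem L672095 : sm ge N48639 = N46427 := ded_44_1 (flp_i L650093) L650086 L672090
theorem L672097 : sm gg N48639 = N48639 := ded_51_1 (flp_i L672090) L650091 L672090
theorem L672098 : sm gh N46427 = N48640 := rfl
theorem L672100 : sm ga N48640 = N46429 := ded_17_1 (flp_h L650109) (flp_a L650095) L672098
theorem L672102 : sm gb N48640 = N48640 := ded_25_1 (flp_h L672098) L650097 L672098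
theorem L672103 : sm gf N48640 = N46435 := ded_47_1 (flp_h L650158) (flp_f L650099) L672098
theorem L672105 : sm gg N48640 = N48640 := ded_50_1 (flp_h L672098) L650101 L672098
theorem L672106 : sm gi N48640 = N48640 := ded_54_2 (flp_h L672098) (flp_i L650093) L271794 L650093 L672098
theorem L672107 : sm gh N46428 = N48641 := rfl
theorem L672109 : sm gb N48641 = N46430 := ded_25_1 (flp_h L650117) (flp_b L650104) L672107
theorem L672111 : sm ge N48641 = N46429 := ded_43_1 (flp_h L650109) (flp_e L650106) L672107
theorem L672113 : sm gg N48641 = N48641 := ded_50_1 (flp_h L672107) L650108 L672107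
theorem L672114 : sm gi N48641 = N48641 := ded_54_2 (flp_h L672107) (flp_i L650102) L271801 L650102 L672107
theorem L672115 : sm gd N46429 = N48642 := rfl
theorem L672117 : sm gb N48642 = N46431 := ded_20_1 (flp_d L650126) (flp_b L650111) L672115
theorem L672119 : sm gf N48642 = N46436 := ded_35_2 (flp_d L650166) (flp_f L650113) L672115
theorem L672121 : sm gg N48642 = N48642 := ded_36_2 (flp_d L672115) L650115 L672115
theorem L672122 : sm gi N48642 = N48642 := ded_39_2 (flp_d L672115) L650116 L672115
theorem L672123 : sm gh N48642 = N48642 := ded_38_2 (flp_d L672115) (flp_h L650109) L271806 L650109 L672115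
theorem L672124 : sm ge N46431 = N48643 := rfl
theorem L672126 : sm ga N48643 = N48643 := ded_13_1 (flp_e L672124) L650128 L672124
theorem L672127 : sm gc N48643 = N48643 := ded_28_1 (flp_e L672124) L650133 L672124
theorem L672128 : sm gg N48643 = N48643 := ded_41_2 (flp_e L672124) L650131 L672124
theorem L672129 : sm gh N48643 = N48643 := ded_43_2 (flp_e L672124) L650134 L672124
theorem L672130 : sm gi N48643 = N48643 := ded_44_2 (flp_e L672124) L650132 L672124
theorem L672131 : sm gh N46432 = N48644 := rfl
theorem L672133 : sm ga N48644 = N46433 := ded_17_1 (flp_h L650143) (flp_a L650137) L672131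
theorem L672135 : sm gb N48644 = N48644 := ded_25_1 (flp_h L672131) L650139 L672131
theorem L672136 : sm gj N48644 = N46435 := ded_52_1 (flp_h L650158) (flp_j L650141) L672131
theorem L672138 : sm gi N48644 = N48644 := ded_54_2 (flp_h L672131) (flp_i L650135) L271846 L650135 L672131
theorem L672139 : sm gd N46433 = N48645 := rfl
theorem L672141 : sm gb N48645 = N46434 := ded_20_1 (flp_d L650150) (flp_b L650145) L672139
theorem L672143 : sm gj N48645 = N46436 := ded_37_2 (flp_d L650166) (flp_j L650147) L672139
theorem L672145 : sm gi N48645 = N48645 := ded_39_2 (flp_d L672139) L650149 L672139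
theorem L672146 : sm gh N48645 = N48645 := ded_38_2 (flp_d L672139) (flp_h L650143) L271852 L650143 L672139
theorem L672147 : sm ge N46434 = N48646 := rfl
theorem L672149 : sm ga N48646 = N48646 := ded_13_1 (flp_e L672147) L650152 L672147
theorem L672150 : sm gc N48646 = N48646 := ded_28_1 (flp_e L672147) L650156 L672147
theorem L672151 : sm gj N48646 = N46437 := ded_42_2 (flp_e L650174) (flp_j L650153) L672147
theorem L672153 : sm gh N48646 = N48646 := ded_43_2 (flp_e L672147) L650157 L672147
theorem L672154 : sm gi N48646 = N48646 := ded_44_2 (flp_e L672147) L650155 L672147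
theorem L672155 : sm gd N46435 = N48647 := rfl
theorem L672157 : sm ga N48647 = N46436 := ded_12_1 (flp_d L650166) (flp_a L650160) L672155
theorem L672159 : sm gb N48647 = N48647 := ded_20_1 (flp_d L672155) L650162 L672155
theorem L672160 : sm gg N48647 = N46438 := ded_36_2 (flp_d L650182) (flp_g L650163) L672155
theorem L672162 : sm gi N48647 = N48647 := ded_39_2 (flp_d L672155) L650165 L672155
theorem L672163 : sm gh N48647 = N48647 := ded_38_2 (flp_d L672155) (flp_h L650158) L271868 L650158 L672155
theorem L672164 : sm gc N46436 = N48648 := rfl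
theorem L672166 : sm gg N48648 = N46439 := ded_30_2 (flp_c L650190) (flp_g L650170) L672164
theorem L672168 : sm gh N48648 = N48648 := ded_32_2 (flp_c L672164) L650173 L672164
theorem L672169 : sm gi N48648 = N48648 := ded_33_2 (flp_c L672164) L650172 L672164
theorem L672170 : sm gb N48648 = N48648 := ded_19_1 (flp_c L672164) L650168 L271884 (flp_b L650168) L672164
theorem L672171 : sm ge N46436 = N48649 := rfl
theorem L672173 : sm gb N48649 = N46437 := ded_21_1 (flp_e L650174) (flp_b L650168) L672171
theorem L672175 : sm gg N48649 = N46440 := ded_41_2 (flp_e L650196) (flp_g L650170) L672171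
theorem L672177 : sm gh N48649 = N48649 := ded_43_2 (flp_e L672171) L650173 L672171
theorem L672178 : sm gi N48649 = N48649 := ded_44_2 (flp_e L672171) L650172 L672171
theorem L672179 : sm gf N46437 = N48650 := rfl
theorem L672181 : sm ga N48650 = N48650 := ded_14_1 (flp_f L672179) L650176 L672179
theorem L672182 : sm gc N48650 = N48650 := ded_29_1 (flp_f L672179) L650177 L672179
theorem L672183 : sm gh N48650 = N48650 := ded_47_2 (flp_f L672179) L650180 L672179
theorem L672184 : sm gi N48650 = N48650 := ded_48_2 (flp_f L672179) L650181 L672179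
theorem L672185 : sm gc N46438 = N48651 := rfl
theorem L672187 : sm ga N48651 = N46439 := ded_11_1 (flp_c L650190) (flp_a L650184) L672185
theorem L672189 : sm gf N48651 = N48651 := ded_29_2 (flp_c L672185) L650187 L672185
theorem L672190 : sm gh N48651 = N48651 := ded_32_2 (flp_c L672185) L650189 L672185
theorem L672191 : sm gi N48651 = N48651 := ded_33_2 (flp_c L672185) L650188 L672185
theorem L672192 : sm ge N46438 = N48652 := rfl
theorem L672194 : sm ga N48652 = N46440 := ded_13_1 (flp_e L650196) (flp_a L650184) L672192
theorem L672196 : sm gb N48652 = N48652 := ded_21_1 (flp_e L672192) L650186 L672192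
theorem L672197 : sm gh N48652 = N48652 := ded_43_2 (flp_e L672192) L650189 L672192
theorem L672198 : sm gi N48652 = N48652 := ded_44_2 (flp_e L672192) L650188 L672192
theorem L672199 : sm ge N46439 = N48653 := rfl
theorem L672201 : sm gb N48653 = N48653 := ded_21_1 (flp_e L672199) L650195 L672199
theorem L672202 : sm gc N48653 = N46440 := ded_28_1 (flp_e L650196) L650190 L672199
theorem L672204 : sm gh N48653 = N48653 := ded_43_2 (flp_e L672199) L650193 L672199
theorem L672205 : sm gi N48653 = N48653 := ded_44_2 (flp_e L672199) L650194 L672199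
theorem L672206 : sm gf N46440 = N48654 := rfl
theorem L672208 : sm gb N48654 = N46441 := ded_22_1 (flp_f L650202) (flp_b L650198) L672206
theorem L672210 : sm gh N48654 = N48654 := ded_47_2 (flp_f L672206) L650200 L672206
theorem L672211 : sm gi N48654 = N48654 := ded_48_2 (flp_f L672206) L650201 L672206
theorem L672212 : sm ge N48654 = N48654 := ded_40_1 (flp_f L672206) (flp_e L650196) L271897 L650196 L672206
theorem L672213 : sm gg N46441 = N48655 := rfl
theorem L672215 : sm ga N48655 = N48655 := ded_15_1 (flp_g L672213) L650204 L672213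
theorem L672216 : sm gc N48655 = N48655 := ded_30_1 (flp_g L672213) L650205 L672213
theorem L672217 : sm ge N48655 = N48655 := ded_41_1 (flp_g L672213) L650208 L672213
theorem L672218 : sm gh N48655 = N48655 := ded_50_2 (flp_g L672213) L650206 L672213
theorem L672219 : sm gi N48655 = N48655 := ded_51_2 (flp_g L672213) L650207 L672213
theorem L672220 : sm gj N48655 = N48655 := ded_49_2 (flp_g L672213) (flp_j L671742) L671741 L671742 L672213
theorem L672221 : sm ga N46442 = N48656 := rfl
theorem L672223 : sm gd N48656 = N46456 := ded_12_2 (flp_a L650345) (flp_d L650211) L672221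
theorem L672225 : sm gf N48656 = N46448 := ded_14_2 (flp_a L650265) (flp_f L650213) L672221
theorem L672227 : sm gg N48656 = N48656 := ded_15_2 (flp_a L672221) L650215 L672221
theorem L672228 : sm gj N48656 = N46524 := ded_16_2 (flp_a L651679) L651676 L672221
theorem L672230 : sm gh N48656 = N48656 := ded_17_2 (flp_a L672221) L650216 L672221
theorem L672231 : sm gb N48656 = N46473 := ded_10_2 (flp_a L650510) (flp_b L272823) (flp_a L272303) L650209 L672221
theorem L672233 : sm gi N46442 = N48657 := rfl
theorem L672235 : sm gb N48657 = N46443 := ded_26_1 (flp_i L650217) L650209 L672233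
theorem L672237 : sm gd N48657 = N46458 := ded_39_1 (flp_i L650365) (flp_d L650211) L672233
theorem L672239 : sm gf N48657 = N46449 := ded_48_1 (flp_i L650274) (flp_f L650213) L672233
theorem L672241 : sm gg N48657 = N48657 := ded_51_1 (flp_i L672233) L650215 L672233
theorem L672242 : sm gh N46443 = N48658 := rfl
theorem L672244 : sm ga N48658 = N46479 := ded_17_1 (flp_h L650561) (flp_a L650219) L672242
theorem L672246 : sm gc N48658 = N46444 := ded_32_1 (flp_h L650228) (flp_c L650221) L672242
theorem L672248 : sm gf N48658 = N46450 := ded_47_1 (flp_h L650282) (flp_f L650225) L672242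
theorem L672250 : sm gg N48658 = N48658 := ded_50_1 (flp_h L672242) L650227 L672242
theorem L672251 : sm gi N48658 = N48658 := ded_54_2 (flp_h L672242) (flp_i L650217) L272308 L650217 L672242
theorem L672252 : sm ga N46445 = N48659 := rfl
theorem L672254 : sm gd N48659 = N46462 := ded_12_2 (flp_a L650400) (flp_d L650239) L672252
theorem L672256 : sm gf N48659 = N46524 := ded_14_2 (flp_a L651679) L651672 L672252
theorem L672258 : sm gg N48659 = N48659 := ded_15_2 (flp_a L672252) L650241 L672252
theorem L672259 : sm gj N48659 = N46448 := ded_16_2 (flp_a L650265) (flp_j L650242) L672252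
theorem L672261 : sm gh N48659 = N48659 := ded_17_2 (flp_a L672252) L650244 L672252
theorem L672262 : sm gb N48659 = N46483 := ded_10_2 (flp_a L650590) (flp_b L272867) (flp_a L272328) L650237 L672252
theorem L672264 : sm gi N46445 = N48660 := rfl
theorem L672266 : sm gb N48660 = N46446 := ded_26_1 (flp_i L650245) L650237 L672264
theorem L672268 : sm gd N48660 = N46463 := ded_39_1 (flp_i L650412) (flp_d L650239) L672264
theorem L672270 : sm gg N48660 = N48660 := ded_51_1 (flp_i L672264) L650241 L672264
theorem L672271 : sm gj N48660 = N46449 := ded_53_1 (flp_i L650274) (flp_j L650242) L672264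
theorem L672273 : sm gh N46446 = N48661 := rfl
theorem L672275 : sm ga N48661 = N46488 := ded_17_1 (flp_h L650638) (flp_a L650247) L672273
theorem L672277 : sm gc N48661 = N46447 := ded_32_1 (flp_h L650256) (flp_c L650249) L672273
theorem L672279 : sm gg N48661 = N48661 := ded_50_1 (flp_h L672273) L650253 L672273
theorem L672280 : sm gj N48661 = N46450 := ded_52_1 (flp_h L650282) (flp_j L650254) L672273
theorem L672282 : sm gi N48661 = N48661 := ded_54_2 (flp_h L672273) (flp_i L650245) L272333 L650245 L672273
theorem L672283 : sm gi N46448 = N48662 := rfl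
theorem L672285 : sm ga N48662 = N46449 := ded_18_1 (flp_i L650274) L650265 L672283
theorem L672287 : sm gb N48662 = N46492 := ded_26_1 (flp_i L650672) (flp_b L650272) L672283
theorem L672289 : sm gd N48662 = N46465 := ded_39_1 (flp_i L650433) (flp_d L650267) L672283
theorem L672291 : sm gg N48662 = N46451 := ded_51_1 (flp_i L650291) (flp_g L650269) L672283
theorem L672293 : sm gh N46449 = N48663 := rfl
theorem L672295 : sm gb N48663 = N46450 := ded_25_1 (flp_h L650282) (flp_b L650276) L672293
theorem L672297 : sm gg N48663 = N46452 := ded_50_1 (flp_h L650301) (flp_g L650280) L672293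
theorem L672299 : sm gi N48663 = N48663 := ded_54_2 (flp_h L672293) (flp_i L650274) L272361 L650274 L672293
theorem L672300 : sm gd N46450 = N48664 := rfl
theorem L672302 : sm ga N48664 = N46499 := ded_12_1 (flp_d L650726) (flp_a L650284) L672300
theorem L672304 : sm gg N48664 = N46453 := ded_36_2 (flp_d L650308) (flp_g L650288) L672300
theorem L672306 : sm gi N48664 = N48664 := ded_39_2 (flp_d L672300) L650290 L672300
theorem L672307 : sm gc N48664 = N48664 := ded_27_1 (flp_d L672300) L650286 L272404 (flp_c L650286) L672300
theorem L672308 : sm gh N48664 = N46467 := ded_38_2 (flp_d L650451) (flp_h L272744) (flp_d L272377) L650282 L672300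
theorem L672310 : sm gh N46451 = N48665 := rfl
theorem L672312 : sm ga N48665 = N46452 := ded_17_1 (flp_h L650301) (flp_a L650293) L672310
theorem L672314 : sm gb N48665 = N46505 := ded_25_1 (flp_h L650773) (flp_b L650295) L672310
theorem L672316 : sm gf N48665 = N48665 := ded_47_1 (flp_h L672310) L650299 L672310
theorem L672317 : sm gj N48665 = N48665 := ded_52_1 (flp_h L672310) L650300 L672310
theorem L672318 : sm gi N48665 = N48665 := ded_54_2 (flp_h L672310) (flp_i L650291) L272412 L650291 L672310
theorem L672319 : sm gd N46452 = N48666 := rfl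
theorem L672321 : sm gb N48666 = N46453 := ded_20_1 (flp_d L650308) (flp_b L650303) L672319
theorem L672323 : sm gf N48666 = N48666 := ded_35_2 (flp_d L672319) L650305 L672319
theorem L672324 : sm gj N48666 = N48666 := ded_37_2 (flp_d L672319) L650306 L672319
theorem L672325 : sm gi N48666 = N48666 := ded_39_2 (flp_d L672319) L650307 L672319
theorem L672326 : sm gh N48666 = N46469 := ded_38_2 (flp_d L650471) (flp_h L272763) (flp_d L272425) L650301 L672319
theorem L672328 : sm ge N46453 = N48667 := rfl
theorem L672330 : sm ga N48667 = N46514 := ded_13_1 (flp_e L650842) (flp_a L650310) L672328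
theorem L672332 : sm gc N48667 = N48667 := ded_28_1 (flp_e L672328) L650315 L672328
theorem L672333 : sm gj N48667 = N48667 := ded_42_2 (flp_e L672328) L650313 L672328
theorem L672334 : sm gh N48667 = N46470 := ded_43_2 (flp_e L650479) (flp_h L650316) L672328
theorem L672336 : sm gi N48667 = N48667 := ded_44_2 (flp_e L672328) L650314 L672328
theorem L672337 : sm gi N46454 = N48668 := rfl
theorem L672339 : sm ga N48668 = N46466 := ded_18_1 L650449 (flp_a L650328) L672337
theorem L672341 : sm gb N48668 = N46455 := ded_26_1 (flp_i L650331) L650318 L672337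
theorem L672343 : sm gc N48668 = N48668 := ded_33_1 (flp_i L672337) L650330 L672337
theorem L672344 : sm gf N48668 = N46463 := ded_48_1 (flp_i L650412) (flp_f L650320) L672337
theorem L672346 : sm gg N48668 = N46468 := ded_51_1 L650469 (flp_g L650322) L672337
theorem L672348 : sm gj N48668 = N46458 := ded_53_1 (flp_i L650365) (flp_j L650324) L672337
theorem L672350 : sm gh N48668 = N46465 := ded_54_1 (flp_i L650433) L272733 (flp_i L646210) (flp_h L650326) L672337
theorem L672352 : sm gi N46456 = N48669 := rfl
theorem L672354 : sm ga N48669 = N46458 := ded_18_1 (flp_i L650365) L650345 L672352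
theorem L672356 : sm gb N48669 = N46464 := ded_26_1 L650431 (flp_b L650355) L672352
theorem L672358 : sm gc N48669 = N48669 := ded_33_1 (flp_i L672352) L650347 L672352
theorem L672359 : sm gf N48669 = N46465 := ded_48_1 (flp_i L650433) (flp_f L650348) L672352
theorem L672361 : sm gg N48669 = N48669 := ded_51_1 (flp_i L672352) L650350 L672352
theorem L672362 : sm gj N48669 = N46466 := ded_53_1 L650449 (flp_j L650351) L672352
theorem L672364 : sm gh N48669 = N46463 := ded_54_1 (flp_i L650412) L272705 (flp_i L645860) (flp_h L650353) L672352
theorem L672366 : sm gd N46457 = N48670 := rfl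
theorem L672368 : sm gb N48670 = N46459 := ded_20_1 (flp_d L650373) (flp_b L650359) L672366
theorem L672370 : sm gg N48670 = N48670 := ded_36_2 (flp_d L672366) L650362 L672366
theorem L672371 : sm gi N46457 = N48671 := rfl
theorem L672373 : sm gb N48671 = N46460 := ded_26_1 (flp_i L650378) (flp_b L650359) L672371
theorem L672375 : sm gc N48671 = N48671 := ded_33_1 (flp_i L672371) L650361 L672371
theorem L672376 : sm ge N48671 = N46458 := ded_44_1 (flp_i L650365) L650357 L672371
theorem L672378 : sm gg N48671 = N48671 := ded_51_1 (flp_i L672371) L650362 L672371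
theorem L672379 : sm gh N46458 = N48672 := rfl
theorem L672381 : sm ga N48672 = N46463 := ded_17_1 (flp_h L672364) L672354 L672379
theorem L672383 : sm gb N48672 = N46461 := ded_25_1 (flp_h L650387) (flp_b L650367) L672379
theorem L672385 : sm gc N48672 = N48672 := ded_32_1 (flp_h L672379) L650369 L672379
theorem L672386 : sm gf N48672 = N46466 := ded_47_1 (flp_h L650442) (flp_f L650370) L672379
theorem L672388 : sm gg N48672 = N48672 := ded_50_1 (flp_h L672379) L650372 L672379
theorem L672389 : sm gj N48672 = N46465 := ded_52_1 (flp_h L672350) L672348 L672379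
theorem L672391 : sm gi N48672 = N46462 := ded_54_2 L650408 (flp_i L273792) (flp_h L272660) L650365 L672379
theorem L672393 : sm gh N46459 = N48673 := rfl
theorem L672395 : sm ga N48673 = N46520 := ded_17_1 (flp_h L650886) (flp_a L650375) L672393
theorem L672397 : sm gg N48673 = N48673 := ded_50_1 (flp_h L672393) L650377 L672393
theorem L672398 : sm gd N48673 = N46523 := ded_38_1 (flp_h L650903) (flp_d L273801) (flp_h L272670) L650373 L672393
theorem L672400 : sm gi N46459 = N48674 := rfl
theorem L672402 : sm ga N48674 = N46521 := ded_18_1 (flp_i L650891) (flp_a L650375) L672400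
theorem L672404 : sm gd N48674 = N46460 := ded_39_1 (flp_i L650378) L650373 L672400
theorem L672406 : sm gg N48674 = N48674 := ded_51_1 (flp_i L672400) L650377 L672400
theorem L672407 : sm gd N46461 = N48675 := rfl
theorem L672409 : sm ga N48675 = N46485 := ded_12_1 L650615 (flp_a L650389) L672407
theorem L672411 : sm gf N48675 = N46467 := ded_35_2 (flp_d L650451) (flp_f L650393) L672407
theorem L672413 : sm gg N48675 = N48675 := ded_36_2 (flp_d L672407) L650395 L672407
theorem L672414 : sm gj N48675 = N46492 := ded_37_2 L650677 (flp_j L650396) L672407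
theorem L672416 : sm gi N48675 = N46483 := ded_39_2 L650593 (flp_i L650398) L672407
theorem L672418 : sm gc N48675 = N48675 := ded_27_1 (flp_d L672407) L650391 L272697 (flp_c L650391) L672407
theorem L672419 : sm gd N46464 = N48676 := rfl
theorem L672421 : sm ga N48676 = N46475 := ded_12_1 L650535 (flp_a L650422) L672419
theorem L672423 : sm gf N48676 = N46492 := ded_35_2 L650677 (flp_f L650426) L672419
theorem L672425 : sm gg N48676 = N48676 := ded_36_2 (flp_d L672419) L650428 L672419
theorem L672426 : sm gj N48676 = N46467 := ded_37_2 (flp_d L650451) (flp_j L650429) L672419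
theorem L672428 : sm gi N48676 = N46473 := ded_39_2 L650513 (flp_i L650431) L672419
theorem L672430 : sm gc N48676 = N48676 := ded_27_1 (flp_d L672419) L650424 L272725 (flp_c L650424) L672419
theorem L672431 : sm gd N46466 = N48677 := rfl
theorem L672433 : sm gb N48677 = N46467 := ded_20_1 (flp_d L650451) (flp_b L650444) L672431
theorem L672435 : sm gg N48677 = N46469 := ded_36_2 (flp_d L650471) (flp_g L650447) L672431
theorem L672437 : sm gi N48677 = N46524 := ded_39_2 (flp_d L650910) (flp_i L650449) L672431
theorem L672439 : sm ge N46467 = N48678 := rfl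
theorem L672441 : sm ga N48678 = N46522 := ded_13_1 (flp_e L650896) (flp_a L650453) L672439
theorem L672443 : sm gc N48678 = N48678 := ded_28_1 (flp_e L672439) L650459 L672439
theorem L672444 : sm gg N48678 = N46470 := ded_41_2 (flp_e L650479) (flp_g L650455) L672439
theorem L672446 : sm gi N48678 = N46525 := ded_44_2 (flp_e L650917) (flp_i L650457) L672439
theorem L672448 : sm gh N46471 = N48679 := rfl
theorem L672450 : sm gb N48679 = N46499 := ded_25_1 L650732 (flp_b L650489) L672448
theorem L672452 : sm gc N48679 = N46472 := ded_32_1 (flp_h L650501) (flp_c L650491) L672448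
theorem L672454 : sm gf N48679 = N46488 := ded_47_1 (flp_h L650638) (flp_f L650495) L672448
theorem L672456 : sm gg N48679 = N46509 := ded_50_1 L650813 (flp_g L650497) L672448
theorem L672458 : sm gj N48679 = N46479 := ded_52_1 (flp_h L650561) (flp_j L650499) L672448
theorem L672460 : sm gd N48679 = N46495 := ded_38_1 (flp_h L650696) L272940 (flp_h L646411) (flp_d L650493) L672448
theorem L672462 : sm gi N48679 = N48679 := ded_54_2 (flp_h L672448) (flp_i L650487) L272805 L650487 L672448
theorem L672463 : sm ge N46473 = N48680 := rfl
theorem L672465 : sm ga N48680 = N46474 := ded_13_1 (flp_e L650521) L650510 L672463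
theorem L672467 : sm gc N48680 = N48680 := ded_28_1 (flp_e L672463) L650512 L672463
theorem L672468 : sm gg N48680 = N48680 := ded_41_2 (flp_e L672463) L650517 L672463
theorem L672469 : sm gj N48680 = N46525 := ded_42_2 (flp_e L650917) (flp_j L650518) L672463
theorem L672471 : sm gh N48680 = N48680 := ded_43_2 (flp_e L672463) L650520 L672463
theorem L672472 : sm gf N46474 = N48681 := rfl
theorem L672474 : sm gb N48681 = N46477 := ded_22_1 (flp_f L650547) (flp_b L650523) L672472
theorem L672476 : sm gc N48681 = N48681 := ded_29_1 (flp_f L672472) L650525 L672472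
theorem L672477 : sm gj N48681 = N46527 := ded_46_2 (flp_f L650930) (flp_j L650527) L672472
theorem L672479 : sm gh N48681 = N48681 := ded_47_2 (flp_f L672472) L650529 L672472
theorem L672480 : sm ge N48681 = N46493 := ded_40_1 (flp_f L650681) (flp_e L272927) (flp_f L272827) L650521 L672472
theorem L672482 : sm gi N46474 = N48682 := rfl
theorem L672484 : sm gb N48682 = N46478 := ded_26_1 (flp_i L650554) (flp_b L650523) L672482
theorem L672486 : sm gc N48682 = N48682 := ded_33_1 (flp_i L672482) L650525 L672482
theorem L672487 : sm ge N48682 = N46475 := ded_44_1 (flp_i L650530) L650521 L672482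
theorem L672489 : sm gg N48682 = N48682 := ded_51_1 (flp_i L672482) L650526 L672482
theorem L672490 : sm gj N48682 = N46522 := ded_53_1 L650901 (flp_j L650527) L672482
theorem L672492 : sm gh N46475 = N48683 := rfl
theorem L672494 : sm gb N48683 = N46479 := ded_25_1 (flp_h L650561) (flp_b L650532) L672492
theorem L672496 : sm gc N48683 = N48683 := ded_32_1 (flp_h L672492) L650534 L672492
theorem L672497 : sm gf N48683 = N46495 := ded_47_1 (flp_h L650696) (flp_f L650537) L672492
theorem L672499 : sm gg N48683 = N48683 := ded_50_1 (flp_h L672492) L650539 L672492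
theorem L672500 : sm gj N48683 = N46499 := ded_52_1 L650732 (flp_j L650540) L672492
theorem L672502 : sm gd N48683 = N46488 := ded_38_1 (flp_h L650638) L272888 (flp_h L646675) (flp_d L650535) L672492
theorem L672504 : sm gi N48683 = N48683 := ded_54_2 (flp_h L672492) (flp_i L650530) L272830 L650530 L672492
theorem L672505 : sm gf N46476 = N48684 := rfl
theorem L672507 : sm gd N48684 = N46477 := ded_35_1 (flp_f L650547) L650542 L672505
theorem L672509 : sm gh N46476 = N48685 := rfl
theorem L672511 : sm ge N48685 = N46520 := ded_43_1 (flp_h L650886) (flp_e L650545) L672509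
theorem L672513 : sm gg N48685 = N48685 := ded_50_1 (flp_h L672509) L650544 L672509
theorem L672514 : sm gd N48685 = N48685 := ded_38_1 (flp_h L672509) (flp_d L650542) L272837 L650542 L672509
theorem L672515 : sm gi N46476 = N48686 := rfl
theorem L672517 : sm gd N48686 = N46478 := ded_39_1 (flp_i L650554) L650542 L672515
theorem L672519 : sm ge N48686 = N46521 := ded_44_1 (flp_i L650891) (flp_e L650545) L672515
theorem L672521 : sm gg N48686 = N48686 := ded_51_1 (flp_i L672515) L650544 L672515
theorem L672522 : sm gg N46477 = N48687 := rfl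
theorem L672524 : sm gc N48687 = N46480 := ded_30_1 (flp_g L650569) (flp_c L650549) L672522
theorem L672526 : sm ge N48687 = N46496 := ded_41_1 (flp_g L650704) (flp_e L650552) L672522
theorem L672528 : sm gh N48687 = N48687 := ded_50_2 (flp_g L672522) L650551 L672522
theorem L672529 : sm gf N48687 = N48687 := ded_45_1 (flp_g L672522) (flp_f L650547) L272836 L650547 L672522
theorem L672530 : sm gi N46477 = N48688 := rfl
theorem L672532 : sm gc N48688 = N46481 := ded_33_1 (flp_i L650576) (flp_c L650549) L672530
theorem L672534 : sm ge N48688 = N46497 := ded_44_1 (flp_i L650711) (flp_e L650552) L672530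
theorem L672536 : sm gf N48688 = N46478 := ded_48_1 (flp_i L650554) L650547 L672530
theorem L672538 : sm gh N46478 = N48689 := rfl
theorem L672540 : sm gc N48689 = N46482 := ded_32_1 (flp_h L650583) (flp_c L650556) L672538
theorem L672542 : sm ge N48689 = N46479 := ded_43_1 (flp_h L650561) (flp_e L650558) L672538
theorem L672544 : sm gg N48689 = N48689 := ded_50_1 (flp_h L672538) L650560 L672538
theorem L672545 : sm gi N48689 = N48689 := ded_54_2 (flp_h L672538) (flp_i L650554) L272837 L650554 L672538
theorem L672546 : sm gd N46479 = N48690 := rfl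
theorem L672548 : sm gb N48690 = N46488 := ded_20_1 (flp_d L672502) L672494 L672546
theorem L672550 : sm gf N48690 = N46499 := ded_35_2 (flp_d L650726) (flp_f L650565) L672546
theorem L672552 : sm gg N48690 = N48690 := ded_36_2 (flp_d L672546) L650567 L672546
theorem L672553 : sm gj N48690 = N46495 := ded_37_2 (flp_d L672460) L672458 L672546
theorem L672555 : sm gi N48690 = N48690 := ded_39_2 (flp_d L672546) L650568 L672546
theorem L672556 : sm gc N48690 = N48690 := ded_27_1 (flp_d L672546) L650563 L272865 (flp_c L650563) L672546
theorem L672557 : sm gh N48690 = N46485 := ded_38_2 L650615 (flp_h L273321) (flp_d L272842) L650561 L672546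
theorem L672559 : sm gi N46480 = N48691 := rfl
theorem L672561 : sm gb N48691 = N48691 := ded_26_1 (flp_i L672559) L650571 L672559
theorem L672562 : sm ge N48691 = N46501 := ded_44_1 (flp_i L650742) (flp_e L650572) L672559
theorem L672564 : sm gf N48691 = N48691 := ded_48_1 (flp_i L672559) L650575 L672559
theorem L672565 : sm gg N48691 = N46481 := ded_51_1 (flp_i L650576) L650569 L672559
theorem L672567 : sm gh N46481 = N48692 := rfl
theorem L672569 : sm gb N48692 = N48692 := ded_25_1 (flp_h L672567) L650578 L672567
theorem L672570 : sm ge N48692 = N46502 := ded_43_1 (flp_h L650751) (flp_e L650579) L672567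
theorem L672572 : sm gf N48692 = N46482 := ded_47_1 (flp_h L650583) (flp_f L650581) L672567
theorem L672574 : sm gi N48692 = N48692 := ded_54_2 (flp_h L672567) (flp_i L650576) L272850 L650576 L672567
theorem L672575 : sm gd N46482 = N48693 := rfl
theorem L672577 : sm gb N48693 = N48693 := ded_20_1 (flp_d L672575) L650585 L672575
theorem L672578 : sm gg N48693 = N48693 := ded_36_2 (flp_d L672575) L650588 L672575
theorem L672579 : sm gj N48693 = N46516 := ded_37_2 (flp_d L655415) L655413 L672575
theorem L672581 : sm gi N48693 = N48693 := ded_39_2 (flp_d L672575) L650589 L672575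
theorem L672582 : sm ge N48693 = N48693 := ded_34_2 (flp_d L672575) L650586 L272865 (flp_e L650586) L672575
theorem L672583 : sm gh N48693 = N46515 := ded_38_2 L650852 L648232 (flp_d L649101) L650583 L672575
theorem L672585 : sm ge N46483 = N48694 := rfl
theorem L672587 : sm ga N48694 = N46484 := ded_13_1 (flp_e L650601) L650590 L672585
theorem L672589 : sm gc N48694 = N48694 := ded_28_1 (flp_e L672585) L650592 L672585
theorem L672590 : sm gg N48694 = N48694 := ded_41_2 (flp_e L672585) L650597 L672585
theorem L672591 : sm gj N48694 = N46491 := ded_42_2 (flp_e L650664) (flp_j L650598) L672585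
theorem L672593 : sm gh N48694 = N48694 := ded_43_2 (flp_e L672585) L650600 L672585
theorem L672594 : sm gf N46484 = N48695 := rfl
theorem L672596 : sm gb N48695 = N46486 := ded_22_1 (flp_f L650622) (flp_b L650603) L672594
theorem L672598 : sm gc N48695 = N48695 := ded_29_1 (flp_f L672594) L650605 L672594
theorem L672599 : sm gj N48695 = N46493 := ded_46_2 (flp_f L650681) (flp_j L650607) L672594
theorem L672601 : sm gh N48695 = N48695 := ded_47_2 (flp_f L672594) L650609 L672594
theorem L672602 : sm ge N48695 = N46527 := ded_40_1 (flp_f L650930) (flp_e L274133) (flp_f L646241) L650601 L672594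
theorem L672604 : sm gi N46484 = N48696 := rfl
theorem L672606 : sm gb N48696 = N46487 := ded_26_1 (flp_i L650629) (flp_b L650603) L672604
theorem L672608 : sm gc N48696 = N48696 := ded_33_1 (flp_i L672604) L650605 L672604
theorem L672609 : sm ge N48696 = N46485 := ded_44_1 (flp_i L650610) L650601 L672604
theorem L672611 : sm gg N48696 = N48696 := ded_51_1 (flp_i L672604) L650606 L672604
theorem L672612 : sm gj N48696 = N46494 := ded_53_1 (flp_i L650687) (flp_j L650607) L672604
theorem L672614 : sm gi N46486 = N48697 := rfl
theorem L672616 : sm gc N48697 = N46489 := ded_33_1 (flp_i L650646) (flp_c L650624) L672614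
theorem L672618 : sm gf N48697 = N46487 := ded_48_1 (flp_i L650629) L650622 L672614
theorem L672620 : sm gj N48697 = N46497 := ded_53_1 (flp_i L650711) (flp_j L650626) L672614
theorem L672622 : sm gh N46487 = N48698 := rfl
theorem L672624 : sm gc N48698 = N46490 := ded_32_1 (flp_h L650655) (flp_c L650631) L672622
theorem L672626 : sm ge N48698 = N46488 := ded_43_1 (flp_h L650638) (flp_e L650633) L672622
theorem L672628 : sm gg N48698 = N48698 := ded_50_1 (flp_h L672622) L650635 L672622
theorem L672629 : sm gj N48698 = N46498 := ded_52_1 (flp_h L650717) (flp_j L650636) L672622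
theorem L672631 : sm gi N48698 = N48698 := ded_54_2 (flp_h L672622) (flp_i L650629) L272883 L650629 L672622
theorem L672632 : sm gh N46489 = N48699 := rfl
theorem L672634 : sm gb N48699 = N48699 := ded_25_1 (flp_h L672632) L650648 L672632
theorem L672635 : sm gf N48699 = N46490 := ded_47_1 (flp_h L650655) (flp_f L650651) L672632
theorem L672637 : sm gj N48699 = N46502 := ded_52_1 (flp_h L650751) (flp_j L650653) L672632
theorem L672639 : sm gi N48699 = N48699 := ded_54_2 (flp_h L672632) (flp_i L650646) L272900 L650646 L672632
theorem L672640 : sm gf N46491 = N48700 := rfl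
theorem L672642 : sm ga N48700 = N46493 := ded_14_1 (flp_f L650681) (flp_a L650666) L672640
theorem L672644 : sm gc N48700 = N48700 := ded_29_1 (flp_f L672640) L650668 L672640
theorem L672645 : sm gh N48700 = N48700 := ded_47_2 (flp_f L672640) L650671 L672640
theorem L672646 : sm gi N46491 = N48701 := rfl
theorem L672648 : sm ga N48701 = N46494 := ded_18_1 (flp_i L650687) (flp_a L650666) L672646
theorem L672650 : sm gc N48701 = N48701 := ded_33_1 (flp_i L672646) L650668 L672646
theorem L672651 : sm ge N48701 = N46492 := ded_44_1 (flp_i L650672) L650664 L672646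
theorem L672653 : sm gg N48701 = N46504 := ded_51_1 (flp_i L650765) (flp_g L650669) L672646
theorem L672655 : sm gh N46492 = N48702 := rfl
theorem L672657 : sm ga N48702 = N46495 := ded_17_1 (flp_h L650696) (flp_a L650674) L672655
theorem L672659 : sm gc N48702 = N48702 := ded_32_1 (flp_h L672655) L650676 L672655
theorem L672660 : sm gg N48702 = N46505 := ded_50_1 (flp_h L650773) (flp_g L650679) L672655
theorem L672662 : sm gi N48702 = N48702 := ded_54_2 (flp_h L672655) (flp_i L650672) L272926 L650672 L672655
theorem L672663 : sm gg N46493 = N48703 := rfl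
theorem L672665 : sm gb N48703 = N46496 := ded_23_1 (flp_g L650704) (flp_b L650683) L672663
theorem L672667 : sm gc N48703 = N48703 := ded_30_1 (flp_g L672663) L650685 L672663
theorem L672668 : sm gh N48703 = N48703 := ded_50_2 (flp_g L672663) L650686 L672663
theorem L672669 : sm gf N48703 = N46506 := ded_45_1 (flp_g L650781) (flp_f L273003) (flp_g L272932) L650681 L672663
theorem L672671 : sm gi N46493 = N48704 := rfl
theorem L672673 : sm gb N48704 = N46497 := ded_26_1 (flp_i L650711) (flp_b L650683) L672671
theorem L672675 : sm gc N48704 = N48704 := ded_33_1 (flp_i L672671) L650685 L672671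
theorem L672676 : sm gf N48704 = N46494 := ded_48_1 (flp_i L650687) L650681 L672671
theorem L672678 : sm gh N46494 = N48705 := rfl
theorem L672680 : sm gb N48705 = N46498 := ded_25_1 (flp_h L650717) (flp_b L650689) L672678
theorem L672682 : sm gc N48705 = N48705 := ded_32_1 (flp_h L672678) L650691 L672678
theorem L672683 : sm ge N48705 = N46495 := ded_43_1 (flp_h L650696) (flp_e L650692) L672678
theorem L672685 : sm gg N48705 = N46508 := ded_50_1 (flp_h L650797) (flp_g L650694) L672678
theorem L672687 : sm gi N48705 = N48705 := ded_54_2 (flp_h L672678) (flp_i L650687) L272934 L650687 L672678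
theorem L672688 : sm gj N46496 = N48706 := rfl
theorem L672690 : sm gc N48706 = N46500 := ded_31_1 (flp_j L650734) (flp_c L650706) L672688
theorem L672692 : sm gf N48706 = N46510 := ded_46_1 (flp_j L650815) (flp_f L650709) L672688
theorem L672694 : sm gh N48706 = N48706 := ded_52_2 (flp_j L672688) L650708 L672688
theorem L672695 : sm gi N46496 = N48707 := rfl
theorem L672697 : sm gc N48707 = N46501 := ded_33_1 (flp_i L650742) (flp_c L650706) L672695
theorem L672699 : sm gf N48707 = N46511 := ded_48_1 (flp_i L650822) (flp_f L650709) L672695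
theorem L672701 : sm gg N48707 = N46497 := ded_51_1 (flp_i L650711) L650704 L672695
theorem L672703 : sm gh N46497 = N48708 := rfl
theorem L672705 : sm gc N48708 = N46502 := ded_32_1 (flp_h L650751) (flp_c L650713) L672703
theorem L672707 : sm gf N48708 = N46498 := ded_47_1 (flp_h L650717) (flp_f L650715) L672703
theorem L672709 : sm gi N48708 = N48708 := ded_54_2 (flp_h L672703) (flp_i L650711) L272948 L650711 L672703
theorem L672710 : sm gd N46498 = N48709 := rfl
theorem L672712 : sm gg N48709 = N46513 := ded_36_2 (flp_d L650838) (flp_g L650723) L672710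
theorem L672714 : sm gi N48709 = N48709 := ded_39_2 (flp_d L672710) L650725 L672710
theorem L672715 : sm ge N46499 = N48710 := rfl
theorem L672717 : sm gc N48710 = N48710 := ded_28_1 (flp_e L672715) L650731 L672715
theorem L672718 : sm gg N48710 = N46514 := ded_41_2 (flp_e L650842) (flp_g L650728) L672715
theorem L672720 : sm gh N48710 = N46522 := ded_43_2 (flp_e L650896) (flp_h L650732) L672715
theorem L672722 : sm gi N48710 = N48710 := ded_44_2 (flp_e L672715) L650730 L672715
theorem L672723 : sm gi N46500 = N48711 := rfl
theorem L672725 : sm gb N48711 = N48711 := ded_26_1 (flp_i L672723) L650736 L672723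
theorem L672726 : sm gd N48711 = N46519 := ded_39_1 (flp_i L650879) (flp_d L650737) L672723
theorem L672728 : sm gf N48711 = N46515 := ded_48_1 (flp_i L650849) (flp_f L650739) L672723
theorem L672730 : sm gj N48711 = N46501 := ded_53_1 (flp_i L650742) L650734 L672723
theorem L672732 : sm gh N46501 = N48712 := rfl
theorem L672734 : sm gb N48712 = N48712 := ded_25_1 (flp_h L672732) L650744 L672732
theorem L672735 : sm gf N48712 = N46516 := ded_47_1 (flp_h L650858) (flp_f L650747) L672732
theorem L672737 : sm gg N48712 = N46502 := ded_50_1 (flp_h L650751) (flp_g L650749) L672732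
theorem L672739 : sm gi N48712 = N48712 := ded_54_2 (flp_h L672732) (flp_i L650742) L272969 L650742 L672732
theorem L672740 : sm gg N46503 = N48713 := rfl
theorem L672742 : sm ga N48713 = N46506 := ded_15_1 (flp_g L650781) (flp_a L650759) L672740
theorem L672744 : sm gb N48713 = N46560 := ded_23_1 (flp_g L654508) L654512 L672740
theorem L672746 : sm gc N48713 = N48713 := ded_30_1 (flp_g L672740) L650761 L672740
theorem L672747 : sm ge N48713 = N48713 := ded_41_1 (flp_g L672740) L650764 L672740
theorem L672748 : sm gh N48713 = N48713 := ded_50_2 (flp_g L672740) L650763 L672740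
theorem L672749 : sm gj N46562 = N48713 := ded_24_0 L672744 L651231 L651242
theorem L672751 : sm gi N46503 = N48714 := rfl
theorem L672753 : sm ga N48714 = N46507 := ded_18_1 (flp_i L650788) (flp_a L650759) L672751
theorem L672755 : sm gc N48714 = N48714 := ded_33_1 (flp_i L672751) L650761 L672751
theorem L672756 : sm ge N48714 = N48714 := ded_44_1 (flp_i L672751) L650764 L672751
theorem L672757 : sm gf N48714 = N46504 := ded_48_1 (flp_i L650765) L650757 L672751
theorem L672759 : sm gj N48714 = N48714 := ded_53_1 (flp_i L672751) L650762 L672751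
theorem L672760 : sm gh N46504 = N48715 := rfl
theorem L672762 : sm ga N48715 = N46508 := ded_17_1 (flp_h L650797) (flp_a L650767) L672760
theorem L672764 : sm gc N48715 = N48715 := ded_32_1 (flp_h L672760) L650769 L672760
theorem L672765 : sm ge N48715 = N46505 := ded_43_1 (flp_h L650773) (flp_e L650770) L672760
theorem L672767 : sm gj N48715 = N48715 := ded_52_1 (flp_h L672760) L650772 L672760
theorem L672768 : sm gi N48715 = N48715 := ded_54_2 (flp_h L672760) (flp_i L650765) L272993 L650765 L672760
theorem L672769 : sm gj N46506 = N48716 := rfl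
theorem L672771 : sm ga N48716 = N46562 := ded_16_1 L672749 L672742 L672769
theorem L672773 : sm gb N48716 = N46510 := ded_24_1 (flp_j L650815) (flp_b L650783) L672769
theorem L672775 : sm gc N48716 = N48716 := ded_31_1 (flp_j L672769) L650785 L672769
theorem L672776 : sm ge N48716 = N48716 := ded_42_1 (flp_j L672769) L650786 L672769
theorem L672777 : sm gh N48716 = N48716 := ded_52_2 (flp_j L672769) L650787 L672769
theorem L672778 : sm gg N48716 = N48716 := ded_49_1 (flp_j L672769) (flp_g L650781) L273008 L650781 L672769
theorem L672779 : sm gi N46506 = N48717 := rfl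
theorem L672781 : sm gb N48717 = N46511 := ded_26_1 (flp_i L650822) (flp_b L650783) L672779
theorem L672783 : sm gc N48717 = N48717 := ded_33_1 (flp_i L672779) L650785 L672779
theorem L672784 : sm ge N48717 = N48717 := ded_44_1 (flp_i L672779) L650786 L672779
theorem L672785 : sm gg N48717 = N46507 := ded_51_1 (flp_i L650788) L650781 L672779
theorem L672787 : sm gh N46507 = N48718 := rfl
theorem L672789 : sm gb N48718 = N46512 := ded_25_1 (flp_h L650829) (flp_b L650790) L672787
theorem L672791 : sm gc N48718 = N48718 := ded_32_1 (flp_h L672787) L650792 L672787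
theorem L672792 : sm ge N48718 = N48718 := ded_43_1 (flp_h L672787) L650793 L672787
theorem L672793 : sm gf N48718 = N46508 := ded_47_1 (flp_h L650797) (flp_f L650794) L672787
theorem L672795 : sm gj N48718 = N48718 := ded_52_1 (flp_h L672787) L650796 L672787
theorem L672796 : sm gi N48718 = N48718 := ded_54_2 (flp_h L672787) (flp_i L650788) L273009 L650788 L672787
theorem L672797 : sm gd N46508 = N48719 := rfl
theorem L672799 : sm gb N48719 = N46513 := ded_20_1 (flp_d L650838) (flp_b L650799) L672797
theorem L672801 : sm gj N48719 = N48719 := ded_37_2 (flp_d L672797) L650804 L672797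
theorem L672802 : sm gi N48719 = N48719 := ded_39_2 (flp_d L672797) L650805 L672797
theorem L672803 : sm gi N46510 = N48720 := rfl
theorem L672805 : sm gc N48720 = N46515 := ded_33_1 (flp_i L650849) (flp_c L650817) L672803
theorem L672807 : sm ge N48720 = N48720 := ded_44_1 (flp_i L672803) L650819 L672803
theorem L672808 : sm gg N48720 = N48720 := ded_51_1 (flp_i L672803) L650821 L672803
theorem L672809 : sm gj N48720 = N46511 := ded_53_1 (flp_i L650822) L650815 L672803
theorem L672811 : sm gh N46511 = N48721 := rfl
theorem L672813 : sm gc N48721 = N46516 := ded_32_1 (flp_h L650858) (flp_c L650824) L672811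
theorem L672815 : sm ge N48721 = N48721 := ded_43_1 (flp_h L672811) L650826 L672811
theorem L672816 : sm gg N48721 = N46512 := ded_50_1 (flp_h L650829) (flp_g L650827) L672811
theorem L672818 : sm gi N48721 = N48721 := ded_54_2 (flp_h L672811) (flp_i L650822) L273032 L650822 L672811
theorem L672819 : sm gd N46512 = N48722 := rfl
theorem L672821 : sm gf N48722 = N46513 := ded_35_2 (flp_d L650838) (flp_f L650834) L672819
theorem L672823 : sm gj N48722 = N48722 := ded_37_2 (flp_d L672819) L650836 L672819
theorem L672824 : sm gi N48722 = N48722 := ded_39_2 (flp_d L672819) L650837 L672819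
theorem L672825 : sm ge N46513 = N48723 := rfl
theorem L672827 : sm gj N48723 = N48723 := ded_42_2 (flp_e L672825) L650840 L672825
theorem L672828 : sm gi N48723 = N48723 := ded_44_2 (flp_e L672825) L650841 L672825
theorem L672829 : sm gd N48723 = N46514 := ded_34_1 (flp_e L650842) (flp_d L273049) (flp_e L273045) L650838 L672825
theorem L672831 : sm gi N46517 = N48724 := rfl
theorem L672833 : sm gb N48724 = N48724 := ded_26_1 (flp_i L672831) L650867 L672831
theorem L672834 : sm gf N48724 = N48724 := ded_48_1 (flp_i L672831) L650868 L672831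
theorem L672835 : sm gg N48724 = N46519 := ded_51_1 (flp_i L650879) (flp_g L650871) L672831
theorem L672837 : sm gj N48724 = N46518 := ded_53_1 (flp_i L650873) L650865 L672831
theorem L672839 : sm gi N46520 = N48725 := rfl
theorem L672841 : sm gd N48725 = N46526 := ded_39_1 (flp_i L650925) (flp_d L650889) L672839
theorem L672843 : sm gg N48725 = N48725 := ded_51_1 (flp_i L672839) L650888 L672839
theorem L672844 : sm gh N46521 = N48726 := rfl
theorem L672846 : sm gg N48726 = N48726 := ded_50_1 (flp_h L672844) L650895 L672844
theorem L672847 : sm gf N46522 = N48727 := rfl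
theorem L672849 : sm gc N48727 = N48727 := ded_29_1 (flp_f L672847) L650898 L672847
theorem L672850 : sm gi N48727 = N46527 := ded_48_2 (flp_f L650930) (flp_i L650901) L672847
theorem L672852 : sm gi N46523 = N48728 := rfl
theorem L672854 : sm ga N48728 = N46526 := ded_18_1 (flp_i L650925) (flp_a L650905) L672852
theorem L672856 : sm gc N48728 = N48728 := ded_33_1 (flp_i L672852) L650907 L672852
theorem L672857 : sm ge N48728 = N48728 := ded_44_1 (flp_i L672852) L650908 L672852
theorem L672858 : sm gg N48728 = N48728 := ded_51_1 (flp_i L672852) L650909 L672852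
theorem L672859 : sm gf N46525 = N48729 := rfl
theorem L672861 : sm ga N48729 = N46527 := ded_14_1 (flp_f L650930) (flp_a L650919) L672859
theorem L672863 : sm gc N48729 = N48729 := ded_29_1 (flp_f L672859) L650921 L672859
theorem L672864 : sm gh N48729 = N48729 := ded_47_2 (flp_f L672859) L650924 L672859
theorem L672865 : sm gi N46541 = N48730 := rfl
theorem L672867 : sm gd N48730 = N46542 := ded_39_1 (flp_i L651093) L651090 L672865
theorem L672869 : sm gg N48730 = N48730 := ded_51_1 (flp_i L672865) L651092 L672865
theorem L672870 : sm gc N46544 = N48731 := rfl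
theorem L672872 : sm ga N48731 = N46546 := ded_11_1 (flp_c L651134) (flp_a L651122) L672870
theorem L672874 : sm gg N48731 = N48731 := ded_30_2 (flp_c L672870) L651124 L672870
theorem L672875 : sm gd N48731 = N46558 := ded_27_2 (flp_c L651213) (flp_d L295720) (flp_c L293754) L651120 L672870
theorem L672877 : sm gi N46544 = N48732 := rfl
theorem L672879 : sm ga N48732 = N46547 := ded_18_1 (flp_i L651139) (flp_a L651122) L672877
theorem L672881 : sm gd N48732 = N46545 := ded_39_1 (flp_i L651125) L651120 L672877
theorem L672883 : sm gg N48732 = N48732 := ded_51_1 (flp_i L672877) L651124 L672877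
theorem L672884 : sm gb N46546 = N48733 := rfl
theorem L672886 : sm gd N48733 = N46562 := ded_20_2 (flp_b L651242) (flp_d L651137) L672884
theorem L672888 : sm gg N48733 = N48733 := ded_23_2 (flp_b L672884) L651136 L672884
theorem L672889 : sm gi N46546 = N48734 := rfl
theorem L672891 : sm gc N48734 = N46547 := ded_33_1 (flp_i L651139) L651134 L672889
theorem L672893 : sm gd N48734 = N46563 := ded_39_1 (flp_i L651248) (flp_d L651137) L672889
theorem L672895 : sm gg N48734 = N48734 := ded_51_1 (flp_i L672889) L651136 L672889
theorem L672896 : sm gh N46547 = N48735 := rfl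
theorem L672898 : sm gg N48735 = N48735 := ded_50_1 (flp_h L672896) L651143 L672896
theorem L672899 : sm gj N46548 = N48736 := rfl
theorem L672901 : sm gc N48736 = N48736 := ded_31_1 (flp_j L672899) L651146 L672899
theorem L672902 : sm gf N48736 = N46550 := ded_46_1 (flp_j L651156) (flp_f L651149) L672899
theorem L672904 : sm gh N48736 = N46552 := ded_52_2 (flp_j L651169) (flp_h L651147) L672899
theorem L672906 : sm gi N46548 = N48737 := rfl
theorem L672908 : sm gc N48737 = N48737 := ded_33_1 (flp_i L672906) L651146 L672906
theorem L672909 : sm gf N48737 = N46551 := ded_48_1 (flp_i L651163) (flp_f L651149) L672906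
theorem L672911 : sm gg N48737 = N46549 := ded_51_1 (flp_i L651151) L651144 L672906
theorem L672913 : sm gi N46550 = N48738 := rfl
theorem L672915 : sm gc N48738 = N48738 := ded_33_1 (flp_i L672913) L651158 L672913
theorem L672916 : sm ge N48738 = N48738 := ded_44_1 (flp_i L672913) L651159 L672913
theorem L672917 : sm gg N48738 = N48738 := ded_51_1 (flp_i L672913) L651162 L672913
theorem L672918 : sm gj N48738 = N46551 := ded_53_1 (flp_i L651163) L651156 L672913
theorem L672920 : sm gi N46554 = N48739 := rfl
theorem L672922 : sm ga N48739 = N46557 := ded_18_1 (flp_i L651207) (flp_a L651185) L672920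
theorem L672924 : sm gd N48739 = N46555 := ded_39_1 (flp_i L651189) L651183 L672920
theorem L672926 : sm gg N48739 = N48739 := ded_51_1 (flp_i L672920) L651187 L672920
theorem L672927 : sm gh N46557 = N48740 := rfl
theorem L672929 : sm gb N48740 = N48740 := ded_25_1 (flp_h L672927) L651209 L672927
theorem L672930 : sm gg N48740 = N48740 := ded_50_1 (flp_h L672927) L651212 L672927
theorem L672931 : sm gd N48740 = N46564 := ded_38_1 (flp_h L651254) L295788 (flp_h L295130) (flp_d L651210) L672927
theorem L672933 : sm gi N48740 = N48740 := ded_54_2 (flp_h L672927) (flp_i L651207) L295123 L651207 L672927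
theorem L672934 : sm gi N46558 = N48741 := rfl
theorem L672936 : sm ga N48741 = N46563 := ded_18_1 (flp_i L651248) (flp_a L651215) L672934
theorem L672938 : sm gc N48741 = N46559 := ded_33_1 (flp_i L651220) L651213 L672934
theorem L672940 : sm ge N48741 = N48741 := ded_44_1 (flp_i L672934) L651217 L672934
theorem L672941 : sm gg N48741 = N48741 := ded_51_1 (flp_i L672934) L651218 L672934
theorem L672942 : sm gh N46559 = N48742 := rfl
theorem L672944 : sm ga N48742 = N46564 := ded_17_1 (flp_h L651254) (flp_a L651222) L672942
theorem L672946 : sm ge N48742 = N48742 := ded_43_1 (flp_h L672942) L651226 L672942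
theorem L672947 : sm gg N48742 = N48742 := ded_50_1 (flp_h L672942) L651227 L672942
theorem L672948 : sm gi N48742 = N48742 := ded_54_2 (flp_h L672942) (flp_i L651220) L295726 L651220 L672942
theorem L672949 : sm gi N46560 = N48743 := rfl
theorem L672951 : sm gc N48743 = N46561 := ded_33_1 (flp_i L651234) L651228 L672949
theorem L672953 : sm ge N48743 = N48743 := ded_44_1 (flp_i L672949) L651230 L672949
theorem L672954 : sm gj N48743 = N46563 := ded_53_1 (flp_i L651248) (flp_j L651231) L672949
theorem L672956 : sm gh N46561 = N48744 := rfl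
theorem L672958 : sm gb N48744 = N48744 := ded_25_1 (flp_h L672956) L651236 L672956
theorem L672959 : sm ge N48744 = N48744 := ded_43_1 (flp_h L672956) L651239 L672956
theorem L672960 : sm gj N48744 = N46564 := ded_52_1 (flp_h L651254) (flp_j L651240) L672956
theorem L672962 : sm gi N48744 = N48744 := ded_54_2 (flp_h L672956) (flp_i L651234) L295772 L651234 L672956
theorem L672963 : sm gi N46562 = N48745 := rfl
theorem L672965 : sm gb N48745 = N46563 := ded_26_1 (flp_i L651248) L651242 L672963
theorem L672967 : sm gc N48745 = N48745 := ded_33_1 (flp_i L672963) L651247 L672963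
theorem L672968 : sm ge N48745 = N48745 := ded_44_1 (flp_i L672963) L651244 L672963
theorem L672969 : sm gg N48745 = N48745 := ded_51_1 (flp_i L672963) L651245 L672963
theorem L672970 : sm gh N46563 = N48746 := rfl
theorem L672972 : sm gc N48746 = N46564 := ded_32_1 (flp_h L651254) (flp_c L651250) L672970
theorem L672974 : sm ge N48746 = N48746 := ded_43_1 (flp_h L672970) L651252 L672970
theorem L672975 : sm gg N48746 = N48746 := ded_50_1 (flp_h L672970) L651253 L672970
theorem L672976 : sm gi N48746 = N48746 := ded_54_2 (flp_h L672970) (flp_i L651248) L295784 L651248 L672970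
theorem L672977 : sm gg N46568 = N48747 := rfl
theorem L672979 : sm ga N48747 = N46989 := ded_15_1 L656566 (flp_a L651287) L672977
theorem L672981 : sm gb N48747 = N48747 := ded_23_1 (flp_g L672977) L651289 L672977
theorem L672982 : sm gc N48747 = N46662 := ded_30_1 (flp_g L652620) (flp_c L651290) L672977
theorem L672984 : sm gd N48747 = N48747 := ded_36_1 (flp_g L672977) L651292 L672977
theorem L672985 : sm ge N48747 = N47047 := ded_41_1 L657237 (flp_e L651296) L672977
theorem L672987 : sm gh N48747 = N48747 := ded_50_2 (flp_g L672977) L651295 L672977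
theorem L672988 : sm gf N48747 = N48747 := ded_45_1 (flp_g L672977) (flp_f L651285) L350809 L651285 L672977
theorem L672989 : sm gj N47151 = N48747 := ded_16_0 L672979 L656568 L658371
theorem L672991 : sm gi N46568 = N48748 := rfl
theorem L672993 : sm ga N48748 = N48126 := ded_18_1 (flp_i L668073) (flp_a L651287) L672991
theorem L672995 : sm gb N48748 = N48748 := ded_26_1 (flp_i L672991) L651289 L672991
theorem L672996 : sm gc N48748 = N46663 := ded_33_1 (flp_i L652628) (flp_c L651290) L672991
theorem L672998 : sm gd N48748 = N48748 := ded_39_1 (flp_i L672991) L651292 L672991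
theorem L672999 : sm ge N48748 = N48101 := ded_44_1 (flp_i L667885) (flp_e L651296) L672991
theorem L673001 : sm gf N48748 = N46569 := ded_48_1 (flp_i L651298) L651285 L672991
theorem L673003 : sm gj N48748 = N46578 := ded_53_1 (flp_i L651423) (flp_j L651293) L672991
theorem L673005 : sm gh N46569 = N48749 := rfl
theorem L673007 : sm ga N48749 = N48583 := ded_17_1 (flp_h L671657) (flp_a L651300) L673005
theorem L673009 : sm gb N48749 = N48749 := ded_25_1 (flp_h L673005) L651302 L673005
theorem L673010 : sm gc N48749 = N46664 := ded_32_1 (flp_h L652638) (flp_c L651303) L673005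
theorem L673012 : sm ge N48749 = N46570 := ded_43_1 (flp_h L651311) (flp_e L651306) L673005
theorem L673014 : sm gg N48749 = N48749 := ded_50_1 (flp_h L673005) L651308 L673005
theorem L673015 : sm gj N48749 = N46579 := ded_52_1 (flp_h L651431) (flp_j L651309) L673005
theorem L673017 : sm gi N48749 = N48749 := ded_54_2 (flp_h L673005) (flp_i L651298) L350812 L651298 L673005
theorem L673018 : sm gg N46571 = N48750 := rfl
theorem L673020 : sm ga N48750 = N46577 := ded_15_1 (flp_g L651414) (flp_a L651327) L673018
theorem L673022 : sm gb N48750 = N47146 := ded_23_1 L658329 (flp_b L651329) L673018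
theorem L673024 : sm gc N48750 = N46725 := ded_30_1 (flp_g L653479) (flp_c L651331) L673018
theorem L673026 : sm gd N48750 = N48750 := ded_36_1 (flp_g L673018) L651333 L673018
theorem L673027 : sm ge N48750 = N47245 := ded_41_1 L659265 (flp_e L651337) L673018
theorem L673029 : sm gh N48750 = N48750 := ded_50_2 (flp_g L673018) L651336 L673018
theorem L673030 : sm gf N48750 = N46584 := ded_45_1 (flp_g L651500) (flp_f L351628) (flp_g L351074) L651325 L673018
theorem L673032 : sm gj N48750 = N47148 := ded_49_2 L658349 (flp_j L656568) L656566 (flp_j L651334) L673018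
theorem L673034 : sm gi N46571 = N48751 := rfl
theorem L673036 : sm ga N48751 = N46578 := ded_18_1 (flp_i L651423) (flp_a L651327) L673034
theorem L673038 : sm gb N48751 = N47862 := ded_26_1 L665614 (flp_b L651329) L673034
theorem L673040 : sm gc N48751 = N46726 := ded_33_1 (flp_i L653490) (flp_c L651331) L673034
theorem L673042 : sm gd N48751 = N48751 := ded_39_1 (flp_i L673034) L651333 L673034
theorem L673043 : sm ge N48751 = N47861 := ded_44_1 L665603 (flp_e L651337) L673034
theorem L673045 : sm gf N48751 = N46572 := ded_48_1 (flp_i L651339) L651325 L673034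
theorem L673047 : sm gj N48751 = N48126 := ded_53_1 (flp_i L668073) (flp_j L651334) L673034
theorem L673049 : sm gh N48320 = N48751 := ded_25_0 L673038 L665612 (flp_b L669581)
theorem L673051 : sm gh N46572 = N48752 := rfl
theorem L673053 : sm ga N48752 = N46579 := ded_17_1 (flp_h L651431) (flp_a L651341) L673051
theorem L673055 : sm gb N48752 = N48321 := ded_25_1 L669593 (flp_b L651343) L673051
theorem L673057 : sm gc N48752 = N46727 := ded_32_1 (flp_h L653500) (flp_c L651345) L673051
theorem L673059 : sm ge N48752 = N46573 := ded_43_1 (flp_h L651354) (flp_e L651348) L673051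
theorem L673061 : sm gf N48752 = N48320 := ded_47_1 L673049 L673045 L673051
theorem L673063 : sm gg N48752 = N46586 := ded_50_1 (flp_h L651526) (flp_g L651350) L673051
theorem L673065 : sm gj N48752 = N48583 := ded_52_1 (flp_h L671657) (flp_j L651352) L673051
theorem L673067 : sm gi N48752 = N48752 := ded_54_2 (flp_h L673051) (flp_i L651339) L351076 L651339 L673051
theorem L673068 : sm gd N48654 = N48752 := ded_20_0 L673055 L669589 (flp_b L672208)
theorem L673070 : sm gg N46574 = N48753 := rfl
theorem L673072 : sm ga N48753 = N47245 := ded_15_1 L659265 (flp_a L651372) L673070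
theorem L673074 : sm gb N48753 = N48753 := ded_23_1 (flp_g L673070) L651374 L673070
theorem L673075 : sm gc N48753 = N46756 := ded_30_1 (flp_g L653873) (flp_c L651375) L673070
theorem L673077 : sm gd N48753 = N48100 := ded_36_1 L667883 (flp_d L651377) L673070
theorem L673079 : sm ge N48753 = N46577 := ded_41_1 (flp_g L651414) (flp_e L651382) L673070
theorem L673081 : sm gh N48753 = N48753 := ded_50_2 (flp_g L673070) L651381 L673070
theorem L673082 : sm gf N48753 = N48217 := ded_45_1 L668808 L383706 (flp_g L648121) L651370 L673070
theorem L673084 : sm gj N48753 = N47248 := ded_49_2 L659299 (flp_j L657239) L657237 (flp_j L651379) L673070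
theorem L673086 : sm gi N46574 = N48754 := rfl
theorem L673088 : sm ga N48754 = N47861 := ded_18_1 L665603 (flp_a L651372) L673086
theorem L673090 : sm gb N48754 = N48754 := ded_26_1 (flp_i L673086) L651374 L673086
theorem L673091 : sm gc N48754 = N46757 := ded_33_1 (flp_i L653880) (flp_c L651375) L673086
theorem L673093 : sm gd N48754 = N47860 := ded_39_1 L665593 (flp_d L651377) L673086
theorem L673095 : sm ge N48754 = N46578 := ded_44_1 (flp_i L651423) (flp_e L651382) L673086
theorem L673097 : sm gf N48754 = N46575 := ded_48_1 (flp_i L651384) L651370 L673086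
theorem L673099 : sm gj N48754 = N48101 := ded_53_1 (flp_i L667885) (flp_j L651379) L673086
theorem L673101 : sm gh N48318 = N48754 := ded_17_0 L673088 L665605 (flp_a L669572)
theorem L673103 : sm gh N46575 = N48755 := rfl
theorem L673105 : sm ga N48755 = N47392 := ded_17_1 L660626 (flp_a L651386) L673103
theorem L673107 : sm gb N48755 = N48755 := ded_25_1 (flp_h L673103) L651388 L673103
theorem L673108 : sm gc N48755 = N46758 := ded_32_1 (flp_h L653888) (flp_c L651389) L673103
theorem L673110 : sm ge N48755 = N46576 := ded_43_1 (flp_h L651399) (flp_e L651393) L673103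
theorem L673112 : sm gf N48755 = N48318 := ded_47_1 L673101 L673097 L673103
theorem L673114 : sm gg N48755 = N48223 := ded_50_1 (flp_h L668858) (flp_g L651395) L673103
theorem L673116 : sm gj N48755 = N48102 := ded_52_1 (flp_h L667894) (flp_j L651397) L673103
theorem L673118 : sm gd N48755 = N47391 := ded_38_1 (flp_h L660606) (flp_d L654010) L654020 (flp_d L651391) L673103
theorem L673120 : sm gi N48755 = N48755 := ded_54_2 (flp_h L673103) (flp_i L651384) L351239 L651384 L673103
theorem L673121 : sm gj N46577 = N48756 := rfl
theorem L673123 : sm ga N48756 = N47148 := ded_16_1 (flp_j L673032) L673020 L673121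
theorem L673125 : sm gb N48756 = N48756 := ded_24_1 (flp_j L673121) L651416 L673121
theorem L673126 : sm gc N48756 = N46759 := ded_31_1 (flp_j L653895) (flp_c L651417) L673121
theorem L673128 : sm gd N48756 = N48756 := ded_37_1 (flp_j L673121) L651419 L673121
theorem L673129 : sm ge N48756 = N47248 := ded_42_1 (flp_j L673084) L673079 L673121
theorem L673131 : sm gf N48756 = N46594 := ded_46_1 (flp_j L651634) (flp_f L651421) L673121
theorem L673133 : sm gh N48756 = N48756 := ded_52_2 (flp_j L673121) L651420 L673121
theorem L673134 : sm gg N48756 = N47151 := ded_49_1 L672989 (flp_g L672977) L651293 L651414 L673121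
theorem L673136 : sm gi N46577 = N48757 := rfl
theorem L673138 : sm gb N48757 = N48757 := ded_26_1 (flp_i L673136) L651416 L673136
theorem L673139 : sm gc N48757 = N46760 := ded_33_1 (flp_i L653904) (flp_c L651417) L673136
theorem L673141 : sm gd N48757 = N48757 := ded_39_1 (flp_i L673136) L651419 L673136
theorem L673142 : sm gf N48757 = N46595 := ded_48_1 (flp_i L651642) (flp_f L651421) L673136
theorem L673144 : sm gg N48757 = N46578 := ded_51_1 (flp_i L651423) L651414 L673136
theorem L673146 : sm gh N46578 = N48758 := rfl
theorem L673148 : sm ga N48758 = N48320 := ded_17_1 L673049 L673036 L673146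
theorem L673150 : sm gb N48758 = N48758 := ded_25_1 (flp_h L673146) L651425 L673146
theorem L673151 : sm gc N48758 = N46761 := ded_32_1 (flp_h L653914) (flp_c L651426) L673146
theorem L673153 : sm ge N48758 = N48318 := ded_43_1 L673101 L673095 L673146
theorem L673155 : sm gf N48758 = N46579 := ded_47_1 (flp_h L651431) (flp_f L651429) L673146
theorem L673157 : sm gi N48758 = N48758 := ded_54_2 (flp_h L673146) (flp_i L651423) L351255 L651423 L673146
theorem L673158 : sm gd N48652 = N48758 := ded_12_0 L673148 L669584 (flp_a L672194)
theorem L673160 : sm gd N46579 = N48759 := rfl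
theorem L673162 : sm ga N48759 = N48654 := ded_12_1 L673068 L673053 L673160
theorem L673164 : sm gb N48759 = N48759 := ded_20_1 (flp_d L673160) L651433 L673160
theorem L673165 : sm gf N48759 = N48652 := ded_35_2 L673158 L673155 L673160
theorem L673167 : sm gg N48759 = N46597 := ded_36_2 (flp_d L651659) (flp_g L651438) L673160
theorem L673169 : sm gi N48759 = N48759 := ded_39_2 (flp_d L673160) L651440 L673160
theorem L673170 : sm ge N48759 = N48759 := ded_34_2 (flp_d L673160) L651436 L351273 (flp_e L651436) L673160
theorem L673171 : sm gh N48759 = N48759 := ded_38_2 (flp_d L673160) (flp_h L651431) L351261 L651431 L673160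
theorem L673172 : sm gh N46580 = N48760 := rfl
theorem L673174 : sm ga N48760 = N48760 := ded_17_1 (flp_h L673172) L651443 L673172
theorem L673175 : sm gb N48760 = N46845 := ded_25_1 (flp_h L654968) (flp_b L651444) L673172
theorem L673177 : sm gc N48760 = N46582 := ded_32_1 (flp_h L651471) (flp_c L651446) L673172
theorem L673179 : sm ge N48760 = N47394 := ded_43_1 (flp_h L660644) (flp_e L651449) L673172
theorem L673181 : sm gf N48760 = N47913 := ded_47_1 L666154 (flp_f L651451) L673172
theorem L673183 : sm gg N48760 = N48588 := ded_50_1 (flp_h L671698) (flp_g L651453) L673172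
theorem L673185 : sm gj N48760 = N48760 := ded_52_1 (flp_h L673172) L651455 L673172
theorem L673186 : sm gi N48760 = N48760 := ded_54_2 (flp_h L673172) (flp_i L651441) L351500 L651441 L673172
theorem L673187 : sm gh N46581 = N48761 := rfl
theorem L673189 : sm ga N48761 = N48761 := ded_17_1 (flp_h L673187) L651458 L673187
theorem L673190 : sm gb N48761 = N46586 := ded_25_1 (flp_h L651526) (flp_b L651459) L673187
theorem L673192 : sm gc N48761 = N47394 := ded_32_1 (flp_h L660644) (flp_c L651461) L673187
theorem L673194 : sm ge N48761 = N46582 := ded_43_1 (flp_h L651471) (flp_e L651464) L673187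
theorem L673196 : sm gf N48761 = N46971 := ded_47_1 L656307 (flp_f L651466) L673187
theorem L673198 : sm gg N48761 = N48321 := ded_50_1 L669593 (flp_g L651468) L673187
theorem L673200 : sm gj N48761 = N48761 := ded_52_1 (flp_h L673187) L651470 L673187
theorem L673201 : sm gi N48761 = N48761 := ded_54_2 (flp_h L673187) (flp_i L651456) L351510 L651456 L673187
theorem L673202 : sm gd N48655 = N48761 := ded_36_3 L673198 L669589 L672213
theorem L673204 : sm gj N46584 = N48762 := rfl
theorem L673206 : sm ga N48762 = N46594 := ded_16_1 (flp_j L651634) (flp_a L651502) L673204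
theorem L673208 : sm gb N48762 = N47143 := ded_24_1 L658293 (flp_b L651504) L673204
theorem L673210 : sm gc N48762 = N46874 := ded_31_1 (flp_j L655299) (flp_c L651506) L673204
theorem L673212 : sm gd N48762 = N48762 := ded_37_1 (flp_j L673204) L651508 L673204
theorem L673213 : sm ge N48762 = N47749 := ded_42_1 L664395 (flp_e L651509) L673204
theorem L673215 : sm gf N48762 = N47148 := ded_46_1 (flp_j L673032) L673030 L673204
theorem L673217 : sm gh N48762 = N48762 := ded_52_2 (flp_j L673204) L651511 L673204
theorem L673218 : sm gg N48762 = N48762 := ded_49_1 (flp_j L673204) (flp_g L651500) L351635 L651500 L673204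
theorem L673219 : sm gi N46584 = N48763 := rfl
theorem L673221 : sm ga N48763 = N46595 := ded_18_1 (flp_i L651642) (flp_a L651502) L673219
theorem L673223 : sm gb N48763 = N47687 := ded_26_1 L663616 (flp_b L651504) L673219
theorem L673225 : sm gc N48763 = N46875 := ded_33_1 (flp_i L655309) (flp_c L651506) L673219
theorem L673227 : sm gd N48763 = N48763 := ded_39_1 (flp_i L673219) L651508 L673219
theorem L673228 : sm ge N48763 = N47686 := ded_44_1 L663609 (flp_e L651509) L673219
theorem L673230 : sm gg N48763 = N46585 := ded_51_1 (flp_i L651512) L651500 L673219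
theorem L673232 : sm gh N46585 = N48764 := rfl
theorem L673234 : sm ga N48764 = N46596 := ded_17_1 (flp_h L651650) (flp_a L651514) L673232
theorem L673236 : sm gb N48764 = N46971 := ded_25_1 L656307 (flp_b L651516) L673232
theorem L673238 : sm gc N48764 = N46876 := ded_32_1 (flp_h L655319) (flp_c L651518) L673232
theorem L673240 : sm ge N48764 = N46970 := ded_43_1 L656301 (flp_e L651521) L673232
theorem L673242 : sm gf N48764 = N46586 := ded_47_1 (flp_h L651526) (flp_f L651523) L673232
theorem L673244 : sm gj N48764 = N48764 := ded_52_1 (flp_h L673232) L651525 L673232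
theorem L673245 : sm gi N48764 = N48764 := ded_54_2 (flp_h L673232) (flp_i L651512) L351636 L651512 L673232
theorem L673246 : sm gd N46586 = N48765 := rfl
theorem L673248 : sm ga N48765 = N46597 := ded_12_1 (flp_d L651659) (flp_a L651528) L673246
theorem L673250 : sm gb N48765 = N48655 := ded_20_1 L673202 L673190 L673246
theorem L673252 : sm gg N48765 = N48654 := ded_36_2 L673068 L673063 L673246
theorem L673254 : sm gj N48765 = N48765 := ded_37_2 (flp_d L673246) L651534 L673246
theorem L673255 : sm gi N48765 = N48765 := ded_39_2 (flp_d L673246) L651535 L673246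
theorem L673256 : sm gc N48765 = N47409 := ded_27_1 (flp_d L660825) L361899 (flp_d L503081) (flp_c L651530) L673246
theorem L673258 : sm ge N48765 = N48765 := ded_34_2 (flp_d L673246) L651532 L351654 (flp_e L651532) L673246
theorem L673259 : sm gh N48765 = N48765 := ded_38_2 (flp_d L673246) (flp_h L651526) L351643 L651526 L673246
theorem L673260 : sm gg N46588 = N48766 := rfl
theorem L673262 : sm ga N48766 = N47747 := ded_15_1 L664376 (flp_a L651553) L673260
theorem L673264 : sm gb N48766 = N48766 := ded_23_1 (flp_g L673260) L651555 L673260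
theorem L673265 : sm gc N48766 = N46928 := ded_30_1 (flp_g L655880) (flp_c L651556) L673260
theorem L673267 : sm gd N48766 = N47746 := ded_36_1 L664368 (flp_d L651558) L673260
theorem L673269 : sm ge N48766 = N48217 := ded_41_1 L668808 (flp_e L651563) L673260
theorem L673271 : sm gh N48766 = N48766 := ded_50_2 (flp_g L673260) L651562 L673260
theorem L673272 : sm gf N48766 = N46591 := ded_45_1 (flp_g L651595) (flp_f L351868) (flp_g L351856) L651551 L673260
theorem L673274 : sm gi N46588 = N48767 := rfl
theorem L673276 : sm ga N48767 = N48283 := ded_18_1 (flp_i L669257) (flp_a L651553) L673274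
theorem L673278 : sm gb N48767 = N48767 := ded_26_1 (flp_i L673274) L651555 L673274
theorem L673279 : sm gc N48767 = N46929 := ded_33_1 (flp_i L655887) (flp_c L651556) L673274
theorem L673281 : sm gd N48767 = N48427 := ded_39_1 (flp_i L670468) (flp_d L651558) L673274
theorem L673283 : sm ge N48767 = N48219 := ded_44_1 (flp_i L668820) (flp_e L651563) L673274
theorem L673285 : sm gf N48767 = N46589 := ded_48_1 (flp_i L651565) L651551 L673274
theorem L673287 : sm gj N48767 = N48221 := ded_53_1 (flp_i L668839) (flp_j L651560) L673274
theorem L673289 : sm gh N46589 = N48768 := rfl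
theorem L673291 : sm ga N48768 = N48074 := ded_17_1 L667639 (flp_a L651567) L673289
theorem L673293 : sm gb N48768 = N48768 := ded_25_1 (flp_h L673289) L651569 L673289
theorem L673294 : sm gc N48768 = N46930 := ded_32_1 (flp_h L655893) (flp_c L651570) L673289
theorem L673296 : sm ge N48768 = N46590 := ded_43_1 (flp_h L651580) (flp_e L651574) L673289
theorem L673298 : sm gg N48768 = N46593 := ded_50_1 (flp_h L651621) (flp_g L651576) L673289
theorem L673300 : sm gj N48768 = N48602 := ded_52_1 (flp_h L671826) (flp_j L651578) L673289
theorem L673302 : sm gd N48768 = N48073 := ded_38_1 (flp_h L667621) L380365 L388107 (flp_d L651572) L673289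
theorem L673304 : sm gi N48768 = N48768 := ded_54_2 (flp_h L673289) (flp_i L651565) L351858 L651565 L673289
theorem L673305 : sm gj N46591 = N48769 := rfl
theorem L673307 : sm ga N48769 = N47749 := ded_16_1 L664395 (flp_a L651597) L673305
theorem L673309 : sm gb N48769 = N48769 := ded_24_1 (flp_j L673305) L651599 L673305
theorem L673310 : sm gc N48769 = N46931 := ded_31_1 (flp_j L655902) (flp_c L651600) L673305
theorem L673312 : sm gd N48769 = N47748 := ded_37_1 L664388 (flp_d L651602) L673305
theorem L673314 : sm ge N48769 = N46594 := ded_42_1 (flp_j L651634) (flp_e L651604) L673305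
theorem L673316 : sm gh N48769 = N48769 := ded_52_2 (flp_j L673305) L651606 L673305
theorem L673317 : sm gg N48769 = N48769 := ded_49_1 (flp_j L673305) (flp_g L651595) L351873 L651595 L673305
theorem L673318 : sm gi N46591 = N48770 := rfl
theorem L673320 : sm ga N48770 = N47686 := ded_18_1 L663609 (flp_a L651597) L673318
theorem L673322 : sm gb N48770 = N48770 := ded_26_1 (flp_i L673318) L651599 L673318
theorem L673323 : sm gc N48770 = N46932 := ded_33_1 (flp_i L655910) (flp_c L651600) L673318
theorem L673325 : sm gd N48770 = N47685 := ded_39_1 L663601 (flp_d L651602) L673318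
theorem L673327 : sm ge N48770 = N46595 := ded_44_1 (flp_i L651642) (flp_e L651604) L673318
theorem L673329 : sm gg N48770 = N46592 := ded_51_1 (flp_i L651607) L651595 L673318
theorem L673331 : sm gh N46592 = N48771 := rfl
theorem L673333 : sm ga N48771 = N46970 := ded_17_1 L656301 (flp_a L651609) L673331
theorem L673335 : sm gb N48771 = N48771 := ded_25_1 (flp_h L673331) L651611 L673331
theorem L673336 : sm gc N48771 = N46933 := ded_32_1 (flp_h L655918) (flp_c L651612) L673331
theorem L673338 : sm ge N48771 = N46596 := ded_43_1 (flp_h L651650) (flp_e L651616) L673331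
theorem L673340 : sm gf N48771 = N46593 := ded_47_1 (flp_h L651621) (flp_f L651618) L673331
theorem L673342 : sm gj N48771 = N48771 := ded_52_1 (flp_h L673331) L651620 L673331
theorem L673343 : sm gd N48771 = N46969 := ded_38_1 (flp_h L656284) L357698 L364625 (flp_d L651614) L673331
theorem L673345 : sm gi N48771 = N48771 := ded_54_2 (flp_h L673331) (flp_i L651607) L351874 L651607 L673331
theorem L673346 : sm gi N46594 = N48772 := rfl
theorem L673348 : sm gb N48772 = N48772 := ded_26_1 (flp_i L673346) L651636 L673346
theorem L673349 : sm gc N48772 = N46935 := ded_33_1 (flp_i L655934) (flp_c L651637) L673346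
theorem L673351 : sm gd N48772 = N48772 := ded_39_1 (flp_i L673346) L651639 L673346
theorem L673352 : sm gg N48772 = N48772 := ded_51_1 (flp_i L673346) L651641 L673346
theorem L673353 : sm gj N48772 = N46595 := ded_53_1 (flp_i L651642) L651634 L673346
theorem L673355 : sm gh N46595 = N48773 := rfl
theorem L673357 : sm gb N48773 = N48773 := ded_25_1 (flp_h L673355) L651644 L673355
theorem L673358 : sm gc N48773 = N46936 := ded_32_1 (flp_h L655943) (flp_c L651645) L673355
theorem L673360 : sm gg N48773 = N46596 := ded_50_1 (flp_h L651650) (flp_g L651648) L673355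
theorem L673362 : sm gi N48773 = N48773 := ded_54_2 (flp_h L673355) (flp_i L651642) L351901 L651642 L673355
theorem L673363 : sm gd N46596 = N48774 := rfl
theorem L673365 : sm gb N48774 = N48774 := ded_20_1 (flp_d L673363) L651652 L673363
theorem L673366 : sm gf N48774 = N46597 := ded_35_2 (flp_d L651659) (flp_f L651655) L673363
theorem L673368 : sm gj N48774 = N48774 := ded_37_2 (flp_d L673363) L651657 L673363
theorem L673369 : sm gi N48774 = N48774 := ded_39_2 (flp_d L673363) L651658 L673363
theorem L673370 : sm gh N48774 = N48774 := ded_38_2 (flp_d L673363) (flp_h L651650) L351907 L651650 L673363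
theorem L673371 : sm gc N46597 = N48775 := rfl
theorem L673373 : sm ga N48775 = N47409 := ded_11_1 (flp_c L673256) L673248 L673371
theorem L673375 : sm ge N48775 = N48775 := ded_28_2 (flp_c L673371) L651664 L673371
theorem L673376 : sm gj N48775 = N48775 := ded_31_2 (flp_c L673371) L651662 L673371
theorem L673377 : sm gh N48775 = N48775 := ded_32_2 (flp_c L673371) L651665 L673371
theorem L673378 : sm gi N48775 = N48775 := ded_33_2 (flp_c L673371) L651663 L673371
theorem L673379 : sm gd N48775 = N46845 := ded_27_2 L654972 L553754 (flp_c L351914) L651659 L673371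
theorem L673381 : sm gi N46598 = N48776 := rfl
theorem L673383 : sm ga N48776 = N48677 := ded_18_1 L672437 (flp_a L651679) L673381
theorem L673385 : sm gb N48776 = N46599 := ded_26_1 (flp_i L651683) L651666 L673381
theorem L673387 : sm gc N48776 = N46610 := ded_33_1 (flp_i L651833) (flp_c L651681) L673381
theorem L673389 : sm gd N48776 = N48668 := ded_39_1 (flp_i L672337) (flp_d L651668) L673381
theorem L673391 : sm ge N48776 = N46949 := ded_44_1 (flp_i L656083) (flp_e L651670) L673381
theorem L673393 : sm gf N48776 = N48660 := ded_48_1 (flp_i L672264) (flp_f L651672) L673381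
theorem L673395 : sm gg N48776 = N46601 := ded_51_1 (flp_i L651715) (flp_g L651674) L673381
theorem L673397 : sm gj N48776 = N48657 := ded_53_1 (flp_i L672233) (flp_j L651676) L673381
theorem L673399 : sm gh N46599 = N48777 := rfl
theorem L673401 : sm ga N48777 = N48679 := ded_17_1 (flp_h L672448) (flp_a L651685) L673399
theorem L673403 : sm gc N48777 = N46600 := ded_32_1 (flp_h L651699) (flp_c L651687) L673399
theorem L673405 : sm ge N48777 = N46950 := ded_43_1 (flp_h L656091) (flp_e L651691) L673399
theorem L673407 : sm gf N48777 = N48661 := ded_47_1 (flp_h L672273) (flp_f L651693) L673399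
theorem L673409 : sm gg N48777 = N46602 := ded_50_1 (flp_h L651729) (flp_g L651695) L673399
theorem L673411 : sm gj N48777 = N48658 := ded_52_1 (flp_h L672242) (flp_j L651697) L673399
theorem L673413 : sm gd N48777 = N48702 := ded_38_1 (flp_h L672655) L650677 (flp_h L650343) (flp_d L651689) L673399
theorem L673415 : sm gi N48777 = N48777 := ded_54_2 (flp_h L673399) (flp_i L651683) L351978 L651683 L673399
theorem L673416 : sm gh N46601 = N48778 := rfl
theorem L673418 : sm ga N48778 = N48666 := ded_17_1 L672326 (flp_a L651717) L673416
theorem L673420 : sm gb N48778 = N46602 := ded_25_1 (flp_h L651729) (flp_b L651719) L673416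
theorem L673422 : sm gc N48778 = N46613 := ded_32_1 (flp_h L651864) (flp_c L651721) L673416
theorem L673424 : sm ge N48778 = N46952 := ded_43_1 (flp_h L656111) (flp_e L651725) L673416
theorem L673426 : sm gf N48778 = N48778 := ded_47_1 (flp_h L673416) L651727 L673416
theorem L673427 : sm gj N48778 = N48778 := ded_52_1 (flp_h L673416) L651728 L673416
theorem L673428 : sm gd N48778 = N48665 := ded_38_1 (flp_h L672310) L650297 L650460 (flp_d L651723) L673416
theorem L673430 : sm gi N48778 = N48778 := ded_54_2 (flp_h L673416) (flp_i L651715) L351995 L651715 L673416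
theorem L673431 : sm ga N46603 = N48779 := rfl
theorem L673433 : sm gc N48779 = N48659 := ded_11_2 (flp_a L672252) (flp_c L651753) L673431
theorem L673435 : sm gd N48779 = N48779 := ded_12_2 (flp_a L673431) L651744 L673431
theorem L673436 : sm ge N48779 = N47905 := ded_13_2 (flp_a L666072) (flp_e L651745) L673431
theorem L673438 : sm gf N48779 = N46609 := ded_14_2 (flp_a L651822) (flp_f L651747) L673431
theorem L673440 : sm gg N48779 = N48779 := ded_15_2 (flp_a L673431) L651749 L673431
theorem L673441 : sm gj N48779 = N47863 := ded_16_2 (flp_a L665619) (flp_j L651750) L673431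
theorem L673443 : sm gh N48779 = N48779 := ded_17_2 (flp_a L673431) L651752 L673431
theorem L673444 : sm gb N48779 = N48779 := ded_10_2 (flp_a L673431) (flp_b L651742) L352043 L651742 L673431
theorem L673445 : sm gi N46603 = N48780 := rfl
theorem L673447 : sm gb N48780 = N46604 := ded_26_1 (flp_i L651755) L651742 L673445
theorem L673449 : sm gc N48780 = N48660 := ded_33_1 (flp_i L672264) (flp_c L651753) L673445
theorem L673451 : sm gd N48780 = N48780 := ded_39_1 (flp_i L673445) L651744 L673445
theorem L673452 : sm ge N48780 = N47906 := ded_44_1 (flp_i L666081) (flp_e L651745) L673445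
theorem L673454 : sm gf N48780 = N46610 := ded_48_1 (flp_i L651833) (flp_f L651747) L673445
theorem L673456 : sm gg N48780 = N48780 := ded_51_1 (flp_i L673445) L651749 L673445
theorem L673457 : sm gj N48780 = N47864 := ded_53_1 (flp_i L665630) (flp_j L651750) L673445
theorem L673459 : sm gh N46604 = N48781 := rfl
theorem L673461 : sm ga N48781 = N48781 := ded_17_1 (flp_h L673459) L651757 L673459
theorem L673462 : sm gc N48781 = N46605 := ded_32_1 (flp_h L651768) (flp_c L651758) L673459
theorem L673464 : sm ge N48781 = N47907 := ded_43_1 (flp_h L666090) (flp_e L651761) L673459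
theorem L673466 : sm gf N48781 = N46611 := ded_47_1 (flp_h L651842) (flp_f L651763) L673459
theorem L673468 : sm gg N48781 = N48781 := ded_50_1 (flp_h L673459) L651765 L673459
theorem L673469 : sm gj N48781 = N47865 := ded_52_1 (flp_h L665641) (flp_j L651766) L673459
theorem L673471 : sm gi N48781 = N48781 := ded_54_2 (flp_h L673459) (flp_i L651755) L352047 L651755 L673459
theorem L673472 : sm gd N48643 = N48781 := ded_34_5 L673464 L666098 L650122 L650126 L672124
theorem L673474 : sm ga N46606 = N48782 := rfl
theorem L673476 : sm gc N48782 = N48656 := ded_11_2 (flp_a L672221) (flp_c L651793) L673474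
theorem L673478 : sm gd N48782 = N48782 := ded_12_2 (flp_a L673474) L651784 L673474
theorem L673479 : sm ge N48782 = N46963 := ded_13_2 (flp_a L656233) (flp_e L651785) L673474
theorem L673481 : sm gf N48782 = N47863 := ded_14_2 (flp_a L665619) (flp_f L651787) L673474
theorem L673483 : sm gg N48782 = N48782 := ded_15_2 (flp_a L673474) L651789 L673474
theorem L673484 : sm gj N48782 = N46609 := ded_16_2 (flp_a L651822) (flp_j L651790) L673474
theorem L673486 : sm gh N48782 = N48782 := ded_17_2 (flp_a L673474) L651792 L673474
theorem L673487 : sm gb N48782 = N48782 := ded_10_2 (flp_a L673474) (flp_b L651782) L352066 L651782 L673474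
theorem L673488 : sm gi N46606 = N48783 := rfl
theorem L673490 : sm gb N48783 = N46607 := ded_26_1 (flp_i L651795) L651782 L673488
theorem L673492 : sm gc N48783 = N48657 := ded_33_1 (flp_i L672233) (flp_c L651793) L673488
theorem L673494 : sm gd N48783 = N48783 := ded_39_1 (flp_i L673488) L651784 L673488
theorem L673495 : sm ge N48783 = N46964 := ded_44_1 (flp_i L656242) (flp_e L651785) L673488
theorem L673497 : sm gf N48783 = N47864 := ded_48_1 (flp_i L665630) (flp_f L651787) L673488
theorem L673499 : sm gg N48783 = N48783 := ded_51_1 (flp_i L673488) L651789 L673488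
theorem L673500 : sm gj N48783 = N46610 := ded_53_1 (flp_i L651833) (flp_j L651790) L673488
theorem L673502 : sm gh N46607 = N48784 := rfl
theorem L673504 : sm ga N48784 = N48784 := ded_17_1 (flp_h L673502) L651797 L673502
theorem L673505 : sm gc N48784 = N46608 := ded_32_1 (flp_h L651808) (flp_c L651798) L673502
theorem L673507 : sm ge N48784 = N46965 := ded_43_1 (flp_h L656251) (flp_e L651801) L673502
theorem L673509 : sm gf N48784 = N47865 := ded_47_1 (flp_h L665641) (flp_f L651803) L673502
theorem L673511 : sm gg N48784 = N48784 := ded_50_1 (flp_h L673502) L651805 L673502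
theorem L673512 : sm gj N48784 = N46611 := ded_52_1 (flp_h L651842) (flp_j L651806) L673502
theorem L673514 : sm gi N48784 = N48784 := ded_54_2 (flp_h L673502) (flp_i L651795) L352072 L651795 L673502
theorem L673515 : sm gi N46609 = N48785 := rfl
theorem L673517 : sm ga N48785 = N46610 := ded_18_1 (flp_i L651833) L651822 L673515
theorem L673519 : sm gb N48785 = N48785 := ded_26_1 (flp_i L673515) L651832 L673515
theorem L673520 : sm gc N48785 = N48677 := ded_33_1 L672437 (flp_c L651824) L673515
theorem L673522 : sm gd N48785 = N48785 := ded_39_1 (flp_i L673515) L651826 L673515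
theorem L673523 : sm ge N48785 = N46966 := ded_44_1 (flp_i L656260) (flp_e L651827) L673515
theorem L673525 : sm gg N48785 = N46612 := ded_51_1 (flp_i L651852) (flp_g L651829) L673515
theorem L673527 : sm gh N46610 = N48786 := rfl
theorem L673529 : sm gb N48786 = N46611 := ded_25_1 (flp_h L651842) (flp_b L651835) L673527
theorem L673531 : sm ge N48786 = N46967 := ded_43_1 (flp_h L656269) (flp_e L651838) L673527
theorem L673533 : sm gg N48786 = N46613 := ded_50_1 (flp_h L651864) (flp_g L651840) L673527
theorem L673535 : sm gi N48786 = N48786 := ded_54_2 (flp_h L673527) (flp_i L651833) L352091 L651833 L673527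
theorem L673536 : sm gd N46611 = N48787 := rfl
theorem L673538 : sm ga N48787 = N48787 := ded_12_1 (flp_d L673536) L651844 L673536
theorem L673539 : sm gf N48787 = N48643 := ded_35_2 L673472 L673466 L673536
theorem L673541 : sm gg N48787 = N46614 := ded_36_2 (flp_d L651873) (flp_g L651849) L673536
theorem L673543 : sm gi N48787 = N48787 := ded_39_2 (flp_d L673536) L651851 L673536
theorem L673544 : sm gc N48787 = N48787 := ded_27_1 (flp_d L673536) L651845 L352109 (flp_c L651845) L673536
theorem L673545 : sm gh N48787 = N48787 := ded_38_2 (flp_d L673536) (flp_h L651842) L352097 L651842 L673536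
theorem L673546 : sm ge N48650 = N48787 := ded_40_5 L673539 (flp_e L672124) L650129 L650174 L672179
theorem L673548 : sm gh N46612 = N48788 := rfl
theorem L673550 : sm ga N48788 = N46613 := ded_17_1 (flp_h L651864) (flp_a L651854) L673548
theorem L673552 : sm gb N48788 = N48788 := ded_25_1 (flp_h L673548) L651856 L673548
theorem L673553 : sm gc N48788 = N48666 := ded_32_1 L672326 (flp_c L651857) L673548
theorem L673555 : sm ge N48788 = N46969 := ded_43_1 (flp_h L656284) (flp_e L651860) L673548
theorem L673557 : sm gf N48788 = N48788 := ded_47_1 (flp_h L673548) L651862 L673548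
theorem L673558 : sm gj N48788 = N48788 := ded_52_1 (flp_h L673548) L651863 L673548
theorem L673559 : sm gi N48788 = N48788 := ded_54_2 (flp_h L673548) (flp_i L651852) L352118 L651852 L673548
theorem L673560 : sm gd N46613 = N48789 := rfl
theorem L673562 : sm gb N48789 = N46614 := ded_20_1 (flp_d L651873) (flp_b L651866) L673560
theorem L673564 : sm gf N48789 = N48789 := ded_35_2 (flp_d L673560) L651870 L673560
theorem L673565 : sm gj N48789 = N48789 := ded_37_2 (flp_d L673560) L651871 L673560
theorem L673566 : sm gi N48789 = N48789 := ded_39_2 (flp_d L673560) L651872 L673560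
theorem L673567 : sm gh N48789 = N48789 := ded_38_2 (flp_d L673560) (flp_h L651864) L352124 L651864 L673560
theorem L673568 : sm ge N46614 = N48790 := rfl
theorem L673570 : sm ga N48790 = N48790 := ded_13_1 (flp_e L673568) L651875 L673568
theorem L673571 : sm gc N48790 = N48790 := ded_28_1 (flp_e L673568) L651879 L673568
theorem L673572 : sm gg N48790 = N48650 := ded_41_2 L673546 L673541 L673568
theorem L673574 : sm gj N48790 = N48790 := ded_42_2 (flp_e L673568) L651877 L673568
theorem L673575 : sm gh N48790 = N48790 := ded_43_2 (flp_e L673568) L651880 L673568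
theorem L673576 : sm gi N48790 = N48790 := ded_44_2 (flp_e L673568) L651878 L673568
theorem L673577 : sm gd N48790 = N46971 := ded_34_1 (flp_e L656303) (flp_d L357711) (flp_e L352134) L651873 L673568
theorem L673579 : sm gf N48655 = N48790 := ded_45_5 L673572 (flp_f L672179) L650178 L650202 L672213
theorem L673581 : sm gd N46625 = N48791 := rfl
theorem L673583 : sm ga N48791 = N47762 := ded_12_1 (flp_d L664566) (flp_a L652068) L673581
theorem L673585 : sm gb N48791 = N47018 := ded_20_1 (flp_d L656915) (flp_b L652070) L673581
theorem L673587 : sm gf N48791 = N47751 := ded_35_2 (flp_d L664414) (flp_f L652075) L673581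
theorem L673589 : sm gg N48791 = N48117 := ded_36_2 L668005 (flp_g L652077) L673581
theorem L673591 : sm gj N48791 = N46669 := ded_37_2 (flp_d L652712) (flp_j L652079) L673581
theorem L673593 : sm gc N48791 = N48120 := ded_27_1 L668027 L381836 (flp_d L648951) (flp_c L652072) L673581
theorem L673595 : sm gh N48791 = N46629 := ded_38_2 (flp_d L652132) (flp_h L353995) L353974 L652066 L673581
theorem L673597 : sm gi N46625 = N48792 := rfl
theorem L673599 : sm ga N48792 = N47763 := ded_18_1 (flp_i L664576) (flp_a L652068) L673597
theorem L673601 : sm gb N48792 = N47019 := ded_26_1 (flp_i L656923) (flp_b L652070) L673597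
theorem L673603 : sm gc N48792 = N47759 := ded_33_1 (flp_i L664522) (flp_c L652072) L673597
theorem L673605 : sm ge N48792 = N48792 := ded_44_1 (flp_i L673597) L652074 L673597
theorem L673606 : sm gf N48792 = N47752 := ded_48_1 (flp_i L664428) (flp_f L652075) L673597
theorem L673608 : sm gg N48792 = N48582 := ded_51_1 (flp_i L671648) (flp_g L652077) L673597
theorem L673610 : sm gj N48792 = N46670 := ded_53_1 (flp_i L652722) (flp_j L652079) L673597
theorem L673612 : sm gh N48792 = N46653 := ded_54_1 (flp_i L652495) (flp_h L354430) (flp_i L353982) L652066 L673597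
theorem L673614 : sm gh N46627 = N48793 := rfl
theorem L673616 : sm ga N48793 = N48123 := ded_17_1 L668049 (flp_a L652102) L673614
theorem L673618 : sm gb N48793 = N47022 := ded_25_1 (flp_h L656957) (flp_b L652104) L673614
theorem L673620 : sm gc N48793 = N46637 := ded_32_1 (flp_h L652239) (flp_c L652106) L673614
theorem L673622 : sm ge N48793 = N46631 := ded_43_1 (flp_h L652158) (flp_e L652110) L673614
theorem L673624 : sm gf N48793 = N47775 := ded_47_1 L664712 (flp_f L652112) L673614
theorem L673626 : sm gg N48793 = N46673 := ded_50_1 (flp_h L652763) (flp_g L652116) L673614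
theorem L673628 : sm gj N48793 = N46628 := ded_52_1 (flp_h L652118) L652100 L673614
theorem L673630 : sm gd N48793 = N48236 := ded_38_1 L668953 L384041 (flp_h L649779) (flp_d L652108) L673614
theorem L673632 : sm gi N48793 = N47789 := ded_54_2 (flp_h L664866) (flp_i L376053) (flp_h L641361) (flp_i L652114) L673614
theorem L673634 : sm gd N46628 = N48794 := rfl
theorem L673636 : sm ga N48794 = N48120 := ded_12_1 L668027 (flp_a L652120) L673634
theorem L673638 : sm gb N48794 = N47023 := ded_20_1 (flp_d L656967) (flp_b L652122) L673634
theorem L673640 : sm gf N48794 = N47764 := ded_35_2 L664599 (flp_f L652128) L673634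
theorem L673642 : sm gg N48794 = N46629 := ded_36_2 (flp_d L652132) (flp_g L652130) L673634
theorem L673644 : sm gj N48794 = N48236 := ded_37_2 (flp_d L673630) L673628 L673634
theorem L673646 : sm gc N48794 = N47762 := ded_27_1 (flp_d L664566) L374653 (flp_d L640277) (flp_c L652124) L673634
theorem L673648 : sm gh N48794 = N48117 := ded_38_2 L668005 L652064 L652055 L652118 L673634
theorem L673650 : sm gi N46628 = N48795 := rfl
theorem L673652 : sm ga N48795 = N48124 := ded_18_1 (flp_i L668055) (flp_a L652120) L673650
theorem L673654 : sm gb N48795 = N47024 := ded_26_1 (flp_i L656971) (flp_b L652122) L673650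
theorem L673656 : sm gc N48795 = N46638 := ded_33_1 (flp_i L652257) (flp_c L652124) L673650
theorem L673658 : sm ge N48795 = N46633 := ded_44_1 (flp_i L652184) (flp_e L652126) L673650
theorem L673660 : sm gf N48795 = N47776 := ded_48_1 (flp_i L664716) (flp_f L652128) L673650
theorem L673662 : sm gg N48795 = N46630 := ded_51_1 (flp_i L652142) (flp_g L652130) L673650
theorem L673664 : sm gj N48795 = N47789 := ded_53_1 (flp_i L673632) L673628 L673650
theorem L673666 : sm gh N48795 = N46655 := ded_54_1 (flp_i L652522) (flp_h L354458) (flp_i L353993) L652118 L673650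
theorem L673668 : sm gc N46629 = N48796 := rfl
theorem L673670 : sm ga N48796 = N48117 := ded_11_1 L668003 (flp_a L652134) L673668
theorem L673672 : sm gf N48796 = N46654 := ded_29_2 L652518 (flp_f L652138) L673668
theorem L673674 : sm gg N48796 = N47762 := ded_30_2 (flp_c L673646) L673642 L673668
theorem L673676 : sm gj N48796 = N46676 := ded_31_2 (flp_c L652797) (flp_j L652140) L673668
theorem L673678 : sm gh N48796 = N48120 := ded_32_2 (flp_c L673593) L673595 L673668
theorem L673680 : sm gd N48796 = N46639 := ded_27_2 (flp_c L652275) (flp_d L354098) (flp_c L353999) L652132 L673668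
theorem L673682 : sm gb N47090 = N48796 := ded_22_3 L673672 L652512 (flp_f L657689)
theorem L673684 : sm ge N46629 = N48797 := rfl
theorem L673686 : sm ga N48797 = N47100 := ded_13_1 L657787 (flp_a L652134) L673684
theorem L673688 : sm gb N48797 = N47026 := ded_21_1 (flp_e L656989) (flp_b L652136) L673684
theorem L673690 : sm gj N48797 = N46677 := ded_42_2 (flp_e L652805) (flp_j L652140) L673684
theorem L673692 : sm gd N48797 = N46634 := ded_34_1 (flp_e L652199) (flp_d L354028) (flp_e L354001) L652132 L673684
theorem L673694 : sm gf N48797 = N47066 := ded_40_2 (flp_e L657439) L358720 (flp_e L521716) (flp_f L652138) L673684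
theorem L673696 : sm gi N46629 = N48798 := rfl
theorem L673698 : sm ga N48798 = N48121 := ded_18_1 (flp_i L668029) (flp_a L652134) L673696
theorem L673700 : sm gb N48798 = N47027 := ded_26_1 (flp_i L656995) (flp_b L652136) L673696
theorem L673702 : sm gd N48798 = N46630 := ded_39_1 (flp_i L652142) L652132 L673696
theorem L673704 : sm gf N48798 = N47753 := ded_48_1 (flp_i L664444) (flp_f L652138) L673696
theorem L673706 : sm gj N48798 = N46678 := ded_53_1 (flp_i L652815) (flp_j L652140) L673696
theorem L673708 : sm gd N46631 = N48799 := rfl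
theorem L673710 : sm ga N48799 = N47108 := ded_12_1 L657851 (flp_a L652160) L673708
theorem L673712 : sm gb N48799 = N47028 := ded_20_1 (flp_d L657003) (flp_b L652162) L673708
theorem L673714 : sm gf N48799 = N48799 := ded_35_2 (flp_d L673708) L652166 L673708
theorem L673715 : sm gg N48799 = N46679 := ded_36_2 (flp_d L652825) (flp_g L652167) L673708
theorem L673717 : sm gj N48799 = N46632 := ded_37_2 (flp_d L652173) (flp_j L652169) L673708
theorem L673719 : sm gi N48799 = N48601 := ded_39_2 (flp_d L671818) (flp_i L652171) L673708
theorem L673721 : sm gc N48799 = N48799 := ded_27_1 (flp_d L673708) L652164 L354128 (flp_c L652164) L673708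
theorem L673722 : sm gh N48799 = N48799 := ded_38_2 (flp_d L673708) (flp_h L652158) L354013 L652158 L673708
theorem L673723 : sm ge N47188 = N48799 := ded_56_2 (flp_d L673708) L652164 L354121 L243801 (flp_h L243799) L168047 (flp_e L243763) L644293 L176490 (flp_b L256259) L567637 L630942 L243133 (flp_e L176377) L121594 L91312 L63194 L43829 L441674 (flp_f L33858) L23607 (flp_d L23601) L16491 L11537 (flp_a L14860) (flp_h L21234) L30454 L30461 L21449 (flp_c L585864) (flp_b L22627) L22625 L22684 L22688 L15813 L11298 (flp_c L16128) L16127 L593271 L453729 L23035 L33044 L47503 L47509 (flp_b L592995) L58144 L83971 (flp_f L643838) L115671 (flp_d L116135) L116133 (flp_b L117450) (flp_a L170124) L246924 L246929 (flp_e L358839) L637567 (flp_c L382975) (flp_b L668389) (flp_a L668384) L382621 (flp_f L658760)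
theorem L673725 : sm ge N46632 = N48800 := rfl
theorem L673727 : sm ga N48800 = N47105 := ded_13_1 L657828 (flp_a L652175) L673725
theorem L673729 : sm gb N48800 = N47013 := ded_21_1 L656853 (flp_b L652177) L673725
theorem L673731 : sm gc N48800 = N48800 := ded_28_1 (flp_e L673725) L652182 L673725
theorem L673732 : sm gg N48800 = N46634 := ded_41_2 (flp_e L652199) (flp_g L652180) L673725
theorem L673734 : sm gj N48800 = N47188 := ded_42_2 L673723 L673717 L673725
theorem L673736 : sm gh N48800 = N48800 := ded_43_2 (flp_e L673725) L652183 L673725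
theorem L673737 : sm gf N48081 = N48800 := ded_22_0 L673729 L656855 L667718
theorem L673739 : sm gi N46632 = N48801 := rfl
theorem L673741 : sm ga N48801 = N47109 := ded_18_1 (flp_i L657859) (flp_a L652175) L673739
theorem L673743 : sm gb N48801 = N47030 := ded_26_1 (flp_i L657030) (flp_b L652177) L673739
theorem L673745 : sm gc N48801 = N48801 := ded_33_1 (flp_i L673739) L652182 L673739
theorem L673746 : sm gd N48801 = N46633 := ded_39_1 (flp_i L652184) L652173 L673739
theorem L673748 : sm gf N48801 = N48801 := ded_48_1 (flp_i L673739) L652179 L673739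
theorem L673749 : sm gg N48801 = N46635 := ded_51_1 (flp_i L652211) (flp_g L652180) L673739
theorem L673751 : sm gj N48801 = N48601 := ded_53_1 (flp_i L673719) L673717 L673739
theorem L673753 : sm gh N48580 = N48801 := ded_17_0 L673741 (flp_h L657869) (flp_a L671632)
theorem L673755 : sm gi N46634 = N48802 := rfl
theorem L673757 : sm ga N48802 = N47106 := ded_18_1 (flp_i L657831) (flp_a L652201) L673755
theorem L673759 : sm gb N48802 = N47032 := ded_26_1 (flp_i L657052) (flp_b L652203) L673755
theorem L673761 : sm gc N48802 = N48802 := ded_33_1 (flp_i L673755) L652205 L673755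
theorem L673762 : sm ge N48802 = N46635 := ded_44_1 (flp_i L652211) L652199 L673755
theorem L673764 : sm gf N48802 = N47071 := ded_48_1 (flp_i L657498) (flp_f L652209) L673755
theorem L673766 : sm gj N48802 = N46683 := ded_53_1 (flp_i L652876) (flp_j L652206) L673755
theorem L673768 : sm gh N46635 = N48803 := rfl
theorem L673770 : sm ga N48803 = N47110 := ded_17_1 (flp_h L657871) (flp_a L652213) L673768
theorem L673772 : sm gb N48803 = N47033 := ded_25_1 (flp_h L657058) (flp_b L652215) L673768
theorem L673774 : sm gc N48803 = N48803 := ded_32_1 (flp_h L673768) L652217 L673768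
theorem L673775 : sm gf N48803 = N46636 := ded_47_1 (flp_h L652224) (flp_f L652220) L673768
theorem L673777 : sm gg N48803 = N48580 := ded_50_1 L673753 L673749 L673768
theorem L673779 : sm gj N48803 = N46684 := ded_52_1 (flp_h L652887) (flp_j L652222) L673768
theorem L673781 : sm gd N48803 = N46661 := ded_38_1 (flp_h L652605) L354527 (flp_h L354048) (flp_d L652218) L673768
theorem L673783 : sm gi N48803 = N48803 := ded_54_2 (flp_h L673768) (flp_i L652211) L354037 L652211 L673768
theorem L673784 : sm gi N46639 = N48804 := rfl
theorem L673786 : sm ga N48804 = N48582 := ded_18_1 (flp_i L671648) (flp_a L652277) L673784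
theorem L673788 : sm gb N48804 = N47091 := ded_26_1 (flp_i L657693) (flp_b L652288) L673784
theorem L673790 : sm gc N48804 = N46640 := ded_33_1 (flp_i L652290) L652275 L673784
theorem L673792 : sm ge N48804 = N48804 := ded_44_1 (flp_i L673784) L652279 L673784
theorem L673793 : sm gf N48804 = N46655 := ded_48_1 (flp_i L652522) (flp_f L652280) L673784
theorem L673795 : sm gg N48804 = N47763 := ded_51_1 (flp_i L664576) (flp_g L652282) L673784
theorem L673797 : sm gj N48804 = N46694 := ded_53_1 (flp_i L653035) (flp_j L652284) L673784
theorem L673799 : sm gh N48804 = N47776 := ded_54_1 (flp_i L664716) L652098 L652091 (flp_h L652286) L673784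
theorem L673801 : sm gd N46642 = N48805 := rfl
theorem L673803 : sm ga N48805 = N47053 := ded_12_1 (flp_d L657308) (flp_a L652328) L673801
theorem L673805 : sm gb N48805 = N46645 := ded_20_1 (flp_d L652375) (flp_b L652330) L673801
theorem L673807 : sm gf N48805 = N47754 := ded_35_2 (flp_d L664456) (flp_f L652335) L673801
theorem L673809 : sm gg N48805 = N48115 := ded_36_2 L667991 (flp_g L652337) L673801
theorem L673811 : sm gj N48805 = N46707 := ded_37_2 (flp_d L653223) (flp_j L652339) L673801
theorem L673813 : sm ge N48805 = N48111 := ded_34_2 L667963 L381966 (flp_d L648630) (flp_e L652333) L673801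
theorem L673815 : sm gh N48805 = N47766 := ded_38_2 L664615 L637294 (flp_d L612345) L652326 L673801
theorem L673817 : sm gc N48104 = N48805 := ded_19_0 L673805 L652385 L374626 L381667 L667915
theorem L673819 : sm gi N46642 = N48806 := rfl
theorem L673821 : sm ga N48806 = N47054 := ded_18_1 (flp_i L657316) (flp_a L652328) L673819
theorem L673823 : sm gb N48806 = N46646 := ded_26_1 (flp_i L652391) (flp_b L652330) L673819
theorem L673825 : sm gc N48806 = N48806 := ded_33_1 (flp_i L673819) L652332 L673819
theorem L673826 : sm ge N48806 = N46643 := ded_44_1 (flp_i L652341) (flp_e L652333) L673819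
theorem L673828 : sm gf N48806 = N47755 := ded_48_1 (flp_i L664470) (flp_f L652335) L673819
theorem L673830 : sm gg N48806 = N48581 := ded_51_1 (flp_i L671639) (flp_g L652337) L673819
theorem L673832 : sm gj N48806 = N46708 := ded_53_1 (flp_i L653235) (flp_j L652339) L673819
theorem L673834 : sm gh N48806 = N47772 := ded_54_1 (flp_i L664670) (flp_h L612186) (flp_i L612347) L652326 L673819
theorem L673836 : sm gh N46644 = N48807 := rfl
theorem L673838 : sm ga N48807 = N47035 := ded_17_1 (flp_h L657083) (flp_a L652360) L673836
theorem L673840 : sm gb N48807 = N46649 := ded_25_1 (flp_h L652437) (flp_b L652362) L673836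
theorem L673842 : sm gc N48807 = N48589 := ded_32_1 (flp_h L671708) (flp_c L652364) L673836
theorem L673844 : sm ge N48807 = N47008 := ded_43_1 (flp_h L656792) (flp_e L652368) L673836
theorem L673846 : sm gf N48807 = N48584 := ded_47_1 (flp_h L671665) (flp_f L652370) L673836
theorem L673848 : sm gg N48807 = N48807 := ded_50_1 (flp_h L673836) L652372 L673836
theorem L673849 : sm gj N48807 = N46713 := ded_52_1 (flp_h L653313) (flp_j L652373) L673836
theorem L673851 : sm gd N48807 = N46664 := ded_38_1 (flp_h L652638) L354546 (flp_h L554623) (flp_d L652366) L673836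
theorem L673853 : sm gi N48807 = N48807 := ded_54_2 (flp_h L673836) (flp_i L652358) L354260 L652358 L673836
theorem L673854 : sm gi N46645 = N48808 := rfl
theorem L673856 : sm ga N48808 = N46658 := ded_18_1 (flp_i L652568) (flp_a L652377) L673854
theorem L673858 : sm gc N48808 = N47761 := ded_33_1 (flp_i L664554) (flp_c L652385) L673854
theorem L673860 : sm gd N48808 = N46646 := ded_39_1 (flp_i L652391) L652375 L673854
theorem L673862 : sm ge N48808 = N48112 := ded_44_1 (flp_i L667967) (flp_e L652387) L673854
theorem L673864 : sm gf N48808 = N47757 := ded_48_1 (flp_i L664499) (flp_f L652379) L673854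
theorem L673866 : sm gg N48808 = N48118 := ded_51_1 (flp_i L668009) (flp_g L652381) L673854
theorem L673868 : sm gj N48808 = N46721 := ded_53_1 (flp_i L653429) (flp_j L652383) L673854
theorem L673870 : sm gg N46647 = N48809 := rfl
theorem L673872 : sm ga N48809 = N46662 := ded_15_1 (flp_g L652620) (flp_a L652409) L673870
theorem L673874 : sm gb N48809 = N46983 := ded_23_1 L656480 (flp_b L652411) L673870
theorem L673876 : sm gc N48809 = N46989 := ded_30_1 L656566 (flp_c L652413) L673870
theorem L673878 : sm gd N48809 = N46995 := ded_36_1 L656643 (flp_d L652415) L673870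
theorem L673880 : sm ge N48809 = N47042 := ded_41_1 L657176 (flp_e L652420) L673870
theorem L673882 : sm gh N48809 = N48809 := ded_50_2 (flp_g L673870) L652419 L673870
theorem L673883 : sm gf N48809 = N48809 := ded_45_1 (flp_g L673870) (flp_f L652407) L354344 L652407 L673870
theorem L673884 : sm gj N47138 = N48809 := ded_24_0 L673874 L656482 L658232
theorem L673886 : sm gi N46647 = N48810 := rfl
theorem L673888 : sm ga N48810 = N46663 := ded_18_1 (flp_i L652628) (flp_a L652409) L673886
theorem L673890 : sm gb N48810 = N47007 := ded_26_1 (flp_i L656782) (flp_b L652411) L673886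
theorem L673892 : sm gc N48810 = N48126 := ded_33_1 (flp_i L668073) (flp_c L652413) L673886
theorem L673894 : sm gd N48810 = N46996 := ded_39_1 (flp_i L656645) (flp_d L652415) L673886
theorem L673896 : sm ge N48810 = N48125 := ded_44_1 (flp_i L668067) (flp_e L652420) L673886
theorem L673898 : sm gf N48810 = N46648 := ded_48_1 (flp_i L652422) L652407 L673886
theorem L673900 : sm gj N48810 = N46726 := ded_53_1 (flp_i L653490) (flp_j L652417) L673886
theorem L673902 : sm gh N46648 = N48811 := rfl
theorem L673904 : sm ga N48811 = N46664 := ded_17_1 (flp_h L652638) (flp_a L652424) L673902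
theorem L673906 : sm gb N48811 = N47008 := ded_25_1 (flp_h L656792) (flp_b L652426) L673902
theorem L673908 : sm gc N48811 = N48583 := ded_32_1 (flp_h L671657) (flp_c L652428) L673902
theorem L673910 : sm ge N48811 = N46649 := ded_43_1 (flp_h L652437) (flp_e L652432) L673902
theorem L673912 : sm gg N48811 = N48811 := ded_50_1 (flp_h L673902) L652434 L673902
theorem L673913 : sm gj N48811 = N46727 := ded_52_1 (flp_h L653500) (flp_j L652435) L673902
theorem L673915 : sm gd N48811 = N47035 := ded_38_1 (flp_h L657083) L553557 (flp_h L358117) (flp_d L652430) L673902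
theorem L673917 : sm gi N48811 = N48811 := ded_54_2 (flp_h L673902) (flp_i L652422) L354347 L652422 L673902
theorem L673918 : sm gh N46650 = N48812 := rfl
theorem L673920 : sm ga N48812 = N47775 := ded_17_1 L664712 (flp_a L652453) L673918
theorem L673922 : sm gb N48812 = N47083 := ded_25_1 (flp_h L657630) (flp_b L652455) L673918
theorem L673924 : sm gc N48812 = N47750 := ded_32_1 L664412 (flp_c L652457) L673918
theorem L673926 : sm ge N48812 = N48812 := ded_43_1 (flp_h L673918) L652461 L673918
theorem L673927 : sm gf N48812 = N48123 := ded_47_1 L668049 (flp_f L652462) L673918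
theorem L673929 : sm gg N48812 = N46733 := ded_50_1 (flp_h L653594) (flp_g L652466) L673918
theorem L673931 : sm gj N48812 = N46651 := ded_52_1 (flp_h L652468) L652451 L673918
theorem L673933 : sm gd N48812 = N47782 := ded_38_1 L664800 L375885 (flp_h L641361) (flp_d L652459) L673918
theorem L673935 : sm gi N48812 = N48620 := ded_54_2 (flp_h L671958) (flp_i L649890) (flp_h L649779) (flp_i L652464) L673918
theorem L673937 : sm gd N46651 = N48813 := rfl
theorem L673939 : sm ga N48813 = N47764 := ded_12_1 L664599 (flp_a L652470) L673937
theorem L673941 : sm gb N48813 = N47084 := ded_20_1 (flp_d L657638) (flp_b L652472) L673937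
theorem L673943 : sm gf N48813 = N48120 := ded_35_2 L668027 (flp_f L652477) L673937
theorem L673945 : sm gg N48813 = N46652 := ded_36_2 (flp_d L652481) (flp_g L652479) L673937
theorem L673947 : sm gj N48813 = N47782 := ded_37_2 (flp_d L673933) L673931 L673937
theorem L673949 : sm gc N48813 = N47751 := ded_27_1 (flp_d L664414) L621537 L374555 (flp_c L652474) L673937
theorem L673951 : sm gh N48813 = N46654 := ded_38_2 (flp_d L652508) (flp_h L354458) (flp_d L354427) L652468 L673937
theorem L673953 : sm ge N48092 = N48813 := ded_13_0 L673939 L664591 (flp_a L667805)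
theorem L673955 : sm gi N46651 = N48814 := rfl
theorem L673957 : sm ga N48814 = N47776 := ded_18_1 (flp_i L664716) (flp_a L652470) L673955
theorem L673959 : sm gb N48814 = N47085 := ded_26_1 (flp_i L657644) (flp_b L652472) L673955
theorem L673961 : sm gc N48814 = N47760 := ded_33_1 (flp_i L664538) (flp_c L652474) L673955
theorem L673963 : sm ge N48814 = N48814 := ded_44_1 (flp_i L673955) L652476 L673955
theorem L673964 : sm gf N48814 = N48124 := ded_48_1 (flp_i L668055) (flp_f L652477) L673955
theorem L673966 : sm gg N48814 = N46653 := ded_51_1 (flp_i L652495) (flp_g L652479) L673955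
theorem L673968 : sm gj N48814 = N48620 := ded_53_1 (flp_i L673935) L673931 L673955
theorem L673970 : sm gh N48814 = N48582 := ded_54_1 (flp_i L671648) L652064 L652058 L652468 L673955
theorem L673972 : sm ge N46652 = N48815 := rfl
theorem L673974 : sm ga N48815 = N47767 := ded_13_1 (flp_e L664623) (flp_a L652483) L673972
theorem L673976 : sm gb N48815 = N47087 := ded_21_1 (flp_e L657659) (flp_b L652485) L673972
theorem L673978 : sm gc N48815 = N47756 := ded_28_1 (flp_e L664485) (flp_c L652491) L673972
theorem L673980 : sm gg N48815 = N48092 := ded_41_2 L673953 L673945 L673972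
theorem L673982 : sm gj N48815 = N46736 := ded_42_2 (flp_e L653628) (flp_j L652489) L673972
theorem L673984 : sm gh N48815 = N46657 := ded_43_2 (flp_e L652554) (flp_h L652493) L673972
theorem L673986 : sm gd N48815 = N48815 := ded_34_1 (flp_e L673972) (flp_d L652481) L354434 L652481 L673972
theorem L673987 : sm gf N48815 = N48109 := ded_40_2 (flp_e L667952) L381706 (flp_e L621653) (flp_f L652487) L673972
theorem L673989 : sm gi N46652 = N48816 := rfl
theorem L673991 : sm ga N48816 = N47768 := ded_18_1 (flp_i L664634) (flp_a L652483) L673989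
theorem L673993 : sm gb N48816 = N47088 := ded_26_1 (flp_i L657666) (flp_b L652485) L673989
theorem L673995 : sm gc N48816 = N47757 := ded_33_1 (flp_i L664499) (flp_c L652491) L673989
theorem L673997 : sm gd N48816 = N46653 := ded_39_1 (flp_i L652495) L652481 L673989
theorem L673999 : sm gf N48816 = N47761 := ded_48_1 (flp_i L664554) (flp_f L652487) L673989
theorem L674001 : sm gj N48816 = N46737 := ded_53_1 (flp_i L653639) (flp_j L652489) L673989
theorem L674003 : sm gi N46654 = N48817 := rfl
theorem L674005 : sm ga N48817 = N48118 := ded_18_1 (flp_i L668009) (flp_a L652510) L674003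
theorem L674007 : sm gb N48817 = N47096 := ded_26_1 (flp_i L657746) (flp_b L652512) L674003
theorem L674009 : sm gc N48817 = N47753 := ded_33_1 (flp_i L664444) (flp_c L652518) L674003
theorem L674011 : sm gd N48817 = N46655 := ded_39_1 (flp_i L652522) L652508 L674003
theorem L674013 : sm ge N48817 = N48098 := ded_44_1 (flp_i L667859) (flp_e L652520) L674003
theorem L674015 : sm gg N48817 = N46658 := ded_51_1 (flp_i L652568) (flp_g L652514) L674003
theorem L674017 : sm gj N48817 = N47787 := ded_53_1 (flp_i L664846) (flp_j L652516) L674003
theorem L674019 : sm gi N46656 = N48818 := rfl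
theorem L674021 : sm ga N48818 = N47761 := ded_18_1 (flp_i L664554) (flp_a L652538) L674019
theorem L674023 : sm gb N48818 = N48086 := ded_26_1 (flp_i L667758) L652552 L674019
theorem L674025 : sm gc N48818 = N46658 := ded_33_1 (flp_i L652568) L652536 L674019
theorem L674027 : sm gd N48818 = N46665 := ded_39_1 (flp_i L652648) (flp_d L652548) L674019
theorem L674029 : sm ge N48818 = N48097 := ded_44_1 (flp_i L667851) L652550 L674019
theorem L674031 : sm gf N48818 = N47768 := ded_48_1 (flp_i L664634) (flp_f L652540) L674019
theorem L674033 : sm gg N48818 = N47753 := ded_51_1 (flp_i L664444) (flp_g L652542) L674019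
theorem L674035 : sm gj N48818 = N46749 := ded_53_1 (flp_i L653799) (flp_j L652544) L674019
theorem L674037 : sm gf N46657 = N48819 := rfl
theorem L674039 : sm ga N48819 = N48108 := ded_14_1 L667948 (flp_a L652556) L674037
theorem L674041 : sm gb N48819 = N47100 := ded_22_1 (flp_f L657781) (flp_b L652558) L674037
theorem L674043 : sm gc N48819 = N48094 := ded_29_1 L667824 (flp_c L652560) L674037
theorem L674045 : sm gd N48819 = N46659 := ded_35_1 (flp_f L652578) (flp_d L652566) L674037
theorem L674047 : sm gj N48819 = N46750 := ded_46_2 (flp_f L653809) (flp_j L652564) L674037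
theorem L674049 : sm gh N48819 = N48109 := ded_47_2 (flp_f L673987) L673984 L674037
theorem L674051 : sm ge N48819 = N47769 := ded_40_1 (flp_f L664642) (flp_e L374692) (flp_f L354472) L652554 L674037
theorem L674053 : sm gi N46657 = N48820 := rfl
theorem L674055 : sm ga N48820 = N48112 := ded_18_1 (flp_i L667967) (flp_a L652556) L674053
theorem L674057 : sm gb N48820 = N47101 := ded_26_1 (flp_i L657789) (flp_b L652558) L674053
theorem L674059 : sm gc N48820 = N48097 := ded_33_1 (flp_i L667851) (flp_c L652560) L674053
theorem L674061 : sm gd N48820 = N46660 := ded_39_1 (flp_i L652591) (flp_d L652566) L674053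
theorem L674063 : sm ge N48820 = N46658 := ded_44_1 (flp_i L652568) L652554 L674053
theorem L674065 : sm gg N48820 = N48098 := ded_51_1 (flp_i L667859) (flp_g L652562) L674053
theorem L674067 : sm gj N48820 = N46751 := ded_53_1 (flp_i L653817) (flp_j L652564) L674053
theorem L674069 : sm gh N46658 = N48821 := rfl
theorem L674071 : sm gb N48821 = N47102 := ded_25_1 (flp_h L657797) (flp_b L652570) L674069
theorem L674073 : sm gf N48821 = N47771 := ded_47_1 (flp_h L664664) (flp_f L652574) L674069
theorem L674075 : sm gj N48821 = N46752 := ded_52_1 (flp_h L653825) (flp_j L652576) L674069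
theorem L674077 : sm gg N46659 = N48822 := rfl
theorem L674079 : sm ga N48822 = N47042 := ded_15_1 L657176 (flp_a L652580) L674077
theorem L674081 : sm gb N48822 = N47105 := ded_23_1 (flp_g L657825) (flp_b L652582) L674077
theorem L674083 : sm gc N48822 = N47047 := ded_30_1 L657237 (flp_c L652584) L674077
theorem L674085 : sm ge N48822 = N46662 := ded_41_1 (flp_g L652620) (flp_e L652589) L674077
theorem L674087 : sm gh N48822 = N48822 := ded_50_2 (flp_g L674077) L652588 L674077
theorem L674088 : sm gf N48822 = N47076 := ded_45_1 L657556 L358868 (flp_g L648163) L652578 L674077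
theorem L674090 : sm gj N47234 = N48822 := ded_16_0 L674079 L657178 L659136
theorem L674092 : sm gi N46659 = N48823 := rfl
theorem L674094 : sm ga N48823 = N48125 := ded_18_1 (flp_i L668067) (flp_a L652580) L674092
theorem L674096 : sm gb N48823 = N47106 := ded_26_1 (flp_i L657831) (flp_b L652582) L674092
theorem L674098 : sm gc N48823 = N48101 := ded_33_1 (flp_i L667885) (flp_c L652584) L674092
theorem L674100 : sm ge N48823 = N46663 := ded_44_1 (flp_i L652628) (flp_e L652589) L674092
theorem L674102 : sm gf N48823 = N46660 := ded_48_1 (flp_i L652591) L652578 L674092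
theorem L674104 : sm gj N48823 = N46757 := ded_53_1 (flp_i L653880) (flp_j L652586) L674092
theorem L674106 : sm gh N46660 = N48824 := rfl
theorem L674108 : sm ga N48824 = N48129 := ded_17_1 (flp_h L668103) (flp_a L652593) L674106
theorem L674110 : sm gb N48824 = N47107 := ded_25_1 (flp_h L657840) (flp_b L652595) L674106
theorem L674112 : sm gc N48824 = N48102 := ded_32_1 (flp_h L667894) (flp_c L652597) L674106
theorem L674114 : sm ge N48824 = N46661 := ded_43_1 (flp_h L652605) (flp_e L652599) L674106
theorem L674116 : sm gg N48824 = N48103 := ded_50_1 (flp_h L667904) (flp_g L652601) L674106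
theorem L674118 : sm gj N48824 = N46758 := ded_52_1 (flp_h L653888) (flp_j L652603) L674106
theorem L674120 : sm gi N48824 = N48824 := ded_54_2 (flp_h L674106) (flp_i L652591) L354522 L652591 L674106
theorem L674121 : sm gj N46662 = N48825 := rfl
theorem L674123 : sm ga N48825 = N47138 := ded_16_1 L673884 L673872 L674121
theorem L674125 : sm gb N48825 = N47108 := ded_24_1 (flp_j L657848) (flp_b L652622) L674121
theorem L674127 : sm gc N48825 = N47151 := ded_31_1 L672989 L672982 L674121
theorem L674129 : sm gd N48825 = N47773 := ded_37_1 (flp_j L664681) (flp_d L652624) L674121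
theorem L674131 : sm ge N48825 = N47234 := ded_42_1 L674090 L674085 L674121
theorem L674133 : sm gf N48825 = N48825 := ded_46_1 (flp_j L674121) L652627 L674121
theorem L674134 : sm gh N48825 = N48825 := ded_52_2 (flp_j L674121) L652626 L674121
theorem L674135 : sm gg N48825 = N46759 := ded_49_1 (flp_j L653895) (flp_g L355695) (flp_j L354539) L652620 L674121
theorem L674137 : sm gi N48618 = N48825 := ded_26_0 L674125 (flp_i L657857) (flp_b L671946)
theorem L674139 : sm gi N46662 = N48826 := rfl
theorem L674141 : sm gb N48826 = N47109 := ded_26_1 (flp_i L657859) (flp_b L652622) L674139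
theorem L674143 : sm gd N48826 = N47774 := ded_39_1 (flp_i L664693) (flp_d L652624) L674139
theorem L674145 : sm gf N48826 = N48826 := ded_48_1 (flp_i L674139) L652627 L674139
theorem L674146 : sm gg N48826 = N46663 := ded_51_1 (flp_i L652628) L652620 L674139
theorem L674148 : sm gj N48826 = N48618 := ded_53_1 L674137 (flp_j L674121) L674139
theorem L674150 : sm gh N48586 = N48826 := ded_25_0 L674141 (flp_h L657869) (flp_b L671686)
theorem L674152 : sm gh N46663 = N48827 := rfl
theorem L674154 : sm gb N48827 = N47110 := ded_25_1 (flp_h L657871) (flp_b L652630) L674152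
theorem L674156 : sm gf N48827 = N46664 := ded_47_1 (flp_h L652638) (flp_f L652634) L674152
theorem L674158 : sm gg N48827 = N48586 := ded_50_1 L674150 L674146 L674152
theorem L674160 : sm gj N48827 = N46761 := ded_52_1 (flp_h L653914) (flp_j L652636) L674152
theorem L674162 : sm gd N48827 = N48584 := ded_38_1 (flp_h L671665) (flp_d L652348) L652356 (flp_d L652632) L674152
theorem L674164 : sm gi N48827 = N48827 := ded_54_2 (flp_h L674152) (flp_i L652628) L354541 L652628 L674152
theorem L674165 : sm gj N46666 = N48828 := rfl
theorem L674167 : sm ga N48828 = N46738 := ded_16_1 L653663 (flp_a L652668) L674165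
theorem L674169 : sm gb N48828 = N47192 := ded_24_1 (flp_j L658796) (flp_b L652670) L674165
theorem L674171 : sm gc N48828 = N46728 := ded_31_1 L653528 (flp_c L652672) L674165
theorem L674173 : sm gd N48828 = N46671 := ded_37_1 (flp_j L652735) (flp_d L652674) L674165
theorem L674175 : sm ge N48828 = N46855 := ded_42_1 L655085 L652680 L674165
theorem L674177 : sm gf N48828 = N46667 := ded_46_1 (flp_j L652682) L652666 L674165
theorem L674179 : sm gi N48828 = N46731 := ded_53_2 (flp_j L653566) (flp_i L652676) L674165
theorem L674181 : sm gg N48828 = N46716 := ded_49_1 (flp_j L653359) L355363 (flp_j L611666) (flp_g L652678) L674165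
theorem L674183 : sm gh N48609 = N48828 := ded_32_0 L674171 L653522 (flp_c L671880)
theorem L674185 : sm gh N46666 = N48829 := rfl
theorem L674187 : sm ga N48829 = N47814 := ded_17_1 (flp_h L665156) (flp_a L652668) L674185
theorem L674189 : sm gb N48829 = N47193 := ded_25_1 (flp_h L658805) (flp_b L652670) L674185
theorem L674191 : sm gc N48829 = N47802 := ded_32_1 (flp_h L665010) (flp_c L652672) L674185
theorem L674193 : sm ge N48829 = N47931 := ded_43_1 (flp_h L666347) L652680 L674185
theorem L674195 : sm gf N48829 = N46668 := ded_47_1 (flp_h L652699) L652666 L674185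
theorem L674197 : sm gg N48829 = N47779 := ded_50_1 (flp_h L664750) (flp_g L652678) L674185
theorem L674199 : sm gj N48829 = N48609 := ded_52_1 L674183 (flp_j L674165) L674185
theorem L674201 : sm gd N46668 = N48830 := rfl
theorem L674203 : sm ga N48830 = N48239 := ded_12_1 L668969 (flp_a L652701) L674201
theorem L674205 : sm gb N48830 = N47195 := ded_20_1 (flp_d L658822) (flp_b L652703) L674201
theorem L674207 : sm gg N48830 = N46669 := ded_36_2 (flp_d L652712) (flp_g L652708) L674201
theorem L674209 : sm gj N48830 = N48269 := ded_37_2 L669161 (flp_j L652710) L674201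
theorem L674211 : sm gc N48830 = N48273 := ded_27_1 L669183 L384127 (flp_d L649912) (flp_c L652705) L674201
theorem L674213 : sm gh N48830 = N46674 := ded_38_2 (flp_d L652775) (flp_h L354970) (flp_d L354936) L652699 L674201
theorem L674215 : sm gi N46668 = N48831 := rfl
theorem L674217 : sm ga N48831 = N47851 := ded_18_1 L665497 (flp_a L652701) L674215
theorem L674219 : sm gb N48831 = N47196 := ded_26_1 (flp_i L658828) (flp_b L652703) L674215
theorem L674221 : sm gc N48831 = N47807 := ded_33_1 L665092 (flp_c L652705) L674215
theorem L674223 : sm ge N48831 = N48831 := ded_44_1 (flp_i L674215) L652707 L674215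
theorem L674224 : sm gg N48831 = N46670 := ded_51_1 (flp_i L652722) (flp_g L652708) L674215
theorem L674226 : sm gj N48831 = N48619 := ded_53_1 (flp_i L671951) (flp_j L652710) L674215
theorem L674228 : sm gh N48831 = N46735 := ded_54_1 (flp_i L653617) (flp_h L355549) (flp_i L354939) L652699 L674215
theorem L674230 : sm gc N46669 = N48832 := rfl
theorem L674232 : sm ga N48832 = N48236 := ded_11_1 L668951 (flp_a L652714) L674230
theorem L674234 : sm gf N48832 = N47782 := ded_29_2 (flp_c L664794) (flp_f L652718) L674230
theorem L674236 : sm gg N48832 = N48273 := ded_30_2 (flp_c L674211) L674207 L674230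
theorem L674238 : sm gj N48832 = N48120 := ded_31_2 (flp_c L673593) L673591 L674230
theorem L674240 : sm gh N48832 = N46676 := ded_32_2 (flp_c L652797) (flp_h L652720) L674230
theorem L674242 : sm gd N48832 = N48123 := ded_27_2 L668045 (flp_d L651913) L651904 L652712 L674230
theorem L674244 : sm gi N48621 = N48832 := ded_39_0 L674242 (flp_i L668053) L671965
theorem L674246 : sm ge N46669 = N48833 := rfl
theorem L674248 : sm ga N48833 = N47325 := ded_13_1 L660025 (flp_a L652714) L674246
theorem L674250 : sm gb N48833 = N47198 := ded_21_1 (flp_e L658843) (flp_b L652716) L674246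
theorem L674252 : sm gh N48833 = N46677 := ded_43_2 (flp_e L652805) (flp_h L652720) L674246
theorem L674254 : sm gd N48833 = N48833 := ded_34_1 (flp_e L674246) (flp_d L652712) L354945 L652712 L674246
theorem L674255 : sm gf N48833 = N47275 := ded_40_2 (flp_e L659568) L360619 (flp_e L576776) (flp_f L652718) L674246
theorem L674257 : sm gi N46669 = N48834 := rfl
theorem L674259 : sm ga N48834 = N47853 := ded_18_1 L665516 (flp_a L652714) L674257
theorem L674261 : sm gb N48834 = N47199 := ded_26_1 (flp_i L658848) (flp_b L652716) L674257
theorem L674263 : sm gc N48834 = N48621 := ded_33_1 L674244 (flp_c L674230) L674257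
theorem L674265 : sm gd N48834 = N46670 := ded_39_1 (flp_i L652722) L652712 L674257
theorem L674267 : sm gf N48834 = N47783 := ded_48_1 (flp_i L664802) (flp_f L652718) L674257
theorem L674269 : sm gg N46671 = N48835 := rfl
theorem L674271 : sm ga N48835 = N46731 := ded_15_1 L653578 (flp_a L652737) L674269
theorem L674273 : sm gb N48835 = N47200 := ded_23_1 (flp_g L658854) (flp_b L652739) L674269
theorem L674275 : sm gc N48835 = N46685 := ded_30_1 (flp_g L652899) (flp_c L652741) L674269
theorem L674277 : sm gd N48835 = N46716 := ded_36_1 (flp_g L674181) L674173 L674269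
theorem L674279 : sm ge N48835 = N46777 := ded_41_1 (flp_g L654132) (flp_e L652743) L674269
theorem L674281 : sm gi N48835 = N46738 := ded_51_2 (flp_g L653651) (flp_i L652747) L674269
theorem L674283 : sm gf N48835 = N46715 := ded_45_1 L653357 (flp_f L652112) L652116 (flp_f L652745) L674269
theorem L674285 : sm gj N48835 = N46714 := ded_49_2 L653340 (flp_j L375833) (flp_g L354958) L652735 L674269
theorem L674287 : sm gh N47842 = N48835 := ded_32_0 L674275 (flp_h L652915) L665405
theorem L674289 : sm gh N46671 = N48836 := rfl
theorem L674291 : sm ga N48836 = N48276 := ded_17_1 L669203 (flp_a L652737) L674289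
theorem L674293 : sm gb N48836 = N47201 := ded_25_1 (flp_h L658864) (flp_b L652739) L674289
theorem L674295 : sm gc N48836 = N46686 := ded_32_1 (flp_h L652917) (flp_c L652741) L674289
theorem L674297 : sm ge N48836 = N46778 := ded_43_1 (flp_h L654145) (flp_e L652743) L674289
theorem L674299 : sm gf N48836 = N46673 := ded_47_1 (flp_h L652763) (flp_f L652745) L674289
theorem L674301 : sm gg N48836 = N47842 := ded_50_1 L674287 (flp_g L674269) L674289
theorem L674303 : sm gj N48836 = N46672 := ded_52_1 (flp_h L652749) L652735 L674289
theorem L674305 : sm gd N46672 = N48837 := rfl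
theorem L674307 : sm ga N48837 = N48261 := ded_12_1 L669111 (flp_a L652751) L674305
theorem L674309 : sm gb N48837 = N47202 := ded_20_1 (flp_d L658874) (flp_b L652753) L674305
theorem L674311 : sm gf N48837 = N46674 := ded_35_2 (flp_d L652775) (flp_f L652759) L674305
theorem L674313 : sm gg N48837 = N47784 := ded_36_2 (flp_d L664812) (flp_g L652761) L674305
theorem L674315 : sm gi N46672 = N48838 := rfl
theorem L674317 : sm ga N48838 = N48277 := ded_18_1 (flp_i L669205) (flp_a L652751) L674315
theorem L674319 : sm gb N48838 = N47203 := ded_26_1 (flp_i L658880) (flp_b L652753) L674315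
theorem L674321 : sm gc N48838 = N46688 := ded_33_1 (flp_i L652949) (flp_c L652755) L674315
theorem L674323 : sm ge N48838 = N46780 := ded_44_1 (flp_i L654167) (flp_e L652757) L674315
theorem L674325 : sm gf N48838 = N46675 := ded_48_1 (flp_i L652783) (flp_f L652759) L674315
theorem L674327 : sm gg N48838 = N47785 := ded_51_1 (flp_i L664820) (flp_g L652761) L674315
theorem L674329 : sm gh N48838 = N46741 := ded_54_1 (flp_i L653687) (flp_h L355581) (flp_i L354954) L652749 L674315
theorem L674331 : sm gd N46673 = N48839 := rfl
theorem L674333 : sm ga N48839 = N48273 := ded_12_1 L669183 (flp_a L652765) L674331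
theorem L674335 : sm gb N48839 = N47204 := ded_20_1 (flp_d L658892) (flp_b L652767) L674331
theorem L674337 : sm gg N48839 = N48236 := ded_36_2 (flp_d L673630) L673626 L674331
theorem L674339 : sm gj N48839 = N46674 := ded_37_2 (flp_d L652775) (flp_j L652773) L674331
theorem L674341 : sm gc N48839 = N48239 := ded_27_1 L668969 L652978 (flp_d L652963) (flp_c L652769) L674331
theorem L674343 : sm gh N48839 = N48269 := ded_38_2 L669161 L652697 L652690 L652763 L674331
theorem L674345 : sm gi N46673 = N48840 := rfl
theorem L674347 : sm ga N48840 = N48278 := ded_18_1 (flp_i L669215) (flp_a L652765) L674345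
theorem L674349 : sm gb N48840 = N47205 := ded_26_1 (flp_i L658896) (flp_b L652767) L674345
theorem L674351 : sm gc N48840 = N46690 := ded_33_1 (flp_i L652982) (flp_c L652769) L674345
theorem L674353 : sm ge N48840 = N46680 := ded_44_1 (flp_i L652837) (flp_e L652771) L674345
theorem L674355 : sm gg N48840 = N47789 := ded_51_1 (flp_i L673632) L673626 L674345
theorem L674357 : sm gj N48840 = N46675 := ded_53_1 (flp_i L652783) (flp_j L652773) L674345
theorem L674359 : sm gh N48840 = N46743 := ded_54_1 (flp_i L653713) (flp_h L355593) (flp_i L354968) L652763 L674345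
theorem L674361 : sm gc N46674 = N48841 := rfl
theorem L674363 : sm ga N48841 = N48269 := ded_11_1 L669159 (flp_a L652777) L674361
theorem L674365 : sm gg N48841 = N46676 := ded_30_2 (flp_c L652797) (flp_g L652781) L674361
theorem L674367 : sm gj N48841 = N48239 := ded_31_2 (flp_c L674341) L674339 L674361
theorem L674369 : sm gh N48841 = N48273 := ded_32_2 (flp_c L674211) L674213 L674361
theorem L674371 : sm gd N48841 = N46691 := ded_27_2 (flp_c L652998) (flp_d L355102) (flp_c L354974) L652775 L674361
theorem L674373 : sm ge N46674 = N48842 := rfl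
theorem L674375 : sm ga N48842 = N47349 := ded_13_1 L660208 (flp_a L652777) L674373
theorem L674377 : sm gb N48842 = N47207 := ded_21_1 (flp_e L658912) (flp_b L652779) L674373
theorem L674379 : sm gg N48842 = N46677 := ded_41_2 (flp_e L652805) (flp_g L652781) L674373
theorem L674381 : sm gd N48842 = N46681 := ded_34_1 (flp_e L652853) (flp_d L355008) (flp_e L354976) L652775 L674373
theorem L674383 : sm gi N46674 = N48843 := rfl
theorem L674385 : sm ga N48843 = N48274 := ded_18_1 (flp_i L669185) (flp_a L652777) L674383
theorem L674387 : sm gb N48843 = N47208 := ded_26_1 (flp_i L658918) (flp_b L652779) L674383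
theorem L674389 : sm gd N48843 = N46675 := ded_39_1 (flp_i L652783) L652775 L674383
theorem L674391 : sm gg N48843 = N46678 := ded_51_1 (flp_i L652815) (flp_g L652781) L674383
theorem L674393 : sm gb N46676 = N48844 := rfl
theorem L674395 : sm gd N48844 = N46693 := ded_20_2 (flp_b L653024) (flp_d L652803) L674393
theorem L674397 : sm gf N48844 = N47092 := ded_22_2 L657704 (flp_f L652801) L674393
theorem L674399 : sm gj N48844 = N47090 := ded_24_2 L673682 L673676 L674393
theorem L674401 : sm gc N48844 = N47209 := ded_19_2 (flp_b L658924) (flp_c L360160) (flp_b L354982) L652797 L674393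
theorem L674403 : sm ge N46676 = N48845 := rfl
theorem L674405 : sm ga N48845 = N47346 := ded_13_1 L660189 (flp_a L652799) L674403
theorem L674407 : sm gc N48845 = N46677 := ded_28_1 (flp_e L652805) L652797 L674403
theorem L674409 : sm gd N48845 = N48845 := ded_34_1 (flp_e L674403) L652803 L355121 (flp_d L652803) L674403
theorem L674410 : sm gf N48845 = N47287 := ded_40_2 (flp_e L659671) L360683 (flp_e L521687) (flp_f L652801) L674403
theorem L674412 : sm gi N46676 = N48846 := rfl
theorem L674414 : sm ga N48846 = N48270 := ded_18_1 (flp_i L669163) (flp_a L652799) L674412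
theorem L674416 : sm gc N48846 = N46678 := ded_33_1 (flp_i L652815) L652797 L674412
theorem L674418 : sm gd N48846 = N46694 := ded_39_1 (flp_i L653035) (flp_d L652803) L674412
theorem L674420 : sm gf N48846 = N47787 := ded_48_1 (flp_i L664846) (flp_f L652801) L674412
theorem L674422 : sm gi N46677 = N48847 := rfl
theorem L674424 : sm ga N48847 = N47350 := ded_18_1 (flp_i L660210) (flp_a L652807) L674422
theorem L674426 : sm gb N48847 = N47213 := ded_26_1 (flp_i L658950) (flp_b L652809) L674422
theorem L674428 : sm gd N48847 = N46683 := ded_39_1 (flp_i L652876) (flp_d L652811) L674422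
theorem L674430 : sm ge N48847 = N46678 := ded_44_1 (flp_i L652815) L652805 L674422
theorem L674432 : sm gf N48847 = N47289 := ded_48_1 (flp_i L659688) (flp_f L652813) L674422
theorem L674434 : sm gh N46678 = N48848 := rfl
theorem L674436 : sm ga N48848 = N48275 := ded_17_1 (flp_h L669191) (flp_a L652817) L674434
theorem L674438 : sm gb N48848 = N47214 := ded_25_1 (flp_h L658956) (flp_b L652819) L674434
theorem L674440 : sm gf N48848 = N47788 := ded_47_1 (flp_h L664856) (flp_f L652823) L674434
theorem L674442 : sm gd N48848 = N46752 := ded_38_1 (flp_h L653825) L355635 (flp_h L354996) (flp_d L652821) L674434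
theorem L674444 : sm ge N46679 = N48849 := rfl
theorem L674446 : sm ga N48849 = N47358 := ded_13_1 L660281 (flp_a L652827) L674444
theorem L674448 : sm gb N48849 = N47186 := ded_21_1 L658742 (flp_b L652829) L674444
theorem L674450 : sm gc N48849 = N48849 := ded_28_1 (flp_e L674444) L652835 L674444
theorem L674451 : sm gg N48849 = N47188 := ded_41_2 L673723 L673715 L674444
theorem L674453 : sm gj N48849 = N46681 := ded_42_2 (flp_e L652853) (flp_j L652833) L674444
theorem L674455 : sm gh N48849 = N48849 := ded_43_2 (flp_e L674444) L652836 L674444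
theorem L674456 : sm gi N46679 = N48850 := rfl
theorem L674458 : sm ga N48850 = N47362 := ded_18_1 (flp_i L660302) (flp_a L652827) L674456
theorem L674460 : sm gb N48850 = N47215 := ded_26_1 (flp_i L658962) (flp_b L652829) L674456
theorem L674462 : sm gc N48850 = N48850 := ded_33_1 (flp_i L674456) L652835 L674456
theorem L674463 : sm gd N48850 = N46680 := ded_39_1 (flp_i L652837) L652825 L674456
theorem L674465 : sm gf N48850 = N46792 := ded_48_1 (flp_i L654308) (flp_f L652831) L674456
theorem L674467 : sm gg N48850 = N48601 := ded_51_1 (flp_i L673719) L673715 L674456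
theorem L674469 : sm gj N48850 = N46682 := ded_53_1 (flp_i L652863) (flp_j L652833) L674456
theorem L674471 : sm gh N48603 = N48850 := ded_17_0 L674458 (flp_h L660313) (flp_a L671837)
theorem L674473 : sm gf N46681 = N48851 := rfl
theorem L674475 : sm ga N48851 = N47355 := ded_14_1 L660261 (flp_a L652855) L674473
theorem L674477 : sm gb N48851 = N47216 := ded_22_1 (flp_f L658970) (flp_b L652857) L674473
theorem L674479 : sm gc N48851 = N48851 := ded_29_1 (flp_f L674473) L652859 L674473
theorem L674480 : sm gh N48851 = N48851 := ded_47_2 (flp_f L674473) L652862 L674473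
theorem L674481 : sm ge N48851 = N46793 := ded_40_1 (flp_f L654320) (flp_e L356379) (flp_f L355012) L652853 L674473
theorem L674483 : sm gg N48851 = N47293 := ded_45_2 (flp_f L659729) L360726 (flp_f L550530) (flp_g L652860) L674473
theorem L674485 : sm gi N46681 = N48852 := rfl
theorem L674487 : sm ga N48852 = N47359 := ded_18_1 (flp_i L660284) (flp_a L652855) L674485
theorem L674489 : sm gb N48852 = N47217 := ded_26_1 (flp_i L658975) (flp_b L652857) L674485
theorem L674491 : sm gc N48852 = N48852 := ded_33_1 (flp_i L674485) L652859 L674485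
theorem L674492 : sm ge N48852 = N46682 := ded_44_1 (flp_i L652863) L652853 L674485
theorem L674494 : sm gg N48852 = N46683 := ded_51_1 (flp_i L652876) (flp_g L652860) L674485
theorem L674496 : sm gh N46682 = N48853 := rfl
theorem L674498 : sm ga N48853 = N47363 := ded_17_1 (flp_h L660315) (flp_a L652865) L674496
theorem L674500 : sm gb N48853 = N47218 := ded_25_1 (flp_h L658981) (flp_b L652867) L674496
theorem L674502 : sm gc N48853 = N48853 := ded_32_1 (flp_h L674496) L652869 L674496
theorem L674503 : sm gf N48853 = N46795 := ded_47_1 (flp_h L654341) (flp_f L652872) L674496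
theorem L674505 : sm gg N48853 = N46684 := ded_50_1 (flp_h L652887) (flp_g L652874) L674496
theorem L674507 : sm gj N48853 = N48603 := ded_52_1 L674471 L674469 L674496
theorem L674509 : sm gd N48853 = N46755 := ded_38_1 (flp_h L653858) L355669 (flp_h L355028) (flp_d L652870) L674496
theorem L674511 : sm gi N48853 = N48853 := ded_54_2 (flp_h L674496) (flp_i L652863) L355017 L652863 L674496
theorem L674512 : sm gh N46683 = N48854 := rfl
theorem L674514 : sm ga N48854 = N47360 := ded_17_1 (flp_h L660291) (flp_a L652878) L674512
theorem L674516 : sm gb N48854 = N47221 := ded_25_1 (flp_h L659011) (flp_b L652880) L674512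
theorem L674518 : sm gc N48854 = N48854 := ded_32_1 (flp_h L674512) L652882 L674512
theorem L674519 : sm ge N48854 = N46684 := ded_43_1 (flp_h L652887) (flp_e L652883) L674512
theorem L674521 : sm gf N48854 = N47296 := ded_47_1 (flp_h L659756) (flp_f L652885) L674512
theorem L674523 : sm gi N48854 = N48854 := ded_54_2 (flp_h L674512) (flp_i L652876) L355035 L652876 L674512
theorem L674524 : sm gi N46686 = N48855 := rfl
theorem L674526 : sm ga N48855 = N48612 := ded_18_1 L671908 (flp_a L652919) L674524
theorem L674528 : sm gb N48855 = N46696 := ded_26_1 (flp_i L653061) (flp_b L652921) L674524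
theorem L674530 : sm gd N48855 = N47841 := ded_39_1 (flp_i L665393) (flp_d L652931) L674524
theorem L674532 : sm ge N48855 = N46799 := ded_44_1 (flp_i L654396) (flp_e L652923) L674524
theorem L674534 : sm gf N48855 = N46690 := ded_48_1 (flp_i L652982) (flp_f L652925) L674524
theorem L674536 : sm gg N48855 = N47843 := ded_51_1 (flp_i L665411) (flp_g L652927) L674524
theorem L674538 : sm gj N48855 = N46688 := ded_53_1 (flp_i L652949) (flp_j L652929) L674524
theorem L674540 : sm gh N48855 = N46762 := ded_54_1 (flp_i L653921) (flp_h L355729) (flp_i L355082) L652917 L674524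
theorem L674542 : sm gc N46687 = N48856 := rfl
theorem L674544 : sm ga N48856 = N48609 := ded_11_1 L671880 (flp_a L652935) L674542
theorem L674546 : sm ge N48856 = N46901 := ded_28_2 L655608 L652947 L674542
theorem L674548 : sm gf N48856 = N46691 := ded_29_2 (flp_c L652998) (flp_f L652939) L674542
theorem L674550 : sm gg N48856 = N46739 := ded_30_2 L653671 (flp_g L652941) L674542
theorem L674552 : sm gj N48856 = N47814 := ded_31_2 L665160 (flp_j L652943) L674542
theorem L674554 : sm gh N48856 = N46738 := ded_32_2 L653655 (flp_h L652945) L674542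
theorem L674556 : sm gb N48856 = N47328 := ded_19_1 L660040 L361139 (flp_c L644245) (flp_b L652937) L674542
theorem L674558 : sm gi N46687 = N48857 := rfl
theorem L674560 : sm ga N48857 = N48611 := ded_18_1 (flp_i L671890) (flp_a L652935) L674558
theorem L674562 : sm gb N48857 = N46697 := ded_26_1 (flp_i L653078) (flp_b L652937) L674558
theorem L674564 : sm gd N48857 = N46688 := ded_39_1 (flp_i L652949) L652933 L674558
theorem L674566 : sm ge N48857 = N46937 := ded_44_1 (flp_i L655950) L652947 L674558
theorem L674568 : sm gf N48857 = N46692 := ded_48_1 (flp_i L653009) (flp_f L652939) L674558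
theorem L674570 : sm gg N48857 = N46762 := ded_51_1 (flp_i L653921) (flp_g L652941) L674558
theorem L674572 : sm gj N48857 = N47841 := ded_53_1 (flp_i L665393) (flp_j L652943) L674558
theorem L674574 : sm gh N48857 = N47843 := ded_54_1 (flp_i L665411) L652915 L652909 (flp_h L652945) L674558
theorem L674576 : sm gb N46691 = N48858 := rfl
theorem L674578 : sm ge N48858 = N48858 := ded_21_2 (flp_b L674576) L653002 L674576
theorem L674579 : sm gf N48858 = N47328 := ded_22_2 (flp_b L674556) L674548 L674576
theorem L674581 : sm gg N48858 = N46693 := ded_23_2 (flp_b L653024) (flp_g L653003) L674576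
theorem L674583 : sm gj N48858 = N48107 := ded_24_2 L667937 (flp_j L653005) L674576
theorem L674585 : sm gh N48858 = N47089 := ded_25_2 L657676 (flp_h L653007) L674576
theorem L674587 : sm gc N48858 = N46698 := ded_19_2 (flp_b L653095) (flp_c L355203) (flp_b L355104) L652998 L674576
theorem L674589 : sm gi N46691 = N48859 := rfl
theorem L674591 : sm ga N48859 = N48619 := ded_18_1 (flp_i L671951) (flp_a L653000) L674589
theorem L674593 : sm gc N48859 = N46692 := ded_33_1 (flp_i L653009) L652998 L674589
theorem L674595 : sm ge N48859 = N48859 := ded_44_1 (flp_i L674589) L653002 L674589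
theorem L674596 : sm gg N48859 = N46694 := ded_51_1 (flp_i L653035) (flp_g L653003) L674589
theorem L674598 : sm gj N48859 = N47851 := ded_53_1 L665497 (flp_j L653005) L674589
theorem L674600 : sm gh N48859 = N47849 := ded_54_1 (flp_i L665474) (flp_h L653353) L653355 (flp_h L653007) L674589
theorem L674602 : sm ga N46693 = N48860 := rfl
theorem L674604 : sm gc N48860 = N46700 := ded_11_2 (flp_a L653124) (flp_c L653033) L674602
theorem L674606 : sm ge N48860 = N48860 := ded_13_2 (flp_a L674602) L653026 L674602
theorem L674607 : sm gf N48860 = N47062 := ded_14_2 L657401 (flp_f L653027) L674602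
theorem L674609 : sm gj N48860 = N47061 := ded_16_2 L657390 (flp_j L653029) L674602
theorem L674611 : sm gh N48860 = N47060 := ded_17_2 L657381 (flp_h L653031) L674602
theorem L674613 : sm gb N48860 = N48613 := ded_10_2 L671912 L649868 L648416 L653024 L674602
theorem L674615 : sm gi N46693 = N48861 := rfl
theorem L674617 : sm gb N48861 = N46694 := ded_26_1 (flp_i L653035) L653024 L674615
theorem L674619 : sm gc N48861 = N46701 := ded_33_1 (flp_i L653136) (flp_c L653033) L674615
theorem L674621 : sm ge N48861 = N48861 := ded_44_1 (flp_i L674615) L653026 L674615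
theorem L674622 : sm gf N48861 = N47093 := ded_48_1 (flp_i L657714) (flp_f L653027) L674615
theorem L674624 : sm gj N48861 = N47091 := ded_53_1 (flp_i L657693) (flp_j L653029) L674615
theorem L674626 : sm gh N46694 = N48862 := rfl
theorem L674628 : sm ga N48862 = N48620 := ded_17_1 (flp_h L671958) (flp_a L653037) L674626
theorem L674630 : sm gc N48862 = N46695 := ded_32_1 (flp_h L653044) (flp_c L653039) L674626
theorem L674632 : sm ge N48862 = N48862 := ded_43_1 (flp_h L674626) L653041 L674626
theorem L674633 : sm gf N48862 = N47789 := ded_47_1 (flp_h L664866) (flp_f L653042) L674626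
theorem L674635 : sm gg N48862 = N47849 := ded_50_1 (flp_h L674600) L674596 L674626
theorem L674637 : sm gj N48862 = N47776 := ded_52_1 (flp_h L673799) L673797 L674626
theorem L674639 : sm gi N48862 = N47775 := ded_54_2 L664712 (flp_i L652005) L652003 L653035 L674626
theorem L674641 : sm gd N48237 = N48862 := ded_27_0 L674630 L653057 (flp_c L648939) (flp_d L383917) (flp_c L668957)
theorem L674643 : sm ga N46698 = N48863 := rfl
theorem L674645 : sm gd N48863 = N47248 := ded_12_2 (flp_a L659297) (flp_d L653097) L674643
theorem L674647 : sm ge N48863 = N48863 := ded_13_2 (flp_a L674643) L653099 L674643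
theorem L674648 : sm gf N48863 = N47297 := ded_14_2 L659766 (flp_f L653100) L674643
theorem L674650 : sm gg N48863 = N46700 := ded_15_2 (flp_a L653124) (flp_g L653102) L674643
theorem L674652 : sm gj N48863 = N48100 := ded_16_2 L667877 (flp_j L653104) L674643
theorem L674654 : sm gh N48863 = N47073 := ded_17_2 L657519 (flp_h L653106) L674643
theorem L674656 : sm gb N48863 = N48863 := ded_10_2 (flp_a L674643) (flp_b L653095) L355205 L653095 L674643
theorem L674657 : sm gi N46698 = N48864 := rfl
theorem L674659 : sm gb N48864 = N46699 := ded_26_1 (flp_i L653108) L653095 L674657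
theorem L674661 : sm gd N48864 = N47249 := ded_39_1 (flp_i L659303) (flp_d L653097) L674657
theorem L674663 : sm ge N48864 = N48864 := ded_44_1 (flp_i L674657) L653099 L674657
theorem L674664 : sm gf N48864 = N47364 := ded_48_1 (flp_i L660327) (flp_f L653100) L674657
theorem L674666 : sm gg N48864 = N46701 := ded_51_1 (flp_i L653136) (flp_g L653102) L674657
theorem L674668 : sm gj N48864 = N47859 := ded_53_1 L665581 (flp_j L653104) L674657
theorem L674670 : sm gh N48864 = N47857 := ded_54_1 (flp_i L665553) L657105 L657099 (flp_h L653106) L674657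
theorem L674672 : sm gi N46700 = N48865 := rfl
theorem L674674 : sm ga N48865 = N46701 := ded_18_1 (flp_i L653136) L653124 L674672
theorem L674676 : sm gb N48865 = N48865 := ded_26_1 (flp_i L674672) L653135 L674672
theorem L674677 : sm gd N48865 = N47251 := ded_39_1 (flp_i L659321) (flp_d L653126) L674672
theorem L674679 : sm ge N48865 = N48865 := ded_44_1 (flp_i L674672) L653128 L674672
theorem L674680 : sm gf N48865 = N47075 := ded_48_1 (flp_i L657538) (flp_f L653129) L674672
theorem L674682 : sm gj N48865 = N47074 := ded_53_1 (flp_i L657528) (flp_j L653131) L674672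
theorem L674684 : sm gh N46701 = N48866 := rfl
theorem L674686 : sm gb N48866 = N46702 := ded_25_1 (flp_h L653147) (flp_b L653138) L674684
theorem L674688 : sm ge N48866 = N48866 := ded_43_1 (flp_h L674684) L653142 L674684
theorem L674689 : sm gf N48866 = N47040 := ded_47_1 L657160 (flp_f L653143) L674684
theorem L674691 : sm gg N48866 = N47857 := ded_50_1 (flp_h L674670) L674666 L674684
theorem L674693 : sm gj N48866 = N47038 := ded_52_1 L657131 (flp_j L653145) L674684
theorem L674695 : sm gi N48866 = N47037 := ded_54_2 (flp_h L657107) L358419 (flp_h L644095) L653136 L674684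
theorem L674697 : sm gd N48134 = N48866 := ded_20_0 L674686 (flp_d L653161) (flp_b L668152)
theorem L674699 : sm gj N46703 = N48867 := rfl
theorem L674701 : sm ga N48867 = N47256 := ded_16_1 (flp_j L659382) (flp_a L653165) L674699
theorem L674703 : sm gb N48867 = N46715 := ded_24_1 (flp_j L653344) (flp_b L653167) L674699
theorem L674705 : sm gc N48867 = N47036 := ded_31_1 L657103 (flp_c L653169) L674699
theorem L674707 : sm gd N48867 = N46705 := ded_37_1 (flp_j L653195) (flp_d L653171) L674699
theorem L674709 : sm ge N48867 = N48867 := ded_42_1 (flp_j L674699) L653173 L674699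
theorem L674710 : sm gf N48867 = N47200 := ded_46_1 L658862 (flp_f L653178) L674699
theorem L674712 : sm gh N48867 = N47848 := ded_52_2 L665470 (flp_h L653174) L674699
theorem L674714 : sm gi N48867 = N47089 := ded_53_2 L657685 (flp_i L653176) L674699
theorem L674716 : sm gg N48867 = N47020 := ded_49_1 (flp_j L656933) L358312 (flp_j L617609) L653163 L674699
theorem L674718 : sm gj N46704 = N48868 := rfl
theorem L674720 : sm ga N48868 = N47260 := ded_16_1 (flp_j L659423) (flp_a L653182) L674718
theorem L674722 : sm gb N48868 = N46716 := ded_24_1 (flp_j L653359) (flp_b L653184) L674718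
theorem L674724 : sm gc N48868 = N48868 := ded_31_1 (flp_j L674718) L653186 L674718
theorem L674725 : sm gd N48868 = N47200 := ded_37_1 L658862 (flp_d L653187) L674718
theorem L674727 : sm ge N48868 = N46831 := ded_42_1 (flp_j L654787) (flp_e L653191) L674718
theorem L674729 : sm gf N48868 = N46705 := ded_46_1 (flp_j L653195) L653180 L674718
theorem L674731 : sm gi N48868 = N47313 := ded_53_2 L659934 (flp_i L653189) L674718
theorem L674733 : sm gg N48868 = N47192 := ded_49_1 (flp_j L658796) L360088 (flp_j L622138) (flp_g L653193) L674718
theorem L674735 : sm gh N48607 = N48868 := ded_25_0 L674722 (flp_h L653371) (flp_b L671866)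
theorem L674737 : sm gh N46704 = N48869 := rfl
theorem L674739 : sm ga N48869 = N47261 := ded_17_1 (flp_h L659432) (flp_a L653182) L674737
theorem L674741 : sm gb N48869 = N46717 := ded_25_1 (flp_h L653373) (flp_b L653184) L674737
theorem L674743 : sm gc N48869 = N48869 := ded_32_1 (flp_h L674737) L653186 L674737
theorem L674744 : sm ge N48869 = N46832 := ded_43_1 (flp_h L654798) (flp_e L653191) L674737
theorem L674746 : sm gf N48869 = N46706 := ded_47_1 (flp_h L653210) L653180 L674737
theorem L674748 : sm gg N48869 = N47790 := ded_50_1 (flp_h L664874) (flp_g L653193) L674737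
theorem L674750 : sm gj N48869 = N48607 := ded_52_1 L674735 (flp_j L674718) L674737
theorem L674752 : sm gd N46706 = N48870 := rfl
theorem L674754 : sm ga N48870 = N47263 := ded_12_1 (flp_d L659456) (flp_a L653212) L674752
theorem L674756 : sm gb N48870 = N46718 := ded_20_1 (flp_d L653387) (flp_b L653214) L674752
theorem L674758 : sm gg N48870 = N46707 := ded_36_2 (flp_d L653223) (flp_g L653219) L674752
theorem L674760 : sm gj N48870 = N48256 := ded_37_2 L669077 (flp_j L653221) L674752
theorem L674762 : sm ge N48870 = N48252 := ded_34_2 L669049 L384269 L648624 (flp_e L653217) L674752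
theorem L674764 : sm gh N48870 = N47822 := ded_38_2 L665236 (flp_h L653174) L653171 L653210 L674752
theorem L674766 : sm gc N48231 = N48870 := ded_19_0 L674756 L653395 L376651 L383872 L668918
theorem L674768 : sm gi N46706 = N48871 := rfl
theorem L674770 : sm ga N48871 = N47264 := ded_18_1 (flp_i L659462) (flp_a L653212) L674768
theorem L674772 : sm gb N48871 = N46719 := ded_26_1 (flp_i L653401) (flp_b L653214) L674768
theorem L674774 : sm gc N48871 = N48871 := ded_33_1 (flp_i L674768) L653216 L674768
theorem L674775 : sm ge N48871 = N46709 := ded_44_1 (flp_i L653248) (flp_e L653217) L674768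
theorem L674777 : sm gg N48871 = N46708 := ded_51_1 (flp_i L653235) (flp_g L653219) L674768
theorem L674779 : sm gj N48871 = N48608 := ded_53_1 (flp_i L671869) (flp_j L653221) L674768
theorem L674781 : sm gh N48871 = N47839 := ded_54_1 (flp_i L665371) L376848 (flp_i L648324) L653210 L674768
theorem L674783 : sm ge N46707 = N48872 := rfl
theorem L674785 : sm ga N48872 = N47212 := ded_13_1 L658948 (flp_a L653225) L674783
theorem L674787 : sm gb N48872 = N46720 := ded_21_1 (flp_e L653415) (flp_b L653227) L674783
theorem L674789 : sm gc N48872 = N48234 := ded_28_1 (flp_e L668938) L653233 L674783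
theorem L674791 : sm gg N48872 = N48252 := ded_41_2 (flp_e L674762) L674758 L674783
theorem L674793 : sm gj N48872 = N48111 := ded_42_2 (flp_e L673813) L673811 L674783
theorem L674795 : sm gh N48872 = N47828 := ded_43_2 (flp_e L665289) (flp_h L653231) L674783
theorem L674797 : sm gd N48872 = N46710 := ded_34_1 (flp_e L653265) (flp_d L355294) (flp_e L355269) L653223 L674783
theorem L674799 : sm gf N48872 = N47174 := ded_40_2 (flp_e L658617) L359919 (flp_e L552239) (flp_f L653229) L674783
theorem L674801 : sm gi N46707 = N48873 := rfl
theorem L674803 : sm ga N48873 = N47266 := ded_18_1 (flp_i L659480) (flp_a L653225) L674801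
theorem L674805 : sm gb N48873 = N46721 := ded_26_1 (flp_i L653429) (flp_b L653227) L674801
theorem L674807 : sm gc N48873 = N48235 := ded_33_1 (flp_i L668944) L653233 L674801
theorem L674809 : sm gd N48873 = N46708 := ded_39_1 (flp_i L653235) L653223 L674801
theorem L674811 : sm gf N48873 = N47793 := ded_48_1 (flp_i L664916) (flp_f L653229) L674801
theorem L674813 : sm gi N46710 = N48874 := rfl
theorem L674815 : sm ga N48874 = N47220 := ded_18_1 (flp_i L659003) (flp_a L653267) L674813
theorem L674817 : sm gb N48874 = N46723 := ded_26_1 (flp_i L653452) (flp_b L653269) L674813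
theorem L674819 : sm gc N48874 = N48134 := ded_33_1 (flp_i L668150) (flp_c L653271) L674813
theorem L674821 : sm ge N48874 = N46711 := ded_44_1 (flp_i L653280) L653265 L674813
theorem L674823 : sm gf N48874 = N47179 := ded_48_1 (flp_i L658664) (flp_f L653278) L674813
theorem L674825 : sm gg N48874 = N48292 := ded_51_1 (flp_i L669332) (flp_g L653273) L674813
theorem L674827 : sm gj N48874 = N48128 := ded_53_1 (flp_i L668093) (flp_j L653275) L674813
theorem L674829 : sm gh N46711 = N48875 := rfl
theorem L674831 : sm ga N48875 = N47223 := ded_17_1 (flp_h L659032) (flp_a L653282) L674829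
theorem L674833 : sm gb N48875 = N46724 := ded_25_1 (flp_h L653464) (flp_b L653284) L674829
theorem L674835 : sm gc N48875 = N48593 := ded_32_1 (flp_h L671748) (flp_c L653286) L674829
theorem L674837 : sm gf N48875 = N46713 := ded_47_1 (flp_h L653313) (flp_f L653290) L674829
theorem L674839 : sm gg N48875 = N48629 := ded_50_1 (flp_h L672017) (flp_g L653292) L674829
theorem L674841 : sm gj N48875 = N48584 := ded_52_1 (flp_h L671665) (flp_j L653294) L674829
theorem L674843 : sm gd N48875 = N46761 := ded_38_1 (flp_h L653914) L355708 (flp_h L554607) (flp_d L653288) L674829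
theorem L674845 : sm gi N48875 = N48875 := ded_54_2 (flp_h L674829) (flp_i L653280) L355302 L653280 L674829
theorem L674846 : sm gh N46712 = N48876 := rfl
theorem L674848 : sm ga N48876 = N47133 := ded_17_1 (flp_h L658165) (flp_a L653298) L674846
theorem L674850 : sm gb N48876 = N48588 := ded_25_1 (flp_h L671698) (flp_b L653300) L674846
theorem L674852 : sm gc N48876 = N46713 := ded_32_1 (flp_h L653313) (flp_c L653302) L674846
theorem L674854 : sm ge N48876 = N47122 := ded_43_1 (flp_h L658026) (flp_e L653305) L674846
theorem L674856 : sm gf N48876 = N48593 := ded_47_1 (flp_h L671748) (flp_f L653307) L674846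
theorem L674858 : sm gg N48876 = N46845 := ded_50_1 (flp_h L654968) (flp_g L653309) L674846
theorem L674860 : sm gj N48876 = N48589 := ded_52_1 (flp_h L671708) (flp_j L653311) L674846
theorem L674862 : sm gi N48876 = N48876 := ded_54_2 (flp_h L674846) (flp_i L653296) L355318 L653296 L674846
theorem L674863 : sm gd N46717 = N48877 := rfl
theorem L674865 : sm ga N48877 = N46740 := ded_12_1 (flp_d L653679) (flp_a L653375) L674863
theorem L674867 : sm gf N48877 = N46718 := ded_35_2 (flp_d L653387) (flp_f L653381) L674863
theorem L674869 : sm gg N48877 = N47794 := ded_36_2 (flp_d L664926) (flp_g L653383) L674863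
theorem L674871 : sm gj N48877 = N48258 := ded_37_2 L669091 (flp_j L653385) L674863
theorem L674873 : sm gc N48877 = N47808 := ded_27_1 (flp_d L665094) L611449 (flp_d L648511) (flp_c L653377) L674863
theorem L674875 : sm gh N48877 = N47817 := ded_38_2 L665194 (flp_h L653336) L653334 L653373 L674863
theorem L674877 : sm gi N46717 = N48878 := rfl
theorem L674879 : sm ga N48878 = N46741 := ded_18_1 (flp_i L653687) (flp_a L653375) L674877
theorem L674881 : sm gc N48878 = N46729 := ded_33_1 (flp_i L653530) (flp_c L653377) L674877
theorem L674883 : sm ge N48878 = N46858 := ded_44_1 (flp_i L655107) (flp_e L653379) L674877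
theorem L674885 : sm gf N48878 = N46719 := ded_48_1 (flp_i L653401) (flp_f L653381) L674877
theorem L674887 : sm gg N48878 = N47795 := ded_51_1 (flp_i L664932) (flp_g L653383) L674877
theorem L674889 : sm gj N48878 = N48610 := ded_53_1 (flp_i L671884) (flp_j L653385) L674877
theorem L674891 : sm gh N48878 = N48277 := ded_54_1 (flp_i L669205) L384103 L648684 L653373 L674877
theorem L674893 : sm gi N46718 = N48879 := rfl
theorem L674895 : sm ga N48879 = N46746 := ded_18_1 (flp_i L653757) (flp_a L653389) L674893
theorem L674897 : sm gc N48879 = N47810 := ded_33_1 (flp_i L665116) (flp_c L653395) L674893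
theorem L674899 : sm gd N48879 = N46719 := ded_39_1 (flp_i L653401) L653387 L674893
theorem L674901 : sm ge N48879 = N48253 := ded_44_1 (flp_i L669053) (flp_e L653397) L674893
theorem L674903 : sm gg N48879 = N46721 := ded_51_1 (flp_i L653429) (flp_g L653391) L674893
theorem L674905 : sm gj N48879 = N48259 := ded_53_1 (flp_i L669093) (flp_j L653393) L674893
theorem L674907 : sm gf N46720 = N48880 := rfl
theorem L674909 : sm ga N48880 = N46750 := ded_14_1 (flp_f L653809) (flp_a L653417) L674907
theorem L674911 : sm gb N48880 = N47174 := ded_22_1 (flp_f L674799) L674787 L674907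
theorem L674913 : sm gc N48880 = N47811 := ded_29_1 (flp_f L665128) (flp_c L653419) L674907
theorem L674915 : sm gd N48880 = N46722 := ded_35_1 (flp_f L653439) (flp_d L653427) L674907
theorem L674917 : sm gj N48880 = N48108 := ded_46_2 L667948 (flp_j L653423) L674907
theorem L674919 : sm gh N48880 = N47830 := ded_47_2 (flp_f L665304) (flp_h L653425) L674907
theorem L674921 : sm ge N48880 = N47159 := ded_40_1 L658467 (flp_e L376429) (flp_f L355387) L653415 L674907
theorem L674923 : sm gi N46720 = N48881 := rfl
theorem L674925 : sm ga N48881 = N46751 := ded_18_1 (flp_i L653817) (flp_a L653417) L674923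
theorem L674927 : sm gc N48881 = N47812 := ded_33_1 (flp_i L665138) (flp_c L653419) L674923
theorem L674929 : sm gd N48881 = N46723 := ded_39_1 (flp_i L653452) (flp_d L653427) L674923
theorem L674931 : sm ge N48881 = N46721 := ded_44_1 (flp_i L653429) L653415 L674923
theorem L674933 : sm gg N48881 = N48253 := ded_51_1 (flp_i L669053) (flp_g L653421) L674923
theorem L674935 : sm gj N48881 = N48112 := ded_53_1 (flp_i L667967) (flp_j L653423) L674923
theorem L674937 : sm gh N46721 = N48882 := rfl
theorem L674939 : sm ga N48882 = N46752 := ded_17_1 (flp_h L653825) (flp_a L653431) L674937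
theorem L674941 : sm gc N48882 = N47813 := ded_32_1 (flp_h L665150) (flp_c L653433) L674937
theorem L674943 : sm gf N48882 = N47799 := ded_47_1 (flp_h L664976) (flp_f L653437) L674937
theorem L674945 : sm gd N48882 = N48275 := ded_38_1 (flp_h L669191) L384061 (flp_h L591872) (flp_d L653435) L674937
theorem L674947 : sm gi N48882 = N47832 := ded_54_2 (flp_h L665316) (flp_i L376768) (flp_h L649165) L653429 L674937
theorem L674949 : sm gg N46722 = N48883 := rfl
theorem L674951 : sm ga N48883 = N46756 := ded_15_1 (flp_g L653873) (flp_a L653441) L674949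
theorem L674953 : sm gb N48883 = N47177 := ded_23_1 L658649 (flp_b L653443) L674949
theorem L674955 : sm gc N48883 = N47245 := ded_30_1 L659265 (flp_c L653445) L674949
theorem L674957 : sm ge N48883 = N46725 := ded_41_1 (flp_g L653479) (flp_e L653450) L674949
theorem L674959 : sm gh N48883 = N48883 := ded_50_2 (flp_g L674949) L653449 L674949
theorem L674960 : sm gf N48883 = N48279 := ded_45_1 L669229 L384204 (flp_g L635748) L653439 L674949
theorem L674962 : sm gj N48883 = N47231 := ded_49_2 L659116 (flp_j L657178) L657176 (flp_j L653447) L674949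
theorem L674964 : sm gi N46722 = N48884 := rfl
theorem L674966 : sm ga N48884 = N46757 := ded_18_1 (flp_i L653880) (flp_a L653441) L674964
theorem L674968 : sm gb N48884 = N47179 := ded_26_1 (flp_i L658664) (flp_b L653443) L674964
theorem L674970 : sm gc N48884 = N47861 := ded_33_1 L665603 (flp_c L653445) L674964
theorem L674972 : sm ge N48884 = N46726 := ded_44_1 (flp_i L653490) (flp_e L653450) L674964
theorem L674974 : sm gf N48884 = N46723 := ded_48_1 (flp_i L653452) L653439 L674964
theorem L674976 : sm gj N48884 = N48125 := ded_53_1 (flp_i L668067) (flp_j L653447) L674964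
theorem L674978 : sm gh N48319 = N48884 := ded_32_0 L674970 L665605 L669576
theorem L674980 : sm gh N46723 = N48885 := rfl
theorem L674982 : sm ga N48885 = N46758 := ded_17_1 (flp_h L653888) (flp_a L653454) L674980
theorem L674984 : sm gc N48885 = N47392 := ded_32_1 L660626 (flp_c L653456) L674980
theorem L674986 : sm ge N48885 = N46724 := ded_43_1 (flp_h L653464) (flp_e L653458) L674980
theorem L674988 : sm gf N48885 = N48319 := ded_47_1 L674978 L674974 L674980
theorem L674990 : sm gg N48885 = N48293 := ded_50_1 (flp_h L669342) (flp_g L653460) L674980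
theorem L674992 : sm gj N48885 = N48129 := ded_52_1 (flp_h L668103) (flp_j L653462) L674980
theorem L674994 : sm gi N48885 = N48885 := ded_54_2 (flp_h L674980) (flp_i L653452) L355432 L653452 L674980
theorem L674995 : sm gj N46725 = N48886 := rfl
theorem L674997 : sm ga N48886 = N46759 := ded_16_1 (flp_j L653895) (flp_a L653481) L674995
theorem L674999 : sm gb N48886 = N47136 := ded_24_1 L658217 (flp_b L653483) L674995
theorem L675001 : sm gc N48886 = N47148 := ded_31_1 (flp_j L673032) L673024 L674995
theorem L675003 : sm gd N48886 = N47161 := ded_37_1 L658491 (flp_d L653485) L674995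
theorem L675005 : sm ge N48886 = N47231 := ded_42_1 (flp_j L674962) L674957 L674995
theorem L675007 : sm gf N48886 = N46874 := ded_46_1 (flp_j L655299) (flp_f L653488) L674995
theorem L675009 : sm gh N48886 = N48886 := ded_52_2 (flp_j L674995) L653487 L674995
theorem L675010 : sm gg N48886 = N47138 := ded_49_1 L673884 (flp_g L673870) L652417 L653479 L674995
theorem L675012 : sm gi N46725 = N48887 := rfl
theorem L675014 : sm ga N48887 = N46760 := ded_18_1 (flp_i L653904) (flp_a L653481) L675012
theorem L675016 : sm gb N48887 = N47178 := ded_26_1 (flp_i L658654) (flp_b L653483) L675012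
theorem L675018 : sm gd N48887 = N47162 := ded_39_1 (flp_i L658493) (flp_d L653485) L675012
theorem L675020 : sm gf N48887 = N46875 := ded_48_1 (flp_i L655309) (flp_f L653488) L675012
theorem L675022 : sm gg N48887 = N46726 := ded_51_1 (flp_i L653490) L653479 L675012
theorem L675024 : sm gh N46726 = N48888 := rfl
theorem L675026 : sm ga N48888 = N46761 := ded_17_1 (flp_h L653914) (flp_a L653492) L675024
theorem L675028 : sm gb N48888 = N47180 := ded_25_1 (flp_h L658670) (flp_b L653494) L675024
theorem L675030 : sm gc N48888 = N48320 := ded_32_1 L673049 L673040 L675024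
theorem L675032 : sm ge N48888 = N48319 := ded_43_1 L674978 L674972 L675024
theorem L675034 : sm gf N48888 = N46727 := ded_47_1 (flp_h L653500) (flp_f L653498) L675024
theorem L675036 : sm gd N48888 = N47223 := ded_38_1 (flp_h L659032) (flp_d L553567) (flp_h L359840) (flp_d L653496) L675024
theorem L675038 : sm gi N48888 = N48888 := ded_54_2 (flp_h L675024) (flp_i L653490) L355447 L653490 L675024
theorem L675039 : sm gh N46731 = N48889 := rfl
theorem L675041 : sm ga N48889 = N47842 := ded_17_1 L674287 L674271 L675039
theorem L675043 : sm gb N48889 = N47314 := ded_25_1 (flp_h L659936) (flp_b L653568) L675039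
theorem L675045 : sm gc N48889 = N47803 := ded_32_1 L665036 (flp_c L653570) L675039
theorem L675047 : sm ge N48889 = N48527 := ded_43_1 L671204 (flp_e L653574) L675039
theorem L675049 : sm gf N48889 = N46733 := ded_47_1 (flp_h L653594) (flp_f L653576) L675039
theorem L675051 : sm gg N48889 = N48276 := ded_50_1 L669203 (flp_g L653578) L675039
theorem L675053 : sm gj N48889 = N46732 := ded_52_1 (flp_h L653580) L653566 L675039
theorem L675055 : sm gd N46732 = N48890 := rfl
theorem L675057 : sm ga N48890 = N47817 := ded_12_1 L665194 (flp_a L653582) L675055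
theorem L675059 : sm gb N48890 = N47315 := ded_20_1 (flp_d L659943) (flp_b L653584) L675055
theorem L675061 : sm gf N48890 = N46734 := ded_35_2 (flp_d L653605) (flp_f L653590) L675055
theorem L675063 : sm gg N48890 = N47808 := ded_36_2 (flp_d L665094) (flp_g L653592) L675055
theorem L675065 : sm gc N48890 = N47794 := ded_27_1 (flp_d L664926) L376391 L376552 (flp_c L653586) L675055
theorem L675067 : sm gh N48890 = N46740 := ded_38_2 (flp_d L653679) (flp_h L355581) (flp_d L355538) L653580 L675055
theorem L675069 : sm gi N46732 = N48891 := rfl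
theorem L675071 : sm ga N48891 = N47846 := ded_18_1 (flp_i L665446) (flp_a L653582) L675069
theorem L675073 : sm gb N48891 = N47316 := ded_26_1 (flp_i L659951) (flp_b L653584) L675069
theorem L675075 : sm gc N48891 = N47805 := ded_33_1 (flp_i L665053) (flp_c L653586) L675069
theorem L675077 : sm ge N48891 = N48528 := ded_44_1 (flp_i L671208) (flp_e L653588) L675069
theorem L675079 : sm gf N48891 = N46735 := ded_48_1 (flp_i L653617) (flp_f L653590) L675069
theorem L675081 : sm gg N48891 = N47809 := ded_51_1 (flp_i L665104) (flp_g L653592) L675069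
theorem L675083 : sm gd N46733 = N48892 := rfl
theorem L675085 : sm ga N48892 = N47820 := ded_12_1 L665220 (flp_a L653596) L675083
theorem L675087 : sm gb N48892 = N47317 := ded_20_1 (flp_d L659958) (flp_b L653598) L675083
theorem L675089 : sm gg N48892 = N47782 := ded_36_2 (flp_d L673933) L673929 L675083
theorem L675091 : sm gj N48892 = N46734 := ded_37_2 (flp_d L653605) (flp_j L653603) L675083
theorem L675093 : sm gc N48892 = N47780 := ded_27_1 (flp_d L664764) L611650 L376568 (flp_c L653600) L675083
theorem L675095 : sm gh N48892 = N46742 := ded_38_2 (flp_d L653699) (flp_h L355593) (flp_d L355546) L653594 L675083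
theorem L675097 : sm ge N48200 = N48892 := ded_13_0 L675085 L665212 (flp_a L668676)
theorem L675099 : sm gi N46733 = N48893 := rfl
theorem L675101 : sm ga N48893 = N47849 := ded_18_1 (flp_i L665474) (flp_a L653596) L675099
theorem L675103 : sm gb N48893 = N47318 := ded_26_1 (flp_i L659964) (flp_b L653598) L675099
theorem L675105 : sm gc N48893 = N47806 := ded_33_1 (flp_i L665066) (flp_c L653600) L675099
theorem L675107 : sm ge N48893 = N48893 := ded_44_1 (flp_i L675099) L653602 L675099
theorem L675108 : sm gg N48893 = N48620 := ded_51_1 (flp_i L673935) L673929 L675099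
theorem L675110 : sm gj N48893 = N46735 := ded_53_1 (flp_i L653617) (flp_j L653603) L675099
theorem L675112 : sm gh N48893 = N48619 := ded_54_1 (flp_i L671951) L652697 L652693 L653594 L675099
theorem L675114 : sm ge N46734 = N48894 := rfl
theorem L675116 : sm ga N48894 = N47823 := ded_13_1 (flp_e L665242) (flp_a L653607) L675114
theorem L675118 : sm gb N48894 = N47320 := ded_21_1 (flp_e L659977) (flp_b L653609) L675114
theorem L675120 : sm gc N48894 = N47796 := ded_28_1 (flp_e L664944) (flp_c L653613) L675114
theorem L675122 : sm gg N48894 = N46736 := ded_41_2 (flp_e L653628) (flp_g L653611) L675114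
theorem L675124 : sm gj N48894 = N48200 := ded_42_2 L675097 L675091 L675114
theorem L675126 : sm gh N48894 = N46745 := ded_43_2 (flp_e L653743) (flp_h L653615) L675114
theorem L675128 : sm gd N48894 = N48894 := ded_34_1 (flp_e L675114) (flp_d L653605) L355553 L653605 L675114
theorem L675129 : sm gi N46734 = N48895 := rfl
theorem L675131 : sm ga N48895 = N47824 := ded_18_1 (flp_i L665253) (flp_a L653607) L675129
theorem L675133 : sm gb N48895 = N47321 := ded_26_1 (flp_i L659984) (flp_b L653609) L675129
theorem L675135 : sm gc N48895 = N47797 := ded_33_1 (flp_i L664958) (flp_c L653613) L675129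
theorem L675137 : sm gd N48895 = N46735 := ded_39_1 (flp_i L653617) L653605 L675129
theorem L675139 : sm gg N48895 = N46737 := ded_51_1 (flp_i L653639) (flp_g L653611) L675129
theorem L675141 : sm gf N46736 = N48896 := rfl
theorem L675143 : sm ga N48896 = N47830 := ded_14_1 (flp_f L665304) (flp_a L653630) L675141
theorem L675145 : sm gb N48896 = N47325 := ded_22_1 (flp_f L660020) (flp_b L653632) L675141
theorem L675147 : sm gc N48896 = N47159 := ded_29_1 L658467 (flp_c L653634) L675141
theorem L675149 : sm gd N48896 = N48896 := ded_35_1 (flp_f L675141) L653638 L675141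
theorem L675150 : sm gj N48896 = N48109 := ded_46_2 (flp_f L673987) L673982 L675141
theorem L675152 : sm gh N48896 = N46750 := ded_47_2 (flp_f L653809) (flp_h L653636) L675141
theorem L675154 : sm ge N48896 = N47811 := ded_40_1 (flp_f L665128) (flp_e L376669) (flp_f L355560) L653628 L675141
theorem L675156 : sm gi N46736 = N48897 := rfl
theorem L675158 : sm ga N48897 = N47831 := ded_18_1 (flp_i L665309) (flp_a L653630) L675156
theorem L675160 : sm gb N48897 = N47326 := ded_26_1 (flp_i L660027) (flp_b L653632) L675156
theorem L675162 : sm gc N48897 = N47798 := ded_33_1 (flp_i L664966) (flp_c L653634) L675156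
theorem L675164 : sm gd N48897 = N48897 := ded_39_1 (flp_i L675156) L653638 L675156
theorem L675165 : sm ge N48897 = N46737 := ded_44_1 (flp_i L653639) L653628 L675156
theorem L675167 : sm gh N46737 = N48898 := rfl
theorem L675169 : sm ga N48898 = N47832 := ded_17_1 (flp_h L665316) (flp_a L653641) L675167
theorem L675171 : sm gb N48898 = N47327 := ded_25_1 (flp_h L660032) (flp_b L653643) L675167
theorem L675173 : sm gc N48898 = N47799 := ded_32_1 (flp_h L664976) (flp_c L653645) L675167
theorem L675175 : sm gf N48898 = N47813 := ded_47_1 (flp_h L665150) (flp_f L653649) L675167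
theorem L675177 : sm gi N48898 = N46752 := ded_54_2 (flp_h L653825) (flp_i L355631) (flp_h L355562) L653639 L675167
theorem L675179 : sm gd N46739 = N48899 := rfl
theorem L675181 : sm ga N48899 = N48258 := ded_12_1 L669091 (flp_a L653667) L675179
theorem L675183 : sm gb N48899 = N47329 := ded_20_1 (flp_d L660048) (flp_b L653669) L675179
theorem L675185 : sm gf N48899 = N46742 := ded_35_2 (flp_d L653699) (flp_f L653675) L675179
theorem L675187 : sm gj N48899 = N46740 := ded_37_2 (flp_d L653679) (flp_j L653677) L675179
theorem L675189 : sm gc N48899 = N47784 := ded_27_1 (flp_d L664812) L375849 (flp_d L644268) (flp_c L653671) L675179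
theorem L675191 : sm gi N46739 = N48900 := rfl
theorem L675193 : sm ga N48900 = N48610 := ded_18_1 (flp_i L671884) (flp_a L653667) L675191
theorem L675195 : sm gb N48900 = N47330 := ded_26_1 (flp_i L660054) (flp_b L653669) L675191
theorem L675197 : sm gc N48900 = N46762 := ded_33_1 (flp_i L653921) (flp_c L653671) L675191
theorem L675199 : sm ge N48900 = N46903 := ded_44_1 (flp_i L655623) (flp_e L653673) L675191
theorem L675201 : sm gf N48900 = N46743 := ded_48_1 (flp_i L653713) (flp_f L653675) L675191
theorem L675203 : sm gj N48900 = N46741 := ded_53_1 (flp_i L653687) (flp_j L653677) L675191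
theorem L675205 : sm gc N46740 = N48901 := rfl
theorem L675207 : sm ga N48901 = N47808 := ded_11_1 (flp_c L674873) L674865 L675205
theorem L675209 : sm gf N48901 = N46744 := ded_29_2 (flp_c L653727) (flp_f L653683) L675205
theorem L675211 : sm gg N48901 = N47817 := ded_30_2 (flp_c L665190) (flp_g L653685) L675205
theorem L675213 : sm gj N48901 = N47784 := ded_31_2 (flp_c L675189) L675187 L675205
theorem L675215 : sm gh N48901 = N47794 := ded_32_2 (flp_c L675065) L675067 L675205
theorem L675217 : sm gd N48901 = N46763 := ded_27_2 (flp_c L653935) (flp_d L355739) (flp_c L355585) L653679 L675205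
theorem L675219 : sm gb N48168 = N48901 := ded_22_3 L675209 (flp_b L653741) (flp_f L668457)
theorem L675221 : sm ge N46740 = N48902 := rfl
theorem L675223 : sm gb N48902 = N47332 := ded_21_1 (flp_e L660072) (flp_b L653681) L675221
theorem L675225 : sm gg N48902 = N47818 := ded_41_2 (flp_e L665196) (flp_g L653685) L675221
theorem L675227 : sm gd N48902 = N46905 := ded_34_1 (flp_e L655641) (flp_d L357248) (flp_e L355587) L653679 L675221
theorem L675229 : sm gi N46740 = N48903 := rfl
theorem L675231 : sm gb N48903 = N47333 := ded_26_1 (flp_i L660078) (flp_b L653681) L675229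
theorem L675233 : sm gd N48903 = N46741 := ded_39_1 (flp_i L653687) L653679 L675229
theorem L675235 : sm gf N48903 = N46746 := ded_48_1 (flp_i L653757) (flp_f L653683) L675229
theorem L675237 : sm gg N48903 = N47819 := ded_51_1 (flp_i L665202) (flp_g L653685) L675229
theorem L675239 : sm gi N46742 = N48904 := rfl
theorem L675241 : sm ga N48904 = N48259 := ded_18_1 (flp_i L669093) (flp_a L653701) L675239
theorem L675243 : sm gb N48904 = N47336 := ded_26_1 (flp_i L660106) (flp_b L653703) L675239
theorem L675245 : sm gc N48904 = N47786 := ded_33_1 (flp_i L664834) (flp_c L653709) L675239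
theorem L675247 : sm gd N48904 = N46743 := ded_39_1 (flp_i L653713) L653699 L675239
theorem L675249 : sm ge N48904 = N48212 := ded_44_1 (flp_i L668769) (flp_e L653711) L675239
theorem L675251 : sm gg N48904 = N47787 := ded_51_1 (flp_i L664846) (flp_g L653705) L675239
theorem L675253 : sm gj N48904 = N46746 := ded_53_1 (flp_i L653757) (flp_j L653707) L675239
theorem L675255 : sm gi N46744 = N48905 := rfl
theorem L675257 : sm ga N48905 = N47810 := ded_18_1 (flp_i L665116) (flp_a L653729) L675255
theorem L675259 : sm gb N48905 = N48173 := ded_26_1 (flp_i L668489) L653741 L675255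
theorem L675261 : sm gc N48905 = N46746 := ded_33_1 (flp_i L653757) L653727 L675255
theorem L675263 : sm gd N48905 = N46765 := ded_39_1 (flp_i L653969) (flp_d L653737) L675255
theorem L675265 : sm ge N48905 = N48211 := ded_44_1 (flp_i L668761) L653739 L675255
theorem L675267 : sm gg N48905 = N46749 := ded_51_1 (flp_i L653799) (flp_g L653731) L675255
theorem L675269 : sm gj N48905 = N47786 := ded_53_1 (flp_i L664834) (flp_j L653733) L675255
theorem L675271 : sm gf N46745 = N48906 := rfl
theorem L675273 : sm ga N48906 = N48243 := ded_14_1 L668993 (flp_a L653745) L675271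
theorem L675275 : sm gb N48906 = N47340 := ded_22_1 (flp_f L660137) (flp_b L653747) L675271
theorem L675277 : sm gc N48906 = N48206 := ded_29_1 L668723 (flp_c L653749) L675271
theorem L675279 : sm gd N48906 = N46753 := ded_35_1 (flp_f L653831) (flp_d L653755) L675271
theorem L675281 : sm gj N48906 = N48208 := ded_46_2 L668743 (flp_j L653753) L675271
theorem L675283 : sm gi N46745 = N48907 := rfl
theorem L675285 : sm ga N48907 = N48253 := ded_18_1 (flp_i L669053) (flp_a L653745) L675283
theorem L675287 : sm gb N48907 = N47341 := ded_26_1 (flp_i L660141) (flp_b L653747) L675283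
theorem L675289 : sm gc N48907 = N48211 := ded_33_1 (flp_i L668761) (flp_c L653749) L675283
theorem L675291 : sm gd N48907 = N46754 := ded_39_1 (flp_i L653844) (flp_d L653755) L675283
theorem L675293 : sm ge N48907 = N46746 := ded_44_1 (flp_i L653757) L653743 L675283
theorem L675295 : sm gg N48907 = N46751 := ded_51_1 (flp_i L653817) (flp_g L653751) L675283
theorem L675297 : sm gj N48907 = N48212 := ded_53_1 (flp_i L668769) (flp_j L653753) L675283
theorem L675299 : sm gh N46746 = N48908 := rfl
theorem L675301 : sm gb N48908 = N47342 := ded_25_1 (flp_h L660149) (flp_b L653759) L675299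
theorem L675303 : sm gg N48908 = N46752 := ded_50_1 (flp_h L653825) (flp_g L653763) L675299
theorem L675305 : sm gi N46747 = N48909 := rfl
theorem L675307 : sm ga N48909 = N48166 := ded_18_1 (flp_i L668441) (flp_a L653777) L675305
theorem L675309 : sm gb N48909 = N46749 := ded_26_1 (flp_i L653799) L653765 L675305
theorem L675311 : sm gc N48909 = N47345 := ded_33_1 (flp_i L660176) (flp_c L653779) L675305
theorem L675313 : sm gd N48909 = N46766 := ded_39_1 (flp_i L653985) (flp_d L653767) L675305
theorem L675315 : sm ge N48909 = N48141 := ded_44_1 (flp_i L668230) L653781 L675305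
theorem L675317 : sm gf N48909 = N47829 := ded_48_1 (flp_i L665296) (flp_f L653769) L675305
theorem L675319 : sm gg N48909 = N48173 := ded_51_1 (flp_i L668489) (flp_g L653771) L675305
theorem L675321 : sm gj N48909 = N48086 := ded_53_1 (flp_i L667758) (flp_j L653773) L675305
theorem L675323 : sm gf N46748 = N48910 := rfl
theorem L675325 : sm ga N48910 = N47811 := ded_14_1 (flp_f L665128) (flp_a L653785) L675323
theorem L675327 : sm gb N48910 = N47166 := ded_22_1 L658543 (flp_b L653787) L675323
theorem L675329 : sm gc N48910 = N46750 := ded_29_1 (flp_f L653809) (flp_c L653789) L675323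
theorem L675331 : sm gd N48910 = N47155 := ded_35_1 L658420 (flp_d L653797) L675323
theorem L675333 : sm gj N48910 = N48094 := ded_46_2 L667824 (flp_j L653793) L675323
theorem L675335 : sm gh N48910 = N47159 := ded_47_2 L658467 (flp_h L653795) L675323
theorem L675337 : sm ge N48910 = N47830 := ded_40_1 (flp_f L665304) (flp_e L376763) (flp_f L355621) L653783 L675323
theorem L675339 : sm gi N46748 = N48911 := rfl
theorem L675341 : sm ga N48911 = N47812 := ded_18_1 (flp_i L665138) (flp_a L653785) L675339
theorem L675343 : sm gb N48911 = N48141 := ded_26_1 (flp_i L668230) (flp_b L653787) L675339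
theorem L675345 : sm gc N48911 = N46751 := ded_33_1 (flp_i L653817) (flp_c L653789) L675339
theorem L675347 : sm gd N48911 = N48096 := ded_39_1 (flp_i L667835) (flp_d L653797) L675339
theorem L675349 : sm ge N48911 = N46749 := ded_44_1 (flp_i L653799) L653783 L675339
theorem L675351 : sm gg N48911 = N48211 := ded_51_1 (flp_i L668761) (flp_g L653791) L675339
theorem L675353 : sm gj N48911 = N48097 := ded_53_1 (flp_i L667851) (flp_j L653793) L675339
theorem L675355 : sm gh N46749 = N48912 := rfl
theorem L675357 : sm ga N48912 = N47813 := ded_17_1 (flp_h L665150) (flp_a L653801) L675355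
theorem L675359 : sm gc N48912 = N46752 := ded_32_1 (flp_h L653825) (flp_c L653803) L675355
theorem L675361 : sm gf N48912 = N47832 := ded_47_1 (flp_h L665316) (flp_f L653807) L675355
theorem L675363 : sm gd N48912 = N48240 := ded_38_1 (flp_h L668973) L383917 L648222 (flp_d L653805) L675355
theorem L675365 : sm gi N48912 = N47799 := ded_54_2 (flp_h L664976) (flp_i L376435) (flp_h L640476) L653799 L675355
theorem L675367 : sm gg N46750 = N48913 := rfl
theorem L675369 : sm gb N48913 = N47349 := ded_23_1 (flp_g L660204) (flp_b L653811) L675367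
theorem L675371 : sm gd N48913 = N46756 := ded_36_1 (flp_g L653873) (flp_d L653813) L675367
theorem L675373 : sm ge N48913 = N47833 := ded_41_1 (flp_g L665320) (flp_e L653815) L675367
theorem L675375 : sm gi N46750 = N48914 := rfl
theorem L675377 : sm gb N48914 = N47350 := ded_26_1 (flp_i L660210) (flp_b L653811) L675375
theorem L675379 : sm gd N48914 = N46757 := ded_39_1 (flp_i L653880) (flp_d L653813) L675375
theorem L675381 : sm ge N48914 = N47834 := ded_44_1 (flp_i L665326) (flp_e L653815) L675375
theorem L675383 : sm gf N48914 = N46751 := ded_48_1 (flp_i L653817) L653809 L675375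
theorem L675385 : sm gh N46751 = N48915 := rfl
theorem L675387 : sm gb N48915 = N47351 := ded_25_1 (flp_h L660218) (flp_b L653819) L675385
theorem L675389 : sm ge N48915 = N46752 := ded_43_1 (flp_h L653825) (flp_e L653823) L675385
theorem L675391 : sm gg N46753 = N48916 := rfl
theorem L675393 : sm ga N48916 = N48279 := ded_15_1 L669229 (flp_a L653833) L675391
theorem L675395 : sm gb N48916 = N47355 := ded_23_1 (flp_g L660255) (flp_b L653835) L675391
theorem L675397 : sm gc N48916 = N48217 := ded_30_1 L668808 (flp_c L653837) L675391
theorem L675399 : sm ge N48916 = N46928 := ded_41_1 (flp_g L655880) (flp_e L653842) L675391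
theorem L675401 : sm gh N48916 = N48916 := ded_50_2 (flp_g L675391) L653841 L675391
theorem L675402 : sm gf N48916 = N46756 := ded_45_1 (flp_g L653873) (flp_f L355675) (flp_g L355662) L653831 L675391
theorem L675404 : sm gi N46753 = N48917 := rfl
theorem L675406 : sm ga N48917 = N48282 := ded_18_1 (flp_i L669249) (flp_a L653833) L675404
theorem L675408 : sm gb N48917 = N47356 := ded_26_1 (flp_i L660263) (flp_b L653835) L675404
theorem L675410 : sm gc N48917 = N48219 := ded_33_1 (flp_i L668820) (flp_c L653837) L675404
theorem L675412 : sm ge N48917 = N46929 := ded_44_1 (flp_i L655887) (flp_e L653842) L675404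
theorem L675414 : sm gf N48917 = N46754 := ded_48_1 (flp_i L653844) L653831 L675404
theorem L675416 : sm gj N48917 = N48220 := ded_53_1 (flp_i L668831) (flp_j L653839) L675404
theorem L675418 : sm gh N46754 = N48918 := rfl
theorem L675420 : sm ga N48918 = N48293 := ded_17_1 (flp_h L669342) (flp_a L653846) L675418
theorem L675422 : sm gb N48918 = N47357 := ded_25_1 (flp_h L660270) (flp_b L653848) L675418
theorem L675424 : sm gc N48918 = N48223 := ded_32_1 (flp_h L668858) (flp_c L653850) L675418
theorem L675426 : sm ge N48918 = N46755 := ded_43_1 (flp_h L653858) (flp_e L653852) L675418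
theorem L675428 : sm gg N48918 = N46758 := ded_50_1 (flp_h L653888) (flp_g L653854) L675418
theorem L675430 : sm gj N48918 = N48224 := ded_52_1 (flp_h L668868) (flp_j L653856) L675418
theorem L675432 : sm gi N48918 = N48918 := ded_54_2 (flp_h L675418) (flp_i L653844) L355664 L653844 L675418
theorem L675433 : sm gj N46756 = N48919 := rfl
theorem L675435 : sm ga N48919 = N47231 := ded_16_1 (flp_j L674962) L674951 L675433
theorem L675437 : sm gb N48919 = N47358 := ded_24_1 (flp_j L660278) (flp_b L653875) L675433
theorem L675439 : sm gc N48919 = N47248 := ded_31_1 (flp_j L673084) L673075 L675433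
theorem L675441 : sm ge N48919 = N46759 := ded_42_1 (flp_j L653895) (flp_e L653877) L675433
theorem L675443 : sm gh N48919 = N48919 := ded_52_2 (flp_j L675433) L653879 L675433
theorem L675444 : sm gg N48919 = N47234 := ded_49_1 L674090 (flp_g L674077) L652586 L653873 L675433
theorem L675446 : sm gi N46756 = N48920 := rfl
theorem L675448 : sm gb N48920 = N47359 := ded_26_1 (flp_i L660284) (flp_b L653875) L675446
theorem L675450 : sm ge N48920 = N46760 := ded_44_1 (flp_i L653904) (flp_e L653877) L675446
theorem L675452 : sm gg N48920 = N46757 := ded_51_1 (flp_i L653880) L653873 L675446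
theorem L675454 : sm gh N46757 = N48921 := rfl
theorem L675456 : sm ga N48921 = N48319 := ded_17_1 L674978 L674966 L675454
theorem L675458 : sm gb N48921 = N47360 := ded_25_1 (flp_h L660291) (flp_b L653882) L675454
theorem L675460 : sm gc N48921 = N48318 := ded_32_1 L673101 L673091 L675454
theorem L675462 : sm ge N48921 = N46761 := ded_43_1 (flp_h L653914) (flp_e L653884) L675454
theorem L675464 : sm gf N48921 = N46758 := ded_47_1 (flp_h L653888) (flp_f L653886) L675454
theorem L675466 : sm gi N48921 = N48921 := ded_54_2 (flp_h L675454) (flp_i L653880) L355679 L653880 L675454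
theorem L675467 : sm gd N46758 = N48922 := rfl
theorem L675469 : sm gb N48922 = N47361 := ded_20_1 (flp_d L660299) (flp_b L653890) L675467
theorem L675471 : sm gi N48922 = N48922 := ded_39_2 (flp_d L675467) L653894 L675467
theorem L675472 : sm gi N46759 = N48923 := rfl
theorem L675474 : sm gb N48923 = N47362 := ded_26_1 (flp_i L660302) (flp_b L653897) L675472
theorem L675476 : sm gd N48923 = N47840 := ded_39_1 (flp_i L665380) (flp_d L653899) L675472
theorem L675478 : sm gf N48923 = N46935 := ded_48_1 (flp_i L655934) (flp_f L653901) L675472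
theorem L675480 : sm gg N48923 = N48618 := ded_51_1 L674137 L674135 L675472
theorem L675482 : sm gj N48923 = N46760 := ded_53_1 (flp_i L653904) L653895 L675472
theorem L675484 : sm gh N48631 = N48923 := ded_25_0 L675474 (flp_h L660313) (flp_b L672037)
theorem L675486 : sm gh N46760 = N48924 := rfl
theorem L675488 : sm gb N48924 = N47363 := ded_25_1 (flp_h L660315) (flp_b L653906) L675486
theorem L675490 : sm gf N48924 = N46936 := ded_47_1 (flp_h L655943) (flp_f L653910) L675486
theorem L675492 : sm gg N48924 = N46761 := ded_50_1 (flp_h L653914) (flp_g L653912) L675486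
theorem L675494 : sm gj N48924 = N48631 := ded_52_1 L675484 L675482 L675486
theorem L675496 : sm gd N48924 = N48629 := ded_38_1 (flp_h L672017) (flp_d L653255) L653263 (flp_d L653908) L675486
theorem L675498 : sm gi N48924 = N48924 := ded_54_2 (flp_h L675486) (flp_i L653904) L355701 L653904 L675486
theorem L675499 : sm gi N46763 = N48925 := rfl
theorem L675501 : sm ga N48925 = N47809 := ded_18_1 (flp_i L665104) (flp_a L653937) L675499
theorem L675503 : sm gb N48925 = N48169 := ded_26_1 (flp_i L668461) (flp_b L653949) L675499
theorem L675505 : sm gc N48925 = N46764 := ded_33_1 (flp_i L653951) L653935 L675499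
theorem L675507 : sm ge N48925 = N47878 := ded_44_1 (flp_i L665791) (flp_e L653939) L675499
theorem L675509 : sm gf N48925 = N46765 := ded_48_1 (flp_i L653969) (flp_f L653941) L675499
theorem L675511 : sm gg N48925 = N47846 := ded_51_1 (flp_i L665446) (flp_g L653943) L675499
theorem L675513 : sm gj N48925 = N47785 := ded_53_1 (flp_i L664820) (flp_j L653945) L675499
theorem L675515 : sm gh N48925 = N47816 := ded_54_1 (flp_i L665178) (flp_h L376691) (flp_i L375843) (flp_h L653947) L675499
theorem L675517 : sm gj N46768 = N48926 := rfl
theorem L675519 : sm ga N48926 = N46886 := ded_16_1 L655464 (flp_a L654024) L675517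
theorem L675521 : sm gb N48926 = N47437 := ded_24_1 (flp_j L661135) (flp_b L654026) L675517
theorem L675523 : sm gc N48926 = N48926 := ded_31_1 (flp_j L675517) L654028 L675517
theorem L675524 : sm gd N48926 = N46855 := ded_37_1 L655085 (flp_d L654033) L675517
theorem L675526 : sm ge N48926 = N46769 := ded_42_1 (flp_j L654036) L654022 L675517
theorem L675528 : sm gf N48926 = N48926 := ded_46_1 (flp_j L675517) L654035 L675517
theorem L675529 : sm gi N48926 = N46884 := ded_53_2 (flp_j L655432) (flp_i L654031) L675517
theorem L675531 : sm gg N48926 = N46847 := ded_49_1 (flp_j L654992) L356870 (flp_j L615167) (flp_g L654029) L675517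
theorem L675533 : sm gh N46768 = N48927 := rfl
theorem L675535 : sm ga N48927 = N47974 := ded_17_1 (flp_h L666766) (flp_a L654024) L675533
theorem L675537 : sm gb N48927 = N47438 := ded_25_1 (flp_h L661146) (flp_b L654026) L675533
theorem L675539 : sm gc N48927 = N48927 := ded_32_1 (flp_h L675533) L654028 L675533
theorem L675540 : sm ge N48927 = N46770 := ded_43_1 (flp_h L654049) L654022 L675533
theorem L675542 : sm gf N48927 = N48927 := ded_47_1 (flp_h L675533) L654035 L675533
theorem L675543 : sm gg N48927 = N47869 := ded_50_1 (flp_h L665682) (flp_g L654029) L675533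
theorem L675545 : sm gg N46769 = N48928 := rfl
theorem L675547 : sm ga N48928 = N46884 := ded_15_1 L655442 (flp_a L654038) L675545
theorem L675549 : sm gb N48928 = N47439 := ded_23_1 (flp_g L661157) (flp_b L654040) L675545
theorem L675551 : sm gc N48928 = N48928 := ded_30_1 (flp_g L675545) L654042 L675545
theorem L675552 : sm gd N48928 = N46777 := ded_36_1 (flp_g L654132) (flp_d L654043) L675545
theorem L675554 : sm ge N48928 = N46847 := ded_41_1 (flp_g L675531) L675526 L675545
theorem L675556 : sm gi N48928 = N46886 := ded_51_2 (flp_g L655454) (flp_i L654047) L675545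
theorem L675558 : sm gf N48928 = N48928 := ded_45_1 (flp_g L675545) L654045 L356258 (flp_f L654045) L675545
theorem L675559 : sm gj N48928 = N46846 := ded_49_2 L654985 (flp_j L378359) (flp_g L356246) L654036 L675545
theorem L675561 : sm gh N46769 = N48929 := rfl
theorem L675563 : sm ga N48929 = N48736 := ded_17_1 L672904 (flp_a L654038) L675561
theorem L675565 : sm gb N48929 = N47440 := ded_25_1 (flp_h L661170) (flp_b L654040) L675561
theorem L675567 : sm gc N48929 = N48929 := ded_32_1 (flp_h L675561) L654042 L675561
theorem L675568 : sm gf N48929 = N46771 := ded_47_1 (flp_h L654060) (flp_f L654045) L675561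
theorem L675570 : sm gj N48929 = N46770 := ded_52_1 (flp_h L654049) L654036 L675561
theorem L675572 : sm gd N46770 = N48930 := rfl
theorem L675574 : sm ga N48930 = N48462 := ded_12_1 L670756 (flp_a L654051) L675572
theorem L675576 : sm gb N48930 = N47441 := ded_20_1 (flp_d L661180) (flp_b L654053) L675572
theorem L675578 : sm gf N48930 = N46772 := ded_35_2 (flp_d L654071) (flp_f L654056) L675572
theorem L675580 : sm gg N48930 = N47871 := ded_36_2 (flp_d L665708) (flp_g L654058) L675572
theorem L675582 : sm gh N48930 = N46779 := ded_38_2 (flp_d L654157) (flp_h L356297) (flp_d L356242) L654049 L675572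
theorem L675584 : sm gi N46770 = N48931 := rfl
theorem L675586 : sm ga N48931 = N48737 := ded_18_1 (flp_i L672906) (flp_a L654051) L675584
theorem L675588 : sm gb N48931 = N47442 := ded_26_1 (flp_i L661192) (flp_b L654053) L675584
theorem L675590 : sm gc N48931 = N48931 := ded_33_1 (flp_i L675584) L654055 L675584
theorem L675591 : sm gf N48931 = N46773 := ded_48_1 (flp_i L654081) (flp_f L654056) L675584
theorem L675593 : sm gg N48931 = N47872 := ded_51_1 (flp_i L665718) (flp_g L654058) L675584
theorem L675595 : sm gh N48931 = N46889 := ded_54_1 (flp_i L655485) (flp_h L357170) (flp_i L356244) L654049 L675584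
theorem L675597 : sm gd N46771 = N48932 := rfl
theorem L675599 : sm ga N48932 = N48471 := ded_12_1 L670824 (flp_a L654062) L675597
theorem L675601 : sm gb N48932 = N47443 := ded_20_1 (flp_d L661204) (flp_b L654064) L675597
theorem L675603 : sm gg N48932 = N48932 := ded_36_2 (flp_d L675597) L654068 L675597
theorem L675604 : sm gj N48932 = N46772 := ded_37_2 (flp_d L654071) (flp_j L654069) L675597
theorem L675606 : sm gh N48932 = N46781 := ded_38_2 (flp_d L654181) (flp_h L356307) (flp_d L356253) L654060 L675597
theorem L675608 : sm gi N46771 = N48933 := rfl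
theorem L675610 : sm ga N48933 = N48738 := ded_18_1 (flp_i L672913) (flp_a L654062) L675608
theorem L675612 : sm gb N48933 = N47444 := ded_26_1 (flp_i L661215) (flp_b L654064) L675608
theorem L675614 : sm gc N48933 = N48933 := ded_33_1 (flp_i L675608) L654066 L675608
theorem L675615 : sm ge N48933 = N48933 := ded_44_1 (flp_i L675608) L654067 L675608
theorem L675616 : sm gg N48933 = N48933 := ded_51_1 (flp_i L675608) L654068 L675608
theorem L675617 : sm gj N48933 = N46773 := ded_53_1 (flp_i L654081) (flp_j L654069) L675608
theorem L675619 : sm gh N48933 = N46891 := ded_54_1 (flp_i L655503) (flp_h L357179) (flp_i L356256) L654060 L675608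
theorem L675621 : sm gc N46772 = N48934 := rfl
theorem L675623 : sm ga N48934 = N48468 := ded_11_1 L670800 (flp_a L654073) L675621
theorem L675625 : sm gg N48934 = N46774 := ded_30_2 (flp_c L654093) (flp_g L654077) L675621
theorem L675627 : sm gh N48934 = N46783 := ded_32_2 (flp_c L654205) (flp_h L654079) L675621
theorem L675629 : sm gb N48934 = N47941 := ded_19_1 L666437 L554282 (flp_c L546912) (flp_b L654075) L675621
theorem L675631 : sm gd N48934 = N48934 := ded_27_2 (flp_c L675621) (flp_d L654071) L356263 L654071 L675621
theorem L675632 : sm ge N47940 = N48934 := ded_41_3 L675625 (flp_e L654105) (flp_g L666431)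
theorem L675634 : sm ge N46772 = N48935 := rfl
theorem L675636 : sm ga N48935 = N47590 := ded_13_1 L662742 (flp_a L654073) L675634
theorem L675638 : sm gb N48935 = N47445 := ded_21_1 (flp_e L661227) (flp_b L654075) L675634
theorem L675640 : sm gc N48935 = N47940 := ded_28_1 L675632 (flp_c L675621) L675634
theorem L675642 : sm gg N48935 = N46775 := ded_41_2 (flp_e L654107) (flp_g L654077) L675634
theorem L675644 : sm gh N48935 = N46784 := ded_43_2 (flp_e L654213) (flp_h L654079) L675634
theorem L675646 : sm gd N48935 = N48935 := ded_34_1 (flp_e L675634) (flp_d L654071) L356264 L654071 L675634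
theorem L675647 : sm gi N46772 = N48936 := rfl
theorem L675649 : sm ga N48936 = N48472 := ded_18_1 (flp_i L670829) (flp_a L654073) L675647
theorem L675651 : sm gb N48936 = N47446 := ded_26_1 (flp_i L661238) (flp_b L654075) L675647
theorem L675653 : sm gd N48936 = N46773 := ded_39_1 (flp_i L654081) L654071 L675647
theorem L675655 : sm gg N48936 = N46776 := ded_51_1 (flp_i L654121) (flp_g L654077) L675647
theorem L675657 : sm gi N46774 = N48937 := rfl
theorem L675659 : sm ga N48937 = N48469 := ded_18_1 (flp_i L670805) (flp_a L654095) L675657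
theorem L675661 : sm gb N48937 = N47947 := ded_26_1 (flp_i L666489) (flp_b L654102) L675657
theorem L675663 : sm gc N48937 = N46776 := ded_33_1 (flp_i L654121) L654093 L675657
theorem L675665 : sm gd N48937 = N48937 := ded_39_1 (flp_i L675657) L654104 L675657
theorem L675666 : sm ge N48937 = N47946 := ded_44_1 (flp_i L666480) L654105 L675657
theorem L675668 : sm gf N48937 = N47666 := ded_48_1 L663371 (flp_f L654097) L675657
theorem L675670 : sm gj N48937 = N48937 := ded_53_1 (flp_i L675657) L654099 L675657
theorem L675671 : sm gi N46775 = N48938 := rfl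
theorem L675673 : sm ga N48938 = N47591 := ded_18_1 (flp_i L662746) (flp_a L654109) L675671
theorem L675675 : sm gb N48938 = N47447 := ded_26_1 (flp_i L661248) (flp_b L654111) L675671
theorem L675677 : sm gc N48938 = N47946 := ded_33_1 (flp_i L666480) (flp_c L654113) L675671
theorem L675679 : sm gd N48938 = N48938 := ded_39_1 (flp_i L675671) L654118 L675671
theorem L675680 : sm ge N48938 = N46776 := ded_44_1 (flp_i L654121) L654107 L675671
theorem L675682 : sm gf N48938 = N47527 := ded_48_1 (flp_i L662120) (flp_f L654119) L675671
theorem L675684 : sm gj N48938 = N48938 := ded_53_1 (flp_i L675671) L654115 L675671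
theorem L675685 : sm gh N46776 = N48939 := rfl
theorem L675687 : sm ga N48939 = N48473 := ded_17_1 (flp_h L670835) (flp_a L654123) L675685
theorem L675689 : sm gb N48939 = N47448 := ded_25_1 (flp_h L661258) (flp_b L654125) L675685
theorem L675691 : sm gf N48939 = N47876 := ded_47_1 (flp_h L665768) (flp_f L654129) L675685
theorem L675693 : sm gj N48939 = N48939 := ded_52_1 (flp_h L675685) L654131 L675685
theorem L675694 : sm gd N48939 = N46900 := ded_38_1 (flp_h L655595) L357224 (flp_h L356285) (flp_d L654127) L675685
theorem L675696 : sm gi N48939 = N46790 := ded_54_2 (flp_h L654286) (flp_i L356350) (flp_h L356274) L654121 L675685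
theorem L675698 : sm gh N46777 = N48940 := rfl
theorem L675700 : sm ga N48940 = N48527 := ded_17_1 L671204 (flp_a L654134) L675698
theorem L675702 : sm gb N48940 = N47449 := ded_25_1 (flp_h L661271) (flp_b L654136) L675698
theorem L675704 : sm gc N48940 = N46797 := ded_32_1 (flp_h L654366) (flp_c L654138) L675698
theorem L675706 : sm ge N48940 = N47842 := ded_43_1 L674287 L674279 L675698
theorem L675708 : sm gf N48940 = N48940 := ded_47_1 (flp_h L675698) L654142 L675698
theorem L675709 : sm gg N48940 = N46778 := ded_50_1 (flp_h L654145) L654132 L675698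
theorem L675711 : sm gj N48940 = N47845 := ded_52_1 L665443 (flp_j L654143) L675698
theorem L675713 : sm gd N46778 = N48941 := rfl
theorem L675715 : sm ga N48941 = N48511 := ded_12_1 L671097 (flp_a L654147) L675713
theorem L675717 : sm gb N48941 = N47450 := ded_20_1 (flp_d L661280) (flp_b L654149) L675713
theorem L675719 : sm gf N48941 = N46781 := ded_35_2 (flp_d L654181) (flp_f L654153) L675713
theorem L675721 : sm gj N48941 = N46779 := ded_37_2 (flp_d L654157) (flp_j L654155) L675713
theorem L675723 : sm gi N46778 = N48942 := rfl
theorem L675725 : sm ga N48942 = N48529 := ded_18_1 (flp_i L671215) (flp_a L654147) L675723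
theorem L675727 : sm gb N48942 = N47451 := ded_26_1 (flp_i L661286) (flp_b L654149) L675723
theorem L675729 : sm gc N48942 = N46799 := ded_33_1 (flp_i L654396) (flp_c L654151) L675723
theorem L675731 : sm gf N48942 = N46782 := ded_48_1 (flp_i L654190) (flp_f L654153) L675723
theorem L675733 : sm gj N48942 = N46780 := ded_53_1 (flp_i L654167) (flp_j L654155) L675723
theorem L675735 : sm gh N48942 = N46903 := ded_54_1 (flp_i L655623) (flp_h L357238) (flp_i L356295) L654145 L675723
theorem L675737 : sm gc N46779 = N48943 := rfl
theorem L675739 : sm ga N48943 = N48507 := ded_11_1 L671067 (flp_a L654159) L675737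
theorem L675741 : sm gf N48943 = N46783 := ded_29_2 (flp_c L654205) (flp_f L654163) L675737
theorem L675743 : sm gg N48943 = N47879 := ded_30_2 (flp_c L665805) (flp_g L654165) L675737
theorem L675745 : sm gd N48943 = N46800 := ded_27_2 (flp_c L654408) (flp_d L356469) (flp_c L356301) L654157 L675737
theorem L675747 : sm ge N46779 = N48944 := rfl
theorem L675749 : sm ga N48944 = N48490 := ded_13_1 L670944 (flp_a L654159) L675747
theorem L675751 : sm gb N48944 = N47453 := ded_21_1 (flp_e L661308) (flp_b L654161) L675747
theorem L675753 : sm gg N48944 = N47880 := ded_41_2 (flp_e L665813) (flp_g L654165) L675747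
theorem L675755 : sm gi N46779 = N48945 := rfl
theorem L675757 : sm ga N48945 = N48512 := ded_18_1 (flp_i L671101) (flp_a L654159) L675755
theorem L675759 : sm gb N48945 = N47454 := ded_26_1 (flp_i L661312) (flp_b L654161) L675755
theorem L675761 : sm gd N48945 = N46780 := ded_39_1 (flp_i L654167) L654157 L675755
theorem L675763 : sm gf N48945 = N46785 := ded_48_1 (flp_i L654223) (flp_f L654163) L675755
theorem L675765 : sm gg N48945 = N47881 := ded_51_1 (flp_i L665821) (flp_g L654165) L675755
theorem L675767 : sm gc N46781 = N48946 := rfl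
theorem L675769 : sm ga N48946 = N48520 := ded_11_1 L671158 (flp_a L654183) L675767
theorem L675771 : sm gg N48946 = N48946 := ded_30_2 (flp_c L675767) L654187 L675767
theorem L675772 : sm gj N48946 = N46783 := ded_31_2 (flp_c L654205) (flp_j L654188) L675767
theorem L675774 : sm gb N48946 = N48731 := ded_19_1 (flp_c L672870) L661331 (flp_c L661320) (flp_b L654185) L675767
theorem L675776 : sm gd N48946 = N46803 := ded_27_2 (flp_c L654443) (flp_d L356488) (flp_c L356311) L654181 L675767
theorem L675778 : sm ge N46781 = N48947 := rfl
theorem L675780 : sm ga N48947 = N47627 := ded_13_1 L663019 (flp_a L654183) L675778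
theorem L675782 : sm gb N48947 = N47456 := ded_21_1 (flp_e L661335) (flp_b L654185) L675778
theorem L675784 : sm gg N48947 = N48947 := ded_41_2 (flp_e L675778) L654187 L675778
theorem L675785 : sm gj N48947 = N46784 := ded_42_2 (flp_e L654213) (flp_j L654188) L675778
theorem L675787 : sm gd N48947 = N46791 := ded_34_1 (flp_e L654297) (flp_d L356359) (flp_e L356313) L654181 L675778
theorem L675789 : sm gi N46781 = N48948 := rfl
theorem L675791 : sm ga N48948 = N48525 := ded_18_1 (flp_i L671188) (flp_a L654183) L675789
theorem L675793 : sm gb N48948 = N47457 := ded_26_1 (flp_i L661344) (flp_b L654185) L675789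
theorem L675795 : sm gd N48948 = N46782 := ded_39_1 (flp_i L654190) L654181 L675789
theorem L675797 : sm gg N48948 = N48948 := ded_51_1 (flp_i L675789) L654187 L675789
theorem L675798 : sm gj N48948 = N46785 := ded_53_1 (flp_i L654223) (flp_j L654188) L675789
theorem L675800 : sm gb N46783 = N48949 := rfl
theorem L675802 : sm gd N48949 = N46805 := ded_20_2 (flp_b L654466) (flp_d L654211) L675800
theorem L675804 : sm gg N48949 = N46786 := ded_23_2 (flp_b L654233) (flp_g L654209) L675800
theorem L675806 : sm gj N48949 = N48731 := ded_24_2 (flp_b L675774) L675772 L675800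
theorem L675808 : sm gh N48949 = N47941 := ded_25_2 (flp_b L675629) L675627 L675800
theorem L675810 : sm gc N48949 = N47458 := ded_19_2 (flp_b L661351) (flp_c L362739) (flp_b L356320) L654205 L675800
theorem L675812 : sm ga N47983 = N48949 := ded_12_3 L675802 (flp_a L654476) L666858
theorem L675814 : sm ge N47927 = N48949 := ded_41_3 L675804 (flp_e L654246) (flp_g L666317)
theorem L675816 : sm ge N46783 = N48950 := rfl
theorem L675818 : sm ga N48950 = N47623 := ded_13_1 L662983 (flp_a L654207) L675816
theorem L675820 : sm gb N48950 = N47927 := ded_21_1 L675814 (flp_b L675800) L675816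
theorem L675822 : sm gc N48950 = N46784 := ded_28_1 (flp_e L654213) L654205 L675816
theorem L675824 : sm gg N48950 = N46787 := ded_41_2 (flp_e L654248) (flp_g L654209) L675816
theorem L675826 : sm gh N48950 = N47940 := ded_43_2 L675632 L675627 L675816
theorem L675828 : sm gd N48950 = N48950 := ded_34_1 (flp_e L675816) L654211 L356510 (flp_d L654211) L675816
theorem L675829 : sm gi N46783 = N48951 := rfl
theorem L675831 : sm ga N48951 = N48521 := ded_18_1 (flp_i L671163) (flp_a L654207) L675829
theorem L675833 : sm gc N48951 = N46785 := ded_33_1 (flp_i L654223) L654205 L675829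
theorem L675835 : sm gd N48951 = N46806 := ded_39_1 (flp_i L654478) (flp_d L654211) L675829
theorem L675837 : sm gg N48951 = N46788 := ded_51_1 (flp_i L654262) (flp_g L654209) L675829
theorem L675839 : sm gf N46784 = N48952 := rfl
theorem L675841 : sm ga N48952 = N47616 := ded_14_1 L662926 (flp_a L654215) L675839
theorem L675843 : sm gb N48952 = N47461 := ded_22_1 (flp_f L661391) (flp_b L654217) L675839
theorem L675845 : sm gd N48952 = N46793 := ded_35_1 (flp_f L654320) (flp_d L654221) L675839
theorem L675847 : sm gg N48952 = N47541 := ded_45_2 (flp_f L662262) L363559 (flp_f L550668) (flp_g L654219) L675839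
theorem L675849 : sm gi N46784 = N48953 := rfl
theorem L675851 : sm ga N48953 = N47628 := ded_18_1 (flp_i L663022) (flp_a L654215) L675849
theorem L675853 : sm gb N48953 = N47462 := ded_26_1 (flp_i L661395) (flp_b L654217) L675849
theorem L675855 : sm gd N48953 = N46794 := ded_39_1 (flp_i L654330) (flp_d L654221) L675849
theorem L675857 : sm ge N48953 = N46785 := ded_44_1 (flp_i L654223) L654213 L675849
theorem L675859 : sm gg N48953 = N46789 := ded_51_1 (flp_i L654273) (flp_g L654219) L675849
theorem L675861 : sm gh N46785 = N48954 := rfl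
theorem L675863 : sm ga N48954 = N48526 := ded_17_1 (flp_h L671195) (flp_a L654225) L675861
theorem L675865 : sm gb N48954 = N47463 := ded_25_1 (flp_h L661403) (flp_b L654227) L675861
theorem L675867 : sm gg N48954 = N46790 := ded_50_1 (flp_h L654286) (flp_g L654231) L675861
theorem L675869 : sm gd N48954 = N46915 := ded_38_1 (flp_h L655734) L357302 (flp_h L356334) (flp_d L654229) L675861
theorem L675871 : sm gi N46786 = N48955 := rfl
theorem L675873 : sm ga N48955 = N47990 := ded_18_1 (flp_i L666920) L654244 L675871
theorem L675875 : sm gb N48955 = N46788 := ded_26_1 (flp_i L654262) L654233 L675871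
theorem L675877 : sm gc N48955 = N47464 := ded_33_1 (flp_i L661409) (flp_c L654242) L675871
theorem L675879 : sm gd N48955 = N46809 := ded_39_1 (flp_i L654514) (flp_d L654235) L675871
theorem L675881 : sm ge N48955 = N47929 := ded_44_1 (flp_i L666330) L654246 L675871
theorem L675883 : sm gf N48955 = N47888 := ded_48_1 (flp_i L665904) (flp_f L654237) L675871
theorem L675885 : sm gj N48955 = N48955 := ded_53_1 (flp_i L675871) L654239 L675871
theorem L675886 : sm gi N46787 = N48956 := rfl
theorem L675888 : sm ga N48956 = N47624 := ded_18_1 (flp_i L662985) (flp_a L654250) L675886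
theorem L675890 : sm gb N48956 = N47929 := ded_26_1 (flp_i L666330) (flp_b L654252) L675886
theorem L675892 : sm gc N48956 = N46789 := ded_33_1 (flp_i L654273) (flp_c L654254) L675886
theorem L675894 : sm gd N48956 = N48956 := ded_39_1 (flp_i L675886) L654259 L675886
theorem L675895 : sm ge N48956 = N46788 := ded_44_1 (flp_i L654262) L654248 L675886
theorem L675897 : sm gf N48956 = N47545 := ded_48_1 (flp_i L662293) (flp_f L654260) L675886
theorem L675899 : sm gj N48956 = N48956 := ded_53_1 (flp_i L675886) L654256 L675886
theorem L675900 : sm gh N46788 = N48957 := rfl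
theorem L675902 : sm ga N48957 = N48522 := ded_17_1 (flp_h L671171) (flp_a L654264) L675900
theorem L675904 : sm gc N48957 = N46790 := ded_32_1 (flp_h L654286) (flp_c L654266) L675900
theorem L675906 : sm gf N48957 = N47889 := ded_47_1 (flp_h L665915) (flp_f L654270) L675900
theorem L675908 : sm gj N48957 = N48957 := ded_52_1 (flp_h L675900) L654272 L675900
theorem L675909 : sm gh N46789 = N48958 := rfl
theorem L675911 : sm ga N48958 = N47629 := ded_17_1 (flp_h L663030) (flp_a L654275) L675909
theorem L675913 : sm gb N48958 = N47469 := ded_25_1 (flp_h L661467) (flp_b L654277) L675909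
theorem L675915 : sm ge N48958 = N46790 := ded_43_1 (flp_h L654286) (flp_e L654281) L675909
theorem L675917 : sm gf N48958 = N47547 := ded_47_1 (flp_h L662316) (flp_f L654283) L675909
theorem L675919 : sm gj N48958 = N48958 := ded_52_1 (flp_h L675909) L654285 L675909
theorem L675920 : sm gf N46791 = N48959 := rfl
theorem L675922 : sm ga N48959 = N47634 := ded_14_1 L663066 (flp_a L654299) L675920
theorem L675924 : sm gb N48959 = N47470 := ded_22_1 (flp_f L661472) (flp_b L654301) L675920
theorem L675926 : sm gc N48959 = N48959 := ded_29_1 (flp_f L675920) L654303 L675920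
theorem L675927 : sm gj N48959 = N46793 := ded_46_2 (flp_f L654320) (flp_j L654305) L675920
theorem L675929 : sm gh N48959 = N48959 := ded_47_2 (flp_f L675920) L654307 L675920
theorem L675930 : sm gi N46791 = N48960 := rfl
theorem L675932 : sm ga N48960 = N47638 := ded_18_1 (flp_i L663087) (flp_a L654299) L675930
theorem L675934 : sm gb N48960 = N47471 := ded_26_1 (flp_i L661479) (flp_b L654301) L675930
theorem L675936 : sm gc N48960 = N48960 := ded_33_1 (flp_i L675930) L654303 L675930
theorem L675937 : sm ge N48960 = N46792 := ded_44_1 (flp_i L654308) L654297 L675930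
theorem L675939 : sm gg N48960 = N48960 := ded_51_1 (flp_i L675930) L654304 L675930
theorem L675940 : sm gj N48960 = N46794 := ded_53_1 (flp_i L654330) (flp_j L654305) L675930
theorem L675942 : sm gh N46792 = N48961 := rfl
theorem L675944 : sm ga N48961 = N47642 := ded_17_1 (flp_h L663114) (flp_a L654310) L675942
theorem L675946 : sm gb N48961 = N47472 := ded_25_1 (flp_h L661488) (flp_b L654312) L675942
theorem L675948 : sm gc N48961 = N48961 := ded_32_1 (flp_h L675942) L654314 L675942
theorem L675949 : sm gf N48961 = N48603 := ded_47_1 L674471 L674465 L675942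
theorem L675951 : sm gg N48961 = N48961 := ded_50_1 (flp_h L675942) L654317 L675942
theorem L675952 : sm gj N48961 = N46795 := ded_52_1 (flp_h L654341) (flp_j L654318) L675942
theorem L675954 : sm gd N48961 = N46927 := ded_38_1 (flp_h L655866) L357366 (flp_h L356377) (flp_d L654315) L675942
theorem L675956 : sm gi N48961 = N48961 := ded_54_2 (flp_h L675942) (flp_i L654308) L356367 L654308 L675942
theorem L675957 : sm gi N46793 = N48962 := rfl
theorem L675959 : sm ga N48962 = N47635 := ded_18_1 (flp_i L663069) (flp_a L654322) L675957
theorem L675961 : sm gb N48962 = N47474 := ded_26_1 (flp_i L661503) (flp_b L654324) L675957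
theorem L675963 : sm gc N48962 = N48962 := ded_33_1 (flp_i L675957) L654326 L675957
theorem L675964 : sm gf N48962 = N46794 := ded_48_1 (flp_i L654330) L654320 L675957
theorem L675966 : sm gg N48962 = N47551 := ded_51_1 (flp_i L662350) (flp_g L654328) L675957
theorem L675968 : sm gh N46794 = N48963 := rfl
theorem L675970 : sm ga N48963 = N47639 := ded_17_1 (flp_h L663095) (flp_a L654332) L675968
theorem L675972 : sm gb N48963 = N47475 := ded_25_1 (flp_h L661507) (flp_b L654334) L675968
theorem L675974 : sm gc N48963 = N48963 := ded_32_1 (flp_h L675968) L654336 L675968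
theorem L675975 : sm ge N48963 = N46795 := ded_43_1 (flp_h L654341) (flp_e L654337) L675968
theorem L675977 : sm gg N48963 = N46796 := ded_50_1 (flp_h L654353) (flp_g L654339) L675968
theorem L675979 : sm gi N48963 = N48963 := ded_54_2 (flp_h L675968) (flp_i L654330) L356386 L654330 L675968
theorem L675980 : sm gd N46796 = N48964 := rfl
theorem L675982 : sm ga N48964 = N47640 := ded_12_1 (flp_d L663103) (flp_a L654355) L675980
theorem L675984 : sm gb N48964 = N47479 := ded_20_1 (flp_d L661544) (flp_b L654357) L675980
theorem L675986 : sm gf N48964 = N47553 := ded_35_2 (flp_d L662367) (flp_f L654362) L675980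
theorem L675988 : sm gj N48964 = N48964 := ded_37_2 (flp_d L675980) L654364 L675980
theorem L675989 : sm gi N48964 = N48964 := ded_39_2 (flp_d L675980) L654365 L675980
theorem L675990 : sm ge N48964 = N46934 := ded_34_2 (flp_d L655928) L357411 (flp_d L356421) (flp_e L654360) L675980
theorem L675992 : sm gi N46797 = N48965 := rfl
theorem L675994 : sm ga N48965 = N48724 := ded_18_1 (flp_i L672831) (flp_a L654368) L675992
theorem L675996 : sm gb N48965 = N46811 := ded_26_1 (flp_i L654535) (flp_b L654370) L675992
theorem L675998 : sm gd N48965 = N48042 := ded_39_1 (flp_i L667349) L654379 L675992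
theorem L676000 : sm ge N48965 = N47843 := ded_44_1 (flp_i L665411) (flp_e L654372) L675992
theorem L676002 : sm gf N48965 = N48965 := ded_48_1 (flp_i L675992) L654374 L675992
theorem L676003 : sm gg N48965 = N46799 := ded_51_1 (flp_i L654396) (flp_g L654375) L675992
theorem L676005 : sm gj N48965 = N47847 := ded_53_1 (flp_i L665452) (flp_j L654377) L675992
theorem L676007 : sm gh N48965 = N46937 := ded_54_1 (flp_i L655950) (flp_h L357447) (flp_i L356456) L654366 L675992
theorem L676009 : sm gc N46798 = N48966 := rfl
theorem L676011 : sm ga N48966 = N48706 := ded_11_1 L672690 (flp_a L654383) L676009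
theorem L676013 : sm ge N48966 = N48037 := ded_28_2 (flp_c L667309) (flp_e L654393) L676009
theorem L676015 : sm gf N48966 = N46803 := ded_29_2 (flp_c L654443) (flp_f L654387) L676009
theorem L676017 : sm gg N48966 = N48040 := ded_30_2 L667335 (flp_g L654389) L676009
theorem L676019 : sm gj N48966 = N46800 := ded_31_2 (flp_c L654408) (flp_j L654391) L676009
theorem L676021 : sm gh N48966 = N48966 := ded_32_2 (flp_c L676009) L654395 L676009
theorem L676022 : sm gb N48966 = N48550 := ded_19_1 (flp_c L671416) L654565 (flp_c L654551) (flp_b L654385) L676009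
theorem L676024 : sm gi N46798 = N48967 := rfl
theorem L676026 : sm ga N48967 = N48711 := ded_18_1 (flp_i L672723) (flp_a L654383) L676024
theorem L676028 : sm gb N48967 = N46813 := ded_26_1 (flp_i L654567) (flp_b L654385) L676024
theorem L676030 : sm gd N48967 = N46799 := ded_39_1 (flp_i L654396) L654381 L676024
theorem L676032 : sm ge N48967 = N48038 := ded_44_1 (flp_i L667315) (flp_e L654393) L676024
theorem L676034 : sm gf N48967 = N46804 := ded_48_1 (flp_i L654454) (flp_f L654387) L676024
theorem L676036 : sm gg N48967 = N48042 := ded_51_1 (flp_i L667349) (flp_g L654389) L676024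
theorem L676038 : sm gj N48967 = N46802 := ded_53_1 (flp_i L654431) (flp_j L654391) L676024
theorem L676040 : sm gb N46800 = N48968 := rfl
theorem L676042 : sm gf N48968 = N46805 := ded_22_2 (flp_b L654466) (flp_f L654412) L676040
theorem L676044 : sm gg N48968 = N47890 := ded_23_2 (flp_b L665924) (flp_g L654414) L676040
theorem L676046 : sm gj N48968 = N48550 := ded_24_2 (flp_b L676022) L676019 L676040
theorem L676048 : sm gh N48968 = N48968 := ded_25_2 (flp_b L676040) L654416 L676040
theorem L676049 : sm gc N48968 = N46814 := ded_19_2 (flp_b L654580) (flp_c L356580) (flp_b L356471) L654408 L676040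
theorem L676051 : sm ga N48553 = N48968 := ded_14_3 L676042 (flp_a L654476) (flp_f L671440)
theorem L676053 : sm ge N46800 = N48969 := rfl
theorem L676055 : sm ga N48969 = N48687 := ded_13_1 L672526 (flp_a L654410) L676053
theorem L676057 : sm gc N48969 = N46801 := ded_28_1 (flp_e L654417) L654408 L676053
theorem L676059 : sm gg N48969 = N46938 := ded_41_2 L655963 (flp_g L654414) L676053
theorem L676061 : sm gj N48969 = N48037 := ded_42_2 (flp_e L676013) L676019 L676053
theorem L676063 : sm gh N48969 = N48969 := ded_43_2 (flp_e L676053) L654416 L676053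
theorem L676064 : sm gf N48969 = N48969 := ded_40_2 (flp_e L676053) L654412 L356510 (flp_f L654412) L676053
theorem L676065 : sm gi N46800 = N48970 := rfl
theorem L676067 : sm ga N48970 = N48707 := ded_18_1 (flp_i L672695) (flp_a L654410) L676065
theorem L676069 : sm gc N48970 = N46802 := ded_33_1 (flp_i L654431) L654408 L676065
theorem L676071 : sm gf N48970 = N46806 := ded_48_1 (flp_i L654478) (flp_f L654412) L676065
theorem L676073 : sm gg N48970 = N47891 := ded_51_1 (flp_i L665931) (flp_g L654414) L676065
theorem L676075 : sm gi N46801 = N48971 := rfl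
theorem L676077 : sm ga N48971 = N48691 := ded_18_1 (flp_i L672559) (flp_a L654419) L676075
theorem L676079 : sm gb N48971 = N46817 := ded_26_1 (flp_i L654617) (flp_b L654421) L676075
theorem L676081 : sm gd N48971 = N46937 := ded_39_1 (flp_i L655950) (flp_d L654428) L676075
theorem L676083 : sm ge N48971 = N46802 := ded_44_1 (flp_i L654431) L654417 L676075
theorem L676085 : sm gf N48971 = N48971 := ded_48_1 (flp_i L676075) L654430 L676075
theorem L676086 : sm gg N48971 = N46939 := ded_51_1 (flp_i L655970) (flp_g L654423) L676075
theorem L676088 : sm gj N48971 = N48038 := ded_53_1 (flp_i L667315) (flp_j L654425) L676075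
theorem L676090 : sm gh N46802 = N48972 := rfl
theorem L676092 : sm ga N48972 = N48712 := ded_17_1 (flp_h L672732) (flp_a L654433) L676090
theorem L676094 : sm gb N48972 = N46818 := ded_25_1 (flp_h L654629) (flp_b L654435) L676090
theorem L676096 : sm gf N48972 = N46807 := ded_47_1 (flp_h L654487) (flp_f L654439) L676090
theorem L676098 : sm gg N48972 = N47892 := ded_50_1 (flp_h L665939) (flp_g L654441) L676090
theorem L676100 : sm gd N48972 = N46944 := ded_38_1 (flp_h L656030) L357491 (flp_h L356486) (flp_d L654437) L676090
theorem L676102 : sm gi N48972 = N48972 := ded_54_2 (flp_h L676090) (flp_i L654431) L356477 L654431 L676090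
theorem L676103 : sm gi N46803 = N48973 := rfl
theorem L676105 : sm ga N48973 = N48720 := ded_18_1 (flp_i L672803) (flp_a L654445) L676103
theorem L676107 : sm gb N48973 = N48741 := ded_26_1 (flp_i L672934) (flp_b L654452) L676103
theorem L676109 : sm gc N48973 = N46804 := ded_33_1 (flp_i L654454) L654443 L676103
theorem L676111 : sm ge N48973 = N48973 := ded_44_1 (flp_i L676103) L654447 L676103
theorem L676112 : sm gg N48973 = N48973 := ded_51_1 (flp_i L676103) L654448 L676103
theorem L676113 : sm gj N48973 = N46806 := ded_53_1 (flp_i L654478) (flp_j L654449) L676103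
theorem L676115 : sm gh N46804 = N48974 := rfl
theorem L676117 : sm ga N48974 = N48693 := ded_17_1 L672583 (flp_a L654456) L676115
theorem L676119 : sm gb N48974 = N46820 := ded_25_1 (flp_h L654652) (flp_b L654458) L676115
theorem L676121 : sm ge N48974 = N48974 := ded_43_1 (flp_h L676115) L654462 L676115
theorem L676122 : sm gg N48974 = N48974 := ded_50_1 (flp_h L676115) L654463 L676115
theorem L676123 : sm gj N48974 = N46807 := ded_52_1 (flp_h L654487) (flp_j L654464) L676115
theorem L676125 : sm gd N48974 = N46947 := ded_38_1 (flp_h L656060) L357507 (flp_h L356506) (flp_d L654460) L676115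
theorem L676127 : sm gi N48974 = N48974 := ded_54_2 (flp_h L676115) (flp_i L654454) L356496 L654454 L676115
theorem L676128 : sm gi N46805 = N48975 := rfl
theorem L676130 : sm ga N48975 = N48743 := ded_18_1 (flp_i L672949) L654476 L676128
theorem L676132 : sm gb N48975 = N46806 := ded_26_1 (flp_i L654478) L654466 L676128
theorem L676134 : sm gc N48975 = N46821 := ded_33_1 (flp_i L654662) (flp_c L654474) L676128
theorem L676136 : sm ge N48975 = N48975 := ded_44_1 (flp_i L676128) L654468 L676128
theorem L676137 : sm gg N48975 = N46809 := ded_51_1 (flp_i L654514) (flp_g L654469) L676128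
theorem L676139 : sm gj N48975 = N48741 := ded_53_1 (flp_i L672934) (flp_j L654471) L676128
theorem L676141 : sm gh N46806 = N48976 := rfl
theorem L676143 : sm ga N48976 = N48721 := ded_17_1 (flp_h L672811) (flp_a L654480) L676141
theorem L676145 : sm gc N48976 = N46807 := ded_32_1 (flp_h L654487) (flp_c L654482) L676141
theorem L676147 : sm ge N48976 = N48976 := ded_43_1 (flp_h L676141) L654484 L676141
theorem L676148 : sm gg N48976 = N46810 := ded_50_1 (flp_h L654524) (flp_g L654485) L676141
theorem L676150 : sm gi N48976 = N48976 := ded_54_2 (flp_h L676141) (flp_i L654478) L356513 L654478 L676141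
theorem L676151 : sm gi N46808 = N48977 := rfl
theorem L676153 : sm ga N48977 = N46809 := ded_18_1 (flp_i L654514) L654499 L676151
theorem L676155 : sm gb N48977 = N48714 := ded_26_1 (flp_i L672751) (flp_b L654512) L676151
theorem L676157 : sm gc N48977 = N46823 := ded_33_1 (flp_i L654684) (flp_c L654501) L676151
theorem L676159 : sm gd N48977 = N47990 := ded_39_1 (flp_i L666920) (flp_d L654503) L676151
theorem L676161 : sm ge N48977 = N48977 := ded_44_1 (flp_i L676151) L654505 L676151
theorem L676162 : sm gf N48977 = N47899 := ded_48_1 (flp_i L666017) (flp_f L654506) L676151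
theorem L676164 : sm gg N48977 = N48743 := ded_51_1 (flp_i L672949) (flp_g L654508) L676151
theorem L676166 : sm gj N48977 = N48977 := ded_53_1 (flp_i L676151) L654510 L676151
theorem L676167 : sm gh N46809 = N48978 := rfl
theorem L676169 : sm gb N48978 = N46810 := ded_25_1 (flp_h L654524) (flp_b L654516) L676167
theorem L676171 : sm gc N48978 = N46824 := ded_32_1 (flp_h L654697) (flp_c L654518) L676167
theorem L676173 : sm ge N48978 = N48978 := ded_43_1 (flp_h L676167) L654520 L676167
theorem L676174 : sm gf N48978 = N47900 := ded_47_1 (flp_h L666028) (flp_f L654521) L676167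
theorem L676176 : sm gj N48978 = N48978 := ded_52_1 (flp_h L676167) L654523 L676167
theorem L676177 : sm gi N48978 = N48978 := ded_54_2 (flp_h L676167) (flp_i L654514) L356529 L654514 L676167
theorem L676178 : sm gd N46810 = N48979 := rfl
theorem L676180 : sm ga N48979 = N48722 := ded_12_1 (flp_d L672819) (flp_a L654526) L676178
theorem L676182 : sm gf N48979 = N47901 := ded_35_2 (flp_d L666038) (flp_f L654531) L676178
theorem L676184 : sm gj N48979 = N48979 := ded_37_2 (flp_d L676178) L654533 L676178
theorem L676185 : sm gi N48979 = N48979 := ded_39_2 (flp_d L676178) L654534 L676178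
theorem L676186 : sm gc N48979 = N46953 := ded_27_1 (flp_d L656121) L357551 (flp_d L356548) (flp_c L654528) L676178
theorem L676188 : sm gi N46812 = N48980 := rfl
theorem L676190 : sm ga N48980 = N48980 := ded_18_1 (flp_i L676188) L654553 L676188
theorem L676191 : sm gb N48980 = N48551 := ded_26_1 (flp_i L671423) L654565 L676188
theorem L676193 : sm gc N48980 = N46813 := ded_33_1 (flp_i L654567) L654551 L676188
theorem L676195 : sm gd N48980 = N47494 := ded_39_1 (flp_i L661747) (flp_d L654563) L676188
theorem L676197 : sm ge N48980 = N47681 := ded_44_1 L663562 (flp_e L654554) L676188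
theorem L676199 : sm gf N48980 = N46819 := ded_48_1 (flp_i L654639) (flp_f L654556) L676188
theorem L676201 : sm gg N48980 = N48062 := ded_51_1 (flp_i L667506) (flp_g L654558) L676188
theorem L676203 : sm gj N48980 = N46816 := ded_53_1 (flp_i L654606) (flp_j L654560) L676188
theorem L676205 : sm gh N46813 = N48981 := rfl
theorem L676207 : sm ga N48981 = N48981 := ded_17_1 (flp_h L676205) L654569 L676205
theorem L676208 : sm ge N48981 = N48060 := ded_43_1 (flp_h L667487) (flp_e L654572) L676205
theorem L676210 : sm gf N48981 = N46820 := ded_47_1 (flp_h L654652) (flp_f L654574) L676205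
theorem L676212 : sm gg N48981 = N48064 := ded_50_1 (flp_h L667530) (flp_g L654576) L676205
theorem L676214 : sm gj N48981 = N46818 := ded_52_1 (flp_h L654629) (flp_j L654578) L676205
theorem L676216 : sm gd N48981 = N46956 := ded_38_1 (flp_h L656151) L357595 (flp_h L356578) (flp_d L654570) L676205
theorem L676218 : sm gi N48981 = N48981 := ded_54_2 (flp_h L676205) (flp_i L654567) L356568 L654567 L676205
theorem L676219 : sm ge N46814 = N48982 := rfl
theorem L676221 : sm ga N48982 = N48554 := ded_13_1 (flp_e L671445) L654591 L676219
theorem L676223 : sm gb N48982 = N46815 := ded_21_1 (flp_e L654593) L654580 L676219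
theorem L676225 : sm gg N48982 = N46954 := ded_41_2 L656131 (flp_g L654586) L676219
theorem L676227 : sm gj N48982 = N47739 := ded_42_2 L664291 (flp_j L654588) L676219
theorem L676229 : sm gh N48982 = N48982 := ded_43_2 (flp_e L676219) L654590 L676219
theorem L676230 : sm gd N48982 = N47667 := ded_34_1 L663376 L562357 (flp_e L615947) (flp_d L654582) L676219
theorem L676232 : sm gf N48982 = N48982 := ded_40_2 (flp_e L676219) L654584 L356629 (flp_f L654584) L676219
theorem L676233 : sm gi N46814 = N48983 := rfl
theorem L676235 : sm ga N48983 = N48555 := ded_18_1 (flp_i L671454) L654591 L676233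
theorem L676237 : sm gb N48983 = N46816 := ded_26_1 (flp_i L654606) L654580 L676233
theorem L676239 : sm gd N48983 = N47497 := ded_39_1 (flp_i L661798) (flp_d L654582) L676233
theorem L676241 : sm gf N48983 = N46821 := ded_48_1 (flp_i L654662) (flp_f L654584) L676233
theorem L676243 : sm gg N48983 = N47903 := ded_51_1 (flp_i L666056) (flp_g L654586) L676233
theorem L676245 : sm gj N48983 = N48551 := ded_53_1 (flp_i L671423) (flp_j L654588) L676233
theorem L676247 : sm gi N46815 = N48984 := rfl
theorem L676249 : sm ga N48984 = N48984 := ded_18_1 (flp_i L676247) L654595 L676247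
theorem L676250 : sm gc N48984 = N46817 := ded_33_1 (flp_i L654617) (flp_c L654596) L676247
theorem L676252 : sm gd N48984 = N47668 := ded_39_1 (flp_i L663387) (flp_d L654603) L676247
theorem L676254 : sm ge N48984 = N46816 := ded_44_1 (flp_i L654606) L654593 L676247
theorem L676256 : sm gf N48984 = N48984 := ded_48_1 (flp_i L676247) L654605 L676247
theorem L676257 : sm gg N48984 = N46955 := ded_51_1 (flp_i L656138) (flp_g L654598) L676247
theorem L676259 : sm gj N48984 = N47681 := ded_53_1 L663562 (flp_j L654600) L676247
theorem L676261 : sm gh N46816 = N48985 := rfl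
theorem L676263 : sm ga N48985 = N48985 := ded_17_1 (flp_h L676261) L654608 L676261
theorem L676264 : sm gc N48985 = N46818 := ded_32_1 (flp_h L654629) (flp_c L654609) L676261
theorem L676266 : sm gf N48985 = N46822 := ded_47_1 (flp_h L654675) (flp_f L654613) L676261
theorem L676268 : sm gg N48985 = N47904 := ded_50_1 (flp_h L666064) (flp_g L654615) L676261
theorem L676270 : sm gi N48985 = N48985 := ded_54_2 (flp_h L676261) (flp_i L654606) L356587 L654606 L676261
theorem L676271 : sm gh N46817 = N48986 := rfl
theorem L676273 : sm ga N48986 = N48986 := ded_17_1 (flp_h L676271) L654619 L676271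
theorem L676274 : sm ge N48986 = N46818 := ded_43_1 (flp_h L654629) (flp_e L654622) L676271
theorem L676276 : sm gf N48986 = N48986 := ded_47_1 (flp_h L676271) L654624 L676271
theorem L676277 : sm gg N48986 = N46956 := ded_50_1 (flp_h L656151) (flp_g L654625) L676271
theorem L676279 : sm gj N48986 = N48060 := ded_52_1 (flp_h L667487) (flp_j L654627) L676271
theorem L676281 : sm gd N48986 = N48064 := ded_38_1 (flp_h L667530) (flp_d L654540) L654549 (flp_d L654620) L676271
theorem L676283 : sm gi N48986 = N48986 := ded_54_2 (flp_h L676271) (flp_i L654617) L356595 L654617 L676271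
theorem L676284 : sm gh N46819 = N48987 := rfl
theorem L676286 : sm ga N48987 = N48987 := ded_17_1 (flp_h L676284) L654641 L676284
theorem L676287 : sm gb N48987 = N48742 := ded_25_1 (flp_h L672942) (flp_b L654642) L676284
theorem L676289 : sm gc N48987 = N46820 := ded_32_1 (flp_h L654652) (flp_c L654644) L676284
theorem L676291 : sm ge N48987 = N48987 := ded_43_1 (flp_h L676284) L654648 L676284
theorem L676292 : sm gg N48987 = N48987 := ded_50_1 (flp_h L676284) L654649 L676284
theorem L676293 : sm gj N48987 = N46822 := ded_52_1 (flp_h L654675) (flp_j L654650) L676284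
theorem L676295 : sm gi N48987 = N48987 := ded_54_2 (flp_h L676284) (flp_i L654639) L356613 L654639 L676284
theorem L676296 : sm gh N46821 = N48988 := rfl
theorem L676298 : sm ga N48988 = N48744 := ded_17_1 (flp_h L672956) (flp_a L654664) L676296
theorem L676300 : sm gb N48988 = N46822 := ded_25_1 (flp_h L654675) (flp_b L654666) L676296
theorem L676302 : sm ge N48988 = N48988 := ded_43_1 (flp_h L676296) L654670 L676296
theorem L676303 : sm gg N48988 = N46824 := ded_50_1 (flp_h L654697) (flp_g L654671) L676296
theorem L676305 : sm gj N48988 = N48742 := ded_52_1 (flp_h L672942) (flp_j L654673) L676296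
theorem L676307 : sm gi N48988 = N48988 := ded_54_2 (flp_h L676296) (flp_i L654662) L356632 L654662 L676296
theorem L676308 : sm gd N46822 = N48989 := rfl
theorem L676310 : sm ga N48989 = N48989 := ded_12_1 (flp_d L676308) L654677 L676308
theorem L676311 : sm gg N48989 = N46825 := ded_36_2 (flp_d L654706) (flp_g L654681) L676308
theorem L676313 : sm gi N48989 = N48989 := ded_39_2 (flp_d L676308) L654683 L676308
theorem L676314 : sm gc N48989 = N46968 := ded_27_1 (flp_d L656276) L357688 (flp_d L356649) (flp_c L654678) L676308
theorem L676316 : sm gh N48989 = N47499 := ded_38_2 (flp_d L661828) (flp_h L363121) (flp_d L356638) L654675 L676308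
theorem L676318 : sm gh N46823 = N48990 := rfl
theorem L676320 : sm ga N48990 = N46824 := ded_17_1 (flp_h L654697) (flp_a L654686) L676318
theorem L676322 : sm gb N48990 = N48990 := ded_25_1 (flp_h L676318) L654688 L676318
theorem L676323 : sm ge N48990 = N48990 := ded_43_1 (flp_h L676318) L654691 L676318
theorem L676324 : sm gf N48990 = N47911 := ded_47_1 (flp_h L666131) (flp_f L654692) L676318
theorem L676326 : sm gg N48990 = N48744 := ded_50_1 (flp_h L672956) (flp_g L654694) L676318
theorem L676328 : sm gj N48990 = N48990 := ded_52_1 (flp_h L676318) L654696 L676318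
theorem L676329 : sm gd N48990 = N47406 := ded_38_1 (flp_h L660793) (flp_d L660710) L660719 (flp_d L654689) L676318
theorem L676331 : sm gi N48990 = N48990 := ded_54_2 (flp_h L676318) (flp_i L654684) L356660 L654684 L676318
theorem L676332 : sm gd N46824 = N48991 := rfl
theorem L676334 : sm ga N48991 = N47406 := ded_12_1 (flp_d L676329) L676320 L676332
theorem L676336 : sm gb N48991 = N46825 := ded_20_1 (flp_d L654706) (flp_b L654699) L676332
theorem L676338 : sm gf N48991 = N47912 := ded_35_2 (flp_d L666138) (flp_f L654702) L676332
theorem L676340 : sm gj N48991 = N48991 := ded_37_2 (flp_d L676332) L654704 L676332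
theorem L676341 : sm gi N48991 = N48991 := ded_39_2 (flp_d L676332) L654705 L676332
theorem L676342 : sm gh N48991 = N47397 := ded_38_2 L660685 (flp_h L363138) (flp_d L356666) L654697 L676332
theorem L676344 : sm gc N47434 = N48991 := ded_11_0 L676334 L660796 (flp_a L661104)
theorem L676346 : sm ge N47398 = N48991 := ded_13_0 L676334 L660798 (flp_a L660694)
theorem L676348 : sm ge N46825 = N48992 := rfl
theorem L676350 : sm ga N48992 = N48992 := ded_13_1 (flp_e L676348) L654708 L676348
theorem L676351 : sm gb N48992 = N47398 := ded_21_1 L676346 L676336 L676348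
theorem L676353 : sm gc N48992 = N46971 := ded_28_1 (flp_e L656303) (flp_c L654713) L676348
theorem L676355 : sm gj N48992 = N48992 := ded_42_2 (flp_e L676348) L654711 L676348
theorem L676356 : sm gh N48992 = N47393 := ded_43_2 L660639 (flp_h L654715) L676348
theorem L676358 : sm gi N48992 = N48992 := ded_44_2 (flp_e L676348) L654712 L676348
theorem L676359 : sm gd N48992 = N48992 := ded_34_1 (flp_e L676348) (flp_d L654706) L356677 L654706 L676348
theorem L676360 : sm gf N48992 = N47394 := ded_40_2 (flp_e L673179) L673181 (flp_e L666146) (flp_f L654709) L676348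
theorem L676362 : sm gj N46826 = N48993 := rfl
theorem L676364 : sm ga N48993 = N47501 := ded_16_1 (flp_j L661854) (flp_a L654719) L676362
theorem L676366 : sm gb N48993 = N46847 := ded_24_1 (flp_j L654992) (flp_b L654721) L676362
theorem L676368 : sm gc N48993 = N47688 := ded_31_1 L663629 (flp_c L654723) L676362
theorem L676370 : sm gd N48993 = N46831 := ded_37_1 (flp_j L654787) (flp_d L654725) L676362
theorem L676372 : sm ge N48993 = N47439 := ded_42_1 L661168 L654731 L676362
theorem L676374 : sm gf N48993 = N46827 := ded_46_1 (flp_j L654733) L654717 L676362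
theorem L676376 : sm gi N48993 = N47567 := ded_53_2 L662539 (flp_i L654727) L676362
theorem L676378 : sm gg N48993 = N47437 := ded_49_1 (flp_j L661135) L362622 (flp_j L616107) (flp_g L654729) L676362
theorem L676380 : sm gh N46826 = N48994 := rfl
theorem L676382 : sm ga N48994 = N47502 := ded_17_1 (flp_h L661870) (flp_a L654719) L676380
theorem L676384 : sm gb N48994 = N46848 := ded_25_1 (flp_h L655003) (flp_b L654721) L676380
theorem L676386 : sm gc N48994 = N48545 := ded_32_1 (flp_h L671368) (flp_c L654723) L676380
theorem L676388 : sm ge N48994 = N48332 := ded_43_1 (flp_h L669680) L654731 L676380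
theorem L676390 : sm gf N48994 = N46828 := ded_47_1 (flp_h L654747) L654717 L676380
theorem L676392 : sm gg N48994 = N47914 := ded_50_1 (flp_h L666157) (flp_g L654729) L676380
theorem L676394 : sm gh N46827 = N48995 := rfl
theorem L676396 : sm ga N48995 = N47503 := ded_17_1 (flp_h L661880) (flp_a L654735) L676394
theorem L676398 : sm gb N48995 = N46849 := ded_25_1 (flp_h L655012) (flp_b L654737) L676394
theorem L676400 : sm gc N48995 = N48549 := ded_32_1 (flp_h L671405) (flp_c L654739) L676394
theorem L676402 : sm ge N48995 = N48995 := ded_43_1 (flp_h L676394) L654743 L676394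
theorem L676403 : sm gg N48995 = N48995 := ded_50_1 (flp_h L676394) L654746 L676394
theorem L676404 : sm gj N48995 = N46828 := ded_52_1 (flp_h L654747) L654733 L676394
theorem L676406 : sm gd N46828 = N48996 := rfl
theorem L676408 : sm ga N48996 = N47504 := ded_12_1 (flp_d L661890) (flp_a L654749) L676406
theorem L676410 : sm gb N48996 = N46850 := ded_20_1 (flp_d L655021) (flp_b L654751) L676406
theorem L676412 : sm gg N48996 = N46829 := ded_36_2 (flp_d L654758) (flp_g L654756) L676406
theorem L676414 : sm gc N48996 = N47467 := ded_27_1 L661452 (flp_c L660770) L660772 (flp_c L654753) L676406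
theorem L676416 : sm gh N48996 = N46834 := ded_38_2 (flp_d L654821) (flp_h L356730) (flp_d L356698) L654747 L676406
theorem L676418 : sm ge N47513 = N48996 := ded_41_3 L676412 (flp_e L654771) (flp_g L661973)
theorem L676420 : sm gi N46828 = N48997 := rfl
theorem L676422 : sm ga N48997 = N47505 := ded_18_1 (flp_i L661898) (flp_a L654749) L676420
theorem L676424 : sm gb N48997 = N46851 := ded_26_1 (flp_i L655029) (flp_b L654751) L676420
theorem L676426 : sm gc N48997 = N48392 := ded_33_1 L670177 (flp_c L654753) L676420
theorem L676428 : sm ge N48997 = N48997 := ded_44_1 (flp_i L676420) L654755 L676420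
theorem L676429 : sm gg N48997 = N46830 := ded_51_1 (flp_i L654773) (flp_g L654756) L676420
theorem L676431 : sm gh N48997 = N48385 := ded_54_1 (flp_i L670099) L385747 (flp_i L542516) L654747 L676420
theorem L676433 : sm gi N46829 = N48998 := rfl
theorem L676435 : sm ga N48998 = N47506 := ded_18_1 (flp_i L661909) (flp_a L654760) L676433
theorem L676437 : sm gb N48998 = N46854 := ded_26_1 (flp_i L655067) (flp_b L654762) L676433
theorem L676439 : sm gc N48998 = N47468 := ded_33_1 (flp_i L661456) (flp_c L654767) L676433
theorem L676441 : sm gd N48998 = N46830 := ded_39_1 (flp_i L654773) L654758 L676433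
theorem L676443 : sm ge N48998 = N47515 := ded_44_1 (flp_i L661984) L654771 L676433
theorem L676445 : sm gf N48998 = N47465 := ded_48_1 (flp_i L661422) (flp_f L654764) L676433
theorem L676447 : sm gj N48998 = N48998 := ded_53_1 (flp_i L676433) L654766 L676433
theorem L676448 : sm gg N46831 = N48999 := rfl
theorem L676450 : sm ga N48999 = N47507 := ded_15_1 (flp_g L661918) (flp_a L654789) L676448
theorem L676452 : sm gb N48999 = N46855 := ded_23_1 (flp_g L655076) (flp_b L654791) L676448
theorem L676454 : sm gc N48999 = N48999 := ded_30_1 (flp_g L676448) L654793 L676448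
theorem L676455 : sm gd N48999 = N47437 := ded_36_1 (flp_g L676378) L676370 L676448
theorem L676457 : sm ge N48999 = N47192 := ded_41_1 (flp_g L674733) L674727 L676448
theorem L676459 : sm gi N48999 = N47311 := ded_51_2 L659911 (flp_i L654796) L676448
theorem L676461 : sm gf N48999 = N48999 := ded_45_1 (flp_g L676448) L654794 L356729 (flp_f L654794) L676448
theorem L676462 : sm gj N48999 = N47191 := ded_49_2 L658789 (flp_j L378964) (flp_g L356718) L654787 L676448
theorem L676464 : sm gh N46831 = N49000 := rfl
theorem L676466 : sm ga N49000 = N47508 := ded_17_1 (flp_h L661928) (flp_a L654789) L676464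
theorem L676468 : sm gb N49000 = N46856 := ded_25_1 (flp_h L655087) (flp_b L654791) L676464
theorem L676470 : sm gc N49000 = N49000 := ded_32_1 (flp_h L676464) L654793 L676464
theorem L676471 : sm ge N49000 = N48607 := ded_43_1 L674735 L674727 L676464
theorem L676473 : sm gf N49000 = N46833 := ded_47_1 (flp_h L654809) (flp_f L654794) L676464
theorem L676475 : sm gj N49000 = N46832 := ded_52_1 (flp_h L654798) L654787 L676464
theorem L676477 : sm gd N46832 = N49001 := rfl
theorem L676479 : sm ga N49001 = N47509 := ded_12_1 (flp_d L661937) (flp_a L654800) L676477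
theorem L676481 : sm gb N49001 = N46857 := ded_20_1 (flp_d L655099) (flp_b L654802) L676477
theorem L676483 : sm gf N49001 = N46834 := ded_35_2 (flp_d L654821) (flp_f L654805) L676477
theorem L676485 : sm gg N49001 = N47917 := ded_36_2 (flp_d L666200) (flp_g L654807) L676477
theorem L676487 : sm gi N46832 = N49002 := rfl
theorem L676489 : sm ga N49002 = N47510 := ded_18_1 (flp_i L661945) (flp_a L654800) L676487
theorem L676491 : sm gb N49002 = N46858 := ded_26_1 (flp_i L655107) (flp_b L654802) L676487
theorem L676493 : sm gc N49002 = N49002 := ded_33_1 (flp_i L676487) L654804 L676487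
theorem L676494 : sm gf N49002 = N46835 := ded_48_1 (flp_i L654829) (flp_f L654805) L676487
theorem L676496 : sm gg N49002 = N47918 := ded_51_1 (flp_i L666208) (flp_g L654807) L676487
theorem L676498 : sm gh N49002 = N48035 := ded_54_1 (flp_i L667290) L379974 L648348 L654798 L676487
theorem L676500 : sm gd N46833 = N49003 := rfl
theorem L676502 : sm ga N49003 = N47511 := ded_12_1 (flp_d L661954) (flp_a L654811) L676500
theorem L676504 : sm gb N49003 = N46859 := ded_20_1 (flp_d L655119) (flp_b L654813) L676500
theorem L676506 : sm gg N49003 = N49003 := ded_36_2 (flp_d L676500) L654818 L676500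
theorem L676507 : sm gj N49003 = N46834 := ded_37_2 (flp_d L654821) (flp_j L654819) L676500
theorem L676509 : sm ge N49003 = N48623 := ded_34_2 (flp_d L671972) (flp_e L649966) (flp_d L648618) (flp_e L654816) L676500
theorem L676511 : sm gi N46833 = N49004 := rfl
theorem L676513 : sm ga N49004 = N47512 := ded_18_1 (flp_i L661961) (flp_a L654811) L676511
theorem L676515 : sm gb N49004 = N46860 := ded_26_1 (flp_i L655130) (flp_b L654813) L676511
theorem L676517 : sm gc N49004 = N49004 := ded_33_1 (flp_i L676511) L654815 L676511
theorem L676518 : sm ge N49004 = N46839 := ded_44_1 (flp_i L654882) (flp_e L654816) L676511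
theorem L676520 : sm gg N49004 = N49004 := ded_51_1 (flp_i L676511) L654818 L676511
theorem L676521 : sm gj N49004 = N46835 := ded_53_1 (flp_i L654829) (flp_j L654819) L676511
theorem L676523 : sm gh N49004 = N48036 := ded_54_1 (flp_i L667299) L380003 L648332 L654809 L676511
theorem L676525 : sm gc N46834 = N49005 := rfl
theorem L676527 : sm ga N49005 = N47513 := ded_11_1 (flp_c L661971) (flp_a L654823) L676525
theorem L676529 : sm gg N49005 = N46836 := ded_30_2 (flp_c L654842) (flp_g L654827) L676525
theorem L676531 : sm gh N49005 = N47467 := ded_32_2 (flp_c L676414) L676416 L676525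
theorem L676533 : sm gb N49005 = N47525 := ded_19_1 L662103 L655153 (flp_c L655143) (flp_b L654825) L676525
theorem L676535 : sm gd N49005 = N49005 := ded_27_2 (flp_c L676525) (flp_d L654821) L356736 L654821 L676525
theorem L676536 : sm ge N47504 = N49005 := ded_13_0 L676527 L676418 L676408
theorem L676538 : sm ge N46834 = N49006 := rfl
theorem L676540 : sm ga N49006 = N47467 := ded_13_1 L661454 (flp_a L654823) L676538
theorem L676542 : sm gb N49006 = N46862 := ded_21_1 (flp_e L655157) (flp_b L654825) L676538
theorem L676544 : sm gc N49006 = N47504 := ded_28_1 L676536 (flp_c L676525) L676538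
theorem L676546 : sm gg N49006 = N46837 := ded_41_2 (flp_e L654856) (flp_g L654827) L676538
theorem L676548 : sm gj N49006 = N48623 := ded_42_2 (flp_e L676509) L676507 L676538
theorem L676550 : sm gh N49006 = N47513 := ded_43_2 L676418 L676416 L676538
theorem L676552 : sm gd N49006 = N46840 := ded_34_1 (flp_e L654898) (flp_d L356772) (flp_e L356737) L654821 L676538
theorem L676554 : sm gi N46834 = N49007 := rfl
theorem L676556 : sm ga N49007 = N47514 := ded_18_1 (flp_i L661976) (flp_a L654823) L676554
theorem L676558 : sm gb N49007 = N46863 := ded_26_1 (flp_i L655169) (flp_b L654825) L676554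
theorem L676560 : sm gd N49007 = N46835 := ded_39_1 (flp_i L654829) L654821 L676554
theorem L676562 : sm gg N49007 = N46838 := ded_51_1 (flp_i L654871) (flp_g L654827) L676554
theorem L676564 : sm gi N46836 = N49008 := rfl
theorem L676566 : sm ga N49008 = N47515 := ded_18_1 (flp_i L661984) (flp_a L654844) L676564
theorem L676568 : sm gb N49008 = N47527 := ded_26_1 (flp_i L662120) (flp_b L654851) L676564
theorem L676570 : sm gc N49008 = N46838 := ded_33_1 (flp_i L654871) L654842 L676564
theorem L676572 : sm gd N49008 = N49008 := ded_39_1 (flp_i L676564) L654853 L676564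
theorem L676573 : sm ge N49008 = N47506 := ded_44_1 (flp_i L661909) L654854 L676564
theorem L676575 : sm gf N49008 = N47447 := ded_48_1 (flp_i L661248) (flp_f L654846) L676564
theorem L676577 : sm gj N49008 = N49008 := ded_53_1 (flp_i L676564) L654848 L676564
theorem L676578 : sm gi N46837 = N49009 := rfl
theorem L676580 : sm ga N49009 = N47468 := ded_18_1 (flp_i L661456) (flp_a L654858) L676578
theorem L676582 : sm gb N49009 = N46866 := ded_26_1 (flp_i L655207) (flp_b L654860) L676578
theorem L676584 : sm gc N49009 = N47506 := ded_33_1 (flp_i L661909) (flp_c L654862) L676578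
theorem L676586 : sm gd N49009 = N46843 := ded_39_1 (flp_i L654943) (flp_d L654867) L676578
theorem L676588 : sm ge N49009 = N46838 := ded_44_1 (flp_i L654871) L654856 L676578
theorem L676590 : sm gf N49009 = N47427 := ded_48_1 (flp_i L661037) (flp_f L654869) L676578
theorem L676592 : sm gj N49009 = N49009 := ded_53_1 (flp_i L676578) L654864 L676578
theorem L676593 : sm gh N46838 = N49010 := rfl
theorem L676595 : sm ga N49010 = N47516 := ded_17_1 (flp_h L661992) (flp_a L654873) L676593
theorem L676597 : sm gb N49010 = N46867 := ded_25_1 (flp_h L655218) (flp_b L654875) L676593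
theorem L676599 : sm gf N49010 = N47922 := ded_47_1 (flp_h L666258) (flp_f L654879) L676593
theorem L676601 : sm gj N49010 = N49010 := ded_52_1 (flp_h L676593) L654881 L676593
theorem L676602 : sm gd N49010 = N48032 := ded_38_1 (flp_h L667263) L379928 (flp_h L554965) (flp_d L654877) L676593
theorem L676604 : sm gf N46840 = N49011 := rfl
theorem L676606 : sm ga N49011 = N47473 := ded_14_1 L661501 (flp_a L654900) L676604
theorem L676608 : sm gb N49011 = N46868 := ded_22_1 (flp_f L655227) (flp_b L654902) L676604
theorem L676610 : sm gc N49011 = N48302 := ded_29_1 L669423 (flp_c L654904) L676604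
theorem L676612 : sm gj N49011 = N48286 := ded_46_2 L669292 (flp_j L654908) L676604
theorem L676614 : sm gh N49011 = N49011 := ded_47_2 (flp_f L676604) L654910 L676604
theorem L676615 : sm ge N49011 = N48281 := ded_40_1 L669242 L384269 L648614 L654898 L676604
theorem L676617 : sm gg N49011 = N47431 := ded_45_2 (flp_f L661080) L362447 (flp_f L550691) (flp_g L654906) L676604
theorem L676619 : sm gi N46840 = N49012 := rfl
theorem L676621 : sm ga N49012 = N47477 := ded_18_1 (flp_i L661526) (flp_a L654900) L676619
theorem L676623 : sm gb N49012 = N46869 := ded_26_1 (flp_i L655238) (flp_b L654902) L676619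
theorem L676625 : sm gc N49012 = N48393 := ded_33_1 L670187 (flp_c L654904) L676619
theorem L676627 : sm ge N49012 = N46841 := ded_44_1 (flp_i L654911) L654898 L676619
theorem L676629 : sm gg N49012 = N46843 := ded_51_1 (flp_i L654943) (flp_g L654906) L676619
theorem L676631 : sm gj N49012 = N48624 := ded_53_1 (flp_i L671977) (flp_j L654908) L676619
theorem L676633 : sm gh N46841 = N49013 := rfl
theorem L676635 : sm ga N49013 = N47481 := ded_17_1 (flp_h L661565) (flp_a L654913) L676633
theorem L676637 : sm gb N49013 = N46870 := ded_25_1 (flp_h L655250) (flp_b L654915) L676633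
theorem L676639 : sm gc N49013 = N48637 := ded_32_1 (flp_h L672071) (flp_c L654917) L676633
theorem L676641 : sm gf N49013 = N48629 := ded_47_1 (flp_h L672017) (flp_f L654921) L676633
theorem L676643 : sm gg N49013 = N46844 := ded_50_1 (flp_h L654956) (flp_g L654923) L676633
theorem L676645 : sm gj N49013 = N48625 := ded_52_1 (flp_h L671986) (flp_j L654925) L676633
theorem L676647 : sm gd N49013 = N46936 := ded_38_1 (flp_h L655943) L357427 (flp_h L554944) (flp_d L654919) L676633
theorem L676649 : sm gi N49013 = N49013 := ded_54_2 (flp_h L676633) (flp_i L654911) L356780 L654911 L676633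
theorem L676650 : sm gh N46842 = N49014 := rfl
theorem L676652 : sm ga N49014 = N47408 := ded_17_1 (flp_h L660816) (flp_a L654929) L676650
theorem L676654 : sm gb N49014 = N47913 := ded_25_1 L666154 (flp_b L654931) L676650
theorem L676656 : sm gc N49014 = N46844 := ded_32_1 (flp_h L654956) (flp_c L654933) L676650
theorem L676658 : sm ge N49014 = N47912 := ded_43_1 L666144 (flp_e L654936) L676650
theorem L676660 : sm gf N49014 = N46845 := ded_47_1 (flp_h L654968) (flp_f L654938) L676650
theorem L676662 : sm gg N49014 = N48637 := ded_50_1 (flp_h L672071) (flp_g L654940) L676650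
theorem L676664 : sm gj N49014 = N49014 := ded_52_1 (flp_h L676650) L654942 L676650
theorem L676665 : sm gi N49014 = N49014 := ded_54_2 (flp_h L676650) (flp_i L654927) L356797 L654927 L676650
theorem L676666 : sm gh N46843 = N49015 := rfl
theorem L676668 : sm ga N49015 = N47478 := ded_17_1 (flp_h L661534) (flp_a L654945) L676666
theorem L676670 : sm gb N49015 = N46873 := ded_25_1 (flp_h L655289) (flp_b L654947) L676666
theorem L676672 : sm gc N49015 = N47912 := ded_32_1 L666144 (flp_c L654949) L676666
theorem L676674 : sm ge N49015 = N46844 := ded_43_1 (flp_h L654956) (flp_e L654951) L676666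
theorem L676676 : sm gf N49015 = N47434 := ded_47_1 (flp_h L661102) (flp_f L654953) L676666
theorem L676678 : sm gj N49015 = N49015 := ded_52_1 (flp_h L676666) L654955 L676666
theorem L676679 : sm gi N49015 = N49015 := ded_54_2 (flp_h L676666) (flp_i L654943) L356806 L654943 L676666
theorem L676680 : sm gh N46846 = N49016 := rfl
theorem L676682 : sm ga N49016 = N46885 := ded_17_1 (flp_h L655444) (flp_a L654980) L676680
theorem L676684 : sm gb N49016 = N48332 := ded_25_1 (flp_h L669680) (flp_b L654982) L676680
theorem L676686 : sm gc N49016 = N49016 := ded_32_1 (flp_h L676680) L654984 L676680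
theorem L676687 : sm ge N49016 = N46848 := ded_43_1 (flp_h L655003) L654978 L676680
theorem L676689 : sm gf N49016 = N49016 := ded_47_1 (flp_h L676680) L654991 L676680
theorem L676690 : sm gg N49016 = N47870 := ded_50_1 (flp_h L665695) (flp_g L654985) L676680
theorem L676692 : sm gh N46847 = N49017 := rfl
theorem L676694 : sm ga N49017 = N46887 := ded_17_1 (flp_h L655466) (flp_a L654994) L676692
theorem L676696 : sm gc N49017 = N49017 := ded_32_1 (flp_h L676692) L654996 L676692
theorem L676697 : sm gf N49017 = N46849 := ded_47_1 (flp_h L655012) (flp_f L654999) L676692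
theorem L676699 : sm gj N49017 = N46848 := ded_52_1 (flp_h L655003) L654992 L676692
theorem L676701 : sm gd N46848 = N49018 := rfl
theorem L676703 : sm ga N49018 = N46888 := ded_12_1 (flp_d L655475) (flp_a L655005) L676701
theorem L676705 : sm gf N49018 = N46850 := ded_35_2 (flp_d L655021) (flp_f L655008) L676701
theorem L676707 : sm gg N49018 = N47923 := ded_36_2 (flp_d L666269) (flp_g L655010) L676701
theorem L676709 : sm gh N49018 = N46857 := ded_38_2 (flp_d L655099) (flp_h L356915) (flp_d L356868) L655003 L676701
theorem L676711 : sm gi N46848 = N49019 := rfl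
theorem L676713 : sm ga N49019 = N46889 := ded_18_1 (flp_i L655485) (flp_a L655005) L676711
theorem L676715 : sm gc N49019 = N49019 := ded_33_1 (flp_i L676711) L655007 L676711
theorem L676716 : sm gf N49019 = N46851 := ded_48_1 (flp_i L655029) (flp_f L655008) L676711
theorem L676718 : sm gg N49019 = N47924 := ded_51_1 (flp_i L666277) (flp_g L655010) L676711
theorem L676720 : sm gh N49019 = N48737 := ded_54_1 (flp_i L672906) L651147 L648465 L655003 L676711
theorem L676722 : sm gd N46849 = N49020 := rfl
theorem L676724 : sm ga N49020 = N46890 := ded_12_1 (flp_d L655494) (flp_a L655014) L676722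
theorem L676726 : sm gg N49020 = N49020 := ded_36_2 (flp_d L676722) L655018 L676722
theorem L676727 : sm gj N49020 = N46850 := ded_37_2 (flp_d L655021) (flp_j L655019) L676722
theorem L676729 : sm gh N49020 = N46859 := ded_38_2 (flp_d L655119) (flp_h L356925) (flp_d L356877) L655012 L676722
theorem L676731 : sm gc N48685 = N49020 := ded_32_3 L676729 L655126 L672509
theorem L676733 : sm ge N48626 = N49020 := ded_43_3 L676729 L655128 L671996
theorem L676735 : sm gi N46849 = N49021 := rfl
theorem L676737 : sm ga N49021 = N46891 := ded_18_1 (flp_i L655503) (flp_a L655014) L676735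
theorem L676739 : sm gc N49021 = N49021 := ded_33_1 (flp_i L676735) L655016 L676735
theorem L676740 : sm ge N49021 = N49021 := ded_44_1 (flp_i L676735) L655017 L676735
theorem L676741 : sm gg N49021 = N49021 := ded_51_1 (flp_i L676735) L655018 L676735
theorem L676742 : sm gj N49021 = N46851 := ded_53_1 (flp_i L655029) (flp_j L655019) L676735
theorem L676744 : sm gh N49021 = N48738 := ded_54_1 (flp_i L672913) L651160 (flp_i L648336) L655012 L676735
theorem L676746 : sm gc N46850 = N49022 := rfl
theorem L676748 : sm ga N49022 = N46892 := ded_11_1 (flp_c L655512) (flp_a L655023) L676746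
theorem L676750 : sm gg N49022 = N46852 := ded_30_2 (flp_c L655039) (flp_g L655025) L676746
theorem L676752 : sm gj N49022 = N48685 := ded_31_2 L676731 L676727 L676746
theorem L676754 : sm gh N49022 = N46861 := ded_32_2 (flp_c L655143) (flp_h L655027) L676746
theorem L676756 : sm gb N49022 = N47539 := ded_19_1 L662245 (flp_b L661450) (flp_c L676414) L676410 L676746
theorem L676758 : sm gd N49022 = N49022 := ded_27_2 (flp_c L676746) (flp_d L655021) L356885 L655021 L676746
theorem L676759 : sm ge N47538 = N49022 := ded_41_3 L676750 (flp_e L655051) (flp_g L662235)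
theorem L676761 : sm ge N46850 = N49023 := rfl
theorem L676763 : sm ga N49023 = N46893 := ded_13_1 (flp_e L655519) (flp_a L655023) L676761
theorem L676765 : sm gb N49023 = N47513 := ded_21_1 L676418 L676410 L676761
theorem L676767 : sm gc N49023 = N47538 := ded_28_1 L676759 (flp_c L676746) L676761
theorem L676769 : sm gg N49023 = N46853 := ded_41_2 (flp_e L655053) (flp_g L655025) L676761
theorem L676771 : sm gj N49023 = N48626 := ded_42_2 L676733 L676727 L676761
theorem L676773 : sm gh N49023 = N46862 := ded_43_2 (flp_e L655157) (flp_h L655027) L676761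
theorem L676775 : sm gd N49023 = N49023 := ded_34_1 (flp_e L676761) (flp_d L655021) L356886 L655021 L676761
theorem L676776 : sm gi N46850 = N49024 := rfl
theorem L676778 : sm ga N49024 = N46894 := ded_18_1 (flp_i L655528) (flp_a L655023) L676776
theorem L676780 : sm gd N49024 = N46851 := ded_39_1 (flp_i L655029) L655021 L676776
theorem L676782 : sm gg N49024 = N46854 := ded_51_1 (flp_i L655067) (flp_g L655025) L676776
theorem L676784 : sm gi N46852 = N49025 := rfl
theorem L676786 : sm ga N49025 = N46897 := ded_18_1 (flp_i L655565) (flp_a L655041) L676784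
theorem L676788 : sm gb N49025 = N47545 := ded_26_1 (flp_i L662293) (flp_b L655048) L676784
theorem L676790 : sm gc N49025 = N46854 := ded_33_1 (flp_i L655067) L655039 L676784
theorem L676792 : sm gd N49025 = N49025 := ded_39_1 (flp_i L676784) L655050 L676784
theorem L676793 : sm ge N49025 = N47544 := ded_44_1 (flp_i L662284) L655051 L676784
theorem L676795 : sm gf N49025 = N47929 := ded_48_1 (flp_i L666330) (flp_f L655043) L676784
theorem L676797 : sm gj N49025 = N49025 := ded_53_1 (flp_i L676784) L655045 L676784
theorem L676798 : sm gi N46853 = N49026 := rfl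
theorem L676800 : sm ga N49026 = N46899 := ded_18_1 (flp_i L655587) (flp_a L655055) L676798
theorem L676802 : sm gb N49026 = N47515 := ded_26_1 (flp_i L661984) (flp_b L655057) L676798
theorem L676804 : sm gc N49026 = N47544 := ded_33_1 (flp_i L662284) (flp_c L655059) L676798
theorem L676806 : sm gd N49026 = N49026 := ded_39_1 (flp_i L676798) L655064 L676798
theorem L676807 : sm ge N49026 = N46854 := ded_44_1 (flp_i L655067) L655053 L676798
theorem L676809 : sm gf N49026 = N48367 := ded_48_1 (flp_i L669941) (flp_f L655065) L676798
theorem L676811 : sm gj N49026 = N49026 := ded_53_1 (flp_i L676798) L655061 L676798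
theorem L676812 : sm gh N46854 = N49027 := rfl
theorem L676814 : sm ga N49027 = N46900 := ded_17_1 (flp_h L655595) (flp_a L655069) L676812
theorem L676816 : sm gf N49027 = N47930 := ded_47_1 (flp_h L666338) (flp_f L655073) L676812
theorem L676818 : sm gj N49027 = N49027 := ded_52_1 (flp_h L676812) L655075 L676812
theorem L676819 : sm gd N49027 = N48473 := ded_38_1 (flp_h L670835) L387284 (flp_h L648688) (flp_d L655071) L676812
theorem L676821 : sm gi N49027 = N46867 := ded_54_2 (flp_h L655218) (flp_i L356968) (flp_h L356896) L655067 L676812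
theorem L676823 : sm gh N46855 = N49028 := rfl
theorem L676825 : sm ga N49028 = N46901 := ded_17_1 (flp_h L655604) (flp_a L655078) L676823
theorem L676827 : sm gc N49028 = N46877 := ded_32_1 (flp_h L655331) (flp_c L655080) L676823
theorem L676829 : sm ge N49028 = N48609 := ded_43_1 L674183 L674175 L676823
theorem L676831 : sm gf N49028 = N49028 := ded_47_1 (flp_h L676823) L655084 L676823
theorem L676832 : sm gg N49028 = N46856 := ded_50_1 (flp_h L655087) L655076 L676823
theorem L676834 : sm gj N49028 = N47931 := ded_52_1 (flp_h L666347) (flp_j L655085) L676823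
theorem L676836 : sm gd N46856 = N49029 := rfl
theorem L676838 : sm ga N49029 = N46902 := ded_12_1 (flp_d L655615) (flp_a L655089) L676836
theorem L676840 : sm gf N49029 = N46859 := ded_35_2 (flp_d L655119) (flp_f L655095) L676836
theorem L676842 : sm gj N49029 = N46857 := ded_37_2 (flp_d L655099) (flp_j L655097) L676836
theorem L676844 : sm gc N49029 = N48684 := ded_27_1 L672507 L650549 (flp_d L649103) (flp_c L655091) L676836
theorem L676846 : sm gi N46856 = N49030 := rfl
theorem L676848 : sm ga N49030 = N46903 := ded_18_1 (flp_i L655623) (flp_a L655089) L676846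
theorem L676850 : sm gc N49030 = N46878 := ded_33_1 (flp_i L655345) (flp_c L655091) L676846
theorem L676852 : sm ge N49030 = N48610 := ded_44_1 (flp_i L671884) (flp_e L655093) L676846
theorem L676854 : sm gf N49030 = N46860 := ded_48_1 (flp_i L655130) (flp_f L655095) L676846
theorem L676856 : sm gj N49030 = N46858 := ded_53_1 (flp_i L655107) (flp_j L655097) L676846
theorem L676858 : sm gh N49030 = N48529 := ded_54_1 (flp_i L671215) L387580 (flp_i L648338) L655087 L676846
theorem L676860 : sm gc N46857 = N49031 := rfl
theorem L676862 : sm ga N49031 = N46904 := ded_11_1 (flp_c L655633) (flp_a L655101) L676860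
theorem L676864 : sm gf N49031 = N46861 := ded_29_2 (flp_c L655143) (flp_f L655103) L676860
theorem L676866 : sm gg N49031 = N47934 := ded_30_2 (flp_c L666376) (flp_g L655105) L676860
theorem L676868 : sm gj N49031 = N48684 := ded_31_2 (flp_c L676844) L676842 L676860
theorem L676870 : sm gd N49031 = N46879 := ded_27_2 (flp_c L655360) (flp_d L357074) (flp_c L356919) L655099 L676860
theorem L676872 : sm gb N48579 = N49031 := ded_22_3 L676864 (flp_b L655153) L671626
theorem L676874 : sm ge N46857 = N49032 := rfl
theorem L676876 : sm ga N49032 = N46905 := ded_13_1 (flp_e L655641) (flp_a L655101) L676874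
theorem L676878 : sm gg N49032 = N47935 := ded_41_2 (flp_e L666384) (flp_g L655105) L676874
theorem L676880 : sm gi N46857 = N49033 := rfl
theorem L676882 : sm ga N49033 = N46906 := ded_18_1 (flp_i L655647) (flp_a L655101) L676880
theorem L676884 : sm gd N49033 = N46858 := ded_39_1 (flp_i L655107) L655099 L676880
theorem L676886 : sm gf N49033 = N46863 := ded_48_1 (flp_i L655169) (flp_f L655103) L676880
theorem L676888 : sm gg N49033 = N47936 := ded_51_1 (flp_i L666388) (flp_g L655105) L676880
theorem L676890 : sm gi N46859 = N49034 := rfl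
theorem L676892 : sm ga N49034 = N46909 := ded_18_1 (flp_i L655681) (flp_a L655121) L676890
theorem L676894 : sm gc N49034 = N48686 := ded_33_1 (flp_i L672515) (flp_c L655126) L676890
theorem L676896 : sm gd N49034 = N46860 := ded_39_1 (flp_i L655130) L655119 L676890
theorem L676898 : sm ge N49034 = N48627 := ded_44_1 (flp_i L672002) (flp_e L655128) L676890
theorem L676900 : sm gg N49034 = N49034 := ded_51_1 (flp_i L676890) L655123 L676890
theorem L676901 : sm gj N49034 = N46863 := ded_53_1 (flp_i L655169) (flp_j L655124) L676890
theorem L676903 : sm gi N46861 = N49035 := rfl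
theorem L676905 : sm ga N49035 = N46912 := ded_18_1 (flp_i L655710) (flp_a L655145) L676903
theorem L676907 : sm gb N49035 = N48544 := ded_26_1 L671364 L655153 L676903
theorem L676909 : sm gc N49035 = N46863 := ded_33_1 (flp_i L655169) L655143 L676903
theorem L676911 : sm gd N49035 = N46881 := ded_39_1 (flp_i L655390) (flp_d L655151) L676903
theorem L676913 : sm ge N49035 = N48543 := ded_44_1 L671358 L655155 L676903
theorem L676915 : sm gg N49035 = N46864 := ded_51_1 (flp_i L655177) (flp_g L655147) L676903
theorem L676917 : sm gj N49035 = N48686 := ded_53_1 (flp_i L672515) (flp_j L655149) L676903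
theorem L676919 : sm gf N46862 = N49036 := rfl
theorem L676921 : sm ga N49036 = N46913 := ded_14_1 (flp_f L655718) (flp_a L655159) L676919
theorem L676923 : sm gc N49036 = N48532 := ded_29_1 L671248 (flp_c L655161) L676919
theorem L676925 : sm gd N49036 = N46868 := ded_35_1 (flp_f L655227) (flp_d L655167) L676919
theorem L676927 : sm gj N49036 = N48288 := ded_46_2 L669304 (flp_j L655165) L676919
theorem L676929 : sm gi N46862 = N49037 := rfl
theorem L676931 : sm ga N49037 = N46914 := ded_18_1 (flp_i L655724) (flp_a L655159) L676929
theorem L676933 : sm gc N49037 = N48543 := ded_33_1 L671358 (flp_c L655161) L676929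
theorem L676935 : sm gd N49037 = N46869 := ded_39_1 (flp_i L655238) (flp_d L655167) L676929
theorem L676937 : sm ge N49037 = N46863 := ded_44_1 (flp_i L655169) L655157 L676929
theorem L676939 : sm gg N49037 = N46866 := ded_51_1 (flp_i L655207) (flp_g L655163) L676929
theorem L676941 : sm gj N49037 = N48627 := ded_53_1 (flp_i L672002) (flp_j L655165) L676929
theorem L676943 : sm gh N46863 = N49038 := rfl
theorem L676945 : sm ga N49038 = N46915 := ded_17_1 (flp_h L655734) (flp_a L655171) L676943
theorem L676947 : sm gg N49038 = N46867 := ded_50_1 (flp_h L655218) (flp_g L655175) L676943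
theorem L676949 : sm gd N49038 = N48526 := ded_38_1 (flp_h L671195) L387534 (flp_h L501499) (flp_d L655173) L676943
theorem L676951 : sm gh N46864 = N49039 := rfl
theorem L676953 : sm ga N49039 = N46921 := ded_17_1 (flp_h L655807) (flp_a L655179) L676951
theorem L676955 : sm gb N49039 = N48524 := ded_25_1 L671186 (flp_b L655181) L676951
theorem L676957 : sm gc N49039 = N46867 := ded_32_1 (flp_h L655218) (flp_c L655183) L676951
theorem L676959 : sm ge N49039 = N48519 := ded_43_1 L671154 (flp_e L655187) L676951
theorem L676961 : sm gf N49039 = N47948 := ded_47_1 (flp_h L666499) (flp_f L655189) L676951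
theorem L676963 : sm gj N49039 = N49039 := ded_52_1 (flp_h L676951) L655191 L676951
theorem L676964 : sm gg N46865 = N49040 := rfl
theorem L676966 : sm ga N49040 = N46922 := ded_15_1 (flp_g L655814) (flp_a L655194) L676964
theorem L676968 : sm gb N49040 = N47425 := ded_23_1 L661021 (flp_b L655196) L676964
theorem L676970 : sm gc N49040 = N47744 := ded_30_1 L664344 (flp_c L655198) L676964
theorem L676972 : sm gd N49040 = N46871 := ded_36_1 (flp_g L655265) (flp_d L655200) L676964
theorem L676974 : sm ge N49040 = N47414 := ded_41_1 L660890 (flp_e L655205) L676964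
theorem L676976 : sm gh N49040 = N48360 := ded_50_2 L669894 (flp_h L655203) L676964
theorem L676978 : sm gi N46865 = N49041 := rfl
theorem L676980 : sm ga N49041 = N46923 := ded_18_1 (flp_i L655822) (flp_a L655194) L676978
theorem L676982 : sm gb N49041 = N47427 := ded_26_1 (flp_i L661037) (flp_b L655196) L676978
theorem L676984 : sm gc N49041 = N47665 := ded_33_1 L663362 (flp_c L655198) L676978
theorem L676986 : sm gd N49041 = N46872 := ded_39_1 (flp_i L655276) (flp_d L655200) L676978
theorem L676988 : sm ge N49041 = N47417 := ded_44_1 (flp_i L660921) (flp_e L655205) L676978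
theorem L676990 : sm gf N49041 = N46866 := ded_48_1 (flp_i L655207) L655192 L676978
theorem L676992 : sm gj N49041 = N49041 := ded_53_1 (flp_i L676978) L655202 L676978
theorem L676993 : sm gh N46866 = N49042 := rfl
theorem L676995 : sm ga N49042 = N46924 := ded_17_1 (flp_h L655833) (flp_a L655209) L676993
theorem L676997 : sm gc N49042 = N48519 := ded_32_1 L671154 (flp_c L655211) L676993
theorem L676999 : sm ge N49042 = N46867 := ded_43_1 (flp_h L655218) (flp_e L655215) L676993
theorem L677001 : sm gj N49042 = N49042 := ded_52_1 (flp_h L676993) L655217 L676993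
theorem L677002 : sm gg N46868 = N49043 := rfl
theorem L677004 : sm ga N49043 = N46928 := ded_15_1 (flp_g L655880) (flp_a L655229) L677002
theorem L677006 : sm gb N49043 = N47431 := ded_23_1 (flp_g L676617) L676608 L677002
theorem L677008 : sm gc N49043 = N47747 := ded_30_1 L664376 (flp_c L655231) L677002
theorem L677010 : sm ge N49043 = N48279 := ded_41_1 L669229 (flp_e L655236) L677002
theorem L677012 : sm gh N49043 = N49043 := ded_50_2 (flp_g L677002) L655235 L677002
theorem L677013 : sm gf N49043 = N46871 := ded_45_1 (flp_g L655265) (flp_f L357009) (flp_g L356998) L655227 L677002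
theorem L677015 : sm gi N46868 = N49044 := rfl
theorem L677017 : sm ga N49044 = N46929 := ded_18_1 (flp_i L655887) (flp_a L655229) L677015
theorem L677019 : sm gc N49044 = N48283 := ded_33_1 (flp_i L669257) (flp_c L655231) L677015
theorem L677021 : sm ge N49044 = N48282 := ded_44_1 (flp_i L669249) (flp_e L655236) L677015
theorem L677023 : sm gf N49044 = N46869 := ded_48_1 (flp_i L655238) L655227 L677015
theorem L677025 : sm gj N49044 = N48289 := ded_53_1 (flp_i L669308) (flp_j L655233) L677015
theorem L677027 : sm gh N46869 = N49045 := rfl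
theorem L677029 : sm ga N49045 = N46930 := ded_17_1 (flp_h L655893) (flp_a L655240) L677027
theorem L677031 : sm gc N49045 = N48074 := ded_32_1 L667639 (flp_c L655242) L677027
theorem L677033 : sm ge N49045 = N46870 := ded_43_1 (flp_h L655250) (flp_e L655244) L677027
theorem L677035 : sm gg N49045 = N46873 := ded_50_1 (flp_h L655289) (flp_g L655246) L677027
theorem L677037 : sm gj N49045 = N48628 := ded_52_1 (flp_h L672009) (flp_j L655248) L677027
theorem L677039 : sm gi N49045 = N49045 := ded_54_2 (flp_h L677027) (flp_i L655238) L357000 L655238 L677027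
theorem L677040 : sm gj N46871 = N49046 := rfl
theorem L677042 : sm ga N49046 = N46931 := ded_16_1 (flp_j L655902) (flp_a L655267) L677040
theorem L677044 : sm gb N49046 = N47429 := ded_24_1 L661068 (flp_b L655269) L677040
theorem L677046 : sm gc N49046 = N47749 := ded_31_1 L664395 (flp_c L655271) L677040
theorem L677048 : sm ge N49046 = N46874 := ded_42_1 (flp_j L655299) (flp_e L655273) L677040
theorem L677050 : sm gh N49046 = N49046 := ded_52_2 (flp_j L677040) L655275 L677040
theorem L677051 : sm gg N49046 = N49046 := ded_49_1 (flp_j L677040) (flp_g L655265) L357013 L655265 L677040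
theorem L677052 : sm gi N46871 = N49047 := rfl
theorem L677054 : sm ga N49047 = N46932 := ded_18_1 (flp_i L655910) (flp_a L655267) L677052
theorem L677056 : sm gb N49047 = N47432 := ded_26_1 (flp_i L661085) (flp_b L655269) L677052
theorem L677058 : sm gc N49047 = N47686 := ded_33_1 L663609 (flp_c L655271) L677052
theorem L677060 : sm ge N49047 = N46875 := ded_44_1 (flp_i L655309) (flp_e L655273) L677052
theorem L677062 : sm gg N49047 = N46872 := ded_51_1 (flp_i L655276) L655265 L677052
theorem L677064 : sm gh N46872 = N49048 := rfl
theorem L677066 : sm ga N49048 = N46933 := ded_17_1 (flp_h L655918) (flp_a L655278) L677064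
theorem L677068 : sm gb N49048 = N47434 := ded_25_1 (flp_h L661102) (flp_b L655280) L677064
theorem L677070 : sm gc N49048 = N46970 := ded_32_1 L656301 (flp_c L655282) L677064
theorem L677072 : sm ge N49048 = N46876 := ded_43_1 (flp_h L655319) (flp_e L655284) L677064
theorem L677074 : sm gf N49048 = N46873 := ded_47_1 (flp_h L655289) (flp_f L655286) L677064
theorem L677076 : sm gj N49048 = N49048 := ded_52_1 (flp_h L677064) L655288 L677064
theorem L677077 : sm gi N49048 = N49048 := ded_54_2 (flp_h L677064) (flp_i L655276) L357014 L655276 L677064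
theorem L677078 : sm gd N46873 = N49049 := rfl
theorem L677080 : sm ga N49049 = N46934 := ded_12_1 (flp_d L655928) (flp_a L655291) L677078
theorem L677082 : sm gj N49049 = N49049 := ded_37_2 (flp_d L677078) L655297 L677078
theorem L677083 : sm gi N49049 = N49049 := ded_39_2 (flp_d L677078) L655298 L677078
theorem L677084 : sm gc N49049 = N48058 := ded_27_1 (flp_d L667476) L380202 L380394 (flp_c L655293) L677078
theorem L677086 : sm ge N49049 = N47640 := ded_34_2 (flp_d L663103) L364221 (flp_d L503055) (flp_e L655295) L677078
theorem L677088 : sm gi N46874 = N49050 := rfl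
theorem L677090 : sm ga N49050 = N46935 := ded_18_1 (flp_i L655934) (flp_a L655301) L677088
theorem L677092 : sm gb N49050 = N47430 := ded_26_1 (flp_i L661071) (flp_b L655303) L677088
theorem L677094 : sm gd N49050 = N47418 := ded_39_1 (flp_i L660932) (flp_d L655305) L677088
theorem L677096 : sm gg N49050 = N49050 := ded_51_1 (flp_i L677088) L655308 L677088
theorem L677097 : sm gj N49050 = N46875 := ded_53_1 (flp_i L655309) L655299 L677088
theorem L677099 : sm gh N46875 = N49051 := rfl
theorem L677101 : sm ga N49051 = N46936 := ded_17_1 (flp_h L655943) (flp_a L655311) L677099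
theorem L677103 : sm gb N49051 = N47433 := ded_25_1 (flp_h L661093) (flp_b L655313) L677099
theorem L677105 : sm gg N49051 = N46876 := ded_50_1 (flp_h L655319) (flp_g L655317) L677099
theorem L677107 : sm gd N49051 = N47481 := ded_38_1 (flp_h L661565) (flp_d L553395) (flp_h L362235) (flp_d L655315) L677099
theorem L677109 : sm gi N49051 = N49051 := ded_54_2 (flp_h L677099) (flp_i L655309) L357038 L655309 L677099
theorem L677110 : sm gi N46877 = N49052 := rfl
theorem L677112 : sm ga N49052 = N46937 := ded_18_1 (flp_i L655950) (flp_a L655333) L677110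
theorem L677114 : sm gb N49052 = N49052 := ded_26_1 (flp_i L677110) L655335 L677110
theorem L677115 : sm gd N49052 = N48691 := ded_39_1 (flp_i L672559) L655343 L677110
theorem L677117 : sm ge N49052 = N48611 := ded_44_1 (flp_i L671890) (flp_e L655336) L677110
theorem L677119 : sm gf N49052 = N49052 := ded_48_1 (flp_i L677110) L655338 L677110
theorem L677120 : sm gg N49052 = N46878 := ded_51_1 (flp_i L655345) (flp_g L655339) L677110
theorem L677122 : sm gj N49052 = N47954 := ded_53_1 (flp_i L666568) (flp_j L655341) L677110
theorem L677124 : sm gh N49052 = N48724 := ded_54_1 (flp_i L672831) L650869 L648270 L655331 L677110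
theorem L677126 : sm gi N46879 = N49053 := rfl
theorem L677128 : sm ga N49053 = N46942 := ded_18_1 (flp_i L656006) (flp_a L655362) L677126
theorem L677130 : sm gb N49053 = N48727 := ded_26_1 L672850 L655373 L677126
theorem L677132 : sm gc N49053 = N46880 := ded_33_1 (flp_i L655375) L655360 L677126
theorem L677134 : sm ge N49053 = N48697 := ded_44_1 (flp_i L672614) (flp_e L655364) L677126
theorem L677136 : sm gf N49053 = N46881 := ded_48_1 (flp_i L655390) (flp_f L655366) L677126
theorem L677138 : sm gg N49053 = N47960 := ded_51_1 (flp_i L666629) (flp_g L655368) L677126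
theorem L677140 : sm gj N49053 = N48688 := ded_53_1 (flp_i L672530) (flp_j L655370) L677126
theorem L677142 : sm gh N46880 = N49054 := rfl
theorem L677144 : sm ga N49054 = N46944 := ded_17_1 (flp_h L656030) (flp_a L655377) L677142
theorem L677146 : sm gb N49054 = N49054 := ded_25_1 (flp_h L677142) L655379 L677142
theorem L677147 : sm ge N49054 = N48699 := ded_43_1 (flp_h L672632) (flp_e L655382) L677142
theorem L677149 : sm gf N49054 = N46882 := ded_47_1 (flp_h L655404) (flp_f L655384) L677142
theorem L677151 : sm gg N49054 = N47962 := ded_50_1 (flp_h L666649) (flp_g L655386) L677142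
theorem L677153 : sm gj N49054 = N48692 := ded_52_1 (flp_h L672567) (flp_j L655388) L677142
theorem L677155 : sm gd N49054 = N48712 := ded_38_1 (flp_h L672732) L650745 (flp_h L648256) (flp_d L655380) L677142
theorem L677157 : sm gi N49054 = N49054 := ded_54_2 (flp_h L677142) (flp_i L655375) L357083 L655375 L677142
theorem L677158 : sm gh N46881 = N49055 := rfl
theorem L677160 : sm ga N49055 = N46950 := ded_17_1 (flp_h L656091) (flp_a L655392) L677158
theorem L677162 : sm gb N49055 = N48710 := ded_25_1 L672720 (flp_b L655394) L677158
theorem L677164 : sm gc N49055 = N46882 := ded_32_1 (flp_h L655404) (flp_c L655396) L677158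
theorem L677166 : sm ge N49055 = N48679 := ded_43_1 (flp_h L672448) (flp_e L655398) L677158
theorem L677168 : sm gg N49055 = N46883 := ded_50_1 (flp_h L655418) (flp_g L655400) L677158
theorem L677170 : sm gj N49055 = N48689 := ded_52_1 (flp_h L672538) (flp_j L655402) L677158
theorem L677172 : sm gi N49055 = N49055 := ded_54_2 (flp_h L677158) (flp_i L655390) L357118 L655390 L677158
theorem L677173 : sm gd N46883 = N49056 := rfl
theorem L677175 : sm ga N49056 = N46953 := ded_12_1 (flp_d L656121) (flp_a L655420) L677173
theorem L677177 : sm gb N49056 = N48723 := ded_20_1 L672829 (flp_b L655422) L677173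
theorem L677179 : sm gf N49056 = N47971 := ded_35_2 (flp_d L666737) (flp_f L655428) L677173
theorem L677181 : sm gj N49056 = N49056 := ded_37_2 (flp_d L677173) L655430 L677173
theorem L677182 : sm gi N49056 = N49056 := ded_39_2 (flp_d L677173) L655431 L677173
theorem L677183 : sm gc N49056 = N48722 := ded_27_1 (flp_d L672819) L650831 L648535 (flp_c L655424) L677173
theorem L677185 : sm ge N49056 = N48719 := ded_34_2 (flp_d L672797) L650802 L650806 (flp_e L655426) L677173
theorem L677187 : sm gh N46884 = N49057 := rfl
theorem L677189 : sm gb N49057 = N47568 := ded_25_1 (flp_h L662543) (flp_b L655434) L677187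
theorem L677191 : sm gc N49057 = N49057 := ded_32_1 (flp_h L677187) L655436 L677187
theorem L677192 : sm ge N49057 = N46887 := ded_43_1 (flp_h L655466) (flp_e L655439) L677187
theorem L677194 : sm gf N49057 = N49057 := ded_47_1 (flp_h L677187) L655441 L677187
theorem L677195 : sm gg N49057 = N48736 := ded_50_1 L672904 (flp_g L655442) L677187
theorem L677197 : sm gj N49057 = N46885 := ded_52_1 (flp_h L655444) L655432 L677187
theorem L677199 : sm gd N46885 = N49058 := rfl
theorem L677201 : sm gb N49058 = N47569 := ded_20_1 (flp_d L662552) (flp_b L655446) L677199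
theorem L677203 : sm gf N49058 = N49058 := ded_35_2 (flp_d L677199) L655451 L677199
theorem L677204 : sm gg N49058 = N47972 := ded_36_2 (flp_d L666745) (flp_g L655452) L677199
theorem L677206 : sm gh N49058 = N48499 := ded_38_2 L671009 L387552 L648923 L655444 L677199
theorem L677208 : sm gi N46885 = N49059 := rfl
theorem L677210 : sm gb N49059 = N47570 := ded_26_1 (flp_i L662557) (flp_b L655446) L677208
theorem L677212 : sm gc N49059 = N49059 := ded_33_1 (flp_i L677208) L655448 L677208
theorem L677213 : sm ge N49059 = N46889 := ded_44_1 (flp_i L655485) (flp_e L655449) L677208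
theorem L677215 : sm gf N49059 = N49059 := ded_48_1 (flp_i L677208) L655451 L677208
theorem L677216 : sm gg N49059 = N47973 := ded_51_1 (flp_i L666755) (flp_g L655452) L677208
theorem L677218 : sm gh N46886 = N49060 := rfl
theorem L677220 : sm gb N49060 = N47571 := ded_25_1 (flp_h L662566) (flp_b L655456) L677218
theorem L677222 : sm gc N49060 = N49060 := ded_32_1 (flp_h L677218) L655458 L677218
theorem L677223 : sm ge N49060 = N48736 := ded_43_1 L672904 (flp_e L655461) L677218
theorem L677225 : sm gf N49060 = N49060 := ded_47_1 (flp_h L677218) L655463 L677218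
theorem L677226 : sm gg N49060 = N46887 := ded_50_1 (flp_h L655466) L655454 L677218
theorem L677228 : sm gj N49060 = N47974 := ded_52_1 (flp_h L666766) (flp_j L655464) L677218
theorem L677230 : sm gd N46887 = N49061 := rfl
theorem L677232 : sm gb N49061 = N47572 := ded_20_1 (flp_d L662575) (flp_b L655468) L677230
theorem L677234 : sm gf N49061 = N46890 := ded_35_2 (flp_d L655494) (flp_f L655471) L677230
theorem L677236 : sm gj N49061 = N46888 := ded_37_2 (flp_d L655475) (flp_j L655473) L677230
theorem L677238 : sm gh N49061 = N46902 := ded_38_2 (flp_d L655615) (flp_h L357238) (flp_d L357166) L655466 L677230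
theorem L677240 : sm gi N46887 = N49062 := rfl
theorem L677242 : sm gb N49062 = N47573 := ded_26_1 (flp_i L662583) (flp_b L655468) L677240
theorem L677244 : sm gc N49062 = N49062 := ded_33_1 (flp_i L677240) L655470 L677240
theorem L677245 : sm gf N49062 = N46891 := ded_48_1 (flp_i L655503) (flp_f L655471) L677240
theorem L677247 : sm gj N49062 = N46889 := ded_53_1 (flp_i L655485) (flp_j L655473) L677240
theorem L677249 : sm gc N46888 = N49063 := rfl
theorem L677251 : sm gf N49063 = N46892 := ded_29_2 (flp_c L655512) (flp_f L655479) L677249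
theorem L677253 : sm gg N49063 = N47977 := ded_30_2 (flp_c L666797) (flp_g L655481) L677249
theorem L677255 : sm gh N49063 = N46904 := ded_32_2 (flp_c L655633) (flp_h L655483) L677249
theorem L677257 : sm gd N49063 = N49063 := ded_27_2 (flp_c L677249) (flp_d L655475) L357174 L655475 L677249
theorem L677258 : sm ge N46888 = N49064 := rfl
theorem L677260 : sm gb N49064 = N47575 := ded_21_1 (flp_e L662603) (flp_b L655477) L677258
theorem L677262 : sm gg N49064 = N47978 := ded_41_2 (flp_e L666804) (flp_g L655481) L677258
theorem L677264 : sm gh N49064 = N46905 := ded_43_2 (flp_e L655641) (flp_h L655483) L677258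
theorem L677266 : sm gi N46888 = N49065 := rfl
theorem L677268 : sm gb N49065 = N47576 := ded_26_1 (flp_i L662609) (flp_b L655477) L677266
theorem L677270 : sm gd N49065 = N46889 := ded_39_1 (flp_i L655485) L655475 L677266
theorem L677272 : sm gf N49065 = N46894 := ded_48_1 (flp_i L655528) (flp_f L655479) L677266
theorem L677274 : sm gg N49065 = N47979 := ded_51_1 (flp_i L666810) (flp_g L655481) L677266
theorem L677276 : sm gc N46890 = N49066 := rfl
theorem L677278 : sm ga N49066 = N48685 := ded_11_1 L676731 L676724 L677276
theorem L677280 : sm gg N49066 = N49066 := ded_30_2 (flp_c L677276) L655498 L677276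
theorem L677281 : sm gj N49066 = N46892 := ded_31_2 (flp_c L655512) (flp_j L655499) L677276
theorem L677283 : sm gh N49066 = N46907 := ded_32_2 (flp_c L655657) (flp_h L655501) L677276
theorem L677285 : sm gd N49066 = N49066 := ded_27_2 (flp_c L677276) (flp_d L655494) L357183 L655494 L677276
theorem L677286 : sm ge N48673 = N49066 := ded_13_0 L677278 L672511 (flp_a L672395)
theorem L677288 : sm ge N46890 = N49067 := rfl
theorem L677290 : sm ga N49067 = N48626 := ded_13_1 L676733 L676724 L677288
theorem L677292 : sm gb N49067 = N47578 := ded_21_1 (flp_e L662628) (flp_b L655496) L677288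
theorem L677294 : sm gc N49067 = N48673 := ded_28_1 L677286 (flp_c L677276) L677288
theorem L677296 : sm gg N49067 = N49067 := ded_41_2 (flp_e L677288) L655498 L677288
theorem L677297 : sm gj N49067 = N46893 := ded_42_2 (flp_e L655519) (flp_j L655499) L677288
theorem L677299 : sm gh N49067 = N46908 := ded_43_2 (flp_e L655668) (flp_h L655501) L677288
theorem L677301 : sm gd N49067 = N49067 := ded_34_1 (flp_e L677288) (flp_d L655494) L357184 L655494 L677288
theorem L677302 : sm gi N46890 = N49068 := rfl
theorem L677304 : sm gb N49068 = N47579 := ded_26_1 (flp_i L662636) (flp_b L655496) L677302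
theorem L677306 : sm gd N49068 = N46891 := ded_39_1 (flp_i L655503) L655494 L677302
theorem L677308 : sm gg N49068 = N49068 := ded_51_1 (flp_i L677302) L655498 L677302
theorem L677309 : sm gj N49068 = N46894 := ded_53_1 (flp_i L655528) (flp_j L655499) L677302
theorem L677311 : sm gb N46892 = N49069 := rfl
theorem L677313 : sm gd N49069 = N49069 := ded_20_2 (flp_b L677311) L655518 L677311
theorem L677314 : sm gg N49069 = N46895 := ded_23_2 (flp_b L655536) (flp_g L655514) L677311
theorem L677316 : sm gh N49069 = N46910 := ded_25_2 (flp_b L655690) (flp_h L655516) L677311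
theorem L677318 : sm ga N49069 = N47611 := ded_10_1 L662889 (flp_a L662243) (flp_b L676756) L676748 L677311
theorem L677320 : sm gc N49069 = N47580 := ded_19_2 (flp_b L662643) (flp_c L363931) (flp_b L357190) L655512 L677311
theorem L677322 : sm ge N47610 = N49069 := ded_41_3 L677314 (flp_e L655548) (flp_g L662885)
theorem L677324 : sm ge N46892 = N49070 := rfl
theorem L677326 : sm ga N49070 = N47538 := ded_13_1 L676759 L676748 L677324
theorem L677328 : sm gb N49070 = N47610 := ded_21_1 L677322 (flp_b L677311) L677324
theorem L677330 : sm gc N49070 = N46893 := ded_28_1 (flp_e L655519) L655512 L677324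
theorem L677332 : sm gg N49070 = N46896 := ded_41_2 (flp_e L655550) (flp_g L655514) L677324
theorem L677334 : sm gj N49070 = N48673 := ded_42_2 L677286 L677281 L677324
theorem L677336 : sm gh N49070 = N46911 := ded_43_2 (flp_e L655698) (flp_h L655516) L677324
theorem L677338 : sm gd N47564 = N49070 := ded_12_0 L677326 L662233 L662490
theorem L677340 : sm gi N46892 = N49071 := rfl
theorem L677342 : sm gc N49071 = N46894 := ded_33_1 (flp_i L655528) L655512 L677340
theorem L677344 : sm gd N49071 = N49071 := ded_39_1 (flp_i L677340) L655518 L677340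
theorem L677345 : sm gg N49071 = N46897 := ded_51_1 (flp_i L655565) (flp_g L655514) L677340
theorem L677347 : sm gf N46893 = N49072 := rfl
theorem L677349 : sm gb N49072 = N47583 := ded_22_1 (flp_f L662673) (flp_b L655521) L677347
theorem L677351 : sm gd N49072 = N49072 := ded_35_1 (flp_f L677347) L655527 L677347
theorem L677352 : sm gh N49072 = N46913 := ded_47_2 (flp_f L655718) (flp_h L655525) L677347
theorem L677354 : sm gi N46893 = N49073 := rfl
theorem L677356 : sm gb N49073 = N47584 := ded_26_1 (flp_i L662678) (flp_b L655521) L677354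
theorem L677358 : sm gd N49073 = N49073 := ded_39_1 (flp_i L677354) L655527 L677354
theorem L677359 : sm ge N49073 = N46894 := ded_44_1 (flp_i L655528) L655519 L677354
theorem L677361 : sm gg N49073 = N46899 := ded_51_1 (flp_i L655587) (flp_g L655523) L677354
theorem L677363 : sm gh N46894 = N49074 := rfl
theorem L677365 : sm gb N49074 = N47585 := ded_25_1 (flp_h L662685) (flp_b L655530) L677363
theorem L677367 : sm gg N49074 = N46900 := ded_50_1 (flp_h L655595) (flp_g L655534) L677363
theorem L677369 : sm gi N49074 = N46915 := ded_54_2 (flp_h L655734) (flp_i L357298) (flp_h L357194) L655528 L677363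
theorem L677371 : sm gi N46895 = N49075 := rfl
theorem L677373 : sm ga N49075 = N47621 := ded_18_1 (flp_i L662963) (flp_a L655544) L677371
theorem L677375 : sm gb N49075 = N46897 := ded_26_1 (flp_i L655565) L655536 L677371
theorem L677377 : sm gc N49075 = N47586 := ded_33_1 (flp_i L662691) (flp_c L655546) L677371
theorem L677379 : sm gd N49075 = N49075 := ded_39_1 (flp_i L677371) L655538 L677371

end Cfsg.Agent.Helper28.FicA
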