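import Cfsg.Agent.Helper28.FicB35

/-! # The Fi₂₃ presentation, cosets of the subgroup generated by a, …, i: the coset enumeration, part 36 (helper28; generated) -/

set_option autoImplicit false

noncomputable section

namespace Cfsg.Agent.Helper28.FicA

open Cfsg.Agent.Helper28.CosetTable

theorem L677380 : sm ge N49075 = N47619 := ded_44_1 (flp_i L662940) L655548 L677371
theorem L677382 : sm gf N49075 = N47989 := ded_48_1 (flp_i L666912) (flp_f L655539) L677371
theorem L677384 : sm gj N49075 = N49075 := ded_53_1 (flp_i L677371) L655541 L677371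
theorem L677385 : sm gi N46896 = N49076 := rfl
theorem L677387 : sm ga N49076 = N47544 := ded_18_1 (flp_i L662284) (flp_a L655552) L677385
theorem L677389 : sm gb N49076 = N47619 := ded_26_1 (flp_i L662940) (flp_b L655554) L677385
theorem L677391 : sm gc N49076 = N46899 := ded_33_1 (flp_i L655587) (flp_c L655556) L677385
theorem L677393 : sm gd N49076 = N47566 := ded_39_1 (flp_i L662514) (flp_d L655561) L677385
theorem L677395 : sm ge N49076 = N46897 := ded_44_1 (flp_i L655565) L655550 L677385
theorem L677397 : sm gf N49076 = N48420 := ded_48_1 (flp_i L670404) L655563 L677385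
theorem L677399 : sm gj N49076 = N49076 := ded_53_1 (flp_i L677385) L655558 L677385
theorem L677400 : sm gh N46897 = N49077 := rfl
theorem L677402 : sm gc N49077 = N46900 := ded_32_1 (flp_h L655595) (flp_c L655567) L677400
theorem L677404 : sm gf N49077 = N47991 := ded_47_1 (flp_h L666927) (flp_f L655570) L677400
theorem L677406 : sm gj N49077 = N49077 := ded_52_1 (flp_h L677400) L655572 L677400
theorem L677407 : sm gi N49077 = N46921 := ded_54_2 (flp_h L655807) (flp_i L357320) (flp_h L357209) L655565 L677400
theorem L677409 : sm gg N46898 = N49078 := rfl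
theorem L677411 : sm ga N49078 = N48360 := ded_15_1 L669894 (flp_a L655575) L677409
theorem L677413 : sm gb N49078 = N47590 := ded_23_1 (flp_g L662739) (flp_b L655577) L677409
theorem L677415 : sm gc N49078 = N48417 := ded_30_1 L670384 (flp_c L655579) L677409
theorem L677417 : sm gd N49078 = N49078 := ded_36_1 (flp_g L677409) L655581 L677409
theorem L677418 : sm ge N49078 = N47992 := ded_41_1 (flp_g L666934) (flp_e L655585) L677409
theorem L677420 : sm gh N49078 = N46922 := ded_50_2 (flp_g L655814) (flp_h L655583) L677409
theorem L677422 : sm gi N46898 = N49079 := rfl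
theorem L677424 : sm ga N49079 = N48367 := ded_18_1 (flp_i L669941) (flp_a L655575) L677422
theorem L677426 : sm gb N49079 = N47591 := ded_26_1 (flp_i L662746) (flp_b L655577) L677422
theorem L677428 : sm gc N49079 = N48420 := ded_33_1 (flp_i L670404) (flp_c L655579) L677422
theorem L677430 : sm gd N49079 = N49079 := ded_39_1 (flp_i L677422) L655581 L677422
theorem L677431 : sm ge N49079 = N47993 := ded_44_1 (flp_i L666944) (flp_e L655585) L677422
theorem L677433 : sm gf N49079 = N46899 := ded_48_1 (flp_i L655587) L655573 L677422
theorem L677435 : sm gj N49079 = N49079 := ded_53_1 (flp_i L677422) L655582 L677422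
theorem L677436 : sm gh N46899 = N49080 := rfl
theorem L677438 : sm gb N49080 = N47592 := ded_25_1 (flp_h L662754) (flp_b L655589) L677436
theorem L677440 : sm ge N49080 = N46900 := ded_43_1 (flp_h L655595) (flp_e L655592) L677436
theorem L677442 : sm gj N49080 = N49080 := ded_52_1 (flp_h L677436) L655594 L677436
theorem L677443 : sm gi N49080 = N46924 := ded_54_2 (flp_h L655833) (flp_i L357338) (flp_h L357217) L655587 L677436
theorem L677445 : sm gd N46901 = N49081 := rfl
theorem L677447 : sm gb N49081 = N47593 := ded_20_1 (flp_d L662761) (flp_b L655606) L677445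
theorem L677449 : sm gf N49081 = N49081 := ded_35_2 (flp_d L677445) L655610 L677445
theorem L677450 : sm gg N49081 = N46902 := ded_36_2 (flp_d L655615) (flp_g L655611) L677445
theorem L677452 : sm gj N49081 = N47995 := ded_37_2 (flp_d L666964) (flp_j L655613) L677445
theorem L677454 : sm gi N46901 = N49082 := rfl
theorem L677456 : sm gb N49082 = N47594 := ded_26_1 (flp_i L662768) (flp_b L655606) L677454
theorem L677458 : sm gc N49082 = N46937 := ded_33_1 (flp_i L655950) (flp_c L655608) L677454
theorem L677460 : sm gf N49082 = N49082 := ded_48_1 (flp_i L677454) L655610 L677454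
theorem L677461 : sm gg N49082 = N46903 := ded_51_1 (flp_i L655623) (flp_g L655611) L677454
theorem L677463 : sm gj N49082 = N47996 := ded_53_1 (flp_i L666971) (flp_j L655613) L677454
theorem L677465 : sm gc N46902 = N49083 := rfl
theorem L677467 : sm ga N49083 = N48684 := ded_11_1 (flp_c L676844) L676838 L677465
theorem L677469 : sm gf N49083 = N46907 := ded_29_2 (flp_c L655657) (flp_f L655619) L677465
theorem L677471 : sm gj N49083 = N46904 := ded_31_2 (flp_c L655633) (flp_j L655621) L677465
theorem L677473 : sm gd N49083 = N46938 := ded_27_2 (flp_c L655959) (flp_d L357456) (flp_c L357242) L655615 L677465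
theorem L677475 : sm ge N46902 = N49084 := rfl
theorem L677477 : sm gb N49084 = N47596 := ded_21_1 (flp_e L662785) (flp_b L655617) L677475
theorem L677479 : sm gj N49084 = N46905 := ded_42_2 (flp_e L655641) (flp_j L655621) L677475
theorem L677481 : sm gi N46902 = N49085 := rfl
theorem L677483 : sm gb N49085 = N47597 := ded_26_1 (flp_i L662789) (flp_b L655617) L677481
theorem L677485 : sm gd N49085 = N46903 := ded_39_1 (flp_i L655623) L655615 L677481
theorem L677487 : sm gf N49085 = N46909 := ded_48_1 (flp_i L655681) (flp_f L655619) L677481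
theorem L677489 : sm gj N49085 = N46906 := ded_53_1 (flp_i L655647) (flp_j L655621) L677481
theorem L677491 : sm gb N46904 = N49086 := rfl
theorem L677493 : sm gd N49086 = N46940 := ded_20_2 (flp_b L655984) (flp_d L655639) L677491
theorem L677495 : sm gf N49086 = N46910 := ded_22_2 (flp_b L655690) (flp_f L655635) L677491
theorem L677497 : sm gg N49086 = N48000 := ded_23_2 (flp_b L667004) (flp_g L655637) L677491
theorem L677499 : sm gc N49086 = N47598 := ded_19_2 (flp_b L662797) (flp_c L364021) (flp_b L357250) L655633 L677491
theorem L677501 : sm ge N46904 = N49087 := rfl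
theorem L677503 : sm gc N49087 = N46905 := ded_28_1 (flp_e L655641) L655633 L677501
theorem L677505 : sm gg N49087 = N48001 := ded_41_2 (flp_e L667012) (flp_g L655637) L677501
theorem L677507 : sm gi N46904 = N49088 := rfl
theorem L677509 : sm gc N49088 = N46906 := ded_33_1 (flp_i L655647) L655633 L677507
theorem L677511 : sm gd N49088 = N46942 := ded_39_1 (flp_i L656006) (flp_d L655639) L677507
theorem L677513 : sm gf N49088 = N46912 := ded_48_1 (flp_i L655710) (flp_f L655635) L677507
theorem L677515 : sm gg N49088 = N48002 := ded_51_1 (flp_i L667016) (flp_g L655637) L677507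
theorem L677517 : sm gf N46905 = N49089 := rfl
theorem L677519 : sm gb N49089 = N47601 := ded_22_1 (flp_f L662821) (flp_b L655643) L677517
theorem L677521 : sm ge N49089 = N46913 := ded_40_1 (flp_f L655718) (flp_e L357290) (flp_f L357252) L655641 L677517
theorem L677523 : sm gi N46905 = N49090 := rfl
theorem L677525 : sm gb N49090 = N47602 := ded_26_1 (flp_i L662825) (flp_b L655643) L677523
theorem L677527 : sm ge N49090 = N46906 := ded_44_1 (flp_i L655647) L655641 L677523
theorem L677529 : sm gg N49090 = N48004 := ded_51_1 (flp_i L667030) (flp_g L655645) L677523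
theorem L677531 : sm gh N46906 = N49091 := rfl
theorem L677533 : sm gb N49091 = N47603 := ded_25_1 (flp_h L662831) (flp_b L655649) L677531
theorem L677535 : sm gf N49091 = N46915 := ded_47_1 (flp_h L655734) (flp_f L655653) L677531
theorem L677537 : sm gg N49091 = N48005 := ded_50_1 (flp_h L667036) (flp_g L655655) L677531
theorem L677539 : sm gb N46907 = N49092 := rfl
theorem L677541 : sm gd N49092 = N46945 := ded_20_2 (flp_b L656039) (flp_d L655664) L677539
theorem L677543 : sm ge N49092 = N48670 := ded_21_2 L672368 L655666 L677539
theorem L677545 : sm gg N49092 = N49092 := ded_23_2 (flp_b L677539) L655661 L677539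
theorem L677546 : sm gj N49092 = N46910 := ded_24_2 (flp_b L655690) (flp_j L655662) L677539
theorem L677548 : sm gc N49092 = N47604 := ded_19_2 (flp_b L662837) (flp_c L364041) (flp_b L357268) L655657 L677539
theorem L677550 : sm gi N46907 = N49093 := rfl
theorem L677552 : sm ga N49093 = N48686 := ded_18_1 (flp_i L672515) (flp_a L655659) L677550
theorem L677554 : sm gc N49093 = N46909 := ded_33_1 (flp_i L655681) L655657 L677550
theorem L677556 : sm gd N49093 = N46946 := ded_39_1 (flp_i L656049) (flp_d L655664) L677550
theorem L677558 : sm ge N49093 = N48674 := ded_44_1 (flp_i L672400) L655666 L677550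
theorem L677560 : sm gg N49093 = N49093 := ded_51_1 (flp_i L677550) L655661 L677550
theorem L677561 : sm gj N49093 = N46912 := ded_53_1 (flp_i L655710) (flp_j L655662) L677550
theorem L677563 : sm gf N46908 = N49094 := rfl
theorem L677565 : sm ga N49094 = N48288 := ded_14_1 L669304 (flp_a L655670) L677563
theorem L677567 : sm gb N49094 = N47607 := ded_22_1 (flp_f L662861) (flp_b L655672) L677563
theorem L677569 : sm gc N49094 = N48431 := ded_29_1 L670510 (flp_c L655674) L677563
theorem L677571 : sm gd N49094 = N46925 := ded_35_1 (flp_f L655840) (flp_d L655679) L677563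
theorem L677573 : sm gj N49094 = N46913 := ded_46_2 (flp_f L655718) (flp_j L655677) L677563
theorem L677575 : sm gi N46908 = N49095 := rfl
theorem L677577 : sm ga N49095 = N48627 := ded_18_1 (flp_i L672002) (flp_a L655670) L677575
theorem L677579 : sm gb N49095 = N47608 := ded_26_1 (flp_i L662867) (flp_b L655672) L677575
theorem L677581 : sm gc N49095 = N48674 := ded_33_1 (flp_i L672400) (flp_c L655674) L677575
theorem L677583 : sm gd N49095 = N46926 := ded_39_1 (flp_i L655853) (flp_d L655679) L677575
theorem L677585 : sm ge N49095 = N46909 := ded_44_1 (flp_i L655681) L655668 L677575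
theorem L677587 : sm gg N49095 = N49095 := ded_51_1 (flp_i L677575) L655676 L677575
theorem L677588 : sm gj N49095 = N46914 := ded_53_1 (flp_i L655724) (flp_j L655677) L677575
theorem L677590 : sm gh N46909 = N49096 := rfl
theorem L677592 : sm gb N49096 = N47609 := ded_25_1 (flp_h L662876) (flp_b L655683) L677590
theorem L677594 : sm gg N49096 = N49096 := ded_50_1 (flp_h L677590) L655687 L677590
theorem L677595 : sm gj N49096 = N46915 := ded_52_1 (flp_h L655734) (flp_j L655688) L677590
theorem L677597 : sm ga N46910 = N49097 := rfl
theorem L677599 : sm gc N49097 = N47610 := ded_11_2 (flp_a L662881) (flp_c L655696) L677597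
theorem L677601 : sm gd N49097 = N46948 := ded_12_2 (flp_a L656072) (flp_d L655692) L677597
theorem L677603 : sm gg N49097 = N46916 := ded_15_2 (flp_a L655740) (flp_g L655694) L677597
theorem L677605 : sm gh N49097 = N47611 := ded_17_2 (flp_a L677318) L677316 L677597
theorem L677607 : sm gb N49097 = N47581 := ded_10_2 L662653 L655153 L655145 L655690 L677597
theorem L677609 : sm ge N47580 = N49097 := ded_28_0 L677599 L677322 L677320
theorem L677611 : sm ge N46910 = N49098 := rfl
theorem L677613 : sm ga N49098 = N47580 := ded_13_1 L677609 (flp_a L677597) L677611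
theorem L677615 : sm gb N49098 = N46911 := ded_21_1 (flp_e L655698) L655690 L677611
theorem L677617 : sm gc N49098 = N47611 := ded_28_1 (flp_e L662887) (flp_c L655696) L677611
theorem L677619 : sm gg N49098 = N46917 := ded_41_2 (flp_e L655755) (flp_g L655694) L677611
theorem L677621 : sm gj N49098 = N48670 := ded_42_2 (flp_e L677543) L677546 L677611
theorem L677623 : sm gh N49098 = N47610 := ded_43_2 L677322 L677316 L677611
theorem L677625 : sm gd N49098 = N47719 := ded_34_1 L664009 (flp_d L651668) L651670 (flp_d L655692) L677611
theorem L677627 : sm gi N46910 = N49099 := rfl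
theorem L677629 : sm gb N49099 = N46912 := ded_26_1 (flp_i L655710) L655690 L677627
theorem L677631 : sm gc N49099 = N47612 := ded_33_1 (flp_i L662894) (flp_c L655696) L677627
theorem L677633 : sm gd N49099 = N46949 := ded_39_1 (flp_i L656083) (flp_d L655692) L677627
theorem L677635 : sm gg N49099 = N46918 := ded_51_1 (flp_i L655770) (flp_g L655694) L677627
theorem L677637 : sm gf N46911 = N49100 := rfl
theorem L677639 : sm ga N49100 = N48532 := ded_14_1 L671248 (flp_a L655700) L677637
theorem L677641 : sm gc N49100 = N46913 := ded_29_1 (flp_f L655718) (flp_c L655702) L677637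
theorem L677643 : sm gd N49100 = N48425 := ded_35_1 L670456 (flp_d L655708) L677637
theorem L677645 : sm gj N49100 = N48431 := ded_46_2 L670510 (flp_j L655706) L677637
theorem L677647 : sm gi N46911 = N49101 := rfl
theorem L677649 : sm ga N49101 = N48543 := ded_18_1 L671358 (flp_a L655700) L677647
theorem L677651 : sm gc N49101 = N46914 := ded_33_1 (flp_i L655724) (flp_c L655702) L677647
theorem L677653 : sm gd N49101 = N48542 := ded_39_1 L671348 (flp_d L655708) L677647
theorem L677655 : sm ge N49101 = N46912 := ded_44_1 (flp_i L655710) L655698 L677647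
theorem L677657 : sm gg N49101 = N46920 := ded_51_1 (flp_i L655796) (flp_g L655704) L677647
theorem L677659 : sm gj N49101 = N48674 := ded_53_1 (flp_i L672400) (flp_j L655706) L677647
theorem L677661 : sm gh N46912 = N49102 := rfl
theorem L677663 : sm gc N49102 = N46915 := ded_32_1 (flp_h L655734) (flp_c L655712) L677661
theorem L677665 : sm gg N49102 = N46921 := ded_50_1 (flp_h L655807) (flp_g L655716) L677661
theorem L677667 : sm gg N46913 = N49103 := rfl
theorem L677669 : sm gb N49103 = N47616 := ded_23_1 (flp_g L662922) (flp_b L655720) L677667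
theorem L677671 : sm gd N49103 = N46928 := ded_36_1 (flp_g L655880) (flp_d L655722) L677667
theorem L677673 : sm gf N49103 = N46922 := ded_45_1 (flp_g L655814) (flp_f L357329) (flp_g L357294) L655718 L677667
theorem L677675 : sm gi N46913 = N49104 := rfl
theorem L677677 : sm gb N49104 = N47617 := ded_26_1 (flp_i L662928) (flp_b L655720) L677675
theorem L677679 : sm gd N49104 = N46929 := ded_39_1 (flp_i L655887) (flp_d L655722) L677675
theorem L677681 : sm gf N49104 = N46914 := ded_48_1 (flp_i L655724) L655718 L677675
theorem L677683 : sm gh N46914 = N49105 := rfl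
theorem L677685 : sm gb N49105 = N47618 := ded_25_1 (flp_h L662934) (flp_b L655726) L677683
theorem L677687 : sm ge N49105 = N46915 := ded_43_1 (flp_h L655734) (flp_e L655730) L677683
theorem L677689 : sm gg N49105 = N46924 := ded_50_1 (flp_h L655833) (flp_g L655732) L677683
theorem L677691 : sm gi N46916 = N49106 := rfl
theorem L677693 : sm ga N49106 = N46918 := ded_18_1 (flp_i L655770) L655740 L677691
theorem L677695 : sm gb N49106 = N47588 := ded_26_1 (flp_i L662715) (flp_b L655751) L677691
theorem L677697 : sm gc N49106 = N47619 := ded_33_1 (flp_i L662940) (flp_c L655742) L677691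
theorem L677699 : sm gd N49106 = N46951 := ded_39_1 (flp_i L656098) (flp_d L655744) L677691
theorem L677701 : sm ge N49106 = N47586 := ded_44_1 (flp_i L662691) L655753 L677691
theorem L677703 : sm gf N49106 = N48022 := ded_48_1 (flp_i L667183) (flp_f L655746) L677691
theorem L677705 : sm gj N49106 = N49106 := ded_53_1 (flp_i L677691) L655748 L677691
theorem L677706 : sm gi N46917 = N49107 := rfl
theorem L677708 : sm ga N49107 = N47586 := ded_18_1 (flp_i L662691) (flp_a L655757) L677706
theorem L677710 : sm gb N49107 = N46920 := ded_26_1 (flp_i L655796) (flp_b L655759) L677706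
theorem L677712 : sm gc N49107 = N47621 := ded_33_1 (flp_i L662963) (flp_c L655761) L677706
theorem L677714 : sm gd N49107 = N47721 := ded_39_1 (flp_i L664030) (flp_d L655766) L677706
theorem L677716 : sm ge N49107 = N46918 := ded_44_1 (flp_i L655770) L655755 L677706
theorem L677718 : sm gf N49107 = N48465 := ded_48_1 (flp_i L670776) L655768 L677706
theorem L677720 : sm gj N49107 = N49107 := ded_53_1 (flp_i L677706) L655763 L677706
theorem L677721 : sm gh N46918 = N49108 := rfl
theorem L677723 : sm gb N49108 = N46921 := ded_25_1 (flp_h L655807) (flp_b L655772) L677721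
theorem L677725 : sm gc N49108 = N47622 := ded_32_1 (flp_h L662971) (flp_c L655774) L677721
theorem L677727 : sm gf N49108 = N48025 := ded_47_1 (flp_h L667216) (flp_f L655778) L677721
theorem L677729 : sm gj N49108 = N49108 := ded_52_1 (flp_h L677721) L655780 L677721
theorem L677730 : sm gg N46919 = N49109 := rfl
theorem L677732 : sm ga N49109 = N47744 := ded_15_1 L664344 (flp_a L655783) L677730
theorem L677734 : sm gb N49109 = N48456 := ded_23_1 L670709 (flp_b L655785) L677730
theorem L677736 : sm gc N49109 = N46922 := ded_30_1 (flp_g L655814) (flp_c L655787) L677730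
theorem L677738 : sm gd N49109 = N47743 := ded_36_1 L664338 (flp_d L655789) L677730
theorem L677740 : sm ge N49109 = N48026 := ded_41_1 (flp_g L667223) (flp_e L655794) L677730
theorem L677742 : sm gh N49109 = N48417 := ded_50_2 L670384 (flp_h L655792) L677730
theorem L677744 : sm gi N46919 = N49110 := rfl
theorem L677746 : sm ga N49110 = N47665 := ded_18_1 L663362 (flp_a L655783) L677744
theorem L677748 : sm gb N49110 = N48465 := ded_26_1 (flp_i L670776) (flp_b L655785) L677744
theorem L677750 : sm gc N49110 = N46923 := ded_33_1 (flp_i L655822) (flp_c L655787) L677744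
theorem L677752 : sm gd N49110 = N47664 := ded_39_1 L663353 (flp_d L655789) L677744
theorem L677754 : sm ge N49110 = N48027 := ded_44_1 (flp_i L667228) (flp_e L655794) L677744
theorem L677756 : sm gf N49110 = N46920 := ded_48_1 (flp_i L655796) L655781 L677744
theorem L677758 : sm gj N49110 = N49110 := ded_53_1 (flp_i L677744) L655791 L677744
theorem L677759 : sm gh N46920 = N49111 := rfl
theorem L677761 : sm ga N49111 = N48519 := ded_17_1 L671154 (flp_a L655798) L677759
theorem L677763 : sm gc N49111 = N46924 := ded_32_1 (flp_h L655833) (flp_c L655800) L677759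
theorem L677765 : sm ge N49111 = N46921 := ded_43_1 (flp_h L655807) (flp_e L655804) L677759
theorem L677767 : sm gj N49111 = N49111 := ded_52_1 (flp_h L677759) L655806 L677759
theorem L677768 : sm gd N49111 = N48515 := ded_38_1 (flp_h L671122) L387476 L387862 (flp_d L655802) L677759
theorem L677770 : sm gd N46921 = N49112 := rfl
theorem L677772 : sm gf N49112 = N48029 := ded_35_2 (flp_d L667243) (flp_f L655811) L677770
theorem L677774 : sm gj N49112 = N49112 := ded_37_2 (flp_d L677770) L655813 L677770
theorem L677775 : sm gh N49112 = N46953 := ded_38_2 (flp_d L656121) (flp_h L357549) (flp_d L357324) L655807 L677770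
theorem L677777 : sm gj N46922 = N49113 := rfl
theorem L677779 : sm gb N49113 = N47627 := ded_24_1 (flp_j L663015) (flp_b L655816) L677777
theorem L677781 : sm gd N49113 = N46931 := ded_37_1 (flp_j L655902) (flp_d L655818) L677777
theorem L677783 : sm ge N49113 = N48030 := ded_42_1 (flp_j L667248) (flp_e L655820) L677777
theorem L677785 : sm gg N49113 = N49113 := ded_49_1 (flp_j L677777) (flp_g L655814) L357335 L655814 L677777
theorem L677786 : sm gi N46922 = N49114 := rfl
theorem L677788 : sm gb N49114 = N47628 := ded_26_1 (flp_i L663022) (flp_b L655816) L677786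
theorem L677790 : sm gd N49114 = N46932 := ded_39_1 (flp_i L655910) (flp_d L655818) L677786
theorem L677792 : sm ge N49114 = N48031 := ded_44_1 (flp_i L667255) (flp_e L655820) L677786
theorem L677794 : sm gg N49114 = N46923 := ded_51_1 (flp_i L655822) L655814 L677786
theorem L677796 : sm gh N46923 = N49115 := rfl
theorem L677798 : sm gb N49115 = N47629 := ded_25_1 (flp_h L663030) (flp_b L655824) L677796
theorem L677800 : sm ge N49115 = N48032 := ded_43_1 (flp_h L667263) (flp_e L655828) L677796
theorem L677802 : sm gf N49115 = N46924 := ded_47_1 (flp_h L655833) (flp_f L655830) L677796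
theorem L677804 : sm gj N49115 = N49115 := ded_52_1 (flp_h L677796) L655832 L677796
theorem L677805 : sm gd N46924 = N49116 := rfl
theorem L677807 : sm gb N49116 = N47630 := ded_20_1 (flp_d L663037) (flp_b L655835) L677805
theorem L677809 : sm gj N49116 = N49116 := ded_37_2 (flp_d L677805) L655839 L677805
theorem L677810 : sm gh N49116 = N46934 := ded_38_2 (flp_d L655928) (flp_h L357407) (flp_d L357342) L655833 L677805
theorem L677812 : sm gg N46925 = N49117 := rfl
theorem L677814 : sm ga N49117 = N47369 := ded_15_1 L660381 (flp_a L655842) L677812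
theorem L677816 : sm gb N49117 = N47631 := ded_23_1 (flp_g L663042) (flp_b L655844) L677812
theorem L677818 : sm gc N49117 = N47301 := ded_30_1 L659810 (flp_c L655846) L677812
theorem L677820 : sm ge N49117 = N47300 := ded_41_1 L659802 (flp_e L655851) L677812
theorem L677822 : sm gh N49117 = N49117 := ded_50_2 (flp_g L677812) L655850 L677812
theorem L677823 : sm gf N49117 = N49117 := ded_45_1 (flp_g L677812) (flp_f L655840) L357358 L655840 L677812
theorem L677824 : sm gi N46925 = N49118 := rfl
theorem L677826 : sm ga N49118 = N48289 := ded_18_1 (flp_i L669308) (flp_a L655842) L677824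
theorem L677828 : sm gb N49118 = N47632 := ded_26_1 (flp_i L663047) (flp_b L655844) L677824
theorem L677830 : sm gc N49118 = N48221 := ded_33_1 (flp_i L668839) (flp_c L655846) L677824
theorem L677832 : sm ge N49118 = N48220 := ded_44_1 (flp_i L668831) (flp_e L655851) L677824
theorem L677834 : sm gf N49118 = N46926 := ded_48_1 (flp_i L655853) L655840 L677824
theorem L677836 : sm gj N49118 = N46929 := ded_53_1 (flp_i L655887) (flp_j L655848) L677824
theorem L677838 : sm gh N46926 = N49119 := rfl
theorem L677840 : sm ga N49119 = N48628 := ded_17_1 (flp_h L672009) (flp_a L655855) L677838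
theorem L677842 : sm gb N49119 = N47633 := ded_25_1 (flp_h L663054) (flp_b L655857) L677838
theorem L677844 : sm gc N49119 = N48602 := ded_32_1 (flp_h L671826) (flp_c L655859) L677838
theorem L677846 : sm ge N49119 = N46927 := ded_43_1 (flp_h L655866) (flp_e L655861) L677838
theorem L677848 : sm gg N49119 = N49119 := ded_50_1 (flp_h L677838) L655863 L677838
theorem L677849 : sm gj N49119 = N46930 := ded_52_1 (flp_h L655893) (flp_j L655864) L677838
theorem L677851 : sm gi N49119 = N49119 := ded_54_2 (flp_h L677838) (flp_i L655853) L357361 L655853 L677838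
theorem L677852 : sm gj N46928 = N49120 := rfl
theorem L677854 : sm gb N49120 = N47634 := ded_24_1 (flp_j L663063) (flp_b L655882) L677852
theorem L677856 : sm gf N49120 = N46931 := ded_46_1 (flp_j L655902) (flp_f L655885) L677852
theorem L677858 : sm gh N49120 = N49120 := ded_52_2 (flp_j L677852) L655884 L677852
theorem L677859 : sm gi N46928 = N49121 := rfl
theorem L677861 : sm gb N49121 = N47635 := ded_26_1 (flp_i L663069) (flp_b L655882) L677859
theorem L677863 : sm gf N49121 = N46932 := ded_48_1 (flp_i L655910) (flp_f L655885) L677859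
theorem L677865 : sm gg N49121 = N46929 := ded_51_1 (flp_i L655887) L655880 L677859
theorem L677867 : sm gh N46929 = N49122 := rfl
theorem L677869 : sm gb N49122 = N47636 := ded_25_1 (flp_h L663076) (flp_b L655889) L677867
theorem L677871 : sm gf N49122 = N46930 := ded_47_1 (flp_h L655893) (flp_f L655891) L677867
theorem L677873 : sm gi N49122 = N49122 := ded_54_2 (flp_h L677867) (flp_i L655887) L357375 L655887 L677867
theorem L677874 : sm gd N46930 = N49123 := rfl
theorem L677876 : sm gb N49123 = N47637 := ded_20_1 (flp_d L663082) (flp_b L655895) L677874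
theorem L677878 : sm gg N49123 = N46934 := ded_36_2 (flp_d L655928) (flp_g L655899) L677874
theorem L677880 : sm gi N49123 = N49123 := ded_39_2 (flp_d L677874) L655901 L677874
theorem L677881 : sm gi N46931 = N49124 := rfl
theorem L677883 : sm gb N49124 = N47638 := ded_26_1 (flp_i L663087) (flp_b L655904) L677881
theorem L677885 : sm ge N49124 = N46935 := ded_44_1 (flp_i L655934) (flp_e L655906) L677881
theorem L677887 : sm gg N49124 = N49124 := ded_51_1 (flp_i L677881) L655909 L677881
theorem L677888 : sm gj N49124 = N46932 := ded_53_1 (flp_i L655910) L655902 L677881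
theorem L677890 : sm gh N46932 = N49125 := rfl
theorem L677892 : sm gb N49125 = N47639 := ded_25_1 (flp_h L663095) (flp_b L655912) L677890
theorem L677894 : sm ge N49125 = N46936 := ded_43_1 (flp_h L655943) (flp_e L655914) L677890
theorem L677896 : sm gg N49125 = N46933 := ded_50_1 (flp_h L655918) (flp_g L655916) L677890
theorem L677898 : sm gi N49125 = N49125 := ded_54_2 (flp_h L677890) (flp_i L655910) L357397 L655910 L677890
theorem L677899 : sm gd N46933 = N49126 := rfl
theorem L677901 : sm gb N49126 = N47640 := ded_20_1 (flp_d L663103) (flp_b L655920) L677899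
theorem L677903 : sm gf N49126 = N46934 := ded_35_2 (flp_d L655928) (flp_f L655924) L677899
theorem L677905 : sm gj N49126 = N49126 := ded_37_2 (flp_d L677899) L655926 L677899
theorem L677906 : sm gi N49126 = N49126 := ded_39_2 (flp_d L677899) L655927 L677899
theorem L677907 : sm gc N46934 = N49127 := rfl
theorem L677909 : sm ga N49127 = N48058 := ded_11_1 (flp_c L677084) L677080 L677907
theorem L677911 : sm gj N49127 = N49127 := ded_31_2 (flp_c L677907) L655932 L677907
theorem L677912 : sm gi N49127 = N49127 := ded_33_2 (flp_c L677907) L655933 L677907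
theorem L677913 : sm gd N49127 = N48057 := ded_27_2 L667471 (flp_d L651631) L651626 L655928 L677907
theorem L677915 : sm gh N46935 = N49128 := rfl
theorem L677917 : sm gb N49128 = N47642 := ded_25_1 (flp_h L663114) (flp_b L655936) L677915
theorem L677919 : sm gf N49128 = N48631 := ded_47_1 L675484 L675478 L677915
theorem L677921 : sm gg N49128 = N49128 := ded_50_1 (flp_h L677915) L655940 L677915
theorem L677922 : sm gj N49128 = N46936 := ded_52_1 (flp_h L655943) (flp_j L655941) L677915
theorem L677924 : sm gd N49128 = N48625 := ded_38_1 (flp_h L671986) (flp_d L654889) L654896 (flp_d L655938) L677915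
theorem L677926 : sm gi N49128 = N49128 := ded_54_2 (flp_h L677915) (flp_i L655934) L357421 L655934 L677915
theorem L677927 : sm gb N46938 = N49129 := rfl
theorem L677929 : sm ge N49129 = N47890 := ded_21_2 (flp_b L665924) (flp_e L655963) L677927
theorem L677931 : sm gf N49129 = N46945 := ded_22_2 (flp_b L656039) (flp_f L655965) L677927
theorem L677933 : sm gj N49129 = N46940 := ded_24_2 (flp_b L655984) (flp_j L655967) L677927
theorem L677935 : sm gh N49129 = N49129 := ded_25_2 (flp_b L677927) L655969 L677927
theorem L677936 : sm gc N49129 = N46954 := ded_19_2 (flp_b L656127) (flp_c L357576) (flp_b L357458) L655959 L677927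
theorem L677938 : sm gi N46938 = N49130 := rfl
theorem L677940 : sm ga N49130 = N48688 := ded_18_1 (flp_i L672530) (flp_a L655961) L677938
theorem L677942 : sm gc N49130 = N46939 := ded_33_1 (flp_i L655970) L655959 L677938
theorem L677944 : sm ge N49130 = N47891 := ded_44_1 (flp_i L665931) (flp_e L655963) L677938
theorem L677946 : sm gf N49130 = N46946 := ded_48_1 (flp_i L656049) (flp_f L655965) L677938
theorem L677948 : sm gj N49130 = N46942 := ded_53_1 (flp_i L656006) (flp_j L655967) L677938
theorem L677950 : sm gh N46939 = N49131 := rfl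
theorem L677952 : sm ga N49131 = N48692 := ded_17_1 (flp_h L672567) (flp_a L655972) L677950
theorem L677954 : sm gb N49131 = N46956 := ded_25_1 (flp_h L656151) (flp_b L655974) L677950
theorem L677956 : sm ge N49131 = N47892 := ded_43_1 (flp_h L665939) (flp_e L655978) L677950
theorem L677958 : sm gf N49131 = N46947 := ded_47_1 (flp_h L656060) (flp_f L655980) L677950
theorem L677960 : sm gj N49131 = N46944 := ded_52_1 (flp_h L656030) (flp_j L655982) L677950
theorem L677962 : sm gi N49131 = N49131 := ded_54_2 (flp_h L677950) (flp_i L655970) L357464 L655970 L677950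
theorem L677963 : sm ga N46940 = N49132 := rfl
theorem L677965 : sm gc N49132 = N46957 := ded_11_2 (flp_a L656161) (flp_c L655991) L677963
theorem L677967 : sm gf N49132 = N46948 := ded_14_2 (flp_a L656072) (flp_f L655986) L677963
theorem L677969 : sm gg N49132 = N48044 := ded_15_2 (flp_a L667367) (flp_g L655988) L677963
theorem L677971 : sm gh N49132 = N49132 := ded_17_2 (flp_a L677963) L655990 L677963
theorem L677972 : sm gb N49132 = N48729 := ded_10_2 L672861 L655373 L655362 L655984 L677963
theorem L677974 : sm ge N46940 = N49133 := rfl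
theorem L677976 : sm gb N49133 = N46941 := ded_21_1 (flp_e L655993) L655984 L677974
theorem L677978 : sm gc N49133 = N46958 := ded_28_1 (flp_e L656171) (flp_c L655991) L677974
theorem L677980 : sm gg N49133 = N48045 := ded_41_2 (flp_e L667374) (flp_g L655988) L677974
theorem L677982 : sm gj N49133 = N47890 := ded_42_2 (flp_e L677929) L677933 L677974
theorem L677984 : sm gh N49133 = N49133 := ded_43_2 (flp_e L677974) L655990 L677974
theorem L677985 : sm gf N49133 = N47893 := ded_40_2 L665952 (flp_f L651672) L651670 (flp_f L655986) L677974
theorem L677987 : sm gi N46940 = N49134 := rfl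
theorem L677989 : sm gb N49134 = N46942 := ded_26_1 (flp_i L656006) L655984 L677987
theorem L677991 : sm gc N49134 = N46959 := ded_33_1 (flp_i L656184) (flp_c L655991) L677987
theorem L677993 : sm gf N49134 = N46949 := ded_48_1 (flp_i L656083) (flp_f L655986) L677987
theorem L677995 : sm gg N49134 = N48046 := ded_51_1 (flp_i L667382) (flp_g L655988) L677987
theorem L677997 : sm gd N46941 = N49135 := rfl
theorem L677999 : sm ga N49135 = N48496 := ded_12_1 L670985 (flp_a L655995) L677997
theorem L678001 : sm gf N49135 = N47882 := ded_35_2 L665840 (flp_f L656004) L677997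
theorem L678003 : sm gg N49135 = N48047 := ded_36_2 (flp_d L667390) (flp_g L655999) L677997
theorem L678005 : sm gj N49135 = N47879 := ded_37_2 L665811 (flp_j L656001) L677997
theorem L678007 : sm gc N49135 = N47877 := ded_27_1 (flp_d L665781) L378441 (flp_d L640972) (flp_c L655997) L677997
theorem L678009 : sm gi N46941 = N49136 := rfl
theorem L678011 : sm ga N49136 = N48697 := ded_18_1 (flp_i L672614) (flp_a L655995) L678009
theorem L678013 : sm gc N49136 = N46943 := ded_33_1 (flp_i L656014) (flp_c L655997) L678009
theorem L678015 : sm ge N49136 = N46942 := ded_44_1 (flp_i L656006) L655993 L678009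
theorem L678017 : sm gf N49136 = N47894 := ded_48_1 (flp_i L665960) (flp_f L656004) L678009
theorem L678019 : sm gg N49136 = N48048 := ded_51_1 (flp_i L667393) (flp_g L655999) L678009
theorem L678021 : sm gj N49136 = N47891 := ded_53_1 (flp_i L665931) (flp_j L656001) L678009
theorem L678023 : sm gh N46942 = N49137 := rfl
theorem L678025 : sm gc N49137 = N46944 := ded_32_1 (flp_h L656030) (flp_c L656008) L678023
theorem L678027 : sm gf N49137 = N46950 := ded_47_1 (flp_h L656091) (flp_f L656010) L678023
theorem L678029 : sm gg N49137 = N48049 := ded_50_1 (flp_h L667400) (flp_g L656012) L678023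
theorem L678031 : sm gi N49137 = N49137 := ded_54_2 (flp_h L678023) (flp_i L656006) L357479 L656006 L678023
theorem L678032 : sm gh N46943 = N49138 := rfl
theorem L678034 : sm ga N49138 = N48699 := ded_17_1 (flp_h L672632) (flp_a L656016) L678032
theorem L678036 : sm gb N49138 = N46962 := ded_25_1 (flp_h L656219) (flp_b L656018) L678032
theorem L678038 : sm ge N49138 = N46944 := ded_43_1 (flp_h L656030) (flp_e L656022) L678032
theorem L678040 : sm gf N49138 = N47895 := ded_47_1 (flp_h L665971) (flp_f L656024) L678032
theorem L678042 : sm gg N49138 = N48050 := ded_50_1 (flp_h L667407) (flp_g L656026) L678032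
theorem L678044 : sm gj N49138 = N47892 := ded_52_1 (flp_h L665939) (flp_j L656028) L678032
theorem L678046 : sm gd N49138 = N48043 := ded_38_1 (flp_h L667358) L380100 (flp_h L378670) (flp_d L656020) L678032
theorem L678048 : sm gi N49138 = N49138 := ded_54_2 (flp_h L678032) (flp_i L656014) L357486 L656014 L678032
theorem L678049 : sm ga N46945 = N49139 := rfl
theorem L678051 : sm gc N49139 = N46963 := ded_11_2 (flp_a L656233) (flp_c L656047) L678049
theorem L678053 : sm ge N49139 = N48656 := ded_13_2 (flp_a L672221) (flp_e L656041) L678049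
theorem L678055 : sm gg N49139 = N49139 := ded_15_2 (flp_a L678049) L656043 L678049
theorem L678056 : sm gj N49139 = N46948 := ded_16_2 (flp_a L656072) (flp_j L656044) L678049
theorem L678058 : sm gh N49139 = N49139 := ded_17_2 (flp_a L678049) L656046 L678049
theorem L678059 : sm gb N49139 = N48680 := ded_10_2 L672465 L650523 L649105 L656039 L678049
theorem L678061 : sm gi N46945 = N49140 := rfl
theorem L678063 : sm gb N49140 = N46946 := ded_26_1 (flp_i L656049) L656039 L678061
theorem L678065 : sm gc N49140 = N46964 := ded_33_1 (flp_i L656242) (flp_c L656047) L678061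
theorem L678067 : sm ge N49140 = N48657 := ded_44_1 (flp_i L672233) (flp_e L656041) L678061
theorem L678069 : sm gg N49140 = N49140 := ded_51_1 (flp_i L678061) L656043 L678061
theorem L678070 : sm gj N49140 = N46949 := ded_53_1 (flp_i L656083) (flp_j L656044) L678061
theorem L678072 : sm gh N46946 = N49141 := rfl
theorem L678074 : sm ga N49141 = N48689 := ded_17_1 (flp_h L672538) (flp_a L656051) L678072
theorem L678076 : sm gc N49141 = N46947 := ded_32_1 (flp_h L656060) (flp_c L656053) L678072
theorem L678078 : sm ge N49141 = N48658 := ded_43_1 (flp_h L672242) (flp_e L656055) L678072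
theorem L678080 : sm gg N49141 = N49141 := ded_50_1 (flp_h L678072) L656057 L678072
theorem L678081 : sm gj N49141 = N46950 := ded_52_1 (flp_h L656091) (flp_j L656058) L678072
theorem L678083 : sm gi N49141 = N49141 := ded_54_2 (flp_h L678072) (flp_i L656049) L357502 L656049 L678072
theorem L678084 : sm gi N46948 = N49142 := rfl
theorem L678086 : sm ga N49142 = N46949 := ded_18_1 (flp_i L656083) L656072 L678084
theorem L678088 : sm gb N49142 = N48678 := ded_26_1 L672446 (flp_b L656081) L678084
theorem L678090 : sm gc N49142 = N46966 := ded_33_1 (flp_i L656260) (flp_c L656074) L678084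
theorem L678092 : sm ge N49142 = N48677 := ded_44_1 L672437 (flp_e L656076) L678084
theorem L678094 : sm gg N49142 = N46951 := ded_51_1 (flp_i L656098) (flp_g L656078) L678084
theorem L678096 : sm gh N46949 = N49143 := rfl
theorem L678098 : sm gb N49143 = N46950 := ded_25_1 (flp_h L656091) (flp_b L656085) L678096
theorem L678100 : sm gc N49143 = N46967 := ded_32_1 (flp_h L656269) (flp_c L656087) L678096
theorem L678102 : sm gg N49143 = N46952 := ded_50_1 (flp_h L656111) (flp_g L656089) L678096
theorem L678104 : sm gi N49143 = N49143 := ded_54_2 (flp_h L678096) (flp_i L656083) L357516 L656083 L678096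
theorem L678105 : sm gd N46950 = N49144 := rfl
theorem L678107 : sm gg N49144 = N46953 := ded_36_2 (flp_d L656121) (flp_g L656095) L678105
theorem L678109 : sm gi N49144 = N49144 := ded_39_2 (flp_d L678105) L656097 L678105
theorem L678110 : sm gh N46951 = N49145 := rfl
theorem L678112 : sm ga N49145 = N46952 := ded_17_1 (flp_h L656111) (flp_a L656100) L678110
theorem L678114 : sm gb N49145 = N48667 := ded_25_1 L672334 (flp_b L656102) L678110
theorem L678116 : sm gc N49145 = N46969 := ded_32_1 (flp_h L656284) (flp_c L656104) L678110
theorem L678118 : sm ge N49145 = N48666 := ded_43_1 L672326 (flp_e L656106) L678110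
theorem L678120 : sm gf N49145 = N48057 := ded_47_1 (flp_h L667467) (flp_f L656108) L678110
theorem L678122 : sm gj N49145 = N49145 := ded_52_1 (flp_h L678110) L656110 L678110
theorem L678123 : sm gi N49145 = N49145 := ded_54_2 (flp_h L678110) (flp_i L656098) L357539 L656098 L678110
theorem L678124 : sm gd N46952 = N49146 := rfl
theorem L678126 : sm gb N49146 = N46953 := ded_20_1 (flp_d L656121) (flp_b L656113) L678124
theorem L678128 : sm gf N49146 = N48058 := ded_35_2 (flp_d L667476) (flp_f L656117) L678124
theorem L678130 : sm gj N49146 = N49146 := ded_37_2 (flp_d L678124) L656119 L678124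
theorem L678131 : sm gi N49146 = N49146 := ded_39_2 (flp_d L678124) L656120 L678124
theorem L678132 : sm ge N46953 = N49147 := rfl
theorem L678134 : sm ga N49147 = N48719 := ded_13_1 (flp_e L677185) L677175 L678132
theorem L678136 : sm gj N49147 = N49147 := ded_42_2 (flp_e L678132) L656125 L678132
theorem L678137 : sm gi N49147 = N49147 := ded_44_2 (flp_e L678132) L656126 L678132
theorem L678138 : sm gd N49147 = N48715 := ded_34_1 L672765 (flp_d L651739) L651735 L656121 L678132
theorem L678140 : sm ga N46954 = N49148 := rfl
theorem L678142 : sm gd N49148 = N47671 := ded_12_2 (flp_a L663432) (flp_d L656129) L678140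
theorem L678144 : sm ge N49148 = N47902 := ded_13_2 (flp_a L666046) (flp_e L656131) L678140
theorem L678146 : sm gf N49148 = N46963 := ded_14_2 (flp_a L656233) (flp_f L656133) L678140
theorem L678148 : sm gg N49148 = N48554 := ded_15_2 (flp_a L676221) L676225 L678140
theorem L678150 : sm gj N49148 = N46957 := ded_16_2 (flp_a L656161) (flp_j L656135) L678140
theorem L678152 : sm gh N49148 = N49148 := ded_17_2 (flp_a L678140) L656137 L678140
theorem L678153 : sm gb N49148 = N49148 := ded_10_2 (flp_a L678140) (flp_b L656127) L357578 L656127 L678140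
theorem L678154 : sm gi N46954 = N49149 := rfl
theorem L678156 : sm gb N49149 = N46955 := ded_26_1 (flp_i L656138) L656127 L678154
theorem L678158 : sm gd N49149 = N47673 := ded_39_1 (flp_i L663460) (flp_d L656129) L678154
theorem L678160 : sm ge N49149 = N47903 := ded_44_1 (flp_i L666056) (flp_e L656131) L678154
theorem L678162 : sm gf N49149 = N46964 := ded_48_1 (flp_i L656242) (flp_f L656133) L678154
theorem L678164 : sm gj N49149 = N46959 := ded_53_1 (flp_i L656184) (flp_j L656135) L678154
theorem L678166 : sm gh N46955 = N49150 := rfl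
theorem L678168 : sm ga N49150 = N49150 := ded_17_1 (flp_h L678166) L656140 L678166
theorem L678169 : sm gc N49150 = N46956 := ded_32_1 (flp_h L656151) (flp_c L656141) L678166
theorem L678171 : sm ge N49150 = N47904 := ded_43_1 (flp_h L666064) (flp_e L656145) L678166
theorem L678173 : sm gf N49150 = N46965 := ded_47_1 (flp_h L656251) (flp_f L656147) L678166
theorem L678175 : sm gj N49150 = N46961 := ded_52_1 (flp_h L656209) (flp_j L656149) L678166
theorem L678177 : sm gi N49150 = N49150 := ded_54_2 (flp_h L678166) (flp_i L656138) L357583 L656138 L678166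
theorem L678178 : sm ge N46957 = N49151 := rfl
theorem L678180 : sm ga N49151 = N46958 := ded_13_1 (flp_e L656171) L656161 L678178
theorem L678182 : sm gb N49151 = N49151 := ded_21_1 (flp_e L678178) L656170 L678178
theorem L678183 : sm gg N49151 = N47705 := ded_41_2 L663857 (flp_g L656167) L678178
theorem L678185 : sm gj N49151 = N47902 := ded_42_2 (flp_e L678144) L678150 L678178
theorem L678187 : sm gh N49151 = N49151 := ded_43_2 (flp_e L678178) L656169 L678178
theorem L678188 : sm gd N49151 = N47704 := ded_34_1 L663841 L663480 (flp_e L663468) (flp_d L656163) L678178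
theorem L678190 : sm gf N49151 = N47905 := ded_40_2 (flp_e L673436) L673438 L651827 (flp_f L656165) L678178
theorem L678192 : sm gi N46957 = N49152 := rfl
theorem L678194 : sm ga N49152 = N46959 := ded_18_1 (flp_i L656184) L656161 L678192
theorem L678196 : sm gb N49152 = N49152 := ded_26_1 (flp_i L678192) L656170 L678192
theorem L678197 : sm gd N49152 = N47675 := ded_39_1 (flp_i L663482) (flp_d L656163) L678192
theorem L678199 : sm gf N49152 = N46966 := ded_48_1 (flp_i L656260) (flp_f L656165) L678192
theorem L678201 : sm gg N49152 = N48065 := ded_51_1 (flp_i L667539) (flp_g L656167) L678192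
theorem L678203 : sm gi N46958 = N49153 := rfl
theorem L678205 : sm gb N49153 = N46960 := ded_26_1 (flp_i L656194) (flp_b L656173) L678203
theorem L678207 : sm gd N49153 = N48386 := ded_39_1 (flp_i L670110) L656182 L678203
theorem L678209 : sm ge N49153 = N46959 := ded_44_1 (flp_i L656184) L656171 L678203
theorem L678211 : sm gf N49153 = N47906 := ded_48_1 (flp_i L666081) (flp_f L656180) L678203
theorem L678213 : sm gg N49153 = N48066 := ded_51_1 (flp_i L667548) (flp_g L656175) L678203
theorem L678215 : sm gj N49153 = N47903 := ded_53_1 (flp_i L666056) (flp_j L656177) L678203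
theorem L678217 : sm gh N46959 = N49154 := rfl
theorem L678219 : sm gb N49154 = N46961 := ded_25_1 (flp_h L656209) (flp_b L656186) L678217
theorem L678221 : sm gf N49154 = N46967 := ded_47_1 (flp_h L656269) (flp_f L656190) L678217
theorem L678223 : sm gg N49154 = N48067 := ded_50_1 (flp_h L667555) (flp_g L656192) L678217
theorem L678225 : sm gi N49154 = N49154 := ded_54_2 (flp_h L678217) (flp_i L656184) L357609 L656184 L678217
theorem L678226 : sm gh N46960 = N49155 := rfl
theorem L678228 : sm ga N49155 = N49155 := ded_17_1 (flp_h L678226) L656196 L678226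
theorem L678229 : sm gc N49155 = N46962 := ded_32_1 (flp_h L656219) (flp_c L656197) L678226
theorem L678231 : sm ge N49155 = N46961 := ded_43_1 (flp_h L656209) (flp_e L656201) L678226
theorem L678233 : sm gf N49155 = N47907 := ded_47_1 (flp_h L666090) (flp_f L656203) L678226
theorem L678235 : sm gg N49155 = N48069 := ded_50_1 (flp_h L667578) (flp_g L656205) L678226
theorem L678237 : sm gj N49155 = N47904 := ded_52_1 (flp_h L666064) (flp_j L656207) L678226
theorem L678239 : sm gd N49155 = N48312 := ded_38_1 (flp_h L669517) (flp_d L669505) L669515 (flp_d L656199) L678226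
theorem L678241 : sm gi N49155 = N49155 := ded_54_2 (flp_h L678226) (flp_i L656194) L357617 L656194 L678226
theorem L678242 : sm gd N46961 = N49156 := rfl
theorem L678244 : sm ga N49156 = N49156 := ded_12_1 (flp_d L678242) L656211 L678242
theorem L678245 : sm gf N49156 = N46968 := ded_35_2 (flp_d L656276) (flp_f L656214) L678242
theorem L678247 : sm gg N49156 = N48070 := ded_36_2 (flp_d L667587) (flp_g L656216) L678242
theorem L678249 : sm gi N49156 = N49156 := ded_39_2 (flp_d L678242) L656218 L678242
theorem L678250 : sm ge N49156 = N48300 := ded_34_2 L669403 (flp_e L669522) (flp_d L678239) L678231 L678242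
theorem L678252 : sm gh N49156 = N47680 := ded_38_2 (flp_d L663545) (flp_h L364552) (flp_d L357623) L656209 L678242
theorem L678254 : sm gi N46963 = N49157 := rfl
theorem L678256 : sm ga N49157 = N46964 := ded_18_1 (flp_i L656242) L656233 L678254
theorem L678258 : sm gb N49157 = N49157 := ded_26_1 (flp_i L678254) L656241 L678254
theorem L678259 : sm gd N49157 = N47682 := ded_39_1 (flp_i L663566) (flp_d L656235) L678254
theorem L678261 : sm gg N49157 = N49157 := ded_51_1 (flp_i L678254) L656237 L678254
theorem L678262 : sm gj N49157 = N46966 := ded_53_1 (flp_i L656260) (flp_j L656238) L678254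
theorem L678264 : sm gh N46964 = N49158 := rfl
theorem L678266 : sm gb N49158 = N46965 := ded_25_1 (flp_h L656251) (flp_b L656244) L678264
theorem L678268 : sm gg N49158 = N49158 := ded_50_1 (flp_h L678264) L656248 L678264
theorem L678269 : sm gj N49158 = N46967 := ded_52_1 (flp_h L656269) (flp_j L656249) L678264
theorem L678271 : sm gi N49158 = N49158 := ded_54_2 (flp_h L678264) (flp_i L656242) L357651 L656242 L678264
theorem L678272 : sm gd N46965 = N49159 := rfl
theorem L678274 : sm ga N49159 = N49159 := ded_12_1 (flp_d L678272) L656253 L678272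
theorem L678275 : sm gg N49159 = N49159 := ded_36_2 (flp_d L678272) L656256 L678272
theorem L678276 : sm gj N49159 = N46968 := ded_37_2 (flp_d L656276) (flp_j L656257) L678272
theorem L678278 : sm gi N49159 = N49159 := ded_39_2 (flp_d L678272) L656259 L678272
theorem L678279 : sm gh N49159 = N47684 := ded_38_2 (flp_d L663585) (flp_h L364590) (flp_d L357657) L656251 L678272
theorem L678281 : sm gh N46966 = N49160 := rfl
theorem L678283 : sm ga N49160 = N46967 := ded_17_1 (flp_h L656269) (flp_a L656262) L678281
theorem L678285 : sm gb N49160 = N49160 := ded_25_1 (flp_h L678281) L656264 L678281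
theorem L678286 : sm gg N49160 = N46969 := ded_50_1 (flp_h L656284) (flp_g L656267) L678281
theorem L678288 : sm gi N49160 = N49160 := ded_54_2 (flp_h L678281) (flp_i L656260) L357675 L656260 L678281
theorem L678289 : sm gd N46967 = N49161 := rfl
theorem L678291 : sm gb N49161 = N46968 := ded_20_1 (flp_d L656276) (flp_b L656271) L678289
theorem L678293 : sm gg N49161 = N46970 := ded_36_2 (flp_d L656293) (flp_g L656273) L678289
theorem L678295 : sm gi N49161 = N49161 := ded_39_2 (flp_d L678289) L656275 L678289
theorem L678296 : sm gh N49161 = N47686 := ded_38_2 (flp_d L663603) (flp_h L364609) (flp_d L357681) L656269 L678289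
theorem L678298 : sm ge N46968 = N49162 := rfl
theorem L678300 : sm ga N49162 = N49162 := ded_13_1 (flp_e L678298) L656278 L678298
theorem L678301 : sm gg N49162 = N46971 := ded_41_2 (flp_e L656303) (flp_g L656279) L678298
theorem L678303 : sm gh N49162 = N47687 := ded_43_2 (flp_e L663611) (flp_h L656282) L678298
theorem L678305 : sm gi N49162 = N49162 := ded_44_2 (flp_e L678298) L656281 L678298
theorem L678306 : sm gd N49162 = N48650 := ded_34_1 L673546 (flp_d L673536) L651847 L656276 L678298
theorem L678308 : sm gf N49162 = N48317 := ded_40_2 (flp_e L669562) (flp_f L669399) (flp_e L678250) L678245 L678298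
theorem L678310 : sm gi N46973 = N49163 := rfl
theorem L678312 : sm ga N49163 = N46980 := ded_18_1 (flp_i L656437) (flp_a L656327) L678310
theorem L678314 : sm gb N49163 = N46988 := ded_26_1 (flp_i L656547) (flp_b L656329) L678310
theorem L678316 : sm gc N49163 = N47007 := ded_33_1 (flp_i L656782) (flp_c L656337) L678310
theorem L678318 : sm gd N49163 = N46974 := ded_39_1 (flp_i L656342) L656325 L678310
theorem L678320 : sm ge N49163 = N47041 := ded_44_1 (flp_i L657162) (flp_e L656339) L678310
theorem L678322 : sm gf N49163 = N46975 := ded_48_1 (flp_i L656359) (flp_f L656331) L678310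
theorem L678324 : sm gg N49163 = N46984 := ded_51_1 (flp_i L656487) (flp_g L656333) L678310
theorem L678326 : sm gj N49163 = N47121 := ded_53_1 (flp_i L658016) (flp_j L656335) L678310
theorem L678328 : sm gh N46975 = N49164 := rfl
theorem L678330 : sm ga N49164 = N46982 := ded_17_1 (flp_h L656463) (flp_a L656361) L678328
theorem L678332 : sm gb N49164 = N48590 := ded_25_1 (flp_h L671716) (flp_b L656363) L678328
theorem L678334 : sm gc N49164 = N47008 := ded_32_1 (flp_h L656792) (flp_c L656365) L678328
theorem L678336 : sm ge N49164 = N48589 := ded_43_1 (flp_h L671708) (flp_e L656369) L678328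
theorem L678338 : sm gg N49164 = N49164 := ded_50_1 (flp_h L678328) L656371 L678328
theorem L678339 : sm gj N49164 = N47122 := ded_52_1 (flp_h L658026) (flp_j L656372) L678328
theorem L678341 : sm gd N49164 = N49164 := ded_38_1 (flp_h L678328) L656367 L357789 (flp_d L656367) L678328
theorem L678342 : sm gi N49164 = N49164 := ded_54_2 (flp_h L678328) (flp_i L656359) L357778 L656359 L678328
theorem L678343 : sm gi N46976 = N49165 := rfl
theorem L678345 : sm ga N49165 = N46984 := ded_18_1 (flp_i L656487) (flp_a L656376) L678343
theorem L678347 : sm gb N49165 = N49165 := ded_26_1 (flp_i L678343) L656378 L678343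
theorem L678348 : sm gc N49165 = N47030 := ded_33_1 (flp_i L657030) (flp_c L656384) L678343
theorem L678350 : sm gd N49165 = N46977 := ded_39_1 (flp_i L656389) L656374 L678343
theorem L678352 : sm ge N49165 = N47014 := ded_44_1 (flp_i L656862) (flp_e L656386) L678343
theorem L678354 : sm gf N49165 = N49165 := ded_48_1 (flp_i L678343) L656379 L678343
theorem L678355 : sm gg N49165 = N46980 := ded_51_1 (flp_i L656437) (flp_g L656380) L678343
theorem L678357 : sm gj N49165 = N47125 := ded_53_1 (flp_i L658068) (flp_j L656382) L678343
theorem L678359 : sm gi N46979 = N49166 := rfl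
theorem L678361 : sm ga N49166 = N47041 := ded_18_1 (flp_i L657162) (flp_a L656423) L678359
theorem L678363 : sm gb N49166 = N49166 := ded_26_1 (flp_i L678359) L656425 L678359
theorem L678364 : sm gc N49166 = N47032 := ded_33_1 (flp_i L657052) (flp_c L656426) L678359
theorem L678366 : sm gd N49166 = N47012 := ded_39_1 (flp_i L656838) (flp_d L656433) L678359
theorem L678368 : sm ge N49166 = N46980 := ded_44_1 (flp_i L656437) L656421 L678359
theorem L678370 : sm gf N49166 = N48135 := ded_48_1 (flp_i L668160) (flp_f L656435) L678359
theorem L678372 : sm gg N49166 = N47014 := ded_51_1 (flp_i L656862) (flp_g L656428) L678359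
theorem L678374 : sm gj N49166 = N47130 := ded_53_1 (flp_i L658135) (flp_j L656430) L678359
theorem L678376 : sm gh N46980 = N49167 := rfl
theorem L678378 : sm gb N49167 = N49167 := ded_25_1 (flp_h L678376) L656439 L678376
theorem L678379 : sm gc N49167 = N47033 := ded_32_1 (flp_h L657058) (flp_c L656440) L678376
theorem L678381 : sm gf N49167 = N46982 := ded_47_1 (flp_h L656463) (flp_f L656444) L678376
theorem L678383 : sm gj N49167 = N47131 := ded_52_1 (flp_h L658142) (flp_j L656446) L678376
theorem L678385 : sm gd N49167 = N49167 := ded_38_1 (flp_h L678376) L656442 L357906 (flp_d L656442) L678376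
theorem L678386 : sm gi N49167 = N49167 := ded_54_2 (flp_h L678376) (flp_i L656437) L357896 L656437 L678376
theorem L678387 : sm gh N46981 = N49168 := rfl
theorem L678389 : sm ga N49168 = N48589 := ded_17_1 (flp_h L671708) (flp_a L656450) L678387
theorem L678391 : sm gb N49168 = N49168 := ded_25_1 (flp_h L678387) L656452 L678387
theorem L678392 : sm gc N49168 = N47035 := ded_32_1 (flp_h L657083) (flp_c L656453) L678387
theorem L678394 : sm ge N49168 = N46982 := ded_43_1 (flp_h L656463) (flp_e L656456) L678387
theorem L678396 : sm gf N49168 = N48595 := ded_47_1 (flp_h L671767) (flp_f L656458) L678387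
theorem L678398 : sm gg N49168 = N49168 := ded_50_1 (flp_h L678387) L656460 L678387
theorem L678399 : sm gj N49168 = N47133 := ded_52_1 (flp_h L658165) (flp_j L656461) L678387
theorem L678401 : sm gi N49168 = N49168 := ded_54_2 (flp_h L678387) (flp_i L656448) L357915 L656448 L678387
theorem L678402 : sm gi N46983 = N49169 := rfl
theorem L678404 : sm ga N49169 = N47030 := ded_18_1 (flp_i L657030) (flp_a L656475) L678402
theorem L678406 : sm gc N49169 = N46984 := ded_33_1 (flp_i L656487) L656473 L678402
theorem L678408 : sm gd N49169 = N47005 := ded_39_1 (flp_i L656756) (flp_d L656485) L678402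
theorem L678410 : sm ge N49169 = N47043 := ded_44_1 (flp_i L657183) (flp_e L656477) L678402
theorem L678412 : sm gf N49169 = N49169 := ded_48_1 (flp_i L678402) L656479 L678402
theorem L678413 : sm gg N49169 = N47007 := ded_51_1 (flp_i L656782) (flp_g L656480) L678402
theorem L678415 : sm gj N49169 = N47139 := ded_53_1 (flp_i L658240) (flp_j L656482) L678402
theorem L678417 : sm gh N46984 = N49170 := rfl
theorem L678419 : sm gb N49170 = N46991 := ded_25_1 (flp_h L656584) (flp_b L656489) L678417
theorem L678421 : sm ge N49170 = N47044 := ded_43_1 (flp_h L657191) (flp_e L656493) L678417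
theorem L678423 : sm gf N49170 = N49170 := ded_47_1 (flp_h L678417) L656495 L678417
theorem L678424 : sm gj N49170 = N47140 := ded_52_1 (flp_h L658247) (flp_j L656496) L678417
theorem L678426 : sm gd N49170 = N49170 := ded_38_1 (flp_h L678417) L656491 L357972 (flp_d L656491) L678417
theorem L678427 : sm gi N49170 = N49170 := ded_54_2 (flp_h L678417) (flp_i L656487) L357962 L656487 L678417
theorem L678428 : sm gi N46986 = N49171 := rfl
theorem L678430 : sm ga N49171 = N49171 := ded_18_1 (flp_i L678428) L656518 L678428
theorem L678431 : sm gb N49171 = N47121 := ded_26_1 (flp_i L658016) (flp_b L656519) L678428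
theorem L678433 : sm gc N49171 = N47862 := ded_33_1 L665614 (flp_c L656530) L678428
theorem L678435 : sm gd N49171 = N46987 := ded_39_1 (flp_i L656532) L656516 L678428
theorem L678437 : sm ge N49171 = N47045 := ded_44_1 (flp_i L657202) (flp_e L656527) L678428
theorem L678439 : sm gf N49171 = N47118 := ded_48_1 (flp_i L657967) (flp_f L656521) L678428
theorem L678441 : sm gg N49171 = N47147 := ded_51_1 (flp_i L658335) (flp_g L656523) L678428
theorem L678443 : sm gj N49171 = N46988 := ded_53_1 (flp_i L656547) (flp_j L656525) L678428
theorem L678445 : sm gh N48197 = N49171 := ded_32_0 L678433 L665612 (flp_c L668655)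
theorem L678447 : sm gh N46988 = N49172 := rfl
theorem L678449 : sm ga N49172 = N49172 := ded_17_1 (flp_h L678447) L656549 L678447
theorem L678450 : sm gc N49172 = N48133 := ded_32_1 (flp_h L668138) (flp_c L656550) L678447
theorem L678452 : sm ge N49172 = N47046 := ded_43_1 (flp_h L657217) (flp_e L656554) L678447
theorem L678454 : sm gf N49172 = N48590 := ded_47_1 (flp_h L671716) (flp_f L656556) L678447
theorem L678456 : sm gg N49172 = N46991 := ded_50_1 (flp_h L656584) (flp_g L656558) L678447
theorem L678458 : sm gj N49172 = N48197 := ded_52_1 L678445 L678443 L678447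
theorem L678460 : sm gd N49172 = N49172 := ded_38_1 (flp_h L678447) L656552 L358037 (flp_d L656552) L678447
theorem L678461 : sm gi N49172 = N49172 := ded_54_2 (flp_h L678447) (flp_i L656547) L358028 L656547 L678447
theorem L678462 : sm gi N46989 = N49173 := rfl
theorem L678464 : sm gb N49173 = N46990 := ded_26_1 (flp_i L656571) L656560 L678462
theorem L678466 : sm gd N49173 = N49173 := ded_39_1 (flp_i L678462) L656562 L678462
theorem L678467 : sm ge N49173 = N47048 := ded_44_1 (flp_i L657243) (flp_e L656563) L678462
theorem L678469 : sm gf N49173 = N49173 := ded_48_1 (flp_i L678462) L656565 L678462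
theorem L678470 : sm gg N49173 = N48126 := ded_51_1 (flp_i L668073) (flp_g L656566) L678462
theorem L678472 : sm gj N49173 = N47152 := ded_53_1 (flp_i L658379) (flp_j L656568) L678462
theorem L678474 : sm gh N46990 = N49174 := rfl
theorem L678476 : sm ga N49174 = N49174 := ded_17_1 (flp_h L678474) L656573 L678474
theorem L678477 : sm gc N49174 = N46991 := ded_32_1 (flp_h L656584) (flp_c L656574) L678474
theorem L678479 : sm ge N49174 = N47049 := ded_43_1 (flp_h L657255) (flp_e L656577) L678474
theorem L678481 : sm gf N49174 = N49174 := ded_47_1 (flp_h L678474) L656579 L678474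
theorem L678482 : sm gg N49174 = N48133 := ded_50_1 (flp_h L668138) (flp_g L656580) L678474
theorem L678484 : sm gj N49174 = N47153 := ded_52_1 (flp_h L658387) (flp_j L656582) L678474
theorem L678486 : sm gi N49174 = N49174 := ded_54_2 (flp_h L678474) (flp_i L656571) L358046 L656571 L678474
theorem L678487 : sm gd N48597 = N49174 := ded_34_5 L678479 L657266 L382145 L649651 L671783
theorem L678489 : sm gj N46992 = N49175 := rfl
theorem L678491 : sm ga N49175 = N47081 := ded_16_1 (flp_j L657604) (flp_a L656596) L678489
theorem L678493 : sm gb N49175 = N47000 := ded_24_1 (flp_j L656699) (flp_b L656598) L678489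
theorem L678495 : sm gc N49175 = N49175 := ded_31_1 (flp_j L678489) L656600 L678489
theorem L678496 : sm gd N49175 = N47060 := ded_37_1 (flp_j L657379) (flp_d L656601) L678489
theorem L678498 : sm ge N49175 = N46994 := ded_42_1 (flp_j L656622) (flp_e L656603) L678489
theorem L678500 : sm gf N49175 = N47056 := ded_46_1 (flp_j L657341) (flp_f L656607) L678489
theorem L678502 : sm gi N49175 = N47051 := ded_53_2 (flp_j L657282) (flp_i L656605) L678489
theorem L678504 : sm gg N49175 = N47157 := ded_49_1 (flp_j L658439) (flp_g L359789) (flp_j L358075) L656594 L678489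
theorem L678506 : sm gh N46992 = N49176 := rfl
theorem L678508 : sm ga N49176 = N47082 := ded_17_1 (flp_h L657619) (flp_a L656596) L678506
theorem L678510 : sm gb N49176 = N47001 := ded_25_1 (flp_h L656711) (flp_b L656598) L678506
theorem L678512 : sm gc N49176 = N49176 := ded_32_1 (flp_h L678506) L656600 L678506
theorem L678513 : sm ge N49176 = N46995 := ded_43_1 (flp_h L656635) (flp_e L656603) L678506
theorem L678515 : sm gf N49176 = N47057 := ded_47_1 (flp_h L657351) (flp_f L656607) L678506
theorem L678517 : sm gg N49176 = N46993 := ded_50_1 (flp_h L656609) L656594 L678506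
theorem L678519 : sm gd N46993 = N49177 := rfl
theorem L678521 : sm ga N49177 = N47769 := ded_12_1 L664646 (flp_a L656611) L678519
theorem L678523 : sm gb N49177 = N47002 := ded_20_1 (flp_d L656721) (flp_b L656613) L678519
theorem L678525 : sm gf N49177 = N47756 := ded_35_2 L664497 (flp_f L656618) L678519
theorem L678527 : sm gj N49177 = N47159 := ded_37_2 (flp_d L658461) (flp_j L656620) L678519
theorem L678529 : sm ge N49177 = N48108 := ded_34_2 L667950 (flp_e L652420) L652415 (flp_e L656616) L678519
theorem L678531 : sm gh N49177 = N48094 := ded_38_2 (flp_d L667820) (flp_h L381349) (flp_d L612423) L656609 L678519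
theorem L678533 : sm gc N48109 = N49177 := ded_56_4 L678523 L656723 (flp_h L656921) L656917 (flp_e L667682) (flp_d L667672) L380551 L261643 L261641 (flp_h L180161) L180142 L180149 L180146 (flp_c L261708) (flp_b L620514) L354275 L354430 L354435 L621648 (flp_d L180528) L124356 L85900 L59469 (flp_h L59467) L41238 (flp_e L59450) L59449 (flp_c L84485) (flp_b L122254) (flp_a L177252) L257506 (flp_f L374542) L374541 L648951 (flp_c L381836) (flp_b L657621) (flp_a L678508) (flp_h L678506) L656607 L358676 L358674 L246798 L170107 L170105 L170240 (flp_f L247073) L247072 (flp_d L637499) (flp_c L657181) (flp_b L657172) (flp_a L656851) L656861 L656855 L380712 (flp_d L667708) (flp_c L667702) (flp_b L664489) L664487 L612163 (flp_f L381706) L667952 L667954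
theorem L678535 : sm gi N46993 = N49178 := rfl
theorem L678537 : sm ga N49178 = N47772 := ded_18_1 (flp_i L664670) (flp_a L656611) L678535
theorem L678539 : sm gb N49178 = N47003 := ded_26_1 (flp_i L656729) (flp_b L656613) L678535
theorem L678541 : sm gc N49178 = N49178 := ded_33_1 (flp_i L678535) L656615 L678535
theorem L678542 : sm ge N49178 = N46996 := ded_44_1 (flp_i L656645) (flp_e L656616) L678535
theorem L678544 : sm gf N49178 = N47758 := ded_48_1 (flp_i L664507) (flp_f L656618) L678535
theorem L678546 : sm gj N49178 = N47160 := ded_53_1 (flp_i L658469) (flp_j L656620) L678535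
theorem L678548 : sm gh N49178 = N47054 := ded_54_1 (flp_i L657316) (flp_h L358596) (flp_i L358077) L656609 L678535
theorem L678550 : sm gh N46994 = N49179 := rfl
theorem L678552 : sm ga N49179 = N47773 := ded_17_1 L664687 (flp_a L656624) L678550
theorem L678554 : sm gb N49179 = N47004 := ded_25_1 (flp_h L656743) (flp_b L656626) L678550
theorem L678556 : sm gc N49179 = N49179 := ded_32_1 (flp_h L678550) L656628 L678550
theorem L678557 : sm gf N49179 = N49179 := ded_47_1 (flp_h L678550) L656630 L678550
theorem L678558 : sm gg N49179 = N47161 := ded_50_1 (flp_h L658482) (flp_g L656633) L678550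
theorem L678560 : sm gj N49179 = N46995 := ded_52_1 (flp_h L656635) L656622 L678550
theorem L678562 : sm gi N49179 = N48615 := ded_54_2 (flp_h L671923) (flp_i L649858) (flp_h L649397) (flp_i L656631) L678550
theorem L678564 : sm gd N47138 = N49179 := ded_12_0 L678552 (flp_d L674129) L674123
theorem L678566 : sm gi N46995 = N49180 := rfl
theorem L678568 : sm ga N49180 = N47774 := ded_18_1 (flp_i L664693) (flp_a L656637) L678566
theorem L678570 : sm gb N49180 = N47005 := ded_26_1 (flp_i L656756) (flp_b L656639) L678566
theorem L678572 : sm gc N49180 = N49180 := ded_33_1 (flp_i L678566) L656641 L678566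
theorem L678573 : sm gf N49180 = N49180 := ded_48_1 (flp_i L678566) L656642 L678566
theorem L678574 : sm gg N49180 = N46996 := ded_51_1 (flp_i L656645) (flp_g L656643) L678566
theorem L678576 : sm gj N49180 = N48615 := ded_53_1 (flp_i L678562) L678560 L678566
theorem L678578 : sm gh N49180 = N47055 := ded_54_1 (flp_i L657327) (flp_h L358616) (flp_i L358087) L656635 L678566
theorem L678580 : sm gj N46997 = N49181 := rfl
theorem L678582 : sm ga N49181 = N47016 := ded_16_1 (flp_j L656887) (flp_a L656660) L678580
theorem L678584 : sm gb N49181 = N47060 := ded_24_1 (flp_j L657379) (flp_b L656662) L678580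
theorem L678586 : sm gc N49181 = N49181 := ded_31_1 (flp_j L678580) L656664 L678580
theorem L678587 : sm gd N49181 = N47000 := ded_37_1 (flp_j L656699) (flp_d L656665) L678580
theorem L678589 : sm ge N49181 = N49181 := ded_42_1 (flp_j L678580) L656667 L678580
theorem L678590 : sm gf N49181 = N47051 := ded_46_1 (flp_j L657282) (flp_f L656670) L678580
theorem L678592 : sm gi N49181 = N47056 := ded_53_2 (flp_j L657341) (flp_i L656668) L678580
theorem L678594 : sm gg N49181 = N47164 := ded_49_1 (flp_j L658521) (flp_g L359865) (flp_j L358125) L656658 L678580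
theorem L678596 : sm gh N48613 = N49181 := ded_17_0 L678582 (flp_h L656901) (flp_a L671912)
theorem L678598 : sm gh N46997 = N49182 := rfl
theorem L678600 : sm ga N49182 = N47017 := ded_17_1 (flp_h L656903) (flp_a L656660) L678598
theorem L678602 : sm gb N49182 = N47061 := ded_25_1 (flp_h L657388) (flp_b L656662) L678598
theorem L678604 : sm gc N49182 = N49182 := ded_32_1 (flp_h L678598) L656664 L678598
theorem L678605 : sm ge N49182 = N49182 := ded_43_1 (flp_h L678598) L656667 L678598
theorem L678606 : sm gf N49182 = N47052 := ded_47_1 (flp_h L657295) (flp_f L656670) L678598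
theorem L678608 : sm gg N49182 = N46998 := ded_50_1 (flp_h L656672) L656658 L678598
theorem L678610 : sm gj N49182 = N48613 := ded_52_1 L678596 (flp_j L678580) L678598
theorem L678612 : sm gd N46998 = N49183 := rfl
theorem L678614 : sm ga N49183 = N47018 := ded_12_1 (flp_d L656915) (flp_a L656674) L678612
theorem L678616 : sm gb N49183 = N48094 := ded_20_1 (flp_d L667820) (flp_b L656676) L678612
theorem L678618 : sm gf N49183 = N48075 := ded_35_2 (flp_d L667643) (flp_f L656680) L678612
theorem L678620 : sm gj N49183 = N47166 := ded_37_2 (flp_d L658539) (flp_j L656682) L678612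
theorem L678622 : sm gh N49183 = N47002 := ded_38_2 (flp_d L656721) (flp_h L358141) L358119 L656672 L678612
theorem L678624 : sm gi N46998 = N49184 := rfl
theorem L678626 : sm ga N49184 = N47019 := ded_18_1 (flp_i L656923) (flp_a L656674) L678624
theorem L678628 : sm gb N49184 = N48095 := ded_26_1 (flp_i L667826) (flp_b L656676) L678624
theorem L678630 : sm gc N49184 = N49184 := ded_33_1 (flp_i L678624) L656678 L678624
theorem L678631 : sm ge N49184 = N49184 := ded_44_1 (flp_i L678624) L656679 L678624
theorem L678632 : sm gf N49184 = N48076 := ded_48_1 (flp_i L667657) (flp_f L656680) L678624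
theorem L678634 : sm gj N49184 = N47167 := ded_53_1 (flp_i L658547) (flp_j L656682) L678624
theorem L678636 : sm gh N49184 = N47059 := ded_54_1 (flp_i L657369) (flp_h L358677) (flp_i L358127) L656672 L678624
theorem L678638 : sm gj N46999 = N49185 := rfl
theorem L678640 : sm ga N49185 = N47020 := ded_16_1 (flp_j L656933) (flp_a L656686) L678638
theorem L678642 : sm gb N49185 = N47056 := ded_24_1 (flp_j L657341) (flp_b L656688) L678638
theorem L678644 : sm gc N49185 = N47009 := ded_31_1 (flp_j L656802) (flp_c L656690) L678638
theorem L678646 : sm gd N49185 = N47051 := ded_37_1 (flp_j L657282) (flp_d L656692) L678638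
theorem L678648 : sm ge N49185 = N49185 := ded_42_1 (flp_j L678638) L656696 L678638
theorem L678649 : sm gf N49185 = N47000 := ded_46_1 (flp_j L656699) L656684 L678638
theorem L678651 : sm gi N49185 = N47060 := ded_53_2 (flp_j L657379) (flp_i L656694) L678638
theorem L678653 : sm gg N49185 = N47256 := ded_49_1 (flp_j L659382) (flp_g L360449) (flp_j L358586) (flp_g L656697) L678638
theorem L678655 : sm gh N46999 = N49186 := rfl
theorem L678657 : sm ga N49186 = N47021 := ded_17_1 (flp_h L656946) (flp_a L656686) L678655
theorem L678659 : sm gb N49186 = N47057 := ded_25_1 (flp_h L657351) (flp_b L656688) L678655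
theorem L678661 : sm gc N49186 = N47010 := ded_32_1 (flp_h L656813) (flp_c L656690) L678655
theorem L678663 : sm ge N49186 = N49186 := ded_43_1 (flp_h L678655) L656696 L678655
theorem L678664 : sm gf N49186 = N47001 := ded_47_1 (flp_h L656711) L656684 L678655
theorem L678666 : sm gg N49186 = N47050 := ded_50_1 (flp_h L657269) (flp_g L656697) L678655
theorem L678668 : sm gh N47000 = N49187 := rfl
theorem L678670 : sm ga N49187 = N47022 := ded_17_1 (flp_h L656957) (flp_a L656701) L678668
theorem L678672 : sm gc N49187 = N47011 := ded_32_1 (flp_h L656825) (flp_c L656703) L678668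
theorem L678674 : sm ge N49187 = N47004 := ded_43_1 (flp_h L656743) (flp_e L656705) L678668
theorem L678676 : sm gg N49187 = N47170 := ded_50_1 (flp_h L658581) (flp_g L656709) L678668
theorem L678678 : sm gj N49187 = N47001 := ded_52_1 (flp_h L656711) L656699 L678668
theorem L678680 : sm gd N47210 = N49187 := ded_27_0 L678672 (flp_d L656836) L359576 (flp_d L360168) (flp_c L658932)
theorem L678682 : sm gd N47001 = N49188 := rfl
theorem L678684 : sm ga N49188 = N47023 := ded_12_1 (flp_d L656967) (flp_a L656713) L678682
theorem L678686 : sm gg N49188 = N47002 := ded_36_2 (flp_d L656721) (flp_g L656719) L678682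
theorem L678688 : sm gj N49188 = N47210 := ded_37_2 L678680 L678678 L678682
theorem L678690 : sm gc N49188 = N47026 := ded_27_1 L656993 (flp_c L656426) L656433 (flp_c L656715) L678682
theorem L678692 : sm ge N49188 = N47025 := ded_34_2 L656987 (flp_e L656477) L656485 (flp_e L656717) L678682
theorem L678694 : sm gi N47001 = N49189 := rfl
theorem L678696 : sm ga N49189 = N47024 := ded_18_1 (flp_i L656971) (flp_a L656713) L678694
theorem L678698 : sm gc N49189 = N47012 := ded_33_1 (flp_i L656838) (flp_c L656715) L678694
theorem L678700 : sm ge N49189 = N47005 := ded_44_1 (flp_i L656756) (flp_e L656717) L678694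
theorem L678702 : sm gg N49189 = N47003 := ded_51_1 (flp_i L656729) (flp_g L656719) L678694
theorem L678704 : sm gh N49189 = N47064 := ded_54_1 (flp_i L657419) (flp_h L358706) (flp_i L358139) L656711 L678694
theorem L678706 : sm gc N47002 = N49190 := rfl
theorem L678708 : sm ga N49190 = N47025 := ded_11_1 (flp_c L656981) (flp_a L656723) L678706
theorem L678710 : sm gf N49190 = N48079 := ded_29_2 (flp_c L667702) (flp_f L656725) L678706
theorem L678712 : sm gg N49190 = N47026 := ded_30_2 (flp_c L678690) L678686 L678706
theorem L678714 : sm gj N49190 = N47173 := ded_31_2 (flp_c L658609) (flp_j L656727) L678706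
theorem L678716 : sm gd N49190 = N47013 := ded_27_2 (flp_c L656849) (flp_d L358246) (flp_c L358145) L656721 L678706
theorem L678718 : sm ge N47023 = N49190 := ded_13_0 L678708 (flp_e L678692) L678684
theorem L678720 : sm ge N47002 = N49191 := rfl
theorem L678722 : sm ga N49191 = N47026 := ded_13_1 (flp_e L656989) (flp_a L656723) L678720
theorem L678724 : sm gb N49191 = N48108 := ded_21_1 (flp_e L678529) L678523 L678720
theorem L678726 : sm gc N49191 = N47023 := ded_28_1 L678718 (flp_c L678706) L678720
theorem L678728 : sm gg N49191 = N47025 := ded_41_2 (flp_e L678692) L678686 L678720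
theorem L678730 : sm gj N49191 = N47174 := ded_42_2 (flp_e L658617) (flp_j L656727) L678720
theorem L678732 : sm gd N49191 = N47006 := ded_34_1 (flp_e L656767) (flp_d L358174) (flp_e L358147) L656721 L678720
theorem L678734 : sm gf N49191 = N48111 := ded_40_2 (flp_e L673813) L673807 L664466 (flp_f L656725) L678720
theorem L678736 : sm gi N47002 = N49192 := rfl
theorem L678738 : sm ga N49192 = N47027 := ded_18_1 (flp_i L656995) (flp_a L656723) L678736
theorem L678740 : sm gd N49192 = N47003 := ded_39_1 (flp_i L656729) L656721 L678736
theorem L678742 : sm gf N49192 = N48080 := ded_48_1 (flp_i L667710) (flp_f L656725) L678736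
theorem L678744 : sm gj N49192 = N47175 := ded_53_1 (flp_i L658623) (flp_j L656727) L678736
theorem L678746 : sm gi N47004 = N49193 := rfl
theorem L678748 : sm ga N49193 = N47029 := ded_18_1 (flp_i L657017) (flp_a L656745) L678746
theorem L678750 : sm gb N49193 = N48615 := ded_26_1 (flp_i L678562) L678554 L678746
theorem L678752 : sm gc N49193 = N47015 := ded_33_1 (flp_i L656873) (flp_c L656747) L678746
theorem L678754 : sm gd N49193 = N47139 := ded_39_1 (flp_i L658240) L656754 L678746
theorem L678756 : sm gf N49193 = N49193 := ded_48_1 (flp_i L678746) L656749 L678746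
theorem L678757 : sm gg N49193 = N47176 := ded_51_1 (flp_i L658631) (flp_g L656750) L678746
theorem L678759 : sm gj N49193 = N47005 := ded_53_1 (flp_i L656756) (flp_j L656752) L678746
theorem L678761 : sm gh N49193 = N47068 := ded_54_1 (flp_i L657457) (flp_h L358736) (flp_i L358161) L656743 L678746
theorem L678763 : sm gi N47006 = N49194 := rfl
theorem L678765 : sm ga N49194 = N47032 := ded_18_1 (flp_i L657052) (flp_a L656769) L678763
theorem L678767 : sm gb N49194 = N48125 := ded_26_1 (flp_i L668067) (flp_b L656771) L678763
theorem L678769 : sm gc N49194 = N47041 := ded_33_1 (flp_i L657162) (flp_c L656773) L678763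
theorem L678771 : sm ge N49194 = N47007 := ded_44_1 (flp_i L656782) L656767 L678763
theorem L678773 : sm gf N49194 = N48128 := ded_48_1 (flp_i L668093) (flp_f L656780) L678763
theorem L678775 : sm gg N49194 = N47043 := ded_51_1 (flp_i L657183) (flp_g L656775) L678763
theorem L678777 : sm gj N49194 = N47179 := ded_53_1 (flp_i L658664) (flp_j L656777) L678763
theorem L678779 : sm gh N47007 = N49195 := rfl
theorem L678781 : sm ga N49195 = N47033 := ded_17_1 (flp_h L657058) (flp_a L656784) L678779
theorem L678783 : sm gf N49195 = N47008 := ded_47_1 (flp_h L656792) (flp_f L656788) L678779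
theorem L678785 : sm gj N49195 = N47180 := ded_52_1 (flp_h L658670) (flp_j L656790) L678779
theorem L678787 : sm gd N49195 = N47072 := ded_38_1 (flp_h L657507) L358778 (flp_h L358193) (flp_d L656786) L678779
theorem L678789 : sm gi N49195 = N49195 := ded_54_2 (flp_h L678779) (flp_i L656782) L358182 L656782 L678779
theorem L678790 : sm gg N47009 = N49196 := rfl
theorem L678792 : sm ga N49196 = N47036 := ded_15_1 (flp_g L657093) (flp_a L656804) L678790
theorem L678794 : sm gb N49196 = N49196 := ded_23_1 (flp_g L678790) L656806 L678790
theorem L678795 : sm gc N49196 = N47256 := ded_30_1 (flp_g L678653) L678644 L678790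
theorem L678797 : sm gd N49196 = N49196 := ded_36_1 (flp_g L678790) L656807 L678790
theorem L678798 : sm ge N49196 = N49196 := ded_41_1 (flp_g L678790) L656808 L678790
theorem L678799 : sm gi N49196 = N47073 := ded_51_2 (flp_g L657517) (flp_i L656811) L678790
theorem L678801 : sm gf N49196 = N47181 := ded_45_1 (flp_g L658679) L360011 (flp_g L358235) (flp_f L656809) L678790
theorem L678803 : sm gj N49196 = N47254 := ded_49_2 (flp_g L659351) L617642 (flp_g L358223) L656802 L678790
theorem L678805 : sm gh N47856 = N49196 := ded_17_0 L678792 (flp_h L657105) L665545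
theorem L678807 : sm gh N47009 = N49197 := rfl
theorem L678809 : sm ga N49197 = N47037 := ded_17_1 (flp_h L657107) (flp_a L656804) L678807
theorem L678811 : sm gb N49197 = N49197 := ded_25_1 (flp_h L678807) L656806 L678807
theorem L678812 : sm ge N49197 = N49197 := ded_43_1 (flp_h L678807) L656808 L678807
theorem L678813 : sm gf N49197 = N47011 := ded_47_1 (flp_h L656825) (flp_f L656809) L678807
theorem L678815 : sm gg N49197 = N47856 := ded_50_1 L678805 (flp_g L678790) L678807
theorem L678817 : sm gj N49197 = N47010 := ded_52_1 (flp_h L656813) L656802 L678807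
theorem L678819 : sm gd N49197 = N47129 := ded_55_2 (flp_f L658121) (flp_e L359573) (flp_d L247376) L170446 L170447 L117606 L117824 L117830 L81667 L81668 L56583 L41435 L29569 L20622 (flp_d L28828) (flp_i L28825) (flp_h L20080) (flp_d L14026) L14031 L14038 (flp_d L20078) (flp_b L28784) (flp_c L41400) L41402 (flp_i L45352) L65516 L591431 (flp_f L86180) (flp_e L81531) L81530 (flp_b L81528) (flp_c L56507) (flp_d L39270) (flp_i L39217) (flp_h L56353) L81291 L117539 L170378 L170384 L170382 (flp_c L614268) L246311 L169748 L169746 (flp_d L169952) L169954 (flp_e L246620) L246619 L246617 (flp_c L243761) L644293 (flp_i L176487) (flp_h L121655) L84057 (flp_f L80451) (flp_e L80444) L55779 (flp_b L55768) L55770 (flp_d L80421) L80423 L80558 (flp_d L115120) L115118 L79687 L79690 L55846 L38844 L27383 L39337 (flp_h L56495) (flp_d L81373) (flp_f L117669) (flp_e L170547) (flp_d L247527) (flp_b L359667) (flp_c L658242) (flp_d L678754) (flp_i L678746) (flp_h L656743) L358159 L358160 (flp_e L656705) (flp_d L678587) L678584 L657383 L358820 (flp_i L656811) L678807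
theorem L678821 : sm gi N47010 = N49198 := rfl
theorem L678823 : sm ga N49198 = N47038 := ded_18_1 (flp_i L657120) (flp_a L656815) L678821
theorem L678825 : sm gb N49198 = N49198 := ded_26_1 (flp_i L678821) L656817 L678821
theorem L678826 : sm gd N49198 = N48135 := ded_39_1 (flp_i L668160) L656823 L678821
theorem L678828 : sm ge N49198 = N49198 := ded_44_1 (flp_i L678821) L656818 L678821
theorem L678829 : sm gf N49198 = N47012 := ded_48_1 (flp_i L656838) (flp_f L656819) L678821
theorem L678831 : sm gg N49198 = N47778 := ded_51_1 (flp_i L664736) (flp_g L656821) L678821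
theorem L678833 : sm gh N49198 = N47074 := ded_54_1 (flp_i L657528) (flp_h L358824) (flp_i L358220) L656813 L678821
theorem L678835 : sm gi N47011 = N49199 := rfl
theorem L678837 : sm ga N49199 = N47040 := ded_18_1 (flp_i L657150) (flp_a L656827) L678835
theorem L678839 : sm gb N49199 = N49199 := ded_26_1 (flp_i L678835) L656829 L678835
theorem L678840 : sm gd N49199 = N47130 := ded_39_1 (flp_i L658135) L656836 L678835
theorem L678842 : sm ge N49199 = N47015 := ded_44_1 (flp_i L656873) (flp_e L656830) L678835
theorem L678844 : sm gg N49199 = N47185 := ded_51_1 (flp_i L658727) (flp_g L656832) L678835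
theorem L678846 : sm gj N49199 = N47012 := ded_53_1 (flp_i L656838) (flp_j L656834) L678835
theorem L678848 : sm gh N49199 = N47075 := ded_54_1 (flp_i L657538) (flp_h L358834) (flp_i L358233) L656825 L678835
theorem L678850 : sm gi N47013 = N49200 := rfl
theorem L678852 : sm ga N49200 = N47043 := ded_18_1 (flp_i L657183) (flp_a L656851) L678850
theorem L678854 : sm gc N49200 = N47014 := ded_33_1 (flp_i L656862) L656849 L678850
theorem L678856 : sm ge N49200 = N47030 := ded_44_1 (flp_i L657030) (flp_e L656853) L678850
theorem L678858 : sm gf N49200 = N48082 := ded_48_1 (flp_i L667725) (flp_f L656855) L678850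
theorem L678860 : sm gg N49200 = N47032 := ded_51_1 (flp_i L657052) (flp_g L656857) L678850
theorem L678862 : sm gj N49200 = N47189 := ded_53_1 (flp_i L658764) (flp_j L656859) L678850
theorem L678864 : sm gh N47014 = N49201 := rfl
theorem L678866 : sm ga N49201 = N47044 := ded_17_1 (flp_h L657191) (flp_a L656864) L678864
theorem L678868 : sm gb N49201 = N49201 := ded_25_1 (flp_h L678864) L656866 L678864
theorem L678869 : sm gf N49201 = N48083 := ded_47_1 (flp_h L667734) (flp_f L656869) L678864
theorem L678871 : sm gj N49201 = N47190 := ded_52_1 (flp_h L658772) (flp_j L656871) L678864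
theorem L678873 : sm gd N49201 = N47080 := ded_38_1 (flp_h L657593) L358878 (flp_h L358267) (flp_d L656867) L678864
theorem L678875 : sm gi N49201 = N49201 := ded_54_2 (flp_h L678864) (flp_i L656862) L358255 L656862 L678864
theorem L678876 : sm gd N47017 = N49202 := rfl
theorem L678878 : sm gb N49202 = N48117 := ded_20_1 L668005 (flp_b L656905) L678876
theorem L678880 : sm gf N49202 = N48115 := ded_35_2 L667991 (flp_f L656909) L678876
theorem L678882 : sm gg N49202 = N47018 := ded_36_2 (flp_d L656915) (flp_g L656911) L678876
theorem L678884 : sm gj N49202 = N48266 := ded_37_2 L669143 (flp_j L656913) L678876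
theorem L678886 : sm gh N49202 = N47023 := ded_38_2 (flp_d L656967) (flp_h L358324) (flp_d L358292) L656903 L678876
theorem L678888 : sm gi N47017 = N49203 := rfl
theorem L678890 : sm gb N49203 = N48582 := ded_26_1 (flp_i L671648) (flp_b L656905) L678888
theorem L678892 : sm gc N49203 = N49203 := ded_33_1 (flp_i L678888) L656907 L678888
theorem L678893 : sm ge N49203 = N49203 := ded_44_1 (flp_i L678888) L656908 L678888
theorem L678894 : sm gf N49203 = N48581 := ded_48_1 (flp_i L671639) (flp_f L656909) L678888
theorem L678896 : sm gg N49203 = N47019 := ded_51_1 (flp_i L656923) (flp_g L656911) L678888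
theorem L678898 : sm gj N49203 = N48616 := ded_53_1 (flp_i L671929) (flp_j L656913) L678888
theorem L678900 : sm gh N49203 = N47085 := ded_54_1 (flp_i L657644) (flp_h L358911) (flp_i L358295) L656903 L678888
theorem L678902 : sm gc N47018 = N49204 := rfl
theorem L678904 : sm gf N49204 = N48084 := ded_29_2 (flp_c L667745) (flp_f L656917) L678902
theorem L678906 : sm gj N49204 = N47197 := ded_31_2 (flp_c L658836) (flp_j L656919) L678902
theorem L678908 : sm gh N49204 = N47025 := ded_32_2 (flp_c L656981) (flp_h L656921) L678902
theorem L678910 : sm gd N49204 = N49204 := ded_27_2 (flp_c L678902) (flp_d L656915) L358299 L656915 L678902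
theorem L678911 : sm ge N47018 = N49205 := rfl
theorem L678913 : sm gj N49205 = N47198 := ded_42_2 (flp_e L658843) (flp_j L656919) L678911
theorem L678915 : sm gh N49205 = N47026 := ded_43_2 (flp_e L656989) (flp_h L656921) L678911
theorem L678917 : sm gd N49205 = N49205 := ded_34_1 (flp_e L678911) (flp_d L656915) L358300 L656915 L678911
theorem L678918 : sm gi N47018 = N49206 := rfl
theorem L678920 : sm gd N49206 = N47019 := ded_39_1 (flp_i L656923) L656915 L678918
theorem L678922 : sm gf N49206 = N48085 := ded_48_1 (flp_i L667752) (flp_f L656917) L678918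
theorem L678924 : sm gj N49206 = N47199 := ded_53_1 (flp_i L658848) (flp_j L656919) L678918
theorem L678926 : sm gh N47020 = N49207 := rfl
theorem L678928 : sm gb N49207 = N47775 := ded_25_1 L664712 (flp_b L656935) L678926
theorem L678930 : sm gc N49207 = N47037 := ded_32_1 (flp_h L657107) (flp_c L656937) L678926
theorem L678932 : sm ge N49207 = N49207 := ded_43_1 (flp_h L678926) L656941 L678926
theorem L678933 : sm gf N49207 = N47022 := ded_47_1 (flp_h L656957) (flp_f L656942) L678926
theorem L678935 : sm gg N49207 = N47848 := ded_50_1 (flp_h L674712) L674716 L678926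
theorem L678937 : sm gj N49207 = N47021 := ded_52_1 (flp_h L656946) L656933 L678926
theorem L678939 : sm gd N49207 = N48234 := ded_38_1 L668942 L384029 (flp_h L649757) (flp_d L656939) L678926
theorem L678941 : sm gd N47021 = N49208 := rfl
theorem L678943 : sm gb N49208 = N47764 := ded_20_1 L664599 (flp_b L656948) L678941
theorem L678945 : sm gf N49208 = N47023 := ded_35_2 (flp_d L656967) (flp_f L656953) L678941
theorem L678947 : sm gg N49208 = N47766 := ded_36_2 L664615 (flp_g L656955) L678941
theorem L678949 : sm gj N49208 = N48234 := ded_37_2 (flp_d L678939) L678937 L678941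
theorem L678951 : sm gc N49208 = N48111 := ded_27_1 L667963 L381971 (flp_d L637286) (flp_c L656950) L678941
theorem L678953 : sm gh N49208 = N48115 := ded_38_2 L667991 L652324 L652314 L656946 L678941
theorem L678955 : sm ge N48104 = N49208 := ded_21_0 L678943 L664591 L667915
theorem L678957 : sm gi N47021 = N49209 := rfl
theorem L678959 : sm gb N49209 = N47776 := ded_26_1 (flp_i L664716) (flp_b L656948) L678957
theorem L678961 : sm gc N49209 = N47038 := ded_33_1 (flp_i L657120) (flp_c L656950) L678957
theorem L678963 : sm ge N49209 = N49209 := ded_44_1 (flp_i L678957) L656952 L678957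
theorem L678964 : sm gf N49209 = N47024 := ded_48_1 (flp_i L656971) (flp_f L656953) L678957
theorem L678966 : sm gg N49209 = N47777 := ded_51_1 (flp_i L664723) (flp_g L656955) L678957
theorem L678968 : sm gh N49209 = N47091 := ded_54_1 (flp_i L657693) (flp_h L358940) (flp_i L358309) L656946 L678957
theorem L678970 : sm gd N47022 = N49210 := rfl
theorem L678972 : sm ga N49210 = N47210 := ded_12_1 L678680 L678670 L678970
theorem L678974 : sm gb N49210 = N48236 := ded_20_1 (flp_d L673630) L673618 L678970
theorem L678976 : sm gf N49210 = N48234 := ded_35_2 (flp_d L678939) L678933 L678970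
theorem L678978 : sm gg N49210 = N47204 := ded_36_2 (flp_d L658892) (flp_g L656963) L678970
theorem L678980 : sm gj N49210 = N47023 := ded_37_2 (flp_d L656967) (flp_j L656965) L678970
theorem L678982 : sm gc N49210 = N47174 := ded_27_1 L658621 L657148 (flp_d L657133) (flp_c L656959) L678970
theorem L678984 : sm ge N49210 = N47173 := ded_34_2 L658615 L657015 (flp_d L657003) (flp_e L656961) L678970
theorem L678986 : sm gh N49210 = N48266 := ded_38_2 L669143 L656901 L656892 L656957 L678970
theorem L678988 : sm gi N47022 = N49211 := rfl
theorem L678990 : sm gb N49211 = N47789 := ded_26_1 (flp_i L673632) L673618 L678988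
theorem L678992 : sm gc N49211 = N47040 := ded_33_1 (flp_i L657150) (flp_c L656959) L678988
theorem L678994 : sm ge N49211 = N47029 := ded_44_1 (flp_i L657017) (flp_e L656961) L678988
theorem L678996 : sm gg N49211 = N47205 := ded_51_1 (flp_i L658896) (flp_g L656963) L678988
theorem L678998 : sm gj N49211 = N47024 := ded_53_1 (flp_i L656971) (flp_j L656965) L678988
theorem L679000 : sm gh N49211 = N47093 := ded_54_1 (flp_i L657714) (flp_h L358949) (flp_i L358320) L656957 L678988
theorem L679002 : sm gi N47023 = N49212 := rfl
theorem L679004 : sm gd N49212 = N47024 := ded_39_1 (flp_i L656971) L656967 L679002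
theorem L679006 : sm gg N49212 = N47027 := ded_51_1 (flp_i L656995) (flp_g L656969) L679002
theorem L679008 : sm gb N47025 = N49213 := rfl
theorem L679010 : sm gd N49213 = N47042 := ded_20_2 (flp_b L657172) (flp_d L656987) L679008
theorem L679012 : sm gf N49213 = N47094 := ded_22_2 L657732 (flp_f L656983) L679008
theorem L679014 : sm gg N49213 = N48108 := ded_23_2 (flp_b L678724) L678728 L679008
theorem L679016 : sm gj N49213 = N47209 := ded_24_2 (flp_b L658924) (flp_j L656985) L679008
theorem L679018 : sm gc N49213 = N47090 := ded_19_2 L673682 (flp_c L673668) L652136 L656981 L679008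
theorem L679020 : sm gi N47025 = N49214 := rfl
theorem L679022 : sm gc N49214 = N47027 := ded_33_1 (flp_i L656995) L656981 L679020
theorem L679024 : sm gd N49214 = N47043 := ded_39_1 (flp_i L657183) (flp_d L656987) L679020
theorem L679026 : sm gf N49214 = N48088 := ded_48_1 (flp_i L667771) (flp_f L656983) L679020
theorem L679028 : sm gj N49214 = N47211 := ded_53_1 (flp_i L658934) (flp_j L656985) L679020
theorem L679030 : sm gf N47026 = N49215 := rfl
theorem L679032 : sm ga N49215 = N48111 := ded_14_1 (flp_f L678734) L678722 L679030
theorem L679034 : sm gb N49215 = N47066 := ded_22_1 (flp_f L673694) L673688 L679030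
theorem L679036 : sm gd N49215 = N47031 := ded_35_1 (flp_f L657037) (flp_d L656993) L679030
theorem L679038 : sm gj N49215 = N47212 := ded_46_2 (flp_f L658942) (flp_j L656991) L679030
theorem L679040 : sm ge N49215 = N47053 := ded_40_1 L657312 (flp_e L380825) (flp_f L358334) L656989 L679030
theorem L679042 : sm gg N48114 = N49215 := ded_15_0 L679032 L667965 L667979
theorem L679044 : sm gi N47026 = N49216 := rfl
theorem L679046 : sm gd N49216 = N47032 := ded_39_1 (flp_i L657052) (flp_d L656993) L679044
theorem L679048 : sm ge N49216 = N47027 := ded_44_1 (flp_i L656995) L656989 L679044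
theorem L679050 : sm gj N49216 = N47213 := ded_53_1 (flp_i L658950) (flp_j L656991) L679044
theorem L679052 : sm gh N47027 = N49217 := rfl
theorem L679054 : sm gf N49217 = N48090 := ded_47_1 (flp_h L667789) (flp_f L656999) L679052
theorem L679056 : sm gj N49217 = N47214 := ded_52_1 (flp_h L658956) (flp_j L657001) L679052
theorem L679058 : sm gd N49217 = N47102 := ded_38_1 (flp_h L657797) L358987 (flp_h L358348) (flp_d L656997) L679052
theorem L679060 : sm gi N47028 = N49218 := rfl
theorem L679062 : sm ga N49218 = N47139 := ded_18_1 (flp_i L658240) (flp_a L657005) L679060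
theorem L679064 : sm gb N49218 = N48601 := ded_26_1 (flp_i L673719) L673712 L679060
theorem L679066 : sm gc N49218 = N47125 := ded_33_1 (flp_i L658068) (flp_c L657012) L679060
theorem L679068 : sm gd N49218 = N47029 := ded_39_1 (flp_i L657017) L657003 L679060
theorem L679070 : sm ge N49218 = N47189 := ded_44_1 (flp_i L658764) L657015 L679060
theorem L679072 : sm gf N49218 = N49218 := ded_48_1 (flp_i L679060) L657007 L679060
theorem L679073 : sm gg N49218 = N47215 := ded_51_1 (flp_i L658962) (flp_g L657008) L679060
theorem L679075 : sm gj N49218 = N47030 := ded_53_1 (flp_i L657030) (flp_j L657010) L679060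
theorem L679077 : sm gh N48605 = N49218 := ded_25_0 L679064 L671824 (flp_b L671854)
theorem L679079 : sm gh N47030 = N49219 := rfl
theorem L679081 : sm gb N49219 = N48580 := ded_25_1 L673753 L673743 L679079
theorem L679083 : sm gf N49219 = N49219 := ded_47_1 (flp_h L679079) L657034 L679079
theorem L679084 : sm gg N49219 = N47033 := ded_50_1 (flp_h L657058) (flp_g L657035) L679079
theorem L679086 : sm gj N49219 = N48605 := ded_52_1 L679077 L679075 L679079
theorem L679088 : sm gd N49219 = N47104 := ded_38_1 (flp_h L657814) L359020 (flp_h L358372) (flp_d L657032) L679079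
theorem L679090 : sm gi N49219 = N49219 := ded_54_2 (flp_h L679079) (flp_i L657030) L358364 L657030 L679079
theorem L679091 : sm gi N47031 = N49220 := rfl
theorem L679093 : sm ga N49220 = N48128 := ded_18_1 (flp_i L668093) (flp_a L657039) L679091
theorem L679095 : sm gb N49220 = N47071 := ded_26_1 (flp_i L657498) (flp_b L657041) L679091
theorem L679097 : sm gc N49220 = N48135 := ded_33_1 (flp_i L668160) (flp_c L657043) L679091
theorem L679099 : sm ge N49220 = N47034 := ded_44_1 (flp_i L657067) (flp_e L657048) L679091
theorem L679101 : sm gf N49220 = N47032 := ded_48_1 (flp_i L657052) L657037 L679091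
theorem L679103 : sm gg N49220 = N48130 := ded_51_1 (flp_i L668112) L657050 L679091
theorem L679105 : sm gj N49220 = N47220 := ded_53_1 (flp_i L659003) (flp_j L657045) L679091
theorem L679107 : sm gh N47032 = N49221 := rfl
theorem L679109 : sm ge N49221 = N47033 := ded_43_1 (flp_h L657058) (flp_e L657054) L679107
theorem L679111 : sm gj N49221 = N47221 := ded_52_1 (flp_h L659011) (flp_j L657056) L679107
theorem L679113 : sm gi N49221 = N49221 := ded_54_2 (flp_h L679107) (flp_i L657052) L358378 L657052 L679107
theorem L679114 : sm gh N47034 = N49222 := rfl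
theorem L679116 : sm ga N49222 = N48584 := ded_17_1 (flp_h L671665) (flp_a L657069) L679114
theorem L679118 : sm gb N49222 = N47072 := ded_25_1 (flp_h L657507) (flp_b L657071) L679114
theorem L679120 : sm gc N49222 = N48595 := ded_32_1 (flp_h L671767) (flp_c L657073) L679114
theorem L679122 : sm gf N49222 = N47035 := ded_47_1 (flp_h L657083) (flp_f L657077) L679114
theorem L679124 : sm gg N49222 = N48585 := ded_50_1 (flp_h L671674) (flp_g L657079) L679114
theorem L679126 : sm gj N49222 = N47223 := ded_52_1 (flp_h L659032) (flp_j L657081) L679114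
theorem L679128 : sm gi N49222 = N49222 := ded_54_2 (flp_h L679114) (flp_i L657067) L358393 L657067 L679114
theorem L679129 : sm gi N47039 = N49223 := rfl
theorem L679131 : sm ga N49223 = N47130 := ded_18_1 (flp_i L658135) (flp_a L657135) L679129
theorem L679133 : sm gb N49223 = N47045 := ded_26_1 (flp_i L657202) (flp_b L657137) L679129
theorem L679135 : sm gc N49223 = N47179 := ded_33_1 (flp_i L658664) L657148 L679129
theorem L679137 : sm gd N49223 = N47040 := ded_39_1 (flp_i L657150) L657133 L679129
theorem L679139 : sm ge N49223 = N47121 := ded_44_1 (flp_i L658016) (flp_e L657145) L679129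
theorem L679141 : sm gf N49223 = N48134 := ded_48_1 (flp_i L668150) (flp_f L657139) L679129
theorem L679143 : sm gg N49223 = N47230 := ded_51_1 (flp_i L659106) (flp_g L657141) L679129
theorem L679145 : sm gj N49223 = N47041 := ded_53_1 (flp_i L657162) (flp_j L657143) L679129
theorem L679147 : sm gh N48196 = N49223 := ded_25_0 L679133 (flp_h L657215) (flp_b L668649)
theorem L679149 : sm gh N47041 = N49224 := rfl
theorem L679151 : sm gb N49224 = N47046 := ded_25_1 (flp_h L657217) (flp_b L657164) L679149
theorem L679153 : sm gf N49224 = N48136 := ded_47_1 (flp_h L668169) (flp_f L657168) L679149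
theorem L679155 : sm gg N49224 = N47044 := ded_50_1 (flp_h L657191) (flp_g L657170) L679149
theorem L679157 : sm gj N49224 = N48196 := ded_52_1 L679147 L679145 L679149
theorem L679159 : sm gd N49224 = N47112 := ded_38_1 (flp_h L657894) L359140 (flp_h L358455) (flp_d L657166) L679149
theorem L679161 : sm gi N49224 = N49224 := ded_54_2 (flp_h L679149) (flp_i L657162) L358446 L657162 L679149
theorem L679162 : sm gi N47042 = N49225 := rfl
theorem L679164 : sm gb N49225 = N47043 := ded_26_1 (flp_i L657183) L657172 L679162
theorem L679166 : sm gc N49225 = N47048 := ded_33_1 (flp_i L657243) (flp_c L657181) L679162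
theorem L679168 : sm gf N49225 = N47111 := ded_48_1 (flp_i L657883) (flp_f L657174) L679162
theorem L679170 : sm gg N49225 = N48125 := ded_51_1 (flp_i L668067) (flp_g L657176) L679162
theorem L679172 : sm gj N49225 = N47235 := ded_53_1 (flp_i L659143) (flp_j L657178) L679162
theorem L679174 : sm gh N47043 = N49226 := rfl
theorem L679176 : sm gc N49226 = N47044 := ded_32_1 (flp_h L657191) (flp_c L657185) L679174
theorem L679178 : sm gf N49226 = N48091 := ded_47_1 (flp_h L667795) (flp_f L657187) L679174
theorem L679180 : sm gj N49226 = N47236 := ded_52_1 (flp_h L659151) (flp_j L657189) L679174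
theorem L679182 : sm gi N49226 = N49226 := ded_54_2 (flp_h L679174) (flp_i L657183) L358463 L657183 L679174
theorem L679183 : sm gi N47047 = N49227 := rfl
theorem L679185 : sm ga N49227 = N47048 := ded_18_1 (flp_i L657243) L657231 L679183
theorem L679187 : sm gb N49227 = N49227 := ded_26_1 (flp_i L679183) L657242 L679183
theorem L679188 : sm gd N49227 = N47074 := ded_39_1 (flp_i L657528) (flp_d L657233) L679183
theorem L679190 : sm gf N49227 = N47077 := ded_48_1 (flp_i L657561) (flp_f L657235) L679183
theorem L679192 : sm gg N49227 = N48101 := ded_51_1 (flp_i L667885) (flp_g L657237) L679183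
theorem L679194 : sm gj N49227 = N47251 := ded_53_1 (flp_i L659321) (flp_j L657239) L679183
theorem L679196 : sm gh N47048 = N49228 := rfl
theorem L679198 : sm gb N49228 = N47049 := ded_25_1 (flp_h L657255) (flp_b L657245) L679196
theorem L679200 : sm gf N49228 = N47112 := ded_47_1 (flp_h L657894) (flp_f L657249) L679196
theorem L679202 : sm gg N49228 = N48127 := ded_50_1 (flp_h L668082) (flp_g L657251) L679196
theorem L679204 : sm gj N49228 = N47252 := ded_52_1 (flp_h L659328) (flp_j L657253) L679196
theorem L679206 : sm gd N49228 = N48136 := ded_38_1 (flp_h L668169) (flp_d L657124) L657131 (flp_d L657247) L679196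
theorem L679208 : sm gi N49228 = N49228 := ded_54_2 (flp_h L679196) (flp_i L657243) L358560 L657243 L679196
theorem L679209 : sm gd N47050 = N49229 := rfl
theorem L679211 : sm ga N49229 = N47766 := ded_12_1 L664615 (flp_a L657271) L679209
theorem L679213 : sm gb N49229 = N47058 := ded_20_1 (flp_d L657359) (flp_b L657273) L679209
theorem L679215 : sm gf N49229 = N48077 := ded_35_2 (flp_d L667672) (flp_f L657278) L679209
theorem L679217 : sm gj N49229 = N47258 := ded_37_2 (flp_d L659400) (flp_j L657280) L679209
theorem L679219 : sm gc N49229 = N48114 := ded_27_1 L667981 L381992 (flp_d L374984) (flp_c L657275) L679209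
theorem L679221 : sm gh N49229 = N47053 := ded_38_2 (flp_d L657308) (flp_h L358596) L358580 L657269 L679209
theorem L679223 : sm gi N47050 = N49230 := rfl
theorem L679225 : sm ga N49230 = N47777 := ded_18_1 (flp_i L664723) (flp_a L657271) L679223
theorem L679227 : sm gb N49230 = N47059 := ded_26_1 (flp_i L657369) (flp_b L657273) L679223
theorem L679229 : sm gc N49230 = N47778 := ded_33_1 (flp_i L664736) (flp_c L657275) L679223
theorem L679231 : sm ge N49230 = N49230 := ded_44_1 (flp_i L679223) L657277 L679223
theorem L679232 : sm gf N49230 = N48078 := ded_48_1 (flp_i L667686) (flp_f L657278) L679223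
theorem L679234 : sm gj N49230 = N47259 := ded_53_1 (flp_i L659412) (flp_j L657280) L679223
theorem L679236 : sm gh N49230 = N48095 := ded_54_1 (flp_i L667826) (flp_h L381349) (flp_i L611921) L657269 L679223
theorem L679238 : sm gd N47052 = N49231 := rfl
theorem L679240 : sm ga N49231 = N48115 := ded_12_1 L667991 (flp_a L657297) L679238
theorem L679242 : sm gb N49231 = N47063 := ded_20_1 (flp_d L657413) (flp_b L657299) L679238
theorem L679244 : sm gg N49231 = N47053 := ded_36_2 (flp_d L657308) (flp_g L657304) L679238
theorem L679246 : sm gj N49231 = N48264 := ded_37_2 L669131 (flp_j L657306) L679238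
theorem L679248 : sm ge N49231 = N48114 := ded_34_2 L667981 L381994 L649401 (flp_e L657302) L679238
theorem L679250 : sm gi N47052 = N49232 := rfl
theorem L679252 : sm ga N49232 = N48581 := ded_18_1 (flp_i L671639) (flp_a L657297) L679250
theorem L679254 : sm gb N49232 = N47064 := ded_26_1 (flp_i L657419) (flp_b L657299) L679250
theorem L679256 : sm gc N49232 = N49232 := ded_33_1 (flp_i L679250) L657301 L679250
theorem L679257 : sm ge N49232 = N47055 := ded_44_1 (flp_i L657327) (flp_e L657302) L679250
theorem L679259 : sm gg N49232 = N47054 := ded_51_1 (flp_i L657316) (flp_g L657304) L679250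
theorem L679261 : sm gj N49232 = N48614 := ded_53_1 (flp_i L671916) (flp_j L657306) L679250
theorem L679263 : sm gc N47053 = N49233 := rfl
theorem L679265 : sm ga N49233 = N48104 := ded_11_1 L673817 L673803 L679263
theorem L679267 : sm gf N49233 = N48087 := ded_29_2 L667766 (flp_f L657312) L679263
theorem L679269 : sm gj N49233 = N47265 := ded_31_2 (flp_c L659471) (flp_j L657314) L679263
theorem L679271 : sm gh N49233 = N48114 := ded_32_2 (flp_c L679219) L679221 L679263
theorem L679273 : sm gd N49233 = N49233 := ded_27_2 (flp_c L679263) (flp_d L657308) L358600 L657308 L679263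
theorem L679274 : sm gi N47053 = N49234 := rfl
theorem L679276 : sm gb N49234 = N47067 := ded_26_1 (flp_i L657447) (flp_b L657310) L679274
theorem L679278 : sm gd N49234 = N47054 := ded_39_1 (flp_i L657316) L657308 L679274
theorem L679280 : sm gf N49234 = N48089 := ded_48_1 (flp_i L667779) (flp_f L657312) L679274
theorem L679282 : sm gj N49234 = N47266 := ded_53_1 (flp_i L659480) (flp_j L657314) L679274
theorem L679284 : sm gh N47056 = N49235 := rfl
theorem L679286 : sm ga N49235 = N47083 := ded_17_1 (flp_h L657630) (flp_a L657343) L679284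
theorem L679288 : sm gc N49235 = N49235 := ded_32_1 (flp_h L679284) L657345 L679284
theorem L679289 : sm ge N49235 = N49235 := ded_43_1 (flp_h L679284) L657348 L679284
theorem L679290 : sm gg N49235 = N47271 := ded_50_1 (flp_h L659535) (flp_g L657349) L679284
theorem L679292 : sm gj N49235 = N47057 := ded_52_1 (flp_h L657351) L657341 L679284
theorem L679294 : sm gd N47057 = N49236 := rfl
theorem L679296 : sm ga N49236 = N47084 := ded_12_1 (flp_d L657638) (flp_a L657353) L679294
theorem L679298 : sm gg N49236 = N47058 := ded_36_2 (flp_d L657359) (flp_g L657357) L679294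
theorem L679300 : sm gh N49236 = N47063 := ded_38_2 (flp_d L657413) (flp_h L358706) (flp_d L358674) L657351 L679294
theorem L679302 : sm gi N47057 = N49237 := rfl
theorem L679304 : sm ga N49237 = N47085 := ded_18_1 (flp_i L657644) (flp_a L657353) L679302
theorem L679306 : sm gc N49237 = N49237 := ded_33_1 (flp_i L679302) L657355 L679302
theorem L679307 : sm ge N49237 = N49237 := ded_44_1 (flp_i L679302) L657356 L679302
theorem L679308 : sm gg N49237 = N47059 := ded_51_1 (flp_i L657369) (flp_g L657357) L679302
theorem L679310 : sm gc N47058 = N49238 := rfl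
theorem L679312 : sm ga N49238 = N47086 := ded_11_1 (flp_c L657650) (flp_a L657361) L679310
theorem L679314 : sm gf N49238 = N48092 := ded_29_2 (flp_c L667803) (flp_f L657363) L679310
theorem L679316 : sm gj N49238 = N47274 := ded_31_2 (flp_c L659559) (flp_j L657365) L679310
theorem L679318 : sm gh N49238 = N47065 := ded_32_2 (flp_c L657429) (flp_h L657367) L679310
theorem L679320 : sm gd N49238 = N49238 := ded_27_2 (flp_c L679310) (flp_d L657359) L358681 L657359 L679310
theorem L679321 : sm ge N47058 = N49239 := rfl
theorem L679323 : sm ga N49239 = N47087 := ded_13_1 (flp_e L657659) (flp_a L657361) L679321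
theorem L679325 : sm gj N49239 = N47275 := ded_42_2 (flp_e L659568) (flp_j L657365) L679321
theorem L679327 : sm gh N49239 = N47066 := ded_43_2 (flp_e L657439) (flp_h L657367) L679321
theorem L679329 : sm gd N49239 = N49239 := ded_34_1 (flp_e L679321) (flp_d L657359) L358682 L657359 L679321
theorem L679330 : sm gi N47058 = N49240 := rfl
theorem L679332 : sm ga N49240 = N47088 := ded_18_1 (flp_i L657666) (flp_a L657361) L679330
theorem L679334 : sm gd N49240 = N47059 := ded_39_1 (flp_i L657369) L657359 L679330
theorem L679336 : sm gf N49240 = N48093 := ded_48_1 (flp_i L667812) (flp_f L657363) L679330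
theorem L679338 : sm gj N49240 = N47276 := ded_53_1 (flp_i L659575) (flp_j L657365) L679330
theorem L679340 : sm gg N47060 = N49241 := rfl
theorem L679342 : sm ga N49241 = N47089 := ded_15_1 (flp_g L657674) (flp_a L657381) L679340
theorem L679344 : sm gb N49241 = N47164 := ded_23_1 (flp_g L678594) L678584 L679340
theorem L679346 : sm gc N49241 = N47073 := ded_30_1 (flp_g L657517) (flp_c L657383) L679340
theorem L679348 : sm gd N49241 = N47157 := ded_36_1 (flp_g L678504) L678496 L679340
theorem L679350 : sm ge N49241 = N49241 := ded_41_1 (flp_g L679340) L657385 L679340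
theorem L679351 : sm gi N49241 = N47256 := ded_51_2 (flp_g L678653) L678651 L679340
theorem L679353 : sm gf N49241 = N47277 := ded_45_1 (flp_g L659583) L360639 (flp_g L358704) (flp_f L657386) L679340
theorem L679355 : sm gj N49241 = N47154 := ded_49_2 (flp_g L658396) L617587 (flp_g L358694) L657379 L679340
theorem L679357 : sm gd N47061 = N49242 := rfl
theorem L679359 : sm ga N49242 = N47090 := ded_12_1 (flp_d L657687) (flp_a L657390) L679357
theorem L679361 : sm gf N49242 = N47063 := ded_35_2 (flp_d L657413) (flp_f L657395) L679357
theorem L679363 : sm gg N49242 = N48094 := ded_36_2 (flp_d L667820) (flp_g L657397) L679357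
theorem L679365 : sm gi N47061 = N49243 := rfl
theorem L679367 : sm ga N49243 = N47091 := ded_18_1 (flp_i L657693) (flp_a L657390) L679365
theorem L679369 : sm gc N49243 = N47074 := ded_33_1 (flp_i L657528) (flp_c L657392) L679365
theorem L679371 : sm ge N49243 = N49243 := ded_44_1 (flp_i L679365) L657394 L679365
theorem L679372 : sm gf N49243 = N47064 := ded_48_1 (flp_i L657419) (flp_f L657395) L679365
theorem L679374 : sm gg N49243 = N48095 := ded_51_1 (flp_i L667826) (flp_g L657397) L679365
theorem L679376 : sm gd N47062 = N49244 := rfl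
theorem L679378 : sm ga N49244 = N47092 := ded_12_1 (flp_d L657702) (flp_a L657401) L679376
theorem L679380 : sm gb N49244 = N48264 := ded_20_1 L669131 (flp_b L657403) L679376
theorem L679382 : sm gg N49244 = N47281 := ded_36_2 (flp_d L659625) (flp_g L657409) L679376
theorem L679384 : sm gj N49244 = N47063 := ded_37_2 (flp_d L657413) (flp_j L657411) L679376
theorem L679386 : sm gc N49244 = N48179 := ded_27_1 L668534 L382975 (flp_d L637567) (flp_c L657405) L679376
theorem L679388 : sm ge N49244 = N48214 := ded_34_2 L668787 L383799 (flp_d L649219) (flp_e L657407) L679376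
theorem L679390 : sm gi N47062 = N49245 := rfl
theorem L679392 : sm ga N49245 = N47093 := ded_18_1 (flp_i L657714) (flp_a L657401) L679390
theorem L679394 : sm gb N49245 = N48614 := ded_26_1 (flp_i L671916) (flp_b L657403) L679390
theorem L679396 : sm gc N49245 = N47075 := ded_33_1 (flp_i L657538) (flp_c L657405) L679390
theorem L679398 : sm ge N49245 = N47068 := ded_44_1 (flp_i L657457) (flp_e L657407) L679390
theorem L679400 : sm gg N49245 = N47282 := ded_51_1 (flp_i L659631) (flp_g L657409) L679390
theorem L679402 : sm gj N49245 = N47064 := ded_53_1 (flp_i L657419) (flp_j L657411) L679390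
theorem L679404 : sm gc N47063 = N49246 := rfl
theorem L679406 : sm ga N49246 = N47094 := ded_11_1 (flp_c L657726) (flp_a L657415) L679404
theorem L679408 : sm gg N49246 = N47065 := ded_30_2 (flp_c L657429) (flp_g L657417) L679404
theorem L679410 : sm gj N49246 = N48179 := ded_31_2 (flp_c L679386) L679384 L679404
theorem L679412 : sm gd N49246 = N47076 := ded_27_2 (flp_c L657551) (flp_d L358845) (flp_c L358710) L657413 L679404
theorem L679414 : sm ge N47063 = N49247 := rfl
theorem L679416 : sm ga N49247 = N47095 := ded_13_1 (flp_e L657736) (flp_a L657415) L679414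
theorem L679418 : sm gb N49247 = N48114 := ded_21_1 (flp_e L679248) L679242 L679414
theorem L679420 : sm gg N49247 = N47066 := ded_41_2 (flp_e L657439) (flp_g L657417) L679414
theorem L679422 : sm gj N49247 = N48214 := ded_42_2 (flp_e L679388) L679384 L679414
theorem L679424 : sm gd N49247 = N47069 := ded_34_1 (flp_e L657472) (flp_d L358747) (flp_e L358712) L657413 L679414
theorem L679426 : sm gi N47063 = N49248 := rfl
theorem L679428 : sm ga N49248 = N47096 := ded_18_1 (flp_i L657746) (flp_a L657415) L679426
theorem L679430 : sm gd N49248 = N47064 := ded_39_1 (flp_i L657419) L657413 L679426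
theorem L679432 : sm gg N49248 = N47067 := ded_51_1 (flp_i L657447) (flp_g L657417) L679426
theorem L679434 : sm gb N47065 = N49249 := rfl
theorem L679436 : sm gd N49249 = N47078 := ded_20_2 (flp_b L657573) (flp_d L657437) L679434
theorem L679438 : sm gf N49249 = N47095 := ded_22_2 L657738 (flp_f L657433) L679434
theorem L679440 : sm gj N49249 = N47286 := ded_24_2 (flp_b L659665) (flp_j L657435) L679434
theorem L679442 : sm ge N47065 = N49250 := rfl
theorem L679444 : sm ga N49250 = N47098 := ded_13_1 (flp_e L657764) (flp_a L657431) L679442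
theorem L679446 : sm gc N49250 = N47066 := ded_28_1 (flp_e L657439) L657429 L679442
theorem L679448 : sm gj N49250 = N47287 := ded_42_2 (flp_e L659671) (flp_j L657435) L679442
theorem L679450 : sm gd N49250 = N49250 := ded_34_1 (flp_e L679442) L657437 L358867 (flp_d L657437) L679442
theorem L679451 : sm gi N47065 = N49251 := rfl
theorem L679453 : sm ga N49251 = N47099 := ded_18_1 (flp_i L657771) (flp_a L657431) L679451
theorem L679455 : sm gc N49251 = N47067 := ded_33_1 (flp_i L657447) L657429 L679451
theorem L679457 : sm gd N49251 = N47079 := ded_39_1 (flp_i L657582) (flp_d L657437) L679451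
theorem L679459 : sm gf N49251 = N48098 := ded_48_1 (flp_i L667859) (flp_f L657433) L679451
theorem L679461 : sm gj N49251 = N47288 := ded_53_1 (flp_i L659678) (flp_j L657435) L679451
theorem L679463 : sm gi N47066 = N49252 := rfl
theorem L679465 : sm ga N49252 = N47101 := ded_18_1 (flp_i L657789) (flp_a L657441) L679463
theorem L679467 : sm gd N49252 = N47071 := ded_39_1 (flp_i L657498) (flp_d L657445) L679463
theorem L679469 : sm ge N49252 = N47067 := ded_44_1 (flp_i L657447) L657439 L679463
theorem L679471 : sm gj N49252 = N47289 := ded_53_1 (flp_i L659688) (flp_j L657443) L679463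
theorem L679473 : sm gh N47067 = N49253 := rfl
theorem L679475 : sm ga N49253 = N47102 := ded_17_1 (flp_h L657797) (flp_a L657449) L679473
theorem L679477 : sm gf N49253 = N48099 := ded_47_1 (flp_h L667869) (flp_f L657453) L679473
theorem L679479 : sm gj N49253 = N47290 := ded_52_1 (flp_h L659696) (flp_j L657455) L679473
theorem L679481 : sm gf N47069 = N49254 := rfl
theorem L679483 : sm ga N49254 = N47078 := ded_14_1 L657576 (flp_a L657474) L679481
theorem L679485 : sm gb N49254 = N47113 := ded_22_1 L657909 (flp_b L657476) L679481
theorem L679487 : sm gc N49254 = N49254 := ded_29_1 (flp_f L679481) L657478 L679481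
theorem L679488 : sm gj N49254 = N47308 := ded_46_2 L659878 (flp_j L657481) L679481
theorem L679490 : sm gh N49254 = N49254 := ded_47_2 (flp_f L679481) L657483 L679481
theorem L679491 : sm ge N49254 = N49254 := ded_40_1 (flp_f L679481) (flp_e L657472) L358751 L657472 L679481
theorem L679492 : sm gg N49254 = N48081 := ded_45_2 L673737 L673732 L652209 (flp_g L657479) L679481
theorem L679494 : sm gi N47069 = N49255 := rfl
theorem L679496 : sm ga N49255 = N47103 := ded_18_1 (flp_i L657803) (flp_a L657474) L679494
theorem L679498 : sm gb N49255 = N48130 := ded_26_1 (flp_i L668112) (flp_b L657476) L679494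
theorem L679500 : sm gc N49255 = N49255 := ded_33_1 (flp_i L679494) L657478 L679494
theorem L679501 : sm ge N49255 = N47070 := ded_44_1 (flp_i L657484) L657472 L679494
theorem L679503 : sm gg N49255 = N47071 := ded_51_1 (flp_i L657498) (flp_g L657479) L679494
theorem L679505 : sm gj N49255 = N48225 := ded_53_1 (flp_i L668879) (flp_j L657481) L679494
theorem L679507 : sm gh N47070 = N49256 := rfl
theorem L679509 : sm ga N49256 = N47104 := ded_17_1 (flp_h L657814) (flp_a L657486) L679507
theorem L679511 : sm gb N49256 = N48585 := ded_25_1 (flp_h L671674) (flp_b L657488) L679507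
theorem L679513 : sm gc N49256 = N49256 := ded_32_1 (flp_h L679507) L657490 L679507
theorem L679514 : sm gf N49256 = N49256 := ded_47_1 (flp_h L679507) L657493 L679507
theorem L679515 : sm gg N49256 = N47072 := ded_50_1 (flp_h L657507) (flp_g L657494) L679507
theorem L679517 : sm gj N49256 = N48604 := ded_52_1 (flp_h L671843) (flp_j L657496) L679507
theorem L679519 : sm gi N49256 = N49256 := ded_54_2 (flp_h L679507) (flp_i L657484) L358755 L657484 L679507
theorem L679520 : sm gh N47071 = N49257 := rfl
theorem L679522 : sm ga N49257 = N47107 := ded_17_1 (flp_h L657840) (flp_a L657500) L679520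
theorem L679524 : sm gc N49257 = N49257 := ded_32_1 (flp_h L679520) L657502 L679520
theorem L679525 : sm ge N49257 = N47072 := ded_43_1 (flp_h L657507) (flp_e L657503) L679520
theorem L679527 : sm gj N49257 = N47296 := ded_52_1 (flp_h L659756) (flp_j L657505) L679520
theorem L679529 : sm gi N49257 = N49257 := ded_54_2 (flp_h L679520) (flp_i L657498) L358772 L657498 L679520
theorem L679530 : sm gb N47076 = N49258 := rfl
theorem L679532 : sm ge N49258 = N49258 := ded_21_2 (flp_b L679530) L657555 L679530
theorem L679533 : sm gf N49258 = N47105 := ded_22_2 (flp_b L674081) L674088 L679530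
theorem L679535 : sm gg N49258 = N47078 := ded_23_2 (flp_b L657573) (flp_g L657556) L679530
theorem L679537 : sm gj N49258 = N48157 := ded_24_2 L668389 (flp_j L657558) L679530
theorem L679539 : sm gh N49258 = N49258 := ded_25_2 (flp_b L679530) L657560 L679530
theorem L679540 : sm ga N49258 = N48081 := ded_10_1 (flp_b L667718) L380710 (flp_b L637525) (flp_a L657553) L679530
theorem L679542 : sm gc N49258 = N49258 := ded_19_2 (flp_b L679530) (flp_c L657551) L358849 L657551 L679530
theorem L679543 : sm gi N47076 = N49259 := rfl
theorem L679545 : sm ga N49259 = N47111 := ded_18_1 (flp_i L657883) (flp_a L657553) L679543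
theorem L679547 : sm gc N49259 = N47077 := ded_33_1 (flp_i L657561) L657551 L679543
theorem L679549 : sm ge N49259 = N49259 := ded_44_1 (flp_i L679543) L657555 L679543
theorem L679550 : sm gg N49259 = N47079 := ded_51_1 (flp_i L657582) (flp_g L657556) L679543
theorem L679552 : sm gj N49259 = N48191 := ded_53_1 (flp_i L668613) (flp_j L657558) L679543
theorem L679554 : sm gh N47077 = N49260 := rfl
theorem L679556 : sm ga N49260 = N47112 := ded_17_1 (flp_h L657894) (flp_a L657563) L679554
theorem L679558 : sm gb N49260 = N49260 := ded_25_1 (flp_h L679554) L657565 L679554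
theorem L679559 : sm ge N49260 = N49260 := ded_43_1 (flp_h L679554) L657568 L679554
theorem L679560 : sm gg N49260 = N47080 := ded_50_1 (flp_h L657593) (flp_g L657569) L679554
theorem L679562 : sm gj N49260 = N48195 := ded_52_1 (flp_h L668640) (flp_j L657571) L679554
theorem L679564 : sm gi N49260 = N49260 := ded_54_2 (flp_h L679554) (flp_i L657561) L358853 L657561 L679554
theorem L679565 : sm gi N47078 = N49261 := rfl
theorem L679567 : sm gb N49261 = N47079 := ded_26_1 (flp_i L657582) L657573 L679565
theorem L679569 : sm gc N49261 = N49261 := ded_33_1 (flp_i L679565) L657581 L679565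
theorem L679570 : sm ge N49261 = N49261 := ded_44_1 (flp_i L679565) L657575 L679565
theorem L679571 : sm gf N49261 = N47103 := ded_48_1 (flp_i L657803) (flp_f L657576) L679565
theorem L679573 : sm gj N49261 = N47309 := ded_53_1 (flp_i L659883) (flp_j L657578) L679565
theorem L679575 : sm gh N47079 = N49262 := rfl
theorem L679577 : sm ga N49262 = N47115 := ded_17_1 (flp_h L657929) (flp_a L657584) L679575
theorem L679579 : sm gc N49262 = N47080 := ded_32_1 (flp_h L657593) (flp_c L657586) L679575
theorem L679581 : sm ge N49262 = N49262 := ded_43_1 (flp_h L679575) L657588 L679575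
theorem L679582 : sm gf N49262 = N48103 := ded_47_1 (flp_h L667904) (flp_f L657589) L679575
theorem L679584 : sm gj N49262 = N47310 := ded_52_1 (flp_h L659891) (flp_j L657591) L679575
theorem L679586 : sm gi N49262 = N49262 := ded_54_2 (flp_h L679575) (flp_i L657582) L358872 L657582 L679575
theorem L679587 : sm gh N47081 = N49263 := rfl
theorem L679589 : sm gb N49263 = N48123 := ded_25_1 L668049 (flp_b L657606) L679587
theorem L679591 : sm gc N49263 = N49263 := ded_32_1 (flp_h L679587) L657608 L679587
theorem L679592 : sm ge N49263 = N47773 := ded_43_1 L664687 (flp_e L657611) L679587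
theorem L679594 : sm gf N49263 = N47083 := ded_47_1 (flp_h L657630) (flp_f L657613) L679587
theorem L679596 : sm gg N49263 = N47838 := ded_50_1 L665369 (flp_g L657617) L679587
theorem L679598 : sm gj N49263 = N47082 := ded_52_1 (flp_h L657619) L657604 L679587
theorem L679600 : sm gi N49263 = N48617 := ded_54_2 (flp_h L671937) (flp_i L649872) (flp_h L649757) (flp_i L657615) L679587
theorem L679602 : sm gd N47082 = N49264 := rfl
theorem L679604 : sm gb N49264 = N48120 := ded_20_1 L668027 (flp_b L657621) L679602
theorem L679606 : sm gf N49264 = N47084 := ded_35_2 (flp_d L657638) (flp_f L657626) L679602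
theorem L679608 : sm gg N49264 = N47769 := ded_36_2 L664646 (flp_g L657628) L679602
theorem L679610 : sm gh N49264 = N47090 := ded_38_2 (flp_d L657687) (flp_h L358940) (flp_d L358899) L657619 L679602
theorem L679612 : sm gi N47082 = N49265 := rfl
theorem L679614 : sm gb N49265 = N48124 := ded_26_1 (flp_i L668055) (flp_b L657621) L679612
theorem L679616 : sm gc N49265 = N49265 := ded_33_1 (flp_i L679612) L657623 L679612
theorem L679617 : sm ge N49265 = N47774 := ded_44_1 (flp_i L664693) (flp_e L657624) L679612
theorem L679619 : sm gf N49265 = N47085 := ded_48_1 (flp_i L657644) (flp_f L657626) L679612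
theorem L679621 : sm gg N49265 = N47772 := ded_51_1 (flp_i L664670) (flp_g L657628) L679612
theorem L679623 : sm gj N49265 = N48617 := ded_53_1 (flp_i L679600) L679598 L679612
theorem L679625 : sm gh N49265 = N48581 := ded_54_1 (flp_i L671639) L652324 L652318 L657619 L679612
theorem L679627 : sm gd N47083 = N49266 := rfl
theorem L679629 : sm gb N49266 = N47782 := ded_20_1 (flp_d L673933) L673922 L679627
theorem L679631 : sm gg N49266 = N47317 := ded_36_2 (flp_d L659958) (flp_g L657634) L679627
theorem L679633 : sm gj N49266 = N47084 := ded_37_2 (flp_d L657638) (flp_j L657636) L679627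
theorem L679635 : sm gh N49266 = N47092 := ded_38_2 (flp_d L657702) (flp_h L358949) (flp_d L358906) L657630 L679627
theorem L679637 : sm gc N49266 = N48164 := ded_56_4 (flp_b L668431) (flp_a L660167) L660173 (flp_f L658613) (flp_e L678984) (flp_d L678970) L656959 L358432 L246692 (flp_h L246690) (flp_f L246678) L246677 L246676 (flp_c L632053) (flp_b L649046) (flp_a L648716) (flp_h L664412) L664403 L649482 L270170 (flp_c L381864) (flp_b L664683) (flp_a L678552) (flp_h L678550) L656630 (flp_e L678498) L678496 L657383 L358819 L358817 (flp_h L644095) L644091 L247081 L170277 (flp_c L246999) L642454 L186374 (flp_h L186620) L186619 L271261 L649770 L649772 L649046 L353393 L636244 (flp_f L640266) L354164 L243809 L243802 (flp_b L246657) (flp_a L358271) (flp_h L358269) L246504 (flp_e L358231) L358230 (flp_c L656703) (flp_b L678493) L678491 L679587 L679594 L657633 L679627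
theorem L679639 : sm ge N48202 = N49266 := ded_21_0 L679629 L664798 L668691
theorem L679641 : sm gi N47083 = N49267 := rfl
theorem L679643 : sm gb N49267 = N48620 := ded_26_1 (flp_i L673935) L673922 L679641
theorem L679645 : sm gc N49267 = N49267 := ded_33_1 (flp_i L679641) L657632 L679641
theorem L679646 : sm ge N49267 = N49267 := ded_44_1 (flp_i L679641) L657633 L679641
theorem L679647 : sm gf N49267 = N48617 := ded_48_1 (flp_i L679600) L679594 L679641
theorem L679649 : sm gg N49267 = N47318 := ded_51_1 (flp_i L659964) (flp_g L657634) L679641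
theorem L679651 : sm gj N49267 = N47085 := ded_53_1 (flp_i L657644) (flp_j L657636) L679641
theorem L679653 : sm gh N49267 = N48616 := ded_54_1 (flp_i L671929) L656901 L656897 L657630 L679641
theorem L679655 : sm gc N47084 = N49268 := rfl
theorem L679657 : sm gg N49268 = N47086 := ded_30_2 (flp_c L657650) (flp_g L657640) L679655
theorem L679659 : sm gj N49268 = N48164 := ded_31_2 (flp_c L679637) L679633 L679655
theorem L679661 : sm gh N49268 = N47094 := ded_32_2 (flp_c L657726) (flp_h L657642) L679655
theorem L679663 : sm gb N49268 = N48084 := ded_19_1 (flp_c L667745) (flp_b L664418) (flp_c L673949) L673941 L679655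
theorem L679665 : sm gd N49268 = N49268 := ded_27_2 (flp_c L679655) (flp_d L657638) L358913 L657638 L679655
theorem L679666 : sm ge N47084 = N49269 := rfl
theorem L679668 : sm gb N49269 = N48092 := ded_21_1 L673953 L673941 L679666
theorem L679670 : sm gg N49269 = N47087 := ded_41_2 (flp_e L657659) (flp_g L657640) L679666
theorem L679672 : sm gj N49269 = N48202 := ded_42_2 L679639 L679633 L679666
theorem L679674 : sm gh N49269 = N47095 := ded_43_2 (flp_e L657736) (flp_h L657642) L679666
theorem L679676 : sm gd N49269 = N49269 := ded_34_1 (flp_e L679666) (flp_d L657638) L358914 L657638 L679666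
theorem L679677 : sm gi N47084 = N49270 := rfl
theorem L679679 : sm gd N49270 = N47085 := ded_39_1 (flp_i L657644) L657638 L679677
theorem L679681 : sm gg N49270 = N47088 := ded_51_1 (flp_i L657666) (flp_g L657640) L679677
theorem L679683 : sm gb N47086 = N49271 := rfl
theorem L679685 : sm gd N49271 = N49271 := ded_20_2 (flp_b L679683) L657658 L679683
theorem L679686 : sm gf N49271 = N48104 := ded_22_2 (flp_b L667915) (flp_f L657652) L679683
theorem L679688 : sm gg N49271 = N48084 := ded_23_2 (flp_b L679663) L679657 L679683
theorem L679690 : sm gj N49271 = N47322 := ded_24_2 (flp_b L659990) (flp_j L657654) L679683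
theorem L679692 : sm gh N49271 = N47097 := ded_25_2 (flp_b L657752) (flp_h L657656) L679683
theorem L679694 : sm gc N49271 = N47754 := ded_19_2 L664460 (flp_c L652491) L652485 L657650 L679683
theorem L679696 : sm ga N48087 = N49271 := ded_14_3 L679686 (flp_a L679265) L679267
theorem L679698 : sm ge N48079 = N49271 := ded_40_5 L679686 L678955 L678945 L678718 L678710
theorem L679700 : sm ge N47086 = N49272 := rfl
theorem L679702 : sm gb N49272 = N48079 := ded_21_1 L679698 (flp_b L679683) L679700
theorem L679704 : sm gc N49272 = N47087 := ded_28_1 (flp_e L657659) L657650 L679700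
theorem L679706 : sm gj N49272 = N47323 := ded_42_2 (flp_e L660003) (flp_j L657654) L679700
theorem L679708 : sm gh N49272 = N47098 := ded_43_2 (flp_e L657764) (flp_h L657656) L679700
theorem L679710 : sm gd N48081 = N49272 := ded_20_0 L679702 L667708 L667718
theorem L679712 : sm gi N47086 = N49273 := rfl
theorem L679714 : sm gc N49273 = N47088 := ded_33_1 (flp_i L657666) L657650 L679712
theorem L679716 : sm gd N49273 = N49273 := ded_39_1 (flp_i L679712) L657658 L679712
theorem L679717 : sm gf N49273 = N48105 := ded_48_1 (flp_i L667922) (flp_f L657652) L679712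
theorem L679719 : sm gj N49273 = N47324 := ded_53_1 (flp_i L660013) (flp_j L657654) L679712
theorem L679721 : sm gf N47087 = N49274 := rfl
theorem L679723 : sm gb N49274 = N48109 := ded_22_1 (flp_f L673987) L673976 L679721
theorem L679725 : sm gd N49274 = N49274 := ded_35_1 (flp_f L679721) L657665 L679721
theorem L679726 : sm gj N49274 = N47325 := ded_46_2 (flp_f L660020) (flp_j L657661) L679721
theorem L679728 : sm gh N49274 = N47100 := ded_47_2 (flp_f L657781) (flp_h L657663) L679721
theorem L679730 : sm ge N49274 = N47762 := ded_40_1 L664570 L612246 (flp_f L358919) L657659 L679721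
theorem L679732 : sm gi N47087 = N49275 := rfl
theorem L679734 : sm gd N49275 = N49275 := ded_39_1 (flp_i L679732) L657665 L679732
theorem L679735 : sm ge N49275 = N47088 := ded_44_1 (flp_i L657666) L657659 L679732
theorem L679737 : sm gj N49275 = N47326 := ded_53_1 (flp_i L660027) (flp_j L657661) L679732
theorem L679739 : sm gh N47088 = N49276 := rfl
theorem L679741 : sm gf N49276 = N48106 := ded_47_1 (flp_h L667929) (flp_f L657670) L679739
theorem L679743 : sm gj N49276 = N47327 := ded_52_1 (flp_h L660032) (flp_j L657672) L679739
theorem L679745 : sm gi N49276 = N47102 := ded_54_2 (flp_h L657797) (flp_i L358985) (flp_h L358923) L657666 L679739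
theorem L679747 : sm ge N47090 = N49277 := rfl
theorem L679749 : sm gg N49277 = N48109 := ded_41_2 (flp_e L667952) (flp_g L657691) L679747
theorem L679751 : sm gd N49277 = N49277 := ded_34_1 (flp_e L679747) (flp_d L657687) L358944 L657687 L679747
theorem L679752 : sm gi N47090 = N49278 := rfl
theorem L679754 : sm gd N49278 = N47091 := ded_39_1 (flp_i L657693) L657687 L679752
theorem L679756 : sm gf N49278 = N47096 := ded_48_1 (flp_i L657746) (flp_f L657689) L679752
theorem L679758 : sm gg N49278 = N48110 := ded_51_1 (flp_i L667955) (flp_g L657691) L679752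
theorem L679760 : sm gi N47092 = N49279 := rfl
theorem L679762 : sm gb N49279 = N47787 := ded_26_1 (flp_i L664846) (flp_b L657704) L679760
theorem L679764 : sm gc N49279 = N48181 := ded_33_1 (flp_i L668543) (flp_c L657710) L679760
theorem L679766 : sm gd N49279 = N47093 := ded_39_1 (flp_i L657714) L657702 L679760
theorem L679768 : sm ge N49279 = N48215 := ded_44_1 (flp_i L668791) (flp_e L657712) L679760
theorem L679770 : sm gg N49279 = N47336 := ded_51_1 (flp_i L660106) (flp_g L657706) L679760
theorem L679772 : sm gj N49279 = N47096 := ded_53_1 (flp_i L657746) (flp_j L657708) L679760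
theorem L679774 : sm ge N47094 = N49280 := rfl
theorem L679776 : sm gb N49280 = N48087 := ded_21_1 (flp_e L667764) (flp_b L657732) L679774
theorem L679778 : sm gc N49280 = N47095 := ded_28_1 (flp_e L657736) L657726 L679774
theorem L679780 : sm gg N49280 = N47098 := ded_41_2 (flp_e L657764) (flp_g L657728) L679774
theorem L679782 : sm gj N49280 = N48180 := ded_42_2 (flp_e L668536) (flp_j L657730) L679774
theorem L679784 : sm gd N49280 = N49280 := ded_34_1 (flp_e L679774) L657734 L359132 (flp_d L657734) L679774
theorem L679785 : sm gi N47094 = N49281 := rfl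
theorem L679787 : sm gb N49281 = N48088 := ded_26_1 (flp_i L667771) (flp_b L657732) L679785
theorem L679789 : sm gc N49281 = N47096 := ded_33_1 (flp_i L657746) L657726 L679785
theorem L679791 : sm gd N49281 = N47111 := ded_39_1 (flp_i L657883) (flp_d L657734) L679785
theorem L679793 : sm gg N49281 = N47099 := ded_51_1 (flp_i L657771) (flp_g L657728) L679785
theorem L679795 : sm gj N49281 = N48181 := ded_53_1 (flp_i L668543) (flp_j L657730) L679785
theorem L679797 : sm gi N47095 = N49282 := rfl
theorem L679799 : sm gb N49282 = N48098 := ded_26_1 (flp_i L667859) (flp_b L657738) L679797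
theorem L679801 : sm gd N49282 = N47103 := ded_39_1 (flp_i L657803) (flp_d L657744) L679797
theorem L679803 : sm ge N49282 = N47096 := ded_44_1 (flp_i L657746) L657736 L679797
theorem L679805 : sm gg N49282 = N47101 := ded_51_1 (flp_i L657789) (flp_g L657740) L679797
theorem L679807 : sm gj N49282 = N48215 := ded_53_1 (flp_i L668791) (flp_j L657742) L679797
theorem L679809 : sm gh N47096 = N49283 := rfl
theorem L679811 : sm gg N49283 = N47102 := ded_50_1 (flp_h L657797) (flp_g L657750) L679809
theorem L679813 : sm ga N47097 = N49284 := rfl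
theorem L679815 : sm gc N49284 = N48077 := ded_11_2 L667674 (flp_c L657762) L679813
theorem L679817 : sm gd N49284 = N47113 := ded_12_2 (flp_a L657904) (flp_d L657754) L679813
theorem L679819 : sm gf N49284 = N48114 := ded_14_2 (flp_a L667979) (flp_f L657756) L679813
theorem L679821 : sm gg N49284 = N48079 := ded_15_2 L667704 (flp_g L657758) L679813
theorem L679823 : sm gj N49284 = N47343 := ded_16_2 (flp_a L660153) (flp_j L657760) L679813
theorem L679825 : sm gh N49284 = N48087 := ded_17_2 L679696 L679692 L679813
theorem L679827 : sm ge N48084 = N49284 := ded_28_0 L679815 L667682 L667745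
theorem L679829 : sm ge N47097 = N49285 := rfl
theorem L679831 : sm ga N49285 = N48084 := ded_13_1 L679827 (flp_a L679813) L679829
theorem L679833 : sm gb N49285 = N47098 := ded_21_1 (flp_e L657764) L657752 L679829
theorem L679835 : sm gc N49285 = N48075 := ded_28_1 L667653 (flp_c L657762) L679829
theorem L679837 : sm gg N49285 = N48087 := ded_41_2 (flp_e L667764) (flp_g L657758) L679829
theorem L679839 : sm gj N49285 = N47344 := ded_42_2 (flp_e L660165) (flp_j L657760) L679829
theorem L679841 : sm gh N49285 = N48079 := ded_43_2 L679698 L679692 L679829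
theorem L679843 : sm gd N49285 = N49285 := ded_34_1 (flp_e L679829) L657754 L359147 (flp_d L657754) L679829
theorem L679844 : sm gi N47097 = N49286 := rfl
theorem L679846 : sm gb N49286 = N47099 := ded_26_1 (flp_i L657771) L657752 L679844
theorem L679848 : sm gc N49286 = N48086 := ded_33_1 (flp_i L667758) (flp_c L657762) L679844
theorem L679850 : sm gd N49286 = N47114 := ded_39_1 (flp_i L657916) (flp_d L657754) L679844
theorem L679852 : sm gf N49286 = N48116 := ded_48_1 (flp_i L667993) (flp_f L657756) L679844
theorem L679854 : sm gg N49286 = N48088 := ded_51_1 (flp_i L667771) (flp_g L657758) L679844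
theorem L679856 : sm gj N49286 = N47345 := ded_53_1 (flp_i L660176) (flp_j L657760) L679844
theorem L679858 : sm gf N47098 = N49287 := rfl
theorem L679860 : sm gc N49287 = N47100 := ded_29_1 (flp_f L657781) (flp_c L657766) L679858
theorem L679862 : sm gd N49287 = N49287 := ded_35_1 (flp_f L679858) L657770 L679858
theorem L679863 : sm gj N49287 = N47346 := ded_46_2 (flp_f L660184) (flp_j L657768) L679858
theorem L679865 : sm ge N49287 = N48117 := ded_40_1 (flp_f L668001) (flp_e L381755) (flp_f L358973) L657764 L679858
theorem L679867 : sm gi N47098 = N49288 := rfl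
theorem L679869 : sm gc N49288 = N47101 := ded_33_1 (flp_i L657789) (flp_c L657766) L679867
theorem L679871 : sm gd N49288 = N49288 := ded_39_1 (flp_i L679867) L657770 L679867
theorem L679872 : sm ge N49288 = N47099 := ded_44_1 (flp_i L657771) L657764 L679867
theorem L679874 : sm gj N49288 = N47347 := ded_53_1 (flp_i L660191) (flp_j L657768) L679867
theorem L679876 : sm gh N47099 = N49289 := rfl
theorem L679878 : sm gc N49289 = N47102 := ded_32_1 (flp_h L657797) (flp_c L657773) L679876
theorem L679880 : sm gf N49289 = N48119 := ded_47_1 (flp_h L668019) (flp_f L657777) L679876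
theorem L679882 : sm gj N49289 = N47348 := ded_52_1 (flp_h L660198) (flp_j L657779) L679876
theorem L679884 : sm gg N47100 = N49290 := rfl
theorem L679886 : sm gd N49290 = N47105 := ded_36_1 (flp_g L657825) (flp_d L657783) L679884
theorem L679888 : sm ge N49290 = N48120 := ded_41_1 (flp_g L668025) (flp_e L657787) L679884
theorem L679890 : sm gi N47100 = N49291 := rfl
theorem L679892 : sm gd N49291 = N47106 := ded_39_1 (flp_i L657831) (flp_d L657783) L679890
theorem L679894 : sm ge N49291 = N48121 := ded_44_1 (flp_i L668029) (flp_e L657787) L679890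
theorem L679896 : sm gf N49291 = N47101 := ded_48_1 (flp_i L657789) L657781 L679890
theorem L679898 : sm gj N49291 = N47350 := ded_53_1 (flp_i L660210) (flp_j L657785) L679890
theorem L679900 : sm gh N47101 = N49292 := rfl
theorem L679902 : sm ge N49292 = N47102 := ded_43_1 (flp_h L657797) (flp_e L657793) L679900
theorem L679904 : sm gj N49292 = N47351 := ded_52_1 (flp_h L660218) (flp_j L657795) L679900
theorem L679906 : sm gh N47103 = N49293 := rfl
theorem L679908 : sm gb N49293 = N48103 := ded_25_1 (flp_h L667904) (flp_b L657805) L679906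
theorem L679910 : sm gc N49293 = N49293 := ded_32_1 (flp_h L679906) L657807 L679906
theorem L679911 : sm ge N49293 = N47104 := ded_43_1 (flp_h L657814) (flp_e L657808) L679906
theorem L679913 : sm gg N49293 = N47107 := ded_50_1 (flp_h L657840) (flp_g L657810) L679906
theorem L679915 : sm gj N49293 = N48226 := ded_52_1 (flp_h L668888) (flp_j L657812) L679906
theorem L679917 : sm gi N49293 = N49293 := ded_54_2 (flp_h L679906) (flp_i L657803) L359016 L657803 L679906
theorem L679918 : sm gj N47105 = N49294 := rfl
theorem L679920 : sm ga N49294 = N47188 := ded_16_1 (flp_j L673734) L673727 L679918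
theorem L679922 : sm gb N49294 = N47234 := ded_24_1 L674090 L674081 L679918
theorem L679924 : sm gc N49294 = N49294 := ded_31_1 (flp_j L679918) L657827 L679918
theorem L679925 : sm ge N49294 = N47108 := ded_42_1 (flp_j L657848) (flp_e L657828) L679918
theorem L679927 : sm gf N49294 = N48157 := ded_46_1 (flp_j L679537) L679533 L679918
theorem L679929 : sm gh N49294 = N49294 := ded_52_2 (flp_j L679918) L657830 L679918
theorem L679930 : sm gg N49294 = N47358 := ded_49_1 (flp_j L660278) (flp_g L361088) (flp_j L359028) L657825 L679918
theorem L679932 : sm gi N48622 = N49294 := ded_44_0 L679925 (flp_i L657857) L671967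
theorem L679934 : sm gi N47105 = N49295 := rfl
theorem L679936 : sm gc N49295 = N49295 := ded_33_1 (flp_i L679934) L657827 L679934
theorem L679937 : sm ge N49295 = N47109 := ded_44_1 (flp_i L657859) (flp_e L657828) L679934
theorem L679939 : sm gg N49295 = N47106 := ded_51_1 (flp_i L657831) L657825 L679934
theorem L679941 : sm gj N49295 = N48622 := ded_53_1 L679932 (flp_j L679918) L679934
theorem L679943 : sm gh N48587 = N49295 := ded_43_0 L679937 (flp_h L657869) L671692
theorem L679945 : sm gh N47106 = N49296 := rfl
theorem L679947 : sm gc N49296 = N49296 := ded_32_1 (flp_h L679945) L657833 L679945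
theorem L679948 : sm ge N49296 = N47110 := ded_43_1 (flp_h L657871) (flp_e L657834) L679945
theorem L679950 : sm gf N49296 = N47107 := ded_47_1 (flp_h L657840) (flp_f L657836) L679945
theorem L679952 : sm gg N49296 = N48587 := ded_50_1 L679943 L679939 L679945
theorem L679954 : sm gj N49296 = N47360 := ded_52_1 (flp_h L660291) (flp_j L657838) L679945
theorem L679956 : sm gi N49296 = N49296 := ded_54_2 (flp_h L679945) (flp_i L657831) L359030 L657831 L679945
theorem L679957 : sm gd N47107 = N49297 := rfl
theorem L679959 : sm gj N49297 = N47361 := ded_37_2 (flp_d L660299) (flp_j L657845) L679957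
theorem L679961 : sm gi N49297 = N49297 := ded_39_2 (flp_d L679957) L657847 L679957
theorem L679962 : sm gh N47111 = N49298 := rfl
theorem L679964 : sm gb N49298 = N48091 := ded_25_1 (flp_h L667795) (flp_b L657885) L679962
theorem L679966 : sm gc N49298 = N47112 := ded_32_1 (flp_h L657894) (flp_c L657887) L679962
theorem L679968 : sm ge N49298 = N49298 := ded_43_1 (flp_h L679962) L657889 L679962
theorem L679969 : sm gg N49298 = N47115 := ded_50_1 (flp_h L657929) (flp_g L657890) L679962
theorem L679971 : sm gj N49298 = N48192 := ded_52_1 (flp_h L668620) (flp_j L657892) L679962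
theorem L679973 : sm gi N49298 = N49298 := ded_54_2 (flp_h L679962) (flp_i L657883) L359135 L657883 L679962
theorem L679974 : sm gi N47113 = N49299 := rfl
theorem L679976 : sm ga N49299 = N47114 := ded_18_1 (flp_i L657916) L657904 L679974
theorem L679978 : sm gc N49299 = N47116 := ded_33_1 (flp_i L657939) (flp_c L657906) L679974
theorem L679980 : sm ge N49299 = N49299 := ded_44_1 (flp_i L679974) L657908 L679974
theorem L679981 : sm gf N49299 = N48130 := ded_48_1 (flp_i L668112) (flp_f L657909) L679974
theorem L679983 : sm gg N49299 = N48082 := ded_51_1 (flp_i L667725) (flp_g L657911) L679974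
theorem L679985 : sm gj N49299 = N47378 := ded_53_1 (flp_i L660463) (flp_j L657913) L679974
theorem L679987 : sm gh N47114 = N49300 := rfl
theorem L679989 : sm gb N49300 = N47115 := ded_25_1 (flp_h L657929) (flp_b L657918) L679987
theorem L679991 : sm gc N49300 = N47117 := ded_32_1 (flp_h L657953) (flp_c L657920) L679987
theorem L679993 : sm ge N49300 = N49300 := ded_43_1 (flp_h L679987) L657922 L679987
theorem L679994 : sm gf N49300 = N48131 := ded_47_1 (flp_h L668122) (flp_f L657923) L679987
theorem L679996 : sm gg N49300 = N48091 := ded_50_1 (flp_h L667795) (flp_g L657925) L679987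
theorem L679998 : sm gj N49300 = N47379 := ded_52_1 (flp_h L660472) (flp_j L657927) L679987
theorem L680000 : sm gi N49300 = N49300 := ded_54_2 (flp_h L679987) (flp_i L657916) L359152 L657916 L679987
theorem L680001 : sm gd N47115 = N49301 := rfl
theorem L680003 : sm gf N49301 = N48132 := ded_35_2 (flp_d L668133) (flp_f L657934) L680001
theorem L680005 : sm gj N49301 = N47380 := ded_37_2 (flp_d L660482) (flp_j L657936) L680001
theorem L680007 : sm gi N49301 = N49301 := ded_39_2 (flp_d L680001) L657938 L680001
theorem L680008 : sm gh N47116 = N49302 := rfl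
theorem L680010 : sm ga N49302 = N47117 := ded_17_1 (flp_h L657953) (flp_a L657941) L680008
theorem L680012 : sm gb N49302 = N49302 := ded_25_1 (flp_h L680008) L657943 L680008
theorem L680013 : sm ge N49302 = N49302 := ded_43_1 (flp_h L680008) L657946 L680008
theorem L680014 : sm gf N49302 = N48137 := ded_47_1 (flp_h L668178) (flp_f L657947) L680008
theorem L680016 : sm gg N49302 = N48083 := ded_50_1 (flp_h L667734) (flp_g L657949) L680008
theorem L680018 : sm gj N49302 = N47391 := ded_52_1 (flp_h L660606) (flp_j L657951) L680008
theorem L680020 : sm gd N49302 = N48102 := ded_38_1 (flp_h L667894) L381593 (flp_h L380706) (flp_d L657944) L680008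
theorem L680022 : sm gi N49302 = N49302 := ded_54_2 (flp_h L680008) (flp_i L657939) L359272 L657939 L680008
theorem L680023 : sm gh N47118 = N49303 := rfl
theorem L680025 : sm ga N49303 = N49303 := ded_17_1 (flp_h L680023) L657969 L680023
theorem L680026 : sm gb N49303 = N47122 := ded_25_1 (flp_h L658026) (flp_b L657970) L680023
theorem L680028 : sm gc N49303 = N48321 := ded_32_1 L669593 (flp_c L657972) L680023
theorem L680030 : sm ge N49303 = N48588 := ded_43_1 (flp_h L671698) (flp_e L657976) L680023
theorem L680032 : sm gf N49303 = N48197 := ded_47_1 L678445 L678439 L680023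
theorem L680034 : sm gg N49303 = N47394 := ded_50_1 (flp_h L660644) (flp_g L657978) L680023
theorem L680036 : sm gj N49303 = N48590 := ded_52_1 (flp_h L671716) (flp_j L657980) L680023
theorem L680038 : sm gd N49303 = N49303 := ded_38_1 (flp_h L680023) L657974 L359337 (flp_d L657974) L680023
theorem L680039 : sm gi N49303 = N49303 := ded_54_2 (flp_h L680023) (flp_i L657967) L359327 L657967 L680023
theorem L680040 : sm gi N47119 = N49304 := rfl
theorem L680042 : sm ga N49304 = N47128 := ded_18_1 (flp_i L658110) (flp_a L657984) L680040
theorem L680044 : sm gb N49304 = N47147 := ded_26_1 (flp_i L658335) (flp_b L657986) L680040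
theorem L680046 : sm gc N49304 = N47178 := ded_33_1 (flp_i L658654) (flp_c L657994) L680040
theorem L680048 : sm gd N49304 = N47120 := ded_39_1 (flp_i L657999) L657982 L680040
theorem L680050 : sm ge N49304 = N47230 := ded_44_1 (flp_i L659106) (flp_e L657996) L680040
theorem L680052 : sm gf N49304 = N47396 := ded_48_1 (flp_i L660667) (flp_f L657988) L680040
theorem L680054 : sm gg N49304 = N47121 := ded_51_1 (flp_i L658016) (flp_g L657990) L680040
theorem L680056 : sm gj N49304 = N47137 := ded_53_1 (flp_i L658222) (flp_j L657992) L680040
theorem L680058 : sm gh N47121 = N49305 := rfl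
theorem L680060 : sm ga N49305 = N47131 := ded_17_1 (flp_h L658142) (flp_a L658018) L680058
theorem L680062 : sm gb N49305 = N48197 := ded_25_1 L678445 L678431 L680058
theorem L680064 : sm gc N49305 = N47180 := ded_32_1 (flp_h L658670) (flp_c L658020) L680058
theorem L680066 : sm ge N49305 = N48196 := ded_43_1 L679147 L679139 L680058
theorem L680068 : sm gf N49305 = N47122 := ded_47_1 (flp_h L658026) (flp_f L658024) L680058
theorem L680070 : sm gd N49305 = N49305 := ded_38_1 (flp_h L680058) L658022 L359401 (flp_d L658022) L680058
theorem L680071 : sm gi N49305 = N49305 := ded_54_2 (flp_h L680058) (flp_i L658016) L359392 L658016 L680058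
theorem L680072 : sm gi N47123 = N49306 := rfl
theorem L680074 : sm ga N49306 = N47137 := ded_18_1 (flp_i L658222) (flp_a L658038) L680072
theorem L680076 : sm gb N49306 = N49306 := ded_26_1 (flp_i L680072) L658040 L680072
theorem L680077 : sm gc N49306 = N47215 := ded_33_1 (flp_i L658962) (flp_c L658047) L680072
theorem L680079 : sm gd N49306 = N47124 := ded_39_1 (flp_i L658052) L658036 L680072
theorem L680081 : sm ge N49306 = N47187 := ded_44_1 (flp_i L658749) (flp_e L658049) L680072
theorem L680083 : sm gf N49306 = N47400 := ded_48_1 (flp_i L660721) (flp_f L658041) L680072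
theorem L680085 : sm gg N49306 = N47125 := ded_51_1 (flp_i L658068) (flp_g L658043) L680072
theorem L680087 : sm gj N49306 = N47128 := ded_53_1 (flp_i L658110) (flp_j L658045) L680072
theorem L680089 : sm gh N47125 = N49307 := rfl
theorem L680091 : sm ga N49307 = N47140 := ded_17_1 (flp_h L658247) (flp_a L658070) L680089
theorem L680093 : sm gb N49307 = N49307 := ded_25_1 (flp_h L680089) L658072 L680089
theorem L680094 : sm gc N49307 = N48605 := ded_32_1 L679077 L679066 L680089
theorem L680096 : sm ge N49307 = N47190 := ded_43_1 (flp_h L658772) (flp_e L658075) L680089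
theorem L680098 : sm gf N49307 = N49307 := ded_47_1 (flp_h L680089) L658077 L680089
theorem L680099 : sm gd N49307 = N49307 := ded_38_1 (flp_h L680089) L658073 L359467 (flp_d L658073) L680089
theorem L680100 : sm gi N49307 = N49307 := ded_54_2 (flp_h L680089) (flp_i L658068) L359458 L658068 L680089
theorem L680101 : sm gf N47127 = N49308 := rfl
theorem L680103 : sm ga N49308 = N47225 := ded_14_1 L659057 (flp_a L658098) L680101
theorem L680105 : sm gb N49308 = N49308 := ded_22_1 (flp_f L680101) L658100 L680101
theorem L680106 : sm gc N49308 = N47216 := ded_29_1 (flp_f L658970) (flp_c L658101) L680101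
theorem L680108 : sm gd N49308 = N47182 := ded_35_1 L658698 (flp_d L658108) L680101
theorem L680110 : sm gj N49308 = N47183 := ded_46_2 L658707 (flp_j L658105) L680101
theorem L680112 : sm gh N49308 = N49308 := ded_47_2 (flp_f L680101) L658107 L680101
theorem L680113 : sm ge N49308 = N47401 := ded_40_1 (flp_f L660733) (flp_e L361836) (flp_f L359556) L658096 L680101
theorem L680115 : sm gg N49308 = N48301 := ded_45_2 L669408 L658133 (flp_f L658121) (flp_g L658103) L680101
theorem L680117 : sm gi N47127 = N49309 := rfl
theorem L680119 : sm ga N49309 = N47230 := ded_18_1 (flp_i L659106) (flp_a L658098) L680117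
theorem L680121 : sm gb N49309 = N49309 := ded_26_1 (flp_i L680117) L658100 L680117
theorem L680122 : sm gc N49309 = N47217 := ded_33_1 (flp_i L658975) (flp_c L658101) L680117
theorem L680124 : sm gd N49309 = N47185 := ded_39_1 (flp_i L658727) (flp_d L658108) L680117
theorem L680126 : sm ge N49309 = N47128 := ded_44_1 (flp_i L658110) L658096 L680117
theorem L680128 : sm gg N49309 = N47130 := ded_51_1 (flp_i L658135) (flp_g L658103) L680117
theorem L680130 : sm gj N49309 = N47187 := ded_53_1 (flp_i L658749) (flp_j L658105) L680117
theorem L680132 : sm gh N47128 = N49310 := rfl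
theorem L680134 : sm gb N49310 = N49310 := ded_25_1 (flp_h L680132) L658112 L680132
theorem L680135 : sm gc N49310 = N47218 := ded_32_1 (flp_h L658981) (flp_c L658113) L680132
theorem L680137 : sm gf N49310 = N47403 := ded_47_1 (flp_h L660756) (flp_f L658117) L680132
theorem L680139 : sm gg N49310 = N47131 := ded_50_1 (flp_h L658142) (flp_g L658119) L680132
theorem L680141 : sm gd N49310 = N49310 := ded_38_1 (flp_h L680132) L658115 L359572 (flp_d L658115) L680132
theorem L680142 : sm gi N49310 = N49310 := ded_54_2 (flp_h L680132) (flp_i L658110) L359562 L658110 L680132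
theorem L680143 : sm gi N47129 = N49311 := rfl
theorem L680145 : sm ga N49311 = N48134 := ded_18_1 (flp_i L668150) (flp_a L658123) L680143
theorem L680147 : sm gb N49311 = N49311 := ded_26_1 (flp_i L680143) L658125 L680143
theorem L680148 : sm gc N49311 = N47220 := ded_33_1 (flp_i L659003) (flp_c L658126) L680143
theorem L680150 : sm ge N49311 = N47132 := ded_44_1 (flp_i L658151) (flp_e L658131) L680143
theorem L680152 : sm gf N49311 = N47130 := ded_48_1 (flp_i L658135) L658121 L680143
theorem L680154 : sm gg N49311 = N48313 := ded_51_1 (flp_i L669527) L658133 L680143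
theorem L680156 : sm gj N49311 = N48135 := ded_53_1 (flp_i L668160) (flp_j L658128) L680143
theorem L680158 : sm gh N47130 = N49312 := rfl
theorem L680160 : sm ga N49312 = N48196 := ded_17_1 L679147 L679131 L680158
theorem L680162 : sm gb N49312 = N49312 := ded_25_1 (flp_h L680158) L658137 L680158
theorem L680163 : sm gc N49312 = N47221 := ded_32_1 (flp_h L659011) (flp_c L658138) L680158
theorem L680165 : sm ge N49312 = N47131 := ded_43_1 (flp_h L658142) (flp_e L658140) L680158
theorem L680167 : sm gd N49312 = N48195 := ded_38_1 (flp_h L668640) (flp_d L657543) (flp_h L678848) L678840 L680158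
theorem L680169 : sm gi N49312 = N49312 := ded_54_2 (flp_h L680158) (flp_i L658135) L359578 L658135 L680158
theorem L680170 : sm gh N47132 = N49313 := rfl
theorem L680172 : sm ga N49313 = N48593 := ded_17_1 (flp_h L671748) (flp_a L658153) L680170
theorem L680174 : sm gb N49313 = N49313 := ded_25_1 (flp_h L680170) L658155 L680170
theorem L680175 : sm gc N49313 = N47223 := ded_32_1 (flp_h L659032) (flp_c L658156) L680170
theorem L680177 : sm gf N49313 = N47133 := ded_47_1 (flp_h L658165) (flp_f L658159) L680170
theorem L680179 : sm gg N49313 = N48644 := ded_50_1 (flp_h L672131) (flp_g L658161) L680170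
theorem L680181 : sm gj N49313 = N48595 := ded_52_1 (flp_h L671767) (flp_j L658163) L680170
theorem L680183 : sm gi N49313 = N49313 := ded_54_2 (flp_h L680170) (flp_i L658151) L359594 L658151 L680170
theorem L680184 : sm gd N48653 = N49313 := ded_27_0 L680175 (flp_d L675036) L675030 L669584 (flp_c L672202)
theorem L680186 : sm gd N47133 = N49314 := rfl
theorem L680188 : sm gb N49314 = N49314 := ded_20_1 (flp_d L680186) L658167 L680186
theorem L680189 : sm gf N49314 = N48653 := ded_35_2 L680184 L680177 L680186
theorem L680191 : sm gg N49314 = N47409 := ded_36_2 (flp_d L660825) (flp_g L658172) L680186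
theorem L680193 : sm gi N49314 = N49314 := ded_39_2 (flp_d L680186) L658174 L680186
theorem L680194 : sm gc N49314 = N48654 := ded_27_1 L673068 L673057 L653510 (flp_c L658168) L680186
theorem L680196 : sm ge N49314 = N49314 := ded_34_2 (flp_d L680186) L658170 L359612 (flp_e L658170) L680186
theorem L680197 : sm gh N49314 = N49314 := ded_38_2 (flp_d L680186) (flp_h L658165) L359600 L658165 L680186
theorem L680198 : sm gi N47134 = N49315 := rfl
theorem L680200 : sm ga N49315 = N47400 := ded_18_1 (flp_i L660721) (flp_a L658177) L680198
theorem L680202 : sm gb N49315 = N47145 := ded_26_1 (flp_i L658314) (flp_b L658179) L680198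
theorem L680204 : sm gc N49315 = N47430 := ded_33_1 (flp_i L661071) (flp_c L658186) L680198
theorem L680206 : sm gd N49315 = N47135 := ded_39_1 (flp_i L658191) L658175 L680198
theorem L680208 : sm ge N49315 = N48739 := ded_44_1 (flp_i L672920) (flp_e L658188) L680198
theorem L680210 : sm gf N49315 = N47137 := ded_48_1 (flp_i L658222) (flp_f L658181) L680198
theorem L680212 : sm gg N49315 = N49315 := ded_51_1 (flp_i L680198) L658183 L680198
theorem L680213 : sm gj N49315 = N47396 := ded_53_1 (flp_i L660667) (flp_j L658184) L680198
theorem L680215 : sm gi N47136 = N49316 := rfl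
theorem L680217 : sm ga N49316 = N47215 := ded_18_1 (flp_i L658962) (flp_a L658209) L680215
theorem L680219 : sm gc N49316 = N47137 := ded_33_1 (flp_i L658222) L658207 L680215
theorem L680221 : sm gd N49316 = N47176 := ded_39_1 (flp_i L658631) (flp_d L658220) L680215
theorem L680223 : sm ge N49316 = N47232 := ded_44_1 (flp_i L659121) (flp_e L658211) L680215
theorem L680225 : sm gf N49316 = N47430 := ded_48_1 (flp_i L661071) (flp_f L658213) L680215
theorem L680227 : sm gg N49316 = N47139 := ded_51_1 (flp_i L658240) (flp_g L658215) L680215
theorem L680229 : sm gj N49316 = N47178 := ded_53_1 (flp_i L658654) (flp_j L658217) L680215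
theorem L680231 : sm gh N47137 = N49317 := rfl
theorem L680233 : sm gb N49317 = N47150 := ded_25_1 (flp_h L658362) (flp_b L658224) L680231
theorem L680235 : sm ge N49317 = N47233 := ded_43_1 (flp_h L659127) (flp_e L658228) L680231
theorem L680237 : sm gg N49317 = N47140 := ded_50_1 (flp_h L658247) (flp_g L658230) L680231
theorem L680239 : sm gd N49317 = N49317 := ded_38_1 (flp_h L680231) L658226 L359658 (flp_d L658226) L680231
theorem L680240 : sm gi N49317 = N49317 := ded_54_2 (flp_h L680231) (flp_i L658222) L359649 L658222 L680231
theorem L680241 : sm gi N47138 = N49318 := rfl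
theorem L680243 : sm ga N49318 = N48618 := ded_18_1 L674137 L674123 L680241
theorem L680245 : sm gb N49318 = N47139 := ded_26_1 (flp_i L658240) L658232 L680241
theorem L680247 : sm gc N49318 = N47152 := ded_33_1 (flp_i L658379) (flp_c L658238) L680241
theorem L680249 : sm gd N49318 = N48615 := ded_39_1 (flp_i L678562) (flp_d L678564) L680241
theorem L680251 : sm ge N49318 = N47235 := ded_44_1 (flp_i L659143) (flp_e L658234) L680241
theorem L680253 : sm gf N49318 = N49318 := ded_48_1 (flp_i L680241) L658236 L680241
theorem L680254 : sm gh N48633 = N49318 := ded_17_0 L680243 L671949 (flp_a L672050)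
theorem L680256 : sm gh N47139 = N49319 := rfl
theorem L680258 : sm ga N49319 = N48605 := ded_17_1 L679077 L679062 L680256
theorem L680260 : sm gb N49319 = N48633 := ded_25_1 L680254 L680245 L680256
theorem L680262 : sm gc N49319 = N47140 := ded_32_1 (flp_h L658247) (flp_c L658242) L680256
theorem L680264 : sm ge N49319 = N47236 := ded_43_1 (flp_h L659151) (flp_e L658244) L680256
theorem L680266 : sm gf N49319 = N49319 := ded_47_1 (flp_h L680256) L658246 L680256
theorem L680267 : sm gd N49319 = N48604 := ded_38_1 (flp_h L671843) (flp_d L657465) (flp_h L678761) L678754 L680256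
theorem L680269 : sm gi N49319 = N49319 := ded_54_2 (flp_h L680256) (flp_i L658240) L359664 L658240 L680256
theorem L680270 : sm gi N47141 = N49320 := rfl
theorem L680272 : sm ga N49320 = N49320 := ded_18_1 (flp_i L680270) L658258 L680270
theorem L680273 : sm gb N49320 = N47396 := ded_26_1 (flp_i L660667) (flp_b L658259) L680270
theorem L680275 : sm gc N49320 = N47687 := ded_33_1 L663616 L658270 L680270
theorem L680277 : sm gd N49320 = N47142 := ded_39_1 (flp_i L658272) L658256 L680270
theorem L680279 : sm ge N49320 = N47499 := ded_44_1 L661833 (flp_e L658267) L680270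
theorem L680281 : sm gf N49320 = N47147 := ded_48_1 (flp_i L658335) (flp_f L658261) L680270
theorem L680283 : sm gg N49320 = N47393 := ded_51_1 (flp_i L660630) (flp_g L658263) L680270
theorem L680285 : sm gj N49320 = N47145 := ded_53_1 (flp_i L658314) (flp_j L658265) L680270
theorem L680287 : sm gi N47143 = N49321 := rfl
theorem L680289 : sm ga N49321 = N49321 := ded_18_1 (flp_i L680287) L658289 L680287
theorem L680290 : sm gc N49321 = N47145 := ded_33_1 (flp_i L658314) L658287 L680287
theorem L680292 : sm gd N49321 = N49321 := ded_39_1 (flp_i L680287) L658296 L680287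
theorem L680293 : sm ge N49321 = N47684 := ded_44_1 L663591 L658297 L680287
theorem L680295 : sm gf N49321 = N47149 := ded_48_1 (flp_i L658352) (flp_f L658290) L680287
theorem L680297 : sm gg N49321 = N49321 := ded_51_1 (flp_i L680287) L658292 L680287
theorem L680298 : sm gj N49321 = N47687 := ded_53_1 L663616 (flp_j L658293) L680287
theorem L680300 : sm gi N47144 = N49322 := rfl
theorem L680302 : sm ga N49322 = N49322 := ded_18_1 (flp_i L680300) L658301 L680300
theorem L680303 : sm gb N49322 = N48739 := ded_26_1 (flp_i L672920) (flp_b L658302) L680300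
theorem L680305 : sm gc N49322 = N47684 := ded_33_1 L663591 (flp_c L658304) L680300
theorem L680307 : sm gd N49322 = N47410 := ded_39_1 (flp_i L660832) (flp_d L658310) L680300
theorem L680309 : sm ge N49322 = N47145 := ded_44_1 (flp_i L658314) L658299 L680300
theorem L680311 : sm gf N49322 = N47243 := ded_48_1 (flp_i L659240) (flp_f L658312) L680300
theorem L680313 : sm gg N49322 = N49322 := ded_51_1 (flp_i L680300) L658306 L680300
theorem L680314 : sm gj N49322 = N47499 := ded_53_1 L661833 (flp_j L658307) L680300
theorem L680316 : sm gh N47145 = N49323 := rfl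
theorem L680318 : sm ga N49323 = N49323 := ded_17_1 (flp_h L680316) L658316 L680316
theorem L680319 : sm gf N49323 = N47150 := ded_47_1 (flp_h L658362) (flp_f L658319) L680316
theorem L680321 : sm gg N49323 = N49323 := ded_50_1 (flp_h L680316) L658321 L680316
theorem L680322 : sm gd N49323 = N49323 := ded_38_1 (flp_h L680316) L658317 L359720 (flp_d L658317) L680316
theorem L680323 : sm gi N49323 = N49323 := ded_54_2 (flp_h L680316) (flp_i L658314) L359710 L658314 L680316
theorem L680324 : sm gi N47146 = N49324 := rfl
theorem L680326 : sm ga N49324 = N49324 := ded_18_1 (flp_i L680324) L658324 L680324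
theorem L680327 : sm gc N49324 = N47147 := ded_33_1 (flp_i L658335) L658322 L680324
theorem L680329 : sm gd N49324 = N49324 := ded_39_1 (flp_i L680324) L658334 L680324
theorem L680330 : sm ge N49324 = N47246 := ded_44_1 (flp_i L659270) (flp_e L658325) L680324
theorem L680332 : sm gf N49324 = N47687 := ded_48_1 L663616 (flp_f L658327) L680324
theorem L680334 : sm gg N49324 = N47862 := ded_51_1 L665614 (flp_g L658329) L680324
theorem L680336 : sm gj N49324 = N47149 := ded_53_1 (flp_i L658352) (flp_j L658331) L680324
theorem L680338 : sm gh N48317 = N49324 := ded_43_0 L680330 (flp_h L659283) L669562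
theorem L680340 : sm gh N47147 = N49325 := rfl
theorem L680342 : sm ga N49325 = N49325 := ded_17_1 (flp_h L680340) L658337 L680340
theorem L680343 : sm gc N49325 = N48317 := ded_32_1 L680338 L680327 L680340
theorem L680345 : sm ge N49325 = N47247 := ded_43_1 (flp_h L659285) (flp_e L658340) L680340
theorem L680347 : sm gg N49325 = N48197 := ded_50_1 L678445 L678441 L680340
theorem L680349 : sm gj N49325 = N47150 := ded_52_1 (flp_h L658362) (flp_j L658342) L680340
theorem L680351 : sm gd N49325 = N49325 := ded_38_1 (flp_h L680340) L658338 L359737 (flp_d L658338) L680340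
theorem L680352 : sm gi N49325 = N49325 := ded_54_2 (flp_h L680340) (flp_i L658335) L359728 L658335 L680340
theorem L680353 : sm gi N47148 = N49326 := rfl
theorem L680355 : sm gb N49326 = N47149 := ded_26_1 (flp_i L658352) L658344 L680353
theorem L680357 : sm gd N49326 = N49326 := ded_39_1 (flp_i L680353) L658346 L680353
theorem L680358 : sm ge N49326 = N47249 := ded_44_1 (flp_i L659303) (flp_e L658347) L680353
theorem L680360 : sm gg N49326 = N47152 := ded_51_1 (flp_i L658379) (flp_g L658349) L680353
theorem L680362 : sm gh N47149 = N49327 := rfl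
theorem L680364 : sm ga N49327 = N49327 := ded_17_1 (flp_h L680362) L658354 L680362
theorem L680365 : sm gc N49327 = N47150 := ded_32_1 (flp_h L658362) (flp_c L658355) L680362
theorem L680367 : sm ge N49327 = N47250 := ded_43_1 (flp_h L659309) (flp_e L658358) L680362
theorem L680369 : sm gg N49327 = N47153 := ded_50_1 (flp_h L658387) (flp_g L658360) L680362
theorem L680371 : sm gj N49327 = N48317 := ded_52_1 L680338 L680336 L680362
theorem L680373 : sm gi N49327 = N49327 := ded_54_2 (flp_h L680362) (flp_i L658352) L359745 L658352 L680362
theorem L680374 : sm gd N48646 = N49327 := ded_34_5 L680367 L659318 L384479 L650150 L672147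
theorem L680376 : sm gi N47151 = N49328 := rfl
theorem L680378 : sm ga N49328 = N47152 := ded_18_1 (flp_i L658379) L658371 L680376
theorem L680380 : sm gb N49328 = N49328 := ded_26_1 (flp_i L680376) L658378 L680376
theorem L680381 : sm gc N49328 = N48618 := ded_33_1 L674137 L674127 L680376
theorem L680383 : sm gd N49328 = N49328 := ded_39_1 (flp_i L680376) L658373 L680376
theorem L680384 : sm ge N49328 = N47251 := ded_44_1 (flp_i L659321) (flp_e L658374) L680376
theorem L680386 : sm gf N49328 = N49328 := ded_48_1 (flp_i L680376) L658376 L680376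
theorem L680387 : sm gh N49328 = N48634 := ded_55_1 L672059 L650192 L672199 L680184 L680174 L680175 (flp_d L675036) L675038 (flp_h L675024) L653496 L359838 (flp_e L576432) L178156 (flp_b L178078) L178080 (flp_d L601510) (flp_i L124574) (flp_h L85989) L59492 L65429 L94658 L137265 (flp_b L622575) L180345 L124298 (flp_i L124061) L124060 (flp_d L180036) L180038 (flp_e L261633) L261632 L261631 L617628 (flp_d L181195) (flp_i L180750) L550119 (flp_d L376433) (flp_f L658467) (flp_e L674921) L674915 L653443 L657148 (flp_d L657133) L657150 L657160 L644070 (flp_f L360432) (flp_e L658384) L658383 L658381 L359766 L247527 (flp_i L170543) (flp_h L117637) L81350 L81351 (flp_e L81345) L56377 (flp_b L56366) L56368 (flp_d L81322) L81324 L117600 L117606 L81468 L56452 L41309 L41305 (flp_c L40712) (flp_d L58569) L84605 L84614 L84609 (flp_f L84761) (flp_e L122688) (flp_d L178024) (flp_b L258530) (flp_c L376055) (flp_d L664852) (flp_i L664846) (flp_h L664800) (flp_d L673933) L673927 L668047 (flp_d L657851) (flp_b L674125) L674127 L658373 L680376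
theorem L680389 : sm gh N47152 = N49329 := rfl
theorem L680391 : sm ga N49329 = N48634 := ded_17_1 (flp_h L680387) L680378 L680389
theorem L680393 : sm gb N49329 = N47153 := ded_25_1 (flp_h L658387) (flp_b L658381) L680389
theorem L680395 : sm gc N49329 = N48633 := ded_32_1 L680254 L680247 L680389
theorem L680397 : sm ge N49329 = N47252 := ded_43_1 (flp_h L659328) (flp_e L658384) L680389
theorem L680399 : sm gf N49329 = N49329 := ded_47_1 (flp_h L680389) L658386 L680389
theorem L680400 : sm gi N49329 = N49329 := ded_54_2 (flp_h L680389) (flp_i L658379) L359762 L658379 L680389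
theorem L680401 : sm gd N48651 = N49329 := ded_55_89 L680400 (flp_h L680389) L658383 L658386 L658384 (flp_d L653140) L653138 L355229 L244477 (flp_i L168508) (flp_h L116272) (flp_d L115738) L115740 (flp_e L84051) L58200 (flp_b L58188) L58190 (flp_d L63196) L63198 L63321 L63327 L63325 L43896 L43898 L43894 L30541 L30544 L412715 (flp_h L30537) (flp_d L21278) L21285 L21292 (flp_d L21526) (flp_b L30891) (flp_c L44450) (flp_d L58726) (flp_i L84670) L122587 (flp_d L576376) L86216 (flp_e L81549) L117928 (flp_b L553591) (flp_c L247395) L247400 L359595 L658165 L680186 L680189 (flp_e L672199) (flp_d L672059) L672058 (flp_c L672054) (flp_d L650057) L271713 (flp_h L271706) (flp_d L271422) L271424 (flp_e L649877) (flp_d L669149) L669147 L384045 L263908 (flp_i L181599) L125070 (flp_d L138047) L200519 L200523 L200521 (flp_b L195382) L195384 (flp_d L617555) (flp_i L617611) L640399 (flp_d L376759) (flp_f L653769) (flp_e L653781) (flp_d L382360) (flp_b L617528) L381362 (flp_d L648119) L651384 L673103 L673118 L660612 L384513 L650182 L650186 L672185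
theorem L680403 : sm gd N47153 = N49330 := rfl
theorem L680405 : sm ga N49330 = N49330 := ded_12_1 (flp_d L680403) L658389 L680403
theorem L680406 : sm gb N49330 = N48651 := ded_20_1 L680401 L680393 L680403
theorem L680408 : sm gf N49330 = N49330 := ded_35_2 (flp_d L680403) L658394 L680403
theorem L680409 : sm gg N49330 = N48646 := ded_36_2 L680374 L680369 L680403
theorem L680411 : sm gj N49330 = N48597 := ded_37_2 L678487 L678484 L680403
theorem L680413 : sm gi N49330 = N49330 := ded_39_2 (flp_d L680403) L658395 L680403
theorem L680414 : sm gc N49330 = N49330 := ded_27_1 (flp_d L680403) L658390 L359778 (flp_c L658390) L680403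
theorem L680415 : sm ge N49330 = N48594 := ded_34_2 (flp_d L671757) L659349 (flp_d L659335) (flp_e L658392) L680403
theorem L680417 : sm gh N49330 = N49330 := ded_38_2 (flp_d L680403) (flp_h L658387) L359768 L658387 L680403
theorem L680418 : sm gh N47154 = N49331 := rfl
theorem L680420 : sm ga N49331 = N48107 := ded_17_1 (flp_h L667935) (flp_a L658398) L680418
theorem L680422 : sm gb N49331 = N47165 := ded_25_1 (flp_h L658531) (flp_b L658400) L680418
theorem L680424 : sm gc N49331 = N48100 := ded_32_1 (flp_h L667875) (flp_c L658402) L680418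
theorem L680426 : sm ge N49331 = N49331 := ded_43_1 (flp_h L680418) L658406 L680418
theorem L680427 : sm gf N49331 = N48205 := ded_47_1 (flp_h L668709) (flp_f L658409) L680418
theorem L680429 : sm gg N49331 = N47155 := ded_50_1 (flp_h L658411) L658396 L680418
theorem L680431 : sm gi N47155 = N49332 := rfl
theorem L680433 : sm ga N49332 = N47852 := ded_18_1 L665510 (flp_a L658413) L680431
theorem L680435 : sm gb N49332 = N47167 := ded_26_1 (flp_i L658547) (flp_b L658415) L680431
theorem L680437 : sm gc N49332 = N47860 := ded_33_1 L665593 (flp_c L658417) L680431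
theorem L680439 : sm ge N49332 = N49332 := ded_44_1 (flp_i L680431) L658419 L680431
theorem L680440 : sm gf N49332 = N48096 := ded_48_1 (flp_i L667835) (flp_f L658420) L680431
theorem L680442 : sm gj N49332 = N48095 := ded_53_1 (flp_i L667826) (flp_j L658422) L680431
theorem L680444 : sm gh N49332 = N47259 := ded_54_1 (flp_i L659412) (flp_h L360456) (flp_i L359786) L658411 L680431
theorem L680446 : sm gj N47156 = N49333 := rfl
theorem L680448 : sm ga N49333 = N47313 := ded_16_1 L659934 (flp_a L658426) L680446
theorem L680450 : sm gb N49333 = N47168 := ded_24_1 (flp_j L658557) (flp_b L658428) L680446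
theorem L680452 : sm gc N49333 = N49333 := ded_31_1 (flp_j L680446) L658430 L680446
theorem L680453 : sm gd N49333 = N47277 := ded_37_1 L659591 (flp_d L658431) L680446
theorem L680455 : sm ge N49333 = N47411 := ded_42_1 (flp_j L660848) (flp_e L658435) L680446
theorem L680457 : sm gf N49333 = N47157 := ded_46_1 (flp_j L658439) L658424 L680446
theorem L680459 : sm gi N49333 = N47260 := ded_53_2 (flp_j L659423) (flp_i L658433) L680446
theorem L680461 : sm gg N49333 = N47269 := ded_49_1 (flp_j L659517) L360597 (flp_j L622132) (flp_g L658437) L680446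
theorem L680463 : sm gh N47156 = N49334 := rfl
theorem L680465 : sm ga N49334 = N47836 := ded_17_1 L665347 (flp_a L658426) L680463
theorem L680467 : sm gb N49334 = N47169 := ded_25_1 (flp_h L658569) (flp_b L658428) L680463
theorem L680469 : sm gc N49334 = N49334 := ded_32_1 (flp_h L680463) L658430 L680463
theorem L680470 : sm ge N49334 = N47412 := ded_43_1 (flp_h L660861) (flp_e L658435) L680463
theorem L680472 : sm gf N49334 = N47158 := ded_47_1 (flp_h L658450) L658424 L680463
theorem L680474 : sm gg N49334 = N47800 := ded_50_1 L664991 (flp_g L658437) L680463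
theorem L680476 : sm gh N47157 = N49335 := rfl
theorem L680478 : sm ga N49335 = N47838 := ded_17_1 L665369 (flp_a L658441) L680476
theorem L680480 : sm gb N49335 = N47170 := ded_25_1 (flp_h L658581) (flp_b L658443) L680476
theorem L680482 : sm gc N49335 = N49335 := ded_32_1 (flp_h L680476) L658445 L680476
theorem L680483 : sm ge N49335 = N47161 := ded_43_1 (flp_h L658482) (flp_e L658446) L680476
theorem L680485 : sm gj N49335 = N47158 := ded_52_1 (flp_h L658450) L658439 L680476
theorem L680487 : sm gd N47158 = N49336 := rfl
theorem L680489 : sm ga N49336 = N47833 := ded_12_1 L665324 (flp_a L658452) L680487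
theorem L680491 : sm gb N49336 = N47171 := ded_20_1 (flp_d L658591) (flp_b L658454) L680487
theorem L680493 : sm gg N49336 = N47159 := ded_36_2 (flp_d L658461) (flp_g L658459) L680487
theorem L680495 : sm gi N47158 = N49337 := rfl
theorem L680497 : sm ga N49337 = N47839 := ded_18_1 (flp_i L665371) (flp_a L658452) L680495
theorem L680499 : sm gb N49337 = N47172 := ded_26_1 (flp_i L658597) (flp_b L658454) L680495
theorem L680501 : sm gc N49337 = N49337 := ded_33_1 (flp_i L680495) L658456 L680495
theorem L680502 : sm ge N49337 = N47162 := ded_44_1 (flp_i L658493) (flp_e L658457) L680495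
theorem L680504 : sm gg N49337 = N47160 := ded_51_1 (flp_i L658469) (flp_g L658459) L680495
theorem L680506 : sm gh N49337 = N47264 := ded_54_1 (flp_i L659462) (flp_h L360479) (flp_i L359796) L658450 L680495
theorem L680508 : sm gi N47159 = N49338 := rfl
theorem L680510 : sm ga N49338 = N47834 := ded_18_1 (flp_i L665326) (flp_a L658463) L680508
theorem L680512 : sm gb N49338 = N47175 := ded_26_1 (flp_i L658623) (flp_b L658465) L680508
theorem L680514 : sm gd N49338 = N47160 := ded_39_1 (flp_i L658469) L658461 L680508
theorem L680516 : sm gf N49338 = N47798 := ded_48_1 (flp_i L664966) (flp_f L658467) L680508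
theorem L680518 : sm gi N47161 = N49339 := rfl
theorem L680520 : sm ga N49339 = N47840 := ded_18_1 (flp_i L665380) (flp_a L658484) L680518
theorem L680522 : sm gb N49339 = N47176 := ded_26_1 (flp_i L658631) (flp_b L658486) L680518
theorem L680524 : sm gc N49339 = N49339 := ded_33_1 (flp_i L680518) L658488 L680518
theorem L680525 : sm gf N49339 = N47418 := ded_48_1 (flp_i L660932) (flp_f L658489) L680518
theorem L680527 : sm gg N49339 = N48615 := ded_51_1 (flp_i L678562) L678558 L680518
theorem L680529 : sm gj N49339 = N47162 := ded_53_1 (flp_i L658493) (flp_j L658491) L680518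
theorem L680531 : sm gh N49339 = N47267 := ded_54_1 (flp_i L659488) (flp_h L360503) (flp_i L359815) L658482 L680518
theorem L680533 : sm gj N47163 = N49340 := rfl
theorem L680535 : sm ga N49340 = N47192 := ded_16_1 (flp_j L658796) (flp_a L658508) L680533
theorem L680537 : sm gb N49340 = N47277 := ded_24_1 L659591 (flp_b L658510) L680533
theorem L680539 : sm gc N49340 = N49340 := ded_31_1 (flp_j L680533) L658512 L680533
theorem L680540 : sm gd N49340 = N47168 := ded_37_1 (flp_j L658557) (flp_d L658513) L680533
theorem L680542 : sm ge N49340 = N47507 := ded_42_1 L661926 L658519 L680533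
theorem L680544 : sm gf N49340 = N47164 := ded_46_1 (flp_j L658521) L658506 L680533
theorem L680546 : sm gi N49340 = N47269 := ded_53_2 (flp_j L659517) (flp_i L658515) L680533
theorem L680548 : sm gg N49340 = N47260 := ded_49_1 (flp_j L659423) L360470 (flp_j L617178) (flp_g L658517) L680533
theorem L680550 : sm gh N47163 = N49341 := rfl
theorem L680552 : sm ga N49341 = N47193 := ded_17_1 (flp_h L658805) (flp_a L658508) L680550
theorem L680554 : sm gb N49341 = N48205 := ded_25_1 (flp_h L668709) (flp_b L658510) L680550
theorem L680556 : sm gc N49341 = N49341 := ded_32_1 (flp_h L680550) L658512 L680550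
theorem L680557 : sm ge N49341 = N48370 := ded_43_1 L669968 L658519 L680550
theorem L680559 : sm gf N49341 = N47165 := ded_47_1 (flp_h L658531) L658506 L680550
theorem L680561 : sm gg N49341 = N48138 := ded_50_1 (flp_h L668188) (flp_g L658517) L680550
theorem L680563 : sm gh N47164 = N49342 := rfl
theorem L680565 : sm ga N49342 = N47194 := ded_17_1 (flp_h L658812) (flp_a L658523) L680563
theorem L680567 : sm gc N49342 = N49342 := ded_32_1 (flp_h L680563) L658525 L680563
theorem L680568 : sm ge N49342 = N49342 := ded_43_1 (flp_h L680563) L658528 L680563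
theorem L680569 : sm gg N49342 = N48613 := ded_50_1 L678596 L678594 L680563
theorem L680571 : sm gj N49342 = N47165 := ded_52_1 (flp_h L658531) L658521 L680563
theorem L680573 : sm gd N47165 = N49343 := rfl
theorem L680575 : sm ga N49343 = N47195 := ded_12_1 (flp_d L658822) (flp_a L658533) L680573
theorem L680577 : sm gg N49343 = N47166 := ded_36_2 (flp_d L658539) (flp_g L658537) L680573
theorem L680579 : sm gh N49343 = N47171 := ded_38_2 (flp_d L658591) (flp_h L359905) (flp_d L359870) L658531 L680573
theorem L680581 : sm gi N47165 = N49344 := rfl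
theorem L680583 : sm ga N49344 = N47196 := ded_18_1 (flp_i L658828) (flp_a L658533) L680581
theorem L680585 : sm gc N49344 = N49344 := ded_33_1 (flp_i L680581) L658535 L680581
theorem L680586 : sm ge N49344 = N49344 := ded_44_1 (flp_i L680581) L658536 L680581
theorem L680587 : sm gg N49344 = N47167 := ded_51_1 (flp_i L658547) (flp_g L658537) L680581
theorem L680589 : sm gh N49344 = N47273 := ded_54_1 (flp_i L659551) (flp_h L360607) (flp_i L359873) L658531 L680581
theorem L680591 : sm gc N47166 = N49345 := rfl
theorem L680593 : sm ga N49345 = N47197 := ded_11_1 (flp_c L658836) (flp_a L658541) L680591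
theorem L680595 : sm gf N49345 = N47344 := ded_29_2 L660171 (flp_f L658543) L680591
theorem L680597 : sm gh N49345 = N47173 := ded_32_2 (flp_c L658609) (flp_h L658545) L680591
theorem L680599 : sm gb N49345 = N47346 := ded_19_1 L660186 (flp_b L653811) (flp_c L675329) L675327 L680591
theorem L680601 : sm gd N49345 = N49345 := ded_27_2 (flp_c L680591) (flp_d L658539) L359879 L658539 L680591
theorem L680602 : sm ge N48266 = N49345 := ded_40_5 L680595 (flp_e L660165) L361021 L384025 L669139
theorem L680604 : sm ge N47166 = N49346 := rfl
theorem L680606 : sm ga N49346 = N47198 := ded_13_1 (flp_e L658843) (flp_a L658541) L680604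
theorem L680608 : sm gb N49346 = N47830 := ded_21_1 (flp_e L675337) L675327 L680604
theorem L680610 : sm gc N49346 = N48266 := ded_28_1 L680602 (flp_c L680591) L680604
theorem L680612 : sm gh N49346 = N47174 := ded_43_2 (flp_e L658617) (flp_h L658545) L680604
theorem L680614 : sm gd N49346 = N49346 := ded_34_1 (flp_e L680604) (flp_d L658539) L359880 L658539 L680604
theorem L680615 : sm gf N49346 = N47828 := ded_40_2 (flp_e L665289) (flp_f L653769) (flp_e L653781) (flp_f L658543) L680604
theorem L680617 : sm gi N47166 = N49347 := rfl
theorem L680619 : sm ga N49347 = N47199 := ded_18_1 (flp_i L658848) (flp_a L658541) L680617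
theorem L680621 : sm gd N49347 = N47167 := ded_39_1 (flp_i L658547) L658539 L680617
theorem L680623 : sm gf N49347 = N48141 := ded_48_1 (flp_i L668230) (flp_f L658543) L680617
theorem L680625 : sm gg N47168 = N49348 := rfl
theorem L680627 : sm ga N49348 = N47200 := ded_15_1 (flp_g L658854) (flp_a L658559) L680625
theorem L680629 : sm gb N49348 = N47269 := ded_23_1 (flp_g L680461) L680450 L680625
theorem L680631 : sm gc N49348 = N47181 := ded_30_1 (flp_g L658679) (flp_c L658561) L680625
theorem L680633 : sm gd N49348 = N47260 := ded_36_1 (flp_g L680548) L680540 L680625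
theorem L680635 : sm ge N49348 = N47419 := ded_41_1 (flp_g L660944) (flp_e L658563) L680625
theorem L680637 : sm gi N49348 = N47277 := ded_51_2 (flp_g L659583) (flp_i L658567) L680625
theorem L680639 : sm gf N49348 = N47256 := ded_45_1 (flp_g L678653) L678649 L656709 (flp_f L658565) L680625
theorem L680641 : sm gj N49348 = N47255 := ded_49_2 L659378 (flp_j L382375) (flp_g L359893) L658557 L680625
theorem L680643 : sm gh N47168 = N49349 := rfl
theorem L680645 : sm ga N49349 = N47201 := ded_17_1 (flp_h L658864) (flp_a L658559) L680643
theorem L680647 : sm gc N49349 = N47182 := ded_32_1 (flp_h L658691) (flp_c L658561) L680643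
theorem L680649 : sm ge N49349 = N47420 := ded_43_1 (flp_h L660957) (flp_e L658563) L680643
theorem L680651 : sm gf N49349 = N47170 := ded_47_1 (flp_h L658581) (flp_f L658565) L680643
theorem L680653 : sm gj N49349 = N47169 := ded_52_1 (flp_h L658569) L658557 L680643
theorem L680655 : sm gd N47169 = N49350 := rfl
theorem L680657 : sm ga N49350 = N47202 := ded_12_1 (flp_d L658874) (flp_a L658571) L680655
theorem L680659 : sm gf N49350 = N47171 := ded_35_2 (flp_d L658591) (flp_f L658577) L680655
theorem L680661 : sm gg N49350 = N48143 := ded_36_2 (flp_d L668250) (flp_g L658579) L680655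
theorem L680663 : sm gi N47169 = N49351 := rfl
theorem L680665 : sm ga N49351 = N47203 := ded_18_1 (flp_i L658880) (flp_a L658571) L680663
theorem L680667 : sm gc N49351 = N47184 := ded_33_1 (flp_i L658714) (flp_c L658573) L680663
theorem L680669 : sm ge N49351 = N47422 := ded_44_1 (flp_i L660979) (flp_e L658575) L680663
theorem L680671 : sm gf N49351 = N47172 := ded_48_1 (flp_i L658597) (flp_f L658577) L680663
theorem L680673 : sm gg N49351 = N48144 := ded_51_1 (flp_i L668256) (flp_g L658579) L680663
theorem L680675 : sm gh N49351 = N47280 := ded_54_1 (flp_i L659613) (flp_h L360641) (flp_i L359889) L658569 L680663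
theorem L680677 : sm gd N47170 = N49352 := rfl
theorem L680679 : sm ga N49352 = N47204 := ded_12_1 (flp_d L658892) (flp_a L658583) L680677
theorem L680681 : sm gg N49352 = N47210 := ded_36_2 L678680 L678676 L680677
theorem L680683 : sm gj N49352 = N47171 := ded_37_2 (flp_d L658591) (flp_j L658589) L680677
theorem L680685 : sm gc N49352 = N47207 := ded_27_1 L658916 (flp_c L658101) L658108 (flp_c L658585) L680677
theorem L680687 : sm ge N49352 = N47206 := ded_34_2 L658910 (flp_e L658211) L658220 (flp_e L658587) L680677
theorem L680689 : sm gi N47170 = N49353 := rfl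
theorem L680691 : sm ga N49353 = N47205 := ded_18_1 (flp_i L658896) (flp_a L658583) L680689
theorem L680693 : sm gc N49353 = N47185 := ded_33_1 (flp_i L658727) (flp_c L658585) L680689
theorem L680695 : sm ge N49353 = N47176 := ded_44_1 (flp_i L658631) (flp_e L658587) L680689
theorem L680697 : sm gj N49353 = N47172 := ded_53_1 (flp_i L658597) (flp_j L658589) L680689
theorem L680699 : sm gh N49353 = N47282 := ded_54_1 (flp_i L659631) (flp_h L360653) (flp_i L359903) L658581 L680689
theorem L680701 : sm gc N47171 = N49354 := rfl
theorem L680703 : sm ga N49354 = N47206 := ded_11_1 (flp_c L658906) (flp_a L658593) L680701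
theorem L680705 : sm gg N49354 = N47173 := ded_30_2 (flp_c L658609) (flp_g L658595) L680701
theorem L680707 : sm gj N49354 = N47207 := ded_31_2 (flp_c L680685) L680683 L680701
theorem L680709 : sm gd N49354 = N47186 := ded_27_2 (flp_c L658738) (flp_d L360035) (flp_c L359909) L658591 L680701
theorem L680711 : sm ge N47204 = N49354 := ded_13_0 L680703 (flp_e L680687) L680679
theorem L680713 : sm ge N47171 = N49355 := rfl
theorem L680715 : sm ga N49355 = N47207 := ded_13_1 (flp_e L658912) (flp_a L658593) L680713
theorem L680717 : sm gc N49355 = N47204 := ded_28_1 L680711 (flp_c L680701) L680713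
theorem L680719 : sm gg N49355 = N47174 := ded_41_2 (flp_e L658617) (flp_g L658595) L680713
theorem L680721 : sm gj N49355 = N47206 := ded_42_2 (flp_e L680687) L680683 L680713
theorem L680723 : sm gd N49355 = N47177 := ded_34_1 (flp_e L658643) (flp_d L359943) (flp_e L359911) L658591 L680713
theorem L680725 : sm gi N47171 = N49356 := rfl
theorem L680727 : sm ga N49356 = N47208 := ded_18_1 (flp_i L658918) (flp_a L658593) L680725
theorem L680729 : sm gd N49356 = N47172 := ded_39_1 (flp_i L658597) L658591 L680725
theorem L680731 : sm gg N49356 = N47175 := ded_51_1 (flp_i L658623) (flp_g L658595) L680725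
theorem L680733 : sm gb N47173 = N49357 := rfl
theorem L680735 : sm gd N49357 = N47188 := ded_20_2 (flp_b L658758) (flp_d L658615) L680733
theorem L680737 : sm ge N49357 = N48236 := ded_21_2 (flp_b L678974) L678984 L680733
theorem L680739 : sm gf N49357 = N47323 := ded_22_2 L660005 (flp_f L658613) L680733
theorem L680741 : sm gh N49357 = N47346 := ded_25_2 (flp_b L680599) L680597 L680733
theorem L680743 : sm gc N49357 = N47325 := ded_19_2 (flp_b L675145) L675147 L658465 L658609 L680733
theorem L680745 : sm gi N47173 = N49358 := rfl
theorem L680747 : sm ga N49358 = N47211 := ded_18_1 (flp_i L658934) (flp_a L658611) L680745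
theorem L680749 : sm gc N49358 = N47175 := ded_33_1 (flp_i L658623) L658609 L680745
theorem L680751 : sm gd N49358 = N47189 := ded_39_1 (flp_i L658764) (flp_d L658615) L680745
theorem L680753 : sm gf N49358 = N48149 := ded_48_1 (flp_i L668314) (flp_f L658613) L680745
theorem L680755 : sm gi N47174 = N49359 := rfl
theorem L680757 : sm ga N49359 = N47213 := ded_18_1 (flp_i L658950) (flp_a L658619) L680755
theorem L680759 : sm gd N49359 = N47179 := ded_39_1 (flp_i L658664) (flp_d L658621) L680755
theorem L680761 : sm ge N49359 = N47175 := ded_44_1 (flp_i L658623) L658617 L680755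
theorem L680763 : sm gh N47175 = N49360 := rfl
theorem L680765 : sm ga N49360 = N47214 := ded_17_1 (flp_h L658956) (flp_a L658625) L680763
theorem L680767 : sm gf N49360 = N48150 := ded_47_1 (flp_h L668322) (flp_f L658629) L680763
theorem L680769 : sm gd N49360 = N47290 := ded_38_1 (flp_h L659696) L360697 (flp_h L359931) (flp_d L658627) L680763
theorem L680771 : sm gf N47177 = N49361 := rfl
theorem L680773 : sm ga N49361 = N47216 := ded_14_1 (flp_f L658970) (flp_a L658645) L680771
theorem L680775 : sm gb N49361 = N48279 := ded_22_1 (flp_f L674960) L674953 L680771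
theorem L680777 : sm gc N49361 = N47225 := ded_29_1 L659057 (flp_c L658647) L680771
theorem L680779 : sm gj N49361 = N47227 := ded_46_2 L659078 (flp_j L658651) L680771
theorem L680781 : sm gh N49361 = N49361 := ded_47_2 (flp_f L680771) L658653 L680771
theorem L680782 : sm ge N49361 = N47431 := ded_40_1 (flp_f L661080) (flp_e L362443) (flp_f L359947) L658643 L680771
theorem L680784 : sm gg N49361 = N48281 := ded_45_2 L669242 (flp_g L653273) L653278 (flp_g L658649) L680771
theorem L680786 : sm gi N47177 = N49362 := rfl
theorem L680788 : sm ga N49362 = N47217 := ded_18_1 (flp_i L658975) (flp_a L658645) L680786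
theorem L680790 : sm gc N49362 = N47230 := ded_33_1 (flp_i L659106) (flp_c L658647) L680786
theorem L680792 : sm ge N49362 = N47178 := ded_44_1 (flp_i L658654) L658643 L680786
theorem L680794 : sm gg N49362 = N47179 := ded_51_1 (flp_i L658664) (flp_g L658649) L680786
theorem L680796 : sm gj N49362 = N47232 := ded_53_1 (flp_i L659121) (flp_j L658651) L680786
theorem L680798 : sm gh N47178 = N49363 := rfl
theorem L680800 : sm ga N49363 = N47218 := ded_17_1 (flp_h L658981) (flp_a L658656) L680798
theorem L680802 : sm gf N49363 = N47433 := ded_47_1 (flp_h L661093) (flp_f L658660) L680798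
theorem L680804 : sm gg N49363 = N47180 := ded_50_1 (flp_h L658670) (flp_g L658662) L680798
theorem L680806 : sm gd N49363 = N47295 := ded_38_1 (flp_h L659746) L360734 (flp_h L359962) (flp_d L658658) L680798
theorem L680808 : sm gi N49363 = N49363 := ded_54_2 (flp_h L680798) (flp_i L658654) L359951 L658654 L680798
theorem L680809 : sm gh N47179 = N49364 := rfl
theorem L680811 : sm ga N49364 = N47221 := ded_17_1 (flp_h L659011) (flp_a L658666) L680809
theorem L680813 : sm gb N49364 = N48319 := ded_25_1 L674978 L674968 L680809
theorem L680815 : sm gc N49364 = N48196 := ded_32_1 L679147 L679135 L680809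
theorem L680817 : sm ge N49364 = N47180 := ded_43_1 (flp_h L658670) (flp_e L658668) L680809
theorem L680819 : sm gi N49364 = N49364 := ded_54_2 (flp_h L680809) (flp_i L658664) L359968 L658664 L680809
theorem L680820 : sm gh N47181 = N49365 := rfl
theorem L680822 : sm ga N49365 = N47224 := ded_17_1 (flp_h L659039) (flp_a L658681) L680820
theorem L680824 : sm gb N49365 = N49365 := ded_25_1 (flp_h L680820) L658683 L680820
theorem L680825 : sm ge N49365 = N47435 := ded_43_1 (flp_h L661110) (flp_e L658685) L680820
theorem L680827 : sm gf N49365 = N47856 := ded_47_1 L678805 L678801 L680820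
theorem L680829 : sm gg N49365 = N47182 := ded_50_1 (flp_h L658691) L658679 L680820
theorem L680831 : sm gj N49365 = N47854 := ded_52_1 L665528 (flp_j L658689) L680820
theorem L680833 : sm gd N48301 = N49365 := ded_12_0 L680822 (flp_d L659051) L669406
theorem L680835 : sm gi N47182 = N49366 := rfl
theorem L680837 : sm ga N49366 = N47226 := ded_18_1 (flp_i L659064) (flp_a L658693) L680835
theorem L680839 : sm gb N49366 = N49366 := ded_26_1 (flp_i L680835) L658695 L680835
theorem L680840 : sm ge N49366 = N47436 := ded_44_1 (flp_i L661122) (flp_e L658696) L680835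
theorem L680842 : sm gf N49366 = N47185 := ded_48_1 (flp_i L658727) (flp_f L658698) L680835
theorem L680844 : sm gj N49366 = N47184 := ded_53_1 (flp_i L658714) (flp_j L658700) L680835
theorem L680846 : sm gh N49366 = N47299 := ded_54_1 (flp_i L659785) (flp_h L360802) (flp_i L360013) L658691 L680835
theorem L680848 : sm gc N47183 = N49367 := rfl
theorem L680850 : sm ga N49367 = N47227 := ded_11_1 (flp_c L659076) (flp_a L658704) L680848
theorem L680852 : sm ge N49367 = N47470 := ded_28_2 L661474 (flp_e L658711) L680848
theorem L680854 : sm gf N49367 = N47186 := ded_29_2 (flp_c L658738) (flp_f L658707) L680848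
theorem L680856 : sm gg N49367 = N48152 := ded_30_2 (flp_c L668341) (flp_g L658709) L680848
theorem L680858 : sm gj N49367 = N47216 := ded_31_2 (flp_c L680106) L680110 L680848
theorem L680860 : sm gh N49367 = N49367 := ded_32_2 (flp_c L680848) L658713 L680848
theorem L680861 : sm gi N47183 = N49368 := rfl
theorem L680863 : sm ga N49368 = N47229 := ded_18_1 (flp_i L659096) (flp_a L658704) L680861
theorem L680865 : sm gb N49368 = N49368 := ded_26_1 (flp_i L680861) L658706 L680861
theorem L680866 : sm gd N49368 = N47184 := ded_39_1 (flp_i L658714) L658702 L680861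
theorem L680868 : sm ge N49368 = N48547 := ded_44_1 (flp_i L671390) (flp_e L658711) L680861
theorem L680870 : sm gf N49368 = N47187 := ded_48_1 (flp_i L658749) (flp_f L658707) L680861
theorem L680872 : sm gg N49368 = N48153 := ded_51_1 (flp_i L668348) (flp_g L658709) L680861
theorem L680874 : sm gi N47186 = N49369 := rfl
theorem L680876 : sm ga N49369 = N47232 := ded_18_1 (flp_i L659121) (flp_a L658740) L680874
theorem L680878 : sm gc N49369 = N47187 := ded_33_1 (flp_i L658749) L658738 L680874
theorem L680880 : sm ge N49369 = N47215 := ded_44_1 (flp_i L658962) (flp_e L658742) L680874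
theorem L680882 : sm gg N49369 = N47189 := ded_51_1 (flp_i L658764) (flp_g L658744) L680874
theorem L680884 : sm gj N49369 = N47217 := ded_53_1 (flp_i L658975) (flp_j L658746) L680874
theorem L680886 : sm gh N47187 = N49370 := rfl
theorem L680888 : sm ga N49370 = N47233 := ded_17_1 (flp_h L659127) (flp_a L658751) L680886
theorem L680890 : sm gb N49370 = N49370 := ded_25_1 (flp_h L680886) L658753 L680886
theorem L680891 : sm gg N49370 = N47190 := ded_50_1 (flp_h L658772) (flp_g L658756) L680886
theorem L680893 : sm gd N49370 = N47307 := ded_38_1 (flp_h L659865) L360865 (flp_h L360052) (flp_d L658754) L680886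
theorem L680895 : sm gi N49370 = N49370 := ded_54_2 (flp_h L680886) (flp_i L658749) L360042 L658749 L680886
theorem L680896 : sm gi N47188 = N49371 := rfl
theorem L680898 : sm ga N49371 = N48622 := ded_18_1 L679932 L679920 L680896
theorem L680900 : sm gb N49371 = N47189 := ded_26_1 (flp_i L658764) L658758 L680896
theorem L680902 : sm gc N49371 = N49371 := ded_33_1 (flp_i L680896) L658763 L680896
theorem L680903 : sm ge N49371 = N48601 := ded_44_1 (flp_i L673719) (flp_e L673723) L680896
theorem L680905 : sm gf N49371 = N48158 := ded_48_1 (flp_i L668391) (flp_f L658760) L680896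
theorem L680907 : sm gh N48606 = N49371 := ded_17_0 L680898 L671970 (flp_a L671860)
theorem L680909 : sm gh N47189 = N49372 := rfl
theorem L680911 : sm ga N49372 = N47236 := ded_17_1 (flp_h L659151) (flp_a L658766) L680909
theorem L680913 : sm gb N49372 = N48606 := ded_25_1 L680907 L680900 L680909
theorem L680915 : sm gc N49372 = N47190 := ded_32_1 (flp_h L658772) (flp_c L658768) L680909
theorem L680917 : sm ge N49372 = N48605 := ded_43_1 L679077 L679070 L680909
theorem L680919 : sm gf N49372 = N48159 := ded_47_1 (flp_h L668397) (flp_f L658770) L680909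
theorem L680921 : sm gi N49372 = N49372 := ded_54_2 (flp_h L680909) (flp_i L658764) L360060 L658764 L680909
theorem L680922 : sm gh N47191 = N49373 := rfl
theorem L680924 : sm ga N49373 = N48370 := ded_17_1 L669968 (flp_a L658784) L680922
theorem L680926 : sm gb N49373 = N47931 := ded_25_1 (flp_h L666347) (flp_b L658786) L680922
theorem L680928 : sm gc N49373 = N49373 := ded_32_1 (flp_h L680922) L658788 L680922
theorem L680929 : sm ge N49373 = N47193 := ded_43_1 (flp_h L658805) L658782 L680922
theorem L680931 : sm gf N49373 = N49373 := ded_47_1 (flp_h L680922) L658795 L680922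
theorem L680932 : sm gg N49373 = N47916 := ded_50_1 (flp_h L666187) (flp_g L658789) L680922
theorem L680934 : sm gh N47192 = N49374 := rfl
theorem L680936 : sm gb N49374 = N48609 := ded_25_1 L674183 L674169 L680934
theorem L680938 : sm gc N49374 = N49374 := ded_32_1 (flp_h L680934) L658798 L680934
theorem L680939 : sm gf N49374 = N47194 := ded_47_1 (flp_h L658812) (flp_f L658801) L680934
theorem L680941 : sm gg N49374 = N48607 := ded_50_1 L674735 L674733 L680934
theorem L680943 : sm gj N49374 = N47193 := ded_52_1 (flp_h L658805) L658796 L680934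
theorem L680945 : sm gd N47193 = N49375 := rfl
theorem L680947 : sm gf N49375 = N47195 := ded_35_2 (flp_d L658822) (flp_f L658808) L680945
theorem L680949 : sm gg N49375 = N48160 := ded_36_2 (flp_d L668405) (flp_g L658810) L680945
theorem L680951 : sm gh N49375 = N47202 := ded_38_2 (flp_d L658874) (flp_h L360128) (flp_d L360084) L658805 L680945
theorem L680953 : sm gi N47193 = N49376 := rfl
theorem L680955 : sm gc N49376 = N49376 := ded_33_1 (flp_i L680953) L658807 L680953
theorem L680956 : sm gf N49376 = N47196 := ded_48_1 (flp_i L658828) (flp_f L658808) L680953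
theorem L680958 : sm gg N49376 = N48161 := ded_51_1 (flp_i L668411) (flp_g L658810) L680953
theorem L680960 : sm gh N49376 = N47316 := ded_54_1 (flp_i L659951) (flp_h L360910) (flp_i L360086) L658805 L680953
theorem L680962 : sm gd N47194 = N49377 := rfl
theorem L680964 : sm gb N49377 = N48269 := ded_20_1 L669161 (flp_b L658814) L680962
theorem L680966 : sm gg N49377 = N48266 := ded_36_2 L669143 (flp_g L658818) L680962
theorem L680968 : sm gj N49377 = N47195 := ded_37_2 (flp_d L658822) (flp_j L658820) L680962
theorem L680970 : sm gh N49377 = N47204 := ded_38_2 (flp_d L658892) (flp_h L360138) (flp_d L360093) L658812 L680962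
theorem L680972 : sm gi N47194 = N49378 := rfl
theorem L680974 : sm gb N49378 = N48619 := ded_26_1 (flp_i L671951) (flp_b L658814) L680972
theorem L680976 : sm gc N49378 = N49378 := ded_33_1 (flp_i L680972) L658816 L680972
theorem L680977 : sm ge N49378 = N49378 := ded_44_1 (flp_i L680972) L658817 L680972
theorem L680978 : sm gg N49378 = N48616 := ded_51_1 (flp_i L671929) (flp_g L658818) L680972
theorem L680980 : sm gj N49378 = N47196 := ded_53_1 (flp_i L658828) (flp_j L658820) L680972
theorem L680982 : sm gh N49378 = N47318 := ded_54_1 (flp_i L659964) (flp_h L360917) (flp_i L360096) L658812 L680972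
theorem L680984 : sm gc N47195 = N49379 := rfl
theorem L680986 : sm gg N49379 = N47197 := ded_30_2 (flp_c L658836) (flp_g L658824) L680984
theorem L680988 : sm gh N49379 = N47206 := ded_32_2 (flp_c L658906) (flp_h L658826) L680984
theorem L680990 : sm gd N49379 = N49379 := ded_27_2 (flp_c L680984) (flp_d L658822) L360100 L658822 L680984
theorem L680991 : sm ge N47195 = N49380 := rfl
theorem L680993 : sm gg N49380 = N47198 := ded_41_2 (flp_e L658843) (flp_g L658824) L680991
theorem L680995 : sm gh N49380 = N47207 := ded_43_2 (flp_e L658912) (flp_h L658826) L680991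
theorem L680997 : sm gd N49380 = N49380 := ded_34_1 (flp_e L680991) (flp_d L658822) L360101 L658822 L680991
theorem L680998 : sm gi N47195 = N49381 := rfl
theorem L681000 : sm gd N49381 = N47196 := ded_39_1 (flp_i L658828) L658822 L680998
theorem L681002 : sm gg N49381 = N47199 := ded_51_1 (flp_i L658848) (flp_g L658824) L680998
theorem L681004 : sm gb N47197 = N49382 := rfl
theorem L681006 : sm gd N49382 = N49382 := ded_20_2 (flp_b L681004) L658842 L681004
theorem L681007 : sm gf N49382 = N48164 := ded_22_2 (flp_b L668431) (flp_f L658838) L681004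
theorem L681009 : sm gh N49382 = N47209 := ded_25_2 (flp_b L658924) (flp_h L658840) L681004
theorem L681011 : sm ge N47197 = N49383 := rfl
theorem L681013 : sm ga N49383 = N48266 := ded_13_1 L680602 L680593 L681011
theorem L681015 : sm gc N49383 = N47198 := ded_28_1 (flp_e L658843) L658836 L681011
theorem L681017 : sm gh N49383 = N47210 := ded_43_2 (flp_e L658930) (flp_h L658840) L681011
theorem L681019 : sm gf N49383 = N48264 := ded_40_2 (flp_e L669127) (flp_f L660159) (flp_e L660163) (flp_f L658838) L681011
theorem L681021 : sm gd N49383 = N48613 := ded_56_3 L671914 (flp_b L674613) (flp_a L674602) L653031 L358938 L246969 L170179 L170177 L117450 L81270 L117514 L117517 (flp_e L170304) L644083 (flp_c L124800) (flp_b L124728) (flp_a L180904) L180908 (flp_f L247708) (flp_e L359456) (flp_d L359450) (flp_c L614280) L357975 L246384 (flp_h L246382) L169774 (flp_e L246350) L246349 L246348 L614140 L170363 L170444 L170449 L117581 L170451 L170456 (flp_b L168411) L550539 L118042 L171142 (flp_e L248411) (flp_d L361038) (flp_c L660186) (flp_b L680599) L680593 L658840 L360162 L382767 L382771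 L382769 (flp_b L552233) L181317 (flp_h L181500) (flp_f L248312) L360942 L360946 (flp_c L660007) L660005 L382427 (flp_h L382686) (flp_f L658838) L681011
theorem L681023 : sm gi N47197 = N49384 := rfl
theorem L681025 : sm gc N49384 = N47199 := ded_33_1 (flp_i L658848) L658836 L681023
theorem L681027 : sm gd N49384 = N49384 := ded_39_1 (flp_i L681023) L658842 L681023
theorem L681028 : sm gf N49384 = N48165 := ded_48_1 (flp_i L668436) (flp_f L658838) L681023
theorem L681030 : sm gf N47198 = N49385 := rfl
theorem L681032 : sm ga N49385 = N47828 := ded_14_1 (flp_f L680615) L680606 L681030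
theorem L681034 : sm gb N49385 = N47275 := ded_22_1 (flp_f L674255) L674250 L681030
theorem L681036 : sm gc N49385 = N48264 := ded_29_1 (flp_f L681019) L681015 L681030
theorem L681038 : sm gd N49385 = N49385 := ded_35_1 (flp_f L681030) L658847 L681030
theorem L681039 : sm gh N49385 = N47212 := ded_47_2 (flp_f L658942) (flp_h L658845) L681030
theorem L681041 : sm ge N49385 = N47258 := ded_40_1 L659406 (flp_e L382689) (flp_f L360106) L658843 L681030
theorem L681043 : sm gi N47198 = N49386 := rfl
theorem L681045 : sm gd N49386 = N49386 := ded_39_1 (flp_i L681043) L658847 L681043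
theorem L681046 : sm ge N49386 = N47199 := ded_44_1 (flp_i L658848) L658843 L681043
theorem L681048 : sm gh N47199 = N49387 := rfl
theorem L681050 : sm gf N49387 = N48167 := ded_47_1 (flp_h L668449) (flp_f L658852) L681048
theorem L681052 : sm gd N49387 = N47327 := ded_38_1 (flp_h L660032) L360949 (flp_h L360116) (flp_d L658850) L681048
theorem L681054 : sm gi N49387 = N47214 := ded_54_2 (flp_h L658956) (flp_i L360170) (flp_h L360108) L658848 L681048
theorem L681056 : sm gh N47200 = N49388 := rfl
theorem L681058 : sm gb N49388 = N47842 := ded_25_1 L674287 L674273 L681056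
theorem L681060 : sm gc N49388 = N47224 := ded_32_1 (flp_h L659039) (flp_c L658856) L681056
theorem L681062 : sm ge N49388 = N47449 := ded_43_1 (flp_h L661271) (flp_e L658858) L681056
theorem L681064 : sm gf N49388 = N47848 := ded_47_1 (flp_h L674712) L674710 L681056
theorem L681066 : sm gg N49388 = N47201 := ded_50_1 (flp_h L658864) L658854 L681056
theorem L681068 : sm gj N49388 = N47844 := ded_52_1 L665427 (flp_j L658862) L681056
theorem L681070 : sm gd N47201 = N49389 := rfl
theorem L681072 : sm gf N49389 = N47204 := ded_35_2 (flp_d L658892) (flp_f L658870) L681070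
theorem L681074 : sm gj N49389 = N47202 := ded_37_2 (flp_d L658874) (flp_j L658872) L681070
theorem L681076 : sm gi N47201 = N49390 := rfl
theorem L681078 : sm gc N49390 = N47226 := ded_33_1 (flp_i L659064) (flp_c L658866) L681076
theorem L681080 : sm ge N49390 = N47451 := ded_44_1 (flp_i L661286) (flp_e L658868) L681076
theorem L681082 : sm gf N49390 = N47205 := ded_48_1 (flp_i L658896) (flp_f L658870) L681076
theorem L681084 : sm gj N49390 = N47203 := ded_53_1 (flp_i L658880) (flp_j L658872) L681076
theorem L681086 : sm gh N49390 = N47330 := ded_54_1 (flp_i L660054) (flp_h L360961) (flp_i L360126) L658864 L681076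
theorem L681088 : sm gc N47202 = N49391 := rfl
theorem L681090 : sm gf N49391 = N47206 := ded_29_2 (flp_c L658906) (flp_f L658876) L681088
theorem L681092 : sm gg N49391 = N48170 := ded_30_2 (flp_c L668473) (flp_g L658878) L681088
theorem L681094 : sm gd N49391 = N47227 := ded_27_2 (flp_c L659076) (flp_d L360263) (flp_c L360130) L658874 L681088
theorem L681096 : sm ge N47202 = N49392 := rfl
theorem L681098 : sm gg N49392 = N48171 := ded_41_2 (flp_e L668479) (flp_g L658878) L681096
theorem L681100 : sm gd N49392 = N47453 := ded_34_1 (flp_e L661308) (flp_d L362707) (flp_e L360132) L658874 L681096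
theorem L681102 : sm gi N47202 = N49393 := rfl
theorem L681104 : sm gd N49393 = N47203 := ded_39_1 (flp_i L658880) L658874 L681102
theorem L681106 : sm gf N49393 = N47208 := ded_48_1 (flp_i L658918) (flp_f L658876) L681102
theorem L681108 : sm gg N49393 = N48172 := ded_51_1 (flp_i L668483) (flp_g L658878) L681102
theorem L681110 : sm gi N47204 = N49394 := rfl
theorem L681112 : sm gd N49394 = N47205 := ded_39_1 (flp_i L658896) L658892 L681110
theorem L681114 : sm gj N49394 = N47208 := ded_53_1 (flp_i L658918) (flp_j L658894) L681110
theorem L681116 : sm gb N47206 = N49395 := rfl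
theorem L681118 : sm gd N49395 = N47231 := ded_20_2 (flp_b L659114) (flp_d L658910) L681116
theorem L681120 : sm gg N49395 = N47209 := ded_23_2 (flp_b L658924) (flp_g L658908) L681116
theorem L681122 : sm gi N47206 = N49396 := rfl
theorem L681124 : sm gc N49396 = N47208 := ded_33_1 (flp_i L658918) L658906 L681122
theorem L681126 : sm gd N49396 = N47232 := ded_39_1 (flp_i L659121) (flp_d L658910) L681122
theorem L681128 : sm gg N49396 = N47211 := ded_51_1 (flp_i L658934) (flp_g L658908) L681122
theorem L681130 : sm gf N47207 = N49397 := rfl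
theorem L681132 : sm gd N49397 = N47216 := ded_35_1 (flp_f L658970) (flp_d L658916) L681130
theorem L681134 : sm gi N47207 = N49398 := rfl
theorem L681136 : sm gd N49398 = N47217 := ded_39_1 (flp_i L658975) (flp_d L658916) L681134
theorem L681138 : sm ge N49398 = N47208 := ded_44_1 (flp_i L658918) L658912 L681134
theorem L681140 : sm gg N49398 = N47213 := ded_51_1 (flp_i L658950) (flp_g L658914) L681134
theorem L681142 : sm gh N47208 = N49399 := rfl
theorem L681144 : sm gg N49399 = N47214 := ded_50_1 (flp_h L658956) (flp_g L658922) L681142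
theorem L681146 : sm gd N49399 = N47342 := ded_38_1 (flp_h L660149) L361013 (flp_h L360158) (flp_d L658920) L681142
theorem L681148 : sm ga N47209 = N49400 := rfl
theorem L681150 : sm gd N49400 = N47234 := ded_12_2 (flp_a L659136) (flp_d L658926) L681148
theorem L681152 : sm gf N49400 = N48179 := ded_14_2 (flp_a L668532) (flp_f L658928) L681148
theorem L681154 : sm ge N47209 = N49401 := rfl
theorem L681156 : sm gb N49401 = N47210 := ded_21_1 (flp_e L658930) L658924 L681154
theorem L681158 : sm gi N47209 = N49402 := rfl
theorem L681160 : sm gb N49402 = N47211 := ded_26_1 (flp_i L658934) L658924 L681158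
theorem L681162 : sm gd N49402 = N47235 := ded_39_1 (flp_i L659143) (flp_d L658926) L681158
theorem L681164 : sm gf N49402 = N48181 := ded_48_1 (flp_i L668543) (flp_f L658928) L681158
theorem L681166 : sm gf N47210 = N49403 := rfl
theorem L681168 : sm ga N49403 = N48234 := ded_14_1 (flp_f L678976) L678972 L681166
theorem L681170 : sm gc N49403 = N47212 := ded_29_1 (flp_f L658942) (flp_c L658932) L681166
theorem L681172 : sm gh N49403 = N48264 := ded_47_2 (flp_f L681019) L681017 L681166
theorem L681174 : sm ge N49403 = N47265 := ded_40_1 L659475 (flp_e L382767) (flp_f L360162) L658930 L681166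
theorem L681176 : sm gi N47210 = N49404 := rfl
theorem L681178 : sm gc N49404 = N47213 := ded_33_1 (flp_i L658950) (flp_c L658932) L681176
theorem L681180 : sm ge N49404 = N47211 := ded_44_1 (flp_i L658934) L658930 L681176
theorem L681182 : sm gh N47211 = N49405 := rfl
theorem L681184 : sm gc N49405 = N47214 := ded_32_1 (flp_h L658956) (flp_c L658936) L681182
theorem L681186 : sm gf N49405 = N48183 := ded_47_1 (flp_h L668556) (flp_f L658940) L681182
theorem L681188 : sm gg N47212 = N49406 := rfl
theorem L681190 : sm ga N49406 = N48252 := ded_15_1 (flp_g L674791) L674785 L681188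
theorem L681192 : sm gb N49406 = N47284 := ded_23_1 L659653 (flp_b L658944) L681188
theorem L681194 : sm gd N49406 = N47219 := ded_36_1 (flp_g L658990) (flp_d L658946) L681188
theorem L681196 : sm ge N49406 = N47263 := ded_41_1 L659460 (flp_e L658948) L681188
theorem L681198 : sm gj N49406 = N48255 := ded_49_2 L669069 (flp_j L667983) L679042 L679038 L681188
theorem L681200 : sm gi N47212 = N49407 := rfl
theorem L681202 : sm gb N49407 = N47289 := ded_26_1 (flp_i L659688) (flp_b L658944) L681200
theorem L681204 : sm gd N49407 = N47220 := ded_39_1 (flp_i L659003) (flp_d L658946) L681200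
theorem L681206 : sm ge N49407 = N47266 := ded_44_1 (flp_i L659480) (flp_e L658948) L681200
theorem L681208 : sm gf N49407 = N47213 := ded_48_1 (flp_i L658950) L658942 L681200
theorem L681210 : sm gh N47213 = N49408 := rfl
theorem L681212 : sm ge N49408 = N47214 := ded_43_1 (flp_h L658956) (flp_e L658954) L681210
theorem L681214 : sm gh N47215 = N49409 := rfl
theorem L681216 : sm gb N49409 = N48603 := ded_25_1 L674471 L674460 L681214
theorem L681218 : sm gf N49409 = N47472 := ded_47_1 (flp_h L661488) (flp_f L658966) L681214
theorem L681220 : sm gg N49409 = N48605 := ded_50_1 L679077 L679073 L681214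
theorem L681222 : sm gj N49409 = N47218 := ded_52_1 (flp_h L658981) (flp_j L658968) L681214
theorem L681224 : sm gd N49409 = N47354 := ded_38_1 (flp_h L660243) L361061 (flp_h L360191) (flp_d L658964) L681214
theorem L681226 : sm gi N49409 = N49409 := ded_54_2 (flp_h L681214) (flp_i L658962) L360182 L658962 L681214
theorem L681227 : sm gg N47216 = N49410 := rfl
theorem L681229 : sm ga N49410 = N48281 := ded_15_1 (flp_g L680784) L680773 L681227
theorem L681231 : sm gb N49410 = N47293 := ded_23_1 (flp_g L674483) L674477 L681227
theorem L681233 : sm gc N49410 = N48301 := ded_30_1 (flp_g L680115) L680106 L681227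
theorem L681235 : sm ge N49410 = N47473 := ded_41_1 (flp_g L661496) (flp_e L658973) L681227
theorem L681237 : sm gh N49410 = N49410 := ded_50_2 (flp_g L681227) L658972 L681227
theorem L681238 : sm gf N49410 = N47219 := ded_45_1 (flp_g L658990) (flp_f L360206) (flp_g L360195) L658970 L681227
theorem L681240 : sm gj N48285 = N49410 := ded_16_0 L681229 L669244 L669278
theorem L681242 : sm gi N47216 = N49411 := rfl
theorem L681244 : sm ge N49411 = N47474 := ded_44_1 (flp_i L661503) (flp_e L658973) L681242
theorem L681246 : sm gf N49411 = N47217 := ded_48_1 (flp_i L658975) L658970 L681242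
theorem L681248 : sm gh N47217 = N49412 := rfl
theorem L681250 : sm ge N49412 = N47218 := ded_43_1 (flp_h L658981) (flp_e L658977) L681248
theorem L681252 : sm gg N49412 = N47221 := ded_50_1 (flp_h L659011) (flp_g L658979) L681248
theorem L681254 : sm gi N49412 = N49412 := ded_54_2 (flp_h L681248) (flp_i L658975) L360197 L658975 L681248
theorem L681255 : sm gi N47219 = N49413 := rfl
theorem L681257 : sm ga N49413 = N48292 := ded_18_1 (flp_i L669332) (flp_a L658992) L681255
theorem L681259 : sm gb N49413 = N47294 := ded_26_1 (flp_i L659737) (flp_b L658994) L681255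
theorem L681261 : sm gc N49413 = N48313 := ded_33_1 (flp_i L669527) (flp_c L658996) L681255
theorem L681263 : sm ge N49413 = N47222 := ded_44_1 (flp_i L659016) (flp_e L658998) L681255
theorem L681265 : sm gg N49413 = N47220 := ded_51_1 (flp_i L659003) L658990 L681255
theorem L681267 : sm gj N49413 = N48294 := ded_53_1 (flp_i L669351) (flp_j L659001) L681255
theorem L681269 : sm gh N47220 = N49414 := rfl
theorem L681271 : sm gb N49414 = N47296 := ded_25_1 (flp_h L659756) (flp_b L659005) L681269
theorem L681273 : sm ge N49414 = N47223 := ded_43_1 (flp_h L659032) (flp_e L659007) L681269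
theorem L681275 : sm gf N49414 = N47221 := ded_47_1 (flp_h L659011) (flp_f L659009) L681269
theorem L681277 : sm gi N49414 = N49414 := ded_54_2 (flp_h L681269) (flp_i L659003) L360208 L659003 L681269
theorem L681278 : sm gd N47221 = N49415 := rfl
theorem L681280 : sm gi N49415 = N49415 := ded_39_2 (flp_d L681278) L659015 L681278
theorem L681281 : sm ge N49415 = N47361 := ded_34_2 (flp_d L660299) L361104 (flp_d L360219) (flp_e L659013) L681278
theorem L681283 : sm gh N47222 = N49416 := rfl
theorem L681285 : sm ga N49416 = N48629 := ded_17_1 (flp_h L672017) (flp_a L659018) L681283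
theorem L681287 : sm gb N49416 = N47295 := ded_25_1 (flp_h L659746) (flp_b L659020) L681283
theorem L681289 : sm gc N49416 = N48644 := ded_32_1 (flp_h L672131) (flp_c L659022) L681283
theorem L681291 : sm gf N49416 = N47481 := ded_47_1 (flp_h L661565) (flp_f L659026) L681283
theorem L681293 : sm gg N49416 = N47223 := ded_50_1 (flp_h L659032) (flp_g L659028) L681283
theorem L681295 : sm gj N49416 = N48630 := ded_52_1 (flp_h L672026) (flp_j L659030) L681283
theorem L681297 : sm gi N49416 = N49416 := ded_54_2 (flp_h L681283) (flp_i L659016) L360226 L659016 L681283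
theorem L681298 : sm gi N47224 = N49417 := rfl
theorem L681300 : sm gb N49417 = N47237 := ded_26_1 (flp_i L659158) (flp_b L659041) L681298
theorem L681302 : sm gd N49417 = N48303 := ded_39_1 (flp_i L669425) L659051 L681298
theorem L681304 : sm ge N49417 = N47483 := ded_44_1 (flp_i L661587) (flp_e L659043) L681298
theorem L681306 : sm gf N49417 = N47857 := ded_48_1 (flp_i L665553) (flp_f L659045) L681298
theorem L681308 : sm gg N49417 = N47226 := ded_51_1 (flp_i L659064) (flp_g L659047) L681298
theorem L681310 : sm gj N49417 = N47855 := ded_53_1 (flp_i L665531) (flp_j L659049) L681298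
theorem L681312 : sm gh N49417 = N47364 := ded_54_1 (flp_i L660327) (flp_h L361137) (flp_i L360249) L659039 L681298
theorem L681314 : sm ge N47225 = N49418 := rfl
theorem L681316 : sm ga N49418 = N47401 := ded_13_1 (flp_e L680113) L680103 L681314
theorem L681318 : sm gb N49418 = N47238 := ded_21_1 (flp_e L659175) (flp_b L659055) L681314
theorem L681320 : sm gc N49418 = N47431 := ded_28_1 (flp_e L680782) L680777 L681314
theorem L681322 : sm gg N49418 = N48302 := ded_41_2 (flp_e L669414) (flp_g L659059) L681314
theorem L681324 : sm gj N49418 = N47228 := ded_42_2 (flp_e L659083) (flp_j L659061) L681314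
theorem L681326 : sm gh N49418 = N49418 := ded_43_2 (flp_e L681314) L659063 L681314
theorem L681327 : sm gd N49418 = N47485 := ded_34_1 (flp_e L661612) (flp_d L362881) (flp_e L360257) L659053 L681314
theorem L681329 : sm gf N49418 = N47395 := ded_40_2 (flp_e L660652) (flp_f L657988) L657996 (flp_f L659057) L681314
theorem L681331 : sm gi N47225 = N49419 := rfl
theorem L681333 : sm gb N49419 = N47239 := ded_26_1 (flp_i L659189) (flp_b L659055) L681331
theorem L681335 : sm gd N49419 = N47226 := ded_39_1 (flp_i L659064) L659053 L681331
theorem L681337 : sm gf N49419 = N47230 := ded_48_1 (flp_i L659106) (flp_f L659057) L681331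
theorem L681339 : sm gg N49419 = N48303 := ded_51_1 (flp_i L669425) (flp_g L659059) L681331
theorem L681341 : sm gj N49419 = N47229 := ded_53_1 (flp_i L659096) (flp_j L659061) L681331
theorem L681343 : sm gb N47227 = N49420 := rfl
theorem L681345 : sm gf N49420 = N47231 := ded_22_2 (flp_b L659114) (flp_f L659078) L681343
theorem L681347 : sm gg N49420 = N47365 := ded_23_2 L660344 (flp_g L659080) L681343
theorem L681349 : sm gj N49420 = N48279 := ded_24_2 (flp_b L680775) L680779 L681343
theorem L681351 : sm gh N49420 = N49420 := ded_25_2 (flp_b L681343) L659082 L681343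
theorem L681352 : sm gc N49420 = N47240 := ded_19_2 (flp_b L659202) (flp_c L360364) (flp_b L360265) L659076 L681343
theorem L681354 : sm ge N47227 = N49421 := rfl
theorem L681356 : sm ga N49421 = N47470 := ded_13_1 (flp_e L680852) L680850 L681354
theorem L681358 : sm gc N49421 = N47228 := ded_28_1 (flp_e L659083) L659076 L681354
theorem L681360 : sm gg N49421 = N48186 := ded_41_2 (flp_e L668575) (flp_g L659080) L681354
theorem L681362 : sm gj N49421 = N47431 := ded_42_2 (flp_e L680782) L680779 L681354
theorem L681364 : sm gh N49421 = N49421 := ded_43_2 (flp_e L681354) L659082 L681354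
theorem L681365 : sm gf N49421 = N47429 := ded_40_2 (flp_e L661061) (flp_f L658213) L658211 (flp_f L659078) L681354
theorem L681367 : sm gi N47227 = N49422 := rfl
theorem L681369 : sm gc N49422 = N47229 := ded_33_1 (flp_i L659096) L659076 L681367
theorem L681371 : sm gf N49422 = N47232 := ded_48_1 (flp_i L659121) (flp_f L659078) L681367
theorem L681373 : sm gg N49422 = N48187 := ded_51_1 (flp_i L668581) (flp_g L659080) L681367
theorem L681375 : sm gi N47228 = N49423 := rfl
theorem L681377 : sm ga N49423 = N48547 := ded_18_1 (flp_i L671390) (flp_a L659085) L681375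
theorem L681379 : sm gb N49423 = N47243 := ded_26_1 (flp_i L659240) (flp_b L659087) L681375
theorem L681381 : sm gd N49423 = N47490 := ded_39_1 (flp_i L661686) (flp_d L659092) L681375
theorem L681383 : sm ge N49423 = N47229 := ded_44_1 (flp_i L659096) L659083 L681375
theorem L681385 : sm gf N49423 = N48739 := ded_48_1 (flp_i L672920) (flp_f L659094) L681375
theorem L681387 : sm gg N49423 = N48188 := ded_51_1 (flp_i L668587) (flp_g L659089) L681375
theorem L681389 : sm gh N47229 = N49424 := rfl
theorem L681391 : sm gb N49424 = N47244 := ded_25_1 (flp_h L659249) (flp_b L659098) L681389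
theorem L681393 : sm gf N49424 = N47233 := ded_47_1 (flp_h L659127) (flp_f L659102) L681389
theorem L681395 : sm gg N49424 = N48189 := ded_50_1 (flp_h L668596) (flp_g L659104) L681389
theorem L681397 : sm gd N49424 = N47372 := ded_38_1 (flp_h L660404) L361187 (flp_h L360282) (flp_d L659100) L681389
theorem L681399 : sm gi N49424 = N49424 := ded_54_2 (flp_h L681389) (flp_i L659096) L360271 L659096 L681389
theorem L681400 : sm gh N47230 = N49425 := rfl
theorem L681402 : sm gb N49425 = N47247 := ded_25_1 (flp_h L659285) (flp_b L659108) L681400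
theorem L681404 : sm gg N49425 = N48196 := ded_50_1 L679147 L679143 L681400
theorem L681406 : sm gj N49425 = N47233 := ded_52_1 (flp_h L659127) (flp_j L659112) L681400
theorem L681408 : sm gd N49425 = N47374 := ded_38_1 (flp_h L660424) L361203 (flp_h L360299) (flp_d L659110) L681400
theorem L681410 : sm gi N49425 = N49425 := ded_54_2 (flp_h L681400) (flp_i L659106) L360290 L659106 L681400
theorem L681411 : sm gi N47231 = N49426 := rfl
theorem L681413 : sm gb N49426 = N47232 := ded_26_1 (flp_i L659121) L659114 L681411
theorem L681415 : sm gc N49426 = N47249 := ded_33_1 (flp_i L659303) (flp_c L659119) L681411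
theorem L681417 : sm gg N49426 = N47235 := ded_51_1 (flp_i L659143) (flp_g L659116) L681411
theorem L681419 : sm gh N47232 = N49427 := rfl
theorem L681421 : sm gc N49427 = N47233 := ded_32_1 (flp_h L659127) (flp_c L659123) L681419
theorem L681423 : sm gg N49427 = N47236 := ded_50_1 (flp_h L659151) (flp_g L659125) L681419
theorem L681425 : sm gi N49427 = N49427 := ded_54_2 (flp_h L681419) (flp_i L659121) L360305 L659121 L681419
theorem L681426 : sm gi N47234 = N49428 := rfl
theorem L681428 : sm ga N49428 = N47235 := ded_18_1 (flp_i L659143) L659136 L681426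
theorem L681430 : sm gb N49428 = N48622 := ded_26_1 L679932 L679922 L681426
theorem L681432 : sm gc N49428 = N47251 := ded_33_1 (flp_i L659321) (flp_c L659138) L681426
theorem L681434 : sm ge N49428 = N48618 := ded_44_1 L674137 L674131 L681426
theorem L681436 : sm gf N49428 = N48191 := ded_48_1 (flp_i L668613) (flp_f L659140) L681426
theorem L681438 : sm gh N48635 = N49428 := ded_25_0 L681430 L671970 (flp_b L672063)
theorem L681440 : sm gh N47235 = N49429 := rfl
theorem L681442 : sm ga N49429 = N48635 := ded_17_1 L681438 L681428 L681440
theorem L681444 : sm gb N49429 = N47236 := ded_25_1 (flp_h L659151) (flp_b L659145) L681440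
theorem L681446 : sm gc N49429 = N47252 := ded_32_1 (flp_h L659328) (flp_c L659147) L681440
theorem L681448 : sm ge N49429 = N48633 := ded_43_1 L680254 L680251 L681440
theorem L681450 : sm gf N49429 = N48192 := ded_47_1 (flp_h L668620) (flp_f L659149) L681440
theorem L681452 : sm gi N49429 = N49429 := ded_54_2 (flp_h L681440) (flp_i L659143) L360318 L659143 L681440
theorem L681453 : sm gd N47236 = N49430 := rfl
theorem L681455 : sm gf N49430 = N48193 := ded_35_2 (flp_d L668628) (flp_f L659155) L681453
theorem L681457 : sm gi N49430 = N49430 := ded_39_2 (flp_d L681453) L659157 L681453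
theorem L681458 : sm gc N49430 = N47380 := ded_27_1 (flp_d L660482) L361250 (flp_d L360333) (flp_c L659153) L681453
theorem L681460 : sm gi N47238 = N49431 := rfl
theorem L681462 : sm ga N49431 = N49431 := ded_18_1 (flp_i L681460) L659177 L681460
theorem L681463 : sm gc N49431 = N47680 := ded_33_1 L663552 (flp_c L659178) L681460
theorem L681465 : sm gd N49431 = N47495 := ded_39_1 (flp_i L661764) (flp_d L659185) L681460
theorem L681467 : sm ge N49431 = N47239 := ded_44_1 (flp_i L659189) L659175 L681460
theorem L681469 : sm gf N49431 = N47499 := ded_48_1 L661833 (flp_f L659187) L681460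
theorem L681471 : sm gg N49431 = N48304 := ded_51_1 (flp_i L669433) (flp_g L659180) L681460
theorem L681473 : sm gj N49431 = N47243 := ded_53_1 (flp_i L659240) (flp_j L659182) L681460
theorem L681475 : sm gh N47239 = N49432 := rfl
theorem L681477 : sm ga N49432 = N49432 := ded_17_1 (flp_h L681475) L659191 L681475
theorem L681478 : sm gc N49432 = N48300 := ded_32_1 (flp_h L669396) (flp_c L659192) L681475
theorem L681480 : sm gf N49432 = N47247 := ded_47_1 (flp_h L659285) (flp_f L659196) L681475
theorem L681482 : sm gg N49432 = N48305 := ded_50_1 (flp_h L669446) (flp_g L659198) L681475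
theorem L681484 : sm gj N49432 = N47244 := ded_52_1 (flp_h L659249) (flp_j L659200) L681475
theorem L681486 : sm gd N49432 = N47382 := ded_38_1 (flp_h L660499) L361293 (flp_h L360362) (flp_d L659194) L681475
theorem L681488 : sm gi N49432 = N49432 := ded_54_2 (flp_h L681475) (flp_i L659189) L360352 L659189 L681475
theorem L681489 : sm ga N47240 = N49433 := rfl
theorem L681491 : sm gd N49433 = N47297 := ded_12_2 L659766 (flp_d L659204) L681489
theorem L681493 : sm gf N49433 = N47248 := ded_14_2 (flp_a L659297) (flp_f L659206) L681489
theorem L681495 : sm gg N49433 = N47298 := ded_15_2 L659777 (flp_g L659208) L681489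
theorem L681497 : sm gj N49433 = N48217 := ded_16_2 L668805 (flp_j L659210) L681489
theorem L681499 : sm gh N49433 = N49433 := ded_17_2 (flp_a L681489) L659212 L681489
theorem L681500 : sm gb N49433 = N49433 := ded_10_2 (flp_a L681489) (flp_b L659202) L360366 L659202 L681489
theorem L681501 : sm ge N47240 = N49434 := rfl
theorem L681503 : sm gb N49434 = N47241 := ded_21_1 (flp_e L659213) L659202 L681501
theorem L681505 : sm gg N49434 = N47366 := ded_41_2 (flp_e L660346) (flp_g L659208) L681501
theorem L681507 : sm gj N49434 = N47747 := ded_42_2 L664378 (flp_j L659210) L681501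
theorem L681509 : sm gh N49434 = N49434 := ded_43_2 (flp_e L681501) L659212 L681501
theorem L681510 : sm gd N49434 = N47644 := ded_34_1 (flp_e L663134) (flp_d L364260) (flp_e L361141) (flp_d L659204) L681501
theorem L681512 : sm gf N49434 = N47749 := ded_40_2 (flp_e L673213) L673215 L658347 (flp_f L659206) L681501
theorem L681514 : sm gi N47240 = N49435 := rfl
theorem L681516 : sm gb N49435 = N47242 := ded_26_1 (flp_i L659227) L659202 L681514
theorem L681518 : sm gd N49435 = N47364 := ded_39_1 (flp_i L660327) (flp_d L659204) L681514
theorem L681520 : sm gf N49435 = N47249 := ded_48_1 (flp_i L659303) (flp_f L659206) L681514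
theorem L681522 : sm gg N49435 = N47367 := ded_51_1 (flp_i L660356) (flp_g L659208) L681514
theorem L681524 : sm gj N49435 = N48280 := ded_53_1 (flp_i L669232) (flp_j L659210) L681514
theorem L681526 : sm gi N47241 = N49436 := rfl
theorem L681528 : sm ga N49436 = N49436 := ded_18_1 (flp_i L681526) L659215 L681526
theorem L681529 : sm gc N49436 = N47243 := ded_33_1 (flp_i L659240) (flp_c L659216) L681526
theorem L681531 : sm gd N49436 = N47669 := ded_39_1 (flp_i L663401) (flp_d L659223) L681526
theorem L681533 : sm ge N49436 = N47242 := ded_44_1 (flp_i L659227) L659213 L681526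
theorem L681535 : sm gf N49436 = N47684 := ded_48_1 L663591 (flp_f L659225) L681526
theorem L681537 : sm gg N49436 = N47381 := ded_51_1 (flp_i L660487) (flp_g L659218) L681526
theorem L681539 : sm gj N49436 = N47680 := ded_53_1 L663552 (flp_j L659220) L681526
theorem L681541 : sm gh N47242 = N49437 := rfl
theorem L681543 : sm ga N49437 = N49437 := ded_17_1 (flp_h L681541) L659229 L681541
theorem L681544 : sm gc N49437 = N47244 := ded_32_1 (flp_h L659249) (flp_c L659230) L681541
theorem L681546 : sm gf N49437 = N47250 := ded_47_1 (flp_h L659309) (flp_f L659234) L681541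
theorem L681548 : sm gg N49437 = N47382 := ded_50_1 (flp_h L660499) (flp_g L659236) L681541
theorem L681550 : sm gj N49437 = N48300 := ded_52_1 (flp_h L669396) (flp_j L659238) L681541
theorem L681552 : sm gd N49437 = N48305 := ded_38_1 (flp_h L669446) (flp_d L659163) L659173 (flp_d L659232) L681541
theorem L681554 : sm gi N49437 = N49437 := ded_54_2 (flp_h L681541) (flp_i L659227) L360371 L659227 L681541
theorem L681555 : sm gh N47243 = N49438 := rfl
theorem L681557 : sm ga N49438 = N49438 := ded_17_1 (flp_h L681555) L659242 L681555
theorem L681558 : sm ge N49438 = N47244 := ded_43_1 (flp_h L659249) (flp_e L659245) L681555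
theorem L681560 : sm gg N49438 = N48194 := ded_50_1 (flp_h L668633) (flp_g L659247) L681555
theorem L681562 : sm gi N49438 = N49438 := ded_54_2 (flp_h L681555) (flp_i L659240) L360377 L659240 L681555
theorem L681563 : sm gi N47245 = N49439 := rfl
theorem L681565 : sm gb N49439 = N47246 := ded_26_1 (flp_i L659270) L659259 L681563
theorem L681567 : sm gd N49439 = N47859 := ded_39_1 L665581 (flp_d L659261) L681563
theorem L681569 : sm gf N49439 = N48280 := ded_48_1 (flp_i L669232) (flp_f L659263) L681563
theorem L681571 : sm gg N49439 = N47861 := ded_51_1 L665603 (flp_g L659265) L681563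
theorem L681573 : sm gj N49439 = N47249 := ded_53_1 (flp_i L659303) (flp_j L659267) L681563
theorem L681575 : sm gh N48316 = N49439 := ded_25_0 L681565 (flp_h L659283) (flp_b L669557)
theorem L681577 : sm gi N47248 = N49440 := rfl
theorem L681579 : sm ga N49440 = N47249 := ded_18_1 (flp_i L659303) L659297 L681577
theorem L681581 : sm gb N49440 = N49440 := ded_26_1 (flp_i L681577) L659302 L681577
theorem L681582 : sm gg N49440 = N47251 := ded_51_1 (flp_i L659321) (flp_g L659299) L681577
theorem L681584 : sm gh N47249 = N49441 := rfl
theorem L681586 : sm gb N49441 = N47250 := ded_25_1 (flp_h L659309) (flp_b L659305) L681584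
theorem L681588 : sm gg N49441 = N47252 := ded_50_1 (flp_h L659328) (flp_g L659307) L681584
theorem L681590 : sm gj N49441 = N48316 := ded_52_1 L681575 L681573 L681584
theorem L681592 : sm gd N49441 = N48314 := ded_38_1 (flp_h L669536) (flp_d L665557) (flp_h L674670) L674661 L681584
theorem L681594 : sm gi N49441 = N49441 := ded_54_2 (flp_h L681584) (flp_i L659303) L360406 L659303 L681584
theorem L681595 : sm gh N47251 = N49442 := rfl
theorem L681597 : sm ga N49442 = N47252 := ded_17_1 (flp_h L659328) (flp_a L659323) L681595
theorem L681599 : sm gb N49442 = N49442 := ded_25_1 (flp_h L681595) L659325 L681595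
theorem L681600 : sm gc N49442 = N48635 := ded_32_1 L681438 L681432 L681595
theorem L681602 : sm ge N49442 = N48634 := ded_43_1 (flp_h L680387) L680384 L681595
theorem L681604 : sm gf N49442 = N48195 := ded_47_1 (flp_h L668640) (flp_f L659326) L681595
theorem L681606 : sm gi N49442 = N49442 := ded_54_2 (flp_h L681595) (flp_i L659321) L360426 L659321 L681595
theorem L681607 : sm gd N47252 = N49443 := rfl
theorem L681609 : sm gb N49443 = N47253 := ded_20_1 (flp_d L659335) (flp_b L659330) L681607
theorem L681611 : sm gf N49443 = N48196 := ded_35_2 (flp_d L668647) (flp_f L659332) L681607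
theorem L681613 : sm gg N49443 = N48314 := ded_36_2 (flp_d L681592) L681588 L681607
theorem L681615 : sm gj N49443 = N48136 := ded_37_2 (flp_d L679206) L679204 L681607
theorem L681617 : sm gi N49443 = N49443 := ded_39_2 (flp_d L681607) L659334 L681607
theorem L681618 : sm gh N49443 = N48134 := ded_38_2 L674697 (flp_h L674684) L653140 L659328 L681607
theorem L681620 : sm ge N48593 = N49443 := ded_21_0 L681609 (flp_e L659349) (flp_b L671750)
theorem L681622 : sm gh N47255 = N49444 := rfl
theorem L681624 : sm ga N49444 = N47844 := ded_17_1 L665427 (flp_a L659368) L681622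
theorem L681626 : sm gb N49444 = N47270 := ded_25_1 (flp_h L659526) (flp_b L659370) L681622
theorem L681628 : sm gc N49444 = N47854 := ded_32_1 L665528 (flp_c L659372) L681622
theorem L681630 : sm ge N49444 = N48322 := ded_43_1 (flp_h L669598) L659380 L681622
theorem L681632 : sm gf N49444 = N47257 := ded_47_1 (flp_h L659389) L659366 L681622
theorem L681634 : sm gg N49444 = N48142 := ded_50_1 (flp_h L668236) (flp_g L659378) L681622
theorem L681636 : sm gh N47256 = N49445 := rfl
theorem L681638 : sm ga N49445 = N47848 := ded_17_1 (flp_h L674712) L674701 L681636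
theorem L681640 : sm gb N49445 = N47271 := ded_25_1 (flp_h L659535) (flp_b L659384) L681636
theorem L681642 : sm gc N49445 = N47856 := ded_32_1 L678805 L678795 L681636
theorem L681644 : sm ge N49445 = N49445 := ded_43_1 (flp_h L681636) L659388 L681636
theorem L681645 : sm gj N49445 = N47257 := ded_52_1 (flp_h L659389) L659382 L681636
theorem L681647 : sm gd N47257 = N49446 := rfl
theorem L681649 : sm ga N49446 = N47822 := ded_12_1 L665236 (flp_a L659391) L681647
theorem L681651 : sm gb N49446 = N47272 := ded_20_1 (flp_d L659543) (flp_b L659393) L681647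
theorem L681653 : sm gg N49446 = N47258 := ded_36_2 (flp_d L659400) (flp_g L659398) L681647
theorem L681655 : sm gc N49446 = N48255 := ded_27_1 L669067 L384295 (flp_d L377099) (flp_c L659395) L681647
theorem L681657 : sm gh N49446 = N47263 := ded_38_2 (flp_d L659456) (flp_h L360479) (flp_d L360453) L659389 L681647
theorem L681659 : sm gi N47257 = N49447 := rfl
theorem L681661 : sm ga N49447 = N47850 := ded_18_1 (flp_i L665481) (flp_a L659391) L681659
theorem L681663 : sm gb N49447 = N47273 := ded_26_1 (flp_i L659551) (flp_b L659393) L681659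
theorem L681665 : sm gc N49447 = N47858 := ded_33_1 (flp_i L665562) (flp_c L659395) L681659
theorem L681667 : sm ge N49447 = N49447 := ded_44_1 (flp_i L681659) L659397 L681659
theorem L681668 : sm gg N49447 = N47259 := ded_51_1 (flp_i L659412) (flp_g L659398) L681659
theorem L681670 : sm gi N47258 = N49448 := rfl
theorem L681672 : sm ga N49448 = N47829 := ded_18_1 (flp_i L665296) (flp_a L659402) L681670
theorem L681674 : sm gb N49448 = N47276 := ded_26_1 (flp_i L659575) (flp_b L659404) L681670
theorem L681676 : sm gc N49448 = N48265 := ded_33_1 (flp_i L669133) (flp_c L659408) L681670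
theorem L681678 : sm gd N49448 = N47259 := ded_39_1 (flp_i L659412) L659400 L681670
theorem L681680 : sm gf N49448 = N48166 := ded_48_1 (flp_i L668441) (flp_f L659406) L681670
theorem L681682 : sm gh N47260 = N49449 := rfl
theorem L681684 : sm ga N49449 = N48607 := ded_17_1 L674735 L674720 L681682
theorem L681686 : sm gb N49449 = N47278 := ded_25_1 (flp_h L659593) (flp_b L659425) L681682
theorem L681688 : sm gc N49449 = N49449 := ded_32_1 (flp_h L681682) L659427 L681682
theorem L681689 : sm ge N49449 = N47508 := ded_43_1 (flp_h L661928) (flp_e L659428) L681682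
theorem L681691 : sm gf N49449 = N47262 := ded_47_1 (flp_h L659443) (flp_f L659430) L681682
theorem L681693 : sm gj N49449 = N47261 := ded_52_1 (flp_h L659432) L659423 L681682
theorem L681695 : sm gd N47261 = N49450 := rfl
theorem L681697 : sm gb N49450 = N47279 := ded_20_1 (flp_d L659605) (flp_b L659434) L681695
theorem L681699 : sm gf N49450 = N47263 := ded_35_2 (flp_d L659456) (flp_f L659439) L681695
theorem L681701 : sm gg N49450 = N48176 := ded_36_2 L668514 (flp_g L659441) L681695
theorem L681703 : sm gi N47261 = N49451 := rfl
theorem L681705 : sm gb N49451 = N47280 := ded_26_1 (flp_i L659613) (flp_b L659434) L681703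
theorem L681707 : sm gc N49451 = N49451 := ded_33_1 (flp_i L681703) L659436 L681703
theorem L681708 : sm ge N49451 = N47510 := ded_44_1 (flp_i L661945) (flp_e L659437) L681703
theorem L681710 : sm gf N49451 = N47264 := ded_48_1 (flp_i L659462) (flp_f L659439) L681703
theorem L681712 : sm gg N49451 = N48185 := ded_51_1 (flp_i L668566) (flp_g L659441) L681703
theorem L681714 : sm gd N47262 = N49452 := rfl
theorem L681716 : sm ga N49452 = N48256 := ded_12_1 L669077 (flp_a L659445) L681714
theorem L681718 : sm gb N49452 = N47281 := ded_20_1 (flp_d L659625) (flp_b L659447) L681714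
theorem L681720 : sm gg N49452 = N48264 := ded_36_2 L669131 (flp_g L659452) L681714
theorem L681722 : sm gj N49452 = N47263 := ded_37_2 (flp_d L659456) (flp_j L659454) L681714
theorem L681724 : sm ge N49452 = N48255 := ded_34_2 L669067 L384297 (flp_d L649393) (flp_e L659450) L681714
theorem L681726 : sm gi N47262 = N49453 := rfl
theorem L681728 : sm ga N49453 = N48608 := ded_18_1 (flp_i L671869) (flp_a L659445) L681726
theorem L681730 : sm gb N49453 = N47282 := ded_26_1 (flp_i L659631) (flp_b L659447) L681726
theorem L681732 : sm gc N49453 = N49453 := ded_33_1 (flp_i L681726) L659449 L681726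
theorem L681733 : sm ge N49453 = N47267 := ded_44_1 (flp_i L659488) (flp_e L659450) L681726
theorem L681735 : sm gg N49453 = N48614 := ded_51_1 (flp_i L671916) (flp_g L659452) L681726
theorem L681737 : sm gj N49453 = N47264 := ded_53_1 (flp_i L659462) (flp_j L659454) L681726
theorem L681739 : sm gc N47263 = N49454 := rfl
theorem L681741 : sm ga N49454 = N48231 := ded_11_1 L674766 L674754 L681739
theorem L681743 : sm gg N49454 = N47265 := ded_30_2 (flp_c L659471) (flp_g L659460) L681739
theorem L681745 : sm gh N49454 = N48255 := ded_32_2 (flp_c L681655) L681657 L681739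
theorem L681747 : sm gd N49454 = N49454 := ded_27_2 (flp_c L681739) (flp_d L659456) L360483 L659456 L681739
theorem L681748 : sm gi N47263 = N49455 := rfl
theorem L681750 : sm gb N49455 = N47285 := ded_26_1 (flp_i L659657) (flp_b L659458) L681748
theorem L681752 : sm gd N49455 = N47264 := ded_39_1 (flp_i L659462) L659456 L681748
theorem L681754 : sm gg N49455 = N47266 := ded_51_1 (flp_i L659480) (flp_g L659460) L681748
theorem L681756 : sm gb N47265 = N49456 := rfl
theorem L681758 : sm gd N49456 = N49456 := ded_20_2 (flp_b L681756) L659479 L681756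
theorem L681759 : sm gf N49456 = N48180 := ded_22_2 L668538 (flp_f L659475) L681756
theorem L681761 : sm gh N49456 = N48214 := ded_25_2 L668789 (flp_h L659477) L681756
theorem L681763 : sm ga N49456 = N48202 := ded_10_1 (flp_b L668691) L383437 L383893 (flp_a L659473) L681756
theorem L681765 : sm gc N49456 = N47286 := ded_19_2 (flp_b L659665) (flp_c L360679) (flp_b L360490) L659471 L681756
theorem L681767 : sm gi N47265 = N49457 := rfl
theorem L681769 : sm ga N49457 = N48235 := ded_18_1 (flp_i L668944) (flp_a L659473) L681767
theorem L681771 : sm gc N49457 = N47266 := ded_33_1 (flp_i L659480) L659471 L681767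
theorem L681773 : sm gd N49457 = N49457 := ded_39_1 (flp_i L681767) L659479 L681767
theorem L681774 : sm gf N49457 = N48182 := ded_48_1 (flp_i L668549) (flp_f L659475) L681767
theorem L681776 : sm gh N47266 = N49458 := rfl
theorem L681778 : sm gb N49458 = N47290 := ded_25_1 (flp_h L659696) (flp_b L659482) L681776
theorem L681780 : sm gf N49458 = N48184 := ded_47_1 (flp_h L668560) (flp_f L659486) L681776
theorem L681782 : sm gj N47268 = N49459 := rfl
theorem L681784 : sm ga N49459 = N47311 := ded_16_1 (flp_j L659901) (flp_a L659505) L681782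
theorem L681786 : sm gb N49459 = N47419 := ded_24_1 L660955 (flp_b L659507) L681782
theorem L681788 : sm gc N49459 = N49459 := ded_31_1 (flp_j L681782) L659509 L681782
theorem L681789 : sm gd N49459 = N47517 := ded_37_1 (flp_j L661999) (flp_d L659514) L681782
theorem L681791 : sm ge N49459 = N47269 := ded_42_1 (flp_j L659517) L659503 L681782
theorem L681793 : sm gf N49459 = N49459 := ded_46_1 (flp_j L681782) L659516 L681782
theorem L681794 : sm gi N49459 = N47507 := ded_53_2 L661926 (flp_i L659512) L681782
theorem L681796 : sm gg N49459 = N47411 := ded_49_1 (flp_j L660848) L362173 (flp_j L616063) (flp_g L659510) L681782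
theorem L681798 : sm gh N47268 = N49460 := rfl
theorem L681800 : sm ga N49460 = N47312 := ded_17_1 (flp_h L659913) (flp_a L659505) L681798
theorem L681802 : sm gb N49460 = N48322 := ded_25_1 (flp_h L669598) (flp_b L659507) L681798
theorem L681804 : sm gc N49460 = N49460 := ded_32_1 (flp_h L681798) L659509 L681798
theorem L681805 : sm ge N49460 = N47270 := ded_43_1 (flp_h L659526) L659503 L681798
theorem L681807 : sm gf N49460 = N49460 := ded_47_1 (flp_h L681798) L659516 L681798
theorem L681808 : sm gg N49460 = N47950 := ded_50_1 L666526 (flp_g L659510) L681798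
theorem L681810 : sm gh N47269 = N49461 := rfl
theorem L681812 : sm ga N49461 = N47314 := ded_17_1 (flp_h L659936) (flp_a L659519) L681810
theorem L681814 : sm gc N49461 = N49461 := ded_32_1 (flp_h L681810) L659521 L681810
theorem L681815 : sm gf N49461 = N47271 := ded_47_1 (flp_h L659535) (flp_f L659524) L681810
theorem L681817 : sm gj N49461 = N47270 := ded_52_1 (flp_h L659526) L659517 L681810
theorem L681819 : sm gd N47270 = N49462 := rfl
theorem L681821 : sm ga N49462 = N47315 := ded_12_1 (flp_d L659943) (flp_a L659528) L681819
theorem L681823 : sm gf N49462 = N47272 := ded_35_2 (flp_d L659543) (flp_f L659531) L681819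
theorem L681825 : sm gg N49462 = N48198 := ded_36_2 (flp_d L668659) (flp_g L659533) L681819
theorem L681827 : sm gh N49462 = N47279 := ded_38_2 (flp_d L659605) (flp_h L360641) (flp_d L360595) L659526 L681819
theorem L681829 : sm gi N47270 = N49463 := rfl
theorem L681831 : sm ga N49463 = N47316 := ded_18_1 (flp_i L659951) (flp_a L659528) L681829
theorem L681833 : sm gc N49463 = N49463 := ded_33_1 (flp_i L681829) L659530 L681829
theorem L681834 : sm gf N49463 = N47273 := ded_48_1 (flp_i L659551) (flp_f L659531) L681829
theorem L681836 : sm gg N49463 = N48199 := ded_51_1 (flp_i L668667) (flp_g L659533) L681829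
theorem L681838 : sm gd N47271 = N49464 := rfl
theorem L681840 : sm ga N49464 = N47317 := ded_12_1 (flp_d L659958) (flp_a L659537) L681838
theorem L681842 : sm gj N49464 = N47272 := ded_37_2 (flp_d L659543) (flp_j L659541) L681838
theorem L681844 : sm gh N49464 = N47281 := ded_38_2 (flp_d L659625) (flp_h L360653) (flp_d L360604) L659535 L681838
theorem L681846 : sm gi N47271 = N49465 := rfl
theorem L681848 : sm ga N49465 = N47318 := ded_18_1 (flp_i L659964) (flp_a L659537) L681846
theorem L681850 : sm gc N49465 = N49465 := ded_33_1 (flp_i L681846) L659539 L681846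
theorem L681851 : sm ge N49465 = N49465 := ded_44_1 (flp_i L681846) L659540 L681846
theorem L681852 : sm gj N49465 = N47273 := ded_53_1 (flp_i L659551) (flp_j L659541) L681846
theorem L681854 : sm gc N47272 = N49466 := rfl
theorem L681856 : sm ga N49466 = N47319 := ded_11_1 (flp_c L659970) (flp_a L659545) L681854
theorem L681858 : sm gg N49466 = N47274 := ded_30_2 (flp_c L659559) (flp_g L659547) L681854
theorem L681860 : sm gh N49466 = N47283 := ded_32_2 (flp_c L659641) (flp_h L659549) L681854
theorem L681862 : sm gd N49466 = N49466 := ded_27_2 (flp_c L681854) (flp_d L659543) L360611 L659543 L681854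
theorem L681863 : sm ge N47272 = N49467 := rfl
theorem L681865 : sm ga N49467 = N47320 := ded_13_1 (flp_e L659977) (flp_a L659545) L681863
theorem L681867 : sm gg N49467 = N47275 := ded_41_2 (flp_e L659568) (flp_g L659547) L681863
theorem L681869 : sm gh N49467 = N47284 := ded_43_2 (flp_e L659649) (flp_h L659549) L681863
theorem L681871 : sm gd N49467 = N49467 := ded_34_1 (flp_e L681863) (flp_d L659543) L360612 L659543 L681863
theorem L681872 : sm gi N47272 = N49468 := rfl
theorem L681874 : sm ga N49468 = N47321 := ded_18_1 (flp_i L659984) (flp_a L659545) L681872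
theorem L681876 : sm gd N49468 = N47273 := ded_39_1 (flp_i L659551) L659543 L681872
theorem L681878 : sm gg N49468 = N47276 := ded_51_1 (flp_i L659575) (flp_g L659547) L681872
theorem L681880 : sm gb N47274 = N49469 := rfl
theorem L681882 : sm gd N49469 = N49469 := ded_20_2 (flp_b L681880) L659567 L681880
theorem L681883 : sm gf N49469 = N48202 := ded_22_2 (flp_b L668691) (flp_f L659563) L681880
theorem L681885 : sm gh N49469 = N47286 := ded_25_2 (flp_b L659665) (flp_h L659565) L681880
theorem L681887 : sm ga N49469 = N48180 := ded_10_1 L668538 L659999 (flp_b L659990) (flp_a L659561) L681880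
theorem L681889 : sm gc N49469 = N48214 := ded_19_2 L668789 (flp_c L659408) L659404 L659559 L681880
theorem L681891 : sm ge N49469 = N48179 := ded_56_2 L668534 L382975 L263314 (flp_a L263310) L181181 (flp_f L247987) (flp_e L359759) L359758 (flp_c L658238) (flp_b L658232) (flp_a L657005) L657014 L657007 (flp_e L657015) (flp_d L658615) (flp_c L658609) (flp_b L658465) L658463 (flp_h L665136) (flp_f L665128) (flp_e L376669) (flp_d L258936) L645203 L244647 L244645 (flp_h L243468) L243466 L176698 (flp_d L176694) L645064 L167742 L167740 L167821 L167827 L121793 L84155 (flp_c L645050) L115791 L115789 L115840 L115844 L80168 L58263 L641714 L80139 L80137 L80164 (flp_f L115844) (flp_e L167825) L243462 L645167 (flp_b L258630) L258628 L263341 (flp_f L360461) L360460 L659400 L659408 (flp_b L668789) (flp_a L668785) (flp_h L668694) (flp_f L681883)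
theorem L681893 : sm ge N47274 = N49470 := rfl
theorem L681895 : sm ga N49470 = N47323 := ded_13_1 (flp_e L660003) (flp_a L659561) L681893
theorem L681897 : sm gb N49470 = N48179 := ded_21_1 (flp_e L681891) (flp_b L681880) L681893
theorem L681899 : sm gc N49470 = N47275 := ded_28_1 (flp_e L659568) L659559 L681893
theorem L681901 : sm gh N49470 = N47287 := ded_43_2 (flp_e L659671) (flp_h L659565) L681893
theorem L681903 : sm gd N49470 = N48157 := ded_56_3 L668386 L668389 (flp_a L382973) L263210 (flp_f L360316) (flp_e L658234) L678564 L678556 L678554 L656745 (flp_h L358350) L246561 (flp_e L358318) (flp_d L656892) L656891 L656889 (flp_a L651994) L652003 L355122 (flp_e L521679) L186377 (flp_c L128473) L88639 L88637 L61413 L61412 (flp_e L86369) (flp_d L86365) (flp_c L86293) (flp_b L122828) (flp_a L178099) (flp_h L178097) (flp_f L168566) (flp_e L168560) L116328 L116326 L80507 L80505 L80558 L80562 L55848 L40771 (flp_c L58732) L58730 (flp_a L59638) (flp_h L59636) L59628 L86194 L124857 L124861 (flp_b L181197) (flp_a L258628) (flp_h L640486) L355785 L259164 (flp_d L376759) L376761 (flp_b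 L263886) (flp_a L263559) (flp_h L383439) (flp_f L659563) L681893
theorem L681905 : sm gi N47274 = N49471 := rfl
theorem L681907 : sm ga N49471 = N47324 := ded_18_1 (flp_i L660013) (flp_a L659561) L681905
theorem L681909 : sm gc N49471 = N47276 := ded_33_1 (flp_i L659575) L659559 L681905
theorem L681911 : sm gd N49471 = N49471 := ded_39_1 (flp_i L681905) L659567 L681905
theorem L681912 : sm gf N49471 = N48203 := ded_48_1 (flp_i L668696) (flp_f L659563) L681905
theorem L681914 : sm gi N47275 = N49472 := rfl
theorem L681916 : sm ga N49472 = N47326 := ded_18_1 (flp_i L660027) (flp_a L659570) L681914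
theorem L681918 : sm gd N49472 = N49472 := ded_39_1 (flp_i L681914) L659574 L681914
theorem L681919 : sm ge N49472 = N47276 := ded_44_1 (flp_i L659575) L659568 L681914
theorem L681921 : sm gh N47276 = N49473 := rfl
theorem L681923 : sm ga N49473 = N47327 := ded_17_1 (flp_h L660032) (flp_a L659577) L681921
theorem L681925 : sm gf N49473 = N48204 := ded_47_1 (flp_h L668703) (flp_f L659581) L681921
theorem L681927 : sm gi N49473 = N47290 := ded_54_2 (flp_h L659696) (flp_i L360693) (flp_h L360621) L659575 L681921
theorem L681929 : sm gh N47277 = N49474 := rfl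
theorem L681931 : sm ga N49474 = N47328 := ded_17_1 (flp_h L660038) (flp_a L659585) L681929
theorem L681933 : sm gc N49474 = N47297 := ded_32_1 (flp_h L659764) (flp_c L659587) L681929
theorem L681935 : sm ge N49474 = N47529 := ded_43_1 (flp_h L662143) (flp_e L659589) L681929
theorem L681937 : sm gg N49474 = N47278 := ded_50_1 (flp_h L659593) L659583 L681929
theorem L681939 : sm gj N49474 = N48205 := ded_52_1 (flp_h L668709) (flp_j L659591) L681929
theorem L681941 : sm gd N47278 = N49475 := rfl
theorem L681943 : sm ga N49475 = N47329 := ded_12_1 (flp_d L660048) (flp_a L659595) L681941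
theorem L681945 : sm gf N49475 = N47281 := ded_35_2 (flp_d L659625) (flp_f L659601) L681941
theorem L681947 : sm gj N49475 = N47279 := ded_37_2 (flp_d L659605) (flp_j L659603) L681941
theorem L681949 : sm gi N47278 = N49476 := rfl
theorem L681951 : sm ga N49476 = N47330 := ded_18_1 (flp_i L660054) (flp_a L659595) L681949
theorem L681953 : sm gc N49476 = N47299 := ded_33_1 (flp_i L659785) (flp_c L659597) L681949
theorem L681955 : sm ge N49476 = N47531 := ded_44_1 (flp_i L662162) (flp_e L659599) L681949
theorem L681957 : sm gf N49476 = N47282 := ded_48_1 (flp_i L659631) (flp_f L659601) L681949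
theorem L681959 : sm gj N49476 = N47280 := ded_53_1 (flp_i L659613) (flp_j L659603) L681949
theorem L681961 : sm gc N47279 = N49477 := rfl
theorem L681963 : sm ga N49477 = N47331 := ded_11_1 (flp_c L660064) (flp_a L659607) L681961
theorem L681965 : sm gf N49477 = N47283 := ded_29_2 (flp_c L659641) (flp_f L659609) L681961
theorem L681967 : sm gg N49477 = N48208 := ded_30_2 (flp_c L668739) (flp_g L659611) L681961
theorem L681969 : sm gd N49477 = N47300 := ded_27_2 (flp_c L659796) (flp_d L360813) (flp_c L360645) L659605 L681961
theorem L681971 : sm ge N47279 = N49478 := rfl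
theorem L681973 : sm ga N49478 = N47332 := ded_13_1 (flp_e L660072) (flp_a L659607) L681971
theorem L681975 : sm gg N49478 = N48209 := ded_41_2 (flp_e L668747) (flp_g L659611) L681971
theorem L681977 : sm gd N49478 = N47533 := ded_34_1 (flp_e L662184) (flp_d L363511) (flp_e L360647) L659605 L681971
theorem L681979 : sm gi N47279 = N49479 := rfl
theorem L681981 : sm ga N49479 = N47333 := ded_18_1 (flp_i L660078) (flp_a L659607) L681979
theorem L681983 : sm gd N49479 = N47280 := ded_39_1 (flp_i L659613) L659605 L681979
theorem L681985 : sm gf N49479 = N47285 := ded_48_1 (flp_i L659657) (flp_f L659609) L681979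
theorem L681987 : sm gg N49479 = N48210 := ded_51_1 (flp_i L668753) (flp_g L659611) L681979
theorem L681989 : sm gc N47281 = N49480 := rfl
theorem L681991 : sm ga N49480 = N47334 := ded_11_1 (flp_c L660086) (flp_a L659627) L681989
theorem L681993 : sm gg N49480 = N48179 := ded_30_2 (flp_c L679386) L679382 L681989
theorem L681995 : sm gj N49480 = N47283 := ded_31_2 (flp_c L659641) (flp_j L659629) L681989
theorem L681997 : sm gd N49480 = N47303 := ded_27_2 (flp_c L659827) (flp_d L360834) (flp_c L360657) L659625 L681989
theorem L681999 : sm ge N47281 = N49481 := rfl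
theorem L682001 : sm ga N49481 = N47335 := ded_13_1 (flp_e L660096) (flp_a L659627) L681999
theorem L682003 : sm gb N49481 = N48255 := ded_21_1 (flp_e L681724) L681718 L681999
theorem L682005 : sm gg N49481 = N48214 := ded_41_2 (flp_e L679388) L679382 L681999
theorem L682007 : sm gj N49481 = N47284 := ded_42_2 (flp_e L659649) (flp_j L659629) L681999
theorem L682009 : sm gd N49481 = N47291 := ded_34_1 (flp_e L659702) (flp_d L360701) (flp_e L360659) L659625 L681999
theorem L682011 : sm gi N47281 = N49482 := rfl
theorem L682013 : sm ga N49482 = N47336 := ded_18_1 (flp_i L660106) (flp_a L659627) L682011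
theorem L682015 : sm gd N49482 = N47282 := ded_39_1 (flp_i L659631) L659625 L682011
theorem L682017 : sm gj N49482 = N47285 := ded_53_1 (flp_i L659657) (flp_j L659629) L682011
theorem L682019 : sm gb N47283 = N49483 := rfl
theorem L682021 : sm gd N49483 = N47305 := ded_20_2 (flp_b L659849) (flp_d L659647) L682019
theorem L682023 : sm gg N49483 = N47286 := ded_23_2 (flp_b L659665) (flp_g L659645) L682019
theorem L682025 : sm ge N47283 = N49484 := rfl
theorem L682027 : sm ga N49484 = N47338 := ded_13_1 (flp_e L660122) (flp_a L659643) L682025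
theorem L682029 : sm gc N49484 = N47284 := ded_28_1 (flp_e L659649) L659641 L682025
theorem L682031 : sm gg N49484 = N47287 := ded_41_2 (flp_e L659671) (flp_g L659645) L682025
theorem L682033 : sm gd N49484 = N49484 := ded_34_1 (flp_e L682025) L659647 L360856 (flp_d L659647) L682025
theorem L682034 : sm gi N47283 = N49485 := rfl
theorem L682036 : sm ga N49485 = N47339 := ded_18_1 (flp_i L660129) (flp_a L659643) L682034
theorem L682038 : sm gc N49485 = N47285 := ded_33_1 (flp_i L659657) L659641 L682034
theorem L682040 : sm gd N49485 = N47306 := ded_39_1 (flp_i L659856) (flp_d L659647) L682034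
theorem L682042 : sm gg N49485 = N47288 := ded_51_1 (flp_i L659678) (flp_g L659645) L682034
theorem L682044 : sm gf N47284 = N49486 := rfl
theorem L682046 : sm ga N49486 = N47340 := ded_14_1 (flp_f L660137) (flp_a L659651) L682044
theorem L682048 : sm gd N49486 = N47293 := ded_35_1 (flp_f L659729) (flp_d L659655) L682044
theorem L682050 : sm gi N47284 = N49487 := rfl
theorem L682052 : sm ga N49487 = N47341 := ded_18_1 (flp_i L660141) (flp_a L659651) L682050
theorem L682054 : sm gd N49487 = N47294 := ded_39_1 (flp_i L659737) (flp_d L659655) L682050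
theorem L682056 : sm ge N49487 = N47285 := ded_44_1 (flp_i L659657) L659649 L682050
theorem L682058 : sm gg N49487 = N47289 := ded_51_1 (flp_i L659688) (flp_g L659653) L682050
theorem L682060 : sm gh N47285 = N49488 := rfl
theorem L682062 : sm ga N49488 = N47342 := ded_17_1 (flp_h L660149) (flp_a L659659) L682060
theorem L682064 : sm gg N49488 = N47290 := ded_50_1 (flp_h L659696) (flp_g L659663) L682060
theorem L682066 : sm ga N47286 = N49489 := rfl
theorem L682068 : sm gc N49489 = N48202 := ded_11_2 (flp_a L681763) L681765 L682066
theorem L682070 : sm gd N49489 = N47308 := ded_12_2 (flp_a L659874) (flp_d L659667) L682066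
theorem L682072 : sm gf N49489 = N48214 := ded_14_2 (flp_a L668785) (flp_f L659669) L682066
theorem L682074 : sm gh N49489 = N48180 := ded_17_2 (flp_a L681887) L681885 L682066
theorem L682076 : sm gb N49489 = N47343 := ded_10_2 (flp_a L660153) (flp_b L361017) (flp_a L360681) L659665 L682066
theorem L682078 : sm ge N48164 = N49489 := ded_28_0 L682068 L679639 L679637
theorem L682080 : sm ge N47286 = N49490 := rfl
theorem L682082 : sm ga N49490 = N48164 := ded_13_1 L682078 (flp_a L682066) L682080
theorem L682084 : sm gb N49490 = N47287 := ded_21_1 (flp_e L659671) L659665 L682080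
theorem L682086 : sm gh N49490 = N48179 := ded_43_2 (flp_e L681891) L681885 L682080
theorem L682088 : sm gd N49490 = N49490 := ded_34_1 (flp_e L682080) L659667 L360872 (flp_d L659667) L682080
theorem L682089 : sm gi N47286 = N49491 := rfl
theorem L682091 : sm gb N49491 = N47288 := ded_26_1 (flp_i L659678) L659665 L682089
theorem L682093 : sm gd N49491 = N47309 := ded_39_1 (flp_i L659883) (flp_d L659667) L682089
theorem L682095 : sm gf N49491 = N48215 := ded_48_1 (flp_i L668791) (flp_f L659669) L682089
theorem L682097 : sm gi N47287 = N49492 := rfl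
theorem L682099 : sm ga N49492 = N47347 := ded_18_1 (flp_i L660191) (flp_a L659673) L682097
theorem L682101 : sm gc N49492 = N47289 := ded_33_1 (flp_i L659688) (flp_c L659675) L682097
theorem L682103 : sm gd N49492 = N49492 := ded_39_1 (flp_i L682097) L659677 L682097
theorem L682104 : sm ge N49492 = N47288 := ded_44_1 (flp_i L659678) L659671 L682097
theorem L682106 : sm gh N47288 = N49493 := rfl
theorem L682108 : sm ga N49493 = N47348 := ded_17_1 (flp_h L660198) (flp_a L659680) L682106
theorem L682110 : sm gc N49493 = N47290 := ded_32_1 (flp_h L659696) (flp_c L659682) L682106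
theorem L682112 : sm gf N49493 = N48216 := ded_47_1 (flp_h L668797) (flp_f L659686) L682106
theorem L682114 : sm gh N47289 = N49494 := rfl
theorem L682116 : sm ga N49494 = N47351 := ded_17_1 (flp_h L660218) (flp_a L659690) L682114
theorem L682118 : sm ge N49494 = N47290 := ded_43_1 (flp_h L659696) (flp_e L659694) L682114
theorem L682120 : sm gf N47291 = N49495 := rfl
theorem L682122 : sm ga N49495 = N47352 := ded_14_1 (flp_f L660222) (flp_a L659704) L682120
theorem L682124 : sm gb N49495 = N48285 := ded_22_1 L669282 (flp_b L659706) L682120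
theorem L682126 : sm gc N49495 = N49495 := ded_29_1 (flp_f L682120) L659708 L682120
theorem L682127 : sm gj N49495 = N47293 := ded_46_2 (flp_f L659729) (flp_j L659711) L682120
theorem L682129 : sm gh N49495 = N49495 := ded_47_2 (flp_f L682120) L659713 L682120
theorem L682130 : sm ge N49495 = N47548 := ded_40_1 (flp_f L662323) (flp_e L363622) (flp_f L360705) L659702 L682120
theorem L682132 : sm gi N47291 = N49496 := rfl
theorem L682134 : sm ga N49496 = N47353 := ded_18_1 (flp_i L660232) (flp_a L659704) L682132
theorem L682136 : sm gb N49496 = N48294 := ded_26_1 (flp_i L669351) (flp_b L659706) L682132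
theorem L682138 : sm gc N49496 = N49496 := ded_33_1 (flp_i L682132) L659708 L682132
theorem L682139 : sm ge N49496 = N47292 := ded_44_1 (flp_i L659714) L659702 L682132
theorem L682141 : sm gg N49496 = N48225 := ded_51_1 (flp_i L668879) (flp_g L659709) L682132
theorem L682143 : sm gj N49496 = N47294 := ded_53_1 (flp_i L659737) (flp_j L659711) L682132
theorem L682145 : sm gh N47292 = N49497 := rfl
theorem L682147 : sm ga N49497 = N47354 := ded_17_1 (flp_h L660243) (flp_a L659716) L682145
theorem L682149 : sm gb N49497 = N48630 := ded_25_1 (flp_h L672026) (flp_b L659718) L682145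
theorem L682151 : sm gc N49497 = N49497 := ded_32_1 (flp_h L682145) L659720 L682145
theorem L682152 : sm gf N49497 = N47550 := ded_47_1 (flp_h L662341) (flp_f L659723) L682145
theorem L682154 : sm gg N49497 = N48604 := ded_50_1 (flp_h L671843) (flp_g L659725) L682145
theorem L682156 : sm gj N49497 = N47295 := ded_52_1 (flp_h L659746) (flp_j L659727) L682145
theorem L682158 : sm gi N49497 = N49497 := ded_54_2 (flp_h L682145) (flp_i L659714) L360710 L659714 L682145
theorem L682159 : sm gi N47293 = N49498 := rfl
theorem L682161 : sm ga N49498 = N47356 := ded_18_1 (flp_i L660263) (flp_a L659731) L682159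
theorem L682163 : sm gc N49498 = N49498 := ded_33_1 (flp_i L682159) L659733 L682159
theorem L682164 : sm ge N49498 = N47551 := ded_44_1 (flp_i L662350) (flp_e L659735) L682159
theorem L682166 : sm gf N49498 = N47294 := ded_48_1 (flp_i L659737) L659729 L682159
theorem L682168 : sm gh N47294 = N49499 := rfl
theorem L682170 : sm ga N49499 = N47357 := ded_17_1 (flp_h L660270) (flp_a L659739) L682168
theorem L682172 : sm gc N49499 = N49499 := ded_32_1 (flp_h L682168) L659741 L682168
theorem L682173 : sm ge N49499 = N47295 := ded_43_1 (flp_h L659746) (flp_e L659742) L682168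
theorem L682175 : sm gg N49499 = N47296 := ded_50_1 (flp_h L659756) (flp_g L659744) L682168
theorem L682177 : sm gi N49499 = N49499 := ded_54_2 (flp_h L682168) (flp_i L659737) L360728 L659737 L682168
theorem L682178 : sm gd N47296 = N49500 := rfl
theorem L682180 : sm ga N49500 = N47361 := ded_12_1 (flp_d L660299) (flp_a L659758) L682178
theorem L682182 : sm gi N49500 = N49500 := ded_39_2 (flp_d L682178) L659763 L682178
theorem L682183 : sm gi N47297 = N49501 := rfl
theorem L682185 : sm ga N49501 = N47364 := ded_18_1 (flp_i L660327) (flp_a L659766) L682183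
theorem L682187 : sm gb N49501 = N49501 := ded_26_1 (flp_i L682183) L659768 L682183
theorem L682188 : sm ge N49501 = N47555 := ded_44_1 (flp_i L662385) (flp_e L659769) L682183
theorem L682190 : sm gg N49501 = N47299 := ded_51_1 (flp_i L659785) (flp_g L659771) L682183
theorem L682192 : sm gj N49501 = N48218 := ded_53_1 (flp_i L668811) (flp_j L659773) L682183
theorem L682194 : sm gc N47298 = N49502 := rfl
theorem L682196 : sm ga N49502 = N47365 := ded_11_1 (flp_c L660337) (flp_a L659777) L682194
theorem L682198 : sm gf N49502 = N47303 := ded_29_2 (flp_c L659827) (flp_f L659780) L682194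
theorem L682200 : sm gj N49502 = N47300 := ded_31_2 (flp_c L659796) (flp_j L659782) L682194
theorem L682202 : sm gh N49502 = N49502 := ded_32_2 (flp_c L682194) L659784 L682194
theorem L682203 : sm ge N47298 = N49503 := rfl
theorem L682205 : sm ga N49503 = N47366 := ded_13_1 (flp_e L660346) (flp_a L659777) L682203
theorem L682207 : sm gb N49503 = N49503 := ded_21_1 (flp_e L682203) L659779 L682203
theorem L682208 : sm gj N49503 = N47301 := ded_42_2 (flp_e L659805) (flp_j L659782) L682203
theorem L682210 : sm gh N49503 = N49503 := ded_43_2 (flp_e L682203) L659784 L682203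
theorem L682211 : sm gd N49503 = N47557 := ded_34_1 (flp_e L662407) (flp_d L363736) (flp_e L360807) L659775 L682203
theorem L682213 : sm gf N49503 = N49503 := ded_40_2 (flp_e L682203) L659780 L360841 (flp_f L659780) L682203
theorem L682214 : sm gi N47298 = N49504 := rfl
theorem L682216 : sm ga N49504 = N47367 := ded_18_1 (flp_i L660356) (flp_a L659777) L682214
theorem L682218 : sm gb N49504 = N49504 := ded_26_1 (flp_i L682214) L659779 L682214
theorem L682219 : sm gd N49504 = N47299 := ded_39_1 (flp_i L659785) L659775 L682214
theorem L682221 : sm gf N49504 = N47304 := ded_48_1 (flp_i L659837) (flp_f L659780) L682214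
theorem L682223 : sm gj N49504 = N47302 := ded_53_1 (flp_i L659816) (flp_j L659782) L682214
theorem L682225 : sm gb N47300 = N49505 := rfl
theorem L682227 : sm ge N49505 = N47631 := ded_21_2 (flp_b L677816) L677820 L682225
theorem L682229 : sm gf N49505 = N47305 := ded_22_2 (flp_b L659849) (flp_f L659800) L682225
theorem L682231 : sm gg N49505 = N47352 := ded_23_2 L660224 (flp_g L659802) L682225
theorem L682233 : sm gh N49505 = N49505 := ded_25_2 (flp_b L682225) L659804 L682225
theorem L682234 : sm gc N49505 = N49505 := ded_19_2 (flp_b L682225) (flp_c L659796) L360817 L659796 L682225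
theorem L682235 : sm gi N47300 = N49506 := rfl
theorem L682237 : sm ga N49506 = N47370 := ded_18_1 (flp_i L660385) (flp_a L659798) L682235
theorem L682239 : sm gc N49506 = N47302 := ded_33_1 (flp_i L659816) L659796 L682235
theorem L682241 : sm gf N49506 = N47306 := ded_48_1 (flp_i L659856) (flp_f L659800) L682235
theorem L682243 : sm gg N49506 = N48220 := ded_51_1 (flp_i L668831) (flp_g L659802) L682235
theorem L682245 : sm gi N47301 = N49507 := rfl
theorem L682247 : sm ga N49507 = N47371 := ded_18_1 (flp_i L660393) (flp_a L659807) L682245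
theorem L682249 : sm gb N49507 = N49507 := ded_26_1 (flp_i L682245) L659809 L682245
theorem L682250 : sm gd N49507 = N47562 := ded_39_1 (flp_i L662464) (flp_d L659813) L682245
theorem L682252 : sm ge N49507 = N47302 := ded_44_1 (flp_i L659816) L659805 L682245
theorem L682254 : sm gf N49507 = N49507 := ded_48_1 (flp_i L682245) L659815 L682245
theorem L682255 : sm gg N49507 = N48221 := ded_51_1 (flp_i L668839) (flp_g L659810) L682245
theorem L682257 : sm gh N47302 = N49508 := rfl
theorem L682259 : sm ga N49508 = N47372 := ded_17_1 (flp_h L660404) (flp_a L659818) L682257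
theorem L682261 : sm gb N49508 = N49508 := ded_25_1 (flp_h L682257) L659820 L682257
theorem L682262 : sm gf N49508 = N47307 := ded_47_1 (flp_h L659865) (flp_f L659823) L682257
theorem L682264 : sm gg N49508 = N48222 := ded_50_1 (flp_h L668850) (flp_g L659825) L682257
theorem L682266 : sm gi N49508 = N49508 := ded_54_2 (flp_h L682257) (flp_i L659816) L360822 L659816 L682257
theorem L682267 : sm gb N47303 = N49509 := rfl
theorem L682269 : sm ge N49509 = N49509 := ded_21_2 (flp_b L682267) L659831 L682267
theorem L682270 : sm gg N49509 = N48157 := ded_23_2 L668389 (flp_g L659832) L682267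
theorem L682272 : sm gj N49509 = N47305 := ded_24_2 (flp_b L659849) (flp_j L659834) L682267
theorem L682274 : sm gh N49509 = N49509 := ded_25_2 (flp_b L682267) L659836 L682267
theorem L682275 : sm ga N49509 = N48154 := ded_10_1 (flp_b L668357) L382602 (flp_b L637599) (flp_a L659829) L682267
theorem L682277 : sm gc N49509 = N49509 := ded_19_2 (flp_b L682267) (flp_c L659827) L360838 L659827 L682267
theorem L682278 : sm gi N47303 = N49510 := rfl
theorem L682280 : sm ga N49510 = N47373 := ded_18_1 (flp_i L660413) (flp_a L659829) L682278
theorem L682282 : sm gc N49510 = N47304 := ded_33_1 (flp_i L659837) L659827 L682278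
theorem L682284 : sm ge N49510 = N49510 := ded_44_1 (flp_i L682278) L659831 L682278
theorem L682285 : sm gg N49510 = N48191 := ded_51_1 (flp_i L668613) (flp_g L659832) L682278
theorem L682287 : sm gj N49510 = N47306 := ded_53_1 (flp_i L659856) (flp_j L659834) L682278
theorem L682289 : sm gh N47304 = N49511 := rfl
theorem L682291 : sm ga N49511 = N47374 := ded_17_1 (flp_h L660424) (flp_a L659839) L682289
theorem L682293 : sm gb N49511 = N49511 := ded_25_1 (flp_h L682289) L659841 L682289
theorem L682294 : sm ge N49511 = N49511 := ded_43_1 (flp_h L682289) L659844 L682289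
theorem L682295 : sm gg N49511 = N48195 := ded_50_1 (flp_h L668640) (flp_g L659845) L682289
theorem L682297 : sm gj N49511 = N47307 := ded_52_1 (flp_h L659865) (flp_j L659847) L682289
theorem L682299 : sm gi N49511 = N49511 := ded_54_2 (flp_h L682289) (flp_i L659837) L360842 L659837 L682289
theorem L682300 : sm ga N47305 = N49512 := rfl
theorem L682302 : sm gc N49512 = N49512 := ded_11_2 (flp_a L682300) L659855 L682300
theorem L682303 : sm ge N49512 = N49512 := ded_13_2 (flp_a L682300) L659851 L682300
theorem L682304 : sm gg N49512 = N47308 := ded_15_2 (flp_a L659874) (flp_g L659852) L682300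
theorem L682306 : sm gj N49512 = N48154 := ded_16_2 (flp_a L682275) L682272 L682300
theorem L682308 : sm gh N49512 = N49512 := ded_17_2 (flp_a L682300) L659854 L682300
theorem L682309 : sm gb N49512 = N47375 := ded_10_2 (flp_a L660434) (flp_b L361208) (flp_a L360854) L659849 L682300
theorem L682311 : sm gi N47305 = N49513 := rfl
theorem L682313 : sm gb N49513 = N47306 := ded_26_1 (flp_i L659856) L659849 L682311
theorem L682315 : sm gc N49513 = N49513 := ded_33_1 (flp_i L682311) L659855 L682311
theorem L682316 : sm ge N49513 = N49513 := ded_44_1 (flp_i L682311) L659851 L682311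
theorem L682317 : sm gg N49513 = N47309 := ded_51_1 (flp_i L659883) (flp_g L659852) L682311
theorem L682319 : sm gh N47306 = N49514 := rfl
theorem L682321 : sm ga N49514 = N47377 := ded_17_1 (flp_h L660455) (flp_a L659858) L682319
theorem L682323 : sm gc N49514 = N47307 := ded_32_1 (flp_h L659865) (flp_c L659860) L682319
theorem L682325 : sm ge N49514 = N49514 := ded_43_1 (flp_h L682319) L659862 L682319
theorem L682326 : sm gg N49514 = N47310 := ded_50_1 (flp_h L659891) (flp_g L659863) L682319
theorem L682328 : sm gi N49514 = N49514 := ded_54_2 (flp_h L682319) (flp_i L659856) L360859 L659856 L682319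
theorem L682329 : sm gi N47308 = N49515 := rfl
theorem L682331 : sm ga N49515 = N47309 := ded_18_1 (flp_i L659883) L659874 L682329
theorem L682333 : sm gb N49515 = N47378 := ded_26_1 (flp_i L660463) (flp_b L659881) L682329
theorem L682335 : sm gc N49515 = N49515 := ded_33_1 (flp_i L682329) L659876 L682329
theorem L682336 : sm ge N49515 = N49515 := ded_44_1 (flp_i L682329) L659877 L682329
theorem L682337 : sm gf N49515 = N48225 := ded_48_1 (flp_i L668879) (flp_f L659878) L682329
theorem L682339 : sm gh N47309 = N49516 := rfl
theorem L682341 : sm gb N49516 = N47310 := ded_25_1 (flp_h L659891) (flp_b L659885) L682339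
theorem L682343 : sm gc N49516 = N49516 := ded_32_1 (flp_h L682339) L659887 L682339
theorem L682344 : sm ge N49516 = N49516 := ded_43_1 (flp_h L682339) L659888 L682339
theorem L682345 : sm gf N49516 = N48226 := ded_47_1 (flp_h L668888) (flp_f L659889) L682339
theorem L682347 : sm gi N49516 = N49516 := ded_54_2 (flp_h L682339) (flp_i L659883) L360875 L659883 L682339
theorem L682348 : sm gd N47310 = N49517 := rfl
theorem L682350 : sm ga N49517 = N47380 := ded_12_1 (flp_d L660482) (flp_a L659893) L682348
theorem L682352 : sm gf N49517 = N48227 := ded_35_2 (flp_d L668896) (flp_f L659898) L682348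
theorem L682354 : sm gi N49517 = N49517 := ded_39_2 (flp_d L682348) L659900 L682348
theorem L682355 : sm gh N47311 = N49518 := rfl
theorem L682357 : sm gb N49518 = N48527 := ded_25_1 L671204 (flp_b L659903) L682355
theorem L682359 : sm gc N49518 = N49518 := ded_32_1 (flp_h L682355) L659905 L682355
theorem L682360 : sm ge N49518 = N47314 := ded_43_1 (flp_h L659936) (flp_e L659908) L682355
theorem L682362 : sm gf N49518 = N49518 := ded_47_1 (flp_h L682355) L659910 L682355
theorem L682363 : sm gg N49518 = N48034 := ded_50_1 L667288 (flp_g L659911) L682355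
theorem L682365 : sm gj N49518 = N47312 := ded_52_1 (flp_h L659913) L659901 L682355
theorem L682367 : sm gd N47312 = N49519 := rfl
theorem L682369 : sm gb N49519 = N48499 := ded_20_1 L671009 (flp_b L659915) L682367
theorem L682371 : sm gf N49519 = N49519 := ded_35_2 (flp_d L682367) L659920 L682367
theorem L682372 : sm gg N49519 = N48009 := ded_36_2 L667074 (flp_g L659921) L682367
theorem L682374 : sm gh N49519 = N47569 := ded_38_2 (flp_d L662552) (flp_h L363874) (flp_d L360900) L659913 L682367
theorem L682376 : sm gi N47312 = N49520 := rfl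
theorem L682378 : sm gb N49520 = N48528 := ded_26_1 (flp_i L671208) (flp_b L659915) L682376
theorem L682380 : sm gc N49520 = N49520 := ded_33_1 (flp_i L682376) L659917 L682376
theorem L682381 : sm ge N49520 = N47316 := ded_44_1 (flp_i L659951) (flp_e L659918) L682376
theorem L682383 : sm gf N49520 = N49520 := ded_48_1 (flp_i L682376) L659920 L682376
theorem L682384 : sm gg N49520 = N48033 := ded_51_1 (flp_i L667270) (flp_g L659921) L682376
theorem L682386 : sm gh N47313 = N49521 := rfl
theorem L682388 : sm gb N49521 = N48276 := ded_25_1 L669203 (flp_b L659925) L682386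
theorem L682390 : sm gc N49521 = N49521 := ded_32_1 (flp_h L682386) L659927 L682386
theorem L682391 : sm ge N49521 = N48034 := ded_43_1 L667288 (flp_e L659930) L682386
theorem L682393 : sm gf N49521 = N47838 := ded_47_1 L665369 (flp_f L659932) L682386
theorem L682395 : sm gg N49521 = N47314 := ded_50_1 (flp_h L659936) L659923 L682386
theorem L682397 : sm gj N49521 = N47836 := ded_52_1 L665347 (flp_j L659934) L682386
theorem L682399 : sm gd N47314 = N49522 := rfl
theorem L682401 : sm gf N49522 = N47317 := ded_35_2 (flp_d L659958) (flp_f L659939) L682399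
theorem L682403 : sm gj N49522 = N47315 := ded_37_2 (flp_d L659943) (flp_j L659941) L682399
theorem L682405 : sm gh N49522 = N47329 := ded_38_2 (flp_d L660048) (flp_h L360961) (flp_d L360906) L659936 L682399
theorem L682407 : sm gi N47314 = N49523 := rfl
theorem L682409 : sm gc N49523 = N49523 := ded_33_1 (flp_i L682407) L659938 L682407
theorem L682410 : sm gf N49523 = N47318 := ded_48_1 (flp_i L659964) (flp_f L659939) L682407
theorem L682412 : sm gj N49523 = N47316 := ded_53_1 (flp_i L659951) (flp_j L659941) L682407
theorem L682414 : sm gc N47315 = N49524 := rfl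
theorem L682416 : sm gf N49524 = N47319 := ded_29_2 (flp_c L659970) (flp_f L659945) L682414
theorem L682418 : sm gg N49524 = N48228 := ded_30_2 (flp_c L668901) (flp_g L659947) L682414
theorem L682420 : sm gh N49524 = N47331 := ded_32_2 (flp_c L660064) (flp_h L659949) L682414
theorem L682422 : sm gd N49524 = N49524 := ded_27_2 (flp_c L682414) (flp_d L659943) L360912 L659943 L682414
theorem L682423 : sm ge N47315 = N49525 := rfl
theorem L682425 : sm gg N49525 = N48229 := ded_41_2 (flp_e L668908) (flp_g L659947) L682423
theorem L682427 : sm gh N49525 = N47332 := ded_43_2 (flp_e L660072) (flp_h L659949) L682423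
theorem L682429 : sm gi N47315 = N49526 := rfl
theorem L682431 : sm gd N49526 = N47316 := ded_39_1 (flp_i L659951) L659943 L682429
theorem L682433 : sm gf N49526 = N47321 := ded_48_1 (flp_i L659984) (flp_f L659945) L682429
theorem L682435 : sm gg N49526 = N48230 := ded_51_1 (flp_i L668912) (flp_g L659947) L682429
theorem L682437 : sm gc N47317 = N49527 := rfl
theorem L682439 : sm gg N49527 = N48164 := ded_30_2 (flp_c L679637) L679631 L682437
theorem L682441 : sm gj N49527 = N47319 := ded_31_2 (flp_c L659970) (flp_j L659960) L682437
theorem L682443 : sm gh N49527 = N47334 := ded_32_2 (flp_c L660086) (flp_h L659962) L682437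
theorem L682445 : sm gb N49527 = N48162 := ded_19_1 (flp_c L668418) (flp_b L664768) (flp_c L675093) L675087 L682437
theorem L682447 : sm gd N49527 = N49527 := ded_27_2 (flp_c L682437) (flp_d L659958) L360919 L659958 L682437
theorem L682448 : sm ge N47317 = N49528 := rfl
theorem L682450 : sm gb N49528 = N48200 := ded_21_1 L675097 L675087 L682448
theorem L682452 : sm gg N49528 = N48202 := ded_41_2 L679639 L679631 L682448
theorem L682454 : sm gj N49528 = N47320 := ded_42_2 (flp_e L659977) (flp_j L659960) L682448
theorem L682456 : sm gh N49528 = N47335 := ded_43_2 (flp_e L660096) (flp_h L659962) L682448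
theorem L682458 : sm gd N49528 = N49528 := ded_34_1 (flp_e L682448) (flp_d L659958) L360920 L659958 L682448
theorem L682459 : sm gi N47317 = N49529 := rfl
theorem L682461 : sm gd N49529 = N47318 := ded_39_1 (flp_i L659964) L659958 L682459
theorem L682463 : sm gj N49529 = N47321 := ded_53_1 (flp_i L659984) (flp_j L659960) L682459
theorem L682465 : sm gb N47319 = N49530 := rfl
theorem L682467 : sm gd N49530 = N49530 := ded_20_2 (flp_b L682465) L659976 L682465
theorem L682468 : sm gg N49530 = N47322 := ded_23_2 (flp_b L659990) (flp_g L659972) L682465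
theorem L682470 : sm gj N49530 = N48162 := ded_24_2 (flp_b L682445) L682441 L682465
theorem L682472 : sm gh N49530 = N47337 := ded_25_2 (flp_b L660112) (flp_h L659974) L682465
theorem L682474 : sm gc N49530 = N47791 := ded_19_2 L664891 (flp_c L653613) L653609 L659970 L682465
theorem L682476 : sm ga N48174 = N49530 := ded_15_3 L682468 (flp_a L659999) (flp_g L668499)
theorem L682478 : sm ge N48147 = N49530 := ded_41_3 L682468 (flp_e L660001) (flp_g L668302)
theorem L682480 : sm ge N47319 = N49531 := rfl
theorem L682482 : sm gb N49531 = N48147 := ded_21_1 L682478 (flp_b L682465) L682480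
theorem L682484 : sm gc N49531 = N47320 := ded_28_1 (flp_e L659977) L659970 L682480
theorem L682486 : sm gg N49531 = N47323 := ded_41_2 (flp_e L660003) (flp_g L659972) L682480
theorem L682488 : sm gh N49531 = N47338 := ded_43_2 (flp_e L660122) (flp_h L659974) L682480
theorem L682490 : sm gd N48154 = N49531 := ded_20_0 L682482 L668304 L668357
theorem L682492 : sm gi N47319 = N49532 := rfl
theorem L682494 : sm gc N49532 = N47321 := ded_33_1 (flp_i L659984) L659970 L682492
theorem L682496 : sm gd N49532 = N49532 := ded_39_1 (flp_i L682492) L659976 L682492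
theorem L682497 : sm gg N49532 = N47324 := ded_51_1 (flp_i L660013) (flp_g L659972) L682492
theorem L682499 : sm gf N47320 = N49533 := rfl
theorem L682501 : sm gd N49533 = N49533 := ded_35_1 (flp_f L682499) L659983 L682499
theorem L682502 : sm gh N49533 = N47340 := ded_47_2 (flp_f L660137) (flp_h L659981) L682499
theorem L682504 : sm gi N47320 = N49534 := rfl
theorem L682506 : sm gd N49534 = N49534 := ded_39_1 (flp_i L682504) L659983 L682504
theorem L682507 : sm ge N49534 = N47321 := ded_44_1 (flp_i L659984) L659977 L682504
theorem L682509 : sm gg N49534 = N47326 := ded_51_1 (flp_i L660027) (flp_g L659979) L682504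
theorem L682511 : sm gh N47321 = N49535 := rfl
theorem L682513 : sm gg N49535 = N47327 := ded_50_1 (flp_h L660032) (flp_g L659988) L682511
theorem L682515 : sm gi N49535 = N47342 := ded_54_2 (flp_h L660149) (flp_i L361011) (flp_h L360927) L659984 L682511
theorem L682517 : sm gi N47322 = N49536 := rfl
theorem L682519 : sm ga N49536 = N48182 := ded_18_1 (flp_i L668549) L659999 L682517
theorem L682521 : sm gb N49536 = N47324 := ded_26_1 (flp_i L660013) L659990 L682517
theorem L682523 : sm gc N49536 = N47793 := ded_33_1 (flp_i L664916) (flp_c L659997) L682517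
theorem L682525 : sm gd N49536 = N49536 := ded_39_1 (flp_i L682517) L659992 L682517
theorem L682526 : sm ge N49536 = N48149 := ded_44_1 (flp_i L668314) L660001 L682517
theorem L682528 : sm gf N49536 = N48235 := ded_48_1 (flp_i L668944) (flp_f L659993) L682517
theorem L682530 : sm gi N47323 = N49537 := rfl
theorem L682532 : sm gb N49537 = N48149 := ded_26_1 (flp_i L668314) (flp_b L660005) L682530
theorem L682534 : sm gc N49537 = N47326 := ded_33_1 (flp_i L660027) (flp_c L660007) L682530
theorem L682536 : sm gd N49537 = N48158 := ded_39_1 (flp_i L668391) L660011 L682530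
theorem L682538 : sm ge N49537 = N47324 := ded_44_1 (flp_i L660013) L660003 L682530
theorem L682540 : sm gh N47324 = N49538 := rfl
theorem L682542 : sm gc N49538 = N47327 := ded_32_1 (flp_h L660032) (flp_c L660015) L682540
theorem L682544 : sm gf N49538 = N48238 := ded_47_1 (flp_h L668961) (flp_f L660018) L682540
theorem L682546 : sm gi N49538 = N47348 := ded_54_2 (flp_h L660198) (flp_i L361028) (flp_h L360939) L660013 L682540
theorem L682548 : sm gg N47325 = N49539 := rfl
theorem L682550 : sm gd N49539 = N49539 := ded_36_1 (flp_g L682548) L660022 L682548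
theorem L682551 : sm ge N49539 = N48239 := ded_41_1 (flp_g L668967) (flp_e L660025) L682548
theorem L682553 : sm gh N49539 = N47349 := ded_50_2 (flp_g L660204) (flp_h L660023) L682548
theorem L682555 : sm gi N47325 = N49540 := rfl
theorem L682557 : sm gd N49540 = N49540 := ded_39_1 (flp_i L682555) L660022 L682555
theorem L682558 : sm ge N49540 = N47853 := ded_44_1 L665516 (flp_e L660025) L682555
theorem L682560 : sm gf N49540 = N47326 := ded_48_1 (flp_i L660027) L660020 L682555
theorem L682562 : sm gh N47326 = N49541 := rfl
theorem L682564 : sm ge N49541 = N47327 := ded_43_1 (flp_h L660032) (flp_e L660030) L682562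
theorem L682566 : sm gi N49541 = N47351 := ded_54_2 (flp_h L660218) (flp_i L361042) (flp_h L360944) L660027 L682562
theorem L682568 : sm gd N47328 = N49542 := rfl
theorem L682570 : sm gg N49542 = N47329 := ded_36_2 (flp_d L660048) (flp_g L660044) L682568
theorem L682572 : sm gj N49542 = N48241 := ded_37_2 (flp_d L668979) (flp_j L660046) L682568
theorem L682574 : sm gi N47328 = N49543 := rfl
theorem L682576 : sm gc N49543 = N47364 := ded_33_1 (flp_i L660327) (flp_c L660040) L682574
theorem L682578 : sm ge N49543 = N47594 := ded_44_1 (flp_i L662768) (flp_e L660042) L682574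
theorem L682580 : sm gg N49543 = N47330 := ded_51_1 (flp_i L660054) (flp_g L660044) L682574
theorem L682582 : sm gj N49543 = N48242 := ded_53_1 (flp_i L668983) (flp_j L660046) L682574
theorem L682584 : sm gc N47329 = N49544 := rfl
theorem L682586 : sm gf N49544 = N47334 := ded_29_2 (flp_c L660086) (flp_f L660050) L682584
theorem L682588 : sm gj N49544 = N47331 := ded_31_2 (flp_c L660064) (flp_j L660052) L682584
theorem L682590 : sm gb N49544 = N48170 := ded_19_1 (flp_c L668473) (flp_b L664816) (flp_c L675189) L675183 L682584
theorem L682592 : sm gd N49544 = N47365 := ded_27_2 (flp_c L660337) (flp_d L361147) (flp_c L360963) L660048 L682584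
theorem L682594 : sm ge N47329 = N49545 := rfl
theorem L682596 : sm gj N49545 = N47332 := ded_42_2 (flp_e L660072) (flp_j L660052) L682594
theorem L682598 : sm gd N49545 = N47596 := ded_34_1 (flp_e L662785) (flp_d L364007) (flp_e L360965) L660048 L682594
theorem L682600 : sm gi N47329 = N49546 := rfl
theorem L682602 : sm gd N49546 = N47330 := ded_39_1 (flp_i L660054) L660048 L682600
theorem L682604 : sm gf N49546 = N47336 := ded_48_1 (flp_i L660106) (flp_f L660050) L682600
theorem L682606 : sm gj N49546 = N47333 := ded_53_1 (flp_i L660078) (flp_j L660052) L682600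
theorem L682608 : sm gb N47331 = N49547 := rfl
theorem L682610 : sm gd N49547 = N47368 := ded_20_2 (flp_b L660366) (flp_d L660070) L682608
theorem L682612 : sm gf N49547 = N47337 := ded_22_2 (flp_b L660112) (flp_f L660066) L682608
theorem L682614 : sm gg N49547 = N48246 := ded_23_2 (flp_b L669013) (flp_g L660068) L682608
theorem L682616 : sm gj N49547 = N48170 := ded_24_2 (flp_b L682590) L682588 L682608
theorem L682618 : sm gc N49547 = N48168 := ded_19_2 L675219 (flp_c L675205) L653681 L660064 L682608
theorem L682620 : sm ge N47331 = N49548 := rfl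
theorem L682622 : sm gc N49548 = N47332 := ded_28_1 (flp_e L660072) L660064 L682620
theorem L682624 : sm gg N49548 = N48247 := ded_41_2 (flp_e L669019) (flp_g L660068) L682620
theorem L682626 : sm gi N47331 = N49549 := rfl
theorem L682628 : sm gc N49549 = N47333 := ded_33_1 (flp_i L660078) L660064 L682626
theorem L682630 : sm gd N49549 = N47370 := ded_39_1 (flp_i L660385) (flp_d L660070) L682626
theorem L682632 : sm gf N49549 = N47339 := ded_48_1 (flp_i L660129) (flp_f L660066) L682626
theorem L682634 : sm gg N49549 = N48248 := ded_51_1 (flp_i L669023) (flp_g L660068) L682626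
theorem L682636 : sm gf N47332 = N49550 := rfl
theorem L682638 : sm gd N49550 = N47601 := ded_35_1 (flp_f L662821) (flp_d L660076) L682636
theorem L682640 : sm ge N49550 = N47340 := ded_40_1 (flp_f L660137) (flp_e L361005) (flp_f L360973) L660072 L682636
theorem L682642 : sm gi N47332 = N49551 := rfl
theorem L682644 : sm gd N49551 = N47602 := ded_39_1 (flp_i L662825) (flp_d L660076) L682642
theorem L682646 : sm ge N49551 = N47333 := ded_44_1 (flp_i L660078) L660072 L682642
theorem L682648 : sm gg N49551 = N48250 := ded_51_1 (flp_i L669037) (flp_g L660074) L682642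
theorem L682650 : sm gh N47333 = N49552 := rfl
theorem L682652 : sm gf N49552 = N47342 := ded_47_1 (flp_h L660149) (flp_f L660082) L682650
theorem L682654 : sm gg N49552 = N48251 := ded_50_1 (flp_h L669043) (flp_g L660084) L682650
theorem L682656 : sm ge N47334 = N49553 := rfl
theorem L682658 : sm gb N49553 = N48174 := ded_21_1 (flp_e L668495) (flp_b L660092) L682656
theorem L682660 : sm gc N49553 = N47335 := ded_28_1 (flp_e L660096) L660086 L682656
theorem L682662 : sm gg N49553 = N48180 := ded_41_2 (flp_e L668536) (flp_g L660088) L682656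
theorem L682664 : sm gj N49553 = N47338 := ded_42_2 (flp_e L660122) (flp_j L660090) L682656
theorem L682666 : sm gd N49553 = N49553 := ded_34_1 (flp_e L682656) L660094 L361195 (flp_d L660094) L682656
theorem L682667 : sm gi N47334 = N49554 := rfl
theorem L682669 : sm gb N49554 = N48175 := ded_26_1 (flp_i L668502) (flp_b L660092) L682667
theorem L682671 : sm gc N49554 = N47336 := ded_33_1 (flp_i L660106) L660086 L682667
theorem L682673 : sm gd N49554 = N47373 := ded_39_1 (flp_i L660413) (flp_d L660094) L682667
theorem L682675 : sm gg N49554 = N48181 := ded_51_1 (flp_i L668543) (flp_g L660088) L682667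
theorem L682677 : sm gj N49554 = N47339 := ded_53_1 (flp_i L660129) (flp_j L660090) L682667
theorem L682679 : sm gf N47335 = N49555 := rfl
theorem L682681 : sm gb N49555 = N48208 := ded_22_1 L668743 (flp_b L660098) L682679
theorem L682683 : sm gd N49555 = N47352 := ded_35_1 (flp_f L660222) (flp_d L660104) L682679
theorem L682685 : sm gj N49555 = N47340 := ded_46_2 (flp_f L660137) (flp_j L660102) L682679
theorem L682687 : sm gi N47335 = N49556 := rfl
theorem L682689 : sm gb N49556 = N48212 := ded_26_1 (flp_i L668769) (flp_b L660098) L682687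
theorem L682691 : sm gd N49556 = N47353 := ded_39_1 (flp_i L660232) (flp_d L660104) L682687
theorem L682693 : sm ge N49556 = N47336 := ded_44_1 (flp_i L660106) L660096 L682687
theorem L682695 : sm gg N49556 = N48215 := ded_51_1 (flp_i L668791) (flp_g L660100) L682687
theorem L682697 : sm gj N49556 = N47341 := ded_53_1 (flp_i L660141) (flp_j L660102) L682687
theorem L682699 : sm gh N47336 = N49557 := rfl
theorem L682701 : sm gj N49557 = N47342 := ded_52_1 (flp_h L660149) (flp_j L660110) L682699
theorem L682703 : sm ga N47337 = N49558 := rfl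
theorem L682705 : sm gc N49558 = N48145 := ded_11_2 L668270 (flp_c L660120) L682703
theorem L682707 : sm gd N49558 = N47375 := ded_12_2 (flp_a L660434) (flp_d L660114) L682703
theorem L682709 : sm gg N49558 = N47343 := ded_15_2 (flp_a L660153) (flp_g L660116) L682703
theorem L682711 : sm gj N49558 = N48147 := ded_16_2 L668300 (flp_j L660118) L682703
theorem L682713 : sm gh N49558 = N48174 := ded_17_2 L682476 L682472 L682703
theorem L682715 : sm ge N48162 = N49558 := ded_28_0 L682705 L668278 L668418
theorem L682717 : sm ge N47337 = N49559 := rfl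
theorem L682719 : sm ga N49559 = N48162 := ded_13_1 L682715 (flp_a L682703) L682717
theorem L682721 : sm gb N49559 = N47338 := ded_21_1 (flp_e L660122) L660112 L682717
theorem L682723 : sm gc N49559 = N48139 := ded_28_1 L668211 (flp_c L660120) L682717
theorem L682725 : sm gg N49559 = N47344 := ded_41_2 (flp_e L660165) (flp_g L660116) L682717
theorem L682727 : sm gj N49559 = N48174 := ded_42_2 (flp_e L668495) (flp_j L660118) L682717
theorem L682729 : sm gh N49559 = N48147 := ded_43_2 L682478 L682472 L682717
theorem L682731 : sm gd N49559 = N49559 := ded_34_1 (flp_e L682717) L660114 L361210 (flp_d L660114) L682717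
theorem L682732 : sm gi N47337 = N49560 := rfl
theorem L682734 : sm gb N49560 = N47339 := ded_26_1 (flp_i L660129) L660112 L682732
theorem L682736 : sm gc N49560 = N48173 := ded_33_1 (flp_i L668489) (flp_c L660120) L682732
theorem L682738 : sm gd N49560 = N47376 := ded_39_1 (flp_i L660444) (flp_d L660114) L682732
theorem L682740 : sm gg N49560 = N47345 := ded_51_1 (flp_i L660176) (flp_g L660116) L682732
theorem L682742 : sm gj N49560 = N48175 := ded_53_1 (flp_i L668502) (flp_j L660118) L682732
theorem L682744 : sm gf N47338 = N49561 := rfl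
theorem L682746 : sm gc N49561 = N47340 := ded_29_1 (flp_f L660137) (flp_c L660124) L682744
theorem L682748 : sm gd N49561 = N49561 := ded_35_1 (flp_f L682744) L660128 L682744
theorem L682749 : sm gi N47338 = N49562 := rfl
theorem L682751 : sm gc N49562 = N47341 := ded_33_1 (flp_i L660141) (flp_c L660124) L682749
theorem L682753 : sm gd N49562 = N49562 := ded_39_1 (flp_i L682749) L660128 L682749
theorem L682754 : sm ge N49562 = N47339 := ded_44_1 (flp_i L660129) L660122 L682749
theorem L682756 : sm gg N49562 = N47347 := ded_51_1 (flp_i L660191) (flp_g L660126) L682749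
theorem L682758 : sm gh N47339 = N49563 := rfl
theorem L682760 : sm gc N49563 = N47342 := ded_32_1 (flp_h L660149) (flp_c L660131) L682758
theorem L682762 : sm gg N49563 = N47348 := ded_50_1 (flp_h L660198) (flp_g L660135) L682758
theorem L682764 : sm gg N47340 = N49564 := rfl
theorem L682766 : sm gd N49564 = N47355 := ded_36_1 (flp_g L660255) (flp_d L660139) L682764
theorem L682768 : sm gf N49564 = N47349 := ded_45_1 (flp_g L660204) (flp_f L361036) (flp_g L361007) L660137 L682764
theorem L682770 : sm gi N47340 = N49565 := rfl
theorem L682772 : sm gd N49565 = N47356 := ded_39_1 (flp_i L660263) (flp_d L660139) L682770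
theorem L682774 : sm gf N49565 = N47341 := ded_48_1 (flp_i L660141) L660137 L682770
theorem L682776 : sm gh N47341 = N49566 := rfl
theorem L682778 : sm ge N49566 = N47342 := ded_43_1 (flp_h L660149) (flp_e L660145) L682776
theorem L682780 : sm gg N49566 = N47351 := ded_50_1 (flp_h L660218) (flp_g L660147) L682776
theorem L682782 : sm gi N47343 = N49567 := rfl
theorem L682784 : sm ga N49567 = N47345 := ded_18_1 (flp_i L660176) L660153 L682782
theorem L682786 : sm gc N49567 = N48166 := ded_33_1 (flp_i L668441) (flp_c L660155) L682782
theorem L682788 : sm gd N49567 = N47378 := ded_39_1 (flp_i L660463) (flp_d L660157) L682782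
theorem L682790 : sm ge N49567 = N48165 := ded_44_1 (flp_i L668436) L660163 L682782
theorem L682792 : sm gf N49567 = N48265 := ded_48_1 (flp_i L669133) (flp_f L660159) L682782
theorem L682794 : sm gi N47344 = N49568 := rfl
theorem L682796 : sm ga N49568 = N48165 := ded_18_1 (flp_i L668436) (flp_a L660167) L682794
theorem L682798 : sm gb N49568 = N47347 := ded_26_1 (flp_i L660191) (flp_b L660169) L682794
theorem L682800 : sm gc N49568 = N48141 := ded_33_1 (flp_i L668230) (flp_c L660171) L682794
theorem L682802 : sm gd N49568 = N49568 := ded_39_1 (flp_i L682794) L660175 L682794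
theorem L682803 : sm ge N49568 = N47345 := ded_44_1 (flp_i L660176) L660165 L682794
theorem L682805 : sm gh N47345 = N49569 := rfl
theorem L682807 : sm gb N49569 = N47348 := ded_25_1 (flp_h L660198) (flp_b L660178) L682805
theorem L682809 : sm gf N49569 = N48268 := ded_47_1 (flp_h L669153) (flp_f L660182) L682805
theorem L682811 : sm gg N47346 = N49570 := rfl
theorem L682813 : sm gc N49570 = N47349 := ded_30_1 (flp_g L660204) (flp_c L660186) L682811
theorem L682815 : sm gd N49570 = N49570 := ded_36_1 (flp_g L682811) L660188 L682811
theorem L682816 : sm ge N49570 = N48269 := ded_41_1 (flp_g L669157) (flp_e L660189) L682811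
theorem L682818 : sm gi N47346 = N49571 := rfl
theorem L682820 : sm gc N49571 = N47350 := ded_33_1 (flp_i L660210) (flp_c L660186) L682818
theorem L682822 : sm gd N49571 = N49571 := ded_39_1 (flp_i L682818) L660188 L682818
theorem L682823 : sm ge N49571 = N48270 := ded_44_1 (flp_i L669163) (flp_e L660189) L682818
theorem L682825 : sm gf N49571 = N47347 := ded_48_1 (flp_i L660191) L660184 L682818
theorem L682827 : sm gh N47347 = N49572 := rfl
theorem L682829 : sm gc N49572 = N47351 := ded_32_1 (flp_h L660218) (flp_c L660193) L682827
theorem L682831 : sm ge N49572 = N47348 := ded_43_1 (flp_h L660198) (flp_e L660196) L682827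
theorem L682833 : sm gd N47348 = N49573 := rfl
theorem L682835 : sm gf N49573 = N48272 := ded_35_2 (flp_d L669177) (flp_f L660202) L682833
theorem L682837 : sm gh N49573 = N47380 := ded_38_2 (flp_d L660482) (flp_h L361248) (flp_d L361032) L660198 L682833
theorem L682839 : sm gj N47349 = N49574 := rfl
theorem L682841 : sm gd N49574 = N47358 := ded_37_1 (flp_j L660278) (flp_d L660206) L682839
theorem L682843 : sm ge N49574 = N48273 := ded_42_1 (flp_j L669181) (flp_e L660208) L682839
theorem L682845 : sm gi N47349 = N49575 := rfl
theorem L682847 : sm gd N49575 = N47359 := ded_39_1 (flp_i L660284) (flp_d L660206) L682845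
theorem L682849 : sm ge N49575 = N48274 := ded_44_1 (flp_i L669185) (flp_e L660208) L682845
theorem L682851 : sm gg N49575 = N47350 := ded_51_1 (flp_i L660210) L660204 L682845
theorem L682853 : sm gh N47350 = N49576 := rfl
theorem L682855 : sm ge N49576 = N48275 := ded_43_1 (flp_h L669191) (flp_e L660214) L682853
theorem L682857 : sm gf N49576 = N47351 := ded_47_1 (flp_h L660218) (flp_f L660216) L682853
theorem L682859 : sm gd N47351 = N49577 := rfl
theorem L682861 : sm gh N49577 = N47361 := ded_38_2 (flp_d L660299) (flp_h L361101) (flp_d L361044) L660218 L682859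
theorem L682863 : sm gi N47352 = N49578 := rfl
theorem L682865 : sm gb N49578 = N48220 := ded_26_1 (flp_i L668831) (flp_b L660224) L682863
theorem L682867 : sm gc N49578 = N49578 := ded_33_1 (flp_i L682863) L660226 L682863
theorem L682868 : sm ge N49578 = N47632 := ded_44_1 (flp_i L663047) (flp_e L660230) L682863
theorem L682870 : sm gf N49578 = N47353 := ded_48_1 (flp_i L660232) L660222 L682863
theorem L682872 : sm gj N49578 = N47356 := ded_53_1 (flp_i L660263) (flp_j L660227) L682863
theorem L682874 : sm gh N47353 = N49579 := rfl
theorem L682876 : sm gb N49579 = N48224 := ded_25_1 (flp_h L668868) (flp_b L660234) L682874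
theorem L682878 : sm gc N49579 = N49579 := ded_32_1 (flp_h L682874) L660236 L682874
theorem L682879 : sm ge N49579 = N47354 := ded_43_1 (flp_h L660243) (flp_e L660237) L682874
theorem L682881 : sm gg N49579 = N48226 := ded_50_1 (flp_h L668888) (flp_g L660239) L682874
theorem L682883 : sm gj N49579 = N47357 := ded_52_1 (flp_h L660270) (flp_j L660241) L682874
theorem L682885 : sm gi N49579 = N49579 := ded_54_2 (flp_h L682874) (flp_i L660232) L361057 L660232 L682874
theorem L682886 : sm gj N47355 = N49580 := rfl
theorem L682888 : sm gc N49580 = N49580 := ded_31_1 (flp_j L682886) L660257 L682886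
theorem L682889 : sm ge N49580 = N47634 := ded_42_1 (flp_j L663063) (flp_e L660258) L682886
theorem L682891 : sm gf N49580 = N47358 := ded_46_1 (flp_j L660278) (flp_f L660261) L682886
theorem L682893 : sm gh N49580 = N49580 := ded_52_2 (flp_j L682886) L660260 L682886
theorem L682894 : sm gi N47355 = N49581 := rfl
theorem L682896 : sm gc N49581 = N49581 := ded_33_1 (flp_i L682894) L660257 L682894
theorem L682897 : sm ge N49581 = N47635 := ded_44_1 (flp_i L663069) (flp_e L660258) L682894
theorem L682899 : sm gf N49581 = N47359 := ded_48_1 (flp_i L660284) (flp_f L660261) L682894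
theorem L682901 : sm gg N49581 = N47356 := ded_51_1 (flp_i L660263) L660255 L682894
theorem L682903 : sm gh N47356 = N49582 := rfl
theorem L682905 : sm gc N49582 = N49582 := ded_32_1 (flp_h L682903) L660265 L682903
theorem L682906 : sm ge N49582 = N47636 := ded_43_1 (flp_h L663076) (flp_e L660266) L682903
theorem L682908 : sm gf N49582 = N47357 := ded_47_1 (flp_h L660270) (flp_f L660268) L682903
theorem L682910 : sm gi N49582 = N49582 := ded_54_2 (flp_h L682903) (flp_i L660263) L361070 L660263 L682903
theorem L682911 : sm gd N47357 = N49583 := rfl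
theorem L682913 : sm gg N49583 = N47361 := ded_36_2 (flp_d L660299) (flp_g L660275) L682911
theorem L682915 : sm gi N49583 = N49583 := ded_39_2 (flp_d L682911) L660277 L682911
theorem L682916 : sm gi N47358 = N49584 := rfl
theorem L682918 : sm gc N49584 = N49584 := ded_33_1 (flp_i L682916) L660280 L682916
theorem L682919 : sm ge N49584 = N47362 := ded_44_1 (flp_i L660302) (flp_e L660281) L682916
theorem L682921 : sm gg N49584 = N48622 := ded_51_1 L679932 L679930 L682916
theorem L682923 : sm gj N49584 = N47359 := ded_53_1 (flp_i L660284) L660278 L682916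
theorem L682925 : sm gh N48632 = N49584 := ded_43_0 L682919 (flp_h L660313) L672042
theorem L682927 : sm gh N47359 = N49585 := rfl
theorem L682929 : sm gc N49585 = N49585 := ded_32_1 (flp_h L682927) L660286 L682927
theorem L682930 : sm ge N49585 = N47363 := ded_43_1 (flp_h L660315) (flp_e L660287) L682927
theorem L682932 : sm gg N49585 = N47360 := ded_50_1 (flp_h L660291) (flp_g L660289) L682927
theorem L682934 : sm gj N49585 = N48632 := ded_52_1 L682925 L682923 L682927
theorem L682936 : sm gi N49585 = N49585 := ded_54_2 (flp_h L682927) (flp_i L660284) L361093 L660284 L682927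
theorem L682937 : sm gd N47360 = N49586 := rfl
theorem L682939 : sm gf N49586 = N47361 := ded_35_2 (flp_d L660299) (flp_f L660296) L682937
theorem L682941 : sm gi N49586 = N49586 := ded_39_2 (flp_d L682937) L660298 L682937
theorem L682942 : sm gc N47361 = N49587 := rfl
theorem L682944 : sm gi N49587 = N49587 := ded_33_2 (flp_c L682942) L660301 L682942
theorem L682945 : sm gd N49587 = N49587 := ded_27_2 (flp_c L682942) (flp_d L660299) L361103 L660299 L682942
theorem L682946 : sm ge N47365 = N49588 := rfl
theorem L682948 : sm gb N49588 = N48186 := ded_21_1 (flp_e L668575) (flp_b L660344) L682946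
theorem L682950 : sm gc N49588 = N47366 := ded_28_1 (flp_e L660346) L660337 L682946
theorem L682952 : sm gj N49588 = N47369 := ded_42_2 (flp_e L660377) (flp_j L660341) L682946
theorem L682954 : sm gh N49588 = N49588 := ded_43_2 (flp_e L682946) L660343 L682946
theorem L682955 : sm gf N49588 = N49588 := ded_40_2 (flp_e L682946) L660339 L361195 (flp_f L660339) L682946
theorem L682956 : sm gi N47365 = N49589 := rfl
theorem L682958 : sm gb N49589 = N48187 := ded_26_1 (flp_i L668581) (flp_b L660344) L682956
theorem L682960 : sm gc N49589 = N47367 := ded_33_1 (flp_i L660356) L660337 L682956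
theorem L682962 : sm gf N49589 = N47373 := ded_48_1 (flp_i L660413) (flp_f L660339) L682956
theorem L682964 : sm gj N49589 = N47370 := ded_53_1 (flp_i L660385) (flp_j L660341) L682956
theorem L682966 : sm gi N47366 = N49590 := rfl
theorem L682968 : sm gb N49590 = N47381 := ded_26_1 (flp_i L660487) (flp_b L660348) L682966
theorem L682970 : sm gd N49590 = N47649 := ded_39_1 (flp_i L663184) (flp_d L660353) L682966
theorem L682972 : sm ge N49590 = N47367 := ded_44_1 (flp_i L660356) L660346 L682966
theorem L682974 : sm gf N49590 = N49590 := ded_48_1 (flp_i L682966) L660355 L682966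
theorem L682975 : sm gj N49590 = N47371 := ded_53_1 (flp_i L660393) (flp_j L660350) L682966
theorem L682977 : sm gh N47367 = N49591 := rfl
theorem L682979 : sm gb N49591 = N47382 := ded_25_1 (flp_h L660499) (flp_b L660358) L682977
theorem L682981 : sm gf N49591 = N47374 := ded_47_1 (flp_h L660424) (flp_f L660362) L682977
theorem L682983 : sm gj N49591 = N47372 := ded_52_1 (flp_h L660404) (flp_j L660364) L682977
theorem L682985 : sm gi N49591 = N49591 := ded_54_2 (flp_h L682977) (flp_i L660356) L361155 L660356 L682977
theorem L682986 : sm ga N47368 = N49592 := rfl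
theorem L682988 : sm gc N49592 = N47383 := ded_11_2 (flp_a L660509) (flp_c L660375) L682986
theorem L682990 : sm gf N49592 = N47375 := ded_14_2 (flp_a L660434) (flp_f L660368) L682986
theorem L682992 : sm gg N49592 = N48285 := ded_15_2 (flp_a L669278) (flp_g L660370) L682986
theorem L682994 : sm gj N49592 = N48152 := ded_16_2 L668343 (flp_j L660372) L682986
theorem L682996 : sm gh N49592 = N49592 := ded_17_2 (flp_a L682986) L660374 L682986
theorem L682997 : sm ge N47368 = N49593 := rfl
theorem L682999 : sm gb N49593 = N47369 := ded_21_1 (flp_e L660377) L660366 L682997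
theorem L683001 : sm gc N49593 = N47384 := ded_28_1 (flp_e L660521) (flp_c L660375) L682997
theorem L683003 : sm gg N49593 = N48286 := ded_41_2 (flp_e L669285) (flp_g L660370) L682997
theorem L683005 : sm gj N49593 = N48186 := ded_42_2 (flp_e L668575) (flp_j L660372) L682997
theorem L683007 : sm gh N49593 = N49593 := ded_43_2 (flp_e L682997) L660374 L682997
theorem L683008 : sm gf N49593 = N49593 := ded_40_2 (flp_e L682997) L660368 L361210 (flp_f L660368) L682997
theorem L683009 : sm gi N47368 = N49594 := rfl
theorem L683011 : sm gb N49594 = N47370 := ded_26_1 (flp_i L660385) L660366 L683009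
theorem L683013 : sm gc N49594 = N47385 := ded_33_1 (flp_i L660533) (flp_c L660375) L683009
theorem L683015 : sm gf N49594 = N47376 := ded_48_1 (flp_i L660444) (flp_f L660368) L683009
theorem L683017 : sm gg N49594 = N48287 := ded_51_1 (flp_i L669294) (flp_g L660370) L683009
theorem L683019 : sm gj N49594 = N48187 := ded_53_1 (flp_i L668581) (flp_j L660372) L683009
theorem L683021 : sm gd N47369 = N49595 := rfl
theorem L683023 : sm gf N49595 = N49595 := ded_35_2 (flp_d L683021) L660384 L683021
theorem L683024 : sm gg N49595 = N48288 := ded_36_2 (flp_d L669302) (flp_g L660381) L683021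
theorem L683026 : sm gc N49595 = N47654 := ded_27_1 (flp_d L663238) L364319 (flp_d L361180) (flp_c L660379) L683021
theorem L683028 : sm gi N47369 = N49596 := rfl
theorem L683030 : sm gc N49596 = N47371 := ded_33_1 (flp_i L660393) (flp_c L660379) L683028
theorem L683032 : sm ge N49596 = N47370 := ded_44_1 (flp_i L660385) L660377 L683028
theorem L683034 : sm gf N49596 = N49596 := ded_48_1 (flp_i L683028) L660384 L683028
theorem L683035 : sm gg N49596 = N48289 := ded_51_1 (flp_i L669308) (flp_g L660381) L683028
theorem L683037 : sm gh N47370 = N49597 := rfl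
theorem L683039 : sm gc N49597 = N47372 := ded_32_1 (flp_h L660404) (flp_c L660387) L683037
theorem L683041 : sm gf N49597 = N47377 := ded_47_1 (flp_h L660455) (flp_f L660389) L683037
theorem L683043 : sm gg N49597 = N48290 := ded_50_1 (flp_h L669316) (flp_g L660391) L683037
theorem L683045 : sm gi N49597 = N49597 := ded_54_2 (flp_h L683037) (flp_i L660385) L361172 L660385 L683037
theorem L683046 : sm gh N47371 = N49598 := rfl
theorem L683048 : sm gb N49598 = N47388 := ded_25_1 (flp_h L660573) (flp_b L660395) L683046
theorem L683050 : sm ge N49598 = N47372 := ded_43_1 (flp_h L660404) (flp_e L660399) L683046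
theorem L683052 : sm gf N49598 = N49598 := ded_47_1 (flp_h L683046) L660401 L683046
theorem L683053 : sm gg N49598 = N48291 := ded_50_1 (flp_h L669323) (flp_g L660402) L683046
theorem L683055 : sm gi N49598 = N49598 := ded_54_2 (flp_h L683046) (flp_i L660393) L361179 L660393 L683046
theorem L683056 : sm gh N47373 = N49599 := rfl
theorem L683058 : sm gb N49599 = N48190 := ded_25_1 (flp_h L668605) (flp_b L660415) L683056
theorem L683060 : sm gc N49599 = N47374 := ded_32_1 (flp_h L660424) (flp_c L660417) L683056
theorem L683062 : sm ge N49599 = N49599 := ded_43_1 (flp_h L683056) L660419 L683056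
theorem L683063 : sm gg N49599 = N48192 := ded_50_1 (flp_h L668620) (flp_g L660420) L683056
theorem L683065 : sm gj N49599 = N47377 := ded_52_1 (flp_h L660455) (flp_j L660422) L683056
theorem L683067 : sm gi N49599 = N49599 := ded_54_2 (flp_h L683056) (flp_i L660413) L361198 L660413 L683056
theorem L683068 : sm gi N47375 = N49600 := rfl
theorem L683070 : sm ga N49600 = N47376 := ded_18_1 (flp_i L660444) L660434 L683068
theorem L683072 : sm gc N49600 = N47389 := ded_33_1 (flp_i L660582) (flp_c L660436) L683068
theorem L683074 : sm ge N49600 = N49600 := ded_44_1 (flp_i L683068) L660438 L683068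
theorem L683075 : sm gg N49600 = N47378 := ded_51_1 (flp_i L660463) (flp_g L660439) L683068
theorem L683077 : sm gj N49600 = N48155 := ded_53_1 (flp_i L668364) (flp_j L660441) L683068
theorem L683079 : sm gh N47376 = N49601 := rfl
theorem L683081 : sm gb N49601 = N47377 := ded_25_1 (flp_h L660455) (flp_b L660446) L683079
theorem L683083 : sm gc N49601 = N47390 := ded_32_1 (flp_h L660594) (flp_c L660448) L683079
theorem L683085 : sm ge N49601 = N49601 := ded_43_1 (flp_h L683079) L660450 L683079
theorem L683086 : sm gg N49601 = N47379 := ded_50_1 (flp_h L660472) (flp_g L660451) L683079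
theorem L683088 : sm gj N49601 = N48190 := ded_52_1 (flp_h L668605) (flp_j L660453) L683079
theorem L683090 : sm gi N49601 = N49601 := ded_54_2 (flp_h L683079) (flp_i L660444) L361213 L660444 L683079
theorem L683091 : sm gd N47377 = N49602 := rfl
theorem L683093 : sm gg N49602 = N47380 := ded_36_2 (flp_d L660482) (flp_g L660460) L683091
theorem L683095 : sm gi N49602 = N49602 := ded_39_2 (flp_d L683091) L660462 L683091
theorem L683096 : sm gh N47378 = N49603 := rfl
theorem L683098 : sm ga N49603 = N47379 := ded_17_1 (flp_h L660472) (flp_a L660465) L683096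
theorem L683100 : sm gc N49603 = N47391 := ded_32_1 (flp_h L660606) (flp_c L660467) L683096
theorem L683102 : sm ge N49603 = N49603 := ded_43_1 (flp_h L683096) L660469 L683096
theorem L683103 : sm gf N49603 = N48297 := ded_47_1 (flp_h L669377) (flp_f L660470) L683096
theorem L683105 : sm gi N49603 = N49603 := ded_54_2 (flp_h L683096) (flp_i L660463) L361238 L660463 L683096
theorem L683106 : sm gd N47379 = N49604 := rfl
theorem L683108 : sm gb N49604 = N47380 := ded_20_1 (flp_d L660482) (flp_b L660474) L683106
theorem L683110 : sm gf N49604 = N48298 := ded_35_2 (flp_d L669386) (flp_f L660479) L683106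
theorem L683112 : sm gi N49604 = N49604 := ded_39_2 (flp_d L683106) L660481 L683106
theorem L683113 : sm ge N47380 = N49605 := rfl
theorem L683115 : sm gi N49605 = N49605 := ded_44_2 (flp_e L683113) L660486 L683113
theorem L683116 : sm gd N49605 = N49605 := ded_34_1 (flp_e L683113) (flp_d L660482) L361252 L660482 L683113
theorem L683117 : sm gh N47381 = N49606 := rfl
theorem L683119 : sm ga N49606 = N49606 := ded_17_1 (flp_h L683117) L660489 L683117
theorem L683120 : sm gc N49606 = N48194 := ded_32_1 (flp_h L668633) (flp_c L660490) L683117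
theorem L683122 : sm ge N49606 = N47382 := ded_43_1 (flp_h L660499) (flp_e L660494) L683117
theorem L683124 : sm gf N49606 = N49606 := ded_47_1 (flp_h L683117) L660496 L683117
theorem L683125 : sm gj N49606 = N47388 := ded_52_1 (flp_h L660573) (flp_j L660497) L683117
theorem L683127 : sm gi N49606 = N49606 := ded_54_2 (flp_h L683117) (flp_i L660487) L361286 L660487 L683117
theorem L683128 : sm ge N47383 = N49607 := rfl
theorem L683130 : sm ga N49607 = N47384 := ded_13_1 (flp_e L660521) L660509 L683128
theorem L683132 : sm gb N49607 = N49607 := ded_21_1 (flp_e L683128) L660520 L683128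
theorem L683133 : sm gg N49607 = N48306 := ded_41_2 (flp_e L669456) (flp_g L660515) L683128
theorem L683135 : sm gj N49607 = N47690 := ded_42_2 L663651 (flp_j L660517) L683128
theorem L683137 : sm gh N49607 = N49607 := ded_43_2 (flp_e L683128) L660519 L683128
theorem L683138 : sm gd N49607 = N47689 := ded_34_1 L663638 L562214 (flp_e L382555) (flp_d L660511) L683128
theorem L683140 : sm gf N49607 = N49607 := ded_40_2 (flp_e L683128) L660513 L361365 (flp_f L660513) L683128
theorem L683141 : sm gi N47383 = N49608 := rfl
theorem L683143 : sm ga N49608 = N47385 := ded_18_1 (flp_i L660533) L660509 L683141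
theorem L683145 : sm gb N49608 = N49608 := ded_26_1 (flp_i L683141) L660520 L683141
theorem L683146 : sm gd N49608 = N48151 := ded_39_1 (flp_i L668328) (flp_d L660511) L683141
theorem L683148 : sm gf N49608 = N47389 := ded_48_1 (flp_i L660582) (flp_f L660513) L683141
theorem L683150 : sm gg N49608 = N48307 := ded_51_1 (flp_i L669464) (flp_g L660515) L683141
theorem L683152 : sm gj N49608 = N48153 := ded_53_1 (flp_i L668348) (flp_j L660517) L683141
theorem L683154 : sm gi N47384 = N49609 := rfl
theorem L683156 : sm gb N49609 = N47386 := ded_26_1 (flp_i L660545) (flp_b L660523) L683154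
theorem L683158 : sm gd N49609 = N48377 := ded_39_1 (flp_i L670023) (flp_d L660530) L683154
theorem L683160 : sm ge N49609 = N47385 := ded_44_1 (flp_i L660533) L660521 L683154
theorem L683162 : sm gf N49609 = N49609 := ded_48_1 (flp_i L683154) L660532 L683154
theorem L683163 : sm gg N49609 = N48309 := ded_51_1 (flp_i L669485) (flp_g L660525) L683154
theorem L683165 : sm gj N49609 = N48188 := ded_53_1 (flp_i L668587) (flp_j L660527) L683154
theorem L683167 : sm gh N47385 = N49610 := rfl
theorem L683169 : sm gb N49610 = N47387 := ded_25_1 (flp_h L660559) (flp_b L660535) L683167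
theorem L683171 : sm gf N49610 = N47390 := ded_47_1 (flp_h L660594) (flp_f L660539) L683167
theorem L683173 : sm gg N49610 = N48310 := ded_50_1 (flp_h L669493) (flp_g L660541) L683167
theorem L683175 : sm gj N49610 = N48189 := ded_52_1 (flp_h L668596) (flp_j L660543) L683167
theorem L683177 : sm gd N49610 = N48284 := ded_38_1 (flp_h L669269) L384224 (flp_h L382910) (flp_d L660537) L683167
theorem L683179 : sm gi N49610 = N49610 := ded_54_2 (flp_h L683167) (flp_i L660533) L361305 L660533 L683167
theorem L683180 : sm gh N47386 = N49611 := rfl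
theorem L683182 : sm ga N49611 = N49611 := ded_17_1 (flp_h L683180) L660547 L683180
theorem L683183 : sm gc N49611 = N47388 := ded_32_1 (flp_h L660573) (flp_c L660548) L683180
theorem L683185 : sm ge N49611 = N47387 := ded_43_1 (flp_h L660559) (flp_e L660552) L683180
theorem L683187 : sm gf N49611 = N49611 := ded_47_1 (flp_h L683180) L660554 L683180
theorem L683188 : sm gg N49611 = N48312 := ded_50_1 (flp_h L669517) (flp_g L660555) L683180
theorem L683190 : sm gj N49611 = N48194 := ded_52_1 (flp_h L668633) (flp_j L660557) L683180
theorem L683192 : sm gd N49611 = N48069 := ded_38_1 (flp_h L667578) (flp_d L667567) L667576 (flp_d L660550) L683180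
theorem L683194 : sm gi N49611 = N49611 := ded_54_2 (flp_h L683180) (flp_i L660545) L361313 L660545 L683180
theorem L683195 : sm gd N47388 = N49612 := rfl
theorem L683197 : sm ga N49612 = N49612 := ded_12_1 (flp_d L683195) L660575 L683195
theorem L683198 : sm gf N49612 = N49612 := ded_35_2 (flp_d L683195) L660578 L683195
theorem L683199 : sm gg N49612 = N48063 := ded_36_2 L667527 (flp_g L660579) L683195
theorem L683201 : sm gi N49612 = N49612 := ded_39_2 (flp_d L683195) L660581 L683195
theorem L683202 : sm gc N49612 = N48060 := ded_27_1 L667493 (flp_c L667581) (flp_d L683192) L683183 L683195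
theorem L683204 : sm gh N49612 = N47681 := ded_38_2 (flp_d L663556) (flp_h L364563) (flp_d L361327) L660573 L683195
theorem L683206 : sm gh N47389 = N49613 := rfl
theorem L683208 : sm ga N49613 = N47390 := ded_17_1 (flp_h L660594) (flp_a L660584) L683206
theorem L683210 : sm gb N49613 = N49613 := ded_25_1 (flp_h L683206) L660586 L683206
theorem L683211 : sm ge N49613 = N49613 := ded_43_1 (flp_h L683206) L660589 L683206
theorem L683212 : sm gg N49613 = N47391 := ded_50_1 (flp_h L660606) (flp_g L660590) L683206
theorem L683214 : sm gj N49613 = N48156 := ded_52_1 (flp_h L668373) (flp_j L660592) L683206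
theorem L683216 : sm gd N49613 = N48223 := ded_38_1 (flp_h L668858) L383762 (flp_h L382598) (flp_d L660587) L683206
theorem L683218 : sm gi N49613 = N49613 := ded_54_2 (flp_h L683206) (flp_i L660582) L361368 L660582 L683206
theorem L683219 : sm gi N47395 = N49614 := rfl
theorem L683221 : sm ga N49614 = N47402 := ded_18_1 (flp_i L660743) (flp_a L660654) L683219
theorem L683223 : sm gb N49614 = N47499 := ded_26_1 L661833 (flp_b L660656) L683219
theorem L683225 : sm gc N49614 = N47432 := ded_33_1 (flp_i L661085) (flp_c L660658) L683219
theorem L683227 : sm gd N49614 = N47498 := ded_39_1 L661826 (flp_d L660665) L683219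
theorem L683229 : sm ge N49614 = N47396 := ded_44_1 (flp_i L660667) L660652 L683219
theorem L683231 : sm gg N49614 = N47397 := ded_51_1 (flp_i L660677) (flp_g L660660) L683219
theorem L683233 : sm gj N49614 = N48739 := ded_53_1 (flp_i L672920) (flp_j L660662) L683219
theorem L683235 : sm gh N47396 = N49615 := rfl
theorem L683237 : sm ga N49615 = N47403 := ded_17_1 (flp_h L660756) (flp_a L660669) L683235
theorem L683239 : sm gc N49615 = N47433 := ded_32_1 (flp_h L661093) (flp_c L660671) L683235
theorem L683241 : sm gg N49615 = N47398 := ded_50_1 (flp_h L660692) (flp_g L660675) L683235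
theorem L683243 : sm gd N49615 = N49615 := ded_38_1 (flp_h L683235) L660673 L361586 (flp_d L660673) L683235
theorem L683244 : sm gi N49615 = N49615 := ded_54_2 (flp_h L683235) (flp_i L660667) L361577 L660667 L683235
theorem L683245 : sm gh N47400 = N49616 := rfl
theorem L683247 : sm gb N49616 = N49616 := ded_25_1 (flp_h L683245) L660723 L683245
theorem L683248 : sm gc N49616 = N47472 := ded_32_1 (flp_h L661488) (flp_c L660724) L683245
theorem L683250 : sm ge N49616 = N48740 := ded_43_1 (flp_h L672927) (flp_e L660728) L683245
theorem L683252 : sm gg N49616 = N49616 := ded_50_1 (flp_h L683245) L660730 L683245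
theorem L683253 : sm gj N49616 = N47403 := ded_52_1 (flp_h L660756) (flp_j L660731) L683245
theorem L683255 : sm gd N49616 = N49616 := ded_38_1 (flp_h L683245) L660726 L361835 (flp_d L660726) L683245
theorem L683256 : sm gi N49616 = N49616 := ded_54_2 (flp_h L683245) (flp_i L660721) L361826 L660721 L683245
theorem L683257 : sm gg N47401 = N49617 := rfl
theorem L683259 : sm ga N49617 = N48302 := ded_15_1 (flp_g L681322) L681316 L683257
theorem L683261 : sm gb N49617 = N49617 := ded_23_1 (flp_g L683257) L660735 L683257
theorem L683262 : sm gc N49617 = N47473 := ded_30_1 (flp_g L661496) (flp_c L660736) L683257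
theorem L683264 : sm gd N49617 = N48545 := ded_36_1 L671377 (flp_d L660738) L683257
theorem L683266 : sm ge N49617 = N48301 := ded_41_1 (flp_g L680115) L680113 L683257
theorem L683268 : sm gh N49617 = N49617 := ded_50_2 (flp_g L683257) L660742 L683257
theorem L683269 : sm gf N49617 = N47404 := ded_45_1 (flp_g L660765) (flp_f L361853) (flp_g L361841) L660733 L683257
theorem L683271 : sm gj N49617 = N48306 := ded_49_2 (flp_g L683133) L683135 L663649 (flp_j L660740) L683257
theorem L683273 : sm gi N47401 = N49618 := rfl
theorem L683275 : sm gb N49618 = N49618 := ded_26_1 (flp_i L683273) L660735 L683273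
theorem L683276 : sm gc N49618 = N47474 := ded_33_1 (flp_i L661503) (flp_c L660736) L683273
theorem L683278 : sm gd N49618 = N48546 := ded_39_1 (flp_i L671379) (flp_d L660738) L683273
theorem L683280 : sm gf N49618 = N47402 := ded_48_1 (flp_i L660743) L660733 L683273
theorem L683282 : sm gj N49618 = N48547 := ded_53_1 (flp_i L671390) (flp_j L660740) L683273
theorem L683284 : sm gh N47402 = N49619 := rfl
theorem L683286 : sm gb N49619 = N49619 := ded_25_1 (flp_h L683284) L660745 L683284
theorem L683287 : sm gc N49619 = N47475 := ded_32_1 (flp_h L661507) (flp_c L660746) L683284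
theorem L683289 : sm ge N49619 = N47403 := ded_43_1 (flp_h L660756) (flp_e L660750) L683284
theorem L683291 : sm gg N49619 = N47406 := ded_50_1 (flp_h L660793) (flp_g L660752) L683284
theorem L683293 : sm gj N49619 = N48740 := ded_52_1 (flp_h L672927) (flp_j L660754) L683284
theorem L683295 : sm gd N49619 = N48744 := ded_38_1 (flp_h L672956) L651237 (flp_h L651205) (flp_d L660748) L683284
theorem L683297 : sm gi N49619 = N49619 := ded_54_2 (flp_h L683284) (flp_i L660743) L361843 L660743 L683284
theorem L683298 : sm gi N47404 = N49620 := rfl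
theorem L683300 : sm ga N49620 = N48393 := ded_18_1 L670187 (flp_a L660767) L683298
theorem L683302 : sm gb N49620 = N49620 := ded_26_1 (flp_i L683298) L660769 L683298
theorem L683303 : sm gc N49620 = N47477 := ded_33_1 (flp_i L661526) (flp_c L660770) L683298
theorem L683305 : sm gd N49620 = N48392 := ded_39_1 L670177 (flp_d L660772) L683298
theorem L683307 : sm ge N49620 = N47407 := ded_44_1 (flp_i L660802) (flp_e L660774) L683298
theorem L683309 : sm gg N49620 = N47405 := ded_51_1 (flp_i L660779) L660765 L683298
theorem L683311 : sm gj N49620 = N48639 := ded_53_1 (flp_i L672090) L660777 L683298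
theorem L683313 : sm gh N47405 = N49621 := rfl
theorem L683315 : sm ga N49621 = N47912 := ded_17_1 L666144 (flp_a L660781) L683313
theorem L683317 : sm gb N49621 = N49621 := ded_25_1 (flp_h L683313) L660783 L683313
theorem L683318 : sm gc N49621 = N47478 := ded_32_1 (flp_h L661534) (flp_c L660784) L683313
theorem L683320 : sm ge N49621 = N47408 := ded_43_1 (flp_h L660816) (flp_e L660788) L683313
theorem L683322 : sm gf N49621 = N47406 := ded_47_1 (flp_h L660793) (flp_f L660790) L683313
theorem L683324 : sm gj N49621 = N49621 := ded_52_1 (flp_h L683313) L660792 L683313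
theorem L683325 : sm gd N49621 = N47911 := ded_38_1 (flp_h L666131) L378879 L385964 (flp_d L660786) L683313
theorem L683327 : sm gi N49621 = N49621 := ded_54_2 (flp_h L683313) (flp_i L660779) L361859 L660779 L683313
theorem L683328 : sm gh N47407 = N49622 := rfl
theorem L683330 : sm ga N49622 = N48637 := ded_17_1 (flp_h L672071) (flp_a L660804) L683328
theorem L683332 : sm gb N49622 = N49622 := ded_25_1 (flp_h L683328) L660806 L683328
theorem L683333 : sm gc N49622 = N47481 := ded_32_1 (flp_h L661565) (flp_c L660807) L683328
theorem L683335 : sm gf N49622 = N48644 := ded_47_1 (flp_h L672131) (flp_f L660810) L683328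
theorem L683337 : sm gg N49622 = N47408 := ded_50_1 (flp_h L660816) (flp_g L660812) L683328
theorem L683339 : sm gj N49622 = N48640 := ded_52_1 (flp_h L672098) (flp_j L660814) L683328
theorem L683341 : sm gi N49622 = N49622 := ded_54_2 (flp_h L683328) (flp_i L660802) L361886 L660802 L683328
theorem L683342 : sm gd N47408 = N49623 := rfl
theorem L683344 : sm gb N49623 = N49623 := ded_20_1 (flp_d L683342) L660818 L683342
theorem L683345 : sm gf N49623 = N47409 := ded_35_2 (flp_d L660825) (flp_f L660821) L683342
theorem L683347 : sm gj N49623 = N49623 := ded_37_2 (flp_d L683342) L660823 L683342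
theorem L683348 : sm gi N49623 = N49623 := ded_39_2 (flp_d L683342) L660824 L683342
theorem L683349 : sm gh N49623 = N49623 := ded_38_2 (flp_d L683342) (flp_h L660816) L361892 L660816 L683342
theorem L683350 : sm gh N47411 = N49624 := rfl
theorem L683352 : sm ga N49624 = N48034 := ded_17_1 L667288 (flp_a L660850) L683350
theorem L683354 : sm gb N49624 = N47420 := ded_25_1 (flp_h L660957) (flp_b L660852) L683350
theorem L683356 : sm gc N49624 = N49624 := ded_32_1 (flp_h L683350) L660854 L683350
theorem L683357 : sm gf N49624 = N47413 := ded_47_1 (flp_h L660872) (flp_f L660857) L683350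
theorem L683359 : sm gj N49624 = N47412 := ded_52_1 (flp_h L660861) L660848 L683350
theorem L683361 : sm gd N47412 = N49625 := rfl
theorem L683363 : sm ga N49625 = N48018 := ded_12_1 L667149 (flp_a L660863) L683361
theorem L683365 : sm gb N49625 = N47421 := ded_20_1 (flp_d L660967) (flp_b L660865) L683361
theorem L683367 : sm gf N49625 = N47414 := ded_35_2 (flp_d L660884) (flp_f L660868) L683361
theorem L683369 : sm gg N49625 = N47943 := ded_36_2 L666458 (flp_g L660870) L683361
theorem L683371 : sm gh N49625 = N48348 := ded_38_2 L669806 L385676 (flp_d L552070) L660861 L683361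
theorem L683373 : sm gi N47412 = N49626 := rfl
theorem L683375 : sm ga N49626 = N48035 := ded_18_1 (flp_i L667290) (flp_a L660863) L683373
theorem L683377 : sm gb N49626 = N47422 := ded_26_1 (flp_i L660979) (flp_b L660865) L683373
theorem L683379 : sm gc N49626 = N49626 := ded_33_1 (flp_i L683373) L660867 L683373
theorem L683380 : sm gf N49626 = N47415 := ded_48_1 (flp_i L660894) (flp_f L660868) L683373
theorem L683382 : sm gg N49626 = N47952 := ded_51_1 (flp_i L666544) (flp_g L660870) L683373
theorem L683384 : sm gh N49626 = N47510 := ded_54_1 (flp_i L661945) (flp_h L363222) (flp_i L362171) L660861 L683373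
theorem L683386 : sm gd N47413 = N49627 := rfl
theorem L683388 : sm ga N49627 = N48030 := ded_12_1 L667252 (flp_a L660874) L683386
theorem L683390 : sm gb N49627 = N47423 := ded_20_1 (flp_d L660991) (flp_b L660876) L683386
theorem L683392 : sm gg N49627 = N49627 := ded_36_2 (flp_d L683386) L660881 L683386
theorem L683393 : sm gj N49627 = N47414 := ded_37_2 (flp_d L660884) (flp_j L660882) L683386
theorem L683395 : sm gh N49627 = N48354 := ded_38_2 L669840 L385716 (flp_d L552066) L660872 L683386
theorem L683397 : sm gi N47413 = N49628 := rfl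
theorem L683399 : sm ga N49628 = N48036 := ded_18_1 (flp_i L667299) (flp_a L660874) L683397
theorem L683401 : sm gb N49628 = N47424 := ded_26_1 (flp_i L661002) (flp_b L660876) L683397
theorem L683403 : sm gc N49628 = N49628 := ded_33_1 (flp_i L683397) L660878 L683397
theorem L683404 : sm ge N49628 = N47418 := ded_44_1 (flp_i L660932) (flp_e L660879) L683397
theorem L683406 : sm gg N49628 = N49628 := ded_51_1 (flp_i L683397) L660881 L683397
theorem L683407 : sm gj N49628 = N47415 := ded_53_1 (flp_i L660894) (flp_j L660882) L683397
theorem L683409 : sm gh N49628 = N47512 := ded_54_1 (flp_i L661961) (flp_h L363231) (flp_i L362182) L660872 L683397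
theorem L683411 : sm gc N47414 = N49629 := rfl
theorem L683413 : sm ga N49629 = N48026 := ded_11_1 L667225 (flp_a L660886) L683411
theorem L683415 : sm ge N49629 = N47744 := ded_28_2 (flp_c L676970) L676974 L683411
theorem L683417 : sm gg N49629 = N47416 := ded_30_2 (flp_c L660907) (flp_g L660890) L683411
theorem L683419 : sm gh N49629 = N47884 := ded_32_2 L665863 (flp_h L660892) L683411
theorem L683421 : sm gb N49629 = N47745 := ded_19_1 L664352 L378389 (flp_c L508367) (flp_b L660888) L683411
theorem L683423 : sm gd N49629 = N49629 := ded_27_2 (flp_c L683411) (flp_d L660884) L362189 L660884 L683411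
theorem L683424 : sm gi N47414 = N49630 := rfl
theorem L683426 : sm ga N49630 = N48031 := ded_18_1 (flp_i L667255) (flp_a L660886) L683424
theorem L683428 : sm gb N49630 = N47426 := ded_26_1 (flp_i L661027) (flp_b L660888) L683424
theorem L683430 : sm gd N49630 = N47415 := ded_39_1 (flp_i L660894) L660884 L683424
theorem L683432 : sm gg N49630 = N47417 := ded_51_1 (flp_i L660921) (flp_g L660890) L683424
theorem L683434 : sm gi N47416 = N49631 := rfl
theorem L683436 : sm ga N49631 = N48027 := ded_18_1 (flp_i L667228) (flp_a L660909) L683434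
theorem L683438 : sm gb N49631 = N47666 := ded_26_1 L663371 (flp_b L660918) L683434
theorem L683440 : sm gc N49631 = N47417 := ded_33_1 (flp_i L660921) L660907 L683434
theorem L683442 : sm gd N49631 = N49631 := ded_39_1 (flp_i L683434) L660920 L683434
theorem L683443 : sm ge N49631 = N47665 := ded_44_1 L663362 (flp_e L660911) L683434
theorem L683445 : sm gf N49631 = N47947 := ded_48_1 (flp_i L666489) (flp_f L660913) L683434
theorem L683447 : sm gj N49631 = N49631 := ded_53_1 (flp_i L683434) L660915 L683434
theorem L683448 : sm gh N47417 = N49632 := rfl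
theorem L683450 : sm ga N49632 = N48032 := ded_17_1 (flp_h L667263) (flp_a L660923) L683448
theorem L683452 : sm gb N49632 = N47428 := ded_25_1 (flp_h L661048) (flp_b L660925) L683448
theorem L683454 : sm gf N49632 = N47949 := ded_47_1 (flp_h L666506) (flp_f L660929) L683448
theorem L683456 : sm gj N49632 = N49632 := ded_52_1 (flp_h L683448) L660931 L683448
theorem L683457 : sm gd N49632 = N47516 := ded_38_1 (flp_h L661992) L363273 (flp_h L362211) (flp_d L660927) L683448
theorem L683459 : sm gi N49632 = N48368 := ded_54_2 (flp_h L669951) (flp_i L385479) (flp_h L552110) L660921 L683448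
theorem L683461 : sm gh N47419 = N49633 := rfl
theorem L683463 : sm ga N49633 = N47449 := ded_17_1 (flp_h L661271) (flp_a L660946) L683461
theorem L683465 : sm gc N49633 = N47435 := ded_32_1 (flp_h L661110) (flp_c L660948) L683461
theorem L683467 : sm gf N49633 = N49633 := ded_47_1 (flp_h L683461) L660954 L683461
theorem L683468 : sm gg N49633 = N47420 := ded_50_1 (flp_h L660957) L660944 L683461
theorem L683470 : sm gj N49633 = N48322 := ded_52_1 (flp_h L669598) (flp_j L660955) L683461
theorem L683472 : sm gd N47420 = N49634 := rfl
theorem L683474 : sm ga N49634 = N47450 := ded_12_1 (flp_d L661280) (flp_a L660959) L683472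
theorem L683476 : sm gf N49634 = N47423 := ded_35_2 (flp_d L660991) (flp_f L660963) L683472
theorem L683478 : sm gj N49634 = N47421 := ded_37_2 (flp_d L660967) (flp_j L660965) L683472
theorem L683480 : sm gc N49634 = N48333 := ded_27_1 (flp_d L669687) L385269 (flp_d L508512) (flp_c L660961) L683472
theorem L683482 : sm gh N49634 = N48345 := ded_38_2 L669790 L385651 (flp_d L542917) L660957 L683472
theorem L683484 : sm gi N47420 = N49635 := rfl
theorem L683486 : sm ga N49635 = N47451 := ded_18_1 (flp_i L661286) (flp_a L660959) L683484
theorem L683488 : sm gc N49635 = N47436 := ded_33_1 (flp_i L661122) (flp_c L660961) L683484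
theorem L683490 : sm gf N49635 = N47424 := ded_48_1 (flp_i L661002) (flp_f L660963) L683484
theorem L683492 : sm gj N49635 = N47422 := ded_53_1 (flp_i L660979) (flp_j L660965) L683484
theorem L683494 : sm gh N49635 = N47531 := ded_54_1 (flp_i L662162) (flp_h L363501) (flp_i L362358) L660957 L683484
theorem L683496 : sm ge N47421 = N49636 := rfl
theorem L683498 : sm ga N49636 = N47453 := ded_13_1 (flp_e L661308) (flp_a L660969) L683496
theorem L683500 : sm gc N49636 = N48335 := ded_28_1 (flp_e L669705) (flp_c L660975) L683496
theorem L683502 : sm gg N49636 = N48325 := ded_41_2 (flp_e L669627) (flp_g L660973) L683496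
theorem L683504 : sm gh N49636 = N48349 := ded_43_2 (flp_e L669810) (flp_h L660977) L683496
theorem L683506 : sm gi N47421 = N49637 := rfl
theorem L683508 : sm ga N49637 = N47454 := ded_18_1 (flp_i L661312) (flp_a L660969) L683506
theorem L683510 : sm gc N49637 = N48336 := ded_33_1 (flp_i L669709) (flp_c L660975) L683506
theorem L683512 : sm gd N49637 = N47422 := ded_39_1 (flp_i L660979) L660967 L683506
theorem L683514 : sm gf N49637 = N47426 := ded_48_1 (flp_i L661027) (flp_f L660971) L683506
theorem L683516 : sm gg N49637 = N48326 := ded_51_1 (flp_i L669631) (flp_g L660973) L683506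
theorem L683518 : sm ge N47423 = N49638 := rfl
theorem L683520 : sm ga N49638 = N47456 := ded_13_1 (flp_e L661335) (flp_a L660993) L683518
theorem L683522 : sm gc N49638 = N48337 := ded_28_1 (flp_e L669715) (flp_c L660998) L683518
theorem L683524 : sm gg N49638 = N49638 := ded_41_2 (flp_e L683518) L660995 L683518
theorem L683525 : sm gj N49638 = N47425 := ded_42_2 (flp_e L661015) (flp_j L660996) L683518
theorem L683527 : sm gh N49638 = N48355 := ded_43_2 (flp_e L669845) (flp_h L661000) L683518
theorem L683529 : sm gd N49638 = N47429 := ded_34_1 (flp_e L661061) (flp_d L362424) (flp_e L362376) L660991 L683518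
theorem L683531 : sm gi N47423 = N49639 := rfl
theorem L683533 : sm ga N49639 = N47457 := ded_18_1 (flp_i L661344) (flp_a L660993) L683531
theorem L683535 : sm gc N49639 = N48338 := ded_33_1 (flp_i L669728) (flp_c L660998) L683531
theorem L683537 : sm gd N49639 = N47424 := ded_39_1 (flp_i L661002) L660991 L683531
theorem L683539 : sm gg N49639 = N49639 := ded_51_1 (flp_i L683531) L660995 L683531
theorem L683540 : sm gj N49639 = N47426 := ded_53_1 (flp_i L661027) (flp_j L660996) L683531
theorem L683542 : sm gf N47425 = N49640 := rfl
theorem L683544 : sm ga N49640 = N47461 := ded_14_1 (flp_f L661391) (flp_a L661017) L683542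
theorem L683546 : sm gc N49640 = N48339 := ded_29_1 (flp_f L669735) (flp_c L661019) L683542
theorem L683548 : sm gd N49640 = N47431 := ded_35_1 (flp_f L661080) (flp_d L661025) L683542
theorem L683550 : sm gh N49640 = N48362 := ded_47_2 (flp_f L669905) (flp_h L661023) L683542
theorem L683552 : sm gi N47425 = N49641 := rfl
theorem L683554 : sm ga N49641 = N47462 := ded_18_1 (flp_i L661395) (flp_a L661017) L683552
theorem L683556 : sm gc N49641 = N48340 := ded_33_1 (flp_i L669743) (flp_c L661019) L683552
theorem L683558 : sm gd N49641 = N47432 := ded_39_1 (flp_i L661085) (flp_d L661025) L683552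
theorem L683560 : sm ge N49641 = N47426 := ded_44_1 (flp_i L661027) L661015 L683552
theorem L683562 : sm gg N49641 = N47427 := ded_51_1 (flp_i L661037) (flp_g L661021) L683552
theorem L683564 : sm gh N47426 = N49642 := rfl
theorem L683566 : sm ga N49642 = N47463 := ded_17_1 (flp_h L661403) (flp_a L661029) L683564
theorem L683568 : sm gc N49642 = N48341 := ded_32_1 (flp_h L669753) (flp_c L661031) L683564
theorem L683570 : sm gg N49642 = N47428 := ded_50_1 (flp_h L661048) (flp_g L661035) L683564
theorem L683572 : sm gd N49642 = N47543 := ded_38_1 (flp_h L662278) L363567 (flp_h L362397) (flp_d L661033) L683564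
theorem L683574 : sm gi N49642 = N48364 := ded_54_2 (flp_h L669919) (flp_i L385442) (flp_h L508372) L661027 L683564
theorem L683576 : sm gh N47427 = N49643 := rfl
theorem L683578 : sm ga N49643 = N47469 := ded_17_1 (flp_h L661467) (flp_a L661039) L683576
theorem L683580 : sm gc N49643 = N48342 := ded_32_1 (flp_h L669761) (flp_c L661041) L683576
theorem L683582 : sm ge N49643 = N47428 := ded_43_1 (flp_h L661048) (flp_e L661045) L683576
theorem L683584 : sm gj N49643 = N49643 := ded_52_1 (flp_h L683576) L661047 L683576
theorem L683585 : sm gi N49643 = N48369 := ded_54_2 (flp_h L669956) (flp_i L385492) (flp_h L546898) L661037 L683576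
theorem L683587 : sm gi N47429 = N49644 := rfl
theorem L683589 : sm ga N49644 = N47471 := ded_18_1 (flp_i L661479) (flp_a L661063) L683587
theorem L683591 : sm gc N49644 = N48739 := ded_33_1 (flp_i L672920) (flp_c L661065) L683587
theorem L683593 : sm ge N49644 = N47430 := ded_44_1 (flp_i L661071) L661061 L683587
theorem L683595 : sm gg N49644 = N49644 := ded_51_1 (flp_i L683587) L661067 L683587
theorem L683596 : sm gj N49644 = N47432 := ded_53_1 (flp_i L661085) (flp_j L661068) L683587
theorem L683598 : sm gh N47430 = N49645 := rfl
theorem L683600 : sm ga N49645 = N47472 := ded_17_1 (flp_h L661488) (flp_a L661073) L683598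
theorem L683602 : sm gg N49645 = N49645 := ded_50_1 (flp_h L683598) L661077 L683598
theorem L683603 : sm gj N49645 = N47433 := ded_52_1 (flp_h L661093) (flp_j L661078) L683598
theorem L683605 : sm gd N49645 = N47550 := ded_38_1 (flp_h L662341) L363636 (flp_h L362441) (flp_d L661075) L683598
theorem L683607 : sm gi N49645 = N49645 := ded_54_2 (flp_h L683598) (flp_i L661071) L362431 L661071 L683598
theorem L683608 : sm gi N47431 = N49646 := rfl
theorem L683610 : sm ga N49646 = N47474 := ded_18_1 (flp_i L661503) (flp_a L661082) L683608
theorem L683612 : sm gf N49646 = N47432 := ded_48_1 (flp_i L661085) L661080 L683608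
theorem L683614 : sm gh N47432 = N49647 := rfl
theorem L683616 : sm ga N49647 = N47475 := ded_17_1 (flp_h L661507) (flp_a L661087) L683614
theorem L683618 : sm ge N49647 = N47433 := ded_43_1 (flp_h L661093) (flp_e L661089) L683614
theorem L683620 : sm gg N49647 = N47434 := ded_50_1 (flp_h L661102) (flp_g L661091) L683614
theorem L683622 : sm gi N49647 = N49647 := ded_54_2 (flp_h L683614) (flp_i L661085) L362449 L661085 L683614
theorem L683623 : sm gd N47434 = N49648 := rfl
theorem L683625 : sm ga N49648 = N47479 := ded_12_1 (flp_d L661544) (flp_a L661104) L683623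
theorem L683627 : sm gj N49648 = N49648 := ded_37_2 (flp_d L683623) L661108 L683623
theorem L683628 : sm gi N49648 = N49648 := ded_39_2 (flp_d L683623) L661109 L683623
theorem L683629 : sm ge N49648 = N47553 := ded_34_2 (flp_d L662367) L363687 (flp_d L362480) (flp_e L661106) L683623
theorem L683631 : sm gi N47435 = N49649 := rfl
theorem L683633 : sm ga N49649 = N47483 := ded_18_1 (flp_i L661587) (flp_a L661112) L683631
theorem L683635 : sm gb N49649 = N49649 := ded_26_1 (flp_i L683631) L661114 L683631
theorem L683636 : sm gd N49649 = N48548 := ded_39_1 (flp_i L671397) (flp_d L661120) L683631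
theorem L683638 : sm gf N49649 = N49649 := ded_48_1 (flp_i L683631) L661115 L683631
theorem L683639 : sm gg N49649 = N47436 := ded_51_1 (flp_i L661122) (flp_g L661116) L683631
theorem L683641 : sm gj N49649 = N48329 := ded_53_1 (flp_i L669656) (flp_j L661118) L683631
theorem L683643 : sm gh N49649 = N47555 := ded_54_1 (flp_i L662385) (flp_h L363726) (flp_i L362514) L661110 L683631
theorem L683645 : sm gh N47437 = N49650 := rfl
theorem L683647 : sm ga N49650 = N48375 := ded_17_1 L670012 (flp_a L661137) L683645
theorem L683649 : sm gc N49650 = N47689 := ded_32_1 (flp_h L663633) (flp_c L661139) L683645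
theorem L683651 : sm ge N49650 = N47440 := ded_43_1 (flp_h L661170) (flp_e L661141) L683645
theorem L683653 : sm gf N49650 = N49650 := ded_47_1 (flp_h L683645) L661143 L683645
theorem L683654 : sm gj N49650 = N47438 := ded_52_1 (flp_h L661146) L661135 L683645
theorem L683656 : sm gd N47438 = N49651 := rfl
theorem L683658 : sm ga N49651 = N48381 := ded_12_1 (flp_d L670067) (flp_a L661148) L683656
theorem L683660 : sm gf N49651 = N49651 := ded_35_2 (flp_d L683656) L661154 L683656
theorem L683661 : sm gg N49651 = N48330 := ded_36_2 (flp_d L669666) (flp_g L661155) L683656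
theorem L683663 : sm gi N47438 = N49652 := rfl
theorem L683665 : sm ga N49652 = N48382 := ded_18_1 (flp_i L670070) (flp_a L661148) L683663
theorem L683667 : sm gc N49652 = N47691 := ded_33_1 (flp_i L663654) (flp_c L661150) L683663
theorem L683669 : sm ge N49652 = N47442 := ded_44_1 (flp_i L661192) (flp_e L661152) L683663
theorem L683671 : sm gf N49652 = N49652 := ded_48_1 (flp_i L683663) L661154 L683663
theorem L683672 : sm gg N49652 = N48331 := ded_51_1 (flp_i L669670) (flp_g L661155) L683663
theorem L683674 : sm gh N49652 = N47570 := ded_54_1 (flp_i L662557) (flp_h L363874) (flp_i L362624) L661146 L683663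
theorem L683676 : sm gh N47439 = N49653 := rfl
theorem L683678 : sm ga N49653 = N48372 := ded_17_1 L669985 (flp_a L661159) L683676
theorem L683680 : sm gc N49653 = N47692 := ded_32_1 (flp_h L663666) (flp_c L661161) L683676
theorem L683682 : sm gf N49653 = N49653 := ded_47_1 (flp_h L683676) L661167 L683676
theorem L683683 : sm gg N49653 = N47440 := ded_50_1 (flp_h L661170) L661157 L683676
theorem L683685 : sm gj N49653 = N48332 := ded_52_1 (flp_h L669680) (flp_j L661168) L683676
theorem L683687 : sm gd N47440 = N49654 := rfl
theorem L683689 : sm ga N49654 = N48345 := ded_12_1 L669790 (flp_a L661172) L683687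
theorem L683691 : sm gf N49654 = N47443 := ded_35_2 (flp_d L661204) (flp_f L661176) L683687
theorem L683693 : sm gj N49654 = N47441 := ded_37_2 (flp_d L661180) (flp_j L661178) L683687
theorem L683695 : sm gc N49654 = N48323 := ded_27_1 (flp_d L669607) L384888 (flp_d L562214) (flp_c L661174) L683687
theorem L683697 : sm gh N49654 = N47450 := ded_38_2 (flp_d L661280) (flp_h L362699) (flp_d L362631) L661170 L683687
theorem L683699 : sm gi N47440 = N49655 := rfl
theorem L683701 : sm ga N49655 = N48376 := ded_18_1 (flp_i L670015) (flp_a L661172) L683699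
theorem L683703 : sm gc N49655 = N47693 := ded_33_1 (flp_i L663678) (flp_c L661174) L683699
theorem L683705 : sm gf N49655 = N47444 := ded_48_1 (flp_i L661215) (flp_f L661176) L683699
theorem L683707 : sm gj N49655 = N47442 := ded_53_1 (flp_i L661192) (flp_j L661178) L683699
theorem L683709 : sm gh N49655 = N47573 := ded_54_1 (flp_i L662583) (flp_h L363892) (flp_i L362635) L661170 L683699
theorem L683711 : sm ge N47441 = N49656 := rfl
theorem L683713 : sm ga N49656 = N48349 := ded_13_1 (flp_e L669810) (flp_a L661182) L683711
theorem L683715 : sm gc N49656 = N48325 := ded_28_1 (flp_e L669627) (flp_c L661188) L683711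
theorem L683717 : sm gg N49656 = N48335 := ded_41_2 (flp_e L669705) (flp_g L661186) L683711
theorem L683719 : sm gh N49656 = N47453 := ded_43_2 (flp_e L661308) (flp_h L661190) L683711
theorem L683721 : sm gi N47441 = N49657 := rfl
theorem L683723 : sm ga N49657 = N48350 := ded_18_1 (flp_i L669814) (flp_a L661182) L683721
theorem L683725 : sm gc N49657 = N48326 := ded_33_1 (flp_i L669631) (flp_c L661188) L683721
theorem L683727 : sm gd N49657 = N47442 := ded_39_1 (flp_i L661192) L661180 L683721
theorem L683729 : sm gf N49657 = N47446 := ded_48_1 (flp_i L661238) (flp_f L661184) L683721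
theorem L683731 : sm gg N49657 = N48336 := ded_51_1 (flp_i L669709) (flp_g L661186) L683721
theorem L683733 : sm ge N47443 = N49658 := rfl
theorem L683735 : sm ga N49658 = N48355 := ded_13_1 (flp_e L669845) (flp_a L661206) L683733
theorem L683737 : sm gc N49658 = N47919 := ded_28_1 L666228 (flp_c L661211) L683733
theorem L683739 : sm gg N49658 = N49658 := ded_41_2 (flp_e L683733) L661208 L683733
theorem L683740 : sm gj N49658 = N47445 := ded_42_2 (flp_e L661227) (flp_j L661209) L683733
theorem L683742 : sm gh N49658 = N47456 := ded_43_2 (flp_e L661335) (flp_h L661213) L683733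
theorem L683744 : sm gd N49658 = N49658 := ded_34_1 (flp_e L683733) (flp_d L661204) L362649 L661204 L683733
theorem L683745 : sm gi N47443 = N49659 := rfl
theorem L683747 : sm ga N49659 = N48356 := ded_18_1 (flp_i L669853) (flp_a L661206) L683745
theorem L683749 : sm gc N49659 = N48327 := ded_33_1 (flp_i L669639) (flp_c L661211) L683745
theorem L683751 : sm gd N49659 = N47444 := ded_39_1 (flp_i L661215) L661204 L683745
theorem L683753 : sm gg N49659 = N49659 := ded_51_1 (flp_i L683745) L661208 L683745
theorem L683754 : sm gj N49659 = N47446 := ded_53_1 (flp_i L661238) (flp_j L661209) L683745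
theorem L683756 : sm gf N47445 = N49660 := rfl
theorem L683758 : sm ga N49660 = N48362 := ded_14_1 (flp_f L669905) (flp_a L661229) L683756
theorem L683760 : sm gc N49660 = N47917 := ded_29_1 L666206 (flp_c L661231) L683756
theorem L683762 : sm gd N49660 = N49660 := ded_35_1 (flp_f L683756) L661237 L683756
theorem L683763 : sm gh N49660 = N47461 := ded_47_2 (flp_f L661391) (flp_h L661235) L683756
theorem L683765 : sm gi N47445 = N49661 := rfl
theorem L683767 : sm ga N49661 = N48363 := ded_18_1 (flp_i L669910) (flp_a L661229) L683765
theorem L683769 : sm gc N49661 = N47921 := ded_33_1 (flp_i L666246) (flp_c L661231) L683765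
theorem L683771 : sm gd N49661 = N49661 := ded_39_1 (flp_i L683765) L661237 L683765
theorem L683772 : sm ge N49661 = N47446 := ded_44_1 (flp_i L661238) L661227 L683765
theorem L683774 : sm gg N49661 = N47447 := ded_51_1 (flp_i L661248) (flp_g L661233) L683765
theorem L683776 : sm gh N47446 = N49662 := rfl
theorem L683778 : sm ga N49662 = N48364 := ded_17_1 (flp_h L669919) (flp_a L661240) L683776
theorem L683780 : sm gc N49662 = N48328 := ded_32_1 (flp_h L669648) (flp_c L661242) L683776
theorem L683782 : sm gg N49662 = N47448 := ded_50_1 (flp_h L661258) (flp_g L661246) L683776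
theorem L683784 : sm gd N49662 = N47585 := ded_38_1 (flp_h L662685) L363948 (flp_h L362666) (flp_d L661244) L683776
theorem L683786 : sm gi N49662 = N47463 := ded_54_2 (flp_h L661403) (flp_i L362751) (flp_h L362657) L661238 L683776
theorem L683788 : sm gh N47447 = N49663 := rfl
theorem L683790 : sm ga N49663 = N48369 := ded_17_1 (flp_h L669956) (flp_a L661250) L683788
theorem L683792 : sm gc N49663 = N47922 := ded_32_1 (flp_h L666258) (flp_c L661252) L683788
theorem L683794 : sm ge N49663 = N47448 := ded_43_1 (flp_h L661258) (flp_e L661255) L683788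
theorem L683796 : sm gj N49663 = N49663 := ded_52_1 (flp_h L683788) L661257 L683788
theorem L683797 : sm gi N49663 = N47469 := ded_54_2 (flp_h L661467) (flp_i L362785) (flp_h L362680) L661248 L683788
theorem L683799 : sm gd N47449 = N49664 := rfl
theorem L683801 : sm gf N49664 = N49664 := ded_35_2 (flp_d L683799) L661275 L683799
theorem L683802 : sm gg N49664 = N47450 := ded_36_2 (flp_d L661280) (flp_g L661276) L683799
theorem L683804 : sm gj N49664 = N48343 := ded_37_2 (flp_d L669770) (flp_j L661278) L683799
theorem L683806 : sm gi N47449 = N49665 := rfl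
theorem L683808 : sm gc N49665 = N47483 := ded_33_1 (flp_i L661587) (flp_c L661273) L683806
theorem L683810 : sm gf N49665 = N49665 := ded_48_1 (flp_i L683806) L661275 L683806
theorem L683811 : sm gg N49665 = N47451 := ded_51_1 (flp_i L661286) (flp_g L661276) L683806
theorem L683813 : sm gj N49665 = N48344 := ded_53_1 (flp_i L669775) (flp_j L661278) L683806
theorem L683815 : sm gh N49665 = N47594 := ded_54_1 (flp_i L662768) (flp_h L363998) (flp_i L362694) L661271 L683806
theorem L683817 : sm gc N47450 = N49666 := rfl
theorem L683819 : sm ga N49666 = N48333 := ded_11_1 (flp_c L683480) L683474 L683817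
theorem L683821 : sm gf N49666 = N47455 := ded_29_2 (flp_c L661320) (flp_f L661282) L683817
theorem L683823 : sm gj N49666 = N47452 := ded_31_2 (flp_c L661296) (flp_j L661284) L683817
theorem L683825 : sm gh N49666 = N48323 := ded_32_2 (flp_c L683695) L683697 L683817
theorem L683827 : sm gd N49666 = N47484 := ded_27_2 (flp_c L661598) (flp_d L362881) (flp_c L362701) L661280 L683817
theorem L683829 : sm gb N49666 = N48396 := ded_56_5 L670214 (flp_h L667078) (flp_f L667070) (flp_e L379812) (flp_d L261029) L179616 L123849 L85560 (flp_h L85558) (flp_f L85549) (flp_e L122943) (flp_d L176727) L176726 (flp_b L256625) (flp_a L621339) (flp_h L652041) L652039 L353614 L243401 L243399 L167831 L115879 (flp_h L631518) L84067 (flp_e L121651) L121649 L84723 (flp_b L86086) (flp_a L124586) L180893 (flp_f L262918) L262916 (flp_d L562068) (flp_c L362639) (flp_b L654053) L654051 L651147 L294306 L202525 L202523 L139542 L98165 L575073 L169060 (flp_f L245312) (flp_e L355088) L652933 L674542 L674556 (flp_a L681931) (flp_h L681929) (flp_f L679353) L679350 L679348 L658445 L658443 L359897 L360138 (flp_f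 L658870) L658868 L661280 L683817
theorem L683831 : sm ge N47450 = N49667 := rfl
theorem L683833 : sm gj N49667 = N47453 := ded_42_2 (flp_e L661308) (flp_j L661284) L683831
theorem L683835 : sm gi N47450 = N49668 := rfl
theorem L683837 : sm gd N49668 = N47451 := ded_39_1 (flp_i L661286) L661280 L683835
theorem L683839 : sm gf N49668 = N47457 := ded_48_1 (flp_i L661344) (flp_f L661282) L683835
theorem L683841 : sm gj N49668 = N47454 := ded_53_1 (flp_i L661312) (flp_j L661284) L683835
theorem L683843 : sm gb N47452 = N49669 := rfl
theorem L683845 : sm gd N49669 = N47487 := ded_20_2 (flp_b L661642) (flp_d L661306) L683843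
theorem L683847 : sm gf N49669 = N47458 := ded_22_2 (flp_b L661351) (flp_f L661300) L683843
theorem L683849 : sm gg N49669 = N48348 := ded_23_2 (flp_b L669804) (flp_g L661302) L683843
theorem L683851 : sm gj N49669 = N48396 := ded_24_2 (flp_b L683829) L683823 L683843
theorem L683853 : sm gh N49669 = N47943 := ded_25_2 L666456 (flp_h L661304) L683843
theorem L683855 : sm ga N49669 = N47985 := ded_10_1 L666869 (flp_a L665710) L665712 (flp_a L661298) L683843
theorem L683857 : sm ge N47452 = N49670 := rfl
theorem L683859 : sm ga N49670 = N48335 := ded_13_1 (flp_e L669705) (flp_a L661298) L683857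
theorem L683861 : sm gc N49670 = N47453 := ded_28_1 (flp_e L661308) L661296 L683857
theorem L683863 : sm gg N49670 = N48349 := ded_41_2 (flp_e L669810) (flp_g L661302) L683857
theorem L683865 : sm gh N49670 = N48325 := ded_43_2 (flp_e L669627) (flp_h L661304) L683857
theorem L683867 : sm gi N47452 = N49671 := rfl
theorem L683869 : sm ga N49671 = N48336 := ded_18_1 (flp_i L669709) (flp_a L661298) L683867
theorem L683871 : sm gc N49671 = N47454 := ded_33_1 (flp_i L661312) L661296 L683867
theorem L683873 : sm gd N49671 = N47489 := ded_39_1 (flp_i L661674) (flp_d L661306) L683867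
theorem L683875 : sm gf N49671 = N47460 := ded_48_1 (flp_i L661381) (flp_f L661300) L683867
theorem L683877 : sm gg N49671 = N48350 := ded_51_1 (flp_i L669814) (flp_g L661302) L683867
theorem L683879 : sm gf N47453 = N49672 := rfl
theorem L683881 : sm ge N49672 = N47461 := ded_40_1 (flp_f L661391) (flp_e L362745) (flp_f L362709) L661308 L683879
theorem L683883 : sm gi N47453 = N49673 := rfl
theorem L683885 : sm ge N49673 = N47454 := ded_44_1 (flp_i L661312) L661308 L683883
theorem L683887 : sm gg N49673 = N48352 := ded_51_1 (flp_i L669828) (flp_g L661310) L683883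
theorem L683889 : sm gh N47454 = N49674 := rfl
theorem L683891 : sm gf N49674 = N47463 := ded_47_1 (flp_h L661403) (flp_f L661316) L683889
theorem L683893 : sm gg N49674 = N48353 := ded_50_1 (flp_h L669832) (flp_g L661318) L683889
theorem L683895 : sm gd N49674 = N47603 := ded_38_1 (flp_h L662831) L364035 (flp_h L362721) (flp_d L661314) L683889
theorem L683897 : sm gi N47455 = N49675 := rfl
theorem L683899 : sm ga N49675 = N48338 := ded_18_1 (flp_i L669728) (flp_a L661322) L683897
theorem L683901 : sm gb N49675 = N48732 := ded_26_1 (flp_i L672877) L661331 L683897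
theorem L683903 : sm gc N49675 = N47457 := ded_33_1 (flp_i L661344) L661320 L683897
theorem L683905 : sm gd N49675 = N47491 := ded_39_1 (flp_i L661700) (flp_d L661329) L683897
theorem L683907 : sm ge N49675 = N48730 := ded_44_1 (flp_i L672865) L661333 L683897
theorem L683909 : sm gg N49675 = N49675 := ded_51_1 (flp_i L683897) L661324 L683897
theorem L683910 : sm gj N49675 = N47460 := ded_53_1 (flp_i L661381) (flp_j L661325) L683897
theorem L683912 : sm gf N47456 = N49676 := rfl
theorem L683914 : sm gc N49676 = N48330 := ded_29_1 L669668 (flp_c L661337) L683912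
theorem L683916 : sm gd N49676 = N47470 := ded_35_1 (flp_f L661472) (flp_d L661342) L683912
theorem L683918 : sm gj N49676 = N47461 := ded_46_2 (flp_f L661391) (flp_j L661340) L683912
theorem L683920 : sm gi N47456 = N49677 := rfl
theorem L683922 : sm gc N49677 = N48730 := ded_33_1 (flp_i L672865) (flp_c L661337) L683920
theorem L683924 : sm gd N49677 = N47471 := ded_39_1 (flp_i L661479) (flp_d L661342) L683920
theorem L683926 : sm ge N49677 = N47457 := ded_44_1 (flp_i L661344) L661335 L683920
theorem L683928 : sm gg N49677 = N49677 := ded_51_1 (flp_i L683920) L661339 L683920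
theorem L683929 : sm gj N49677 = N47462 := ded_53_1 (flp_i L661395) (flp_j L661340) L683920
theorem L683931 : sm gh N47457 = N49678 := rfl
theorem L683933 : sm gg N49678 = N49678 := ded_50_1 (flp_h L683931) L661348 L683931
theorem L683934 : sm gj N49678 = N47463 := ded_52_1 (flp_h L661403) (flp_j L661349) L683931
theorem L683936 : sm gd N49678 = N47609 := ded_38_1 (flp_h L662876) L364057 (flp_h L362737) (flp_d L661346) L683931
theorem L683938 : sm gi N47458 = N49679 := rfl
theorem L683940 : sm ga N49679 = N47986 := ded_18_1 (flp_i L666877) (flp_a L661361) L683938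
theorem L683942 : sm gb N49679 = N47460 := ded_26_1 (flp_i L661381) L661351 L683938
theorem L683944 : sm gd N49679 = N47492 := ded_39_1 (flp_i L661715) (flp_d L661353) L683938
theorem L683946 : sm ge N49679 = N47928 := ded_44_1 (flp_i L666322) L661363 L683938
theorem L683948 : sm gg N49679 = N47464 := ded_51_1 (flp_i L661409) (flp_g L661355) L683938
theorem L683950 : sm gj N49679 = N48732 := ded_53_1 (flp_i L672877) (flp_j L661357) L683938
theorem L683952 : sm gf N47459 = N49680 := rfl
theorem L683954 : sm ga N49680 = N48339 := ded_14_1 (flp_f L669735) (flp_a L661367) L683952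
theorem L683956 : sm gb N49680 = N47923 := ded_22_1 L666273 (flp_b L661369) L683952
theorem L683958 : sm gc N49680 = N47461 := ded_29_1 (flp_f L661391) (flp_c L661371) L683952
theorem L683960 : sm gd N49680 = N47914 := ded_35_1 L666167 (flp_d L661379) L683952
theorem L683962 : sm gj N49680 = N48330 := ded_46_2 L669668 (flp_j L661375) L683952
theorem L683964 : sm gh N49680 = N47917 := ded_47_2 L666206 (flp_h L661377) L683952
theorem L683966 : sm gi N47459 = N49681 := rfl
theorem L683968 : sm ga N49681 = N48340 := ded_18_1 (flp_i L669743) (flp_a L661367) L683966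
theorem L683970 : sm gb N49681 = N47928 := ded_26_1 (flp_i L666322) (flp_b L661369) L683966
theorem L683972 : sm gc N49681 = N47462 := ded_33_1 (flp_i L661395) (flp_c L661371) L683966
theorem L683974 : sm gd N49681 = N47915 := ded_39_1 (flp_i L666171) (flp_d L661379) L683966
theorem L683976 : sm ge N49681 = N47460 := ded_44_1 (flp_i L661381) L661365 L683966
theorem L683978 : sm gg N49681 = N47465 := ded_51_1 (flp_i L661422) (flp_g L661373) L683966
theorem L683980 : sm gj N49681 = N48730 := ded_53_1 (flp_i L672865) (flp_j L661375) L683966
theorem L683982 : sm gh N47460 = N49682 := rfl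
theorem L683984 : sm ga N49682 = N48341 := ded_17_1 (flp_h L669753) (flp_a L661383) L683982
theorem L683986 : sm gc N49682 = N47463 := ded_32_1 (flp_h L661403) (flp_c L661385) L683982
theorem L683988 : sm gg N49682 = N47466 := ded_50_1 (flp_h L661435) (flp_g L661389) L683982
theorem L683990 : sm gd N49682 = N48403 := ded_38_1 (flp_h L670271) L386520 (flp_h L561786) (flp_d L661387) L683982
theorem L683992 : sm gi N49682 = N48328 := ded_54_2 (flp_h L669648) (flp_i L384946) (flp_h L508317) L661381 L683982
theorem L683994 : sm gg N47461 = N49683 := rfl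
theorem L683996 : sm gb N49683 = N47541 := ded_23_1 (flp_g L675847) L675843 L683994
theorem L683998 : sm gd N49683 = N47473 := ded_36_1 (flp_g L661496) (flp_d L661393) L683994
theorem L684000 : sm gf N49683 = N47467 := ded_45_1 (flp_g L661448) (flp_f L362778) (flp_g L362747) L661391 L683994
theorem L684002 : sm gi N47461 = N49684 := rfl
theorem L684004 : sm gd N49684 = N47474 := ded_39_1 (flp_i L661503) (flp_d L661393) L684002
theorem L684006 : sm gf N49684 = N47462 := ded_48_1 (flp_i L661395) L661391 L684002
theorem L684008 : sm gh N47462 = N49685 := rfl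
theorem L684010 : sm ge N49685 = N47463 := ded_43_1 (flp_h L661403) (flp_e L661399) L684008
theorem L684012 : sm gg N49685 = N47469 := ded_50_1 (flp_h L661467) (flp_g L661401) L684008
theorem L684014 : sm gh N47464 = N49686 := rfl
theorem L684016 : sm ga N49686 = N47994 := ded_17_1 (flp_h L666955) (flp_a L661411) L684014
theorem L684018 : sm gb N49686 = N47466 := ded_25_1 (flp_h L661435) (flp_b L661413) L684014
theorem L684020 : sm ge N49686 = N47930 := ded_43_1 (flp_h L666338) (flp_e L661417) L684014
theorem L684022 : sm gf N49686 = N48368 := ded_47_1 (flp_h L669951) (flp_f L661419) L684014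
theorem L684024 : sm gj N49686 = N49686 := ded_52_1 (flp_h L684014) L661421 L684014
theorem L684025 : sm gd N49686 = N48342 := ded_38_1 (flp_h L669761) (flp_d L507957) (flp_h L508208) (flp_d L661415) L684014
theorem L684027 : sm gi N49686 = N47949 := ded_54_2 (flp_h L666506) (flp_i L379381) (flp_h L547040) L661409 L684014
theorem L684029 : sm gh N47465 = N49687 := rfl
theorem L684031 : sm ga N49687 = N48342 := ded_17_1 (flp_h L669761) (flp_a L661424) L684029
theorem L684033 : sm gb N49687 = N47930 := ded_25_1 (flp_h L666338) (flp_b L661426) L684029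
theorem L684035 : sm gc N49687 = N47469 := ded_32_1 (flp_h L661467) (flp_c L661428) L684029
theorem L684037 : sm ge N49687 = N47466 := ded_43_1 (flp_h L661435) (flp_e L661432) L684029
theorem L684039 : sm gj N49687 = N49687 := ded_52_1 (flp_h L684029) L661434 L684029
theorem L684040 : sm gd N49687 = N47994 := ded_38_1 (flp_h L666955) L379748 L648360 (flp_d L661430) L684029
theorem L684042 : sm gi N49687 = N47922 := ded_54_2 (flp_h L666258) (flp_i L379028) (flp_h L546925) L661422 L684029
theorem L684044 : sm gj N47467 = N49688 := rfl
theorem L684046 : sm ga N49688 = N48623 := ded_16_1 (flp_j L676548) L676540 L684044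
theorem L684048 : sm gb N49688 = N47536 := ded_24_1 L662218 (flp_b L661450) L684044
theorem L684050 : sm gd N49688 = N47476 := ded_37_1 (flp_j L661514) (flp_d L661452) L684044
theorem L684052 : sm ge N49688 = N47511 := ded_42_1 L661959 (flp_e L661454) L684044
theorem L684054 : sm gg N49688 = N49688 := ded_49_1 (flp_j L684044) (flp_g L661448) L362782 L661448 L684044
theorem L684055 : sm gi N47467 = N49689 := rfl
theorem L684057 : sm gb N49689 = N47542 := ded_26_1 (flp_i L662268) (flp_b L661450) L684055
theorem L684059 : sm gd N49689 = N47477 := ded_39_1 (flp_i L661526) (flp_d L661452) L684055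
theorem L684061 : sm ge N49689 = N47514 := ded_44_1 (flp_i L661976) (flp_e L661454) L684055
theorem L684063 : sm gg N49689 = N47468 := ded_51_1 (flp_i L661456) L661448 L684055
theorem L684065 : sm gh N47468 = N49690 := rfl
theorem L684067 : sm gb N49690 = N47547 := ded_25_1 (flp_h L662316) (flp_b L661458) L684065
theorem L684069 : sm ge N49690 = N47516 := ded_43_1 (flp_h L661992) (flp_e L661462) L684065
theorem L684071 : sm gf N49690 = N47469 := ded_47_1 (flp_h L661467) (flp_f L661464) L684065
theorem L684073 : sm gj N49690 = N49690 := ded_52_1 (flp_h L684065) L661466 L684065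
theorem L684074 : sm gd N47469 = N49691 := rfl
theorem L684076 : sm gj N49691 = N49691 := ded_37_2 (flp_d L684074) L661471 L684074
theorem L684077 : sm ge N49691 = N47630 := ded_34_2 (flp_d L663037) L364161 (flp_d L362797) (flp_e L661469) L684074
theorem L684079 : sm gh N49691 = N47479 := ded_38_2 (flp_d L661544) (flp_h L362840) (flp_d L362787) L661467 L684074
theorem L684081 : sm gg N47470 = N49692 := rfl
theorem L684083 : sm ga N49692 = N48186 := ded_15_1 (flp_g L681360) L681356 L684081
theorem L684085 : sm gc N49692 = N47690 := ded_30_1 L663649 (flp_c L661474) L684081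
theorem L684087 : sm ge N49692 = N48152 := ded_41_1 (flp_g L680856) L680852 L684081
theorem L684089 : sm gh N49692 = N49692 := ded_50_2 (flp_g L684081) L661478 L684081
theorem L684090 : sm gf N49692 = N49692 := ded_45_1 (flp_g L684081) (flp_f L661472) L362801 L661472 L684081
theorem L684091 : sm gi N47470 = N49693 := rfl
theorem L684093 : sm gc N49693 = N48547 := ded_33_1 (flp_i L671390) (flp_c L661474) L684091
theorem L684095 : sm gf N49693 = N47471 := ded_48_1 (flp_i L661479) L661472 L684091
theorem L684097 : sm gj N49693 = N47474 := ded_53_1 (flp_i L661503) (flp_j L661476) L684091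
theorem L684099 : sm gh N47471 = N49694 := rfl
theorem L684101 : sm gc N49694 = N48740 := ded_32_1 (flp_h L672927) (flp_c L661481) L684099
theorem L684103 : sm ge N49694 = N47472 := ded_43_1 (flp_h L661488) (flp_e L661483) L684099
theorem L684105 : sm gg N49694 = N49694 := ded_50_1 (flp_h L684099) L661485 L684099
theorem L684106 : sm gj N49694 = N47475 := ded_52_1 (flp_h L661507) (flp_j L661486) L684099
theorem L684108 : sm gi N49694 = N49694 := ded_54_2 (flp_h L684099) (flp_i L661479) L362804 L661479 L684099
theorem L684109 : sm gj N47473 = N49695 := rfl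
theorem L684111 : sm ga N49695 = N48286 := ded_16_1 (flp_j L676612) L676606 L684109
theorem L684113 : sm gb N49695 = N47548 := ded_24_1 L662328 (flp_b L661498) L684109
theorem L684115 : sm gc N49695 = N48306 := ded_31_1 (flp_j L683271) L683262 L684109
theorem L684117 : sm ge N49695 = N48285 := ded_42_1 L681240 L681235 L684109
theorem L684119 : sm gf N49695 = N47476 := ded_46_1 (flp_j L661514) (flp_f L661501) L684109
theorem L684121 : sm gh N49695 = N49695 := ded_52_2 (flp_j L684109) L661500 L684109
theorem L684122 : sm gi N47473 = N49696 := rfl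
theorem L684124 : sm gb N49696 = N47551 := ded_26_1 (flp_i L662350) (flp_b L661498) L684122
theorem L684126 : sm gf N49696 = N47477 := ded_48_1 (flp_i L661526) (flp_f L661501) L684122
theorem L684128 : sm gg N49696 = N47474 := ded_51_1 (flp_i L661503) L661496 L684122
theorem L684130 : sm gh N47474 = N49697 := rfl
theorem L684132 : sm gf N49697 = N47475 := ded_47_1 (flp_h L661507) (flp_f L661505) L684130
theorem L684134 : sm gi N49697 = N49697 := ded_54_2 (flp_h L684130) (flp_i L661503) L362814 L661503 L684130
theorem L684135 : sm gd N47475 = N49698 := rfl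
theorem L684137 : sm gg N49698 = N47479 := ded_36_2 (flp_d L661544) (flp_g L661511) L684135
theorem L684139 : sm gi N49698 = N49698 := ded_39_2 (flp_d L684135) L661513 L684135
theorem L684140 : sm ge N49698 = N47637 := ded_34_2 (flp_d L663082) L364199 (flp_d L362825) (flp_e L661509) L684135
theorem L684142 : sm gi N47476 = N49699 := rfl
theorem L684144 : sm ga N49699 = N48624 := ded_18_1 (flp_i L671977) (flp_a L661516) L684142
theorem L684146 : sm gb N49699 = N47549 := ded_26_1 (flp_i L662331) (flp_b L661518) L684142
theorem L684148 : sm gc N49699 = N48639 := ded_33_1 (flp_i L672090) (flp_c L661520) L684142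
theorem L684150 : sm ge N49699 = N47480 := ded_44_1 (flp_i L661550) (flp_e L661522) L684142
theorem L684152 : sm gg N49699 = N49699 := ded_51_1 (flp_i L684142) L661525 L684142
theorem L684153 : sm gj N49699 = N47477 := ded_53_1 (flp_i L661526) L661514 L684142
theorem L684155 : sm gh N47477 = N49700 := rfl
theorem L684157 : sm gb N49700 = N47552 := ded_25_1 (flp_h L662357) (flp_b L661528) L684155
theorem L684159 : sm ge N49700 = N47481 := ded_43_1 (flp_h L661565) (flp_e L661530) L684155
theorem L684161 : sm gg N49700 = N47478 := ded_50_1 (flp_h L661534) (flp_g L661532) L684155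
theorem L684163 : sm gi N49700 = N49700 := ded_54_2 (flp_h L684155) (flp_i L661526) L362832 L661526 L684155
theorem L684164 : sm gd N47478 = N49701 := rfl
theorem L684166 : sm gb N49701 = N47553 := ded_20_1 (flp_d L662367) (flp_b L661536) L684164
theorem L684168 : sm gf N49701 = N47479 := ded_35_2 (flp_d L661544) (flp_f L661540) L684164
theorem L684170 : sm gj N49701 = N49701 := ded_37_2 (flp_d L684164) L661542 L684164
theorem L684171 : sm gi N49701 = N49701 := ded_39_2 (flp_d L684164) L661543 L684164
theorem L684172 : sm gc N47479 = N49702 := rfl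
theorem L684174 : sm ge N49702 = N47641 := ded_28_2 (flp_c L663109) (flp_e L661548) L684172
theorem L684176 : sm gj N49702 = N49702 := ded_31_2 (flp_c L684172) L661546 L684172
theorem L684177 : sm gi N49702 = N49702 := ded_33_2 (flp_c L684172) L661547 L684172
theorem L684178 : sm gh N47480 = N49703 := rfl
theorem L684180 : sm ga N49703 = N48625 := ded_17_1 (flp_h L671986) (flp_a L661552) L684178
theorem L684182 : sm gb N49703 = N47550 := ded_25_1 (flp_h L662341) (flp_b L661554) L684178
theorem L684184 : sm gc N49703 = N48640 := ded_32_1 (flp_h L672098) (flp_c L661556) L684178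
theorem L684186 : sm gf N49703 = N48630 := ded_47_1 (flp_h L672026) (flp_f L661560) L684178
theorem L684188 : sm gg N49703 = N49703 := ded_50_1 (flp_h L684178) L661562 L684178
theorem L684189 : sm gj N49703 = N47481 := ded_52_1 (flp_h L661565) (flp_j L661563) L684178
theorem L684191 : sm gi N49703 = N49703 := ded_54_2 (flp_h L684178) (flp_i L661550) L362850 L661550 L684178
theorem L684192 : sm gc N47482 = N49704 := rfl
theorem L684194 : sm ga N49704 = N48332 := ded_11_1 L669682 (flp_a L661574) L684192
theorem L684196 : sm ge N49704 = N47502 := ded_28_2 L661874 L661585 L684192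
theorem L684198 : sm gf N49704 = N49704 := ded_29_2 (flp_c L684192) L661578 L684192
theorem L684199 : sm gg N49704 = N47484 := ded_30_2 (flp_c L661598) (flp_g L661579) L684192
theorem L684201 : sm gj N49704 = N48372 := ded_31_2 (flp_c L669980) (flp_j L661581) L684192
theorem L684203 : sm gh N49704 = N47500 := ded_32_2 L661843 (flp_h L661583) L684192
theorem L684205 : sm gb N49704 = N47518 := ded_19_1 L662018 L513275 (flp_c L615886) (flp_b L661576) L684192
theorem L684207 : sm gi N47482 = N49705 := rfl
theorem L684209 : sm ga N49705 = N48548 := ded_18_1 (flp_i L671397) (flp_a L661574) L684207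
theorem L684211 : sm gb N49705 = N47493 := ded_26_1 (flp_i L661731) (flp_b L661576) L684207
theorem L684213 : sm gd N49705 = N47483 := ded_39_1 (flp_i L661587) L661572 L684207
theorem L684215 : sm ge N49705 = N48389 := ded_44_1 L670146 L661585 L684207
theorem L684217 : sm gf N49705 = N49705 := ded_48_1 (flp_i L684207) L661578 L684207
theorem L684218 : sm gg N49705 = N47486 := ded_51_1 (flp_i L661628) (flp_g L661579) L684207
theorem L684220 : sm gj N49705 = N48373 := ded_53_1 (flp_i L669987) (flp_j L661581) L684207
theorem L684222 : sm gh N49705 = N48388 := ded_54_1 (flp_i L670129) L385872 (flp_i L615740) (flp_h L661583) L684207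
theorem L684224 : sm gi N47484 = N49706 := rfl
theorem L684226 : sm ga N49706 = N48334 := ded_18_1 (flp_i L669695) (flp_a L661600) L684224
theorem L684228 : sm gb N49706 = N48397 := ded_26_1 (flp_i L670218) (flp_b L661608) L684224
theorem L684230 : sm gc N49706 = N47486 := ded_33_1 (flp_i L661628) L661598 L684224
theorem L684232 : sm ge N49706 = N48394 := ded_44_1 (flp_i L670191) L661610 L684224
theorem L684234 : sm gf N49706 = N47491 := ded_48_1 (flp_i L661700) (flp_f L661602) L684224
theorem L684236 : sm gj N49706 = N47489 := ded_53_1 (flp_i L661674) (flp_j L661604) L684224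
theorem L684238 : sm gh N49706 = N48399 := ded_54_1 (flp_i L670238) (flp_h L386450) (flp_i L561822) (flp_h L661606) L684224
theorem L684240 : sm gi N47485 = N49707 := rfl
theorem L684242 : sm ga N49707 = N48546 := ded_18_1 (flp_i L671379) (flp_a L661614) L684240
theorem L684244 : sm gb N49707 = N47495 := ded_26_1 (flp_i L661764) (flp_b L661616) L684240
theorem L684246 : sm gc N49707 = N48394 := ded_33_1 (flp_i L670191) (flp_c L661618) L684240
theorem L684248 : sm ge N49707 = N47486 := ded_44_1 (flp_i L661628) L661612 L684240
theorem L684250 : sm gf N49707 = N47498 := ded_48_1 L661826 (flp_f L661626) L684240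
theorem L684252 : sm gg N49707 = N48389 := ded_51_1 L670146 (flp_g L661620) L684240
theorem L684254 : sm gj N49707 = N47490 := ded_53_1 (flp_i L661686) (flp_j L661622) L684240
theorem L684256 : sm gh N49707 = N47497 := ded_54_1 (flp_i L661798) L363045 L615943 (flp_h L661624) L684240
theorem L684258 : sm gi N47487 = N49708 := rfl
theorem L684260 : sm ga N49708 = N48436 := ded_18_1 (flp_i L670555) (flp_a L661652) L684258
theorem L684262 : sm gb N49708 = N47489 := ded_26_1 (flp_i L661674) L661642 L684258
theorem L684264 : sm gc N49708 = N47497 := ded_33_1 (flp_i L661798) (flp_c L661654) L684258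
theorem L684266 : sm ge N49708 = N48399 := ded_44_1 (flp_i L670238) L661656 L684258
theorem L684268 : sm gf N49708 = N47492 := ded_48_1 (flp_i L661715) (flp_f L661644) L684258
theorem L684270 : sm gg N49708 = N48380 := ded_51_1 (flp_i L670059) (flp_g L661646) L684258
theorem L684272 : sm gj N49708 = N48397 := ded_53_1 (flp_i L670218) (flp_j L661648) L684258
theorem L684274 : sm gh N49708 = N48394 := ded_54_1 (flp_i L670191) (flp_h L386045) (flp_i L546976) (flp_h L661650) L684258
theorem L684276 : sm gd N47488 = N49709 := rfl
theorem L684278 : sm ga N49709 = N48330 := ded_12_1 (flp_d L669666) (flp_a L661660) L684276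
theorem L684280 : sm gb N49709 = N48398 := ded_20_1 (flp_d L670228) (flp_b L661662) L684276
theorem L684282 : sm gf N49709 = N48337 := ded_35_2 L669726 (flp_f L661672) L684276
theorem L684284 : sm gg N49709 = N48381 := ded_36_2 (flp_d L670067) (flp_g L661666) L684276
theorem L684286 : sm gj N49709 = N48339 := ded_37_2 L669739 (flp_j L661668) L684276
theorem L684288 : sm gh N49709 = N48357 := ded_38_2 L669866 (flp_h L552196) (flp_d L614641) (flp_h L661670) L684276
theorem L684290 : sm gi N47488 = N49710 := rfl
theorem L684292 : sm ga N49710 = N48331 := ded_18_1 (flp_i L669670) (flp_a L661660) L684290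
theorem L684294 : sm gb N49710 = N48399 := ded_26_1 (flp_i L670238) (flp_b L661662) L684290
theorem L684296 : sm gc N49710 = N47490 := ded_33_1 (flp_i L661686) (flp_c L661664) L684290
theorem L684298 : sm ge N49710 = N47489 := ded_44_1 (flp_i L661674) L661658 L684290
theorem L684300 : sm gf N49710 = N48395 := ded_48_1 (flp_i L670197) (flp_f L661672) L684290
theorem L684302 : sm gg N49710 = N48382 := ded_51_1 (flp_i L670070) (flp_g L661666) L684290
theorem L684304 : sm gj N49710 = N48394 := ded_53_1 (flp_i L670191) (flp_j L661668) L684290
theorem L684306 : sm gh N49710 = N48397 := ded_54_1 (flp_i L670218) (flp_h L386431) (flp_i L542819) (flp_h L661670) L684290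
theorem L684308 : sm gh N47501 = N49711 := rfl
theorem L684310 : sm gb N49711 = N47520 := ded_25_1 (flp_h L662042) (flp_b L661856) L684308
theorem L684312 : sm gc N49711 = N48308 := ded_32_1 (flp_h L669483) (flp_c L661858) L684308
theorem L684314 : sm ge N49711 = N48372 := ded_43_1 L669985 (flp_e L661862) L684308
theorem L684316 : sm gf N49711 = N47503 := ded_47_1 (flp_h L661880) (flp_f L661864) L684308
theorem L684318 : sm gg N49711 = N48375 := ded_50_1 L670012 (flp_g L661868) L684308
theorem L684320 : sm gj N49711 = N47502 := ded_52_1 (flp_h L661870) L661854 L684308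
theorem L684322 : sm gd N47502 = N49712 := rfl
theorem L684324 : sm gb N49712 = N47521 := ded_20_1 (flp_d L662052) (flp_b L661872) L684322
theorem L684326 : sm gf N49712 = N47504 := ded_35_2 (flp_d L661890) (flp_f L661876) L684322
theorem L684328 : sm gg N49712 = N48339 := ded_36_2 L669739 (flp_g L661878) L684322
theorem L684330 : sm gh N49712 = N47509 := ded_38_2 (flp_d L661937) (flp_h L363222) (flp_d L363179) L661870 L684322
theorem L684332 : sm gi N47502 = N49713 := rfl
theorem L684334 : sm gb N49713 = N47522 := ded_26_1 (flp_i L662064) (flp_b L661872) L684332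
theorem L684336 : sm gc N49713 = N48389 := ded_33_1 L670146 (flp_c L661874) L684332
theorem L684338 : sm gf N49713 = N47505 := ded_48_1 (flp_i L661898) (flp_f L661876) L684332
theorem L684340 : sm gg N49713 = N48394 := ded_51_1 (flp_i L670191) (flp_g L661878) L684332
theorem L684342 : sm gh N49713 = N48380 := ded_54_1 (flp_i L670059) L385676 (flp_i L542666) L661870 L684332
theorem L684344 : sm gd N47503 = N49714 := rfl
theorem L684346 : sm gb N49714 = N47523 := ded_20_1 (flp_d L662076) (flp_b L661882) L684344
theorem L684348 : sm gg N49714 = N49714 := ded_36_2 (flp_d L684344) L661887 L684344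
theorem L684349 : sm gj N49714 = N47504 := ded_37_2 (flp_d L661890) (flp_j L661888) L684344
theorem L684351 : sm gc N49714 = N48623 := ded_27_1 (flp_d L671972) L649970 L649287 (flp_c L661884) L684344
theorem L684353 : sm gh N49714 = N47511 := ded_38_2 (flp_d L661954) (flp_h L363231) (flp_d L363187) L661880 L684344
theorem L684355 : sm gi N47503 = N49715 := rfl
theorem L684357 : sm gb N49715 = N47524 := ded_26_1 (flp_i L662087) (flp_b L661882) L684355
theorem L684359 : sm gc N49715 = N48391 := ded_33_1 L670165 (flp_c L661884) L684355
theorem L684361 : sm ge N49715 = N49715 := ded_44_1 (flp_i L684355) L661886 L684355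
theorem L684362 : sm gg N49715 = N49715 := ded_51_1 (flp_i L684355) L661887 L684355
theorem L684363 : sm gj N49715 = N47505 := ded_53_1 (flp_i L661898) (flp_j L661888) L684355
theorem L684365 : sm gh N49715 = N48384 := ded_54_1 (flp_i L670089) L385716 (flp_i L542957) L661880 L684355
theorem L684367 : sm gi N47504 = N49716 := rfl
theorem L684369 : sm gb N49716 = N47526 := ded_26_1 (flp_i L662110) (flp_b L661892) L684367
theorem L684371 : sm gd N49716 = N47505 := ded_39_1 (flp_i L661898) L661890 L684367
theorem L684373 : sm gg N49716 = N47506 := ded_51_1 (flp_i L661909) (flp_g L661894) L684367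
theorem L684375 : sm gh N47506 = N49717 := rfl
theorem L684377 : sm gb N49717 = N47528 := ded_25_1 (flp_h L662130) (flp_b L661911) L684375
theorem L684379 : sm gf N49717 = N48342 := ded_47_1 (flp_h L669761) (flp_f L661915) L684375
theorem L684381 : sm gj N49717 = N49717 := ded_52_1 (flp_h L684375) L661917 L684375
theorem L684382 : sm gd N49717 = N48368 := ded_38_1 (flp_h L669951) L385483 (flp_h L542510) (flp_d L661913) L684375
theorem L684384 : sm gi N49717 = N47516 := ded_54_2 (flp_h L661992) (flp_i L363269) (flp_h L363205) L661909 L684375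
theorem L684386 : sm gh N47507 = N49718 := rfl
theorem L684388 : sm gb N49718 = N47529 := ded_25_1 (flp_h L662143) (flp_b L661920) L684386
theorem L684390 : sm gc N49718 = N49718 := ded_32_1 (flp_h L684386) L661922 L684386
theorem L684391 : sm gf N49718 = N49718 := ded_47_1 (flp_h L684386) L661925 L684386
theorem L684392 : sm gg N49718 = N47508 := ded_50_1 (flp_h L661928) L661918 L684386
theorem L684394 : sm gj N49718 = N48370 := ded_52_1 L669968 (flp_j L661926) L684386
theorem L684396 : sm gd N47508 = N49719 := rfl
theorem L684398 : sm gb N49719 = N47530 := ded_20_1 (flp_d L662154) (flp_b L661930) L684396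
theorem L684400 : sm gf N49719 = N47511 := ded_35_2 (flp_d L661954) (flp_f L661933) L684396
theorem L684402 : sm gj N49719 = N47509 := ded_37_2 (flp_d L661937) (flp_j L661935) L684396
theorem L684404 : sm gi N47508 = N49720 := rfl
theorem L684406 : sm gb N49720 = N47531 := ded_26_1 (flp_i L662162) (flp_b L661930) L684404
theorem L684408 : sm gc N49720 = N49720 := ded_33_1 (flp_i L684404) L661932 L684404
theorem L684409 : sm gf N49720 = N47512 := ded_48_1 (flp_i L661961) (flp_f L661933) L684404
theorem L684411 : sm gj N49720 = N47510 := ded_53_1 (flp_i L661945) (flp_j L661935) L684404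
theorem L684413 : sm gc N47509 = N49721 := rfl
theorem L684415 : sm gf N49721 = N47513 := ded_29_2 (flp_c L661971) (flp_f L661941) L684413
theorem L684417 : sm gg N49721 = N48362 := ded_30_2 L669907 (flp_g L661943) L684413
theorem L684419 : sm gd N49721 = N49721 := ded_27_2 (flp_c L684413) (flp_d L661937) L363226 L661937 L684413
theorem L684420 : sm ge N47509 = N49722 := rfl
theorem L684422 : sm gb N49722 = N47533 := ded_21_1 (flp_e L662184) (flp_b L661939) L684420
theorem L684424 : sm gg N49722 = N48351 := ded_41_2 L669826 (flp_g L661943) L684420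
theorem L684426 : sm gi N47509 = N49723 := rfl
theorem L684428 : sm gb N49723 = N47534 := ded_26_1 (flp_i L662190) (flp_b L661939) L684426
theorem L684430 : sm gd N49723 = N47510 := ded_39_1 (flp_i L661945) L661937 L684426
theorem L684432 : sm gf N49723 = N47514 := ded_48_1 (flp_i L661976) (flp_f L661941) L684426
theorem L684434 : sm gg N49723 = N48365 := ded_51_1 (flp_i L669925) (flp_g L661943) L684426
theorem L684436 : sm gc N47511 = N49724 := rfl
theorem L684438 : sm gg N49724 = N49724 := ded_30_2 (flp_c L684436) L661958 L684436
theorem L684439 : sm gj N49724 = N47513 := ded_31_2 (flp_c L661971) (flp_j L661959) L684436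
theorem L684441 : sm gh N49724 = N48623 := ded_32_2 (flp_c L684351) L684353 L684436
theorem L684443 : sm gb N49724 = N48626 := ded_19_1 L671998 L662211 (flp_c L662200) (flp_b L661956) L684436
theorem L684445 : sm gd N49724 = N49724 := ded_27_2 (flp_c L684436) (flp_d L661954) L363235 L661954 L684436
theorem L684446 : sm gi N47511 = N49725 := rfl
theorem L684448 : sm gb N49725 = N47537 := ded_26_1 (flp_i L662222) (flp_b L661956) L684446
theorem L684450 : sm gd N49725 = N47512 := ded_39_1 (flp_i L661961) L661954 L684446
theorem L684452 : sm gg N49725 = N49725 := ded_51_1 (flp_i L684446) L661958 L684446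
theorem L684453 : sm gj N49725 = N47514 := ded_53_1 (flp_i L661976) (flp_j L661959) L684446
theorem L684455 : sm gi N47513 = N49726 := rfl
theorem L684457 : sm gc N49726 = N47514 := ded_33_1 (flp_i L661976) L661971 L684455
theorem L684459 : sm gd N49726 = N49726 := ded_39_1 (flp_i L684455) L661975 L684455
theorem L684460 : sm gg N49726 = N47515 := ded_51_1 (flp_i L661984) (flp_g L661973) L684455
theorem L684462 : sm gh N47514 = N49727 := rfl
theorem L684464 : sm gb N49727 = N47543 := ded_25_1 (flp_h L662278) (flp_b L661978) L684462
theorem L684466 : sm gg N49727 = N47516 := ded_50_1 (flp_h L661992) (flp_g L661982) L684462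
theorem L684468 : sm gh N47515 = N49728 := rfl
theorem L684470 : sm gc N49728 = N47516 := ded_32_1 (flp_h L661992) (flp_c L661986) L684468
theorem L684472 : sm gf N49728 = N48369 := ded_47_1 (flp_h L669956) (flp_f L661989) L684468
theorem L684474 : sm gj N49728 = N49728 := ded_52_1 (flp_h L684468) L661991 L684468
theorem L684475 : sm gh N47517 = N49729 := rfl
theorem L684477 : sm ga N49729 = N47568 := ded_17_1 (flp_h L662543) (flp_a L662001) L684475
theorem L684479 : sm gb N49729 = N48372 := ded_25_1 L669985 (flp_b L662003) L684475
theorem L684481 : sm gc N49729 = N47694 := ded_32_1 (flp_h L663691) (flp_c L662005) L684475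
theorem L684483 : sm ge N49729 = N47520 := ded_43_1 (flp_h L662042) (flp_e L662007) L684475
theorem L684485 : sm gf N49729 = N49729 := ded_47_1 (flp_h L684475) L662009 L684475
theorem L684486 : sm gg N49729 = N48374 := ded_50_1 L670002 (flp_g L662012) L684475
theorem L684488 : sm gj N49729 = N47518 := ded_52_1 (flp_h L662014) L661999 L684475
theorem L684490 : sm gd N47518 = N49730 := rfl
theorem L684492 : sm ga N49730 = N47569 := ded_12_1 (flp_d L662552) (flp_a L662016) L684490
theorem L684494 : sm gf N49730 = N49730 := ded_35_2 (flp_d L684490) L662022 L684490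
theorem L684495 : sm gg N49730 = N48396 := ded_36_2 (flp_d L670212) (flp_g L662023) L684490
theorem L684497 : sm gi N47518 = N49731 := rfl
theorem L684499 : sm ga N49731 = N47570 := ded_18_1 (flp_i L662557) (flp_a L662016) L684497
theorem L684501 : sm gc N49731 = N47696 := ded_33_1 (flp_i L663720) (flp_c L662018) L684497
theorem L684503 : sm ge N49731 = N47522 := ded_44_1 (flp_i L662064) (flp_e L662020) L684497
theorem L684505 : sm gf N49731 = N49731 := ded_48_1 (flp_i L684497) L662022 L684497
theorem L684506 : sm gg N49731 = N48397 := ded_51_1 (flp_i L670218) (flp_g L662023) L684497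
theorem L684508 : sm gh N49731 = N48382 := ded_54_1 (flp_i L670070) L385684 (flp_i L513290) L662014 L684497
theorem L684510 : sm gh N47519 = N49732 := rfl
theorem L684512 : sm ga N49732 = N47571 := ded_17_1 (flp_h L662566) (flp_a L662027) L684510
theorem L684514 : sm gb N49732 = N48375 := ded_25_1 L670012 (flp_b L662029) L684510
theorem L684516 : sm gc N49732 = N47676 := ded_32_1 L663504 (flp_c L662031) L684510
theorem L684518 : sm ge N49732 = N48374 := ded_43_1 L670002 (flp_e L662035) L684510
theorem L684520 : sm gf N49732 = N49732 := ded_47_1 (flp_h L684510) L662039 L684510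
theorem L684521 : sm gg N49732 = N47520 := ded_50_1 (flp_h L662042) L662025 L684510
theorem L684523 : sm gj N49732 = N48379 := ded_52_1 L670056 (flp_j L662040) L684510
theorem L684525 : sm gd N47520 = N49733 := rfl
theorem L684527 : sm ga N49733 = N47572 := ded_12_1 (flp_d L662575) (flp_a L662044) L684525
theorem L684529 : sm gf N49733 = N47523 := ded_35_2 (flp_d L662076) (flp_f L662048) L684525
theorem L684531 : sm gj N49733 = N47521 := ded_37_2 (flp_d L662052) (flp_j L662050) L684525
theorem L684533 : sm gc N49733 = N48536 := ded_27_1 (flp_d L671288) L387757 (flp_d L646518) (flp_c L662046) L684525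
theorem L684535 : sm gh N49733 = N47530 := ded_38_2 (flp_d L662154) (flp_h L363501) (flp_d L363423) L662042 L684525
theorem L684537 : sm gi N47520 = N49734 := rfl
theorem L684539 : sm ga N49734 = N47573 := ded_18_1 (flp_i L662583) (flp_a L662044) L684537
theorem L684541 : sm gc N49734 = N47697 := ded_33_1 (flp_i L663733) (flp_c L662046) L684537
theorem L684543 : sm gf N49734 = N47524 := ded_48_1 (flp_i L662087) (flp_f L662048) L684537
theorem L684545 : sm gj N49734 = N47522 := ded_53_1 (flp_i L662064) (flp_j L662050) L684537
theorem L684547 : sm gh N49734 = N48376 := ded_54_1 (flp_i L670015) L385651 (flp_i L542658) L662042 L684537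
theorem L684549 : sm ge N47521 = N49735 := rfl
theorem L684551 : sm ga N49735 = N47575 := ded_13_1 (flp_e L662603) (flp_a L662054) L684549
theorem L684553 : sm gc N49735 = N48577 := ded_28_1 (flp_e L671615) (flp_c L662060) L684549
theorem L684555 : sm gg N49735 = N48400 := ded_41_2 (flp_e L670248) (flp_g L662058) L684549
theorem L684557 : sm gh N49735 = N47533 := ded_43_2 (flp_e L662184) (flp_h L662062) L684549
theorem L684559 : sm gi N47521 = N49736 := rfl
theorem L684561 : sm ga N49736 = N47576 := ded_18_1 (flp_i L662609) (flp_a L662054) L684559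
theorem L684563 : sm gc N49736 = N48539 := ded_33_1 L671312 (flp_c L662060) L684559
theorem L684565 : sm gd N49736 = N47522 := ded_39_1 (flp_i L662064) L662052 L684559
theorem L684567 : sm gf N49736 = N47526 := ded_48_1 (flp_i L662110) (flp_f L662056) L684559
theorem L684569 : sm gg N49736 = N48401 := ded_51_1 (flp_i L670254) (flp_g L662058) L684559
theorem L684571 : sm ge N47523 = N49737 := rfl
theorem L684573 : sm ga N49737 = N47578 := ded_13_1 (flp_e L662628) (flp_a L662078) L684571
theorem L684575 : sm gc N49737 = N48578 := ded_28_1 (flp_e L671617) (flp_c L662083) L684571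
theorem L684577 : sm gg N49737 = N49737 := ded_41_2 (flp_e L684571) L662080 L684571
theorem L684578 : sm gj N49737 = N47525 := ded_42_2 (flp_e L662099) (flp_j L662081) L684571
theorem L684580 : sm gh N49737 = N47536 := ded_43_2 (flp_e L662213) (flp_h L662085) L684571
theorem L684582 : sm gd N49737 = N49737 := ded_34_1 (flp_e L684571) (flp_d L662076) L363443 L662076 L684571
theorem L684583 : sm gi N47523 = N49738 := rfl
theorem L684585 : sm ga N49738 = N47579 := ded_18_1 (flp_i L662636) (flp_a L662078) L684583
theorem L684587 : sm gc N49738 = N48541 := ded_33_1 L671334 (flp_c L662083) L684583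
theorem L684589 : sm gd N49738 = N47524 := ded_39_1 (flp_i L662087) L662076 L684583
theorem L684591 : sm gg N49738 = N49738 := ded_51_1 (flp_i L684583) L662080 L684583
theorem L684592 : sm gj N49738 = N47526 := ded_53_1 (flp_i L662110) (flp_j L662081) L684583
theorem L684594 : sm gf N47525 = N49739 := rfl
theorem L684596 : sm ga N49739 = N47583 := ded_14_1 (flp_f L662673) (flp_a L662101) L684594
theorem L684598 : sm gc N49739 = N48579 := ded_29_1 (flp_f L671626) (flp_c L662103) L684594
theorem L684600 : sm gd N49739 = N49739 := ded_35_1 (flp_f L684594) L662109 L684594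
theorem L684601 : sm gh N49739 = N47541 := ded_47_2 (flp_f L662262) (flp_h L662107) L684594
theorem L684603 : sm gi N47525 = N49740 := rfl
theorem L684605 : sm ga N49740 = N47584 := ded_18_1 (flp_i L662678) (flp_a L662101) L684603
theorem L684607 : sm gc N49740 = N48544 := ded_33_1 L671364 (flp_c L662103) L684603
theorem L684609 : sm gd N49740 = N49740 := ded_39_1 (flp_i L684603) L662109 L684603
theorem L684610 : sm ge N49740 = N47526 := ded_44_1 (flp_i L662110) L662099 L684603
theorem L684612 : sm gg N49740 = N47527 := ded_51_1 (flp_i L662120) (flp_g L662105) L684603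
theorem L684614 : sm gh N47526 = N49741 := rfl
theorem L684616 : sm ga N49741 = N47585 := ded_17_1 (flp_h L662685) (flp_a L662112) L684614
theorem L684618 : sm gc N49741 = N48510 := ded_32_1 L671093 (flp_c L662114) L684614
theorem L684620 : sm gg N49741 = N47528 := ded_50_1 (flp_h L662130) (flp_g L662118) L684614
theorem L684622 : sm gd N49741 = N48364 := ded_38_1 (flp_h L669919) L385446 (flp_h L513334) (flp_d L662116) L684614
theorem L684624 : sm gi N49741 = N47543 := ded_54_2 (flp_h L662278) (flp_i L363563) (flp_h L363453) L662110 L684614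
theorem L684626 : sm gh N47527 = N49742 := rfl
theorem L684628 : sm ga N49742 = N47592 := ded_17_1 (flp_h L662754) (flp_a L662122) L684626
theorem L684630 : sm gc N49742 = N48524 := ded_32_1 L671186 (flp_c L662124) L684626
theorem L684632 : sm ge N49742 = N47528 := ded_43_1 (flp_h L662130) (flp_e L662127) L684626
theorem L684634 : sm gj N49742 = N49742 := ded_52_1 (flp_h L684626) L662129 L684626
theorem L684635 : sm gi N49742 = N47547 := ded_54_2 (flp_h L662316) (flp_i L363606) (flp_h L363480) L662120 L684626
theorem L684637 : sm gd N47529 = N49743 := rfl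
theorem L684639 : sm ga N49743 = N47593 := ded_12_1 (flp_d L662761) (flp_a L662145) L684637
theorem L684641 : sm gf N49743 = N49743 := ded_35_2 (flp_d L684637) L662149 L684637
theorem L684642 : sm gg N49743 = N47530 := ded_36_2 (flp_d L662154) (flp_g L662150) L684637
theorem L684644 : sm gj N49743 = N48404 := ded_37_2 (flp_d L670279) (flp_j L662152) L684637
theorem L684646 : sm gi N47529 = N49744 := rfl
theorem L684648 : sm ga N49744 = N47594 := ded_18_1 (flp_i L662768) (flp_a L662145) L684646
theorem L684650 : sm gc N49744 = N47555 := ded_33_1 (flp_i L662385) (flp_c L662147) L684646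
theorem L684652 : sm gf N49744 = N49744 := ded_48_1 (flp_i L684646) L662149 L684646
theorem L684653 : sm gg N49744 = N47531 := ded_51_1 (flp_i L662162) (flp_g L662150) L684646
theorem L684655 : sm gj N49744 = N48405 := ded_53_1 (flp_i L670286) (flp_j L662152) L684646
theorem L684657 : sm gc N47530 = N49745 := rfl
theorem L684659 : sm ga N49745 = N47595 := ded_11_1 (flp_c L662777) (flp_a L662156) L684657
theorem L684661 : sm gf N49745 = N47535 := ded_29_2 (flp_c L662200) (flp_f L662158) L684657
theorem L684663 : sm gj N49745 = N47532 := ded_31_2 (flp_c L662172) (flp_j L662160) L684657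
theorem L684665 : sm gh N49745 = N48536 := ded_32_2 (flp_c L684533) L684535 L684657
theorem L684667 : sm gd N49745 = N47556 := ded_27_2 (flp_c L662395) (flp_d L363736) (flp_c L363505) L662154 L684657
theorem L684669 : sm gb N48537 = N49745 := ded_22_3 L684661 (flp_b L662211) (flp_f L671298)
theorem L684671 : sm ge N47530 = N49746 := rfl
theorem L684673 : sm ga N49746 = N47596 := ded_13_1 (flp_e L662785) (flp_a L662156) L684671
theorem L684675 : sm gj N49746 = N47533 := ded_42_2 (flp_e L662184) (flp_j L662160) L684671
theorem L684677 : sm gi N47530 = N49747 := rfl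
theorem L684679 : sm ga N49747 = N47597 := ded_18_1 (flp_i L662789) (flp_a L662156) L684677
theorem L684681 : sm gd N49747 = N47531 := ded_39_1 (flp_i L662162) L662154 L684677
theorem L684683 : sm gf N49747 = N47537 := ded_48_1 (flp_i L662222) (flp_f L662158) L684677
theorem L684685 : sm gj N49747 = N47534 := ded_53_1 (flp_i L662190) (flp_j L662160) L684677
theorem L684687 : sm gb N47532 = N49748 := rfl
theorem L684689 : sm gd N49748 = N47559 := ded_20_2 (flp_b L662430) (flp_d L662182) L684687
theorem L684691 : sm gf N49748 = N47538 := ded_22_2 (flp_b L662231) (flp_f L662176) L684687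
theorem L684693 : sm gg N49748 = N48409 := ded_23_2 (flp_b L670321) (flp_g L662178) L684687
theorem L684695 : sm gj N49748 = N48537 := ded_24_2 L684669 L684663 L684687
theorem L684697 : sm gh N49748 = N48532 := ded_25_2 L671246 (flp_h L662180) L684687
theorem L684699 : sm ge N47532 = N49749 := rfl
theorem L684701 : sm ga N49749 = N47599 := ded_13_1 (flp_e L662805) (flp_a L662174) L684699
theorem L684703 : sm gc N49749 = N47533 := ded_28_1 (flp_e L662184) L662172 L684699
theorem L684705 : sm gg N49749 = N48410 := ded_41_2 (flp_e L670327) (flp_g L662178) L684699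
theorem L684707 : sm gh N49749 = N48577 := ded_43_2 (flp_e L671615) (flp_h L662180) L684699
theorem L684709 : sm gi N47532 = N49750 := rfl
theorem L684711 : sm ga N49750 = N47600 := ded_18_1 (flp_i L662811) (flp_a L662174) L684709
theorem L684713 : sm gc N49750 = N47534 := ded_33_1 (flp_i L662190) L662172 L684709
theorem L684715 : sm gd N49750 = N47561 := ded_39_1 (flp_i L662452) (flp_d L662182) L684709
theorem L684717 : sm gf N49750 = N47540 := ded_48_1 (flp_i L662252) (flp_f L662176) L684709
theorem L684719 : sm gg N49750 = N48411 := ded_51_1 (flp_i L670333) (flp_g L662178) L684709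
theorem L684721 : sm gf N47533 = N49751 := rfl
theorem L684723 : sm ga N49751 = N47601 := ded_14_1 (flp_f L662821) (flp_a L662186) L684721
theorem L684725 : sm ge N49751 = N47541 := ded_40_1 (flp_f L662262) (flp_e L363555) (flp_f L363515) L662184 L684721
theorem L684727 : sm gi N47533 = N49752 := rfl
theorem L684729 : sm ga N49752 = N47602 := ded_18_1 (flp_i L662825) (flp_a L662186) L684727
theorem L684731 : sm ge N49752 = N47534 := ded_44_1 (flp_i L662190) L662184 L684727
theorem L684733 : sm gg N49752 = N48412 := ded_51_1 (flp_i L670343) (flp_g L662188) L684727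
theorem L684735 : sm gh N47534 = N49753 := rfl
theorem L684737 : sm ga N49753 = N47603 := ded_17_1 (flp_h L662831) (flp_a L662192) L684735
theorem L684739 : sm gf N49753 = N47543 := ded_47_1 (flp_h L662278) (flp_f L662196) L684735
theorem L684741 : sm gg N49753 = N48413 := ded_50_1 (flp_h L670349) (flp_g L662198) L684735
theorem L684743 : sm ge N47535 = N49754 := rfl
theorem L684745 : sm ga N49754 = N47605 := ded_13_1 (flp_e L662844) (flp_a L662202) L684743
theorem L684747 : sm gb N49754 = N48685 := ded_21_1 L672511 L662211 L684743
theorem L684749 : sm gc N49754 = N47536 := ded_28_1 (flp_e L662213) L662200 L684743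
theorem L684751 : sm gg N49754 = N49754 := ded_41_2 (flp_e L684743) L662204 L684743
theorem L684752 : sm gj N49754 = N47539 := ded_42_2 (flp_e L662241) (flp_j L662205) L684743
theorem L684754 : sm gh N49754 = N48578 := ded_43_2 (flp_e L671617) (flp_h L662207) L684743
theorem L684756 : sm gd N49754 = N49754 := ded_34_1 (flp_e L684743) L662209 L363791 (flp_d L662209) L684743
theorem L684757 : sm gi N47535 = N49755 := rfl
theorem L684759 : sm ga N49755 = N47606 := ded_18_1 (flp_i L662852) (flp_a L662202) L684757
theorem L684761 : sm gb N49755 = N48725 := ded_26_1 (flp_i L672839) L662211 L684757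
theorem L684763 : sm gc N49755 = N47537 := ded_33_1 (flp_i L662222) L662200 L684757
theorem L684765 : sm gd N49755 = N47563 := ded_39_1 (flp_i L662476) (flp_d L662209) L684757
theorem L684767 : sm gg N49755 = N49755 := ded_51_1 (flp_i L684757) L662204 L684757
theorem L684768 : sm gj N49755 = N47540 := ded_53_1 (flp_i L662252) (flp_j L662205) L684757
theorem L684770 : sm gf N47536 = N49756 := rfl
theorem L684772 : sm ga N49756 = N47607 := ded_14_1 (flp_f L662861) (flp_a L662215) L684770
theorem L684774 : sm gd N49756 = N47548 := ded_35_1 (flp_f L662323) (flp_d L662220) L684770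
theorem L684776 : sm gj N49756 = N47541 := ded_46_2 (flp_f L662262) (flp_j L662218) L684770
theorem L684778 : sm gi N47536 = N49757 := rfl
theorem L684780 : sm ga N49757 = N47608 := ded_18_1 (flp_i L662867) (flp_a L662215) L684778
theorem L684782 : sm gd N49757 = N47549 := ded_39_1 (flp_i L662331) (flp_d L662220) L684778
theorem L684784 : sm ge N49757 = N47537 := ded_44_1 (flp_i L662222) L662213 L684778
theorem L684786 : sm gg N49757 = N49757 := ded_51_1 (flp_i L684778) L662217 L684778
theorem L684787 : sm gj N49757 = N47542 := ded_53_1 (flp_i L662268) (flp_j L662218) L684778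
theorem L684789 : sm gh N47537 = N49758 := rfl
theorem L684791 : sm ga N49758 = N47609 := ded_17_1 (flp_h L662876) (flp_a L662224) L684789
theorem L684793 : sm gg N49758 = N49758 := ded_50_1 (flp_h L684789) L662228 L684789
theorem L684794 : sm gj N49758 = N47543 := ded_52_1 (flp_h L662278) (flp_j L662229) L684789
theorem L684796 : sm gi N47538 = N49759 := rfl
theorem L684798 : sm gb N49759 = N47540 := ded_26_1 (flp_i L662252) L662231 L684796
theorem L684800 : sm gd N49759 = N47565 := ded_39_1 (flp_i L662502) (flp_d L662233) L684796
theorem L684802 : sm gg N49759 = N47544 := ded_51_1 (flp_i L662284) (flp_g L662235) L684796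
theorem L684804 : sm gj N49759 = N48725 := ded_53_1 (flp_i L672839) (flp_j L662237) L684796
theorem L684806 : sm gf N47539 = N49760 := rfl
theorem L684808 : sm ga N49760 = N47613 := ded_14_1 (flp_f L662902) (flp_a L662243) L684806
theorem L684810 : sm gc N49760 = N47541 := ded_29_1 (flp_f L662262) (flp_c L662245) L684806
theorem L684812 : sm gd N49760 = N49760 := ded_35_1 (flp_f L684806) L662251 L684806
theorem L684813 : sm gh N49760 = N48579 := ded_47_2 (flp_f L671626) (flp_h L662249) L684806
theorem L684815 : sm gi N47539 = N49761 := rfl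
theorem L684817 : sm ga N49761 = N47614 := ded_18_1 (flp_i L662907) (flp_a L662243) L684815
theorem L684819 : sm gc N49761 = N47542 := ded_33_1 (flp_i L662268) (flp_c L662245) L684815
theorem L684821 : sm gd N49761 = N49761 := ded_39_1 (flp_i L684815) L662251 L684815
theorem L684822 : sm ge N49761 = N47540 := ded_44_1 (flp_i L662252) L662241 L684815
theorem L684824 : sm gg N49761 = N47545 := ded_51_1 (flp_i L662293) (flp_g L662247) L684815
theorem L684826 : sm gh N47540 = N49762 := rfl
theorem L684828 : sm ga N49762 = N47615 := ded_17_1 (flp_h L662916) (flp_a L662254) L684826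
theorem L684830 : sm gc N49762 = N47543 := ded_32_1 (flp_h L662278) (flp_c L662256) L684826
theorem L684832 : sm gg N49762 = N47546 := ded_50_1 (flp_h L662303) (flp_g L662260) L684826
theorem L684834 : sm gd N49762 = N48461 := ded_38_1 (flp_h L670746) L387207 (flp_h L546551) (flp_d L662258) L684826
theorem L684836 : sm gi N49762 = N48510 := ded_54_2 L671093 L387860 (flp_h L546573) L662252 L684826
theorem L684838 : sm gi N47541 = N49763 := rfl
theorem L684840 : sm ga N49763 = N47617 := ded_18_1 (flp_i L662928) (flp_a L662264) L684838
theorem L684842 : sm gd N49763 = N47551 := ded_39_1 (flp_i L662350) (flp_d L662266) L684838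
theorem L684844 : sm gf N49763 = N47542 := ded_48_1 (flp_i L662268) L662262 L684838
theorem L684846 : sm gh N47542 = N49764 := rfl
theorem L684848 : sm ga N49764 = N47618 := ded_17_1 (flp_h L662934) (flp_a L662270) L684846
theorem L684850 : sm ge N49764 = N47543 := ded_43_1 (flp_h L662278) (flp_e L662274) L684846
theorem L684852 : sm gg N49764 = N47547 := ded_50_1 (flp_h L662316) (flp_g L662276) L684846
theorem L684854 : sm gh N47544 = N49765 := rfl
theorem L684856 : sm gb N49765 = N47546 := ded_25_1 (flp_h L662303) (flp_b L662286) L684854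
theorem L684858 : sm gf N49765 = N48421 := ded_47_1 (flp_h L670413) (flp_f L662290) L684854
theorem L684860 : sm gj N49765 = N49765 := ded_52_1 (flp_h L684854) L662292 L684854
theorem L684861 : sm gd N49765 = N48467 := ded_38_1 (flp_h L670791) L387250 (flp_h L546559) (flp_d L662288) L684854
theorem L684863 : sm gi N49765 = N48519 := ded_54_2 L671154 L387878 (flp_h L546596) L662284 L684854
theorem L684865 : sm gh N47545 = N49766 := rfl
theorem L684867 : sm ga N49766 = N47625 := ded_17_1 (flp_h L662995) (flp_a L662295) L684865
theorem L684869 : sm gc N49766 = N47547 := ded_32_1 (flp_h L662316) (flp_c L662297) L684865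
theorem L684871 : sm ge N49766 = N47546 := ded_43_1 (flp_h L662303) (flp_e L662300) L684865
theorem L684873 : sm gj N49766 = N49766 := ded_52_1 (flp_h L684865) L662302 L684865
theorem L684874 : sm gi N49766 = N48524 := ded_54_2 L671186 L387883 (flp_h L546592) L662293 L684865
theorem L684876 : sm gd N47547 = N49767 := rfl
theorem L684878 : sm ga N49767 = N47630 := ded_12_1 (flp_d L663037) (flp_a L662318) L684876
theorem L684880 : sm gj N49767 = N49767 := ded_37_2 (flp_d L684876) L662322 L684876
theorem L684881 : sm gh N49767 = N47553 := ded_38_2 (flp_d L662367) (flp_h L363682) (flp_d L363610) L662316 L684876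
theorem L684883 : sm gg N47548 = N49768 := rfl
theorem L684885 : sm ga N49768 = N47631 := ded_15_1 (flp_g L663042) (flp_a L662325) L684883
theorem L684887 : sm gc N49768 = N49768 := ded_30_1 (flp_g L684883) L662327 L684883
theorem L684888 : sm gh N49768 = N49768 := ded_50_2 (flp_g L684883) L662330 L684883
theorem L684889 : sm gf N49768 = N49768 := ded_45_1 (flp_g L684883) (flp_f L662323) L363627 L662323 L684883
theorem L684890 : sm gi N47548 = N49769 := rfl
theorem L684892 : sm ga N49769 = N47632 := ded_18_1 (flp_i L663047) (flp_a L662325) L684890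
theorem L684894 : sm gc N49769 = N49769 := ded_33_1 (flp_i L684890) L662327 L684890
theorem L684895 : sm gf N49769 = N47549 := ded_48_1 (flp_i L662331) L662323 L684890
theorem L684897 : sm gj N49769 = N47551 := ded_53_1 (flp_i L662350) (flp_j L662328) L684890
theorem L684899 : sm gh N47549 = N49770 := rfl
theorem L684901 : sm ga N49770 = N47633 := ded_17_1 (flp_h L663054) (flp_a L662333) L684899
theorem L684903 : sm gc N49770 = N49770 := ded_32_1 (flp_h L684899) L662335 L684899
theorem L684904 : sm ge N49770 = N47550 := ded_43_1 (flp_h L662341) (flp_e L662336) L684899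
theorem L684906 : sm gg N49770 = N49770 := ded_50_1 (flp_h L684899) L662338 L684899
theorem L684907 : sm gj N49770 = N47552 := ded_52_1 (flp_h L662357) (flp_j L662339) L684899
theorem L684909 : sm gi N49770 = N49770 := ded_54_2 (flp_h L684899) (flp_i L662331) L363630 L662331 L684899
theorem L684910 : sm gh N47551 = N49771 := rfl
theorem L684912 : sm ga N49771 = N47636 := ded_17_1 (flp_h L663076) (flp_a L662352) L684910
theorem L684914 : sm gc N49771 = N49771 := ded_32_1 (flp_h L684910) L662354 L684910
theorem L684915 : sm gf N49771 = N47552 := ded_47_1 (flp_h L662357) (flp_f L662355) L684910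
theorem L684917 : sm gi N49771 = N49771 := ded_54_2 (flp_h L684910) (flp_i L662350) L363646 L662350 L684910
theorem L684918 : sm gd N47552 = N49772 := rfl
theorem L684920 : sm ga N49772 = N47637 := ded_12_1 (flp_d L663082) (flp_a L662359) L684918
theorem L684922 : sm gg N49772 = N47553 := ded_36_2 (flp_d L662367) (flp_g L662364) L684918
theorem L684924 : sm gi N49772 = N49772 := ded_39_2 (flp_d L684918) L662366 L684918
theorem L684925 : sm gc N47553 = N49773 := rfl
theorem L684927 : sm ga N49773 = N47641 := ded_11_1 (flp_c L663109) (flp_a L662369) L684925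
theorem L684929 : sm gj N49773 = N49773 := ded_31_2 (flp_c L684925) L662371 L684925
theorem L684930 : sm gi N49773 = N49773 := ded_33_2 (flp_c L684925) L662372 L684925
theorem L684931 : sm gd N49773 = N49773 := ded_27_2 (flp_c L684925) (flp_d L662367) L363686 L662367 L684925
theorem L684932 : sm gc N47554 = N49774 := rfl
theorem L684934 : sm ga N49774 = N47643 := ded_11_1 (flp_c L663125) (flp_a L662375) L684932
theorem L684936 : sm gf N49774 = N49774 := ded_29_2 (flp_c L684932) L662378 L684932
theorem L684937 : sm gg N49774 = N47556 := ded_30_2 (flp_c L662395) (flp_g L662379) L684932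
theorem L684939 : sm gj N49774 = N48422 := ded_31_2 (flp_c L670418) (flp_j L662381) L684932
theorem L684941 : sm gh N49774 = N47698 := ded_32_2 (flp_c L663747) (flp_h L662383) L684932
theorem L684943 : sm gb N47735 = N49774 := ded_23_3 L684937 (flp_b L662405) (flp_g L664241)
theorem L684945 : sm ge N47554 = N49775 := rfl
theorem L684947 : sm ga N49775 = N47644 := ded_13_1 (flp_e L663134) (flp_a L662375) L684945
theorem L684949 : sm gb N49775 = N49775 := ded_21_1 (flp_e L684945) L662377 L684945
theorem L684950 : sm gg N49775 = N47557 := ded_41_2 (flp_e L662407) (flp_g L662379) L684945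
theorem L684952 : sm gj N49775 = N47746 := ded_42_2 L664364 (flp_j L662381) L684945
theorem L684954 : sm gh N49775 = N47699 := ded_43_2 (flp_e L663762) (flp_h L662383) L684945
theorem L684956 : sm gf N47748 = N49775 := ded_14_0 L684947 (flp_f L663144) (flp_a L664383)
theorem L684958 : sm gi N47554 = N49776 := rfl
theorem L684960 : sm ga N49776 = N47645 := ded_18_1 (flp_i L663146) (flp_a L662375) L684958
theorem L684962 : sm gb N49776 = N49776 := ded_26_1 (flp_i L684958) L662377 L684958
theorem L684963 : sm gd N49776 = N47555 := ded_39_1 (flp_i L662385) L662373 L684958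
theorem L684965 : sm gf N49776 = N49776 := ded_48_1 (flp_i L684958) L662378 L684958
theorem L684966 : sm gg N49776 = N47558 := ded_51_1 (flp_i L662417) (flp_g L662379) L684958
theorem L684968 : sm gj N49776 = N48423 := ded_53_1 (flp_i L670427) (flp_j L662381) L684958
theorem L684970 : sm gh N49776 = N48562 := ded_54_1 (flp_i L671502) L391018 (flp_i L562308) (flp_h L662383) L684958
theorem L684972 : sm ge N47556 = N49777 := rfl
theorem L684974 : sm ga N49777 = N47647 := ded_13_1 (flp_e L663167) (flp_a L662397) L684972
theorem L684976 : sm gb N49777 = N48575 := ded_21_1 L671607 L662405 L684972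
theorem L684978 : sm gc N49777 = N47557 := ded_28_1 (flp_e L662407) L662395 L684972
theorem L684980 : sm gj N49777 = N47560 := ded_42_2 (flp_e L662441) (flp_j L662401) L684972
theorem L684982 : sm gh N49777 = N47700 := ded_43_2 (flp_e L663776) (flp_h L662403) L684972
theorem L684984 : sm gf N49777 = N49777 := ded_40_2 (flp_e L684972) L662399 L363791 (flp_f L662399) L684972
theorem L684985 : sm gi N47556 = N49778 := rfl
theorem L684987 : sm ga N49778 = N47648 := ded_18_1 (flp_i L663176) (flp_a L662397) L684985
theorem L684989 : sm gb N49778 = N48576 := ded_26_1 (flp_i L671610) L662405 L684985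
theorem L684991 : sm gc N49778 = N47558 := ded_33_1 (flp_i L662417) L662395 L684985
theorem L684993 : sm gf N49778 = N47563 := ded_48_1 (flp_i L662476) (flp_f L662399) L684985
theorem L684995 : sm gj N49778 = N47561 := ded_53_1 (flp_i L662452) (flp_j L662401) L684985
theorem L684997 : sm gh N49778 = N48565 := ded_54_1 (flp_i L671528) L391032 (flp_i L546411) (flp_h L662403) L684985
theorem L684999 : sm gi N47557 = N49779 := rfl
theorem L685001 : sm ga N49779 = N47649 := ded_18_1 (flp_i L663184) (flp_a L662409) L684999
theorem L685003 : sm gb N49779 = N49779 := ded_26_1 (flp_i L684999) L662411 L684999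
theorem L685004 : sm ge N49779 = N47558 := ded_44_1 (flp_i L662417) L662407 L684999
theorem L685006 : sm gf N49779 = N49779 := ded_48_1 (flp_i L684999) L662416 L684999
theorem L685007 : sm gj N49779 = N47562 := ded_53_1 (flp_i L662464) (flp_j L662412) L684999
theorem L685009 : sm gh N49779 = N48566 := ded_54_1 (flp_i L671536) L391039 (flp_i L546388) (flp_h L662414) L684999
theorem L685011 : sm ga N47559 = N49780 := rfl
theorem L685013 : sm gc N49780 = N49780 := ded_11_2 (flp_a L685011) L662440 L685011
theorem L685014 : sm gf N49780 = N47564 := ded_14_2 (flp_a L662490) (flp_f L662432) L685011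
theorem L685016 : sm gg N49780 = N48428 := ded_15_2 (flp_a L670481) (flp_g L662434) L685011
theorem L685018 : sm gj N49780 = N48552 := ded_16_2 L671433 (flp_j L662436) L685011
theorem L685020 : sm gh N49780 = N47701 := ded_17_2 (flp_a L663791) (flp_h L662438) L685011
theorem L685022 : sm gb N49780 = N47651 := ded_10_2 (flp_a L663207) (flp_b L364307) (flp_a L363758) L662430 L685011
theorem L685024 : sm ge N47559 = N49781 := rfl
theorem L685026 : sm gb N49781 = N47560 := ded_21_1 (flp_e L662441) L662430 L685024
theorem L685028 : sm gc N49781 = N49781 := ded_28_1 (flp_e L685024) L662440 L685024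
theorem L685029 : sm gg N49781 = N48429 := ded_41_2 (flp_e L670490) (flp_g L662434) L685024
theorem L685031 : sm gj N49781 = N48575 := ded_42_2 L671607 (flp_j L662436) L685024
theorem L685033 : sm gh N49781 = N47702 := ded_43_2 (flp_e L663806) (flp_h L662438) L685024
theorem L685035 : sm gf N49781 = N49781 := ded_40_2 (flp_e L685024) L662432 L363810 (flp_f L662432) L685024
theorem L685036 : sm gi N47559 = N49782 := rfl
theorem L685038 : sm gb N49782 = N47561 := ded_26_1 (flp_i L662452) L662430 L685036
theorem L685040 : sm gc N49782 = N49782 := ded_33_1 (flp_i L685036) L662440 L685036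
theorem L685041 : sm gf N49782 = N47565 := ded_48_1 (flp_i L662502) (flp_f L662432) L685036
theorem L685043 : sm gg N49782 = N48430 := ded_51_1 (flp_i L670499) (flp_g L662434) L685036
theorem L685045 : sm gj N49782 = N48576 := ded_53_1 (flp_i L671610) (flp_j L662436) L685036
theorem L685047 : sm gh N49782 = N48569 := ded_54_1 (flp_i L671559) L391055 (flp_i L546451) (flp_h L662438) L685036
theorem L685049 : sm gd N47560 = N49783 := rfl
theorem L685051 : sm ga N49783 = N47654 := ded_12_1 (flp_d L663238) (flp_a L662443) L685049
theorem L685053 : sm gf N49783 = N49783 := ded_35_2 (flp_d L685049) L662451 L685049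
theorem L685054 : sm gg N49783 = N48431 := ded_36_2 (flp_d L670506) (flp_g L662447) L685049
theorem L685056 : sm gi N47560 = N49784 := rfl
theorem L685058 : sm ga N49784 = N47655 := ded_18_1 (flp_i L663243) (flp_a L662443) L685056
theorem L685060 : sm gc N49784 = N47562 := ded_33_1 (flp_i L662464) (flp_c L662445) L685056
theorem L685062 : sm ge N49784 = N47561 := ded_44_1 (flp_i L662452) L662441 L685056
theorem L685064 : sm gf N49784 = N49784 := ded_48_1 (flp_i L685056) L662451 L685056
theorem L685065 : sm gg N49784 = N48432 := ded_51_1 (flp_i L670512) (flp_g L662447) L685056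
theorem L685067 : sm gh N49784 = N48571 := ded_54_1 (flp_i L671569) L391062 (flp_i L546392) (flp_h L662449) L685056
theorem L685069 : sm gi N47564 = N49785 := rfl
theorem L685071 : sm ga N49785 = N47565 := ded_18_1 (flp_i L662502) L662490 L685069
theorem L685073 : sm gb N49785 = N47661 := ded_26_1 (flp_i L663311) (flp_b L662500) L685069
theorem L685075 : sm gc N49785 = N49785 := ded_33_1 (flp_i L685069) L662492 L685069
theorem L685076 : sm ge N49785 = N49785 := ded_44_1 (flp_i L685069) L662493 L685069
theorem L685077 : sm gg N49785 = N47566 := ded_51_1 (flp_i L662514) (flp_g L662494) L685069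
theorem L685079 : sm gj N49785 = N48728 := ded_53_1 (flp_i L672852) (flp_j L662496) L685069
theorem L685081 : sm gh N49785 = N48574 := ded_54_1 (flp_i L671596) L391116 (flp_i L543222) (flp_h L662498) L685069
theorem L685083 : sm gh N47567 = N49786 := rfl
theorem L685085 : sm ga N49786 = N48374 := ded_17_1 L670002 (flp_a L662529) L685083
theorem L685087 : sm gb N49786 = N48736 := ded_25_1 L672904 (flp_b L662531) L685083
theorem L685089 : sm gc N49786 = N47704 := ded_32_1 (flp_h L663836) (flp_c L662533) L685083
theorem L685091 : sm ge N49786 = N47571 := ded_43_1 (flp_h L662566) (flp_e L662537) L685083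
theorem L685093 : sm gf N49786 = N48383 := ded_47_1 L670085 L662541 L685083
theorem L685095 : sm gg N49786 = N47568 := ded_50_1 (flp_h L662543) L662527 L685083
theorem L685097 : sm gj N49786 = N48378 := ded_52_1 L670040 (flp_j L662539) L685083
theorem L685099 : sm gd N47568 = N49787 := rfl
theorem L685101 : sm gf N49787 = N49787 := ded_35_2 (flp_d L685099) L662549 L685099
theorem L685102 : sm gj N49787 = N47569 := ded_37_2 (flp_d L662552) (flp_j L662550) L685099
theorem L685104 : sm gi N47568 = N49788 := rfl
theorem L685106 : sm gc N49788 = N47706 := ded_33_1 (flp_i L663860) (flp_c L662545) L685104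
theorem L685108 : sm ge N49788 = N47573 := ded_44_1 (flp_i L662583) (flp_e L662547) L685104
theorem L685110 : sm gf N49788 = N49788 := ded_48_1 (flp_i L685104) L662549 L685104
theorem L685111 : sm gj N49788 = N47570 := ded_53_1 (flp_i L662557) (flp_j L662550) L685104
theorem L685113 : sm gc N47569 = N49789 := rfl
theorem L685115 : sm gf N49789 = N49789 := ded_29_2 (flp_c L685113) L662554 L685113
theorem L685116 : sm gg N49789 = N48437 := ded_30_2 (flp_c L670567) (flp_g L662555) L685113
theorem L685118 : sm gd N49789 = N47707 := ded_27_2 (flp_c L663868) (flp_d L368818) (flp_c L363876) L662552 L685113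
theorem L685120 : sm ge N47569 = N49790 := rfl
theorem L685122 : sm gg N49790 = N48438 := ded_41_2 (flp_e L670573) (flp_g L662555) L685120
theorem L685124 : sm gd N49790 = N47575 := ded_34_1 (flp_e L662603) (flp_d L363900) (flp_e L363878) L662552 L685120
theorem L685126 : sm gi N47569 = N49791 := rfl
theorem L685128 : sm gd N49791 = N47570 := ded_39_1 (flp_i L662557) L662552 L685126
theorem L685130 : sm gf N49791 = N49791 := ded_48_1 (flp_i L685126) L662554 L685126
theorem L685131 : sm gg N49791 = N48439 := ded_51_1 (flp_i L670577) (flp_g L662555) L685126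
theorem L685133 : sm gd N47571 = N49792 := rfl
theorem L685135 : sm gf N49792 = N49792 := ded_35_2 (flp_d L685133) L662570 L685133
theorem L685136 : sm gg N49792 = N47572 := ded_36_2 (flp_d L662575) (flp_g L662571) L685133
theorem L685138 : sm gj N49792 = N48440 := ded_37_2 (flp_d L670583) (flp_j L662573) L685133
theorem L685140 : sm gh N49792 = N47593 := ded_38_2 (flp_d L662761) (flp_h L363998) (flp_d L363887) L662566 L685133
theorem L685142 : sm gi N47571 = N49793 := rfl
theorem L685144 : sm gc N49793 = N47710 := ded_33_1 (flp_i L663896) (flp_c L662568) L685142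
theorem L685146 : sm gf N49793 = N49793 := ded_48_1 (flp_i L685142) L662570 L685142
theorem L685147 : sm gg N49793 = N47573 := ded_51_1 (flp_i L662583) (flp_g L662571) L685142
theorem L685149 : sm gj N49793 = N48441 := ded_53_1 (flp_i L670590) (flp_j L662573) L685142
theorem L685151 : sm gc N47572 = N49794 := rfl
theorem L685153 : sm ga N49794 = N48536 := ded_11_1 (flp_c L684533) L684527 L685151
theorem L685155 : sm gf N49794 = N47577 := ded_29_2 (flp_c L662617) (flp_f L662577) L685151
theorem L685157 : sm gj N49794 = N47574 := ded_31_2 (flp_c L662591) (flp_j L662579) L685151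
theorem L685159 : sm gh N49794 = N47595 := ded_32_2 (flp_c L662777) (flp_h L662581) L685151
theorem L685161 : sm gd N49794 = N47711 := ded_27_2 (flp_c L663904) (flp_d L368841) (flp_c L363894) L662575 L685151
theorem L685163 : sm ge N47572 = N49795 := rfl
theorem L685165 : sm gj N49795 = N47575 := ded_42_2 (flp_e L662603) (flp_j L662579) L685163
theorem L685167 : sm gh N49795 = N47596 := ded_43_2 (flp_e L662785) (flp_h L662581) L685163
theorem L685169 : sm gi N47572 = N49796 := rfl
theorem L685171 : sm gd N49796 = N47573 := ded_39_1 (flp_i L662583) L662575 L685169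
theorem L685173 : sm gf N49796 = N47579 := ded_48_1 (flp_i L662636) (flp_f L662577) L685169
theorem L685175 : sm gj N49796 = N47576 := ded_53_1 (flp_i L662609) (flp_j L662579) L685169
theorem L685177 : sm gb N47574 = N49797 := rfl
theorem L685179 : sm gd N49797 = N47713 := ded_20_2 (flp_b L663931) (flp_d L662601) L685177
theorem L685181 : sm gf N49797 = N47580 := ded_22_2 (flp_b L662643) (flp_f L662595) L685177
theorem L685183 : sm gg N49797 = N48445 := ded_23_2 (flp_b L670621) (flp_g L662597) L685177
theorem L685185 : sm gh N49797 = N47598 := ded_25_2 (flp_b L662797) (flp_h L662599) L685177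
theorem L685187 : sm ge N47574 = N49798 := rfl
theorem L685189 : sm ga N49798 = N48577 := ded_13_1 (flp_e L671615) (flp_a L662593) L685187
theorem L685191 : sm gc N49798 = N47575 := ded_28_1 (flp_e L662603) L662591 L685187
theorem L685193 : sm gg N49798 = N48446 := ded_41_2 (flp_e L670629) (flp_g L662597) L685187
theorem L685195 : sm gh N49798 = N47599 := ded_43_2 (flp_e L662805) (flp_h L662599) L685187
theorem L685197 : sm gi N47574 = N49799 := rfl
theorem L685199 : sm ga N49799 = N48539 := ded_18_1 L671312 (flp_a L662593) L685197
theorem L685201 : sm gc N49799 = N47576 := ded_33_1 (flp_i L662609) L662591 L685197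
theorem L685203 : sm gd N49799 = N47715 := ded_39_1 (flp_i L663954) (flp_d L662601) L685197
theorem L685205 : sm gf N49799 = N47582 := ded_48_1 (flp_i L662663) (flp_f L662595) L685197
theorem L685207 : sm gg N49799 = N48447 := ded_51_1 (flp_i L670635) (flp_g L662597) L685197
theorem L685209 : sm gf N47575 = N49800 := rfl
theorem L685211 : sm gh N49800 = N47601 := ded_47_2 (flp_f L662821) (flp_h L662607) L685209
theorem L685213 : sm ge N49800 = N47583 := ded_40_1 (flp_f L662673) (flp_e L363939) (flp_f L363902) L662603 L685209
theorem L685215 : sm gi N47575 = N49801 := rfl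
theorem L685217 : sm ge N49801 = N47576 := ded_44_1 (flp_i L662609) L662603 L685215
theorem L685219 : sm gg N49801 = N48449 := ded_51_1 (flp_i L670649) (flp_g L662605) L685215
theorem L685221 : sm gh N47576 = N49802 := rfl
theorem L685223 : sm gf N49802 = N47585 := ded_47_1 (flp_h L662685) (flp_f L662613) L685221
theorem L685225 : sm gg N49802 = N48450 := ded_50_1 (flp_h L670653) (flp_g L662615) L685221
theorem L685227 : sm gi N49802 = N47603 := ded_54_2 (flp_h L662831) (flp_i L364033) (flp_h L363906) L662609 L685221
theorem L685229 : sm gb N47577 = N49803 := rfl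
theorem L685231 : sm gd N49803 = N47717 := ded_20_2 (flp_b L663981) (flp_d L662626) L685229
theorem L685233 : sm gg N49803 = N49803 := ded_23_2 (flp_b L685229) L662621 L685229
theorem L685234 : sm gj N49803 = N47580 := ded_24_2 (flp_b L662643) (flp_j L662622) L685229
theorem L685236 : sm gh N49803 = N47604 := ded_25_2 (flp_b L662837) (flp_h L662624) L685229
theorem L685238 : sm ga N49803 = N48670 := ded_10_1 L672368 L650375 L649303 (flp_a L662619) L685229
theorem L685240 : sm ge N47577 = N49804 := rfl
theorem L685242 : sm ga N49804 = N48578 := ded_13_1 (flp_e L671617) (flp_a L662619) L685240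
theorem L685244 : sm gc N49804 = N47578 := ded_28_1 (flp_e L662628) L662617 L685240
theorem L685246 : sm gg N49804 = N49804 := ded_41_2 (flp_e L685240) L662621 L685240
theorem L685247 : sm gj N49804 = N47581 := ded_42_2 (flp_e L662651) (flp_j L662622) L685240
theorem L685249 : sm gh N49804 = N47605 := ded_43_2 (flp_e L662844) (flp_h L662624) L685240
theorem L685251 : sm gd N49804 = N48680 := ded_34_1 (flp_e L672463) L650513 L645808 (flp_d L662626) L685240
theorem L685253 : sm gi N47577 = N49805 := rfl
theorem L685255 : sm ga N49805 = N48541 := ded_18_1 L671334 (flp_a L662619) L685253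
theorem L685257 : sm gc N49805 = N47579 := ded_33_1 (flp_i L662636) L662617 L685253
theorem L685259 : sm gd N49805 = N47718 := ded_39_1 (flp_i L663993) (flp_d L662626) L685253
theorem L685261 : sm gg N49805 = N49805 := ded_51_1 (flp_i L685253) L662621 L685253
theorem L685262 : sm gj N49805 = N47582 := ded_53_1 (flp_i L662663) (flp_j L662622) L685253
theorem L685264 : sm gf N47578 = N49806 := rfl
theorem L685266 : sm gd N49806 = N49806 := ded_35_1 (flp_f L685264) L662635 L685264
theorem L685267 : sm gj N49806 = N47583 := ded_46_2 (flp_f L662673) (flp_j L662631) L685264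
theorem L685269 : sm gh N49806 = N47607 := ded_47_2 (flp_f L662861) (flp_h L662633) L685264
theorem L685271 : sm gi N47578 = N49807 := rfl
theorem L685273 : sm gd N49807 = N49807 := ded_39_1 (flp_i L685271) L662635 L685271
theorem L685274 : sm ge N49807 = N47579 := ded_44_1 (flp_i L662636) L662628 L685271
theorem L685276 : sm gg N49807 = N49807 := ded_51_1 (flp_i L685271) L662630 L685271
theorem L685277 : sm gj N49807 = N47584 := ded_53_1 (flp_i L662678) (flp_j L662631) L685271
theorem L685279 : sm gh N47579 = N49808 := rfl
theorem L685281 : sm gg N49808 = N49808 := ded_50_1 (flp_h L685279) L662640 L685279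
theorem L685282 : sm gj N49808 = N47585 := ded_52_1 (flp_h L662685) (flp_j L662641) L685279
theorem L685284 : sm gi N49808 = N47609 := ded_54_2 (flp_h L662876) (flp_i L364055) (flp_h L363921) L662636 L685279
theorem L685286 : sm gi N47580 = N49809 := rfl
theorem L685288 : sm gb N49809 = N47582 := ded_26_1 (flp_i L662663) L662643 L685286
theorem L685290 : sm gd N49809 = N47720 := ded_39_1 (flp_i L664019) (flp_d L662645) L685286
theorem L685292 : sm gg N49809 = N47586 := ded_51_1 (flp_i L662691) (flp_g L662647) L685286
theorem L685294 : sm gf N47581 = N49810 := rfl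
theorem L685296 : sm ga N49810 = N48579 := ded_14_1 (flp_f L671626) (flp_a L662653) L685294
theorem L685298 : sm gc N49810 = N47583 := ded_29_1 (flp_f L662673) (flp_c L662655) L685294
theorem L685300 : sm gd N49810 = N48729 := ded_35_1 (flp_f L672859) (flp_d L662661) L685294
theorem L685302 : sm gh N49810 = N47613 := ded_47_2 (flp_f L662902) (flp_h L662659) L685294
theorem L685304 : sm gi N47581 = N49811 := rfl
theorem L685306 : sm ga N49811 = N48544 := ded_18_1 L671364 (flp_a L662653) L685304
theorem L685308 : sm gc N49811 = N47584 := ded_33_1 (flp_i L662678) (flp_c L662655) L685304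
theorem L685310 : sm gd N49811 = N48678 := ded_39_1 L672446 (flp_d L662661) L685304
theorem L685312 : sm ge N49811 = N47582 := ded_44_1 (flp_i L662663) L662651 L685304
theorem L685314 : sm gg N49811 = N47588 := ded_51_1 (flp_i L662715) (flp_g L662657) L685304
theorem L685316 : sm gh N47582 = N49812 := rfl
theorem L685318 : sm ga N49812 = N48510 := ded_17_1 L671093 (flp_a L662665) L685316
theorem L685320 : sm gc N49812 = N47585 := ded_32_1 (flp_h L662685) (flp_c L662667) L685316
theorem L685322 : sm gg N49812 = N47589 := ded_50_1 (flp_h L662726) (flp_g L662671) L685316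
theorem L685324 : sm gd N49812 = N48419 := ded_38_1 (flp_h L670396) L386671 (flp_h L512915) (flp_d L662669) L685316
theorem L685326 : sm gi N49812 = N47615 := ded_54_2 (flp_h L662916) (flp_i L364075) (flp_h L363935) L662663 L685316
theorem L685328 : sm gg N47583 = N49813 := rfl
theorem L685330 : sm gd N49813 = N49813 := ded_36_1 (flp_g L685328) L662675 L685328
theorem L685331 : sm gh N49813 = N47616 := ded_50_2 (flp_g L662922) (flp_h L662676) L685328
theorem L685333 : sm gf N49813 = N47590 := ded_45_1 (flp_g L662739) (flp_f L363977) (flp_g L363941) L662673 L685328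
theorem L685335 : sm gi N47583 = N49814 := rfl
theorem L685337 : sm gd N49814 = N49814 := ded_39_1 (flp_i L685335) L662675 L685335
theorem L685338 : sm gf N49814 = N47584 := ded_48_1 (flp_i L662678) L662673 L685335
theorem L685340 : sm gh N47584 = N49815 := rfl
theorem L685342 : sm ge N49815 = N47585 := ded_43_1 (flp_h L662685) (flp_e L662681) L685340
theorem L685344 : sm gg N49815 = N47592 := ded_50_1 (flp_h L662754) (flp_g L662683) L685340
theorem L685346 : sm gi N49815 = N47618 := ded_54_2 (flp_h L662934) (flp_i L364087) (flp_h L363943) L662678 L685340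
theorem L685348 : sm gh N47586 = N49816 := rfl
theorem L685350 : sm gb N49816 = N47589 := ded_25_1 (flp_h L662726) (flp_b L662693) L685348
theorem L685352 : sm gf N49816 = N48467 := ded_47_1 (flp_h L670791) (flp_f L662697) L685348
theorem L685354 : sm gj N49816 = N49816 := ded_52_1 (flp_h L685348) L662699 L685348
theorem L685355 : sm gd N49816 = N48421 := ded_38_1 (flp_h L670413) L386715 (flp_h L543096) (flp_d L662695) L685348
theorem L685357 : sm gi N49816 = N47622 := ded_54_2 (flp_h L662971) (flp_i L364112) (flp_h L363959) L662691 L685348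
theorem L685359 : sm gg N47587 = N49817 := rfl
theorem L685361 : sm ga N49817 = N47940 := ded_15_1 L666431 (flp_a L662702) L685359
theorem L685363 : sm gb N49817 = N48012 := ded_23_1 L667104 (flp_b L662704) L685359
theorem L685365 : sm gc N49817 = N47590 := ded_30_1 (flp_g L662739) (flp_c L662706) L685359
theorem L685367 : sm gd N49817 = N47966 := ded_36_1 L666693 (flp_d L662708) L685359
theorem L685369 : sm ge N49817 = N48468 := ded_41_1 (flp_g L670798) (flp_e L662713) L685359
theorem L685371 : sm gh N49817 = N47623 := ded_50_2 (flp_g L662978) (flp_h L662711) L685359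
theorem L685373 : sm gi N47587 = N49818 := rfl
theorem L685375 : sm ga N49818 = N47946 := ded_18_1 (flp_i L666480) (flp_a L662702) L685373
theorem L685377 : sm gb N49818 = N48022 := ded_26_1 (flp_i L667183) (flp_b L662704) L685373
theorem L685379 : sm gc N49818 = N47591 := ded_33_1 (flp_i L662746) (flp_c L662706) L685373
theorem L685381 : sm gd N49818 = N47969 := ded_39_1 (flp_i L666716) (flp_d L662708) L685373
theorem L685383 : sm ge N49818 = N48469 := ded_44_1 (flp_i L670805) (flp_e L662713) L685373
theorem L685385 : sm gf N49818 = N47588 := ded_48_1 (flp_i L662715) L662700 L685373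
theorem L685387 : sm gj N49818 = N49818 := ded_53_1 (flp_i L685373) L662710 L685373
theorem L685388 : sm gh N47588 = N49819 := rfl
theorem L685390 : sm ga N49819 = N48524 := ded_17_1 L671186 (flp_a L662717) L685388
theorem L685392 : sm gc N49819 = N47592 := ded_32_1 (flp_h L662754) (flp_c L662719) L685388
theorem L685394 : sm ge N49819 = N47589 := ded_43_1 (flp_h L662726) (flp_e L662723) L685388
theorem L685396 : sm gj N49819 = N49819 := ded_52_1 (flp_h L685388) L662725 L685388
theorem L685397 : sm gi N49819 = N47625 := ded_54_2 (flp_h L662995) (flp_i L364129) (flp_h L363966) L662715 L685388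
theorem L685399 : sm gj N47590 = N49820 := rfl
theorem L685401 : sm gd N49820 = N49820 := ded_37_1 (flp_j L685399) L662741 L685399
theorem L685402 : sm ge N49820 = N48471 := ded_42_1 (flp_j L670822) (flp_e L662742) L685399
theorem L685404 : sm gh N49820 = N47627 := ded_52_2 (flp_j L663015) (flp_h L662744) L685399
theorem L685406 : sm gg N49820 = N49820 := ded_49_1 (flp_j L685399) (flp_g L662739) L363980 L662739 L685399
theorem L685407 : sm gi N47590 = N49821 := rfl
theorem L685409 : sm gd N49821 = N49821 := ded_39_1 (flp_i L685407) L662741 L685407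
theorem L685410 : sm ge N49821 = N48472 := ded_44_1 (flp_i L670829) (flp_e L662742) L685407
theorem L685412 : sm gg N49821 = N47591 := ded_51_1 (flp_i L662746) L662739 L685407
theorem L685414 : sm gh N47591 = N49822 := rfl
theorem L685416 : sm ge N49822 = N48473 := ded_43_1 (flp_h L670835) (flp_e L662749) L685414
theorem L685418 : sm gf N49822 = N47592 := ded_47_1 (flp_h L662754) (flp_f L662751) L685414
theorem L685420 : sm gj N49822 = N49822 := ded_52_1 (flp_h L685414) L662753 L685414
theorem L685421 : sm gi N49822 = N47629 := ded_54_2 (flp_h L663030) (flp_i L364150) (flp_h L363981) L662746 L685414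
theorem L685423 : sm gd N47592 = N49823 := rfl
theorem L685425 : sm gj N49823 = N49823 := ded_37_2 (flp_d L685423) L662758 L685423
theorem L685426 : sm gi N49823 = N47630 := ded_39_2 (flp_d L663037) (flp_i L662759) L685423
theorem L685428 : sm gh N49823 = N49823 := ded_38_2 (flp_d L685423) (flp_h L662754) L363987 L662754 L685423
theorem L685429 : sm gc N47593 = N49824 := rfl
theorem L685431 : sm gf N49824 = N49824 := ded_29_2 (flp_c L685429) L662763 L685429
theorem L685432 : sm gg N49824 = N47595 := ded_30_2 (flp_c L662777) (flp_g L662764) L685429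
theorem L685434 : sm gj N49824 = N48474 := ded_31_2 (flp_c L670842) (flp_j L662766) L685429
theorem L685436 : sm gd N49824 = N47643 := ded_27_2 (flp_c L663125) (flp_d L364260) (flp_c L364000) L662761 L685429
theorem L685438 : sm ge N47593 = N49825 := rfl
theorem L685440 : sm gg N49825 = N47596 := ded_41_2 (flp_e L662785) (flp_g L662764) L685438
theorem L685442 : sm gj N49825 = N48475 := ded_42_2 (flp_e L670849) (flp_j L662766) L685438
theorem L685444 : sm gi N47593 = N49826 := rfl
theorem L685446 : sm gd N49826 = N47594 := ded_39_1 (flp_i L662768) L662761 L685444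
theorem L685448 : sm gf N49826 = N49826 := ded_48_1 (flp_i L685444) L662763 L685444
theorem L685449 : sm gg N49826 = N47597 := ded_51_1 (flp_i L662789) (flp_g L662764) L685444
theorem L685451 : sm gj N49826 = N48476 := ded_53_1 (flp_i L670853) (flp_j L662766) L685444
theorem L685453 : sm gb N47595 = N49827 := rfl
theorem L685455 : sm gd N49827 = N47646 := ded_20_2 (flp_b L663157) (flp_d L662783) L685453
theorem L685457 : sm gf N49827 = N47604 := ded_22_2 (flp_b L662837) (flp_f L662779) L685453
theorem L685459 : sm gj N49827 = N47598 := ded_24_2 (flp_b L662797) (flp_j L662781) L685453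
theorem L685461 : sm ge N47595 = N49828 := rfl
theorem L685463 : sm gc N49828 = N47596 := ded_28_1 (flp_e L662785) L662777 L685461
theorem L685465 : sm gj N49828 = N47599 := ded_42_2 (flp_e L662805) (flp_j L662781) L685461
theorem L685467 : sm gi N47595 = N49829 := rfl
theorem L685469 : sm gc N49829 = N47597 := ded_33_1 (flp_i L662789) L662777 L685467
theorem L685471 : sm gd N49829 = N47648 := ded_39_1 (flp_i L663176) (flp_d L662783) L685467
theorem L685473 : sm gf N49829 = N47606 := ded_48_1 (flp_i L662852) (flp_f L662779) L685467
theorem L685475 : sm gj N49829 = N47600 := ded_53_1 (flp_i L662811) (flp_j L662781) L685467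
theorem L685477 : sm gf N47596 = N49830 := rfl
theorem L685479 : sm gj N49830 = N47601 := ded_46_2 (flp_f L662821) (flp_j L662787) L685477
theorem L685481 : sm ge N49830 = N47607 := ded_40_1 (flp_f L662861) (flp_e L364048) (flp_f L364009) L662785 L685477
theorem L685483 : sm gi N47596 = N49831 := rfl
theorem L685485 : sm ge N49831 = N47597 := ded_44_1 (flp_i L662789) L662785 L685483
theorem L685487 : sm gj N49831 = N47602 := ded_53_1 (flp_i L662825) (flp_j L662787) L685483
theorem L685489 : sm gh N47597 = N49832 := rfl
theorem L685491 : sm gf N49832 = N47609 := ded_47_1 (flp_h L662876) (flp_f L662793) L685489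
theorem L685493 : sm gj N49832 = N47603 := ded_52_1 (flp_h L662831) (flp_j L662795) L685489
theorem L685495 : sm ga N47598 = N49833 := rfl
theorem L685497 : sm gd N49833 = N47651 := ded_12_2 (flp_a L663207) (flp_d L662799) L685495
theorem L685499 : sm gf N49833 = N47610 := ded_14_2 (flp_a L662881) (flp_f L662801) L685495
theorem L685501 : sm gg N49833 = N48483 := ded_15_2 (flp_a L670902) (flp_g L662803) L685495
theorem L685503 : sm ge N47598 = N49834 := rfl
theorem L685505 : sm gb N49834 = N47599 := ded_21_1 (flp_e L662805) L662797 L685503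
theorem L685507 : sm gg N49834 = N48484 := ded_41_2 (flp_e L670908) (flp_g L662803) L685503
theorem L685509 : sm gi N47598 = N49835 := rfl
theorem L685511 : sm gb N49835 = N47600 := ded_26_1 (flp_i L662811) L662797 L685509
theorem L685513 : sm gd N49835 = N47653 := ded_39_1 (flp_i L663228) (flp_d L662799) L685509
theorem L685515 : sm gf N49835 = N47612 := ded_48_1 (flp_i L662894) (flp_f L662801) L685509
theorem L685517 : sm gg N49835 = N48485 := ded_51_1 (flp_i L670912) (flp_g L662803) L685509
theorem L685519 : sm gd N47599 = N49836 := rfl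
theorem L685521 : sm gg N49836 = N48486 := ded_36_2 (flp_d L670920) (flp_g L662809) L685519
theorem L685523 : sm ge N49836 = N47654 := ded_34_2 (flp_d L663238) (flp_e L364317) (flp_d L364027) L662805 L685519
theorem L685525 : sm gf N47599 = N49837 := rfl
theorem L685527 : sm gc N49837 = N47601 := ded_29_1 (flp_f L662821) (flp_c L662807) L685525
theorem L685529 : sm ge N49837 = N47613 := ded_40_1 (flp_f L662902) (flp_e L364068) (flp_f L364023) L662805 L685525
theorem L685531 : sm gi N47599 = N49838 := rfl
theorem L685533 : sm gc N49838 = N47602 := ded_33_1 (flp_i L662825) (flp_c L662807) L685531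
theorem L685535 : sm ge N49838 = N47600 := ded_44_1 (flp_i L662811) L662805 L685531
theorem L685537 : sm gg N49838 = N48488 := ded_51_1 (flp_i L670930) (flp_g L662809) L685531
theorem L685539 : sm gh N47600 = N49839 := rfl
theorem L685541 : sm gc N49839 = N47603 := ded_32_1 (flp_h L662831) (flp_c L662813) L685539
theorem L685543 : sm gf N49839 = N47615 := ded_47_1 (flp_h L662916) (flp_f L662817) L685539
theorem L685545 : sm gg N49839 = N48489 := ded_50_1 (flp_h L670936) (flp_g L662819) L685539
theorem L685547 : sm gg N47601 = N49840 := rfl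
theorem L685549 : sm ge N49840 = N47616 := ded_41_1 (flp_g L662922) (flp_e L662823) L685547
theorem L685551 : sm gf N49840 = N48490 := ded_45_1 (flp_g L670942) (flp_f L387346) (flp_g L364031) L662821 L685547
theorem L685553 : sm gi N47601 = N49841 := rfl
theorem L685555 : sm ge N49841 = N47617 := ded_44_1 (flp_i L662928) (flp_e L662823) L685553
theorem L685557 : sm gf N49841 = N47602 := ded_48_1 (flp_i L662825) L662821 L685553
theorem L685559 : sm gh N47602 = N49842 := rfl
theorem L685561 : sm ge N49842 = N47603 := ded_43_1 (flp_h L662831) (flp_e L662827) L685559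
theorem L685563 : sm gg N49842 = N48492 := ded_50_1 (flp_h L670952) (flp_g L662829) L685559
theorem L685565 : sm ga N47604 = N49843 := rfl
theorem L685567 : sm gd N49843 = N47658 := ded_12_2 (flp_a L663277) (flp_d L662839) L685565
theorem L685569 : sm gg N49843 = N49843 := ded_15_2 (flp_a L685565) L662841 L685565
theorem L685570 : sm gj N49843 = N47610 := ded_16_2 (flp_a L662881) (flp_j L662842) L685565
theorem L685572 : sm gh N49843 = N48670 := ded_17_2 (flp_a L685238) L685236 L685565
theorem L685574 : sm gb N49843 = N48673 := ded_10_2 L672395 L662211 L662202 L662837 L685565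
theorem L685576 : sm ge N47604 = N49844 := rfl
theorem L685578 : sm gb N49844 = N47605 := ded_21_1 (flp_e L662844) L662837 L685576
theorem L685580 : sm gc N49844 = N48670 := ded_28_1 (flp_e L677543) L677548 L685576
theorem L685582 : sm gg N49844 = N49844 := ded_41_2 (flp_e L685576) L662841 L685576
theorem L685583 : sm gj N49844 = N47611 := ded_42_2 (flp_e L662887) (flp_j L662842) L685576
theorem L685585 : sm gd N49844 = N49844 := ded_34_1 (flp_e L685576) L662839 L364355 (flp_d L662839) L685576
theorem L685586 : sm gi N47604 = N49845 := rfl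
theorem L685588 : sm gb N49845 = N47606 := ded_26_1 (flp_i L662852) L662837 L685586
theorem L685590 : sm gd N49845 = N47659 := ded_39_1 (flp_i L663289) (flp_d L662839) L685586
theorem L685592 : sm gg N49845 = N49845 := ded_51_1 (flp_i L685586) L662841 L685586
theorem L685593 : sm gj N49845 = N47612 := ded_53_1 (flp_i L662894) (flp_j L662842) L685586
theorem L685595 : sm gf N47605 = N49846 := rfl
theorem L685597 : sm gc N49846 = N47607 := ded_29_1 (flp_f L662861) (flp_c L662846) L685595
theorem L685599 : sm gd N49846 = N49846 := ded_35_1 (flp_f L685595) L662851 L685595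
theorem L685600 : sm gj N49846 = N47613 := ded_46_2 (flp_f L662902) (flp_j L662849) L685595
theorem L685602 : sm gi N47605 = N49847 := rfl
theorem L685604 : sm gc N49847 = N47608 := ded_33_1 (flp_i L662867) (flp_c L662846) L685602
theorem L685606 : sm gd N49847 = N49847 := ded_39_1 (flp_i L685602) L662851 L685602
theorem L685607 : sm ge N49847 = N47606 := ded_44_1 (flp_i L662852) L662844 L685602
theorem L685609 : sm gg N49847 = N49847 := ded_51_1 (flp_i L685602) L662848 L685602
theorem L685610 : sm gj N49847 = N47614 := ded_53_1 (flp_i L662907) (flp_j L662849) L685602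
theorem L685612 : sm gh N47606 = N49848 := rfl
theorem L685614 : sm gc N49848 = N47609 := ded_32_1 (flp_h L662876) (flp_c L662854) L685612
theorem L685616 : sm gg N49848 = N49848 := ded_50_1 (flp_h L685612) L662858 L685612
theorem L685617 : sm gj N49848 = N47615 := ded_52_1 (flp_h L662916) (flp_j L662859) L685612
theorem L685619 : sm gg N47607 = N49849 := rfl
theorem L685621 : sm gd N49849 = N47631 := ded_36_1 (flp_g L663042) (flp_d L662863) L685619
theorem L685623 : sm gf N49849 = N49849 := ded_45_1 (flp_g L685619) (flp_f L662861) L364050 L662861 L685619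
theorem L685624 : sm gi N47607 = N49850 := rfl
theorem L685626 : sm gd N49850 = N47632 := ded_39_1 (flp_i L663047) (flp_d L662863) L685624
theorem L685628 : sm gf N49850 = N47608 := ded_48_1 (flp_i L662867) L662861 L685624
theorem L685630 : sm gj N49850 = N47617 := ded_53_1 (flp_i L662928) (flp_j L662865) L685624
theorem L685632 : sm gh N47608 = N49851 := rfl
theorem L685634 : sm ge N49851 = N47609 := ded_43_1 (flp_h L662876) (flp_e L662871) L685632
theorem L685636 : sm gg N49851 = N49851 := ded_50_1 (flp_h L685632) L662873 L685632
theorem L685637 : sm gj N49851 = N47618 := ded_52_1 (flp_h L662934) (flp_j L662874) L685632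
theorem L685639 : sm gi N47610 = N49852 := rfl
theorem L685641 : sm ga N49852 = N47612 := ded_18_1 (flp_i L662894) L662881 L685639
theorem L685643 : sm gd N49852 = N47661 := ded_39_1 (flp_i L663311) (flp_d L662883) L685639
theorem L685645 : sm gg N49852 = N47619 := ded_51_1 (flp_i L662940) (flp_g L662885) L685639
theorem L685647 : sm gf N47611 = N49853 := rfl
theorem L685649 : sm gb N49853 = N47613 := ded_22_1 (flp_f L662902) (flp_b L662889) L685647
theorem L685651 : sm gd N49853 = N49853 := ded_35_1 (flp_f L685647) L662893 L685647
theorem L685652 : sm gi N47611 = N49854 := rfl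
theorem L685654 : sm gb N49854 = N47614 := ded_26_1 (flp_i L662907) (flp_b L662889) L685652
theorem L685656 : sm gd N49854 = N49854 := ded_39_1 (flp_i L685652) L662893 L685652
theorem L685657 : sm ge N49854 = N47612 := ded_44_1 (flp_i L662894) L662887 L685652
theorem L685659 : sm gg N49854 = N47621 := ded_51_1 (flp_i L662963) (flp_g L662891) L685652
theorem L685661 : sm gh N47612 = N49855 := rfl
theorem L685663 : sm gb N49855 = N47615 := ded_25_1 (flp_h L662916) (flp_b L662896) L685661
theorem L685665 : sm gg N49855 = N47622 := ded_50_1 (flp_h L662971) (flp_g L662900) L685661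
theorem L685667 : sm gg N47613 = N49856 := rfl
theorem L685669 : sm gc N49856 = N47616 := ded_30_1 (flp_g L662922) (flp_c L662904) L685667
theorem L685671 : sm gd N49856 = N49856 := ded_36_1 (flp_g L685667) L662906 L685667
theorem L685672 : sm gf N49856 = N47623 := ded_45_1 (flp_g L662978) (flp_f L364121) (flp_g L364072) L662902 L685667
theorem L685674 : sm gi N47613 = N49857 := rfl
theorem L685676 : sm gc N49857 = N47617 := ded_33_1 (flp_i L662928) (flp_c L662904) L685674
theorem L685678 : sm gd N49857 = N49857 := ded_39_1 (flp_i L685674) L662906 L685674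
theorem L685679 : sm gf N49857 = N47614 := ded_48_1 (flp_i L662907) L662902 L685674
theorem L685681 : sm gh N47614 = N49858 := rfl
theorem L685683 : sm gc N49858 = N47618 := ded_32_1 (flp_h L662934) (flp_c L662909) L685681
theorem L685685 : sm ge N49858 = N47615 := ded_43_1 (flp_h L662916) (flp_e L662912) L685681
theorem L685687 : sm gg N49858 = N47625 := ded_50_1 (flp_h L662995) (flp_g L662914) L685681
theorem L685689 : sm gd N47615 = N49859 := rfl
theorem L685691 : sm ga N49859 = N48461 := ded_12_1 (flp_d L684834) L684828 L685689
theorem L685693 : sm gg N49859 = N47626 := ded_36_2 (flp_d L663002) (flp_g L662920) L685689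
theorem L685695 : sm gi N49859 = N48419 := ded_39_2 (flp_d L685324) L685326 L685689
theorem L685697 : sm gc N49859 = N48403 := ded_27_1 (flp_d L683990) L683986 L661407 (flp_c L662918) L685689
theorem L685699 : sm gh N49859 = N47663 := ded_38_2 (flp_d L663331) (flp_h L364399) (flp_d L364079) L662916 L685689
theorem L685701 : sm gj N47616 = N49860 := rfl
theorem L685703 : sm gd N49860 = N47634 := ded_37_1 (flp_j L663063) (flp_d L662924) L685701
theorem L685705 : sm gf N49860 = N47627 := ded_46_1 (flp_j L663015) (flp_f L662926) L685701
theorem L685707 : sm gi N47616 = N49861 := rfl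
theorem L685709 : sm gd N49861 = N47635 := ded_39_1 (flp_i L663069) (flp_d L662924) L685707
theorem L685711 : sm gf N49861 = N47628 := ded_48_1 (flp_i L663022) (flp_f L662926) L685707
theorem L685713 : sm gg N49861 = N47617 := ded_51_1 (flp_i L662928) L662922 L685707
theorem L685715 : sm gh N47617 = N49862 := rfl
theorem L685717 : sm gf N49862 = N47618 := ded_47_1 (flp_h L662934) (flp_f L662932) L685715
theorem L685719 : sm gd N47618 = N49863 := rfl
theorem L685721 : sm gg N49863 = N47630 := ded_36_2 (flp_d L663037) (flp_g L662938) L685719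
theorem L685723 : sm gh N49863 = N47637 := ded_38_2 (flp_d L663082) (flp_h L364196) (flp_d L364089) L662934 L685719
theorem L685725 : sm gh N47619 = N49864 := rfl
theorem L685727 : sm ga N49864 = N47622 := ded_17_1 (flp_h L662971) (flp_a L662942) L685725
theorem L685729 : sm gf N49864 = N48515 := ded_47_1 (flp_h L671122) (flp_f L662946) L685725
theorem L685731 : sm gj N49864 = N49864 := ded_52_1 (flp_h L685725) L662948 L685725
theorem L685732 : sm gg N47620 = N49865 := rfl
theorem L685734 : sm ga N49865 = N47982 := ded_15_1 L666842 (flp_a L662951) L685732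
theorem L685736 : sm gb N49865 = N47623 := ded_23_1 (flp_g L662978) (flp_b L662953) L685732
theorem L685738 : sm gc N49865 = N48456 := ded_30_1 L670709 (flp_c L662955) L685732
theorem L685740 : sm gd N49865 = N49865 := ded_36_1 (flp_g L685732) L662957 L685732
theorem L685741 : sm ge N49865 = N48516 := ded_41_1 (flp_g L671127) (flp_e L662961) L685732
theorem L685743 : sm gh N49865 = N48012 := ded_50_2 L667104 (flp_h L662959) L685732
theorem L685745 : sm gi N47620 = N49866 := rfl
theorem L685747 : sm ga N49866 = N47989 := ded_18_1 (flp_i L666912) (flp_a L662951) L685745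
theorem L685749 : sm gb N49866 = N47624 := ded_26_1 (flp_i L662985) (flp_b L662953) L685745
theorem L685751 : sm gc N49866 = N48465 := ded_33_1 (flp_i L670776) (flp_c L662955) L685745
theorem L685753 : sm gd N49866 = N49866 := ded_39_1 (flp_i L685745) L662957 L685745
theorem L685754 : sm ge N49866 = N48517 := ded_44_1 (flp_i L671133) (flp_e L662961) L685745
theorem L685756 : sm gf N49866 = N47621 := ded_48_1 (flp_i L662963) L662949 L685745
theorem L685758 : sm gj N49866 = N49866 := ded_53_1 (flp_i L685745) L662958 L685745
theorem L685759 : sm gh N47621 = N49867 := rfl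
theorem L685761 : sm gb N49867 = N47625 := ded_25_1 (flp_h L662995) (flp_b L662965) L685759
theorem L685763 : sm ge N49867 = N47622 := ded_43_1 (flp_h L662971) (flp_e L662968) L685759
theorem L685765 : sm gj N49867 = N49867 := ded_52_1 (flp_h L685759) L662970 L685759
theorem L685766 : sm gd N47622 = N49868 := rfl
theorem L685768 : sm gb N49868 = N47626 := ded_20_1 (flp_d L663002) (flp_b L662973) L685766
theorem L685770 : sm gf N49868 = N48519 := ded_35_2 (flp_d L671149) (flp_f L662975) L685766
theorem L685772 : sm gj N49868 = N49868 := ded_37_2 (flp_d L685766) L662977 L685766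
theorem L685773 : sm gi N49868 = N48421 := ded_39_2 (flp_d L685355) L685357 L685766
theorem L685775 : sm gh N49868 = N47665 := ded_38_2 (flp_d L663355) (flp_h L364418) (flp_d L364116) L662971 L685766
theorem L685777 : sm gj N47623 = N49869 := rfl
theorem L685779 : sm gc N49869 = N47627 := ded_31_1 (flp_j L663015) (flp_c L662980) L685777
theorem L685781 : sm gd N49869 = N49869 := ded_37_1 (flp_j L685777) L662982 L685777
theorem L685782 : sm ge N49869 = N48520 := ded_42_1 (flp_j L671156) (flp_e L662983) L685777
theorem L685784 : sm gg N49869 = N49869 := ded_49_1 (flp_j L685777) (flp_g L662978) L364126 L662978 L685777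
theorem L685785 : sm gi N47623 = N49870 := rfl
theorem L685787 : sm gc N49870 = N47628 := ded_33_1 (flp_i L663022) (flp_c L662980) L685785
theorem L685789 : sm gd N49870 = N49870 := ded_39_1 (flp_i L685785) L662982 L685785
theorem L685790 : sm ge N49870 = N48521 := ded_44_1 (flp_i L671163) (flp_e L662983) L685785
theorem L685792 : sm gg N49870 = N47624 := ded_51_1 (flp_i L662985) L662978 L685785
theorem L685794 : sm gh N47624 = N49871 := rfl
theorem L685796 : sm gc N49871 = N47629 := ded_32_1 (flp_h L663030) (flp_c L662987) L685794
theorem L685798 : sm ge N49871 = N48522 := ded_43_1 (flp_h L671171) (flp_e L662990) L685794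
theorem L685800 : sm gf N49871 = N47625 := ded_47_1 (flp_h L662995) (flp_f L662992) L685794
theorem L685802 : sm gj N49871 = N49871 := ded_52_1 (flp_h L685794) L662994 L685794
theorem L685803 : sm gd N47625 = N49872 := rfl
theorem L685805 : sm gj N49872 = N49872 := ded_37_2 (flp_d L685803) L663001 L685803
theorem L685806 : sm gh N49872 = N49872 := ded_38_2 (flp_d L685803) (flp_h L662995) L364133 L662995 L685803
theorem L685807 : sm ge N47626 = N49873 := rfl
theorem L685809 : sm ga N49873 = N48470 := ded_13_1 L670817 (flp_a L663004) L685807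
theorem L685811 : sm gc N49873 = N47876 := ded_28_1 L665774 (flp_c L663011) L685807
theorem L685813 : sm gj N49873 = N49873 := ded_42_2 (flp_e L685807) L663008 L685807
theorem L685814 : sm gh N49873 = N47666 := ded_43_2 (flp_e L663364) (flp_h L663013) L685807
theorem L685816 : sm gi N49873 = N47889 := ded_44_2 L665921 (flp_i L663009) L685807
theorem L685818 : sm gi N47627 = N49874 := rfl
theorem L685820 : sm gd N49874 = N47638 := ded_39_1 (flp_i L663087) (flp_d L663017) L685818
theorem L685822 : sm ge N49874 = N48525 := ded_44_1 (flp_i L671188) (flp_e L663019) L685818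
theorem L685824 : sm gg N49874 = N49874 := ded_51_1 (flp_i L685818) L663021 L685818
theorem L685825 : sm gj N49874 = N47628 := ded_53_1 (flp_i L663022) L663015 L685818
theorem L685827 : sm gh N47628 = N49875 := rfl
theorem L685829 : sm ge N49875 = N48526 := ded_43_1 (flp_h L671195) (flp_e L663026) L685827
theorem L685831 : sm gg N49875 = N47629 := ded_50_1 (flp_h L663030) (flp_g L663028) L685827
theorem L685833 : sm gd N47629 = N49876 := rfl
theorem L685835 : sm gf N49876 = N47630 := ded_35_2 (flp_d L663037) (flp_f L663034) L685833
theorem L685837 : sm gj N49876 = N49876 := ded_37_2 (flp_d L685833) L663036 L685833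
theorem L685838 : sm gh N49876 = N47640 := ded_38_2 (flp_d L663103) (flp_h L364218) (flp_d L364152) L663030 L685833
theorem L685840 : sm gc N47630 = N49877 := rfl
theorem L685842 : sm gj N49877 = N49877 := ded_31_2 (flp_c L685840) L663039 L685840
theorem L685843 : sm gh N49877 = N47641 := ded_32_2 (flp_c L663109) (flp_h L663040) L685840
theorem L685845 : sm gj N47631 = N49878 := rfl
theorem L685847 : sm gc N49878 = N49878 := ded_31_1 (flp_j L685845) L663044 L685845
theorem L685848 : sm gf N49878 = N49878 := ded_46_1 (flp_j L685845) L663046 L685845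
theorem L685849 : sm gh N49878 = N49878 := ded_52_2 (flp_j L685845) L663045 L685845
theorem L685850 : sm gg N49878 = N47634 := ded_49_1 (flp_j L663063) (flp_g L364185) (flp_j L364167) L663042 L685845
theorem L685852 : sm gi N47631 = N49879 := rfl
theorem L685854 : sm gc N49879 = N49879 := ded_33_1 (flp_i L685852) L663044 L685852
theorem L685855 : sm gf N49879 = N49879 := ded_48_1 (flp_i L685852) L663046 L685852
theorem L685856 : sm gg N49879 = N47632 := ded_51_1 (flp_i L663047) L663042 L685852
theorem L685858 : sm gh N47632 = N49880 := rfl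
theorem L685860 : sm gc N49880 = N49880 := ded_32_1 (flp_h L685858) L663049 L685858
theorem L685861 : sm gf N49880 = N47633 := ded_47_1 (flp_h L663054) (flp_f L663050) L685858
theorem L685863 : sm gj N49880 = N47636 := ded_52_1 (flp_h L663076) (flp_j L663052) L685858
theorem L685865 : sm gi N49880 = N49880 := ded_54_2 (flp_h L685858) (flp_i L663047) L364169 L663047 L685858
theorem L685866 : sm gd N47633 = N49881 := rfl
theorem L685868 : sm gg N49881 = N49881 := ded_36_2 (flp_d L685866) L663059 L685866
theorem L685869 : sm gj N49881 = N47637 := ded_37_2 (flp_d L663082) (flp_j L663060) L685866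
theorem L685871 : sm gi N49881 = N49881 := ded_39_2 (flp_d L685866) L663062 L685866
theorem L685872 : sm gi N47634 = N49882 := rfl
theorem L685874 : sm gc N49882 = N49882 := ded_33_1 (flp_i L685872) L663065 L685872
theorem L685875 : sm gf N49882 = N47638 := ded_48_1 (flp_i L663087) (flp_f L663066) L685872
theorem L685877 : sm gj N49882 = N47635 := ded_53_1 (flp_i L663069) L663063 L685872
theorem L685879 : sm gh N47635 = N49883 := rfl
theorem L685881 : sm gc N49883 = N49883 := ded_32_1 (flp_h L685879) L663071 L685879
theorem L685882 : sm gf N49883 = N47639 := ded_47_1 (flp_h L663095) (flp_f L663072) L685879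
theorem L685884 : sm gg N49883 = N47636 := ded_50_1 (flp_h L663076) (flp_g L663074) L685879
theorem L685886 : sm gi N49883 = N49883 := ded_54_2 (flp_h L685879) (flp_i L663069) L364188 L663069 L685879
theorem L685887 : sm gd N47636 = N49884 := rfl
theorem L685889 : sm gf N49884 = N47637 := ded_35_2 (flp_d L663082) (flp_f L663079) L685887
theorem L685891 : sm gi N49884 = N49884 := ded_39_2 (flp_d L685887) L663081 L685887
theorem L685892 : sm gc N47637 = N49885 := rfl
theorem L685894 : sm gg N49885 = N47641 := ded_30_2 (flp_c L663109) (flp_g L663084) L685892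
theorem L685896 : sm gi N49885 = N49885 := ded_33_2 (flp_c L685892) L663086 L685892
theorem L685897 : sm gd N49885 = N49885 := ded_27_2 (flp_c L685892) (flp_d L663082) L364198 L663082 L685892
theorem L685898 : sm gh N47638 = N49886 := rfl
theorem L685900 : sm gc N49886 = N49886 := ded_32_1 (flp_h L685898) L663089 L685898
theorem L685901 : sm ge N49886 = N47642 := ded_43_1 (flp_h L663114) (flp_e L663090) L685898
theorem L685903 : sm gg N49886 = N49886 := ded_50_1 (flp_h L685898) L663092 L685898
theorem L685904 : sm gj N49886 = N47639 := ded_52_1 (flp_h L663095) (flp_j L663093) L685898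
theorem L685906 : sm gi N49886 = N49886 := ded_54_2 (flp_h L685898) (flp_i L663087) L364209 L663087 L685898
theorem L685907 : sm gd N47639 = N49887 := rfl
theorem L685909 : sm gg N49887 = N47640 := ded_36_2 (flp_d L663103) (flp_g L663100) L685907
theorem L685911 : sm gi N49887 = N49887 := ded_39_2 (flp_d L685907) L663102 L685907
theorem L685912 : sm gc N47640 = N49888 := rfl
theorem L685914 : sm ge N49888 = N48058 := ded_28_2 (flp_c L677084) L677086 L685912
theorem L685916 : sm gf N49888 = N47641 := ded_29_2 (flp_c L663109) (flp_f L663105) L685912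
theorem L685918 : sm gj N49888 = N49888 := ded_31_2 (flp_c L685912) L663107 L685912
theorem L685919 : sm gi N49888 = N49888 := ded_33_2 (flp_c L685912) L663108 L685912
theorem L685920 : sm gd N49888 = N49888 := ded_27_2 (flp_c L685912) (flp_d L663103) L364220 L663103 L685912
theorem L685921 : sm gb N48059 = N49888 := ded_21_3 L685914 L667478 L667482
theorem L685923 : sm gb N47641 = N49889 := rfl
theorem L685925 : sm gd N49889 = N49889 := ded_20_2 (flp_b L685923) L663113 L685923
theorem L685926 : sm gf N49889 = N48059 := ded_22_2 L685921 L685916 L685923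
theorem L685928 : sm gj N49889 = N49889 := ded_24_2 (flp_b L685923) L663111 L685923
theorem L685929 : sm gi N49889 = N49889 := ded_26_2 (flp_b L685923) L663112 L685923
theorem L685930 : sm gb N47643 = N49890 := rfl
theorem L685932 : sm gf N49890 = N49890 := ded_22_2 (flp_b L685930) L663127 L685930
theorem L685933 : sm gg N49890 = N47646 := ded_23_2 (flp_b L663157) (flp_g L663128) L685930
theorem L685935 : sm gj N49890 = N47737 := ded_24_2 L664261 (flp_j L663130) L685930
theorem L685937 : sm gh N49890 = N47727 := ded_25_2 (flp_b L664121) (flp_h L663132) L685930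
theorem L685939 : sm gc N49890 = N47667 := ded_19_2 (flp_b L663374) (flp_c L364437) (flp_b L364262) L663125 L685930
theorem L685941 : sm ga N49890 = N48564 := ded_56_6 L671525 L391192 (flp_e L391186) L268821 (flp_c L185054) L127453 L88049 (flp_h L126251) L126247 L87134 (flp_d L61881) L42886 (flp_b L61802) (flp_a L89149) (flp_h L89147) (flp_f L89136) L647727 L115270 L115268 L79806 L55375 L79863 (flp_f L115169) (flp_e L166803) L642985 L122695 (flp_b L124742) (flp_a L180920) (flp_h L180918) L124608 (flp_e L125387) L125385 L562885 L120016 L82986 (flp_h L82984) (flp_f L82971) L82970 (flp_d L118634) (flp_c L169108) (flp_b L245301) L567831 (flp_h L273117) L273115 L187905 L129449 (flp_c L183172) (flp_b L261186) (flp_a L502347) (flp_h L362213) (flp_f L359813) (flp_e L658446) (flp_d L679348) L679346 L657521 L657519 (flp_h L653106) L653100 L361141 L364260 L663125 L685930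
theorem L685943 : sm ge N47732 = N49890 := ded_42_3 L685935 L664265 (flp_j L664207)
theorem L685945 : sm ge N47643 = N49891 := rfl
theorem L685947 : sm gb N49891 = N47732 := ded_21_1 L685943 (flp_b L685930) L685945
theorem L685949 : sm gc N49891 = N47644 := ded_28_1 (flp_e L663134) L663125 L685945
theorem L685951 : sm gg N49891 = N47647 := ded_41_2 (flp_e L663167) (flp_g L663128) L685945
theorem L685953 : sm gj N49891 = N47734 := ded_42_2 L664231 (flp_j L663130) L685945
theorem L685955 : sm gh N49891 = N47728 := ded_43_2 (flp_e L664136) (flp_h L663132) L685945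
theorem L685957 : sm gf N47741 = N49891 := ded_22_0 L685947 L664205 (flp_b L664310)
theorem L685959 : sm gi N47643 = N49892 := rfl
theorem L685961 : sm gc N49892 = N47645 := ded_33_1 (flp_i L663146) L663125 L685959
theorem L685963 : sm gf N49892 = N49892 := ded_48_1 (flp_i L685959) L663127 L685959
theorem L685964 : sm gg N49892 = N47648 := ded_51_1 (flp_i L663176) (flp_g L663128) L685959
theorem L685966 : sm gj N49892 = N48530 := ded_53_1 (flp_i L671223) (flp_j L663130) L685959
theorem L685968 : sm gi N47644 = N49893 := rfl
theorem L685970 : sm gb N49893 = N47669 := ded_26_1 (flp_i L663401) (flp_b L663136) L685968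
theorem L685972 : sm ge N49893 = N47645 := ded_44_1 (flp_i L663146) L663134 L685968
theorem L685974 : sm gf N49893 = N47683 := ded_48_1 L663583 L663144 L685968
theorem L685976 : sm gg N49893 = N47649 := ded_51_1 (flp_i L663184) (flp_g L663138) L685968
theorem L685978 : sm gj N49893 = N47678 := ded_53_1 L663527 (flp_j L663140) L685968
theorem L685980 : sm gh N49893 = N47673 := ded_54_1 (flp_i L663460) L364472 (flp_i L647140) (flp_h L663142) L685968
theorem L685982 : sm gh N47645 = N49894 := rfl
theorem L685984 : sm ga N49894 = N48562 := ded_17_1 (flp_h L684970) L684960 L685982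
theorem L685986 : sm gb N49894 = N47670 := ded_25_1 (flp_h L663416) (flp_b L663148) L685982
theorem L685988 : sm ge N49894 = N47673 := ded_43_1 (flp_h L685980) L685972 L685982
theorem L685990 : sm gf N49894 = N49894 := ded_47_1 (flp_h L685982) L663152 L685982
theorem L685991 : sm gg N49894 = N47650 := ded_50_1 (flp_h L663193) (flp_g L663153) L685982
theorem L685993 : sm gj N49894 = N47677 := ded_52_1 L663515 (flp_j L663155) L685982
theorem L685995 : sm gd N49894 = N48388 := ded_38_1 (flp_h L684222) L684213 L661596 (flp_d L663150) L685982
theorem L685997 : sm gi N49894 = N47672 := ded_54_2 L663455 (flp_i L369324) (flp_h L364269) L663146 L685982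
theorem L685999 : sm ga N47646 = N49895 := rfl
theorem L686001 : sm gc N49895 = N47671 := ded_11_2 (flp_a L663432) (flp_c L663165) L685999
theorem L686003 : sm gf N49895 = N47658 := ded_14_2 (flp_a L663277) (flp_f L663159) L685999
theorem L686005 : sm gg N49895 = N48564 := ded_15_2 (flp_a L685941) L685933 L685999
theorem L686007 : sm gj N49895 = N47651 := ded_16_2 (flp_a L663207) (flp_j L663161) L685999
theorem L686009 : sm gh N49895 = N47730 := ded_17_2 (flp_a L664169) (flp_h L663163) L685999
theorem L686011 : sm gb N49895 = N48552 := ded_10_2 L671433 L662405 L662397 L663157 L685999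
theorem L686013 : sm ge N48561 = N49895 := ded_28_0 L686001 (flp_e L663443) L671495
theorem L686015 : sm ge N47646 = N49896 := rfl
theorem L686017 : sm ga N49896 = N48561 := ded_13_1 L686013 (flp_a L685999) L686015
theorem L686019 : sm gb N49896 = N47647 := ded_21_1 (flp_e L663167) L663157 L686015
theorem L686021 : sm gc N49896 = N47672 := ded_28_1 (flp_e L663445) (flp_c L663165) L686015
theorem L686023 : sm gg N49896 = N47732 := ded_41_2 L685943 L685933 L686015
theorem L686025 : sm gj N49896 = N47652 := ded_42_2 (flp_e L663217) (flp_j L663161) L686015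
theorem L686027 : sm gh N49896 = N47729 := ded_43_2 L664162 (flp_h L663163) L686015
theorem L686029 : sm gf N49896 = N49896 := ded_40_2 (flp_e L686015) L663159 L364355 (flp_f L663159) L686015
theorem L686030 : sm gi N47646 = N49897 := rfl
theorem L686032 : sm gb N49897 = N47648 := ded_26_1 (flp_i L663176) L663157 L686030
theorem L686034 : sm gc N49897 = N47673 := ded_33_1 (flp_i L663460) (flp_c L663165) L686030
theorem L686036 : sm gf N49897 = N47659 := ded_48_1 (flp_i L663289) (flp_f L663159) L686030
theorem L686038 : sm gj N49897 = N47653 := ded_53_1 (flp_i L663228) (flp_j L663161) L686030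
theorem L686040 : sm gd N47647 = N49898 := rfl
theorem L686042 : sm gf N49898 = N49898 := ded_35_2 (flp_d L686040) L663175 L686040
theorem L686043 : sm gj N49898 = N47654 := ded_37_2 (flp_d L663238) (flp_j L663171) L686040
theorem L686045 : sm gi N47647 = N49899 := rfl
theorem L686047 : sm gc N49899 = N47649 := ded_33_1 (flp_i L663184) (flp_c L663169) L686045
theorem L686049 : sm ge N49899 = N47648 := ded_44_1 (flp_i L663176) L663167 L686045
theorem L686051 : sm gf N49899 = N49899 := ded_48_1 (flp_i L686045) L663175 L686045
theorem L686052 : sm gj N49899 = N47655 := ded_53_1 (flp_i L663243) (flp_j L663171) L686045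
theorem L686054 : sm gh N47648 = N49900 := rfl
theorem L686056 : sm ga N49900 = N48565 := ded_17_1 (flp_h L684997) L684987 L686054
theorem L686058 : sm gc N49900 = N47650 := ded_32_1 (flp_h L663193) (flp_c L663178) L686054
theorem L686060 : sm gf N49900 = N47660 := ded_47_1 (flp_h L663299) (flp_f L663180) L686054
theorem L686062 : sm gj N49900 = N47656 := ded_52_1 (flp_h L663252) (flp_j L663182) L686054
theorem L686064 : sm gi N49900 = N47732 := ded_54_2 (flp_h L664199) (flp_i L369350) (flp_h L364286) L663176 L686054
theorem L686066 : sm gh N47649 = N49901 := rfl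
theorem L686068 : sm ga N49901 = N48566 := ded_17_1 (flp_h L685009) L685001 L686066
theorem L686070 : sm gb N49901 = N47668 := ded_25_1 L663399 (flp_b L663186) L686066
theorem L686072 : sm ge N49901 = N47650 := ded_43_1 (flp_h L663193) (flp_e L663188) L686066
theorem L686074 : sm gf N49901 = N49901 := ded_47_1 (flp_h L686066) L663190 L686066
theorem L686075 : sm gg N49901 = N47673 := ded_50_1 (flp_h L685980) L685976 L686066
theorem L686077 : sm gj N49901 = N47657 := ded_52_1 (flp_h L663264) (flp_j L663191) L686066
theorem L686079 : sm gi N49901 = N47667 := ded_54_2 L663383 (flp_i L369358) (flp_h L364294) L663184 L686066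
theorem L686081 : sm ge N47651 = N49902 := rfl
theorem L686083 : sm ga N49902 = N47652 := ded_13_1 (flp_e L663217) L663207 L686081
theorem L686085 : sm gc N49902 = N47674 := ded_28_1 (flp_e L663468) (flp_c L663209) L686081
theorem L686087 : sm gg N49902 = N47711 := ded_41_2 L663908 (flp_g L663213) L686081
theorem L686089 : sm gj N49902 = N48561 := ded_42_2 L686013 L686007 L686081
theorem L686091 : sm gh N49902 = N47722 := ded_43_2 L664048 (flp_h L663215) L686081
theorem L686093 : sm gf N49902 = N49902 := ded_40_2 (flp_e L686081) L663211 L364385 (flp_f L663211) L686081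
theorem L686094 : sm gi N47651 = N49903 := rfl
theorem L686096 : sm ga N49903 = N47653 := ded_18_1 (flp_i L663228) L663207 L686094
theorem L686098 : sm gc N49903 = N47675 := ded_33_1 (flp_i L663482) (flp_c L663209) L686094
theorem L686100 : sm gf N49903 = N47661 := ded_48_1 (flp_i L663311) (flp_f L663211) L686094
theorem L686102 : sm gg N49903 = N48535 := ded_51_1 (flp_i L671280) (flp_g L663213) L686094
theorem L686104 : sm gd N47652 = N49904 := rfl
theorem L686106 : sm gb N49904 = N47654 := ded_20_1 (flp_d L663238) (flp_b L663219) L686104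
theorem L686108 : sm gf N49904 = N49904 := ded_35_2 (flp_d L686104) L663227 L686104
theorem L686109 : sm gg N49904 = N48536 := ded_36_2 (flp_d L671288) (flp_g L663223) L686104
theorem L686111 : sm gi N47652 = N49905 := rfl
theorem L686113 : sm gb N49905 = N47655 := ded_26_1 (flp_i L663243) (flp_b L663219) L686111
theorem L686115 : sm gc N49905 = N47677 := ded_33_1 (flp_i L663506) (flp_c L663221) L686111
theorem L686117 : sm ge N49905 = N47653 := ded_44_1 (flp_i L663228) L663217 L686111
theorem L686119 : sm gf N49905 = N49905 := ded_48_1 (flp_i L686111) L663227 L686111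
theorem L686120 : sm gg N49905 = N48534 := ded_51_1 L671278 (flp_g L663223) L686111
theorem L686122 : sm gh N49905 = N48530 := ded_54_1 (flp_i L671223) L387678 (flp_i L629239) (flp_h L663225) L686111
theorem L686124 : sm gh N47653 = N49906 := rfl
theorem L686126 : sm gb N49906 = N47656 := ded_25_1 (flp_h L663252) (flp_b L663230) L686124
theorem L686128 : sm gc N49906 = N47678 := ded_32_1 (flp_h L663517) (flp_c L663232) L686124
theorem L686130 : sm ge N49906 = N48530 := ded_43_1 (flp_h L686122) L686117 L686124
theorem L686132 : sm gf N49906 = N47662 := ded_47_1 (flp_h L663320) (flp_f L663234) L686124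
theorem L686134 : sm gg N49906 = N48533 := ded_50_1 L671264 (flp_g L663236) L686124
theorem L686136 : sm gi N49906 = N47734 := ded_54_2 (flp_h L664225) (flp_i L369393) (flp_h L364313) L663228 L686124
theorem L686138 : sm gh N47654 = N49907 := rfl
theorem L686140 : sm gf N49907 = N49907 := ded_47_1 (flp_h L686138) L663240 L686138
theorem L686141 : sm gg N49907 = N48537 := ded_50_1 (flp_h L671296) (flp_g L663241) L686138
theorem L686143 : sm gd N49907 = N47735 := ded_38_1 (flp_h L664237) (flp_d L369403) (flp_h L364323) L663238 L686138
theorem L686145 : sm gi N47654 = N49908 := rfl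
theorem L686147 : sm gd N49908 = N47655 := ded_39_1 (flp_i L663243) L663238 L686145
theorem L686149 : sm gf N49908 = N49908 := ded_48_1 (flp_i L686145) L663240 L686145
theorem L686150 : sm gg N49908 = N48538 := ded_51_1 (flp_i L671302) (flp_g L663241) L686145
theorem L686152 : sm gh N47655 = N49909 := rfl
theorem L686154 : sm ga N49909 = N48571 := ded_17_1 (flp_h L685067) L685058 L686152
theorem L686156 : sm gb N49909 = N48530 := ded_25_1 (flp_h L686122) L686113 L686152
theorem L686158 : sm gc N49909 = N47657 := ded_32_1 (flp_h L663264) (flp_c L663245) L686152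
theorem L686160 : sm ge N49909 = N47656 := ded_43_1 (flp_h L663252) (flp_e L663247) L686152
theorem L686162 : sm gf N49909 = N49909 := ded_47_1 (flp_h L686152) L663249 L686152
theorem L686163 : sm gg N49909 = N48531 := ded_50_1 L671242 (flp_g L663250) L686152
theorem L686165 : sm gi N49909 = N47737 := ded_54_2 (flp_h L664257) (flp_i L369409) (flp_h L364323) L663243 L686152
theorem L686167 : sm gd N47656 = N49910 := rfl
theorem L686169 : sm ga N49910 = N48447 := ded_12_1 L670639 (flp_a L663254) L686167
theorem L686171 : sm gf N49910 = N47663 := ded_35_2 (flp_d L663331) (flp_f L663258) L686167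
theorem L686173 : sm gg N49910 = N48539 := ded_36_2 (flp_d L671308) (flp_g L663260) L686167
theorem L686175 : sm gi N49910 = N47738 := ded_39_2 (flp_d L664270) (flp_i L663262) L686167
theorem L686177 : sm gc N49910 = N48401 := ded_27_1 L670258 L386472 (flp_d L562427) (flp_c L663256) L686167
theorem L686179 : sm gd N47657 = N49911 := rfl
theorem L686181 : sm ga N49911 = N48559 := ded_12_1 L671484 (flp_a L663266) L686179
theorem L686183 : sm gb N49911 = N47681 := ded_20_1 (flp_d L663556) (flp_b L663268) L686179
theorem L686185 : sm gf N49911 = N49911 := ded_35_2 (flp_d L686179) L663272 L686179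
theorem L686186 : sm gg N49911 = N48061 := ded_36_2 L667500 (flp_g L663273) L686179
theorem L686188 : sm gi N49911 = N47739 := ded_39_2 (flp_d L664282) (flp_i L663275) L686179
theorem L686190 : sm ge N49911 = N48551 := ded_34_2 L671427 L390474 (flp_d L562427) (flp_e L663270) L686179
theorem L686192 : sm gi N47658 = N49912 := rfl
theorem L686194 : sm ga N49912 = N47659 := ded_18_1 (flp_i L663289) L663277 L686192
theorem L686196 : sm gb N49912 = N48728 := ded_26_1 (flp_i L672852) (flp_b L663287) L686192
theorem L686198 : sm gc N49912 = N47682 := ded_33_1 (flp_i L663566) (flp_c L663279) L686192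
theorem L686200 : sm ge N49912 = N49912 := ded_44_1 (flp_i L686192) L663281 L686192
theorem L686201 : sm gg N49912 = N49912 := ded_51_1 (flp_i L686192) L663282 L686192
theorem L686202 : sm gj N49912 = N47661 := ded_53_1 (flp_i L663311) (flp_j L663283) L686192
theorem L686204 : sm gh N47659 = N49913 := rfl
theorem L686206 : sm gb N49913 = N47660 := ded_25_1 (flp_h L663299) (flp_b L663291) L686204
theorem L686208 : sm gc N49913 = N47683 := ded_32_1 (flp_h L663575) (flp_c L663293) L686204
theorem L686210 : sm ge N49913 = N49913 := ded_43_1 (flp_h L686204) L663295 L686204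
theorem L686211 : sm gg N49913 = N49913 := ded_50_1 (flp_h L686204) L663296 L686204
theorem L686212 : sm gj N49913 = N47662 := ded_52_1 (flp_h L663320) (flp_j L663297) L686204
theorem L686214 : sm gi N49913 = N47741 := ded_54_2 (flp_h L664308) (flp_i L369443) (flp_h L364359) L663289 L686204
theorem L686216 : sm gd N47660 = N49914 := rfl
theorem L686218 : sm ga N49914 = N48453 := ded_12_1 L670682 (flp_a L663301) L686216
theorem L686220 : sm gg N49914 = N49914 := ded_36_2 (flp_d L686216) L663306 L686216
theorem L686221 : sm gj N49914 = N47663 := ded_37_2 (flp_d L663331) (flp_j L663307) L686216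
theorem L686223 : sm gi N49914 = N47742 := ded_39_2 (flp_d L664318) (flp_i L663309) L686216
theorem L686225 : sm gc N49914 = N48402 := ded_27_1 L670266 L386489 (flp_d L562414) (flp_c L663303) L686216
theorem L686227 : sm gh N47661 = N49915 := rfl
theorem L686229 : sm ga N49915 = N47662 := ded_17_1 (flp_h L663320) (flp_a L663313) L686227
theorem L686231 : sm gb N49915 = N48574 := ded_25_1 (flp_h L685081) L685073 L686227
theorem L686233 : sm gc N49915 = N47685 := ded_32_1 (flp_h L663593) (flp_c L663315) L686227
theorem L686235 : sm ge N49915 = N49915 := ded_43_1 (flp_h L686227) L663317 L686227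
theorem L686236 : sm gg N49915 = N47664 := ded_50_1 (flp_h L663341) (flp_g L663318) L686227
theorem L686238 : sm gi N49915 = N47743 := ded_54_2 (flp_h L664329) (flp_i L369461) (flp_h L364388) L663311 L686227
theorem L686240 : sm gd N47662 = N49916 := rfl
theorem L686242 : sm gb N49916 = N47663 := ded_20_1 (flp_d L663331) (flp_b L663322) L686240
theorem L686244 : sm gg N49916 = N47665 := ded_36_2 (flp_d L663355) (flp_g L663327) L686240
theorem L686246 : sm gi N49916 = N47744 := ded_39_2 (flp_d L664340) (flp_i L663329) L686240
theorem L686248 : sm ge N47663 = N49917 := rfl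
theorem L686250 : sm ga N49917 = N48460 := ded_13_1 L670742 (flp_a L663333) L686248
theorem L686252 : sm gc N49917 = N47875 := ded_28_1 L665764 (flp_c L663339) L686248
theorem L686254 : sm gg N49917 = N47666 := ded_41_2 (flp_e L663364) (flp_g L663335) L686248
theorem L686256 : sm gi N49917 = N47745 := ded_44_2 (flp_e L664348) (flp_i L663337) L686248
theorem L686258 : sm gd N49917 = N49917 := ded_34_1 (flp_e L686248) (flp_d L663331) L364403 L663331 L686248
theorem L686259 : sm gi N47671 = N49918 := rfl
theorem L686261 : sm ga N49918 = N47673 := ded_18_1 (flp_i L663460) L663432 L686259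
theorem L686263 : sm gb N49918 = N49918 := ded_26_1 (flp_i L686259) L663442 L686259
theorem L686264 : sm ge N49918 = N48562 := ded_44_1 (flp_i L671502) L663443 L686259
theorem L686266 : sm gf N49918 = N47682 := ded_48_1 (flp_i L663566) (flp_f L663434) L686259
theorem L686268 : sm gg N49918 = N48566 := ded_51_1 (flp_i L671536) (flp_g L663436) L686259
theorem L686270 : sm gj N49918 = N47675 := ded_53_1 (flp_i L663482) (flp_j L663438) L686259
theorem L686272 : sm gi N47674 = N49919 := rfl
theorem L686274 : sm ga N49919 = N47677 := ded_18_1 (flp_i L663506) (flp_a L663470) L686272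
theorem L686276 : sm gb N49919 = N49919 := ded_26_1 (flp_i L686272) L663472 L686272
theorem L686277 : sm gd N49919 = N47710 := ded_39_1 (flp_i L663896) L663480 L686272
theorem L686279 : sm ge N49919 = N47675 := ded_44_1 (flp_i L663482) L663468 L686272
theorem L686281 : sm gf N49919 = N49919 := ded_48_1 (flp_i L686272) L663479 L686272
theorem L686282 : sm gg N49919 = N47712 := ded_51_1 (flp_i L663916) (flp_g L663473) L686272
theorem L686284 : sm gj N49919 = N48562 := ded_53_1 (flp_i L671502) (flp_j L663475) L686272
theorem L686286 : sm gh N49919 = N48423 := ded_54_1 (flp_i L670427) L386915 (flp_i L546151) (flp_h L663477) L686272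
theorem L686288 : sm gh N47675 = N49920 := rfl
theorem L686290 : sm ga N49920 = N47678 := ded_17_1 (flp_h L663517) (flp_a L663484) L686288
theorem L686292 : sm gb N49920 = N49920 := ded_25_1 (flp_h L686288) L663486 L686288
theorem L686293 : sm ge N49920 = N48423 := ded_43_1 (flp_h L686286) L686279 L686288
theorem L686295 : sm gf N49920 = N47685 := ded_47_1 (flp_h L663593) (flp_f L663487) L686288
theorem L686297 : sm gg N49920 = N48427 := ded_50_1 L670479 (flp_g L663489) L686288
theorem L686299 : sm gi N49920 = N47746 := ded_54_2 (flp_h L664359) (flp_i L369625) (flp_h L364516) L663482 L686288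
theorem L686301 : sm gi N47676 = N49921 := rfl
theorem L686303 : sm ga N49921 = N47710 := ded_18_1 (flp_i L663896) (flp_a L663493) L686301
theorem L686305 : sm gb N49921 = N47679 := ded_26_1 (flp_i L663529) (flp_b L663495) L686301
theorem L686307 : sm gd N49921 = N47677 := ded_39_1 (flp_i L663506) L663491 L686301
theorem L686309 : sm ge N49921 = N48386 := ded_44_1 (flp_i L670110) (flp_e L663502) L686301
theorem L686311 : sm gf N49921 = N49921 := ded_48_1 (flp_i L686301) L663497 L686301
theorem L686312 : sm gg N49921 = N47697 := ded_51_1 (flp_i L663733) (flp_g L663498) L686301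
theorem L686314 : sm gj N49921 = N48388 := ded_53_1 (flp_i L670129) (flp_j L663500) L686301
theorem L686316 : sm gh N49921 = N48373 := ded_54_1 (flp_i L669987) L385634 (flp_i L562974) (flp_h L663504) L686301
theorem L686318 : sm gd N47678 = N49922 := rfl
theorem L686320 : sm gb N49922 = N47680 := ded_20_1 (flp_d L663545) (flp_b L663519) L686318
theorem L686322 : sm gf N49922 = N47686 := ded_35_2 (flp_d L663603) (flp_f L663523) L686318
theorem L686324 : sm gg N49922 = N48283 := ded_36_2 L669261 (flp_g L663525) L686318
theorem L686326 : sm gi N49922 = N47747 := ded_39_2 (flp_d L664370) (flp_i L663527) L686318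
theorem L686328 : sm ge N49922 = N48280 := ded_34_2 L669236 L384198 (flp_d L387692) (flp_e L663521) L686318
theorem L686330 : sm gh N47682 = N49923 := rfl
theorem L686332 : sm ga N49923 = N47683 := ded_17_1 (flp_h L663575) (flp_a L663568) L686330
theorem L686334 : sm gb N49923 = N49923 := ded_25_1 (flp_h L686330) L663570 L686330
theorem L686335 : sm ge N49923 = N49923 := ded_43_1 (flp_h L686330) L663571 L686330
theorem L686336 : sm gg N49923 = N49923 := ded_50_1 (flp_h L686330) L663572 L686330
theorem L686337 : sm gj N49923 = N47685 := ded_52_1 (flp_h L663593) (flp_j L663573) L686330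
theorem L686339 : sm gi N49923 = N47748 := ded_54_2 (flp_h L664381) (flp_i L369703) (flp_h L364579) L663566 L686330
theorem L686341 : sm gd N47683 = N49924 := rfl
theorem L686343 : sm gb N49924 = N47684 := ded_20_1 (flp_d L663585) (flp_b L663577) L686341
theorem L686345 : sm gg N49924 = N49924 := ded_36_2 (flp_d L686341) L663580 L686341
theorem L686346 : sm gj N49924 = N47686 := ded_37_2 (flp_d L663603) (flp_j L663581) L686341
theorem L686348 : sm gi N49924 = N47749 := ded_39_2 (flp_d L664390) (flp_i L663583) L686341
theorem L686350 : sm gh N47688 = N49925 := rfl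
theorem L686352 : sm ga N49925 = N48308 := ded_17_1 (flp_h L669483) (flp_a L663621) L686350
theorem L686354 : sm gb N49925 = N49925 := ded_25_1 (flp_h L686350) L663623 L686350
theorem L686355 : sm ge N49925 = N47692 := ded_43_1 (flp_h L663666) (flp_e L663625) L686350
theorem L686357 : sm gf N49925 = N48549 := ded_47_1 (flp_h L671405) L663631 L686350
theorem L686359 : sm gg N49925 = N47689 := ded_50_1 (flp_h L663633) L663619 L686350
theorem L686361 : sm gj N49925 = N48545 := ded_52_1 (flp_h L671368) (flp_j L663629) L686350
theorem L686363 : sm gd N48306 = N49925 := ded_12_0 L686352 (flp_d L669471) (flp_a L669458)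
theorem L686365 : sm gi N47689 = N49926 := rfl
theorem L686367 : sm ga N49926 = N48377 := ded_18_1 (flp_i L670023) (flp_a L663635) L686365
theorem L686369 : sm gb N49926 = N49926 := ded_26_1 (flp_i L686365) L663637 L686365
theorem L686370 : sm ge N49926 = N47693 := ded_44_1 (flp_i L663678) (flp_e L663638) L686365
theorem L686372 : sm gf N49926 = N49926 := ded_48_1 (flp_i L686365) L663640 L686365
theorem L686373 : sm gj N49926 = N47691 := ded_53_1 (flp_i L663654) (flp_j L663641) L686365
theorem L686375 : sm gh N49926 = N47706 := ded_54_1 (flp_i L663860) (flp_h L368810) (flp_i L367128) L663633 L686365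
theorem L686377 : sm gi N47690 = N49927 := rfl
theorem L686379 : sm ga N49927 = N48188 := ded_18_1 (flp_i L668587) (flp_a L663645) L686377
theorem L686381 : sm gb N49927 = N49927 := ded_26_1 (flp_i L686377) L663647 L686377
theorem L686382 : sm gd N49927 = N47691 := ded_39_1 (flp_i L663654) L663643 L686377
theorem L686384 : sm ge N49927 = N48153 := ded_44_1 (flp_i L668348) (flp_e L663651) L686377
theorem L686386 : sm gf N49927 = N49927 := ded_48_1 (flp_i L686377) L663648 L686377
theorem L686387 : sm gg N49927 = N48547 := ded_51_1 (flp_i L671390) (flp_g L663649) L686377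
theorem L686389 : sm gi N47692 = N49928 := rfl
theorem L686391 : sm ga N49928 = N48373 := ded_18_1 (flp_i L669987) (flp_a L663668) L686389
theorem L686393 : sm gb N49928 = N49928 := ded_26_1 (flp_i L686389) L663670 L686389
theorem L686394 : sm gd N49928 = N48329 := ded_39_1 (flp_i L669656) (flp_d L663676) L686389
theorem L686396 : sm gf N49928 = N49928 := ded_48_1 (flp_i L686389) L663671 L686389
theorem L686397 : sm gg N49928 = N47693 := ded_51_1 (flp_i L663678) (flp_g L663672) L686389
theorem L686399 : sm gj N49928 = N48548 := ded_53_1 (flp_i L671397) (flp_j L663674) L686389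
theorem L686401 : sm gh N49928 = N47710 := ded_54_1 (flp_i L663896) (flp_h L368833) (flp_i L367143) L663666 L686389
theorem L686403 : sm gi N47694 = N49929 := rfl
theorem L686405 : sm ga N49929 = N47706 := ded_18_1 (flp_i L663860) (flp_a L663693) L686403
theorem L686407 : sm gb N49929 = N48068 := ded_26_1 (flp_i L667562) (flp_b L663695) L686403
theorem L686409 : sm gd N49929 = N48066 := ded_39_1 (flp_i L667548) L663704 L686403
theorem L686411 : sm ge N49929 = N47697 := ded_44_1 (flp_i L663733) (flp_e L663697) L686403
theorem L686413 : sm gf N49929 = N49929 := ded_48_1 (flp_i L686403) L663699 L686403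
theorem L686414 : sm gg N49929 = N48386 := ded_51_1 (flp_i L670110) (flp_g L663700) L686403
theorem L686416 : sm gj N49929 = N47696 := ded_53_1 (flp_i L663720) (flp_j L663702) L686403
theorem L686418 : sm gh N49929 = N48377 := ded_54_1 (flp_i L670023) L385659 (flp_i L513284) L663691 L686403
theorem L686420 : sm gc N47695 = N49930 := rfl
theorem L686422 : sm ga N49930 = N47707 := ded_11_1 (flp_c L663868) (flp_a L663708) L686420
theorem L686424 : sm ge N49930 = N48039 := ded_28_2 L667331 (flp_e L663717) L686420
theorem L686426 : sm gf N49930 = N49930 := ded_29_2 (flp_c L686420) L663712 L686420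
theorem L686427 : sm gg N49930 = N48550 := ded_30_2 (flp_c L671416) (flp_g L663713) L686420
theorem L686429 : sm gj N49930 = N48045 := ded_31_2 L667378 (flp_j L663715) L686420
theorem L686431 : sm gh N49930 = N49930 := ded_32_2 (flp_c L686420) L663719 L686420
theorem L686432 : sm gb N49930 = N48040 := ded_19_1 L667335 L380090 (flp_c L380246) (flp_b L663710) L686420
theorem L686434 : sm gi N47695 = N49931 := rfl
theorem L686436 : sm ga N49931 = N47709 := ded_18_1 (flp_i L663888) (flp_a L663708) L686434
theorem L686438 : sm gb N49931 = N48062 := ded_26_1 (flp_i L667506) (flp_b L663710) L686434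
theorem L686440 : sm gd N49931 = N47696 := ded_39_1 (flp_i L663720) L663706 L686434
theorem L686442 : sm ge N49931 = N48061 := ded_44_1 (flp_i L667496) (flp_e L663717) L686434
theorem L686444 : sm gf N49931 = N49931 := ded_48_1 (flp_i L686434) L663712 L686434
theorem L686445 : sm gg N49931 = N48551 := ded_51_1 (flp_i L671423) (flp_g L663713) L686434
theorem L686447 : sm gj N49931 = N48066 := ded_53_1 (flp_i L667548) (flp_j L663715) L686434
theorem L686449 : sm ge N47698 = N49932 := rfl
theorem L686451 : sm ga N49932 = N47728 := ded_13_1 (flp_e L664136) (flp_a L663749) L686449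
theorem L686453 : sm gb N49932 = N47726 := ded_21_1 L664119 L663760 L686449
theorem L686455 : sm gc N49932 = N47699 := ded_28_1 (flp_e L663762) L663747 L686449
theorem L686457 : sm gg N49932 = N47700 := ded_41_2 (flp_e L663776) (flp_g L663752) L686449
theorem L686459 : sm gj N49932 = N47733 := ded_42_2 L664219 (flp_j L663754) L686449
theorem L686461 : sm gi N49932 = N47730 := ded_44_2 L664175 (flp_i L663756) L686449
theorem L686463 : sm gd N49932 = N47725 := ded_34_1 (flp_e L664091) L369049 L369384 (flp_d L663758) L686449
theorem L686465 : sm gf N47740 = N49932 := ded_14_0 L686451 (flp_f L664148) (flp_a L664296)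
theorem L686467 : sm ge N47701 = N49933 := rfl
theorem L686469 : sm ga N49933 = N47702 := ded_13_1 (flp_e L663806) L663791 L686467
theorem L686471 : sm gb N49933 = N47722 := ded_21_1 L664048 (flp_b L663804) L686467
theorem L686473 : sm gc N49933 = N49933 := ded_28_1 (flp_e L686467) L663793 L686467
theorem L686474 : sm gg N49933 = N47723 := ded_41_2 L664063 (flp_g L663798) L686467
theorem L686476 : sm gj N49933 = N47736 := ded_42_2 L664252 (flp_j L663800) L686467
theorem L686478 : sm gi N49933 = N47731 := ded_44_2 L664197 (flp_i L663802) L686467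
theorem L686480 : sm gd N49933 = N47727 := ded_34_1 (flp_e L664132) L562329 L390787 (flp_d L663794) L686467
theorem L686482 : sm gf N49933 = N49933 := ded_40_2 (flp_e L686467) L663796 L368753 (flp_f L663796) L686467
theorem L686483 : sm gh N47703 = N49934 := rfl
theorem L686485 : sm ga N49934 = N47735 := ded_17_1 (flp_h L664237) (flp_a L663822) L686483
theorem L686487 : sm gb N49934 = N48564 := ded_25_1 L671525 (flp_b L663824) L686483
theorem L686489 : sm gc N49934 = N49934 := ded_32_1 (flp_h L686483) L663833 L686483
theorem L686490 : sm ge N49934 = N48563 := ded_43_1 L671516 (flp_e L663834) L686483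
theorem L686492 : sm gf N49934 = N49934 := ded_47_1 (flp_h L686483) L663826 L686483
theorem L686493 : sm gg N49934 = N48552 := ded_50_1 (flp_h L671431) (flp_g L663827) L686483
theorem L686495 : sm gj N49934 = N48568 := ded_52_1 L671556 (flp_j L663829) L686483
theorem L686497 : sm gi N47704 = N49935 := rfl
theorem L686499 : sm ga N49935 = N48386 := ded_18_1 (flp_i L670110) (flp_a L663838) L686497
theorem L686501 : sm gb N49935 = N49935 := ded_26_1 (flp_i L686497) L663840 L686497
theorem L686502 : sm ge N49935 = N47710 := ded_44_1 (flp_i L663896) (flp_e L663841) L686497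
theorem L686504 : sm gf N49935 = N48390 := ded_48_1 (flp_i L670148) (flp_f L663843) L686497
theorem L686506 : sm gg N49935 = N47706 := ded_51_1 (flp_i L663860) (flp_g L663845) L686497
theorem L686508 : sm gj N49935 = N48387 := ded_53_1 (flp_i L670118) (flp_j L663847) L686497
theorem L686510 : sm gc N47705 = N49936 := rfl
theorem L686512 : sm ga N49936 = N48045 := ded_11_1 L667378 (flp_a L663851) L686510
theorem L686514 : sm ge N49936 = N48044 := ded_28_2 L667369 (flp_e L663857) L686510
theorem L686516 : sm gf N49936 = N49936 := ded_29_2 (flp_c L686510) L663854 L686510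
theorem L686517 : sm gj N49936 = N47707 := ded_31_2 (flp_c L663868) (flp_j L663855) L686510
theorem L686519 : sm gh N49936 = N49936 := ded_32_2 (flp_c L686510) L663859 L686510
theorem L686520 : sm gi N47705 = N49937 := rfl
theorem L686522 : sm ga N49937 = N48066 := ded_18_1 (flp_i L667548) (flp_a L663851) L686520
theorem L686524 : sm gb N49937 = N49937 := ded_26_1 (flp_i L686520) L663853 L686520
theorem L686525 : sm gd N49937 = N47706 := ded_39_1 (flp_i L663860) L663849 L686520
theorem L686527 : sm ge N49937 = N48065 := ded_44_1 (flp_i L667539) (flp_e L663857) L686520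
theorem L686529 : sm gf N49937 = N49937 := ded_48_1 (flp_i L686520) L663854 L686520
theorem L686530 : sm gj N49937 = N47709 := ded_53_1 (flp_i L663888) (flp_j L663855) L686520
theorem L686532 : sm gb N47707 = N49938 := rfl
theorem L686534 : sm gf N49938 = N49938 := ded_22_2 (flp_b L686532) L663870 L686532
theorem L686535 : sm gg N49938 = N48556 := ded_23_2 (flp_b L671463) (flp_g L663871) L686532
theorem L686537 : sm gh N49938 = N49938 := ded_25_2 (flp_b L686532) L663873 L686532
theorem L686538 : sm gc N49938 = N49938 := ded_19_2 (flp_b L686532) (flp_c L663868) L368820 L663868 L686532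
theorem L686539 : sm ge N47707 = N49939 := rfl
theorem L686541 : sm ga N49939 = N48039 := ded_13_1 (flp_e L686424) L686422 L686539
theorem L686543 : sm gc N49939 = N47708 := ded_28_1 (flp_e L663874) L663868 L686539
theorem L686545 : sm gg N49939 = N48557 := ded_41_2 (flp_e L671469) (flp_g L663871) L686539
theorem L686547 : sm gj N49939 = N48044 := ded_42_2 (flp_e L686514) L686517 L686539
theorem L686549 : sm gh N49939 = N49939 := ded_43_2 (flp_e L686539) L663873 L686539
theorem L686550 : sm gf N48051 = N49939 := ded_14_0 L686541 L667326 L667415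
theorem L686552 : sm gi N47707 = N49940 := rfl
theorem L686554 : sm gc N49940 = N47709 := ded_33_1 (flp_i L663888) L663868 L686552
theorem L686556 : sm gf N49940 = N49940 := ded_48_1 (flp_i L686552) L663870 L686552
theorem L686557 : sm gg N49940 = N48558 := ded_51_1 (flp_i L671475) (flp_g L663871) L686552
theorem L686559 : sm gi N47708 = N49941 := rfl
theorem L686561 : sm ga N49941 = N48061 := ded_18_1 (flp_i L667496) (flp_a L663876) L686559
theorem L686563 : sm gb N49941 = N49941 := ded_26_1 (flp_i L686559) L663878 L686559
theorem L686564 : sm gd N49941 = N47716 := ded_39_1 (flp_i L663966) (flp_d L663884) L686559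
theorem L686566 : sm ge N49941 = N47709 := ded_44_1 (flp_i L663888) L663874 L686559
theorem L686568 : sm gf N49941 = N48071 := ded_48_1 (flp_i L667599) L663886 L686559
theorem L686570 : sm gg N49941 = N48559 := ded_51_1 (flp_i L671481) (flp_g L663879) L686559
theorem L686572 : sm gj N49941 = N48065 := ded_53_1 (flp_i L667539) (flp_j L663881) L686559
theorem L686574 : sm gh N47709 = N49942 := rfl
theorem L686576 : sm gb N49942 = N49942 := ded_25_1 (flp_h L686574) L663890 L686574
theorem L686577 : sm gf N49942 = N49942 := ded_47_1 (flp_h L686574) L663893 L686574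
theorem L686578 : sm gg N49942 = N48560 := ded_50_1 (flp_h L671489) (flp_g L663894) L686574
theorem L686580 : sm gi N49942 = N49942 := ded_54_2 (flp_h L686574) (flp_i L663888) L368824 L663888 L686574
theorem L686581 : sm gb N47711 = N49943 := rfl
theorem L686583 : sm ge N49943 = N48428 := ded_21_2 L670488 (flp_e L663908) L686581
theorem L686585 : sm gf N49943 = N47717 := ded_22_2 (flp_b L663981) (flp_f L663910) L686581
theorem L686587 : sm gj N49943 = N47713 := ded_24_2 (flp_b L663931) (flp_j L663912) L686581
theorem L686589 : sm gh N49943 = N47723 := ded_25_2 (flp_b L664059) (flp_h L663914) L686581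
theorem L686591 : sm ga N49943 = N48429 := ded_10_1 L670492 L386966 (flp_b L387755) (flp_a L663906) L686581
theorem L686593 : sm gc N49943 = N49943 := ded_19_2 (flp_b L686581) (flp_c L663904) L368843 L663904 L686581
theorem L686594 : sm gi N47711 = N49944 := rfl
theorem L686596 : sm ga N49944 = N48534 := ded_18_1 L671278 (flp_a L663906) L686594
theorem L686598 : sm gc N49944 = N47712 := ded_33_1 (flp_i L663916) L663904 L686594
theorem L686600 : sm ge N49944 = N48535 := ded_44_1 (flp_i L671280) (flp_e L663908) L686594
theorem L686602 : sm gf N49944 = N47718 := ded_48_1 (flp_i L663993) (flp_f L663910) L686594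
theorem L686604 : sm gj N49944 = N47715 := ded_53_1 (flp_i L663954) (flp_j L663912) L686594
theorem L686606 : sm gh N49944 = N48426 := ded_54_1 (flp_i L670458) L386933 (flp_i L546174) (flp_h L663914) L686594
theorem L686608 : sm ga N47713 = N49945 := rfl
theorem L686610 : sm gc N49945 = N49945 := ded_11_2 (flp_a L686608) L663939 L686608
theorem L686611 : sm gf N49945 = N47719 := ded_14_2 (flp_a L664006) (flp_f L663933) L686608
theorem L686613 : sm gg N49945 = N48567 := ded_15_2 (flp_a L671544) (flp_g L663935) L686608
theorem L686615 : sm gj N49945 = N48429 := ded_16_2 (flp_a L686591) L686587 L686608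
theorem L686617 : sm gh N49945 = N47724 := ded_17_2 (flp_a L664074) (flp_h L663937) L686608
theorem L686619 : sm gb N49945 = N48425 := ded_10_2 L670448 L629294 (flp_a L512924) L663931 L686608
theorem L686621 : sm ge N48424 = N49945 := ded_40_5 L686611 L664009 L650320 (flp_e L387002) (flp_f L670439)
theorem L686623 : sm ge N47713 = N49946 := rfl
theorem L686625 : sm ga N49946 = N48424 := ded_13_1 L686621 (flp_a L686608) L686623
theorem L686627 : sm gb N49946 = N47714 := ded_21_1 (flp_e L663940) L663931 L686623
theorem L686629 : sm gc N49946 = N49946 := ded_28_1 (flp_e L686623) L663939 L686623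
theorem L686630 : sm gg N49946 = N48568 := ded_41_2 (flp_e L671551) (flp_g L663935) L686623
theorem L686632 : sm gj N49946 = N48428 := ded_42_2 (flp_e L686583) L686587 L686623
theorem L686634 : sm gh N49946 = N47725 := ded_43_2 (flp_e L664091) (flp_h L663937) L686623
theorem L686636 : sm gf N49946 = N48433 := ded_40_2 L670525 L650403 (flp_e L543330) (flp_f L663933) L686623
theorem L686638 : sm gi N47713 = N49947 := rfl
theorem L686640 : sm gb N49947 = N47715 := ded_26_1 (flp_i L663954) L663931 L686638
theorem L686642 : sm gc N49947 = N49947 := ded_33_1 (flp_i L686638) L663939 L686638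
theorem L686643 : sm gf N49947 = N47720 := ded_48_1 (flp_i L664019) (flp_f L663933) L686638
theorem L686645 : sm gg N49947 = N48569 := ded_51_1 (flp_i L671559) (flp_g L663935) L686638
theorem L686647 : sm gh N49947 = N48430 := ded_54_1 (flp_i L670499) L386961 (flp_i L543416) (flp_h L663937) L686638
theorem L686649 : sm gd N47714 = N49948 := rfl
theorem L686651 : sm ga N49948 = N48477 := ded_12_1 L670862 (flp_a L663942) L686649
theorem L686653 : sm gf N49948 = N48493 := ded_35_2 L670958 (flp_f L663952) L686649
theorem L686655 : sm gg N49948 = N48570 := ded_36_2 (flp_d L671566) (flp_g L663946) L686649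
theorem L686657 : sm gj N49948 = N48483 := ded_37_2 L670904 (flp_j L663948) L686649
theorem L686659 : sm gi N47714 = N49949 := rfl
theorem L686661 : sm ga N49949 = N48531 := ded_18_1 (flp_i L671230) (flp_a L663942) L686659
theorem L686663 : sm gc N49949 = N47716 := ded_33_1 (flp_i L663966) (flp_c L663944) L686659
theorem L686665 : sm ge N49949 = N47715 := ded_44_1 (flp_i L663954) L663940 L686659
theorem L686667 : sm gf N49949 = N48540 := ded_48_1 (flp_i L671314) (flp_f L663952) L686659
theorem L686669 : sm gg N49949 = N48571 := ded_51_1 (flp_i L671569) (flp_g L663946) L686659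
theorem L686671 : sm gj N49949 = N48535 := ded_53_1 (flp_i L671280) (flp_j L663948) L686659
theorem L686673 : sm gh N49949 = N48432 := ded_54_1 (flp_i L670512) L386970 (flp_i L546209) (flp_h L663950) L686659
theorem L686675 : sm gi N47717 = N49950 := rfl
theorem L686677 : sm ga N49950 = N48671 := ded_18_1 (flp_i L672371) (flp_a L663990) L686675
theorem L686679 : sm gb N49950 = N47718 := ded_26_1 (flp_i L663993) L663981 L686675
theorem L686681 : sm gc N49950 = N49950 := ded_33_1 (flp_i L686675) L663992 L686675
theorem L686682 : sm ge N49950 = N48669 := ded_44_1 (flp_i L672352) (flp_e L663983) L686675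
theorem L686684 : sm gg N49950 = N49950 := ded_51_1 (flp_i L686675) L663985 L686675
theorem L686685 : sm gj N49950 = N47720 := ded_53_1 (flp_i L664019) (flp_j L663986) L686675
theorem L686687 : sm gh N49950 = N48434 := ded_54_1 (flp_i L670534) L387007 (flp_i L543351) (flp_h L663988) L686675
theorem L686689 : sm gi N47719 = N49951 := rfl
theorem L686691 : sm ga N49951 = N47720 := ded_18_1 (flp_i L664019) L664006 L686689
theorem L686693 : sm gb N49951 = N48542 := ded_26_1 L671348 (flp_b L664017) L686689
theorem L686695 : sm gc N49951 = N49951 := ded_33_1 (flp_i L686689) L664008 L686689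
theorem L686696 : sm ge N49951 = N48668 := ded_44_1 (flp_i L672337) (flp_e L664009) L686689
theorem L686698 : sm gg N49951 = N47721 := ded_51_1 (flp_i L664030) (flp_g L664011) L686689
theorem L686700 : sm gj N49951 = N48671 := ded_53_1 (flp_i L672371) (flp_j L664013) L686689
theorem L686702 : sm gh N49951 = N48435 := ded_54_1 (flp_i L670544) L387040 (flp_i L543188) (flp_h L664015) L686689
theorem L686704 : sm gh N47726 = N49952 := rfl
theorem L686706 : sm ga N49952 = N48563 := ded_17_1 L671516 (flp_a L664108) L686704
theorem L686708 : sm gc N49952 = N49952 := ded_32_1 (flp_h L686704) L664118 L686704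
theorem L686709 : sm ge N49952 = N47735 := ded_43_1 (flp_h L664237) (flp_e L664119) L686704
theorem L686711 : sm gf N49952 = N48572 := ded_47_1 L671583 (flp_f L664110) L686704
theorem L686713 : sm gg N49952 = N48575 := ded_50_1 (flp_h L671604) (flp_g L664112) L686704
theorem L686715 : sm gj N49952 = N48567 := ded_52_1 L671549 (flp_j L664114) L686704
theorem L686717 : sm gh N47731 = N49953 := rfl
theorem L686719 : sm ga N49953 = N48568 := ded_17_1 L671556 (flp_a L664187) L686717
theorem L686721 : sm gb N49953 = N48422 := ded_25_1 L670425 (flp_b L664189) L686717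
theorem L686723 : sm gc N49953 = N49953 := ded_32_1 (flp_h L686717) L664196 L686717
theorem L686724 : sm ge N49953 = N48567 := ded_43_1 L671549 (flp_e L664197) L686717
theorem L686726 : sm gf N49953 = N49953 := ded_47_1 (flp_h L686717) L664191 L686717
theorem L686727 : sm gg N49953 = N48424 := ded_50_1 L670443 (flp_g L664192) L686717
theorem L686729 : sm gj N49953 = N47735 := ded_52_1 (flp_h L664237) (flp_j L664194) L686717
theorem L686731 : sm gd N47732 = N49954 := rfl
theorem L686733 : sm ga N49954 = N48442 := ded_12_1 L670605 (flp_a L664201) L686731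
theorem L686735 : sm gf N49954 = N47742 := ded_35_2 (flp_d L664318) (flp_f L664205) L686731
theorem L686737 : sm gj N49954 = N47738 := ded_37_2 (flp_d L664270) (flp_j L664207) L686731
theorem L686739 : sm gc N49954 = N48398 := ded_27_1 (flp_d L670228) L386454 (flp_d L562357) (flp_c L664203) L686731
theorem L686741 : sm gh N49954 = N48406 := ded_38_2 L670303 L386933 (flp_d L562329) L664199 L686731
theorem L686743 : sm gh N47733 = N49955 := rfl
theorem L686745 : sm ga N49955 = N47734 := ded_17_1 (flp_h L664225) (flp_a L664211) L686743
theorem L686747 : sm gb N49955 = N48567 := ded_25_1 L671549 (flp_b L664213) L686743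
theorem L686749 : sm gc N49955 = N47746 := ded_32_1 (flp_h L664359) (flp_c L664215) L686743
theorem L686751 : sm ge N49955 = N48422 := ded_43_1 L670425 (flp_e L664219) L686743
theorem L686753 : sm gf N49955 = N47743 := ded_47_1 (flp_h L664329) (flp_f L664221) L686743
theorem L686755 : sm gg N49955 = N48425 := ded_50_1 L670454 (flp_g L664223) L686743
theorem L686757 : sm gd N47734 = N49956 := rfl
theorem L686759 : sm gb N49956 = N47738 := ded_20_1 (flp_d L664270) (flp_b L664227) L686757
theorem L686761 : sm gf N49956 = N47744 := ded_35_2 (flp_d L664340) (flp_f L664233) L686757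
theorem L686763 : sm gg N49956 = N48532 := ded_36_2 (flp_d L671244) (flp_g L664235) L686757
theorem L686765 : sm gh N49956 = N48409 := ded_38_2 L670323 L386961 (flp_d L543391) L664225 L686757
theorem L686767 : sm gi N47735 = N49957 := rfl
theorem L686769 : sm gc N49957 = N49957 := ded_33_1 (flp_i L686767) L664239 L686767
theorem L686770 : sm gf N49957 = N49957 := ded_48_1 (flp_i L686767) L664240 L686767
theorem L686771 : sm gg N49957 = N48576 := ded_51_1 (flp_i L671610) (flp_g L664241) L686767
theorem L686773 : sm gh N47736 = N49958 := rfl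
theorem L686775 : sm ga N49958 = N48575 := ded_17_1 (flp_h L671604) (flp_a L664245) L686773
theorem L686777 : sm gb N49958 = N48561 := ded_25_1 L671500 (flp_b L664247) L686773
theorem L686779 : sm gc N49958 = N49958 := ded_32_1 (flp_h L686773) L664249 L686773
theorem L686780 : sm ge N49958 = N48552 := ded_43_1 (flp_h L671431) (flp_e L664252) L686773
theorem L686782 : sm gf N49958 = N49958 := ded_47_1 (flp_h L686773) L664254 L686773
theorem L686783 : sm gg N49958 = N48563 := ded_50_1 L671516 (flp_g L664255) L686773
theorem L686785 : sm gd N47737 = N49959 := rfl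
theorem L686787 : sm ga N49959 = N48570 := ded_12_1 (flp_d L671566) (flp_a L664259) L686785
theorem L686789 : sm gb N49959 = N48474 := ded_20_1 L670847 (flp_b L664261) L686785
theorem L686791 : sm gf N49959 = N49959 := ded_35_2 (flp_d L686785) L664267 L686785
theorem L686792 : sm gg N49959 = N48477 := ded_36_2 L670862 (flp_g L664268) L686785
theorem L686794 : sm ge N47738 = N49960 := rfl
theorem L686796 : sm ga N49960 = N48446 := ded_13_1 (flp_e L670629) (flp_a L664272) L686794
theorem L686798 : sm gc N49960 = N48400 := ded_28_1 (flp_e L670248) (flp_c L664278) L686794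
theorem L686800 : sm gg N49960 = N48577 := ded_41_2 (flp_e L671615) (flp_g L664276) L686794
theorem L686802 : sm gh N49960 = N48410 := ded_43_2 (flp_e L670327) (flp_h L664280) L686794
theorem L686804 : sm gc N47739 = N49961 := rfl
theorem L686806 : sm ga N49961 = N48557 := ded_11_1 L671471 (flp_a L664284) L686804
theorem L686808 : sm ge N49961 = N48550 := ded_28_2 (flp_c L671416) (flp_e L664291) L686804
theorem L686810 : sm gf N49961 = N49961 := ded_29_2 (flp_c L686804) L664288 L686804
theorem L686811 : sm gg N49961 = N48039 := ded_30_2 L667331 (flp_g L664289) L686804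
theorem L686813 : sm gh N49961 = N49961 := ded_32_2 (flp_c L686804) L664293 L686804
theorem L686814 : sm gb N49961 = N48037 := ded_19_1 (flp_c L667309) L380068 (flp_c L646877) (flp_b L664286) L686804
theorem L686816 : sm gh N47740 = N49962 := rfl
theorem L686818 : sm ga N49962 = N47741 := ded_17_1 (flp_h L664308) (flp_a L664296) L686816
theorem L686820 : sm gb N49962 = N48572 := ded_25_1 L671583 (flp_b L664298) L686816
theorem L686822 : sm gc N49962 = N47748 := ded_32_1 (flp_h L664381) (flp_c L664300) L686816
theorem L686824 : sm ge N49962 = N49962 := ded_43_1 (flp_h L686816) L664304 L686816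
theorem L686825 : sm gg N49962 = N49962 := ded_50_1 (flp_h L686816) L664305 L686816
theorem L686826 : sm gj N49962 = N47743 := ded_52_1 (flp_h L664329) (flp_j L664306) L686816
theorem L686828 : sm gd N47741 = N49963 := rfl
theorem L686830 : sm gb N49963 = N47742 := ded_20_1 (flp_d L664318) (flp_b L664310) L686828
theorem L686832 : sm gg N49963 = N49963 := ded_36_2 (flp_d L686828) L664315 L686828
theorem L686833 : sm gj N49963 = N47744 := ded_37_2 (flp_d L664340) (flp_j L664316) L686828
theorem L686835 : sm gh N49963 = N48414 := ded_38_2 L670357 L387007 (flp_d L543387) L664308 L686828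
theorem L686837 : sm ge N47742 = N49964 := rfl
theorem L686839 : sm ga N49964 = N48452 := ded_13_1 (flp_e L670668) (flp_a L664320) L686837
theorem L686841 : sm gc N49964 = N47873 := ded_28_1 L665738 (flp_c L664325) L686837
theorem L686843 : sm gg N49964 = N49964 := ded_41_2 (flp_e L686837) L664322 L686837
theorem L686844 : sm gj N49964 = N47745 := ded_42_2 (flp_e L664348) (flp_j L664323) L686837
theorem L686846 : sm gh N49964 = N47882 := ded_43_2 L665835 (flp_h L664327) L686837
theorem L686848 : sm gd N49964 = N49964 := ded_34_1 (flp_e L686837) (flp_d L664318) L369457 L664318 L686837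
theorem L686849 : sm gf N47745 = N49965 := rfl
theorem L686851 : sm ga N49965 = N48459 := ded_14_1 (flp_f L670730) (flp_a L664350) L686849
theorem L686853 : sm gc N49965 = N47871 := ded_29_1 L665714 (flp_c L664352) L686849
theorem L686855 : sm gd N49965 = N49965 := ded_35_1 (flp_f L686849) L664358 L686849
theorem L686856 : sm gh N49965 = N47879 := ded_47_2 L665809 (flp_h L664356) L686849
theorem L686858 : sm gi N47751 = N49966 := rfl
theorem L686860 : sm ga N49966 = N47765 := ded_18_1 (flp_i L664601) (flp_a L664416) L686858
theorem L686862 : sm gb N49966 = N48085 := ded_26_1 (flp_i L667752) (flp_b L664418) L686858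
theorem L686864 : sm gd N49966 = N47752 := ded_39_1 (flp_i L664428) L664414 L686858
theorem L686866 : sm ge N49966 = N48093 := ded_44_1 (flp_i L667812) (flp_e L664424) L686858
theorem L686868 : sm gg N49966 = N47757 := ded_51_1 (flp_i L664499) (flp_g L664420) L686858
theorem L686870 : sm gj N49966 = N47783 := ded_53_1 (flp_i L664802) (flp_j L664422) L686858
theorem L686872 : sm gh N47753 = N49967 := rfl
theorem L686874 : sm ga N49967 = N48122 := ded_17_1 (flp_h L668037) (flp_a L664446) L686872
theorem L686876 : sm gb N49967 = N48090 := ded_25_1 (flp_h L667789) (flp_b L664448) L686872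
theorem L686878 : sm ge N49967 = N48099 := ded_43_1 (flp_h L667869) (flp_e L664452) L686872
theorem L686880 : sm gj N49967 = N47788 := ded_52_1 (flp_h L664856) (flp_j L664454) L686872
theorem L686882 : sm gd N49967 = N47771 := ded_38_1 (flp_h L664664) L374704 (flp_h L374047) (flp_d L664450) L686872
theorem L686884 : sm gi N47754 = N49968 := rfl
theorem L686886 : sm ga N49968 = N48089 := ded_18_1 (flp_i L667779) (flp_a L664458) L686884
theorem L686888 : sm gb N49968 = N47757 := ded_26_1 (flp_i L664499) (flp_b L664460) L686884
theorem L686890 : sm gd N49968 = N47755 := ded_39_1 (flp_i L664470) L664456 L686884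
theorem L686892 : sm ge N49968 = N48080 := ded_44_1 (flp_i L667710) (flp_e L664466) L686884
theorem L686894 : sm gg N49968 = N48085 := ded_51_1 (flp_i L667752) (flp_g L664462) L686884
theorem L686896 : sm gj N49968 = N47793 := ded_53_1 (flp_i L664916) (flp_j L664464) L686884
theorem L686898 : sm gi N47756 = N49969 := rfl
theorem L686900 : sm ga N49969 = N47770 := ded_18_1 (flp_i L664652) (flp_a L664487) L686898
theorem L686902 : sm gb N49969 = N48080 := ded_26_1 (flp_i L667710) (flp_b L664489) L686898
theorem L686904 : sm gd N49969 = N47758 := ded_39_1 (flp_i L664507) (flp_d L664497) L686898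
theorem L686906 : sm ge N49969 = N47757 := ded_44_1 (flp_i L664499) L664485 L686898
theorem L686908 : sm gg N49969 = N48093 := ded_51_1 (flp_i L667812) (flp_g L664491) L686898
theorem L686910 : sm gj N49969 = N47798 := ded_53_1 (flp_i L664966) (flp_j L664493) L686898
theorem L686912 : sm gh N47757 = N49970 := rfl
theorem L686914 : sm ga N49970 = N47771 := ded_17_1 (flp_h L664664) (flp_a L664501) L686912
theorem L686916 : sm gj N49970 = N47799 := ded_52_1 (flp_h L664976) (flp_j L664505) L686912
theorem L686918 : sm gd N49970 = N48122 := ded_38_1 (flp_h L668037) L381779 (flp_h L591870) (flp_d L664503) L686912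
theorem L686920 : sm gh N47761 = N49971 := rfl
theorem L686922 : sm gb N49971 = N48106 := ded_25_1 (flp_h L667929) (flp_b L664556) L686920
theorem L686924 : sm ge N49971 = N48113 := ded_43_1 (flp_h L667975) (flp_e L664560) L686920
theorem L686926 : sm gg N49971 = N48122 := ded_50_1 (flp_h L668037) (flp_g L664562) L686920
theorem L686928 : sm gj N49971 = N47813 := ded_52_1 (flp_h L665150) (flp_j L664564) L686920
theorem L686930 : sm gi N49971 = N47771 := ded_54_2 (flp_h L664664) (flp_i L374700) (flp_h L374630) L664554 L686920
theorem L686932 : sm gi N47762 = N49972 := rfl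
theorem L686934 : sm gb N49972 = N48110 := ded_26_1 (flp_i L667955) (flp_b L664568) L686932
theorem L686936 : sm gd N49972 = N47763 := ded_39_1 (flp_i L664576) L664566 L686932
theorem L686938 : sm gf N49972 = N47765 := ded_48_1 (flp_i L664601) (flp_f L664570) L686932
theorem L686940 : sm gj N49972 = N47853 := ded_53_1 L665516 (flp_j L664572) L686932
theorem L686942 : sm gi N47764 = N49973 := rfl
theorem L686944 : sm gc N49973 = N47765 := ded_33_1 (flp_i L664601) L664589 L686942
theorem L686946 : sm gd N49973 = N47776 := ded_39_1 (flp_i L664716) (flp_d L664599) L686942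
theorem L686948 : sm ge N49973 = N48105 := ded_44_1 (flp_i L667922) (flp_e L664591) L686942
theorem L686950 : sm gg N49973 = N47768 := ded_51_1 (flp_i L664634) (flp_g L664593) L686942
theorem L686952 : sm gj N49973 = N48237 := ded_53_1 (flp_i L668955) (flp_j L664595) L686942
theorem L686954 : sm gh N47765 = N49974 := rfl
theorem L686956 : sm gb N49974 = N48113 := ded_25_1 (flp_h L667975) (flp_b L664603) L686954
theorem L686958 : sm ge N49974 = N48106 := ded_43_1 (flp_h L667929) (flp_e L664607) L686954
theorem L686960 : sm gg N49974 = N47771 := ded_50_1 (flp_h L664664) (flp_g L664609) L686954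
theorem L686962 : sm gj N49974 = N48240 := ded_52_1 (flp_h L668973) (flp_j L664611) L686954
theorem L686964 : sm gi N49974 = N48122 := ded_54_2 (flp_h L668037) (flp_i L381777) (flp_h L612250) L664601 L686954
theorem L686966 : sm ge N47766 = N49975 := rfl
theorem L686968 : sm gb N49975 = N47767 := ded_21_1 (flp_e L664623) L664613 L686966
theorem L686970 : sm gc N49975 = N48115 := ded_28_1 (flp_e L667985) (flp_c L664621) L686966
theorem L686972 : sm gg N49975 = N48104 := ded_41_2 L678955 L678947 L686966
theorem L686974 : sm gj N49975 = N47828 := ded_42_2 (flp_e L665289) (flp_j L664619) L686966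
theorem L686976 : sm gh N49975 = N48111 := ded_43_2 (flp_e L673813) L673815 L686966
theorem L686978 : sm gd N49975 = N49975 := ded_34_1 (flp_e L686966) L664615 L374874 (flp_d L664615) L686966
theorem L686979 : sm gi N47766 = N49976 := rfl
theorem L686981 : sm gb N49976 = N47768 := ded_26_1 (flp_i L664634) L664613 L686979
theorem L686983 : sm gc N49976 = N48116 := ded_33_1 (flp_i L667993) (flp_c L664621) L686979
theorem L686985 : sm gd N49976 = N47777 := ded_39_1 (flp_i L664723) (flp_d L664615) L686979
theorem L686987 : sm gf N49976 = N48086 := ded_48_1 (flp_i L667758) (flp_f L664617) L686979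
theorem L686989 : sm gj N49976 = N47829 := ded_53_1 (flp_i L665296) (flp_j L664619) L686979
theorem L686991 : sm gf N47767 = N49977 := rfl
theorem L686993 : sm ga N49977 = N48109 := ded_14_1 (flp_f L673987) L673974 L686991
theorem L686995 : sm gc N49977 = N47769 := ded_29_1 (flp_f L664642) (flp_c L664625) L686991
theorem L686997 : sm gd N49977 = N49977 := ded_35_1 (flp_f L686991) L664633 L686991
theorem L686998 : sm gj N49977 = N47830 := ded_46_2 (flp_f L665304) (flp_j L664629) L686991
theorem L687000 : sm gh N49977 = N48108 := ded_47_2 L667948 (flp_h L664631) L686991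
theorem L687002 : sm ge N49977 = N48094 := ded_40_1 L667824 L652550 L652540 L664623 L686991
theorem L687004 : sm gi N47767 = N49978 := rfl
theorem L687006 : sm gc N49978 = N47770 := ded_33_1 (flp_i L664652) (flp_c L664625) L687004
theorem L687008 : sm gd N49978 = N49978 := ded_39_1 (flp_i L687004) L664633 L687004
theorem L687009 : sm ge N49978 = N47768 := ded_44_1 (flp_i L664634) L664623 L687004
theorem L687011 : sm gg N49978 = N48105 := ded_51_1 (flp_i L667922) (flp_g L664627) L687004
theorem L687013 : sm gj N49978 = N47831 := ded_53_1 (flp_i L665309) (flp_j L664629) L687004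
theorem L687015 : sm gh N47768 = N49979 := rfl
theorem L687017 : sm gc N49979 = N47771 := ded_32_1 (flp_h L664664) (flp_c L664636) L687015
theorem L687019 : sm gj N49979 = N47832 := ded_52_1 (flp_h L665316) (flp_j L664640) L687015
theorem L687021 : sm gi N47769 = N49980 := rfl
theorem L687023 : sm gb N49980 = N48121 := ded_26_1 (flp_i L668029) (flp_b L664644) L687021
theorem L687025 : sm gd N49980 = N47772 := ded_39_1 (flp_i L664670) (flp_d L664646) L687021
theorem L687027 : sm gf N49980 = N47770 := ded_48_1 (flp_i L664652) L664642 L687021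
theorem L687029 : sm gj N49980 = N47834 := ded_53_1 (flp_i L665326) (flp_j L664648) L687021
theorem L687031 : sm gh N47770 = N49981 := rfl
theorem L687033 : sm gb N49981 = N48122 := ded_25_1 (flp_h L668037) (flp_b L664654) L687031
theorem L687035 : sm ge N49981 = N47771 := ded_43_1 (flp_h L664664) (flp_e L664658) L687031
theorem L687037 : sm gg N49981 = N48106 := ded_50_1 (flp_h L667929) (flp_g L664660) L687031
theorem L687039 : sm gj N49981 = N47835 := ded_52_1 (flp_h L665334) (flp_j L664662) L687031
theorem L687041 : sm gi N49981 = N48113 := ded_54_2 (flp_h L667975) (flp_i L381743) (flp_h L612163) L664652 L687031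
theorem L687043 : sm gd N47779 = N49982 := rfl
theorem L687045 : sm ga N49982 = N47815 := ded_12_1 (flp_d L665168) (flp_a L664752) L687043
theorem L687047 : sm gb N49982 = N48160 := ded_20_1 (flp_d L668405) (flp_b L664754) L687043
theorem L687049 : sm gf N49982 = N47780 := ded_35_2 (flp_d L664764) (flp_f L664760) L687043
theorem L687051 : sm gj N49982 = N47794 := ded_37_2 (flp_d L664926) (flp_j L664762) L687043
theorem L687053 : sm gh N49982 = N47784 := ded_38_2 (flp_d L664812) (flp_h L375845) (flp_d L375797) L664750 L687043
theorem L687055 : sm gi N47779 = N49983 := rfl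
theorem L687057 : sm ga N49983 = N47816 := ded_18_1 (flp_i L665178) (flp_a L664752) L687055
theorem L687059 : sm gb N49983 = N48161 := ded_26_1 (flp_i L668411) (flp_b L664754) L687055
theorem L687061 : sm gc N49983 = N47804 := ded_33_1 (flp_i L665040) (flp_c L664756) L687055
theorem L687063 : sm ge N49983 = N47933 := ded_44_1 (flp_i L666364) (flp_e L664758) L687055
theorem L687065 : sm gf N49983 = N47781 := ded_48_1 (flp_i L664778) (flp_f L664760) L687055
theorem L687067 : sm gj N49983 = N47795 := ded_53_1 (flp_i L664932) (flp_j L664762) L687055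
theorem L687069 : sm gh N49983 = N47809 := ded_54_1 (flp_i L665104) (flp_h L376635) (flp_i L375799) L664750 L687055
theorem L687071 : sm gi N47780 = N49984 := rfl
theorem L687073 : sm ga N49984 = N47821 := ded_18_1 (flp_i L665222) (flp_a L664766) L687071
theorem L687075 : sm gb N49984 = N48163 := ded_26_1 (flp_i L668425) (flp_b L664768) L687071
theorem L687077 : sm gd N49984 = N47781 := ded_39_1 (flp_i L664778) L664764 L687071
theorem L687079 : sm ge N49984 = N48201 := ded_44_1 (flp_i L668683) (flp_e L664774) L687071
theorem L687081 : sm gg N49984 = N47783 := ded_51_1 (flp_i L664802) (flp_g L664770) L687071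
theorem L687083 : sm gj N49984 = N47797 := ded_53_1 (flp_i L664958) (flp_j L664772) L687071
theorem L687085 : sm gi N47782 = N49985 := rfl
theorem L687087 : sm ga N49985 = N48237 := ded_18_1 (flp_i L668955) (flp_a L664796) L687085
theorem L687089 : sm gc N49985 = N47783 := ded_33_1 (flp_i L664802) L664794 L687085
theorem L687091 : sm gd N49985 = N48620 := ded_39_1 (flp_i L673935) L673933 L687085
theorem L687093 : sm ge N49985 = N48203 := ded_44_1 (flp_i L668696) (flp_e L664798) L687085
theorem L687095 : sm gf N49985 = N48621 := ded_48_1 L674244 L674234 L687085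
theorem L687097 : sm gh N47783 = N49986 := rfl
theorem L687099 : sm ga N49986 = N48240 := ded_17_1 (flp_h L668973) (flp_a L664804) L687097
theorem L687101 : sm gb N49986 = N48167 := ded_25_1 (flp_h L668449) (flp_b L664806) L687097
theorem L687103 : sm ge N49986 = N48204 := ded_43_1 (flp_h L668703) (flp_e L664810) L687097
theorem L687105 : sm gd N49986 = N47813 := ded_38_1 (flp_h L665150) L376681 (flp_h L375831) (flp_d L664808) L687097
theorem L687107 : sm gi N49986 = N47788 := ded_54_2 (flp_h L664856) (flp_i L375893) (flp_h L375823) L664802 L687097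
theorem L687109 : sm ge N47784 = N49987 := rfl
theorem L687111 : sm ga N49987 = N48249 := ded_13_1 L669035 (flp_a L664814) L687109
theorem L687113 : sm gb N49987 = N48171 := ded_21_1 (flp_e L668479) (flp_b L664816) L687109
theorem L687115 : sm gd N49987 = N47880 := ded_34_1 (flp_e L665813) (flp_d L378447) (flp_e L375851) L664812 L687109
theorem L687117 : sm gf N49987 = N48209 := ded_40_2 (flp_e L668747) L383480 (flp_e L521721) (flp_f L664818) L687109
theorem L687119 : sm gi N47784 = N49988 := rfl
theorem L687121 : sm ga N49988 = N48262 := ded_18_1 (flp_i L669115) (flp_a L664814) L687119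
theorem L687123 : sm gb N49988 = N48172 := ded_26_1 (flp_i L668483) (flp_b L664816) L687119
theorem L687125 : sm gd N49988 = N47785 := ded_39_1 (flp_i L664820) L664812 L687119
theorem L687127 : sm gf N49988 = N47786 := ded_48_1 (flp_i L664834) (flp_f L664818) L687119
theorem L687129 : sm gh N47786 = N49989 := rfl
theorem L687131 : sm ga N49989 = N48263 := ded_17_1 (flp_h L669121) (flp_a L664836) L687129
theorem L687133 : sm gb N49989 = N48178 := ded_25_1 (flp_h L668526) (flp_b L664838) L687129
theorem L687135 : sm ge N49989 = N48213 := ded_43_1 (flp_h L668779) (flp_e L664842) L687129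
theorem L687137 : sm gg N49989 = N47788 := ded_50_1 (flp_h L664856) (flp_g L664844) L687129
theorem L687139 : sm gd N49989 = N47827 := ded_38_1 (flp_h L665283) L376753 (flp_h L375881) (flp_d L664840) L687129
theorem L687141 : sm gh N47787 = N49990 := rfl
theorem L687143 : sm ga N49990 = N48271 := ded_17_1 (flp_h L669171) (flp_a L664848) L687141
theorem L687145 : sm gc N49990 = N47788 := ded_32_1 (flp_h L664856) (flp_c L664850) L687141
theorem L687147 : sm ge N49990 = N48216 := ded_43_1 (flp_h L668797) (flp_e L664854) L687141
theorem L687149 : sm gd N47789 = N49991 := rfl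
theorem L687151 : sm ga N49991 = N48621 := ded_12_1 (flp_d L671965) (flp_a L664868) L687149
theorem L687153 : sm gf N49991 = N48237 := ded_35_2 L674641 L674633 L687149
theorem L687155 : sm gi N49991 = N48236 := ded_39_2 (flp_d L673630) L673632 L687149
theorem L687157 : sm gc N49991 = N47853 := ded_27_1 (flp_d L665512) L376997 (flp_d L376061) (flp_c L664870) L687149
theorem L687159 : sm gd N47790 = N49992 := rfl
theorem L687161 : sm ga N49992 = N48176 := ded_12_1 L668514 (flp_a L664876) L687159
theorem L687163 : sm gb N49992 = N47794 := ded_20_1 (flp_d L664926) (flp_b L664878) L687159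
theorem L687165 : sm gf N49992 = N47791 := ded_35_2 (flp_d L664887) (flp_f L664883) L687159
theorem L687167 : sm gj N49992 = N48160 := ded_37_2 (flp_d L668405) (flp_j L664885) L687159
theorem L687169 : sm gh N49992 = N48168 := ded_38_2 (flp_d L668455) (flp_h L382707) (flp_d L622136) L664874 L687159
theorem L687171 : sm gi N47790 = N49993 := rfl
theorem L687173 : sm ga N49993 = N48185 := ded_18_1 (flp_i L668566) (flp_a L664876) L687171
theorem L687175 : sm gb N49993 = N47795 := ded_26_1 (flp_i L664932) (flp_b L664878) L687171
theorem L687177 : sm gc N49993 = N49993 := ded_33_1 (flp_i L687171) L664880 L687171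
theorem L687178 : sm ge N49993 = N47918 := ded_44_1 (flp_i L666208) (flp_e L664881) L687171
theorem L687180 : sm gf N49993 = N47792 := ded_48_1 (flp_i L664901) (flp_f L664883) L687171
theorem L687182 : sm gj N49993 = N48161 := ded_53_1 (flp_i L668411) (flp_j L664885) L687171
theorem L687184 : sm gh N49993 = N47837 := ded_54_1 (flp_i L665351) (flp_h L622107) (flp_i L622140) L664874 L687171
theorem L687186 : sm gi N47791 = N49994 := rfl
theorem L687188 : sm ga N49994 = N48177 := ded_18_1 (flp_i L668516) (flp_a L664889) L687186
theorem L687190 : sm gb N49994 = N47797 := ded_26_1 (flp_i L664958) (flp_b L664891) L687186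
theorem L687192 : sm gd N49994 = N47792 := ded_39_1 (flp_i L664901) L664887 L687186
theorem L687194 : sm ge N49994 = N48148 := ded_44_1 (flp_i L668306) (flp_e L664897) L687186
theorem L687196 : sm gg N49994 = N47793 := ded_51_1 (flp_i L664916) (flp_g L664893) L687186
theorem L687198 : sm gj N49994 = N48163 := ded_53_1 (flp_i L668425) (flp_j L664895) L687186
theorem L687200 : sm gh N47793 = N49995 := rfl
theorem L687202 : sm ga N49995 = N48184 := ded_17_1 (flp_h L668560) (flp_a L664918) L687200
theorem L687204 : sm gb N49995 = N47799 := ded_25_1 (flp_h L664976) (flp_b L664920) L687200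
theorem L687206 : sm ge N49995 = N48150 := ded_43_1 (flp_h L668322) (flp_e L664924) L687200
theorem L687208 : sm gd N49995 = N47835 := ded_38_1 (flp_h L665334) L376784 (flp_h L591882) (flp_d L664922) L687200
theorem L687210 : sm ge N47794 = N49996 := rfl
theorem L687212 : sm ga N49996 = N47818 := ded_13_1 (flp_e L665196) (flp_a L664928) L687210
theorem L687214 : sm gd N49996 = N47935 := ded_34_1 (flp_e L666384) (flp_d L379296) (flp_e L376393) L664926 L687210
theorem L687216 : sm gi N47794 = N49997 := rfl
theorem L687218 : sm ga N49997 = N47819 := ded_18_1 (flp_i L665202) (flp_a L664928) L687216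
theorem L687220 : sm gd N49997 = N47795 := ded_39_1 (flp_i L664932) L664926 L687216
theorem L687222 : sm gf N49997 = N47797 := ded_48_1 (flp_i L664958) (flp_f L664930) L687216
theorem L687224 : sm gf N47796 = N49998 := rfl
theorem L687226 : sm ga N49998 = N47825 := ded_14_1 (flp_f L665261) (flp_a L664946) L687224
theorem L687228 : sm gb N49998 = N48143 := ded_22_1 L668254 (flp_b L664948) L687224
theorem L687230 : sm gd N49998 = N47800 := ded_35_1 (flp_f L664982) (flp_d L664956) L687224
theorem L687232 : sm gj N49998 = N48198 := ded_46_2 L668663 (flp_j L664952) L687224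
theorem L687234 : sm gh N49998 = N48206 := ded_47_2 L668723 (flp_h L664954) L687224
theorem L687236 : sm gi N47796 = N49999 := rfl
theorem L687238 : sm ga N49999 = N47826 := ded_18_1 (flp_i L665271) (flp_a L664946) L687236
theorem L687240 : sm gb N49999 = N48148 := ded_26_1 (flp_i L668306) (flp_b L664948) L687236
theorem L687242 : sm gd N49999 = N47801 := ded_39_1 (flp_i L664995) (flp_d L664956) L687236
theorem L687244 : sm ge N49999 = N47797 := ded_44_1 (flp_i L664958) L664944 L687236
theorem L687246 : sm gg N49999 = N47798 := ded_51_1 (flp_i L664966) (flp_g L664950) L687236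
theorem L687248 : sm gj N49999 = N48201 := ded_53_1 (flp_i L668683) (flp_j L664952) L687236
theorem L687250 : sm gh N47797 = N50000 := rfl
theorem L687252 : sm ga N50000 = N47827 := ded_17_1 (flp_h L665283) (flp_a L664960) L687250
theorem L687254 : sm gg N50000 = N47799 := ded_50_1 (flp_h L664976) (flp_g L664964) L687250
theorem L687256 : sm gd N50000 = N48263 := ded_38_1 (flp_h L669121) L384011 (flp_h L455291) (flp_d L664962) L687250
theorem L687258 : sm gh N47798 = N50001 := rfl
theorem L687260 : sm ga N50001 = N47835 := ded_17_1 (flp_h L665334) (flp_a L664968) L687258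
theorem L687262 : sm gb N50001 = N48150 := ded_25_1 (flp_h L668322) (flp_b L664970) L687258
theorem L687264 : sm ge N50001 = N47799 := ded_43_1 (flp_h L664976) (flp_e L664974) L687258
theorem L687266 : sm gd N50001 = N48184 := ded_38_1 (flp_h L668560) L382784 (flp_h L576539) (flp_d L664972) L687258
theorem L687268 : sm gi N47800 = N50002 := rfl
theorem L687270 : sm ga N50002 = N47837 := ded_18_1 (flp_i L665351) (flp_a L664984) L687268
theorem L687272 : sm gb N50002 = N48144 := ded_26_1 (flp_i L668256) (flp_b L664986) L687268
theorem L687274 : sm gc N50002 = N50002 := ded_33_1 (flp_i L687268) L664988 L687268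
theorem L687275 : sm ge N50002 = N47952 := ded_44_1 (flp_i L666544) (flp_e L664993) L687268
theorem L687277 : sm gf N50002 = N47801 := ded_48_1 (flp_i L664995) L664982 L687268
theorem L687279 : sm gj N50002 = N48199 := ded_53_1 (flp_i L668667) (flp_j L664989) L687268
theorem L687281 : sm gh N50002 = N48185 := ded_54_1 (flp_i L668566) L552224 (flp_i L382203) (flp_h L664991) L687268
theorem L687283 : sm gi N47802 = N50003 := rfl
theorem L687285 : sm ga N50003 = N47841 := ded_18_1 (flp_i L665393) (flp_a L665012) L687283
theorem L687287 : sm gb N50003 = N50003 := ded_26_1 (flp_i L687283) L665014 L687283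
theorem L687288 : sm gd N50003 = N48612 := ded_39_1 L671908 (flp_d L665023) L687283
theorem L687290 : sm ge N50003 = N47954 := ded_44_1 (flp_i L666568) (flp_e L665015) L687283
theorem L687292 : sm gf N50003 = N47807 := ded_48_1 L665092 (flp_f L665017) L687283
theorem L687294 : sm gg N50003 = N47804 := ded_51_1 (flp_i L665040) (flp_g L665019) L687283
theorem L687296 : sm gj N50003 = N48611 := ded_53_1 (flp_i L671890) (flp_j L665021) L687283
theorem L687298 : sm gh N50003 = N47805 := ded_54_1 (flp_i L665053) L649060 L648268 L665010 L687283
theorem L687300 : sm gi N47803 = N50004 := rfl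
theorem L687302 : sm ga N50004 = N47843 := ded_18_1 (flp_i L665411) (flp_a L665027) L687300
theorem L687304 : sm gb N50004 = N50004 := ded_26_1 (flp_i L687300) L665029 L687300
theorem L687305 : sm gd N50004 = N47804 := ded_39_1 (flp_i L665040) L665025 L687300
theorem L687307 : sm ge N50004 = N48724 := ded_44_1 (flp_i L672831) L665038 L687300
theorem L687309 : sm gf N50004 = N47806 := ded_48_1 (flp_i L665066) (flp_f L665030) L687300
theorem L687311 : sm gg N50004 = N48612 := ded_51_1 L671908 (flp_g L665032) L687300
theorem L687313 : sm gj N50004 = N47805 := ded_53_1 (flp_i L665053) (flp_j L665034) L687300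
theorem L687315 : sm gh N50004 = N48611 := ded_54_1 (flp_i L671890) (flp_h L653522) L653524 (flp_h L665036) L687300
theorem L687317 : sm ge N47808 = N50005 := rfl
theorem L687319 : sm gb N50005 = N48229 := ded_21_1 (flp_e L668908) (flp_b L665096) L687317
theorem L687321 : sm gj N50005 = N48249 := ded_42_2 L669035 (flp_j L665100) L687317
theorem L687323 : sm gh N50005 = N47818 := ded_43_2 (flp_e L665196) (flp_h L665102) L687317
theorem L687325 : sm gd N50005 = N48480 := ded_34_1 L670888 L387385 (flp_e L611451) L665094 L687317
theorem L687327 : sm gf N50005 = N48244 := ded_40_2 (flp_e L668999) L383935 (flp_e L611547) (flp_f L665098) L687317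
theorem L687329 : sm gi N47808 = N50006 := rfl
theorem L687331 : sm gb N50006 = N48230 := ded_26_1 (flp_i L668912) (flp_b L665096) L687329
theorem L687333 : sm gd N50006 = N47809 := ded_39_1 (flp_i L665104) L665094 L687329
theorem L687335 : sm gf N50006 = N47810 := ded_48_1 (flp_i L665116) (flp_f L665098) L687329
theorem L687337 : sm gj N50006 = N48262 := ded_53_1 (flp_i L669115) (flp_j L665100) L687329
theorem L687339 : sm gh N47810 = N50007 := rfl
theorem L687341 : sm gb N50007 = N48233 := ded_25_1 (flp_h L668932) (flp_b L665118) L687339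
theorem L687343 : sm ge N50007 = N48254 := ded_43_1 (flp_h L669061) (flp_e L665122) L687339
theorem L687345 : sm gg N50007 = N47813 := ded_50_1 (flp_h L665150) (flp_g L665124) L687339
theorem L687347 : sm gj N50007 = N48263 := ded_52_1 (flp_h L669121) (flp_j L665126) L687339
theorem L687349 : sm gi N50007 = N47827 := ded_54_2 (flp_h L665283) (flp_i L376749) (flp_h L376655) L665116 L687339
theorem L687351 : sm gg N47811 = N50008 := rfl
theorem L687353 : sm gb N50008 = N48239 := ded_23_1 (flp_g L668967) (flp_b L665130) L687351
theorem L687355 : sm gd N50008 = N48107 := ded_36_1 L667944 (flp_d L665132) L687351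
theorem L687357 : sm gh N50008 = N47833 := ded_50_2 (flp_g L665320) (flp_h L665136) L687351
theorem L687359 : sm gf N50008 = N48241 := ded_45_1 L668981 L383935 (flp_g L617533) L665128 L687351
theorem L687361 : sm gi N47811 = N50009 := rfl
theorem L687363 : sm gb N50009 = N47853 := ded_26_1 L665516 (flp_b L665130) L687361
theorem L687365 : sm gd N50009 = N47852 := ded_39_1 L665510 (flp_d L665132) L687361
theorem L687367 : sm gf N50009 = N47812 := ded_48_1 (flp_i L665138) L665128 L687361
theorem L687369 : sm gj N50009 = N48110 := ded_53_1 (flp_i L667955) (flp_j L665134) L687361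
theorem L687371 : sm gh N47812 = N50010 := rfl
theorem L687373 : sm gb N50010 = N48240 := ded_25_1 (flp_h L668973) (flp_b L665140) L687371
theorem L687375 : sm ge N50010 = N47813 := ded_43_1 (flp_h L665150) (flp_e L665144) L687371
theorem L687377 : sm gg N50010 = N48254 := ded_50_1 (flp_h L669061) (flp_g L665146) L687371
theorem L687379 : sm gj N50010 = N48113 := ded_52_1 (flp_h L667975) (flp_j L665148) L687371
theorem L687381 : sm gi N50010 = N47835 := ded_54_2 (flp_h L665334) (flp_i L376780) (flp_h L376673) L665138 L687371
theorem L687383 : sm gd N47814 = N50011 := rfl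
theorem L687385 : sm gb N50011 = N48241 := ded_20_1 (flp_d L668979) (flp_b L665158) L687383
theorem L687387 : sm gf N50011 = N48239 := ded_35_2 L668969 (flp_f L665164) L687383
theorem L687389 : sm gg N50011 = N47815 := ded_36_2 (flp_d L665168) (flp_g L665166) L687383
theorem L687391 : sm gh N50011 = N48261 := ded_38_2 L669111 L384103 (flp_d L648917) L665156 L687383
theorem L687393 : sm gi N47814 = N50012 := rfl
theorem L687395 : sm gb N50012 = N48242 := ded_26_1 (flp_i L668983) (flp_b L665158) L687393
theorem L687397 : sm gc N50012 = N47841 := ded_33_1 (flp_i L665393) (flp_c L665160) L687393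
theorem L687399 : sm ge N50012 = N47996 := ded_44_1 (flp_i L666971) (flp_e L665162) L687393
theorem L687401 : sm gf N50012 = N47851 := ded_48_1 L665497 (flp_f L665164) L687393
theorem L687403 : sm gg N50012 = N47816 := ded_51_1 (flp_i L665178) (flp_g L665166) L687393
theorem L687405 : sm gh N50012 = N47846 := ded_54_1 (flp_i L665446) (flp_h L653336) L653338 L665156 L687393
theorem L687407 : sm gc N47815 = N50013 := rfl
theorem L687409 : sm gf N50013 = N47820 := ded_29_2 (flp_c L665210) (flp_f L665172) L687407
theorem L687411 : sm gj N50013 = N47817 := ded_31_2 (flp_c L665190) (flp_j L665174) L687407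
theorem L687413 : sm gh N50013 = N48258 := ded_32_2 L669089 (flp_h L665176) L687407
theorem L687415 : sm gd N50013 = N47842 := ded_27_2 (flp_c L665405) (flp_d L376911) (flp_c L376695) L665168 L687407
theorem L687417 : sm ge N47815 = N50014 := rfl
theorem L687419 : sm gb N50014 = N48244 := ded_21_1 (flp_e L668999) (flp_b L665170) L687417
theorem L687421 : sm gj N50014 = N47818 := ded_42_2 (flp_e L665196) (flp_j L665174) L687417
theorem L687423 : sm gh N50014 = N48249 := ded_43_2 L669035 (flp_h L665176) L687417
theorem L687425 : sm gd N50014 = N47998 := ded_34_1 (flp_e L666988) (flp_d L379769) (flp_e L376697) L665168 L687417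
theorem L687427 : sm gf N50014 = N48229 := ded_40_2 (flp_e L668908) L383850 (flp_e L611615) (flp_f L665172) L687417
theorem L687429 : sm gi N47815 = N50015 := rfl
theorem L687431 : sm gb N50015 = N48245 := ded_26_1 (flp_i L669005) (flp_b L665170) L687429
theorem L687433 : sm gd N50015 = N47816 := ded_39_1 (flp_i L665178) L665168 L687429
theorem L687435 : sm gf N50015 = N47821 := ded_48_1 (flp_i L665222) (flp_f L665172) L687429
theorem L687437 : sm gj N50015 = N47819 := ded_53_1 (flp_i L665202) (flp_j L665174) L687429
theorem L687439 : sm gb N47817 = N50016 := rfl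
theorem L687441 : sm gd N50016 = N47844 := ded_20_2 (flp_b L665421) (flp_d L665194) L687439
theorem L687443 : sm gf N50016 = N47822 := ded_22_2 (flp_b L665234) (flp_f L665192) L687439
theorem L687445 : sm gg N50016 = N48168 := ded_23_2 L675219 L675211 L687439
theorem L687447 : sm gc N50016 = N48246 := ded_19_2 (flp_b L669013) (flp_c L383949) (flp_b L376705) L665190 L687439
theorem L687449 : sm ge N47817 = N50017 := rfl
theorem L687451 : sm gc N50017 = N47818 := ded_28_1 (flp_e L665196) L665190 L687449
theorem L687453 : sm gi N47817 = N50018 := rfl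
theorem L687455 : sm gc N50018 = N47819 := ded_33_1 (flp_i L665202) L665190 L687453
theorem L687457 : sm gd N50018 = N47846 := ded_39_1 (flp_i L665446) (flp_d L665194) L687453
theorem L687459 : sm gf N50018 = N47824 := ded_48_1 (flp_i L665253) (flp_f L665192) L687453
theorem L687461 : sm gf N47818 = N50019 := rfl
theorem L687463 : sm gb N50019 = N48249 := ded_22_1 (flp_f L669031) (flp_b L665198) L687461
theorem L687465 : sm gd N50019 = N48003 := ded_35_1 (flp_f L667024) (flp_d L665200) L687461
theorem L687467 : sm gj N50019 = N48229 := ded_46_2 (flp_f L687427) L687421 L687461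
theorem L687469 : sm gh N50019 = N48244 := ded_47_2 (flp_f L687327) L687323 L687461
theorem L687471 : sm ge N50019 = N47825 := ded_40_1 (flp_f L665261) (flp_e L376741) (flp_f L376707) L665196 L687461
theorem L687473 : sm gi N47818 = N50020 := rfl
theorem L687475 : sm gb N50020 = N48250 := ded_26_1 (flp_i L669037) (flp_b L665198) L687473
theorem L687477 : sm gd N50020 = N48004 := ded_39_1 (flp_i L667030) (flp_d L665200) L687473
theorem L687479 : sm ge N50020 = N47819 := ded_44_1 (flp_i L665202) L665196 L687473
theorem L687481 : sm gh N47819 = N50021 := rfl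
theorem L687483 : sm gb N50021 = N48251 := ded_25_1 (flp_h L669043) (flp_b L665204) L687481
theorem L687485 : sm gf N50021 = N47827 := ded_47_1 (flp_h L665283) (flp_f L665208) L687481
theorem L687487 : sm gb N47820 = N50022 := rfl
theorem L687489 : sm gd N50022 = N47848 := ded_20_2 (flp_b L665467) (flp_d L665220) L687487
theorem L687491 : sm ge N50022 = N48231 := ded_21_2 (flp_b L668918) (flp_e L665212) L687487
theorem L687493 : sm gg N50022 = N48234 := ded_23_2 L668940 (flp_g L665214) L687487
theorem L687495 : sm gj N50022 = N47822 := ded_24_2 (flp_b L665234) (flp_j L665216) L687487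
theorem L687497 : sm gh N50022 = N48256 := ded_25_2 L669073 (flp_h L665218) L687487
theorem L687499 : sm gc N50022 = N48252 := ded_19_2 (flp_b L669047) (flp_c L383965) (flp_b L376721) L665210 L687487
theorem L687501 : sm gi N47820 = N50023 := rfl
theorem L687503 : sm gc N50023 = N47821 := ded_33_1 (flp_i L665222) L665210 L687501
theorem L687505 : sm gd N50023 = N47849 := ded_39_1 (flp_i L665474) (flp_d L665220) L687501
theorem L687507 : sm ge N50023 = N48232 := ded_44_1 (flp_i L668925) (flp_e L665212) L687501
theorem L687509 : sm gg N50023 = N48237 := ded_51_1 (flp_i L668955) (flp_g L665214) L687501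
theorem L687511 : sm gj N50023 = N47824 := ded_53_1 (flp_i L665253) (flp_j L665216) L687501
theorem L687513 : sm gh N47821 = N50024 := rfl
theorem L687515 : sm gb N50024 = N48254 := ded_25_1 (flp_h L669061) (flp_b L665224) L687513
theorem L687517 : sm ge N50024 = N48233 := ded_43_1 (flp_h L668932) (flp_e L665228) L687513
theorem L687519 : sm gg N50024 = N48240 := ded_50_1 (flp_h L668973) (flp_g L665230) L687513
theorem L687521 : sm gj N50024 = N47827 := ded_52_1 (flp_h L665283) (flp_j L665232) L687513
theorem L687523 : sm gi N50024 = N48263 := ded_54_2 (flp_h L669121) (flp_i L384009) (flp_h L611619) L665222 L687513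
theorem L687525 : sm ge N47822 = N50025 := rfl
theorem L687527 : sm gb N50025 = N47823 := ded_21_1 (flp_e L665242) L665234 L687525
theorem L687529 : sm gc N50025 = N48256 := ded_28_1 (flp_e L669071) (flp_c L665240) L687525
theorem L687531 : sm gg N50025 = N47828 := ded_41_2 (flp_e L665289) (flp_g L665238) L687525
theorem L687533 : sm gj N50025 = N48231 := ded_42_2 (flp_e L687491) L687495 L687525
theorem L687535 : sm gh N50025 = N48252 := ded_43_2 (flp_e L674762) L674764 L687525
theorem L687537 : sm gd N50025 = N50025 := ded_34_1 (flp_e L687525) L665236 L376964 (flp_d L665236) L687525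
theorem L687538 : sm gi N47822 = N50026 := rfl
theorem L687540 : sm gb N50026 = N47824 := ded_26_1 (flp_i L665253) L665234 L687538
theorem L687542 : sm gc N50026 = N48257 := ded_33_1 (flp_i L669079) (flp_c L665240) L687538
theorem L687544 : sm gd N50026 = N47850 := ded_39_1 (flp_i L665481) (flp_d L665236) L687538
theorem L687546 : sm gg N50026 = N47829 := ded_51_1 (flp_i L665296) (flp_g L665238) L687538
theorem L687548 : sm gf N47823 = N50027 := rfl
theorem L687550 : sm gc N50027 = N47825 := ded_29_1 (flp_f L665261) (flp_c L665244) L687548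
theorem L687552 : sm gd N50027 = N50027 := ded_35_1 (flp_f L687548) L665252 L687548
theorem L687553 : sm gj N50027 = N48228 := ded_46_2 L668903 (flp_j L665248) L687548
theorem L687555 : sm gh N50027 = N48243 := ded_47_2 L668993 (flp_h L665250) L687548
theorem L687557 : sm gi N47823 = N50028 := rfl
theorem L687559 : sm gc N50028 = N47826 := ded_33_1 (flp_i L665271) (flp_c L665244) L687557
theorem L687561 : sm gd N50028 = N50028 := ded_39_1 (flp_i L687557) L665252 L687557
theorem L687562 : sm ge N50028 = N47824 := ded_44_1 (flp_i L665253) L665242 L687557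
theorem L687564 : sm gg N50028 = N47831 := ded_51_1 (flp_i L665309) (flp_g L665246) L687557
theorem L687566 : sm gj N50028 = N48232 := ded_53_1 (flp_i L668925) (flp_j L665248) L687557
theorem L687568 : sm gh N47824 = N50029 := rfl
theorem L687570 : sm gc N50029 = N47827 := ded_32_1 (flp_h L665283) (flp_c L665255) L687568
theorem L687572 : sm gg N50029 = N47832 := ded_50_1 (flp_h L665316) (flp_g L665259) L687568
theorem L687574 : sm gg N47825 = N50030 := rfl
theorem L687576 : sm gb N50030 = N48261 := ded_23_1 (flp_g L669109) (flp_b L665263) L687574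
theorem L687578 : sm gd N50030 = N47836 := ded_36_1 (flp_g L665340) (flp_d L665265) L687574
theorem L687580 : sm gh N50030 = N48241 := ded_50_2 L668981 (flp_h L665269) L687574
theorem L687582 : sm gf N50030 = N47833 := ded_45_1 (flp_g L665320) (flp_f L376774) (flp_g L376745) L665261 L687574
theorem L687584 : sm gi N47825 = N50031 := rfl
theorem L687586 : sm gb N50031 = N48262 := ded_26_1 (flp_i L669115) (flp_b L665263) L687584
theorem L687588 : sm gd N50031 = N47837 := ded_39_1 (flp_i L665351) (flp_d L665265) L687584
theorem L687590 : sm gf N50031 = N47826 := ded_48_1 (flp_i L665271) L665261 L687584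
theorem L687592 : sm gj N50031 = N48230 := ded_53_1 (flp_i L668912) (flp_j L665267) L687584
theorem L687594 : sm gh N47826 = N50032 := rfl
theorem L687596 : sm gb N50032 = N48263 := ded_25_1 (flp_h L669121) (flp_b L665273) L687594
theorem L687598 : sm ge N50032 = N47827 := ded_43_1 (flp_h L665283) (flp_e L665277) L687594
theorem L687600 : sm gg N50032 = N47835 := ded_50_1 (flp_h L665334) (flp_g L665279) L687594
theorem L687602 : sm gj N50032 = N48233 := ded_52_1 (flp_h L668932) (flp_j L665281) L687594
theorem L687604 : sm gi N50032 = N48254 := ded_54_2 (flp_h L669061) (flp_i L383977) (flp_h L622085) L665271 L687594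
theorem L687606 : sm gi N47828 = N50033 := rfl
theorem L687608 : sm gb N50033 = N47831 := ded_26_1 (flp_i L665309) (flp_b L665291) L687606
theorem L687610 : sm gc N50033 = N48267 := ded_33_1 (flp_i L669145) (flp_c L665293) L687606
theorem L687612 : sm gd N50033 = N50033 := ded_39_1 (flp_i L687606) L665295 L687606
theorem L687613 : sm ge N50033 = N47829 := ded_44_1 (flp_i L665296) L665289 L687606
theorem L687615 : sm gh N47829 = N50034 := rfl
theorem L687617 : sm gb N50034 = N47832 := ded_25_1 (flp_h L665316) (flp_b L665298) L687615
theorem L687619 : sm gc N50034 = N48268 := ded_32_1 (flp_h L669153) (flp_c L665300) L687615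
theorem L687621 : sm gg N47830 = N50035 := rfl
theorem L687623 : sm gc N50035 = N47833 := ded_30_1 (flp_g L665320) (flp_c L665306) L687621
theorem L687625 : sm gd N50035 = N50035 := ded_36_1 (flp_g L687621) L665308 L687621
theorem L687626 : sm gi N47830 = N50036 := rfl
theorem L687628 : sm gc N50036 = N47834 := ded_33_1 (flp_i L665326) (flp_c L665306) L687626
theorem L687630 : sm gd N50036 = N50036 := ded_39_1 (flp_i L687626) L665308 L687626
theorem L687631 : sm gf N50036 = N47831 := ded_48_1 (flp_i L665309) L665304 L687626
theorem L687633 : sm gh N47831 = N50037 := rfl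
theorem L687635 : sm gc N50037 = N47835 := ded_32_1 (flp_h L665334) (flp_c L665311) L687633
theorem L687637 : sm ge N50037 = N47832 := ded_43_1 (flp_h L665316) (flp_e L665314) L687633
theorem L687639 : sm gd N47832 = N50038 := rfl
theorem L687641 : sm gf N50038 = N48240 := ded_35_2 (flp_d L675363) L675361 L687639
theorem L687643 : sm gi N50038 = N48275 := ded_39_2 (flp_d L674945) L674947 L687639
theorem L687645 : sm gh N50038 = N47853 := ded_38_2 (flp_d L665512) (flp_h L376995) (flp_d L376772) L665316 L687639
theorem L687647 : sm gj N47833 = N50039 := rfl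
theorem L687649 : sm gb N50039 = N48273 := ded_24_1 (flp_j L669181) (flp_b L665322) L687647
theorem L687651 : sm gd N50039 = N47838 := ded_37_1 (flp_j L665362) (flp_d L665324) L687647
theorem L687653 : sm gi N47833 = N50040 := rfl
theorem L687655 : sm gb N50040 = N48274 := ded_26_1 (flp_i L669185) (flp_b L665322) L687653
theorem L687657 : sm gd N50040 = N47839 := ded_39_1 (flp_i L665371) (flp_d L665324) L687653
theorem L687659 : sm gg N50040 = N47834 := ded_51_1 (flp_i L665326) L665320 L687653
theorem L687661 : sm gh N47834 = N50041 := rfl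
theorem L687663 : sm gb N50041 = N48275 := ded_25_1 (flp_h L669191) (flp_b L665328) L687661
theorem L687665 : sm gf N50041 = N47835 := ded_47_1 (flp_h L665334) (flp_f L665332) L687661
theorem L687667 : sm gi N47836 = N50042 := rfl
theorem L687669 : sm gb N50042 = N48277 := ded_26_1 (flp_i L669205) (flp_b L665342) L687667
theorem L687671 : sm gc N50042 = N50042 := ded_33_1 (flp_i L687667) L665344 L687667
theorem L687672 : sm ge N50042 = N48035 := ded_44_1 (flp_i L667290) (flp_e L665345) L687667
theorem L687674 : sm gf N50042 = N47839 := ded_48_1 (flp_i L665371) (flp_f L665349) L687667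
theorem L687676 : sm gg N50042 = N47837 := ded_51_1 (flp_i L665351) L665340 L687667
theorem L687678 : sm gi N47838 = N50043 := rfl
theorem L687680 : sm gb N50043 = N48278 := ded_26_1 (flp_i L669215) (flp_b L665364) L687678
theorem L687682 : sm gc N50043 = N50043 := ded_33_1 (flp_i L687678) L665366 L687678
theorem L687683 : sm ge N50043 = N47840 := ded_44_1 (flp_i L665380) (flp_e L665367) L687678
theorem L687685 : sm gg N50043 = N48617 := ded_51_1 (flp_i L679600) L679596 L687678
theorem L687687 : sm gj N50043 = N47839 := ded_53_1 (flp_i L665371) L665362 L687678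
theorem L687689 : sm gh N50043 = N48608 := ded_54_1 (flp_i L671869) L653208 L653204 (flp_h L665369) L687678
theorem L687691 : sm gi N47842 = N50044 := rfl
theorem L687693 : sm gc N50044 = N47843 := ded_33_1 (flp_i L665411) L665405 L687691
theorem L687695 : sm gf N50044 = N47849 := ded_48_1 (flp_i L665474) (flp_f L665407) L687691
theorem L687697 : sm gj N50044 = N47846 := ded_53_1 (flp_i L665446) (flp_j L665409) L687691
theorem L687699 : sm gi N47844 = N50045 := rfl
theorem L687701 : sm gb N50045 = N47846 := ded_26_1 (flp_i L665446) L665421 L687699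
theorem L687703 : sm gc N50045 = N47855 := ded_33_1 (flp_i L665531) (flp_c L665429) L687699
theorem L687705 : sm ge N50045 = N48344 := ded_44_1 (flp_i L669775) L665431 L687699
theorem L687707 : sm gf N50045 = N47850 := ded_48_1 (flp_i L665481) (flp_f L665423) L687699
theorem L687709 : sm gg N50045 = N48169 := ded_51_1 (flp_i L668461) (flp_g L665425) L687699
theorem L687711 : sm gh N50045 = N48242 := ded_54_1 (flp_i L668983) (flp_h L383925) (flp_i L382705) (flp_h L665427) L687699
theorem L687713 : sm gd N47845 = N50046 := rfl
theorem L687715 : sm ga N50046 = N48499 := ded_12_1 L671009 (flp_a L665435) L687713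
theorem L687717 : sm gb N50046 = N48343 := ded_20_1 (flp_d L669770) (flp_b L665437) L687713
theorem L687719 : sm gf N50046 = N50046 := ded_35_2 (flp_d L687713) L665445 L687713
theorem L687720 : sm gg N50046 = N47877 := ded_36_2 (flp_d L665781) (flp_g L665441) L687713
theorem L687722 : sm gc N50046 = N48047 := ded_27_1 (flp_d L667390) L380115 (flp_d L376937) (flp_c L665439) L687713
theorem L687724 : sm gi N47845 = N50047 := rfl
theorem L687726 : sm ga N50047 = N48528 := ded_18_1 (flp_i L671208) (flp_a L665435) L687724
theorem L687728 : sm gb N50047 = N48344 := ded_26_1 (flp_i L669775) (flp_b L665437) L687724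
theorem L687730 : sm gc N50047 = N47847 := ded_33_1 (flp_i L665452) (flp_c L665439) L687724
theorem L687732 : sm ge N50047 = N47846 := ded_44_1 (flp_i L665446) L665433 L687724
theorem L687734 : sm gf N50047 = N50047 := ded_48_1 (flp_i L687724) L665445 L687724
theorem L687735 : sm gg N50047 = N47878 := ded_51_1 (flp_i L665791) (flp_g L665441) L687724
theorem L687737 : sm gh N50047 = N47996 := ded_54_1 (flp_i L666971) (flp_h L379760) (flp_i L378434) (flp_h L665443) L687724
theorem L687739 : sm gi N47848 = N50048 := rfl
theorem L687741 : sm gb N50048 = N47849 := ded_26_1 (flp_i L665474) L665467 L687739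
theorem L687743 : sm gc N50048 = N47857 := ded_33_1 (flp_i L665553) (flp_c L665472) L687739
theorem L687745 : sm ge N50048 = N50048 := ded_44_1 (flp_i L687739) L665469 L687739
theorem L687746 : sm gj N50048 = N47850 := ded_53_1 (flp_i L665481) (flp_j L665470) L687739
theorem L687748 : sm gh N47850 = N50049 := rfl
theorem L687750 : sm gb N50049 = N47851 := ded_25_1 (flp_h L665490) (flp_b L665483) L687748
theorem L687752 : sm gc N50049 = N47859 := ded_32_1 (flp_h L665572) (flp_c L665485) L687748
theorem L687754 : sm ge N50049 = N50049 := ded_43_1 (flp_h L687748) L665487 L687748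
theorem L687755 : sm gf N50049 = N48242 := ded_47_1 (flp_h L687711) L687707 L687748
theorem L687757 : sm gg N50049 = N47852 := ded_50_1 (flp_h L665499) (flp_g L665488) L687748
theorem L687759 : sm gi N50049 = N48107 := ded_54_2 (flp_h L667935) (flp_i L653176) L653174 L665481 L687748
theorem L687761 : sm gd N47851 = N50050 := rfl
theorem L687763 : sm gg N50050 = N47853 := ded_36_2 (flp_d L665512) (flp_g L665495) L687761
theorem L687765 : sm gi N50050 = N48239 := ded_39_2 L668969 (flp_i L665497) L687761
theorem L687767 : sm gi N47854 = N50051 := rfl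
theorem L687769 : sm ga N50051 = N47855 := ded_18_1 (flp_i L665531) L665518 L687767
theorem L687771 : sm gb N50051 = N50051 := ded_26_1 (flp_i L687767) L665530 L687767
theorem L687772 : sm gd N50051 = N48307 := ded_39_1 (flp_i L669464) (flp_d L665520) L687767
theorem L687774 : sm ge N50051 = N48329 := ded_44_1 (flp_i L669656) (flp_e L665522) L687767
theorem L687776 : sm gf N50051 = N47858 := ded_48_1 (flp_i L665562) (flp_f L665524) L687767
theorem L687778 : sm gg N50051 = N48151 := ded_51_1 (flp_i L668328) (flp_g L665526) L687767
theorem L687780 : sm gh N50051 = N48218 := ded_54_1 (flp_i L668811) (flp_h L383692) (flp_i L382548) (flp_h L665528) L687767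
theorem L687782 : sm gi N47856 = N50052 := rfl
theorem L687784 : sm ga N50052 = N47857 := ded_18_1 (flp_i L665553) L665545 L687782
theorem L687786 : sm gb N50052 = N50052 := ded_26_1 (flp_i L687782) L665552 L687782
theorem L687787 : sm gd N50052 = N48313 := ded_39_1 (flp_i L669527) (flp_d L665547) L687782
theorem L687789 : sm ge N50052 = N50052 := ded_44_1 (flp_i L687782) L665549 L687782
theorem L687790 : sm gj N50052 = N47858 := ded_53_1 (flp_i L665562) (flp_j L665550) L687782
theorem L687792 : sm gh N47858 = N50053 := rfl
theorem L687794 : sm ga N50053 = N47859 := ded_17_1 (flp_h L665572) (flp_a L665564) L687792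
theorem L687796 : sm gb N50053 = N50053 := ded_25_1 (flp_h L687792) L665566 L687792
theorem L687797 : sm ge N50053 = N50053 := ded_43_1 (flp_h L687792) L665569 L687792
theorem L687798 : sm gf N50053 = N48218 := ded_47_1 (flp_h L687780) L687776 L687792
theorem L687800 : sm gg N50053 = N47860 := ded_50_1 (flp_h L665583) (flp_g L665570) L687792
theorem L687802 : sm gi N50053 = N48100 := ded_54_2 (flp_h L667875) (flp_i L659362) L659360 L665562 L687792
theorem L687804 : sm gi N47863 = N50054 := rfl
theorem L687806 : sm ga N50054 = N47864 := ded_18_1 (flp_i L665630) L665619 L687804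
theorem L687808 : sm gb N50054 = N50054 := ded_26_1 (flp_i L687804) L665629 L687804
theorem L687809 : sm gc N50054 = N48662 := ded_33_1 (flp_i L672283) (flp_c L665621) L687804
theorem L687811 : sm gd N50054 = N50054 := ded_39_1 (flp_i L687804) L665623 L687804
theorem L687812 : sm ge N50054 = N47908 := ded_44_1 (flp_i L666101) (flp_e L665624) L687804
theorem L687814 : sm gg N50054 = N47866 := ded_51_1 (flp_i L665651) (flp_g L665626) L687804
theorem L687816 : sm gh N47864 = N50055 := rfl
theorem L687818 : sm gb N50055 = N47865 := ded_25_1 (flp_h L665641) (flp_b L665632) L687816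
theorem L687820 : sm gc N50055 = N48663 := ded_32_1 (flp_h L672293) (flp_c L665634) L687816
theorem L687822 : sm ge N50055 = N47909 := ded_43_1 (flp_h L666110) (flp_e L665637) L687816
theorem L687824 : sm gg N50055 = N47867 := ded_50_1 (flp_h L665663) (flp_g L665639) L687816
theorem L687826 : sm gi N50055 = N50055 := ded_54_2 (flp_h L687816) (flp_i L665630) L377819 L665630 L687816
theorem L687827 : sm gd N47865 = N50056 := rfl
theorem L687829 : sm ga N50056 = N50056 := ded_12_1 (flp_d L687827) L665643 L687827
theorem L687830 : sm gg N50056 = N47868 := ded_36_2 (flp_d L665674) (flp_g L665648) L687827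
theorem L687832 : sm gj N50056 = N48643 := ded_37_2 L673472 L673469 L687827
theorem L687834 : sm gi N50056 = N50056 := ded_39_2 (flp_d L687827) L665650 L687827
theorem L687835 : sm gc N50056 = N50056 := ded_27_1 (flp_d L687827) L665644 L377837 (flp_c L665644) L687827
theorem L687836 : sm ge N50056 = N48638 := ded_34_2 (flp_d L672080) L666129 (flp_d L666117) (flp_e L665646) L687827
theorem L687838 : sm gh N50056 = N50056 := ded_38_2 (flp_d L687827) (flp_h L665641) L377825 L665641 L687827
theorem L687839 : sm gh N47866 = N50057 := rfl
theorem L687841 : sm ga N50057 = N47867 := ded_17_1 (flp_h L665663) (flp_a L665653) L687839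
theorem L687843 : sm gb N50057 = N50057 := ded_25_1 (flp_h L687839) L665655 L687839
theorem L687844 : sm gc N50057 = N48665 := ded_32_1 (flp_h L672310) (flp_c L665656) L687839
theorem L687846 : sm ge N50057 = N47911 := ded_43_1 (flp_h L666131) (flp_e L665659) L687839
theorem L687848 : sm gf N50057 = N50057 := ded_47_1 (flp_h L687839) L665661 L687839
theorem L687849 : sm gj N50057 = N50057 := ded_52_1 (flp_h L687839) L665662 L687839
theorem L687850 : sm gi N50057 = N50057 := ded_54_2 (flp_h L687839) (flp_i L665651) L377846 L665651 L687839
theorem L687851 : sm gd N47867 = N50058 := rfl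
theorem L687853 : sm gb N50058 = N47868 := ded_20_1 (flp_d L665674) (flp_b L665665) L687851
theorem L687855 : sm gf N50058 = N50058 := ded_35_2 (flp_d L687851) L665671 L687851
theorem L687856 : sm gj N50058 = N50058 := ded_37_2 (flp_d L687851) L665672 L687851
theorem L687857 : sm gi N50058 = N50058 := ded_39_2 (flp_d L687851) L665673 L687851
theorem L687858 : sm gh N50058 = N50058 := ded_38_2 (flp_d L687851) (flp_h L665663) L377852 L665663 L687851
theorem L687859 : sm ge N47868 = N50059 := rfl
theorem L687861 : sm ga N50059 = N50059 := ded_13_1 (flp_e L687859) L665676 L687859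
theorem L687862 : sm gc N50059 = N50059 := ded_28_1 (flp_e L687859) L665680 L687859
theorem L687863 : sm gg N50059 = N48638 := ded_41_2 (flp_e L687836) L687830 L687859
theorem L687865 : sm gj N50059 = N50059 := ded_42_2 (flp_e L687859) L665678 L687859
theorem L687866 : sm gh N50059 = N50059 := ded_43_2 (flp_e L687859) L665681 L687859
theorem L687867 : sm gi N50059 = N50059 := ded_44_2 (flp_e L687859) L665679 L687859
theorem L687868 : sm gd N50059 = N47913 := ded_34_1 (flp_e L666146) (flp_d L378888) (flp_e L377862) L665674 L687859
theorem L687870 : sm gd N47869 = N50060 := rfl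
theorem L687872 : sm ga N50060 = N47975 := ded_12_1 (flp_d L666776) (flp_a L665684) L687870
theorem L687874 : sm gb N50060 = N48330 := ded_20_1 (flp_d L669666) (flp_b L665686) L687870
theorem L687876 : sm gf N50060 = N47925 := ded_35_2 (flp_d L666286) (flp_f L665691) L687870
theorem L687878 : sm gj N50060 = N47923 := ded_37_2 (flp_d L666269) (flp_j L665693) L687870
theorem L687880 : sm gh N50060 = N47932 := ded_38_2 (flp_d L666356) (flp_h L379286) (flp_d L615163) L665682 L687870
theorem L687882 : sm gi N47869 = N50061 := rfl
theorem L687884 : sm ga N50061 = N47976 := ded_18_1 (flp_i L666786) (flp_a L665684) L687882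
theorem L687886 : sm gb N50061 = N48331 := ded_26_1 (flp_i L669670) (flp_b L665686) L687882
theorem L687888 : sm gc N50061 = N50061 := ded_33_1 (flp_i L687882) L665688 L687882
theorem L687889 : sm ge N50061 = N47872 := ded_44_1 (flp_i L665718) (flp_e L665689) L687882
theorem L687891 : sm gf N50061 = N47926 := ded_48_1 (flp_i L666299) (flp_f L665691) L687882
theorem L687893 : sm gj N50061 = N47924 := ded_53_1 (flp_i L666277) (flp_j L665693) L687882
theorem L687895 : sm gh N50061 = N47973 := ded_54_1 (flp_i L666755) (flp_h L379629) (flp_i L378355) L665682 L687882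
theorem L687897 : sm gd N47870 = N50062 := rfl
theorem L687899 : sm ga N50062 = N47972 := ded_12_1 (flp_d L666745) (flp_a L665697) L687897
theorem L687901 : sm gb N50062 = N48333 := ded_20_1 (flp_d L669687) (flp_b L665699) L687897
theorem L687903 : sm gf N50062 = N47873 := ded_35_2 (flp_d L665729) (flp_f L665704) L687897
theorem L687905 : sm gj N50062 = N47871 := ded_37_2 (flp_d L665708) (flp_j L665706) L687897
theorem L687907 : sm gh N50062 = N47877 := ded_38_2 (flp_d L665781) (flp_h L378437) (flp_d L378364) L665695 L687897
theorem L687909 : sm gi N47870 = N50063 := rfl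
theorem L687911 : sm ga N50063 = N47973 := ded_18_1 (flp_i L666755) (flp_a L665697) L687909
theorem L687913 : sm gb N50063 = N48334 := ded_26_1 (flp_i L669695) (flp_b L665699) L687909
theorem L687915 : sm gc N50063 = N50063 := ded_33_1 (flp_i L687909) L665701 L687909
theorem L687916 : sm ge N50063 = N47924 := ded_44_1 (flp_i L666277) (flp_e L665702) L687909
theorem L687918 : sm gf N50063 = N47874 := ded_48_1 (flp_i L665742) (flp_f L665704) L687909
theorem L687920 : sm gj N50063 = N47872 := ded_53_1 (flp_i L665718) (flp_j L665706) L687909
theorem L687922 : sm gh N50063 = N47976 := ded_54_1 (flp_i L666786) (flp_h L379646) (flp_i L378368) L665695 L687909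
theorem L687924 : sm ge N47871 = N50064 := rfl
theorem L687926 : sm ga N50064 = N48448 := ded_13_1 L670647 (flp_a L665710) L687924
theorem L687928 : sm gb N50064 = N48335 := ded_21_1 (flp_e L669705) (flp_b L665712) L687924
theorem L687930 : sm gh N50064 = N47880 := ded_43_2 (flp_e L665813) (flp_h L665716) L687924
theorem L687932 : sm gf N50064 = N48400 := ded_40_2 (flp_e L670248) L386464 (flp_e L534180) (flp_f L665714) L687924
theorem L687934 : sm gi N47871 = N50065 := rfl
theorem L687936 : sm ga N50065 = N48463 := ded_18_1 (flp_i L670762) (flp_a L665710) L687934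
theorem L687938 : sm gb N50065 = N48336 := ded_26_1 (flp_i L669709) (flp_b L665712) L687934
theorem L687940 : sm gd N50065 = N47872 := ded_39_1 (flp_i L665718) L665708 L687934
theorem L687942 : sm gf N50065 = N47875 := ded_48_1 (flp_i L665756) (flp_f L665714) L687934
theorem L687944 : sm gi N47873 = N50066 := rfl
theorem L687946 : sm ga N50066 = N48454 := ded_18_1 (flp_i L670687) (flp_a L665731) L687944
theorem L687948 : sm gb N50066 = N48338 := ded_26_1 (flp_i L669728) (flp_b L665733) L687944
theorem L687950 : sm gd N50066 = N47874 := ded_39_1 (flp_i L665742) L665729 L687944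
theorem L687952 : sm ge N50066 = N48402 := ded_44_1 (flp_i L670262) (flp_e L665738) L687944
theorem L687954 : sm gg N50066 = N50066 := ded_51_1 (flp_i L687944) L665735 L687944
theorem L687955 : sm gj N50066 = N47875 := ded_53_1 (flp_i L665756) (flp_j L665736) L687944
theorem L687957 : sm gh N47875 = N50067 := rfl
theorem L687959 : sm ga N50067 = N48464 := ded_17_1 (flp_h L670768) (flp_a L665758) L687957
theorem L687961 : sm gb N50067 = N48341 := ded_25_1 (flp_h L669753) (flp_b L665760) L687957
theorem L687963 : sm ge N50067 = N48403 := ded_43_1 (flp_h L670271) (flp_e L665764) L687957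
theorem L687965 : sm gg N50067 = N47876 := ded_50_1 (flp_h L665768) (flp_g L665766) L687957
theorem L687967 : sm gd N50067 = N47987 := ded_38_1 (flp_h L666889) L379710 (flp_h L378404) (flp_d L665762) L687957
theorem L687969 : sm gi N50067 = N47886 := ded_54_2 (flp_h L665877) (flp_i L378497) (flp_h L378393) L665756 L687957
theorem L687971 : sm ge N47877 = N50068 := rfl
theorem L687973 : sm ga N50068 = N48480 := ded_13_1 L670888 (flp_a L665783) L687971
theorem L687975 : sm gb N50068 = N48346 := ded_21_1 (flp_e L669792) (flp_b L665785) L687971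
theorem L687977 : sm gj N50068 = N47880 := ded_42_2 (flp_e L665813) (flp_j L665789) L687971
theorem L687979 : sm gf N50068 = N48407 := ded_40_2 (flp_e L670305) L386588 (flp_e L575940) (flp_f L665787) L687971
theorem L687981 : sm gi N47877 = N50069 := rfl
theorem L687983 : sm ga N50069 = N48500 := ded_18_1 (flp_i L671012) (flp_a L665783) L687981
theorem L687985 : sm gb N50069 = N48347 := ded_26_1 (flp_i L669796) (flp_b L665785) L687981
theorem L687987 : sm gd N50069 = N47878 := ded_39_1 (flp_i L665791) L665781 L687981
theorem L687989 : sm gf N50069 = N47883 := ded_48_1 (flp_i L665842) (flp_f L665787) L687981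
theorem L687991 : sm gj N50069 = N47881 := ded_53_1 (flp_i L665821) (flp_j L665789) L687981
theorem L687993 : sm gb N47879 = N50070 := rfl
theorem L687995 : sm gd N50070 = N47890 := ded_20_2 (flp_b L665924) (flp_d L665811) L687993
theorem L687997 : sm gf N50070 = N47884 := ded_22_2 (flp_b L665855) (flp_f L665809) L687993
theorem L687999 : sm gc N50070 = N48348 := ded_19_2 (flp_b L669804) (flp_c L385394) (flp_b L378449) L665805 L687993
theorem L688001 : sm ge N47879 = N50071 := rfl
theorem L688003 : sm ga N50071 = N48487 := ded_13_1 L670928 (flp_a L665807) L688001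
theorem L688005 : sm gc N50071 = N47880 := ded_28_1 (flp_e L665813) L665805 L688001
theorem L688007 : sm gf N50071 = N48410 := ded_40_2 (flp_e L670327) L386606 (flp_e L534708) (flp_f L665809) L688001
theorem L688009 : sm gi N47879 = N50072 := rfl
theorem L688011 : sm ga N50072 = N48508 := ded_18_1 (flp_i L671073) (flp_a L665807) L688009
theorem L688013 : sm gc N50072 = N47881 := ded_33_1 (flp_i L665821) L665805 L688009
theorem L688015 : sm gd N50072 = N47891 := ded_39_1 (flp_i L665931) (flp_d L665811) L688009
theorem L688017 : sm gf N50072 = N47885 := ded_48_1 (flp_i L665865) (flp_f L665809) L688009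
theorem L688019 : sm gi N47880 = N50073 := rfl
theorem L688021 : sm ga N50073 = N48491 := ded_18_1 (flp_i L670946) (flp_a L665815) L688019
theorem L688023 : sm gb N50073 = N48352 := ded_26_1 (flp_i L669828) (flp_b L665817) L688019
theorem L688025 : sm ge N50073 = N47881 := ded_44_1 (flp_i L665821) L665813 L688019
theorem L688027 : sm gf N50073 = N48412 := ded_48_1 (flp_i L670343) (flp_f L665819) L688019
theorem L688029 : sm gh N47881 = N50074 := rfl
theorem L688031 : sm ga N50074 = N48513 := ded_17_1 (flp_h L671109) (flp_a L665823) L688029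
theorem L688033 : sm gb N50074 = N48353 := ded_25_1 (flp_h L669832) (flp_b L665825) L688029
theorem L688035 : sm gf N50074 = N47886 := ded_47_1 (flp_h L665877) (flp_f L665829) L688029
theorem L688037 : sm gd N50074 = N48005 := ded_38_1 (flp_h L667036) L379801 (flp_h L378461) (flp_d L665827) L688029
theorem L688039 : sm gb N47882 = N50075 := rfl
theorem L688041 : sm gd N50075 = N47893 := ded_20_2 (flp_b L665950) (flp_d L665840) L688039
theorem L688043 : sm ge N50075 = N48414 := ded_21_2 (flp_b L670355) (flp_e L665835) L688039
theorem L688045 : sm gg N50075 = N50075 := ded_23_2 (flp_b L688039) L665837 L688039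
theorem L688046 : sm gj N50075 = N47884 := ded_24_2 (flp_b L665855) (flp_j L665838) L688039
theorem L688048 : sm gc N50075 = N48354 := ded_19_2 (flp_b L669838) (flp_c L385408) (flp_b L378465) L665831 L688039
theorem L688050 : sm gi N47882 = N50076 := rfl
theorem L688052 : sm ga N50076 = N48497 := ded_18_1 (flp_i L670989) (flp_a L665833) L688050
theorem L688054 : sm gc N50076 = N47883 := ded_33_1 (flp_i L665842) L665831 L688050
theorem L688056 : sm gd N50076 = N47894 := ded_39_1 (flp_i L665960) (flp_d L665840) L688050
theorem L688058 : sm ge N50076 = N48415 := ded_44_1 (flp_i L670362) (flp_e L665835) L688050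
theorem L688060 : sm gg N50076 = N50076 := ded_51_1 (flp_i L688050) L665837 L688050
theorem L688061 : sm gj N50076 = N47885 := ded_53_1 (flp_i L665865) (flp_j L665838) L688050
theorem L688063 : sm gh N47883 = N50077 := rfl
theorem L688065 : sm ga N50077 = N48501 := ded_17_1 (flp_h L671020) (flp_a L665844) L688063
theorem L688067 : sm gb N50077 = N48359 := ded_25_1 (flp_h L669881) (flp_b L665846) L688063
theorem L688069 : sm ge N50077 = N48416 := ded_43_1 (flp_h L670373) (flp_e L665850) L688063
theorem L688071 : sm gg N50077 = N50077 := ded_50_1 (flp_h L688063) L665852 L688063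
theorem L688072 : sm gj N50077 = N47886 := ded_52_1 (flp_h L665877) (flp_j L665853) L688063
theorem L688074 : sm gd N50077 = N48011 := ded_38_1 (flp_h L667091) L379825 (flp_h L378481) (flp_d L665848) L688063
theorem L688076 : sm ga N47884 = N50078 := rfl
theorem L688078 : sm gc N50078 = N47992 := ded_11_2 L666936 (flp_c L665863) L688076
theorem L688080 : sm gd N50078 = N47896 := ded_12_2 (flp_a L665985) (flp_d L665857) L688076
theorem L688082 : sm ge N50078 = N48417 := ded_13_2 (flp_a L670380) (flp_e L665859) L688076
theorem L688084 : sm gg N50078 = N47887 := ded_15_2 (flp_a L665889) (flp_g L665861) L688076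
theorem L688086 : sm gh N50078 = N48026 := ded_17_2 (flp_a L683413) L683419 L688076
theorem L688088 : sm gb N50078 = N48502 := ded_10_2 L671029 L387411 (flp_a L534705) L665855 L688076
theorem L688090 : sm gi N47884 = N50079 := rfl
theorem L688092 : sm gb N50079 = N47885 := ded_26_1 (flp_i L665865) L665855 L688090
theorem L688094 : sm gc N50079 = N48361 := ded_33_1 (flp_i L669897) (flp_c L665863) L688090
theorem L688096 : sm gd N50079 = N47897 := ded_39_1 (flp_i L665996) (flp_d L665857) L688090
theorem L688098 : sm ge N50079 = N48418 := ded_44_1 (flp_i L670388) (flp_e L665859) L688090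
theorem L688100 : sm gg N50079 = N47888 := ded_51_1 (flp_i L665904) (flp_g L665861) L688090
theorem L688102 : sm gh N47885 = N50080 := rfl
theorem L688104 : sm ga N50080 = N48509 := ded_17_1 (flp_h L671081) (flp_a L665867) L688102
theorem L688106 : sm gc N50080 = N47886 := ded_32_1 (flp_h L665877) (flp_c L665869) L688102
theorem L688108 : sm ge N50080 = N48419 := ded_43_1 (flp_h L670396) (flp_e L665873) L688102
theorem L688110 : sm gg N50080 = N47889 := ded_50_1 (flp_h L665915) (flp_g L665875) L688102
theorem L688112 : sm gi N47887 = N50081 := rfl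
theorem L688114 : sm ga N50081 = N47888 := ded_18_1 (flp_i L665904) L665889 L688112
theorem L688116 : sm gb N50081 = N48514 := ded_26_1 (flp_i L671113) (flp_b L665902) L688112
theorem L688118 : sm gc N50081 = N47993 := ded_33_1 (flp_i L666944) (flp_c L665891) L688112
theorem L688120 : sm gd N50081 = N47899 := ded_39_1 (flp_i L666017) (flp_d L665893) L688112
theorem L688122 : sm ge N50081 = N48420 := ded_44_1 (flp_i L670404) (flp_e L665895) L688112
theorem L688124 : sm gf N50081 = N47990 := ded_48_1 (flp_i L666920) (flp_f L665897) L688112
theorem L688126 : sm gj N50081 = N50081 := ded_53_1 (flp_i L688112) L665899 L688112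
theorem L688127 : sm gh N47888 = N50082 := rfl
theorem L688129 : sm gb N50082 = N47889 := ded_25_1 (flp_h L665915) (flp_b L665906) L688127
theorem L688131 : sm gc N50082 = N48368 := ded_32_1 (flp_h L669951) (flp_c L665908) L688127
theorem L688133 : sm ge N50082 = N48421 := ded_43_1 (flp_h L670413) (flp_e L665912) L688127
theorem L688135 : sm gj N50082 = N50082 := ded_52_1 (flp_h L688127) L665914 L688127
theorem L688136 : sm gd N47889 = N50083 := rfl
theorem L688138 : sm ga N50083 = N48523 := ded_12_1 (flp_d L671178) (flp_a L665917) L688136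
theorem L688140 : sm gj N50083 = N50083 := ded_37_2 (flp_d L688136) L665923 L688136
theorem L688141 : sm gc N50083 = N48029 := ded_27_1 (flp_d L667243) L379915 (flp_d L378545) (flp_c L665919) L688136
theorem L688143 : sm gh N50083 = N47901 := ded_38_2 (flp_d L666038) (flp_h L378740) (flp_d L378521) L665915 L688136
theorem L688145 : sm ga N47890 = N50084 := rfl
theorem L688147 : sm gc N50084 = N47902 := ded_11_2 (flp_a L666046) (flp_c L665929) L688145
theorem L688149 : sm gf N50084 = N47896 := ded_14_2 (flp_a L665985) (flp_f L665926) L688145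
theorem L688151 : sm gg N50084 = N48553 := ded_15_2 L676051 L676044 L688145
theorem L688153 : sm gh N50084 = N50084 := ded_17_2 (flp_a L688145) L665928 L688145
theorem L688154 : sm gb N50084 = N48700 := ded_10_2 L672642 L650683 (flp_a L648525) L665924 L688145
theorem L688156 : sm gi N47890 = N50085 := rfl
theorem L688158 : sm gb N50085 = N47891 := ded_26_1 (flp_i L665931) L665924 L688156
theorem L688160 : sm gc N50085 = N47903 := ded_33_1 (flp_i L666056) (flp_c L665929) L688156
theorem L688162 : sm gf N50085 = N47897 := ded_48_1 (flp_i L665996) (flp_f L665926) L688156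
theorem L688164 : sm gh N47891 = N50086 := rfl
theorem L688166 : sm ga N50086 = N48708 := ded_17_1 (flp_h L672703) (flp_a L665933) L688164
theorem L688168 : sm gc N50086 = N47892 := ded_32_1 (flp_h L665939) (flp_c L665935) L688164
theorem L688170 : sm gf N50086 = N47898 := ded_47_1 (flp_h L666006) (flp_f L665937) L688164
theorem L688172 : sm gi N50086 = N50086 := ded_54_2 (flp_h L688164) (flp_i L665931) L378676 L665931 L688164
theorem L688173 : sm ga N47893 = N50087 := rfl
theorem L688175 : sm gc N50087 = N47905 := ded_11_2 (flp_a L666072) (flp_c L665958) L688173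
theorem L688177 : sm ge N50087 = N48659 := ded_13_2 (flp_a L672252) (flp_e L665952) L688173
theorem L688179 : sm gg N50087 = N50087 := ded_15_2 (flp_a L688173) L665954 L688173
theorem L688180 : sm gj N50087 = N47896 := ded_16_2 (flp_a L665985) (flp_j L665955) L688173
theorem L688182 : sm gh N50087 = N50087 := ded_17_2 (flp_a L688173) L665957 L688173
theorem L688183 : sm gb N50087 = N48694 := ded_10_2 L672587 L650603 (flp_a L648404) L665950 L688173
theorem L688185 : sm gi N47893 = N50088 := rfl
theorem L688187 : sm gb N50088 = N47894 := ded_26_1 (flp_i L665960) L665950 L688185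
theorem L688189 : sm gc N50088 = N47906 := ded_33_1 (flp_i L666081) (flp_c L665958) L688185
theorem L688191 : sm ge N50088 = N48660 := ded_44_1 (flp_i L672264) (flp_e L665952) L688185
theorem L688193 : sm gg N50088 = N50088 := ded_51_1 (flp_i L688185) L665954 L688185
theorem L688194 : sm gj N50088 = N47897 := ded_53_1 (flp_i L665996) (flp_j L665955) L688185
theorem L688196 : sm gh N47894 = N50089 := rfl
theorem L688198 : sm ga N50089 = N48698 := ded_17_1 (flp_h L672622) (flp_a L665962) L688196
theorem L688200 : sm gc N50089 = N47895 := ded_32_1 (flp_h L665971) (flp_c L665964) L688196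
theorem L688202 : sm ge N50089 = N48661 := ded_43_1 (flp_h L672273) (flp_e L665966) L688196
theorem L688204 : sm gg N50089 = N50089 := ded_50_1 (flp_h L688196) L665968 L688196
theorem L688205 : sm gj N50089 = N47898 := ded_52_1 (flp_h L666006) (flp_j L665969) L688196
theorem L688207 : sm gi N50089 = N50089 := ded_54_2 (flp_h L688196) (flp_i L665960) L378695 L665960 L688196
theorem L688208 : sm gi N47896 = N50090 := rfl
theorem L688210 : sm ga N50090 = N47897 := ded_18_1 (flp_i L665996) L665985 L688208
theorem L688212 : sm gb N50090 = N48701 := ded_26_1 (flp_i L672646) (flp_b L665994) L688208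
theorem L688214 : sm gc N50090 = N47908 := ded_33_1 (flp_i L666101) (flp_c L665987) L688208
theorem L688216 : sm ge N50090 = N48662 := ded_44_1 (flp_i L672283) (flp_e L665989) L688208
theorem L688218 : sm gg N50090 = N47899 := ded_51_1 (flp_i L666017) (flp_g L665991) L688208
theorem L688220 : sm gh N47897 = N50091 := rfl
theorem L688222 : sm gb N50091 = N47898 := ded_25_1 (flp_h L666006) (flp_b L665998) L688220
theorem L688224 : sm gc N50091 = N47909 := ded_32_1 (flp_h L666110) (flp_c L666000) L688220
theorem L688226 : sm ge N50091 = N48663 := ded_43_1 (flp_h L672293) (flp_e L666002) L688220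
theorem L688228 : sm gg N50091 = N47900 := ded_50_1 (flp_h L666028) (flp_g L666004) L688220
theorem L688230 : sm gi N50091 = N50091 := ded_54_2 (flp_h L688220) (flp_i L665996) L378709 L665996 L688220
theorem L688231 : sm gd N47898 = N50092 := rfl
theorem L688233 : sm ga N50092 = N48709 := ded_12_1 (flp_d L672710) (flp_a L666008) L688231
theorem L688235 : sm gg N50092 = N47901 := ded_36_2 (flp_d L666038) (flp_g L666014) L688231
theorem L688237 : sm gi N50092 = N50092 := ded_39_2 (flp_d L688231) L666016 L688231
theorem L688238 : sm gc N50092 = N48056 := ded_27_1 (flp_d L667462) L380184 (flp_d L378724) (flp_c L666010) L688231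
theorem L688240 : sm gh N47899 = N50093 := rfl
theorem L688242 : sm ga N50093 = N47900 := ded_17_1 (flp_h L666028) (flp_a L666019) L688240
theorem L688244 : sm gb N50093 = N48715 := ded_25_1 (flp_h L672760) (flp_b L666021) L688240
theorem L688246 : sm gc N50093 = N47911 := ded_32_1 (flp_h L666131) (flp_c L666023) L688240
theorem L688248 : sm ge N50093 = N48665 := ded_43_1 (flp_h L672310) (flp_e L666025) L688240
theorem L688250 : sm gj N50093 = N50093 := ded_52_1 (flp_h L688240) L666027 L688240
theorem L688251 : sm gi N50093 = N50093 := ded_54_2 (flp_h L688240) (flp_i L666017) L378732 L666017 L688240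
theorem L688252 : sm gd N47900 = N50094 := rfl
theorem L688254 : sm gb N50094 = N47901 := ded_20_1 (flp_d L666038) (flp_b L666030) L688252
theorem L688256 : sm gj N50094 = N50094 := ded_37_2 (flp_d L688252) L666036 L688252
theorem L688257 : sm gi N50094 = N50094 := ded_39_2 (flp_d L688252) L666037 L688252
theorem L688258 : sm ge N47901 = N50095 := rfl
theorem L688260 : sm ga N50095 = N48723 := ded_13_1 (flp_e L672825) (flp_a L666040) L688258
theorem L688262 : sm gc N50095 = N48059 := ded_28_1 (flp_e L667482) (flp_c L666044) L688258
theorem L688264 : sm gj N50095 = N50095 := ded_42_2 (flp_e L688258) L666042 L688258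
theorem L688265 : sm gi N50095 = N50095 := ded_44_2 (flp_e L688258) L666043 L688258
theorem L688266 : sm gd N50095 = N48667 := ded_34_1 (flp_e L672328) (flp_d L650308) L648366 L666038 L688258
theorem L688268 : sm gi N47902 = N50096 := rfl
theorem L688270 : sm ga N50096 = N47903 := ded_18_1 (flp_i L666056) L666046 L688268
theorem L688272 : sm gb N50096 = N50096 := ded_26_1 (flp_i L688268) L666055 L688268
theorem L688273 : sm gd N50096 = N48387 := ded_39_1 (flp_i L670118) (flp_d L666048) L688268
theorem L688275 : sm gf N50096 = N47908 := ded_48_1 (flp_i L666101) (flp_f L666050) L688268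
theorem L688277 : sm gg N50096 = N48555 := ded_51_1 (flp_i L671454) (flp_g L666052) L688268
theorem L688279 : sm gh N47903 = N50097 := rfl
theorem L688281 : sm gb N50097 = N47904 := ded_25_1 (flp_h L666064) (flp_b L666058) L688279
theorem L688283 : sm gf N50097 = N47909 := ded_47_1 (flp_h L666110) (flp_f L666062) L688279
theorem L688285 : sm gi N50097 = N50097 := ded_54_2 (flp_h L688279) (flp_i L666056) L378794 L666056 L688279
theorem L688286 : sm gd N47904 = N50098 := rfl
theorem L688288 : sm ga N50098 = N50098 := ded_12_1 (flp_d L688286) L666066 L688286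
theorem L688289 : sm gf N50098 = N47910 := ded_35_2 (flp_d L666117) (flp_f L666069) L688286
theorem L688291 : sm gj N50098 = N48312 := ded_37_2 (flp_d L678239) L678237 L688286
theorem L688293 : sm gi N50098 = N50098 := ded_39_2 (flp_d L688286) L666071 L688286
theorem L688294 : sm gc N50098 = N48070 := ded_27_1 (flp_d L667587) L380318 (flp_d L378820) (flp_c L666067) L688286
theorem L688296 : sm gh N50098 = N48304 := ded_38_2 L669438 (flp_h L385893) (flp_d L378806) L666064 L688286
theorem L688298 : sm ge N48305 = N50098 := ded_40_5 L688289 (flp_e L666129) L650081 (flp_e L384479) (flp_f L669451)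
theorem L688300 : sm gi N47905 = N50099 := rfl
theorem L688302 : sm ga N50099 = N47906 := ded_18_1 (flp_i L666081) L666072 L688300
theorem L688304 : sm gb N50099 = N50099 := ded_26_1 (flp_i L688300) L666080 L688300
theorem L688305 : sm gd N50099 = N48390 := ded_39_1 (flp_i L670148) (flp_d L666074) L688300
theorem L688307 : sm gg N50099 = N50099 := ded_51_1 (flp_i L688300) L666076 L688300
theorem L688308 : sm gj N50099 = N47908 := ded_53_1 (flp_i L666101) (flp_j L666077) L688300
theorem L688310 : sm gh N47906 = N50100 := rfl
theorem L688312 : sm gb N50100 = N47907 := ded_25_1 (flp_h L666090) (flp_b L666083) L688310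
theorem L688314 : sm gg N50100 = N50100 := ded_50_1 (flp_h L688310) L666087 L688310
theorem L688315 : sm gj N50100 = N47909 := ded_52_1 (flp_h L666110) (flp_j L666088) L688310
theorem L688317 : sm gd N50100 = N48641 := ded_38_1 (flp_h L672107) L670167 (flp_h L670157) (flp_d L666085) L688310
theorem L688319 : sm gi N50100 = N50100 := ded_54_2 (flp_h L688310) (flp_i L666081) L378830 L666081 L688310
theorem L688320 : sm gh N47908 = N50101 := rfl
theorem L688322 : sm ga N50101 = N47909 := ded_17_1 (flp_h L666110) (flp_a L666103) L688320
theorem L688324 : sm gb N50101 = N50101 := ded_25_1 (flp_h L688320) L666105 L688320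
theorem L688325 : sm gg N50101 = N47911 := ded_50_1 (flp_h L666131) (flp_g L666108) L688320
theorem L688327 : sm gi N50101 = N50101 := ded_54_2 (flp_h L688320) (flp_i L666101) L378856 L666101 L688320
theorem L688328 : sm gd N47909 = N50102 := rfl
theorem L688330 : sm gb N50102 = N47910 := ded_20_1 (flp_d L666117) (flp_b L666112) L688328
theorem L688332 : sm gg N50102 = N47912 := ded_36_2 (flp_d L666138) (flp_g L666114) L688328
theorem L688334 : sm gj N50102 = N48641 := ded_37_2 (flp_d L688317) L688315 L688328
theorem L688336 : sm gi N50102 = N50102 := ded_39_2 (flp_d L688328) L666116 L688328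
theorem L688337 : sm gh N50102 = N48393 := ded_38_2 (flp_d L670179) (flp_h L385946) (flp_d L378862) L666110 L688328
theorem L688339 : sm ge N48637 = N50102 := ded_21_0 L688330 (flp_e L666129) (flp_b L672073)
theorem L688341 : sm gi N47914 = N50103 := rfl
theorem L688343 : sm ga N50103 = N48394 := ded_18_1 (flp_i L670191) (flp_a L666159) L688341
theorem L688345 : sm gb N50103 = N47924 := ded_26_1 (flp_i L666277) (flp_b L666161) L688341
theorem L688347 : sm gc N50103 = N48546 := ded_33_1 (flp_i L671379) (flp_c L666163) L688341
theorem L688349 : sm ge N50103 = N48334 := ded_44_1 (flp_i L669695) (flp_e L666165) L688341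
theorem L688351 : sm gf N50103 = N47915 := ded_48_1 (flp_i L666171) (flp_f L666167) L688341
theorem L688353 : sm gj N50103 = N48331 := ded_53_1 (flp_i L669670) (flp_j L666169) L688341
theorem L688355 : sm gh N50103 = N48436 := ded_54_1 (flp_i L670555) (flp_h L387098) (flp_i L616109) L666157 L688341
theorem L688357 : sm gd N47916 = N50104 := rfl
theorem L688359 : sm ga N50104 = N48357 := ded_12_1 L669866 (flp_a L666189) L688357
theorem L688361 : sm gb N50104 = N47932 := ded_20_1 (flp_d L666356) (flp_b L666191) L688357
theorem L688363 : sm gf N50104 = N47919 := ded_35_2 (flp_d L666219) (flp_f L666196) L688357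
theorem L688365 : sm gj N50104 = N47917 := ded_37_2 (flp_d L666200) (flp_j L666198) L688357
theorem L688367 : sm gh N50104 = N48330 := ded_38_2 (flp_d L669666) (flp_h L385250) (flp_d L615392) L666187 L688357
theorem L688369 : sm gi N47916 = N50105 := rfl
theorem L688371 : sm ga N50105 = N48371 := ded_18_1 (flp_i L669971) (flp_a L666189) L688369
theorem L688373 : sm gb N50105 = N47933 := ded_26_1 (flp_i L666364) (flp_b L666191) L688369
theorem L688375 : sm gc N50105 = N50105 := ded_33_1 (flp_i L688369) L666193 L688369
theorem L688376 : sm ge N50105 = N48161 := ded_44_1 (flp_i L668411) (flp_e L666194) L688369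
theorem L688378 : sm gf N50105 = N47920 := ded_48_1 (flp_i L666232) (flp_f L666196) L688369
theorem L688380 : sm gj N50105 = N47918 := ded_53_1 (flp_i L666208) (flp_j L666198) L688369
theorem L688382 : sm gh N50105 = N48033 := ded_54_1 (flp_i L667270) L617269 (flp_i L615396) L666187 L688369
theorem L688384 : sm ge N47917 = N50106 := rfl
theorem L688386 : sm ga N50106 = N48351 := ded_13_1 L669826 (flp_a L666202) L688384
theorem L688388 : sm gb N50106 = N47935 := ded_21_1 (flp_e L666384) (flp_b L666204) L688384
theorem L688390 : sm gf N50106 = N48325 := ded_40_2 (flp_e L669627) L384898 (flp_e L534703) (flp_f L666206) L688384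
theorem L688392 : sm gi N47917 = N50107 := rfl
theorem L688394 : sm ga N50107 = N48365 := ded_18_1 (flp_i L669925) (flp_a L666202) L688392
theorem L688396 : sm gb N50107 = N47936 := ded_26_1 (flp_i L666388) (flp_b L666204) L688392
theorem L688398 : sm gd N50107 = N47918 := ded_39_1 (flp_i L666208) L666200 L688392
theorem L688400 : sm gf N50107 = N47921 := ded_48_1 (flp_i L666246) (flp_f L666206) L688392
theorem L688402 : sm gi N47919 = N50108 := rfl
theorem L688404 : sm ga N50108 = N48358 := ded_18_1 (flp_i L669870) (flp_a L666221) L688402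
theorem L688406 : sm gb N50108 = N47939 := ded_26_1 (flp_i L666418) (flp_b L666223) L688402
theorem L688408 : sm gd N50108 = N47920 := ded_39_1 (flp_i L666232) L666219 L688402
theorem L688410 : sm ge N50108 = N48327 := ded_44_1 (flp_i L669639) (flp_e L666228) L688402
theorem L688412 : sm gg N50108 = N50108 := ded_51_1 (flp_i L688402) L666225 L688402
theorem L688413 : sm gj N50108 = N47921 := ded_53_1 (flp_i L666246) (flp_j L666226) L688402
theorem L688415 : sm gh N47921 = N50109 := rfl
theorem L688417 : sm ga N50109 = N48366 := ded_17_1 (flp_h L669933) (flp_a L666248) L688415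
theorem L688419 : sm gb N50109 = N47945 := ded_25_1 (flp_h L666472) (flp_b L666250) L688415
theorem L688421 : sm ge N50109 = N48328 := ded_43_1 (flp_h L669648) (flp_e L666254) L688415
theorem L688423 : sm gg N50109 = N47922 := ded_50_1 (flp_h L666258) (flp_g L666256) L688415
theorem L688425 : sm gd N50109 = N48020 := ded_38_1 (flp_h L667161) L379863 (flp_h L505951) (flp_d L666252) L688415
theorem L688427 : sm gc N47923 = N50110 := rfl
theorem L688429 : sm ga N50110 = N47977 := ded_11_1 (flp_c L666797) (flp_a L666271) L688427
theorem L688431 : sm gf N50110 = N47927 := ded_29_2 (flp_c L666313) (flp_f L666273) L688427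
theorem L688433 : sm gh N50110 = N47934 := ded_32_2 (flp_c L666376) (flp_h L666275) L688427
theorem L688435 : sm gd N50110 = N50110 := ded_27_2 (flp_c L688427) (flp_d L666269) L379225 L666269 L688427
theorem L688436 : sm ge N47923 = N50111 := rfl
theorem L688438 : sm ga N50111 = N47978 := ded_13_1 (flp_e L666804) (flp_a L666271) L688436
theorem L688440 : sm gh N50111 = N47935 := ded_43_2 (flp_e L666384) (flp_h L666275) L688436
theorem L688442 : sm gi N47923 = N50112 := rfl
theorem L688444 : sm ga N50112 = N47979 := ded_18_1 (flp_i L666810) (flp_a L666271) L688442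
theorem L688446 : sm gd N50112 = N47924 := ded_39_1 (flp_i L666277) L666269 L688442
theorem L688448 : sm gf N50112 = N47928 := ded_48_1 (flp_i L666322) (flp_f L666273) L688442
theorem L688450 : sm gc N47925 = N50113 := rfl
theorem L688452 : sm ga N50113 = N47980 := ded_11_1 (flp_c L666818) (flp_a L666288) L688450
theorem L688454 : sm ge N50113 = N48731 := ded_28_2 (flp_c L672870) (flp_e L666295) L688450
theorem L688456 : sm gg N50113 = N50113 := ded_30_2 (flp_c L688450) L666292 L688450
theorem L688457 : sm gj N50113 = N47927 := ded_31_2 (flp_c L666313) (flp_j L666293) L688450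
theorem L688459 : sm gh N50113 = N47937 := ded_32_2 (flp_c L666396) (flp_h L666297) L688450
theorem L688461 : sm gd N50113 = N50113 := ded_27_2 (flp_c L688450) (flp_d L666286) L379232 L666286 L688450
theorem L688462 : sm gi N47925 = N50114 := rfl
theorem L688464 : sm ga N50114 = N47981 := ded_18_1 (flp_i L666828) (flp_a L666288) L688462
theorem L688466 : sm gb N50114 = N48730 := ded_26_1 (flp_i L672865) (flp_b L666290) L688462
theorem L688468 : sm gd N50114 = N47926 := ded_39_1 (flp_i L666299) L666286 L688462
theorem L688470 : sm ge N50114 = N48732 := ded_44_1 (flp_i L672877) (flp_e L666295) L688462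
theorem L688472 : sm gg N50114 = N50114 := ded_51_1 (flp_i L688462) L666292 L688462
theorem L688473 : sm gj N50114 = N47928 := ded_53_1 (flp_i L666322) (flp_j L666293) L688462
theorem L688475 : sm gi N47927 = N50115 := rfl
theorem L688477 : sm ga N50115 = N47984 := ded_18_1 (flp_i L666860) (flp_a L666315) L688475
theorem L688479 : sm gc N50115 = N47928 := ded_33_1 (flp_i L666322) L666313 L688475
theorem L688481 : sm gd N50115 = N50115 := ded_39_1 (flp_i L688475) L666321 L688475
theorem L688482 : sm gg N50115 = N47929 := ded_51_1 (flp_i L666330) (flp_g L666317) L688475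
theorem L688484 : sm gh N47928 = N50116 := rfl
theorem L688486 : sm ga N50116 = N47987 := ded_17_1 (flp_h L666889) (flp_a L666324) L688484
theorem L688488 : sm gg N50116 = N47930 := ded_50_1 (flp_h L666338) (flp_g L666328) L688484
theorem L688490 : sm gd N50116 = N48464 := ded_38_1 (flp_h L670768) L387219 L648779 (flp_d L666326) L688484
theorem L688492 : sm gi N50116 = N47945 := ded_54_2 (flp_h L666472) (flp_i L379344) (flp_h L379244) L666322 L688484
theorem L688494 : sm gh N47929 = N50117 := rfl
theorem L688496 : sm ga N50117 = N47991 := ded_17_1 (flp_h L666927) (flp_a L666332) L688494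
theorem L688498 : sm gc N50117 = N47930 := ded_32_1 (flp_h L666338) (flp_c L666334) L688494
theorem L688500 : sm gj N50117 = N50117 := ded_52_1 (flp_h L688494) L666337 L688494
theorem L688501 : sm gi N50117 = N47948 := ded_54_2 (flp_h L666499) (flp_i L379365) (flp_h L379260) L666330 L688494
theorem L688503 : sm gd N47931 = N50118 := rfl

end Cfsg.Agent.Helper28.FicA
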