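import Cfsg.Agent.Helper28.FicB36

/-! # The Fi₂₃ presentation, cosets of the subgroup generated by a, …, i: the coset enumeration, part 37 (helper28; generated) -/

set_option autoImplicit false

noncomputable section

namespace Cfsg.Agent.Helper28.FicA

open Cfsg.Agent.Helper28.CosetTable

theorem L688505 : sm ga N50118 = N47995 := ded_12_1 (flp_d L666964) (flp_a L666349) L688503
theorem L688507 : sm gf N50118 = N50118 := ded_35_2 (flp_d L688503) L666353 L688503
theorem L688508 : sm gg N50118 = N47932 := ded_36_2 (flp_d L666356) (flp_g L666354) L688503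
theorem L688510 : sm gi N47931 = N50119 := rfl
theorem L688512 : sm ga N50119 = N47996 := ded_18_1 (flp_i L666971) (flp_a L666349) L688510
theorem L688514 : sm gc N50119 = N47954 := ded_33_1 (flp_i L666568) (flp_c L666351) L688510
theorem L688516 : sm gf N50119 = N50119 := ded_48_1 (flp_i L688510) L666353 L688510
theorem L688517 : sm gg N50119 = N47933 := ded_51_1 (flp_i L666364) (flp_g L666354) L688510
theorem L688519 : sm gh N50119 = N48528 := ded_54_1 (flp_i L671208) L387552 L648266 L666347 L688510
theorem L688521 : sm gc N47932 = N50120 := rfl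
theorem L688523 : sm ga N50120 = N47997 := ded_11_1 (flp_c L666980) (flp_a L666358) L688521
theorem L688525 : sm gf N50120 = N47937 := ded_29_2 (flp_c L666396) (flp_f L666360) L688521
theorem L688527 : sm gj N50120 = N47934 := ded_31_2 (flp_c L666376) (flp_j L666362) L688521
theorem L688529 : sm gd N50120 = N47955 := ded_27_2 (flp_c L666578) (flp_d L379509) (flp_c L379290) L666356 L688521
theorem L688531 : sm ge N47932 = N50121 := rfl
theorem L688533 : sm ga N50121 = N47998 := ded_13_1 (flp_e L666988) (flp_a L666358) L688531
theorem L688535 : sm gj N50121 = N47935 := ded_42_2 (flp_e L666384) (flp_j L666362) L688531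
theorem L688537 : sm gi N47932 = N50122 := rfl
theorem L688539 : sm ga N50122 = N47999 := ded_18_1 (flp_i L666994) (flp_a L666358) L688537
theorem L688541 : sm gd N50122 = N47933 := ded_39_1 (flp_i L666364) L666356 L688537
theorem L688543 : sm gf N50122 = N47939 := ded_48_1 (flp_i L666418) (flp_f L666360) L688537
theorem L688545 : sm gj N50122 = N47936 := ded_53_1 (flp_i L666388) (flp_j L666362) L688537
theorem L688547 : sm gb N47934 = N50123 := rfl
theorem L688549 : sm gd N50123 = N47958 := ded_20_2 (flp_b L666611) (flp_d L666382) L688547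
theorem L688551 : sm gf N50123 = N47940 := ded_22_2 (flp_b L666427) (flp_f L666380) L688547
theorem L688553 : sm gg N50123 = N48579 := ded_23_2 L676872 L676866 L688547
theorem L688555 : sm ge N47934 = N50124 := rfl
theorem L688557 : sm ga N50124 = N48001 := ded_13_1 (flp_e L667012) (flp_a L666378) L688555
theorem L688559 : sm gc N50124 = N47935 := ded_28_1 (flp_e L666384) L666376 L688555
theorem L688561 : sm gi N47934 = N50125 := rfl
theorem L688563 : sm ga N50125 = N48002 := ded_18_1 (flp_i L667016) (flp_a L666378) L688561
theorem L688565 : sm gc N50125 = N47936 := ded_33_1 (flp_i L666388) L666376 L688561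
theorem L688567 : sm gd N50125 = N47960 := ded_39_1 (flp_i L666629) (flp_d L666382) L688561
theorem L688569 : sm gf N50125 = N47942 := ded_48_1 (flp_i L666442) (flp_f L666380) L688561
theorem L688571 : sm gf N47935 = N50126 := rfl
theorem L688573 : sm ga N50126 = N48003 := ded_14_1 (flp_f L667024) (flp_a L666386) L688571
theorem L688575 : sm gb N50126 = N48325 := ded_22_1 (flp_f L688390) L688388 L688571
theorem L688577 : sm ge N50126 = N47943 := ded_40_1 (flp_f L666452) (flp_e L379336) (flp_f L379300) L666384 L688571
theorem L688579 : sm gi N47935 = N50127 := rfl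
theorem L688581 : sm ga N50127 = N48004 := ded_18_1 (flp_i L667030) (flp_a L666386) L688579
theorem L688583 : sm ge N50127 = N47936 := ded_44_1 (flp_i L666388) L666384 L688579
theorem L688585 : sm gh N47936 = N50128 := rfl
theorem L688587 : sm ga N50128 = N48005 := ded_17_1 (flp_h L667036) (flp_a L666390) L688585
theorem L688589 : sm gf N50128 = N47945 := ded_47_1 (flp_h L666472) (flp_f L666394) L688585
theorem L688591 : sm gd N50128 = N48513 := ded_38_1 (flp_h L671109) L387455 (flp_h L567874) (flp_d L666392) L688585
theorem L688593 : sm gb N47937 = N50129 := rfl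
theorem L688595 : sm gd N50129 = N47963 := ded_20_2 (flp_b L666659) (flp_d L666403) L688593
theorem L688597 : sm gg N50129 = N50129 := ded_23_2 (flp_b L688593) L666400 L688593
theorem L688598 : sm gj N50129 = N47940 := ded_24_2 (flp_b L666427) (flp_j L666401) L688593
theorem L688600 : sm ge N47937 = N50130 := rfl
theorem L688602 : sm ga N50130 = N48007 := ded_13_1 (flp_e L667051) (flp_a L666398) L688600
theorem L688604 : sm gc N50130 = N47938 := ded_28_1 (flp_e L666405) L666396 L688600
theorem L688606 : sm gg N50130 = N50130 := ded_41_2 (flp_e L688600) L666400 L688600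
theorem L688607 : sm gj N50130 = N47941 := ded_42_2 (flp_e L666433) (flp_j L666401) L688600
theorem L688609 : sm gh N50130 = N48731 := ded_43_2 (flp_e L688454) L688459 L688600
theorem L688611 : sm gd N50130 = N50130 := ded_34_1 (flp_e L688600) L666403 L379555 (flp_d L666403) L688600
theorem L688612 : sm gi N47937 = N50131 := rfl
theorem L688614 : sm ga N50131 = N48008 := ded_18_1 (flp_i L667061) (flp_a L666398) L688612
theorem L688616 : sm gc N50131 = N47939 := ded_33_1 (flp_i L666418) L666396 L688612
theorem L688618 : sm gd N50131 = N47964 := ded_39_1 (flp_i L666667) (flp_d L666403) L688612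
theorem L688620 : sm gg N50131 = N50131 := ded_51_1 (flp_i L688612) L666400 L688612
theorem L688621 : sm gj N50131 = N47942 := ded_53_1 (flp_i L666442) (flp_j L666401) L688612
theorem L688623 : sm gf N47938 = N50132 := rfl
theorem L688625 : sm ga N50132 = N48009 := ded_14_1 (flp_f L667070) (flp_a L666407) L688623
theorem L688627 : sm gb N50132 = N48323 := ded_22_1 L669611 (flp_b L666409) L688623
theorem L688629 : sm gd N50132 = N47950 := ded_35_1 (flp_f L666517) (flp_d L666416) L688623
theorem L688631 : sm gj N50132 = N47943 := ded_46_2 (flp_f L666452) (flp_j L666412) L688623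
theorem L688633 : sm gh N50132 = N48396 := ded_47_2 L670216 (flp_h L666414) L688623
theorem L688635 : sm gi N47938 = N50133 := rfl
theorem L688637 : sm ga N50133 = N48010 := ded_18_1 (flp_i L667080) (flp_a L666407) L688635
theorem L688639 : sm gb N50133 = N48327 := ded_26_1 (flp_i L669639) (flp_b L666409) L688635
theorem L688641 : sm gd N50133 = N47951 := ded_39_1 (flp_i L666530) (flp_d L666416) L688635
theorem L688643 : sm ge N50133 = N47939 := ded_44_1 (flp_i L666418) L666405 L688635
theorem L688645 : sm gg N50133 = N50133 := ded_51_1 (flp_i L688635) L666411 L688635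
theorem L688646 : sm gj N50133 = N47944 := ded_53_1 (flp_i L666460) (flp_j L666412) L688635
theorem L688648 : sm gh N47939 = N50134 := rfl
theorem L688650 : sm ga N50134 = N48011 := ded_17_1 (flp_h L667091) (flp_a L666420) L688648
theorem L688652 : sm gg N50134 = N50134 := ded_50_1 (flp_h L688648) L666424 L688648
theorem L688653 : sm gj N50134 = N47945 := ded_52_1 (flp_h L666472) (flp_j L666425) L688648
theorem L688655 : sm gd N50134 = N48501 := ded_38_1 (flp_h L671020) L387391 (flp_h L554051) (flp_d L666422) L688648
theorem L688657 : sm gi N47940 = N50135 := rfl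
theorem L688659 : sm gb N50135 = N47942 := ded_26_1 (flp_i L666442) L666427 L688657
theorem L688661 : sm gd N50135 = N47967 := ded_39_1 (flp_i L666698) (flp_d L666429) L688657
theorem L688663 : sm gg N50135 = N47946 := ded_51_1 (flp_i L666480) (flp_g L666431) L688657
theorem L688665 : sm gf N47941 = N50136 := rfl
theorem L688667 : sm ga N50136 = N48015 := ded_14_1 (flp_f L667125) (flp_a L666435) L688665
theorem L688669 : sm gc N50136 = N47943 := ded_29_1 (flp_f L666452) (flp_c L666437) L688665
theorem L688671 : sm gd N50136 = N50136 := ded_35_1 (flp_f L688665) L666441 L688665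
theorem L688672 : sm gi N47941 = N50137 := rfl
theorem L688674 : sm ga N50137 = N48016 := ded_18_1 (flp_i L667130) (flp_a L666435) L688672
theorem L688676 : sm gc N50137 = N47944 := ded_33_1 (flp_i L666460) (flp_c L666437) L688672
theorem L688678 : sm gd N50137 = N50137 := ded_39_1 (flp_i L688672) L666441 L688672
theorem L688679 : sm ge N50137 = N47942 := ded_44_1 (flp_i L666442) L666433 L688672
theorem L688681 : sm gg N50137 = N47947 := ded_51_1 (flp_i L666489) (flp_g L666439) L688672
theorem L688683 : sm gh N47942 = N50138 := rfl
theorem L688685 : sm ga N50138 = N48017 := ded_17_1 (flp_h L667139) (flp_a L666444) L688683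
theorem L688687 : sm gc N50138 = N47945 := ded_32_1 (flp_h L666472) (flp_c L666446) L688683
theorem L688689 : sm gg N50138 = N47948 := ded_50_1 (flp_h L666499) (flp_g L666450) L688683
theorem L688691 : sm gi N47943 = N50139 := rfl
theorem L688693 : sm ga N50139 = N48019 := ded_18_1 (flp_i L667153) (flp_a L666454) L688691
theorem L688695 : sm gb N50139 = N48326 := ded_26_1 (flp_i L669631) (flp_b L666456) L688691
theorem L688697 : sm gd N50139 = N47952 := ded_39_1 (flp_i L666544) (flp_d L666458) L688691
theorem L688699 : sm gf N50139 = N47944 := ded_48_1 (flp_i L666460) L666452 L688691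
theorem L688701 : sm gh N47944 = N50140 := rfl
theorem L688703 : sm ga N50140 = N48020 := ded_17_1 (flp_h L667161) (flp_a L666462) L688701
theorem L688705 : sm gb N50140 = N48328 := ded_25_1 (flp_h L669648) (flp_b L666464) L688701
theorem L688707 : sm ge N50140 = N47945 := ded_43_1 (flp_h L666472) (flp_e L666468) L688701
theorem L688709 : sm gg N50140 = N47949 := ded_50_1 (flp_h L666506) (flp_g L666470) L688701
theorem L688711 : sm gd N50140 = N48366 := ded_38_1 (flp_h L669933) L385456 (flp_h L504994) (flp_d L666466) L688701
theorem L688713 : sm gh N47946 = N50141 := rfl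
theorem L688715 : sm gb N50141 = N47948 := ded_25_1 (flp_h L666499) (flp_b L666482) L688713
theorem L688717 : sm gf N50141 = N48524 := ded_47_1 L671186 (flp_f L666486) L688713
theorem L688719 : sm gj N50141 = N50141 := ded_52_1 (flp_h L688713) L666488 L688713
theorem L688720 : sm gh N47947 = N50142 := rfl
theorem L688722 : sm ga N50142 = N48028 := ded_17_1 (flp_h L667236) (flp_a L666491) L688720
theorem L688724 : sm gc N50142 = N47949 := ded_32_1 (flp_h L666506) (flp_c L666493) L688720
theorem L688726 : sm ge N50142 = N47948 := ded_43_1 (flp_h L666499) (flp_e L666496) L688720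
theorem L688728 : sm gj N50142 = N50142 := ded_52_1 (flp_h L688720) L666498 L688720
theorem L688729 : sm gd N47948 = N50143 := rfl
theorem L688731 : sm ga N50143 = N48029 := ded_12_1 (flp_d L667243) (flp_a L666501) L688729
theorem L688733 : sm gj N50143 = N50143 := ded_37_2 (flp_d L688729) L666505 L688729
theorem L688734 : sm gc N50143 = N48523 := ded_27_1 (flp_d L671178) L387517 (flp_d L549157) (flp_c L666503) L688729
theorem L688736 : sm gh N50143 = N47971 := ded_38_2 (flp_d L666737) (flp_h L379611) (flp_d L379371) L666499 L688729
theorem L688738 : sm gi N47950 = N50144 := rfl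
theorem L688740 : sm ga N50144 = N48033 := ded_18_1 (flp_i L667270) (flp_a L666519) L688738
theorem L688742 : sm gb N50144 = N48324 := ded_26_1 (flp_i L669615) (flp_b L666521) L688738
theorem L688744 : sm gc N50144 = N50144 := ded_33_1 (flp_i L688738) L666523 L688738
theorem L688745 : sm ge N50144 = N48199 := ded_44_1 (flp_i L668667) (flp_e L666528) L688738
theorem L688747 : sm gf N50144 = N47951 := ded_48_1 (flp_i L666530) L666517 L688738
theorem L688749 : sm gj N50144 = N47952 := ded_53_1 (flp_i L666544) (flp_j L666524) L688738
theorem L688751 : sm gh N50144 = N48371 := ded_54_1 (flp_i L669971) (flp_h L552196) (flp_i L616065) (flp_h L666526) L688738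
theorem L688753 : sm gc N47953 = N50145 := rfl
theorem L688755 : sm ga N50145 = N48037 := ded_11_1 (flp_c L667309) (flp_a L666557) L688753
theorem L688757 : sm ge N50145 = N48706 := ded_28_2 L672690 (flp_e L666565) L688753
theorem L688759 : sm gf N50145 = N50145 := ded_29_2 (flp_c L688753) L666560 L688753
theorem L688760 : sm gg N50145 = N47955 := ded_30_2 (flp_c L666578) (flp_g L666561) L688753
theorem L688762 : sm gj N50145 = N48687 := ded_31_2 L672524 (flp_j L666563) L688753
theorem L688764 : sm gh N50145 = N50145 := ded_32_2 (flp_c L688753) L666567 L688753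
theorem L688765 : sm gi N47953 = N50146 := rfl
theorem L688767 : sm ga N50146 = N48038 := ded_18_1 (flp_i L667315) (flp_a L666557) L688765
theorem L688769 : sm gb N50146 = N50146 := ded_26_1 (flp_i L688765) L666559 L688765
theorem L688770 : sm gd N50146 = N47954 := ded_39_1 (flp_i L666568) L666555 L688765
theorem L688772 : sm ge N50146 = N48711 := ded_44_1 (flp_i L672723) (flp_e L666565) L688765
theorem L688774 : sm gf N50146 = N50146 := ded_48_1 (flp_i L688765) L666560 L688765
theorem L688775 : sm gg N50146 = N47957 := ded_51_1 (flp_i L666600) (flp_g L666561) L688765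
theorem L688777 : sm gj N50146 = N48691 := ded_53_1 (flp_i L672559) (flp_j L666563) L688765
theorem L688779 : sm gb N47955 = N50147 := rfl
theorem L688781 : sm gf N50147 = N47963 := ded_22_2 (flp_b L666659) (flp_f L666582) L688779
theorem L688783 : sm gj N50147 = N47958 := ded_24_2 (flp_b L666611) (flp_j L666584) L688779
theorem L688785 : sm gh N50147 = N50147 := ded_25_2 (flp_b L688779) L666586 L688779
theorem L688786 : sm gc N50147 = N50147 := ded_19_2 (flp_b L688779) (flp_c L666578) L379513 L666578 L688779
theorem L688787 : sm ge N47955 = N50148 := rfl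
theorem L688789 : sm ga N50148 = N48040 := ded_13_1 (flp_e L667333) (flp_a L666580) L688787
theorem L688791 : sm gc N50148 = N47956 := ded_28_1 (flp_e L666587) L666578 L688787
theorem L688793 : sm gg N50148 = N48706 := ded_41_2 (flp_e L688757) L688760 L688787
theorem L688795 : sm gj N50148 = N47959 := ded_42_2 (flp_e L666619) (flp_j L666584) L688787
theorem L688797 : sm gh N50148 = N50148 := ded_43_2 (flp_e L688787) L666586 L688787
theorem L688798 : sm gf N50148 = N50148 := ded_40_2 (flp_e L688787) L666582 L379555 (flp_f L666582) L688787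
theorem L688799 : sm gi N47955 = N50149 := rfl
theorem L688801 : sm ga N50149 = N48041 := ded_18_1 (flp_i L667341) (flp_a L666580) L688799
theorem L688803 : sm gc N50149 = N47957 := ded_33_1 (flp_i L666600) L666578 L688799
theorem L688805 : sm gf N50149 = N47964 := ded_48_1 (flp_i L666667) (flp_f L666582) L688799
theorem L688807 : sm gj N50149 = N47960 := ded_53_1 (flp_i L666629) (flp_j L666584) L688799
theorem L688809 : sm gi N47956 = N50150 := rfl
theorem L688811 : sm ga N50150 = N48042 := ded_18_1 (flp_i L667349) (flp_a L666589) L688809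
theorem L688813 : sm gb N50150 = N50150 := ded_26_1 (flp_i L688809) L666591 L688809
theorem L688814 : sm gd N50150 = N48724 := ded_39_1 (flp_i L672831) (flp_d L666597) L688809
theorem L688816 : sm ge N50150 = N47957 := ded_44_1 (flp_i L666600) L666587 L688809
theorem L688818 : sm gf N50150 = N50150 := ded_48_1 (flp_i L688809) L666599 L688809
theorem L688819 : sm gg N50150 = N48711 := ded_51_1 (flp_i L672723) (flp_g L666592) L688809
theorem L688821 : sm gj N50150 = N47961 := ded_53_1 (flp_i L666637) (flp_j L666594) L688809
theorem L688823 : sm gh N47957 = N50151 := rfl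
theorem L688825 : sm ga N50151 = N48043 := ded_17_1 (flp_h L667358) (flp_a L666602) L688823
theorem L688827 : sm gb N50151 = N50151 := ded_25_1 (flp_h L688823) L666604 L688823
theorem L688828 : sm gf N50151 = N47965 := ded_47_1 (flp_h L666677) (flp_f L666607) L688823
theorem L688830 : sm gj N50151 = N47962 := ded_52_1 (flp_h L666649) (flp_j L666609) L688823
theorem L688832 : sm gd N50151 = N48699 := ded_38_1 (flp_h L672632) L650649 L648730 (flp_d L666605) L688823
theorem L688834 : sm gi N50151 = N50151 := ded_54_2 (flp_h L688823) (flp_i L666600) L379518 L666600 L688823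
theorem L688835 : sm ga N47958 = N50152 := rfl
theorem L688837 : sm gc N50152 = N50152 := ded_11_2 (flp_a L688835) L666618 L688835
theorem L688838 : sm gf N50152 = N47966 := ded_14_2 (flp_a L666689) (flp_f L666613) L688835
theorem L688840 : sm gg N50152 = N48729 := ded_15_2 L672861 (flp_g L666615) L688835
theorem L688842 : sm gh N50152 = N50152 := ded_17_2 (flp_a L688835) L666617 L688835
theorem L688843 : sm gb N50152 = N48044 := ded_10_2 (flp_a L667367) (flp_b L380106) (flp_a L379530) L666611 L688835
theorem L688845 : sm ge N47958 = N50153 := rfl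
theorem L688847 : sm gb N50153 = N47959 := ded_21_1 (flp_e L666619) L666611 L688845
theorem L688849 : sm gc N50153 = N50153 := ded_28_1 (flp_e L688845) L666618 L688845
theorem L688850 : sm gg N50153 = N48695 := ded_41_2 L672602 (flp_g L666615) L688845
theorem L688852 : sm gh N50153 = N50153 := ded_43_2 (flp_e L688845) L666617 L688845
theorem L688853 : sm gf N50153 = N50153 := ded_40_2 (flp_e L688845) L666613 L379573 (flp_f L666613) L688845
theorem L688854 : sm gi N47958 = N50154 := rfl
theorem L688856 : sm gb N50154 = N47960 := ded_26_1 (flp_i L666629) L666611 L688854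
theorem L688858 : sm gc N50154 = N50154 := ded_33_1 (flp_i L688854) L666618 L688854
theorem L688859 : sm gf N50154 = N47967 := ded_48_1 (flp_i L666698) (flp_f L666613) L688854
theorem L688861 : sm gg N50154 = N48727 := ded_51_1 L672850 (flp_g L666615) L688854
theorem L688863 : sm gd N47959 = N50155 := rfl
theorem L688865 : sm ga N50155 = N48047 := ded_12_1 (flp_d L667390) (flp_a L666621) L688863
theorem L688867 : sm gf N50155 = N50155 := ded_35_2 (flp_d L688863) L666628 L688863
theorem L688868 : sm gg N50155 = N48496 := ded_36_2 L670985 (flp_g L666625) L688863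
theorem L688870 : sm gc N50155 = N48499 := ded_27_1 L671009 L387550 (flp_d L649351) (flp_c L666623) L688863
theorem L688872 : sm gi N47959 = N50156 := rfl
theorem L688874 : sm ga N50156 = N48048 := ded_18_1 (flp_i L667393) (flp_a L666621) L688872
theorem L688876 : sm gc N50156 = N47961 := ded_33_1 (flp_i L666637) (flp_c L666623) L688872
theorem L688878 : sm ge N50156 = N47960 := ded_44_1 (flp_i L666629) L666619 L688872
theorem L688880 : sm gf N50156 = N50156 := ded_48_1 (flp_i L688872) L666628 L688872
theorem L688881 : sm gg N50156 = N48697 := ded_51_1 (flp_i L672614) (flp_g L666625) L688872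
theorem L688883 : sm gh N47960 = N50157 := rfl
theorem L688885 : sm ga N50157 = N48049 := ded_17_1 (flp_h L667400) (flp_a L666631) L688883
theorem L688887 : sm gc N50157 = N47962 := ded_32_1 (flp_h L666649) (flp_c L666633) L688883
theorem L688889 : sm gf N50157 = N47968 := ded_47_1 (flp_h L666706) (flp_f L666635) L688883
theorem L688891 : sm gi N50157 = N50157 := ded_54_2 (flp_h L688883) (flp_i L666629) L379534 L666629 L688883
theorem L688892 : sm gh N47961 = N50158 := rfl
theorem L688894 : sm ga N50158 = N48050 := ded_17_1 (flp_h L667407) (flp_a L666639) L688892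
theorem L688896 : sm gb N50158 = N50158 := ded_25_1 (flp_h L688892) L666641 L688892
theorem L688897 : sm ge N50158 = N47962 := ded_43_1 (flp_h L666649) (flp_e L666644) L688892
theorem L688899 : sm gf N50158 = N50158 := ded_47_1 (flp_h L688892) L666646 L688892
theorem L688900 : sm gg N50158 = N48699 := ded_50_1 (flp_h L672632) (flp_g L666647) L688892
theorem L688902 : sm gi N50158 = N50158 := ded_54_2 (flp_h L688892) (flp_i L666637) L379540 L666637 L688892
theorem L688903 : sm ga N47963 = N50159 := rfl
theorem L688905 : sm gc N50159 = N50159 := ded_11_2 (flp_a L688903) L666666 L688903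
theorem L688906 : sm ge N50159 = N50159 := ded_13_2 (flp_a L688903) L666661 L688903
theorem L688907 : sm gg N50159 = N50159 := ded_15_2 (flp_a L688903) L666662 L688903
theorem L688908 : sm gj N50159 = N47966 := ded_16_2 (flp_a L666689) (flp_j L666663) L688903
theorem L688910 : sm gh N50159 = N50159 := ded_17_2 (flp_a L688903) L666665 L688903
theorem L688911 : sm gb N50159 = N48051 := ded_10_2 (flp_a L667415) (flp_b L380139) (flp_a L379553) L666659 L688903
theorem L688913 : sm gi N47963 = N50160 := rfl
theorem L688915 : sm gb N50160 = N47964 := ded_26_1 (flp_i L666667) L666659 L688913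
theorem L688917 : sm gc N50160 = N50160 := ded_33_1 (flp_i L688913) L666666 L688913
theorem L688918 : sm ge N50160 = N50160 := ded_44_1 (flp_i L688913) L666661 L688913
theorem L688919 : sm gg N50160 = N50160 := ded_51_1 (flp_i L688913) L666662 L688913
theorem L688920 : sm gj N50160 = N47967 := ded_53_1 (flp_i L666698) (flp_j L666663) L688913
theorem L688922 : sm gh N47964 = N50161 := rfl
theorem L688924 : sm ga N50161 = N48053 := ded_17_1 (flp_h L667434) (flp_a L666669) L688922
theorem L688926 : sm gc N50161 = N47965 := ded_32_1 (flp_h L666677) (flp_c L666671) L688922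
theorem L688928 : sm ge N50161 = N50161 := ded_43_1 (flp_h L688922) L666673 L688922
theorem L688929 : sm gg N50161 = N50161 := ded_50_1 (flp_h L688922) L666674 L688922
theorem L688930 : sm gj N50161 = N47968 := ded_52_1 (flp_h L666706) (flp_j L666675) L688922
theorem L688932 : sm gi N50161 = N50161 := ded_54_2 (flp_h L688922) (flp_i L666667) L379559 L666667 L688922
theorem L688933 : sm gi N47966 = N50162 := rfl
theorem L688935 : sm ga N50162 = N47967 := ded_18_1 (flp_i L666698) L666689 L688933
theorem L688937 : sm gb N50162 = N48054 := ded_26_1 (flp_i L667443) (flp_b L666696) L688933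
theorem L688939 : sm gc N50162 = N50162 := ded_33_1 (flp_i L688933) L666691 L688933
theorem L688940 : sm ge N50162 = N50162 := ded_44_1 (flp_i L688933) L666692 L688933
theorem L688941 : sm gg N50162 = N47969 := ded_51_1 (flp_i L666716) (flp_g L666693) L688933
theorem L688943 : sm gh N47967 = N50163 := rfl
theorem L688945 : sm gb N50163 = N47968 := ded_25_1 (flp_h L666706) (flp_b L666700) L688943
theorem L688947 : sm gc N50163 = N50163 := ded_32_1 (flp_h L688943) L666702 L688943
theorem L688948 : sm ge N50163 = N50163 := ded_43_1 (flp_h L688943) L666703 L688943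
theorem L688949 : sm gg N50163 = N47970 := ded_50_1 (flp_h L666727) (flp_g L666704) L688943
theorem L688951 : sm gi N50163 = N50163 := ded_54_2 (flp_h L688943) (flp_i L666698) L379576 L666698 L688943
theorem L688952 : sm gd N47968 = N50164 := rfl
theorem L688954 : sm ga N50164 = N48056 := ded_12_1 (flp_d L667462) (flp_a L666708) L688952
theorem L688956 : sm gg N50164 = N47971 := ded_36_2 (flp_d L666737) (flp_g L666713) L688952
theorem L688958 : sm gi N50164 = N50164 := ded_39_2 (flp_d L688952) L666715 L688952
theorem L688959 : sm gc N50164 = N48709 := ded_27_1 (flp_d L672710) L650719 (flp_d L648254) (flp_c L666710) L688952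
theorem L688961 : sm gh N47969 = N50165 := rfl
theorem L688963 : sm ga N50165 = N47970 := ded_17_1 (flp_h L666727) (flp_a L666718) L688961
theorem L688965 : sm gb N50165 = N48057 := ded_25_1 (flp_h L667467) (flp_b L666720) L688961
theorem L688967 : sm gc N50165 = N50165 := ded_32_1 (flp_h L688961) L666722 L688961
theorem L688968 : sm ge N50165 = N50165 := ded_43_1 (flp_h L688961) L666723 L688961
theorem L688969 : sm gf N50165 = N48667 := ded_47_1 L672334 (flp_f L666724) L688961
theorem L688971 : sm gj N50165 = N50165 := ded_52_1 (flp_h L688961) L666726 L688961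
theorem L688972 : sm gi N50165 = N50165 := ded_54_2 (flp_h L688961) (flp_i L666716) L379601 L666716 L688961
theorem L688973 : sm gd N47970 = N50166 := rfl
theorem L688975 : sm gb N50166 = N47971 := ded_20_1 (flp_d L666737) (flp_b L666729) L688973
theorem L688977 : sm gf N50166 = N48723 := ded_35_2 L672829 (flp_f L666733) L688973
theorem L688979 : sm gj N50166 = N50166 := ded_37_2 (flp_d L688973) L666735 L688973
theorem L688980 : sm gi N50166 = N50166 := ded_39_2 (flp_d L688973) L666736 L688973
theorem L688981 : sm ge N47971 = N50167 := rfl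
theorem L688983 : sm ga N50167 = N48059 := ded_13_1 (flp_e L667482) (flp_a L666739) L688981
theorem L688985 : sm gc N50167 = N48723 := ded_28_1 (flp_e L672825) (flp_c L666743) L688981
theorem L688987 : sm gj N50167 = N50167 := ded_42_2 (flp_e L688981) L666741 L688981
theorem L688988 : sm gi N50167 = N50167 := ded_44_2 (flp_e L688981) L666742 L688981
theorem L688989 : sm gd N50167 = N50167 := ded_34_1 (flp_e L688981) (flp_d L666737) L379617 L666737 L688981
theorem L688990 : sm gc N47972 = N50168 := rfl
theorem L688992 : sm gf N50168 = N48452 := ded_29_2 L670670 (flp_f L666749) L688990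
theorem L688994 : sm gj N50168 = N48459 := ded_31_2 L670732 (flp_j L666751) L688990
theorem L688996 : sm gh N50168 = N48496 := ded_32_2 L670983 (flp_h L666753) L688990
theorem L688998 : sm gd N50168 = N50168 := ded_27_2 (flp_c L688990) (flp_d L666745) L379633 L666745 L688990
theorem L688999 : sm ge N47972 = N50169 := rfl
theorem L689001 : sm gb N50169 = N48438 := ded_21_1 (flp_e L670573) (flp_b L666747) L688999
theorem L689003 : sm gj N50169 = N48448 := ded_42_2 L670647 (flp_j L666751) L688999
theorem L689005 : sm gh N50169 = N48480 := ded_43_2 L670888 (flp_h L666753) L688999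
theorem L689007 : sm gd N50169 = N47978 := ded_34_1 (flp_e L666804) (flp_d L379655) (flp_e L379634) L666745 L688999
theorem L689009 : sm gf N50169 = N48443 := ded_40_2 (flp_e L670607) L387129 L387170 (flp_f L666749) L688999
theorem L689011 : sm gi N47972 = N50170 := rfl
theorem L689013 : sm gb N50170 = N48439 := ded_26_1 (flp_i L670577) (flp_b L666747) L689011
theorem L689015 : sm gd N50170 = N47973 := ded_39_1 (flp_i L666755) L666745 L689011
theorem L689017 : sm gf N50170 = N48454 := ded_48_1 (flp_i L670687) (flp_f L666749) L689011
theorem L689019 : sm gj N50170 = N48463 := ded_53_1 (flp_i L670762) (flp_j L666751) L689011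
theorem L689021 : sm gd N47974 = N50171 := rfl
theorem L689023 : sm gb N50171 = N48440 := ded_20_1 (flp_d L670583) (flp_b L666768) L689021
theorem L689025 : sm gf N50171 = N50171 := ded_35_2 (flp_d L689021) L666773 L689021
theorem L689026 : sm gg N50171 = N47975 := ded_36_2 (flp_d L666776) (flp_g L666774) L689021
theorem L689028 : sm gh N50171 = N47995 := ded_38_2 (flp_d L666964) (flp_h L379760) (flp_d L379643) L666766 L689021
theorem L689030 : sm gi N47974 = N50172 := rfl
theorem L689032 : sm gb N50172 = N48441 := ded_26_1 (flp_i L670590) (flp_b L666768) L689030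
theorem L689034 : sm gc N50172 = N50172 := ded_33_1 (flp_i L689030) L666770 L689030
theorem L689035 : sm ge N50172 = N48737 := ded_44_1 (flp_i L672906) (flp_e L666771) L689030
theorem L689037 : sm gf N50172 = N50172 := ded_48_1 (flp_i L689030) L666773 L689030
theorem L689038 : sm gg N50172 = N47976 := ded_51_1 (flp_i L666786) (flp_g L666774) L689030
theorem L689040 : sm gc N47975 = N50173 := rfl
theorem L689042 : sm gf N50173 = N47980 := ded_29_2 (flp_c L666818) (flp_f L666780) L689040
theorem L689044 : sm gj N50173 = N47977 := ded_31_2 (flp_c L666797) (flp_j L666782) L689040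
theorem L689046 : sm gh N50173 = N47997 := ded_32_2 (flp_c L666980) (flp_h L666784) L689040
theorem L689048 : sm gd N50173 = N50173 := ded_27_2 (flp_c L689040) (flp_d L666776) L379650 L666776 L689040
theorem L689049 : sm ge N47975 = N50174 := rfl
theorem L689051 : sm gb N50174 = N48443 := ded_21_1 (flp_e L670607) (flp_b L666778) L689049
theorem L689053 : sm gj N50174 = N47978 := ded_42_2 (flp_e L666804) (flp_j L666782) L689049
theorem L689055 : sm gh N50174 = N47998 := ded_43_2 (flp_e L666988) (flp_h L666784) L689049
theorem L689057 : sm gd N50174 = N48448 := ded_34_1 L670647 L387213 (flp_e L648853) L666776 L689049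
theorem L689059 : sm gf N50174 = N48438 := ded_40_2 (flp_e L670573) L387110 (flp_e L648855) (flp_f L666780) L689049
theorem L689061 : sm gi N47975 = N50175 := rfl
theorem L689063 : sm gb N50175 = N48444 := ded_26_1 (flp_i L670613) (flp_b L666778) L689061
theorem L689065 : sm gd N50175 = N47976 := ded_39_1 (flp_i L666786) L666776 L689061
theorem L689067 : sm gf N50175 = N47981 := ded_48_1 (flp_i L666828) (flp_f L666780) L689061
theorem L689069 : sm gj N50175 = N47979 := ded_53_1 (flp_i L666810) (flp_j L666782) L689061
theorem L689071 : sm gb N47977 = N50176 := rfl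
theorem L689073 : sm gd N50176 = N50176 := ded_20_2 (flp_b L689071) L666803 L689071
theorem L689074 : sm gf N50176 = N47982 := ded_22_2 (flp_b L666839) (flp_f L666799) L689071
theorem L689076 : sm gh N50176 = N48000 := ded_25_2 (flp_b L667004) (flp_h L666801) L689071
theorem L689078 : sm gc N50176 = N48445 := ded_19_2 (flp_b L670621) (flp_c L387143) (flp_b L379657) L666797 L689071
theorem L689080 : sm ge N47977 = N50177 := rfl
theorem L689082 : sm gc N50177 = N47978 := ded_28_1 (flp_e L666804) L666797 L689080
theorem L689084 : sm gh N50177 = N48001 := ded_43_2 (flp_e L667012) (flp_h L666801) L689080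
theorem L689086 : sm gi N47977 = N50178 := rfl
theorem L689088 : sm gc N50178 = N47979 := ded_33_1 (flp_i L666810) L666797 L689086
theorem L689090 : sm gd N50178 = N50178 := ded_39_1 (flp_i L689086) L666803 L689086
theorem L689091 : sm gf N50178 = N47984 := ded_48_1 (flp_i L666860) (flp_f L666799) L689086
theorem L689093 : sm gf N47978 = N50179 := rfl
theorem L689095 : sm gb N50179 = N48448 := ded_22_1 (flp_f L670643) (flp_b L666806) L689093
theorem L689097 : sm gd N50179 = N48443 := ded_35_1 (flp_f L689009) L689007 L689093
theorem L689099 : sm gj N50179 = N48438 := ded_46_2 (flp_f L689059) L689053 L689093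
theorem L689101 : sm gh N50179 = N48003 := ded_47_2 (flp_f L667024) (flp_h L666808) L689093
theorem L689103 : sm ge N50179 = N47985 := ded_40_1 (flp_f L666867) (flp_e L379696) (flp_f L379659) L666804 L689093
theorem L689105 : sm gi N47978 = N50180 := rfl
theorem L689107 : sm gb N50180 = N48449 := ded_26_1 (flp_i L670649) (flp_b L666806) L689105
theorem L689109 : sm ge N50180 = N47979 := ded_44_1 (flp_i L666810) L666804 L689105
theorem L689111 : sm gh N47979 = N50181 := rfl
theorem L689113 : sm gb N50181 = N48450 := ded_25_1 (flp_h L670653) (flp_b L666812) L689111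
theorem L689115 : sm gf N50181 = N47987 := ded_47_1 (flp_h L666889) (flp_f L666816) L689111
theorem L689117 : sm gi N50181 = N48005 := ded_54_2 (flp_h L667036) (flp_i L379797) (flp_h L379661) L666810 L689111
theorem L689119 : sm gb N47980 = N50182 := rfl
theorem L689121 : sm gd N50182 = N50182 := ded_20_2 (flp_b L689119) L666827 L689119
theorem L689122 : sm ge N50182 = N48733 := ded_21_2 (flp_b L672884) (flp_e L666820) L689119
theorem L689124 : sm gg N50182 = N50182 := ded_23_2 (flp_b L689119) L666822 L689119
theorem L689125 : sm gj N50182 = N47982 := ded_24_2 (flp_b L666839) (flp_j L666823) L689119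
theorem L689127 : sm gh N50182 = N48006 := ded_25_2 (flp_b L667042) (flp_h L666825) L689119
theorem L689129 : sm gc N50182 = N48451 := ded_19_2 (flp_b L670659) (flp_c L387161) (flp_b L379672) L666818 L689119
theorem L689131 : sm gi N47980 = N50183 := rfl
theorem L689133 : sm gc N50183 = N47981 := ded_33_1 (flp_i L666828) L666818 L689131
theorem L689135 : sm gd N50183 = N50183 := ded_39_1 (flp_i L689131) L666827 L689131
theorem L689136 : sm ge N50183 = N48734 := ded_44_1 (flp_i L672889) (flp_e L666820) L689131
theorem L689138 : sm gg N50183 = N50183 := ded_51_1 (flp_i L689131) L666822 L689131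
theorem L689139 : sm gj N50183 = N47984 := ded_53_1 (flp_i L666860) (flp_j L666823) L689131
theorem L689141 : sm gh N47981 = N50184 := rfl
theorem L689143 : sm gb N50184 = N48455 := ded_25_1 (flp_h L670698) (flp_b L666830) L689141
theorem L689145 : sm ge N50184 = N48735 := ded_43_1 (flp_h L672896) (flp_e L666834) L689141
theorem L689147 : sm gg N50184 = N50184 := ded_50_1 (flp_h L689141) L666836 L689141
theorem L689148 : sm gj N50184 = N47987 := ded_52_1 (flp_h L666889) (flp_j L666837) L689141
theorem L689150 : sm gi N50184 = N48011 := ded_54_2 (flp_h L667091) (flp_i L379821) (flp_h L379677) L666828 L689141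
theorem L689152 : sm ge N47982 = N50185 := rfl
theorem L689154 : sm ga N50185 = N48516 := ded_13_1 (flp_e L685741) L685734 L689152
theorem L689156 : sm gb N50185 = N47983 := ded_21_1 (flp_e L666848) L666839 L689152
theorem L689158 : sm gc N50185 = N48457 := ded_28_1 (flp_e L670713) (flp_c L666846) L689152
theorem L689160 : sm gg N50185 = N47988 := ded_41_2 (flp_e L666897) (flp_g L666842) L689152
theorem L689162 : sm gj N50185 = N48733 := ded_42_2 (flp_e L689122) L689125 L689152
theorem L689164 : sm gh N50185 = N48013 := ded_43_2 (flp_e L667106) (flp_h L666844) L689152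
theorem L689166 : sm gd N48713 = N50185 := ded_12_0 L689154 L671131 (flp_a L672742)
theorem L689168 : sm gi N47982 = N50186 := rfl
theorem L689170 : sm gb N50186 = N47984 := ded_26_1 (flp_i L666860) L666839 L689168
theorem L689172 : sm gc N50186 = N48458 := ded_33_1 (flp_i L670722) (flp_c L666846) L689168
theorem L689174 : sm gd N50186 = N50186 := ded_39_1 (flp_i L689168) L666841 L689168
theorem L689175 : sm gg N50186 = N47989 := ded_51_1 (flp_i L666912) (flp_g L666842) L689168
theorem L689177 : sm gf N47983 = N50187 := rfl
theorem L689179 : sm gc N50187 = N47985 := ded_29_1 (flp_f L666867) (flp_c L666850) L689177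
theorem L689181 : sm gd N50187 = N48553 := ded_35_1 L671440 L666858 L689177
theorem L689183 : sm gj N50187 = N48437 := ded_46_2 L670569 (flp_j L666854) L689177
theorem L689185 : sm gh N50187 = N48015 := ded_47_2 (flp_f L667125) (flp_h L666856) L689177
theorem L689187 : sm gi N47983 = N50188 := rfl
theorem L689189 : sm gc N50188 = N47986 := ded_33_1 (flp_i L666877) (flp_c L666850) L689187
theorem L689191 : sm gd N50188 = N48743 := ded_39_1 (flp_i L672949) L666858 L689187
theorem L689193 : sm ge N50188 = N47984 := ded_44_1 (flp_i L666860) L666848 L689187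
theorem L689195 : sm gg N50188 = N47990 := ded_51_1 (flp_i L666920) (flp_g L666852) L689187
theorem L689197 : sm gj N50188 = N48734 := ded_53_1 (flp_i L672889) (flp_j L666854) L689187
theorem L689199 : sm gh N47984 = N50189 := rfl
theorem L689201 : sm gc N50189 = N47987 := ded_32_1 (flp_h L666889) (flp_c L666862) L689199
theorem L689203 : sm gg N50189 = N47991 := ded_50_1 (flp_h L666927) (flp_g L666865) L689199
theorem L689205 : sm gi N50189 = N48017 := ded_54_2 (flp_h L667139) (flp_i L379845) (flp_h L379693) L666860 L689199
theorem L689207 : sm gg N47985 = N50190 := rfl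
theorem L689209 : sm ga N50190 = N48348 := ded_15_1 (flp_g L683849) L683855 L689207
theorem L689211 : sm gb N50190 = N48462 := ded_23_1 (flp_g L670754) (flp_b L666869) L689207
theorem L689213 : sm gd N50190 = N48378 := ded_36_1 L670038 (flp_d L666871) L689207
theorem L689215 : sm gh N50190 = N48018 := ded_50_2 (flp_g L667145) (flp_h L666875) L689207
theorem L689217 : sm gf N50190 = N47992 := ded_45_1 (flp_g L666934) (flp_f L379735) (flp_g L379700) L666867 L689207
theorem L689219 : sm gi N47985 = N50191 := rfl
theorem L689221 : sm gb N50191 = N48463 := ded_26_1 (flp_i L670762) (flp_b L666869) L689219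
theorem L689223 : sm gd N50191 = N48436 := ded_39_1 (flp_i L670555) (flp_d L666871) L689219
theorem L689225 : sm gf N50191 = N47986 := ded_48_1 (flp_i L666877) L666867 L689219
theorem L689227 : sm gj N50191 = N48439 := ded_53_1 (flp_i L670577) (flp_j L666873) L689219
theorem L689229 : sm gh N47986 = N50192 := rfl
theorem L689231 : sm gb N50192 = N48464 := ded_25_1 (flp_h L670768) (flp_b L666879) L689229
theorem L689233 : sm ge N50192 = N47987 := ded_43_1 (flp_h L666889) (flp_e L666883) L689229
theorem L689235 : sm gg N50192 = N47994 := ded_50_1 (flp_h L666955) (flp_g L666885) L689229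
theorem L689237 : sm gj N50192 = N48735 := ded_52_1 (flp_h L672896) (flp_j L666887) L689229
theorem L689239 : sm gi N50192 = N48020 := ded_54_2 (flp_h L667161) (flp_i L379859) (flp_h L379702) L666877 L689229
theorem L689241 : sm gi N47988 = N50193 := rfl
theorem L689243 : sm ga N50193 = N48517 := ded_18_1 (flp_i L671133) (flp_a L666899) L689241
theorem L689245 : sm gb N50193 = N47990 := ded_26_1 (flp_i L666920) (flp_b L666901) L689241
theorem L689247 : sm gc N50193 = N48466 := ded_33_1 (flp_i L670783) (flp_c L666903) L689241
theorem L689249 : sm gd N50193 = N48714 := ded_39_1 (flp_i L672751) (flp_d L666910) L689241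
theorem L689251 : sm ge N50193 = N47989 := ded_44_1 (flp_i L666912) L666897 L689241
theorem L689253 : sm gf N50193 = N48514 := ded_48_1 (flp_i L671113) (flp_f L666908) L689241
theorem L689255 : sm gj N50193 = N50193 := ded_53_1 (flp_i L689241) L666905 L689241
theorem L689256 : sm gh N47989 = N50194 := rfl
theorem L689258 : sm gb N50194 = N47991 := ded_25_1 (flp_h L666927) (flp_b L666914) L689256
theorem L689260 : sm gc N50194 = N48467 := ded_32_1 (flp_h L670791) (flp_c L666916) L689256
theorem L689262 : sm gj N50194 = N50194 := ded_52_1 (flp_h L689256) L666919 L689256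
theorem L689263 : sm gi N50194 = N48025 := ded_54_2 (flp_h L667216) (flp_i L379890) (flp_h L379718) L666912 L689256
theorem L689265 : sm gh N47990 = N50195 := rfl
theorem L689267 : sm gc N50195 = N47994 := ded_32_1 (flp_h L666955) (flp_c L666922) L689265
theorem L689269 : sm ge N50195 = N47991 := ded_43_1 (flp_h L666927) (flp_e L666924) L689265
theorem L689271 : sm gj N50195 = N50195 := ded_52_1 (flp_h L689265) L666926 L689265
theorem L689272 : sm gi N50195 = N48028 := ded_54_2 (flp_h L667236) (flp_i L379905) (flp_h L379727) L666920 L689265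
theorem L689274 : sm gd N47991 = N50196 := rfl
theorem L689276 : sm gj N50196 = N50196 := ded_37_2 (flp_d L689274) L666931 L689274
theorem L689277 : sm gi N50196 = N48029 := ded_39_2 (flp_d L667243) (flp_i L666932) L689274
theorem L689279 : sm gh N50196 = N50196 := ded_38_2 (flp_d L689274) (flp_h L666927) L379733 L666927 L689274
theorem L689280 : sm gj N47992 = N50197 := rfl
theorem L689282 : sm ga N50197 = N48354 := ded_16_1 L669843 (flp_a L666936) L689280
theorem L689284 : sm gb N50197 = N48471 := ded_24_1 (flp_j L670822) (flp_b L666938) L689280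
theorem L689286 : sm gd N50197 = N48383 := ded_37_1 L670083 (flp_d L666940) L689280
theorem L689288 : sm gh N50197 = N48030 := ded_52_2 (flp_j L667248) (flp_h L666942) L689280
theorem L689290 : sm gg N50197 = N50197 := ded_49_1 (flp_j L689280) (flp_g L666934) L379741 L666934 L689280
theorem L689291 : sm gi N47992 = N50198 := rfl
theorem L689293 : sm ga N50198 = N48361 := ded_18_1 (flp_i L669897) (flp_a L666936) L689291
theorem L689295 : sm gb N50198 = N48472 := ded_26_1 (flp_i L670829) (flp_b L666938) L689291
theorem L689297 : sm gd N50198 = N48385 := ded_39_1 (flp_i L670099) (flp_d L666940) L689291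
theorem L689299 : sm gg N50198 = N47993 := ded_51_1 (flp_i L666944) L666934 L689291
theorem L689301 : sm gh N47993 = N50199 := rfl
theorem L689303 : sm ga N50199 = N48368 := ded_17_1 (flp_h L669951) (flp_a L666946) L689301
theorem L689305 : sm gb N50199 = N48473 := ded_25_1 (flp_h L670835) (flp_b L666948) L689301
theorem L689307 : sm gf N50199 = N47994 := ded_47_1 (flp_h L666955) (flp_f L666952) L689301
theorem L689309 : sm gj N50199 = N50199 := ded_52_1 (flp_h L689301) L666954 L689301
theorem L689310 : sm gi N50199 = N48032 := ded_54_2 (flp_h L667263) (flp_i L379924) (flp_h L379742) L666944 L689301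
theorem L689312 : sm gc N47995 = N50200 := rfl
theorem L689314 : sm gf N50200 = N50200 := ded_29_2 (flp_c L689312) L666968 L689312
theorem L689315 : sm gg N50200 = N47997 := ded_30_2 (flp_c L666980) (flp_g L666969) L689312
theorem L689317 : sm gd N50200 = N48037 := ded_27_2 (flp_c L667309) (flp_d L380066) (flp_c L379764) L666964 L689312
theorem L689319 : sm ge N47995 = N50201 := rfl
theorem L689321 : sm gb N50201 = N48475 := ded_21_1 (flp_e L670849) (flp_b L666966) L689319
theorem L689323 : sm gg N50201 = N47998 := ded_41_2 (flp_e L666988) (flp_g L666969) L689319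
theorem L689325 : sm gi N47995 = N50202 := rfl
theorem L689327 : sm gb N50202 = N48476 := ded_26_1 (flp_i L670853) (flp_b L666966) L689325
theorem L689329 : sm gd N50202 = N47996 := ded_39_1 (flp_i L666971) L666964 L689325
theorem L689331 : sm gf N50202 = N50202 := ded_48_1 (flp_i L689325) L666968 L689325
theorem L689332 : sm gg N50202 = N47999 := ded_51_1 (flp_i L666994) (flp_g L666969) L689325
theorem L689334 : sm gb N47997 = N50203 := rfl
theorem L689336 : sm gd N50203 = N48039 := ded_20_2 (flp_b L667324) (flp_d L666986) L689334
theorem L689338 : sm gf N50203 = N48006 := ded_22_2 (flp_b L667042) (flp_f L666982) L689334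
theorem L689340 : sm gj N50203 = N48000 := ded_24_2 (flp_b L667004) (flp_j L666984) L689334
theorem L689342 : sm gc N50203 = N48477 := ded_19_2 (flp_b L670860) (flp_c L387308) (flp_b L379771) L666980 L689334
theorem L689344 : sm ge N47997 = N50204 := rfl
theorem L689346 : sm gc N50204 = N47998 := ded_28_1 (flp_e L666988) L666980 L689344
theorem L689348 : sm gj N50204 = N48001 := ded_42_2 (flp_e L667012) (flp_j L666984) L689344
theorem L689350 : sm gi N47997 = N50205 := rfl
theorem L689352 : sm gc N50205 = N47999 := ded_33_1 (flp_i L666994) L666980 L689350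
theorem L689354 : sm gd N50205 = N48041 := ded_39_1 (flp_i L667341) (flp_d L666986) L689350
theorem L689356 : sm gf N50205 = N48008 := ded_48_1 (flp_i L667061) (flp_f L666982) L689350
theorem L689358 : sm gj N50205 = N48002 := ded_53_1 (flp_i L667016) (flp_j L666984) L689350
theorem L689360 : sm gf N47998 = N50206 := rfl
theorem L689362 : sm gb N50206 = N48480 := ded_22_1 (flp_f L670884) (flp_b L666990) L689360
theorem L689364 : sm gd N50206 = N48229 := ded_35_1 (flp_f L687427) L687425 L689360
theorem L689366 : sm gj N50206 = N48003 := ded_46_2 (flp_f L667024) (flp_j L666992) L689360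
theorem L689368 : sm gh N50206 = N48438 := ded_47_2 (flp_f L689059) L689055 L689360
theorem L689370 : sm ge N50206 = N48009 := ded_40_1 (flp_f L667070) (flp_e L379812) (flp_f L379773) L666988 L689360
theorem L689372 : sm gi N47998 = N50207 := rfl
theorem L689374 : sm gb N50207 = N48481 := ded_26_1 (flp_i L670890) (flp_b L666990) L689372
theorem L689376 : sm ge N50207 = N47999 := ded_44_1 (flp_i L666994) L666988 L689372
theorem L689378 : sm gj N50207 = N48004 := ded_53_1 (flp_i L667030) (flp_j L666992) L689372
theorem L689380 : sm gh N47999 = N50208 := rfl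
theorem L689382 : sm gb N50208 = N48482 := ded_25_1 (flp_h L670896) (flp_b L666996) L689380
theorem L689384 : sm gf N50208 = N48011 := ded_47_1 (flp_h L667091) (flp_f L667000) L689380
theorem L689386 : sm gj N50208 = N48005 := ded_52_1 (flp_h L667036) (flp_j L667002) L689380
theorem L689388 : sm ga N48000 = N50209 := rfl
theorem L689390 : sm gc N50209 = N48483 := ded_11_2 (flp_a L670902) (flp_c L667010) L689388
theorem L689392 : sm gd N50209 = N48044 := ded_12_2 (flp_a L667367) (flp_d L667006) L689388
theorem L689394 : sm gf N50209 = N48012 := ded_14_2 (flp_a L667098) (flp_f L667008) L689388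
theorem L689396 : sm ge N48000 = N50210 := rfl
theorem L689398 : sm gb N50210 = N48001 := ded_21_1 (flp_e L667012) L667004 L689396
theorem L689400 : sm gc N50210 = N48484 := ded_28_1 (flp_e L670908) (flp_c L667010) L689396
theorem L689402 : sm gi N48000 = N50211 := rfl
theorem L689404 : sm gb N50211 = N48002 := ded_26_1 (flp_i L667016) L667004 L689402
theorem L689406 : sm gc N50211 = N48485 := ded_33_1 (flp_i L670912) (flp_c L667010) L689402
theorem L689408 : sm gd N50211 = N48046 := ded_39_1 (flp_i L667382) (flp_d L667006) L689402
theorem L689410 : sm gf N50211 = N48014 := ded_48_1 (flp_i L667115) (flp_f L667008) L689402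
theorem L689412 : sm gd N48001 = N50212 := rfl
theorem L689414 : sm ge N50212 = N48047 := ded_34_2 (flp_d L667390) (flp_e L380113) (flp_d L379791) L667012 L689412
theorem L689416 : sm gf N48001 = N50213 := rfl
theorem L689418 : sm gc N50213 = N48003 := ded_29_1 (flp_f L667024) (flp_c L667014) L689416
theorem L689420 : sm ge N50213 = N48015 := ded_40_1 (flp_f L667125) (flp_e L379838) (flp_f L379789) L667012 L689416
theorem L689422 : sm gi N48001 = N50214 := rfl
theorem L689424 : sm gc N50214 = N48004 := ded_33_1 (flp_i L667030) (flp_c L667014) L689422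
theorem L689426 : sm ge N50214 = N48002 := ded_44_1 (flp_i L667016) L667012 L689422
theorem L689428 : sm gh N48002 = N50215 := rfl
theorem L689430 : sm gc N50215 = N48005 := ded_32_1 (flp_h L667036) (flp_c L667018) L689428
theorem L689432 : sm gf N50215 = N48017 := ded_47_1 (flp_h L667139) (flp_f L667022) L689428
theorem L689434 : sm gg N48003 = N50216 := rfl
theorem L689436 : sm gb N50216 = N48490 := ded_23_1 (flp_g L670942) (flp_b L667026) L689434
theorem L689438 : sm ge N50216 = N48018 := ded_41_1 (flp_g L667145) (flp_e L667028) L689434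
theorem L689440 : sm gi N48003 = N50217 := rfl
theorem L689442 : sm gb N50217 = N48491 := ded_26_1 (flp_i L670946) (flp_b L667026) L689440
theorem L689444 : sm ge N50217 = N48019 := ded_44_1 (flp_i L667153) (flp_e L667028) L689440
theorem L689446 : sm gf N50217 = N48004 := ded_48_1 (flp_i L667030) L667024 L689440
theorem L689448 : sm gh N48004 = N50218 := rfl
theorem L689450 : sm gb N50218 = N48492 := ded_25_1 (flp_h L670952) (flp_b L667032) L689448
theorem L689452 : sm ge N50218 = N48005 := ded_43_1 (flp_h L667036) (flp_e L667034) L689448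
theorem L689454 : sm ga N48006 = N50219 := rfl
theorem L689456 : sm gc N50219 = N48493 := ded_11_2 (flp_a L670956) (flp_c L667049) L689454
theorem L689458 : sm gd N50219 = N48051 := ded_12_2 (flp_a L667415) (flp_d L667044) L689454
theorem L689460 : sm gg N50219 = N50219 := ded_15_2 (flp_a L689454) L667046 L689454
theorem L689461 : sm gj N50219 = N48012 := ded_16_2 (flp_a L667098) (flp_j L667047) L689454
theorem L689463 : sm ge N48006 = N50220 := rfl
theorem L689465 : sm gb N50220 = N48007 := ded_21_1 (flp_e L667051) L667042 L689463
theorem L689467 : sm gc N50220 = N48494 := ded_28_1 (flp_e L670963) (flp_c L667049) L689463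
theorem L689469 : sm gg N50220 = N50220 := ded_41_2 (flp_e L689463) L667046 L689463
theorem L689470 : sm gj N50220 = N48013 := ded_42_2 (flp_e L667106) (flp_j L667047) L689463
theorem L689472 : sm gh N50220 = N48733 := ded_43_2 (flp_e L689122) L689127 L689463
theorem L689474 : sm gd N50220 = N50220 := ded_34_1 (flp_e L689463) L667044 L380141 (flp_d L667044) L689463
theorem L689475 : sm gi N48006 = N50221 := rfl
theorem L689477 : sm gb N50221 = N48008 := ded_26_1 (flp_i L667061) L667042 L689475
theorem L689479 : sm gc N50221 = N48495 := ded_33_1 (flp_i L670972) (flp_c L667049) L689475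
theorem L689481 : sm gd N50221 = N48052 := ded_39_1 (flp_i L667424) (flp_d L667044) L689475
theorem L689483 : sm gg N50221 = N50221 := ded_51_1 (flp_i L689475) L667046 L689475
theorem L689484 : sm gj N50221 = N48014 := ded_53_1 (flp_i L667115) (flp_j L667047) L689475
theorem L689486 : sm gf N48007 = N50222 := rfl
theorem L689488 : sm gc N50222 = N48009 := ded_29_1 (flp_f L667070) (flp_c L667053) L689486
theorem L689490 : sm gd N50222 = N50222 := ded_35_1 (flp_f L689486) L667060 L689486
theorem L689491 : sm gj N50222 = N48015 := ded_46_2 (flp_f L667125) (flp_j L667056) L689486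
theorem L689493 : sm gh N50222 = N48437 := ded_47_2 L670569 (flp_h L667058) L689486
theorem L689495 : sm gi N48007 = N50223 := rfl
theorem L689497 : sm gc N50223 = N48010 := ded_33_1 (flp_i L667080) (flp_c L667053) L689495
theorem L689499 : sm gd N50223 = N50223 := ded_39_1 (flp_i L689495) L667060 L689495
theorem L689500 : sm ge N50223 = N48008 := ded_44_1 (flp_i L667061) L667051 L689495
theorem L689502 : sm gg N50223 = N50223 := ded_51_1 (flp_i L689495) L667055 L689495
theorem L689503 : sm gj N50223 = N48016 := ded_53_1 (flp_i L667130) (flp_j L667056) L689495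
theorem L689505 : sm gh N48008 = N50224 := rfl
theorem L689507 : sm gc N50224 = N48011 := ded_32_1 (flp_h L667091) (flp_c L667063) L689505
theorem L689509 : sm gg N50224 = N50224 := ded_50_1 (flp_h L689505) L667067 L689505
theorem L689510 : sm gj N50224 = N48017 := ded_52_1 (flp_h L667139) (flp_j L667068) L689505
theorem L689512 : sm gi N48009 = N50225 := rfl
theorem L689514 : sm gb N50225 = N48500 := ded_26_1 (flp_i L671012) (flp_b L667072) L689512
theorem L689516 : sm gd N50225 = N48033 := ded_39_1 (flp_i L667270) (flp_d L667074) L689512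
theorem L689518 : sm gf N50225 = N48010 := ded_48_1 (flp_i L667080) L667070 L689512
theorem L689520 : sm gj N50225 = N48019 := ded_53_1 (flp_i L667153) (flp_j L667076) L689512
theorem L689522 : sm gh N48010 = N50226 := rfl
theorem L689524 : sm gb N50226 = N48501 := ded_25_1 (flp_h L671020) (flp_b L667082) L689522
theorem L689526 : sm ge N50226 = N48011 := ded_43_1 (flp_h L667091) (flp_e L667086) L689522
theorem L689528 : sm gg N50226 = N50226 := ded_50_1 (flp_h L689522) L667088 L689522
theorem L689529 : sm gj N50226 = N48020 := ded_52_1 (flp_h L667161) (flp_j L667089) L689522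
theorem L689531 : sm gi N50226 = N48735 := ded_54_2 (flp_h L672896) (flp_i L651139) L648927 L667080 L689522
theorem L689533 : sm ge N48012 = N50227 := rfl
theorem L689535 : sm ga N50227 = N48013 := ded_13_1 (flp_e L667106) L667098 L689533
theorem L689537 : sm gb N50227 = N48468 := ded_21_1 (flp_e L685369) L685363 L689533
theorem L689539 : sm gc N50227 = N48502 := ded_28_1 (flp_e L671027) (flp_c L667100) L689533
theorem L689541 : sm gg N50227 = N48021 := ded_41_2 (flp_e L667169) (flp_g L667104) L689533
theorem L689543 : sm gh N50227 = N48516 := ded_43_2 (flp_e L685741) L685743 L689533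
theorem L689545 : sm gd N50227 = N50227 := ded_34_1 (flp_e L689533) L667102 L380169 (flp_d L667102) L689533
theorem L689546 : sm gi N48012 = N50228 := rfl
theorem L689548 : sm ga N50228 = N48014 := ded_18_1 (flp_i L667115) L667098 L689546
theorem L689550 : sm gc N50228 = N48503 := ded_33_1 (flp_i L671035) (flp_c L667100) L689546
theorem L689552 : sm gd N50228 = N48054 := ded_39_1 (flp_i L667443) (flp_d L667102) L689546
theorem L689554 : sm gg N50228 = N48022 := ded_51_1 (flp_i L667183) (flp_g L667104) L689546
theorem L689556 : sm gf N48013 = N50229 := rfl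
theorem L689558 : sm gb N50229 = N48015 := ded_22_1 (flp_f L667125) (flp_b L667108) L689556
theorem L689560 : sm gc N50229 = N48504 := ded_29_1 (flp_f L671043) (flp_c L667110) L689556
theorem L689562 : sm gd N50229 = N50229 := ded_35_1 (flp_f L689556) L667114 L689556
theorem L689563 : sm gi N48013 = N50230 := rfl
theorem L689565 : sm gb N50230 = N48016 := ded_26_1 (flp_i L667130) (flp_b L667108) L689563
theorem L689567 : sm gc N50230 = N48505 := ded_33_1 (flp_i L671049) (flp_c L667110) L689563
theorem L689569 : sm gd N50230 = N50230 := ded_39_1 (flp_i L689563) L667114 L689563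
theorem L689570 : sm ge N50230 = N48014 := ded_44_1 (flp_i L667115) L667106 L689563
theorem L689572 : sm gg N50230 = N48024 := ded_51_1 (flp_i L667206) (flp_g L667112) L689563
theorem L689574 : sm gh N48014 = N50231 := rfl
theorem L689576 : sm gb N50231 = N48017 := ded_25_1 (flp_h L667139) (flp_b L667117) L689574
theorem L689578 : sm gc N50231 = N48506 := ded_32_1 (flp_h L671059) (flp_c L667119) L689574
theorem L689580 : sm gg N50231 = N48025 := ded_50_1 (flp_h L667216) (flp_g L667123) L689574
theorem L689582 : sm gg N48015 = N50232 := rfl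
theorem L689584 : sm gc N50232 = N48018 := ded_30_1 (flp_g L667145) (flp_c L667127) L689582
theorem L689586 : sm gd N50232 = N50232 := ded_36_1 (flp_g L689582) L667129 L689582
theorem L689587 : sm gf N50232 = N48026 := ded_45_1 (flp_g L667223) (flp_f L379899) (flp_g L379842) L667125 L689582
theorem L689589 : sm gi N48015 = N50233 := rfl
theorem L689591 : sm gc N50233 = N48019 := ded_33_1 (flp_i L667153) (flp_c L667127) L689589
theorem L689593 : sm gd N50233 = N50233 := ded_39_1 (flp_i L689589) L667129 L689589
theorem L689594 : sm gf N50233 = N48016 := ded_48_1 (flp_i L667130) L667125 L689589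
theorem L689596 : sm gh N48016 = N50234 := rfl
theorem L689598 : sm gc N50234 = N48020 := ded_32_1 (flp_h L667161) (flp_c L667132) L689596
theorem L689600 : sm ge N50234 = N48017 := ded_43_1 (flp_h L667139) (flp_e L667135) L689596
theorem L689602 : sm gg N50234 = N48028 := ded_50_1 (flp_h L667236) (flp_g L667137) L689596
theorem L689604 : sm gd N48017 = N50235 := rfl
theorem L689606 : sm gg N50235 = N48029 := ded_36_2 (flp_d L667243) (flp_g L667143) L689604
theorem L689608 : sm gh N50235 = N48056 := ded_38_2 (flp_d L667462) (flp_h L380182) (flp_d L379849) L667139 L689604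
theorem L689610 : sm gj N48018 = N50236 := rfl
theorem L689612 : sm gb N50236 = N48511 := ded_24_1 (flp_j L671095) (flp_b L667147) L689610
theorem L689614 : sm gd N50236 = N48034 := ded_37_1 (flp_j L667281) (flp_d L667149) L689610
theorem L689616 : sm gf N50236 = N48030 := ded_46_1 (flp_j L667248) (flp_f L667151) L689610
theorem L689618 : sm gi N48018 = N50237 := rfl
theorem L689620 : sm gb N50237 = N48512 := ded_26_1 (flp_i L671101) (flp_b L667147) L689618
theorem L689622 : sm gd N50237 = N48035 := ded_39_1 (flp_i L667290) (flp_d L667149) L689618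
theorem L689624 : sm gf N50237 = N48031 := ded_48_1 (flp_i L667255) (flp_f L667151) L689618
theorem L689626 : sm gg N50237 = N48019 := ded_51_1 (flp_i L667153) L667145 L689618
theorem L689628 : sm gh N48019 = N50238 := rfl
theorem L689630 : sm gb N50238 = N48513 := ded_25_1 (flp_h L671109) (flp_b L667155) L689628
theorem L689632 : sm gf N50238 = N48020 := ded_47_1 (flp_h L667161) (flp_f L667159) L689628
theorem L689634 : sm gi N48021 = N50239 := rfl
theorem L689636 : sm ga N50239 = N48024 := ded_18_1 (flp_i L667206) (flp_a L667171) L689634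
theorem L689638 : sm gb N50239 = N48469 := ded_26_1 (flp_i L670805) (flp_b L667173) L689634
theorem L689640 : sm gc N50239 = N48514 := ded_33_1 (flp_i L671113) (flp_c L667175) L689634
theorem L689642 : sm gd N50239 = N50239 := ded_39_1 (flp_i L689634) L667180 L689634
theorem L689643 : sm ge N50239 = N48022 := ded_44_1 (flp_i L667183) L667169 L689634
theorem L689645 : sm gf N50239 = N48466 := ded_48_1 (flp_i L670783) (flp_f L667181) L689634
theorem L689647 : sm gj N50239 = N50239 := ded_53_1 (flp_i L689634) L667177 L689634
theorem L689648 : sm gh N48022 = N50240 := rfl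
theorem L689650 : sm ga N50240 = N48025 := ded_17_1 (flp_h L667216) (flp_a L667185) L689648
theorem L689652 : sm gc N50240 = N48515 := ded_32_1 (flp_h L671122) (flp_c L667187) L689648
theorem L689654 : sm gj N50240 = N50240 := ded_52_1 (flp_h L689648) L667191 L689648
theorem L689655 : sm gg N48023 = N50241 := rfl
theorem L689657 : sm ga N50241 = N48457 := ded_15_1 L670717 (flp_a L667194) L689655
theorem L689659 : sm gb N50241 = N48026 := ded_23_1 (flp_g L667223) (flp_b L667196) L689655
theorem L689661 : sm gc N50241 = N48516 := ded_30_1 (flp_g L671127) (flp_c L667198) L689655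
theorem L689663 : sm gd N50241 = N50241 := ded_36_1 (flp_g L689655) L667200 L689655
theorem L689664 : sm ge N50241 = N48456 := ded_41_1 L670709 (flp_e L667204) L689655
theorem L689666 : sm gh N50241 = N48502 := ded_50_2 L671031 (flp_h L667202) L689655
theorem L689668 : sm gi N48023 = N50242 := rfl
theorem L689670 : sm ga N50242 = N48466 := ded_18_1 (flp_i L670783) (flp_a L667194) L689668
theorem L689672 : sm gb N50242 = N48027 := ded_26_1 (flp_i L667228) (flp_b L667196) L689668
theorem L689674 : sm gc N50242 = N48517 := ded_33_1 (flp_i L671133) (flp_c L667198) L689668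
theorem L689676 : sm gd N50242 = N50242 := ded_39_1 (flp_i L689668) L667200 L689668
theorem L689677 : sm ge N50242 = N48465 := ded_44_1 (flp_i L670776) (flp_e L667204) L689668
theorem L689679 : sm gf N50242 = N48024 := ded_48_1 (flp_i L667206) L667192 L689668
theorem L689681 : sm gj N50242 = N50242 := ded_53_1 (flp_i L689668) L667201 L689668
theorem L689682 : sm gh N48024 = N50243 := rfl
theorem L689684 : sm gb N50243 = N48028 := ded_25_1 (flp_h L667236) (flp_b L667208) L689682
theorem L689686 : sm gc N50243 = N48518 := ded_32_1 (flp_h L671142) (flp_c L667210) L689682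
theorem L689688 : sm ge N50243 = N48025 := ded_43_1 (flp_h L667216) (flp_e L667213) L689682
theorem L689690 : sm gj N50243 = N50243 := ded_52_1 (flp_h L689682) L667215 L689682
theorem L689691 : sm gd N48025 = N50244 := rfl
theorem L689693 : sm gb N50244 = N48029 := ded_20_1 (flp_d L667243) (flp_b L667218) L689691
theorem L689695 : sm gj N50244 = N50244 := ded_37_2 (flp_d L689691) L667222 L689691
theorem L689696 : sm gh N50244 = N48058 := ded_38_2 (flp_d L667476) (flp_h L380198) (flp_d L379896) L667216 L689691
theorem L689698 : sm gj N48026 = N50245 := rfl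
theorem L689700 : sm gc N50245 = N48030 := ded_31_1 (flp_j L667248) (flp_c L667225) L689698
theorem L689702 : sm gd N50245 = N50245 := ded_37_1 (flp_j L689698) L667227 L689698
theorem L689703 : sm gg N50245 = N50245 := ded_49_1 (flp_j L689698) (flp_g L667223) L379904 L667223 L689698
theorem L689704 : sm gi N48026 = N50246 := rfl
theorem L689706 : sm gc N50246 = N48031 := ded_33_1 (flp_i L667255) (flp_c L667225) L689704
theorem L689708 : sm gd N50246 = N50246 := ded_39_1 (flp_i L689704) L667227 L689704
theorem L689709 : sm gg N50246 = N48027 := ded_51_1 (flp_i L667228) L667223 L689704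
theorem L689711 : sm gh N48027 = N50247 := rfl
theorem L689713 : sm gc N50247 = N48032 := ded_32_1 (flp_h L667263) (flp_c L667230) L689711
theorem L689715 : sm gf N50247 = N48028 := ded_47_1 (flp_h L667236) (flp_f L667233) L689711
theorem L689717 : sm gj N50247 = N50247 := ded_52_1 (flp_h L689711) L667235 L689711
theorem L689718 : sm gd N48028 = N50248 := rfl
theorem L689720 : sm gj N50248 = N50248 := ded_37_2 (flp_d L689718) L667242 L689718
theorem L689721 : sm gh N50248 = N50248 := ded_38_2 (flp_d L689718) (flp_h L667236) L379909 L667236 L689718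
theorem L689722 : sm ge N48029 = N50249 := rfl
theorem L689724 : sm gj N50249 = N50249 := ded_42_2 (flp_e L689722) L667245 L689722
theorem L689725 : sm gh N50249 = N48059 := ded_43_2 (flp_e L667482) (flp_h L667246) L689722
theorem L689727 : sm gi N48030 = N50250 := rfl
theorem L689729 : sm gb N50250 = N48525 := ded_26_1 (flp_i L671188) (flp_b L667250) L689727
theorem L689731 : sm gd N50250 = N48036 := ded_39_1 (flp_i L667299) (flp_d L667252) L689727
theorem L689733 : sm gg N50250 = N50250 := ded_51_1 (flp_i L689727) L667254 L689727
theorem L689734 : sm gj N50250 = N48031 := ded_53_1 (flp_i L667255) L667248 L689727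
theorem L689736 : sm gh N48031 = N50251 := rfl
theorem L689738 : sm gb N50251 = N48526 := ded_25_1 (flp_h L671195) (flp_b L667257) L689736
theorem L689740 : sm gg N50251 = N48032 := ded_50_1 (flp_h L667263) (flp_g L667261) L689736
theorem L689742 : sm gi N48034 = N50252 := rfl
theorem L689744 : sm gb N50252 = N48529 := ded_26_1 (flp_i L671215) (flp_b L667283) L689742
theorem L689746 : sm gc N50252 = N50252 := ded_33_1 (flp_i L689742) L667285 L689742
theorem L689747 : sm gf N50252 = N48036 := ded_48_1 (flp_i L667299) (flp_f L667286) L689742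
theorem L689749 : sm gj N50252 = N48035 := ded_53_1 (flp_i L667290) L667281 L689742
theorem L689751 : sm gi N48037 = N50253 := rfl
theorem L689753 : sm gc N50253 = N48038 := ded_33_1 (flp_i L667315) L667309 L689751
theorem L689755 : sm gf N50253 = N50253 := ded_48_1 (flp_i L689751) L667311 L689751
theorem L689756 : sm gg N50253 = N48041 := ded_51_1 (flp_i L667341) (flp_g L667312) L689751
theorem L689758 : sm gh N48038 = N50254 := rfl
theorem L689760 : sm gb N50254 = N48060 := ded_25_1 (flp_h L667487) (flp_b L667317) L689758
theorem L689762 : sm gf N50254 = N50254 := ded_47_1 (flp_h L689758) L667321 L689758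
theorem L689763 : sm gg N50254 = N48043 := ded_50_1 (flp_h L667358) (flp_g L667322) L689758
theorem L689765 : sm gd N50254 = N48050 := ded_38_1 (flp_h L667407) (flp_d L665458) L665465 (flp_d L667319) L689758
theorem L689767 : sm gi N50254 = N50254 := ded_54_2 (flp_h L689758) (flp_i L667315) L380073 L667315 L689758
theorem L689768 : sm gi N48039 = N50255 := rfl
theorem L689770 : sm gb N50255 = N48041 := ded_26_1 (flp_i L667341) L667324 L689768
theorem L689772 : sm gc N50255 = N48061 := ded_33_1 (flp_i L667496) (flp_c L667331) L689768
theorem L689774 : sm gf N50255 = N48052 := ded_48_1 (flp_i L667424) (flp_f L667326) L689768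
theorem L689776 : sm gj N50255 = N48046 := ded_53_1 (flp_i L667382) (flp_j L667328) L689768
theorem L689778 : sm gd N48040 = N50256 := rfl
theorem L689780 : sm gf N50256 = N50256 := ded_35_2 (flp_d L689778) L667340 L689778
theorem L689781 : sm gj N50256 = N48047 := ded_37_2 (flp_d L667390) (flp_j L667337) L689778
theorem L689783 : sm gi N48040 = N50257 := rfl
theorem L689785 : sm gc N50257 = N48042 := ded_33_1 (flp_i L667349) (flp_c L667335) L689783
theorem L689787 : sm ge N50257 = N48041 := ded_44_1 (flp_i L667341) L667333 L689783
theorem L689789 : sm gf N50257 = N50257 := ded_48_1 (flp_i L689783) L667340 L689783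
theorem L689790 : sm gj N50257 = N48048 := ded_53_1 (flp_i L667393) (flp_j L667337) L689783
theorem L689792 : sm gh N48041 = N50258 := rfl
theorem L689794 : sm gc N50258 = N48043 := ded_32_1 (flp_h L667358) (flp_c L667343) L689792
theorem L689796 : sm gf N50258 = N48053 := ded_47_1 (flp_h L667434) (flp_f L667345) L689792
theorem L689798 : sm gj N50258 = N48049 := ded_52_1 (flp_h L667400) (flp_j L667347) L689792
theorem L689800 : sm gi N50258 = N50258 := ded_54_2 (flp_h L689792) (flp_i L667341) L380087 L667341 L689792
theorem L689801 : sm gh N48042 = N50259 := rfl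
theorem L689803 : sm gb N50259 = N48064 := ded_25_1 (flp_h L667530) (flp_b L667351) L689801
theorem L689805 : sm ge N50259 = N48043 := ded_43_1 (flp_h L667358) (flp_e L667353) L689801
theorem L689807 : sm gf N50259 = N50259 := ded_47_1 (flp_h L689801) L667355 L689801
theorem L689808 : sm gj N50259 = N48050 := ded_52_1 (flp_h L667407) (flp_j L667356) L689801
theorem L689810 : sm gi N50259 = N50259 := ded_54_2 (flp_h L689801) (flp_i L667349) L380094 L667349 L689801
theorem L689811 : sm gi N48044 = N50260 := rfl
theorem L689813 : sm ga N50260 = N48046 := ded_18_1 (flp_i L667382) L667367 L689811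
theorem L689815 : sm gc N50260 = N48065 := ded_33_1 (flp_i L667539) (flp_c L667369) L689811
theorem L689817 : sm gf N50260 = N48054 := ded_48_1 (flp_i L667443) (flp_f L667371) L689811
theorem L689819 : sm gd N48045 = N50261 := rfl
theorem L689821 : sm gb N50261 = N48047 := ded_20_1 (flp_d L667390) (flp_b L667376) L689819
theorem L689823 : sm gf N50261 = N50261 := ded_35_2 (flp_d L689819) L667381 L689819
theorem L689824 : sm gi N48045 = N50262 := rfl
theorem L689826 : sm gb N50262 = N48048 := ded_26_1 (flp_i L667393) (flp_b L667376) L689824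
theorem L689828 : sm gc N50262 = N48066 := ded_33_1 (flp_i L667548) (flp_c L667378) L689824
theorem L689830 : sm ge N50262 = N48046 := ded_44_1 (flp_i L667382) L667374 L689824
theorem L689832 : sm gf N50262 = N50262 := ded_48_1 (flp_i L689824) L667381 L689824
theorem L689833 : sm gh N48046 = N50263 := rfl
theorem L689835 : sm gb N50263 = N48049 := ded_25_1 (flp_h L667400) (flp_b L667384) L689833
theorem L689837 : sm gc N50263 = N48067 := ded_32_1 (flp_h L667555) (flp_c L667386) L689833
theorem L689839 : sm gf N50263 = N48055 := ded_47_1 (flp_h L667452) (flp_f L667388) L689833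
theorem L689841 : sm gi N50263 = N50263 := ded_54_2 (flp_h L689833) (flp_i L667382) L380110 L667382 L689833
theorem L689842 : sm gh N48047 = N50264 := rfl
theorem L689844 : sm gf N50264 = N50264 := ded_47_1 (flp_h L689842) L667392 L689842
theorem L689845 : sm gd N50264 = N50264 := ded_38_1 (flp_h L689842) (flp_d L667390) L380117 L667390 L689842
theorem L689846 : sm gi N48047 = N50265 := rfl
theorem L689848 : sm gd N50265 = N48048 := ded_39_1 (flp_i L667393) L667390 L689846
theorem L689850 : sm gf N50265 = N50265 := ded_48_1 (flp_i L689846) L667392 L689846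
theorem L689851 : sm gh N48048 = N50266 := rfl
theorem L689853 : sm gc N50266 = N48050 := ded_32_1 (flp_h L667407) (flp_c L667395) L689851
theorem L689855 : sm ge N50266 = N48049 := ded_43_1 (flp_h L667400) (flp_e L667397) L689851
theorem L689857 : sm gf N50266 = N50266 := ded_47_1 (flp_h L689851) L667399 L689851
theorem L689858 : sm gi N50266 = N50266 := ded_54_2 (flp_h L689851) (flp_i L667393) L380117 L667393 L689851
theorem L689859 : sm gd N48049 = N50267 := rfl
theorem L689861 : sm gf N50267 = N48056 := ded_35_2 (flp_d L667462) (flp_f L667404) L689859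
theorem L689863 : sm gi N50267 = N50267 := ded_39_2 (flp_d L689859) L667406 L689859
theorem L689864 : sm gi N48051 = N50268 := rfl
theorem L689866 : sm ga N50268 = N48052 := ded_18_1 (flp_i L667424) L667415 L689864
theorem L689868 : sm gc N50268 = N48071 := ded_33_1 (flp_i L667599) (flp_c L667417) L689864
theorem L689870 : sm ge N50268 = N50268 := ded_44_1 (flp_i L689864) L667419 L689864
theorem L689871 : sm gg N50268 = N50268 := ded_51_1 (flp_i L689864) L667420 L689864
theorem L689872 : sm gj N50268 = N48054 := ded_53_1 (flp_i L667443) (flp_j L667421) L689864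
theorem L689874 : sm gh N48052 = N50269 := rfl
theorem L689876 : sm gb N50269 = N48053 := ded_25_1 (flp_h L667434) (flp_b L667426) L689874
theorem L689878 : sm gc N50269 = N48072 := ded_32_1 (flp_h L667610) (flp_c L667428) L689874
theorem L689880 : sm ge N50269 = N50269 := ded_43_1 (flp_h L689874) L667430 L689874
theorem L689881 : sm gg N50269 = N50269 := ded_50_1 (flp_h L689874) L667431 L689874
theorem L689882 : sm gj N50269 = N48055 := ded_52_1 (flp_h L667452) (flp_j L667432) L689874
theorem L689884 : sm gi N50269 = N50269 := ded_54_2 (flp_h L689874) (flp_i L667424) L380145 L667424 L689874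
theorem L689885 : sm gd N48053 = N50270 := rfl
theorem L689887 : sm gg N50270 = N50270 := ded_36_2 (flp_d L689885) L667439 L689885
theorem L689888 : sm gj N50270 = N48056 := ded_37_2 (flp_d L667462) (flp_j L667440) L689885
theorem L689890 : sm gi N50270 = N50270 := ded_39_2 (flp_d L689885) L667442 L689885
theorem L689891 : sm gh N48054 = N50271 := rfl
theorem L689893 : sm ga N50271 = N48055 := ded_17_1 (flp_h L667452) (flp_a L667445) L689891
theorem L689895 : sm gc N50271 = N48073 := ded_32_1 (flp_h L667621) (flp_c L667447) L689891
theorem L689897 : sm ge N50271 = N50271 := ded_43_1 (flp_h L689891) L667449 L689891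
theorem L689898 : sm gg N50271 = N48057 := ded_50_1 (flp_h L667467) (flp_g L667450) L689891
theorem L689900 : sm gi N50271 = N50271 := ded_54_2 (flp_h L689891) (flp_i L667443) L380172 L667443 L689891
theorem L689901 : sm gd N48055 = N50272 := rfl
theorem L689903 : sm gb N50272 = N48056 := ded_20_1 (flp_d L667462) (flp_b L667454) L689901
theorem L689905 : sm gg N50272 = N48058 := ded_36_2 (flp_d L667476) (flp_g L667459) L689901
theorem L689907 : sm gi N50272 = N50272 := ded_39_2 (flp_d L689901) L667461 L689901
theorem L689908 : sm ge N48056 = N50273 := rfl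
theorem L689910 : sm gg N50273 = N48059 := ded_41_2 (flp_e L667482) (flp_g L667464) L689908
theorem L689912 : sm gi N50273 = N50273 := ded_44_2 (flp_e L689908) L667466 L689908
theorem L689913 : sm gd N50273 = N50273 := ded_34_1 (flp_e L689908) (flp_d L667462) L380186 L667462 L689908
theorem L689914 : sm gh N48061 = N50274 := rfl
theorem L689916 : sm gb N50274 = N48063 := ded_25_1 (flp_h L667518) (flp_b L667498) L689914
theorem L689918 : sm gf N50274 = N48072 := ded_47_1 (flp_h L667610) (flp_f L667502) L689914
theorem L689920 : sm gj N50274 = N48067 := ded_52_1 (flp_h L667555) (flp_j L667504) L689914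
theorem L689922 : sm gd N50274 = N48291 := ded_38_1 (flp_h L669323) L384254 L387791 (flp_d L667500) L689914
theorem L689924 : sm gi N50274 = N50274 := ded_54_2 (flp_h L689914) (flp_i L667496) L380242 L667496 L689914
theorem L689925 : sm gh N48062 = N50275 := rfl
theorem L689927 : sm ga N50275 = N50275 := ded_17_1 (flp_h L689925) L667508 L689925
theorem L689928 : sm gc N50275 = N48064 := ded_32_1 (flp_h L667530) (flp_c L667509) L689925
theorem L689930 : sm ge N50275 = N48063 := ded_43_1 (flp_h L667518) (flp_e L667513) L689925
theorem L689932 : sm gf N50275 = N50275 := ded_47_1 (flp_h L689925) L667515 L689925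
theorem L689933 : sm gj N50275 = N48069 := ded_52_1 (flp_h L667578) (flp_j L667516) L689925
theorem L689935 : sm gd N50275 = N48194 := ded_38_1 (flp_h L668633) L383055 L385902 (flp_d L667511) L689925
theorem L689937 : sm gi N50275 = N50275 := ded_54_2 (flp_h L689925) (flp_i L667506) L380250 L667506 L689925
theorem L689938 : sm gh N48065 = N50276 := rfl
theorem L689940 : sm ga N50276 = N48067 := ded_17_1 (flp_h L667555) (flp_a L667541) L689938
theorem L689942 : sm gb N50276 = N50276 := ded_25_1 (flp_h L689938) L667543 L689938
theorem L689943 : sm gf N50276 = N48073 := ded_47_1 (flp_h L667621) (flp_f L667546) L689938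
theorem L689945 : sm gi N50276 = N50276 := ded_54_2 (flp_h L689938) (flp_i L667539) L380285 L667539 L689938
theorem L689946 : sm gh N48066 = N50277 := rfl
theorem L689948 : sm gb N50277 = N48069 := ded_25_1 (flp_h L667578) (flp_b L667550) L689946
theorem L689950 : sm ge N50277 = N48067 := ded_43_1 (flp_h L667555) (flp_e L667552) L689946
theorem L689952 : sm gf N50277 = N50277 := ded_47_1 (flp_h L689946) L667554 L689946
theorem L689953 : sm gi N50277 = N50277 := ded_54_2 (flp_h L689946) (flp_i L667548) L380291 L667548 L689946
theorem L689954 : sm gd N48067 = N50278 := rfl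
theorem L689956 : sm gb N50278 = N48070 := ded_20_1 (flp_d L667587) (flp_b L667557) L689954
theorem L689958 : sm gf N50278 = N48074 := ded_35_2 (flp_d L667630) (flp_f L667559) L689954
theorem L689960 : sm gj N50278 = N48291 := ded_37_2 (flp_d L689922) L689920 L689954
theorem L689962 : sm gi N50278 = N50278 := ded_39_2 (flp_d L689954) L667561 L689954
theorem L689963 : sm gh N50278 = N48283 := ded_38_2 L669261 L646973 (flp_d L380297) L667555 L689954
theorem L689965 : sm ge N48284 = N50278 := ded_21_0 L689956 (flp_e L667597) (flp_b L669271)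
theorem L689967 : sm gh N48071 = N50279 := rfl
theorem L689969 : sm ga N50279 = N48072 := ded_17_1 (flp_h L667610) (flp_a L667601) L689967
theorem L689971 : sm gb N50279 = N50279 := ded_25_1 (flp_h L689967) L667603 L689967
theorem L689972 : sm ge N50279 = N50279 := ded_43_1 (flp_h L689967) L667606 L689967
theorem L689973 : sm gg N50279 = N50279 := ded_50_1 (flp_h L689967) L667607 L689967
theorem L689974 : sm gj N50279 = N48073 := ded_52_1 (flp_h L667621) (flp_j L667608) L689967
theorem L689976 : sm gd N50279 = N48602 := ded_38_1 (flp_h L671826) L649697 (flp_h L649015) (flp_d L667604) L689967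
theorem L689978 : sm gi N50279 = N50279 := ded_54_2 (flp_h L689967) (flp_i L667599) L380338 L667599 L689967
theorem L689979 : sm gi N48075 = N50280 := rfl
theorem L689981 : sm ga N50280 = N48085 := ded_18_1 (flp_i L667752) (flp_a L667645) L689979
theorem L689983 : sm gb N50280 = N48097 := ded_26_1 (flp_i L667851) (flp_b L667647) L689979
theorem L689985 : sm gd N50280 = N48076 := ded_39_1 (flp_i L667657) L667643 L689979
theorem L689987 : sm ge N50280 = N48086 := ded_44_1 (flp_i L667758) (flp_e L667653) L689979
theorem L689989 : sm gg N50280 = N48089 := ded_51_1 (flp_i L667779) (flp_g L667649) L689979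
theorem L689991 : sm gj N50280 = N48141 := ded_53_1 (flp_i L668230) (flp_j L667651) L689979
theorem L689993 : sm gi N48077 = N50281 := rfl
theorem L689995 : sm ga N50281 = N48086 := ded_18_1 (flp_i L667758) (flp_a L667674) L689993
theorem L689997 : sm gb N50281 = N48093 := ded_26_1 (flp_i L667812) (flp_b L667676) L689993
theorem L689999 : sm gd N50281 = N48078 := ded_39_1 (flp_i L667686) L667672 L689993
theorem L690001 : sm ge N50281 = N48085 := ded_44_1 (flp_i L667752) (flp_e L667682) L689993
theorem L690003 : sm gg N50281 = N48080 := ded_51_1 (flp_i L667710) (flp_g L667678) L689993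
theorem L690005 : sm gj N50281 = N48166 := ded_53_1 (flp_i L668441) (flp_j L667680) L689993
theorem L690007 : sm gi N48079 = N50282 := rfl
theorem L690009 : sm ga N50282 = N48088 := ded_18_1 (flp_i L667771) (flp_a L667704) L690007
theorem L690011 : sm gc N50282 = N48080 := ded_33_1 (flp_i L667710) L667702 L690007
theorem L690013 : sm gd N50282 = N48082 := ded_39_1 (flp_i L667725) (flp_d L667708) L690007
theorem L690015 : sm gj N50282 = N48149 := ded_53_1 (flp_i L668314) (flp_j L667706) L690007
theorem L690017 : sm gh N48080 = N50283 := rfl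
theorem L690019 : sm ga N50283 = N48090 := ded_17_1 (flp_h L667789) (flp_a L667712) L690017
theorem L690021 : sm gj N50283 = N48150 := ded_52_1 (flp_h L668322) (flp_j L667716) L690017
theorem L690023 : sm gd N50283 = N48099 := ded_38_1 (flp_h L667869) L381406 (flp_h L380573) (flp_d L667714) L690017
theorem L690025 : sm gi N48081 = N50284 := rfl
theorem L690027 : sm gb N50284 = N48082 := ded_26_1 (flp_i L667725) L667718 L690025
theorem L690029 : sm gc N50284 = N50284 := ded_33_1 (flp_i L690025) L667724 L690025
theorem L690030 : sm ge N50284 = N50284 := ded_44_1 (flp_i L690025) L667720 L690025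
theorem L690031 : sm gj N50284 = N48158 := ded_53_1 (flp_i L668391) (flp_j L667721) L690025
theorem L690033 : sm gh N48082 = N50285 := rfl
theorem L690035 : sm ga N50285 = N48091 := ded_17_1 (flp_h L667795) (flp_a L667727) L690033
theorem L690037 : sm gc N50285 = N48083 := ded_32_1 (flp_h L667734) (flp_c L667729) L690033
theorem L690039 : sm ge N50285 = N50285 := ded_43_1 (flp_h L690033) L667731 L690033
theorem L690040 : sm gj N50285 = N48159 := ded_52_1 (flp_h L668397) (flp_j L667732) L690033
theorem L690042 : sm gi N50285 = N50285 := ded_54_2 (flp_h L690033) (flp_i L667725) L380715 L667725 L690033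
theorem L690043 : sm gi N48084 = N50286 := rfl
theorem L690045 : sm gc N50286 = N48085 := ded_33_1 (flp_i L667752) L667745 L690043
theorem L690047 : sm gd N50286 = N50286 := ded_39_1 (flp_i L690043) L667751 L690043
theorem L690048 : sm gj N50286 = N48165 := ded_53_1 (flp_i L668436) (flp_j L667747) L690043
theorem L690050 : sm gh N48085 = N50287 := rfl
theorem L690052 : sm gj N50287 = N48167 := ded_52_1 (flp_h L668449) (flp_j L667756) L690050
theorem L690054 : sm gd N50287 = N48106 := ded_38_1 (flp_h L667929) L381684 (flp_h L380777) (flp_d L667754) L690050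
theorem L690056 : sm gi N50287 = N48090 := ded_54_2 (flp_h L667789) (flp_i L380831) (flp_h L380768) L667752 L690050
theorem L690058 : sm gh N48086 = N50288 := rfl
theorem L690060 : sm gg N50288 = N48090 := ded_50_1 (flp_h L667789) (flp_g L667762) L690058
theorem L690062 : sm gd N50288 = N48113 := ded_38_1 (flp_h L667975) L381745 (flp_h L380817) (flp_d L667760) L690058
theorem L690064 : sm gi N48087 = N50289 := rfl
theorem L690066 : sm gc N50289 = N48089 := ded_33_1 (flp_i L667779) (flp_c L667766) L690064
theorem L690068 : sm gd N50289 = N50289 := ded_39_1 (flp_i L690064) L667770 L690064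
theorem L690069 : sm ge N50289 = N48088 := ded_44_1 (flp_i L667771) L667764 L690064
theorem L690071 : sm gj N50289 = N48182 := ded_53_1 (flp_i L668549) (flp_j L667768) L690064
theorem L690073 : sm gh N48088 = N50290 := rfl
theorem L690075 : sm gc N50290 = N48090 := ded_32_1 (flp_h L667789) (flp_c L667773) L690073
theorem L690077 : sm gj N50290 = N48183 := ded_52_1 (flp_h L668556) (flp_j L667777) L690073
theorem L690079 : sm gh N48089 = N50291 := rfl
theorem L690081 : sm gb N50291 = N48099 := ded_25_1 (flp_h L667869) (flp_b L667781) L690079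
theorem L690083 : sm ge N50291 = N48090 := ded_43_1 (flp_h L667789) (flp_e L667785) L690079
theorem L690085 : sm gj N50291 = N48184 := ded_52_1 (flp_h L668560) (flp_j L667787) L690079
theorem L690087 : sm gd N48091 = N50292 := rfl
theorem L690089 : sm gj N50292 = N48193 := ded_37_2 (flp_d L668628) (flp_j L667800) L690087
theorem L690091 : sm gi N50292 = N50292 := ded_39_2 (flp_d L690087) L667802 L690087
theorem L690092 : sm gc N50292 = N48132 := ded_27_1 (flp_d L668133) L382011 (flp_d L381017) (flp_c L667797) L690087
theorem L690094 : sm gi N48092 = N50293 := rfl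
theorem L690096 : sm ga N50293 = N48105 := ded_18_1 (flp_i L667922) (flp_a L667805) L690094
theorem L690098 : sm gc N50293 = N48093 := ded_33_1 (flp_i L667812) L667803 L690094
theorem L690100 : sm gd N50293 = N50293 := ded_39_1 (flp_i L690094) L667811 L690094
theorem L690101 : sm gj N50293 = N48203 := ded_53_1 (flp_i L668696) (flp_j L667807) L690094
theorem L690103 : sm gh N48093 = N50294 := rfl
theorem L690105 : sm ga N50294 = N48106 := ded_17_1 (flp_h L667929) (flp_a L667814) L690103
theorem L690107 : sm gj N50294 = N48204 := ded_52_1 (flp_h L668703) (flp_j L667818) L690103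
theorem L690109 : sm gi N50294 = N48099 := ded_54_2 (flp_h L667869) (flp_i L381402) (flp_h L381329) L667812 L690103
theorem L690111 : sm gi N48094 = N50295 := rfl
theorem L690113 : sm ga N50295 = N48110 := ded_18_1 (flp_i L667955) (flp_a L667822) L690111
theorem L690115 : sm gd N50295 = N48095 := ded_39_1 (flp_i L667826) L667820 L690111
theorem L690117 : sm gf N50295 = N48097 := ded_48_1 (flp_i L667851) (flp_f L667824) L690111
theorem L690119 : sm gh N48097 = N50296 := rfl
theorem L690121 : sm ga N50296 = N48113 := ded_17_1 (flp_h L667975) (flp_a L667853) L690119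
theorem L690123 : sm gg N50296 = N48099 := ded_50_1 (flp_h L667869) (flp_g L667857) L690119
theorem L690125 : sm gh N48098 = N50297 := rfl
theorem L690127 : sm ga N50297 = N48119 := ded_17_1 (flp_h L668019) (flp_a L667861) L690125
theorem L690129 : sm gc N50297 = N48099 := ded_32_1 (flp_h L667869) (flp_c L667863) L690125
theorem L690131 : sm gj N50297 = N48216 := ded_52_1 (flp_h L668797) (flp_j L667867) L690125
theorem L690133 : sm gh N48101 = N50298 := rfl
theorem L690135 : sm ga N50298 = N48127 := ded_17_1 (flp_h L668082) (flp_a L667887) L690133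
theorem L690137 : sm gb N50298 = N50298 := ded_25_1 (flp_h L690133) L667889 L690133
theorem L690138 : sm gf N50298 = N48102 := ded_47_1 (flp_h L667894) (flp_f L667892) L690133
theorem L690140 : sm gj N50298 = N48318 := ded_52_1 L673101 L673099 L690133
theorem L690142 : sm gd N50298 = N48137 := ded_38_1 (flp_h L668178) (flp_d L664741) L664748 (flp_d L667890) L690133
theorem L690144 : sm gi N50298 = N50298 := ded_54_2 (flp_h L690133) (flp_i L667885) L381547 L667885 L690133
theorem L690145 : sm gd N48103 = N50299 := rfl
theorem L690147 : sm ga N50299 = N48132 := ded_12_1 (flp_d L668133) (flp_a L667906) L690145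
theorem L690149 : sm gj N50299 = N48227 := ded_37_2 (flp_d L668896) (flp_j L667912) L690145
theorem L690151 : sm gi N50299 = N50299 := ded_39_2 (flp_d L690145) L667914 L690145
theorem L690152 : sm gi N48104 = N50300 := rfl
theorem L690154 : sm gb N50300 = N48105 := ded_26_1 (flp_i L667922) L667915 L690152
theorem L690156 : sm gd N50300 = N50300 := ded_39_1 (flp_i L690152) L667917 L690152
theorem L690157 : sm gj N50300 = N48235 := ded_53_1 (flp_i L668944) (flp_j L667918) L690152
theorem L690159 : sm gh N48105 = N50301 := rfl
theorem L690161 : sm gc N50301 = N48106 := ded_32_1 (flp_h L667929) (flp_c L667924) L690159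
theorem L690163 : sm gj N50301 = N48238 := ded_52_1 (flp_h L668961) (flp_j L667927) L690159
theorem L690165 : sm gi N50301 = N48119 := ded_54_2 (flp_h L668019) (flp_i L381763) (flp_h L381671) L667922 L690159
theorem L690167 : sm gi N48108 = N50302 := rfl
theorem L690169 : sm gc N50302 = N48110 := ded_33_1 (flp_i L667955) L667946 L690167
theorem L690171 : sm gd N50302 = N48125 := ded_39_1 (flp_i L668067) (flp_d L667950) L690167
theorem L690173 : sm gf N50302 = N48112 := ded_48_1 (flp_i L667967) (flp_f L667948) L690167
theorem L690175 : sm gi N48109 = N50303 := rfl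
theorem L690177 : sm gd N50303 = N50303 := ded_39_1 (flp_i L690175) L667954 L690175
theorem L690178 : sm ge N50303 = N48110 := ded_44_1 (flp_i L667955) L667952 L690175
theorem L690180 : sm gh N48110 = N50304 := rfl
theorem L690182 : sm gf N50304 = N48113 := ded_47_1 (flp_h L667975) (flp_f L667959) L690180
theorem L690184 : sm gi N48111 = N50305 := rfl
theorem L690186 : sm gb N50305 = N48112 := ded_26_1 (flp_i L667967) L667961 L690184
theorem L690188 : sm gd N50305 = N48128 := ded_39_1 (flp_i L668093) (flp_d L667963) L690184
theorem L690190 : sm gg N50305 = N48116 := ded_51_1 (flp_i L667993) (flp_g L667965) L690184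
theorem L690192 : sm gh N48112 = N50306 := rfl
theorem L690194 : sm gc N50306 = N48113 := ded_32_1 (flp_h L667975) (flp_c L667969) L690192
theorem L690196 : sm gg N50306 = N48119 := ded_50_1 (flp_h L668019) (flp_g L667973) L690192
theorem L690198 : sm gi N48114 = N50307 := rfl
theorem L690200 : sm ga N50307 = N48116 := ded_18_1 (flp_i L667993) L667979 L690198
theorem L690202 : sm gd N50307 = N48130 := ded_39_1 (flp_i L668112) (flp_d L667981) L690198
theorem L690204 : sm gj N50307 = N48265 := ded_53_1 (flp_i L669133) (flp_j L667983) L690198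
theorem L690206 : sm gi N48115 = N50308 := rfl
theorem L690208 : sm gb N50308 = N48118 := ded_26_1 (flp_i L668009) (flp_b L667987) L690206
theorem L690210 : sm gd N50308 = N48581 := ded_39_1 (flp_i L671639) (flp_d L667991) L690206
theorem L690212 : sm ge N50308 = N48116 := ded_44_1 (flp_i L667993) L667985 L690206
theorem L690214 : sm gj N50308 = N48267 := ded_53_1 (flp_i L669145) (flp_j L667989) L690206
theorem L690216 : sm gh N48116 = N50309 := rfl
theorem L690218 : sm gb N50309 = N48119 := ded_25_1 (flp_h L668019) (flp_b L667995) L690216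
theorem L690220 : sm gj N50309 = N48268 := ded_52_1 (flp_h L669153) (flp_j L667999) L690216
theorem L690222 : sm gi N48117 = N50310 := rfl
theorem L690224 : sm gc N50310 = N48121 := ded_33_1 (flp_i L668029) (flp_c L668003) L690222
theorem L690226 : sm gd N50310 = N48582 := ded_39_1 (flp_i L671648) (flp_d L668005) L690222
theorem L690228 : sm gf N50310 = N48118 := ded_48_1 (flp_i L668009) L668001 L690222
theorem L690230 : sm gj N50310 = N48270 := ded_53_1 (flp_i L669163) (flp_j L668007) L690222
theorem L690232 : sm gh N48118 = N50311 := rfl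
theorem L690234 : sm gc N50311 = N48122 := ded_32_1 (flp_h L668037) (flp_c L668011) L690232
theorem L690236 : sm ge N50311 = N48119 := ded_43_1 (flp_h L668019) (flp_e L668015) L690232
theorem L690238 : sm gj N50311 = N48271 := ded_52_1 (flp_h L669171) (flp_j L668017) L690232
theorem L690240 : sm gd N48119 = N50312 := rfl
theorem L690242 : sm gj N50312 = N48272 := ded_37_2 (flp_d L669177) (flp_j L668023) L690240
theorem L690244 : sm gh N50312 = N48132 := ded_38_2 (flp_d L668133) (flp_h L382009) (flp_d L381767) L668019 L690240
theorem L690246 : sm gi N48120 = N50313 := rfl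
theorem L690248 : sm gd N50313 = N48124 := ded_39_1 (flp_i L668055) (flp_d L668027) L690246
theorem L690250 : sm gg N50313 = N48121 := ded_51_1 (flp_i L668029) L668025 L690246
theorem L690252 : sm gj N50313 = N48621 := ded_53_1 L674244 L674238 L690246
theorem L690254 : sm gh N48121 = N50314 := rfl
theorem L690256 : sm gf N50314 = N48122 := ded_47_1 (flp_h L668037) (flp_f L668033) L690254
theorem L690258 : sm gj N50314 = N48275 := ded_52_1 (flp_h L669191) (flp_j L668035) L690254
theorem L690260 : sm gh N48125 = N50315 := rfl
theorem L690262 : sm gc N50315 = N48127 := ded_32_1 (flp_h L668082) (flp_c L668069) L690260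
theorem L690264 : sm gf N50315 = N48129 := ded_47_1 (flp_h L668103) (flp_f L668071) L690260
theorem L690266 : sm gj N50315 = N48319 := ded_52_1 L674978 L674976 L690260
theorem L690268 : sm gi N50315 = N50315 := ded_54_2 (flp_h L690260) (flp_i L668067) L381926 L668067 L690260
theorem L690269 : sm gh N48126 = N50316 := rfl
theorem L690271 : sm gb N50316 = N48133 := ded_25_1 (flp_h L668138) (flp_b L668075) L690269
theorem L690273 : sm ge N50316 = N48127 := ded_43_1 (flp_h L668082) (flp_e L668078) L690269
theorem L690275 : sm gf N50316 = N48583 := ded_47_1 (flp_h L671657) (flp_f L668080) L690269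
theorem L690277 : sm gj N50316 = N48320 := ded_52_1 L673049 L673047 L690269
theorem L690279 : sm gi N50316 = N50316 := ded_54_2 (flp_h L690269) (flp_i L668073) L381931 L668073 L690269
theorem L690280 : sm gd N48600 = N50316 := ded_20_0 L690271 (flp_d L668148) (flp_b L671812)
theorem L690282 : sm gh N48128 = N50317 := rfl
theorem L690284 : sm gb N50317 = N48129 := ded_25_1 (flp_h L668103) (flp_b L668095) L690282
theorem L690286 : sm gc N50317 = N48136 := ded_32_1 (flp_h L668169) (flp_c L668097) L690282
theorem L690288 : sm ge N50317 = N48584 := ded_43_1 (flp_h L671665) (flp_e L668099) L690282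
theorem L690290 : sm gg N50317 = N48131 := ded_50_1 (flp_h L668122) (flp_g L668101) L690282
theorem L690292 : sm gi N50317 = N50317 := ded_54_2 (flp_h L690282) (flp_i L668093) L381970 L668093 L690282
theorem L690293 : sm gd N48129 = N50318 := rfl
theorem L690295 : sm gg N50318 = N48132 := ded_36_2 (flp_d L668133) (flp_g L668109) L690293
theorem L690297 : sm gi N50318 = N50318 := ded_39_2 (flp_d L690293) L668111 L690293
theorem L690298 : sm gh N48130 = N50319 := rfl
theorem L690300 : sm ga N50319 = N48131 := ded_17_1 (flp_h L668122) (flp_a L668114) L690298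
theorem L690302 : sm gc N50319 = N48137 := ded_32_1 (flp_h L668178) (flp_c L668116) L690298
theorem L690304 : sm ge N50319 = N48585 := ded_43_1 (flp_h L671674) (flp_e L668118) L690298
theorem L690306 : sm gj N50319 = N48297 := ded_52_1 (flp_h L669377) (flp_j L668120) L690298
theorem L690308 : sm gi N50319 = N50319 := ded_54_2 (flp_h L690298) (flp_i L668112) L381998 L668112 L690298
theorem L690309 : sm gd N48131 = N50320 := rfl
theorem L690311 : sm gb N50320 = N48132 := ded_20_1 (flp_d L668133) (flp_b L668124) L690309
theorem L690313 : sm gj N50320 = N48298 := ded_37_2 (flp_d L669386) (flp_j L668130) L690309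
theorem L690315 : sm gi N50320 = N50320 := ded_39_2 (flp_d L690309) L668132 L690309
theorem L690316 : sm ge N48132 = N50321 := rfl
theorem L690318 : sm gj N50321 = N48299 := ded_42_2 (flp_e L669391) (flp_j L668135) L690316
theorem L690320 : sm gi N50321 = N50321 := ded_44_2 (flp_e L690316) L668137 L690316
theorem L690321 : sm gd N50321 = N48587 := ded_34_1 (flp_e L671692) (flp_d L649551) (flp_e L382013) L668133 L690316
theorem L690323 : sm gh N48135 = N50322 := rfl
theorem L690325 : sm ga N50322 = N48136 := ded_17_1 (flp_h L668169) (flp_a L668162) L690323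
theorem L690327 : sm gb N50322 = N50322 := ded_25_1 (flp_h L690323) L668164 L690323
theorem L690328 : sm ge N50322 = N48595 := ded_43_1 (flp_h L671767) (flp_e L668165) L690323
theorem L690330 : sm gg N50322 = N48137 := ded_50_1 (flp_h L668178) (flp_g L668167) L690323
theorem L690332 : sm gi N50322 = N50322 := ded_54_2 (flp_h L690323) (flp_i L668160) L382130 L668160 L690323
theorem L690333 : sm gd N48138 = N50323 := rfl
theorem L690335 : sm ga N50323 = N48160 := ded_12_1 (flp_d L668405) (flp_a L668190) L690333
theorem L690337 : sm gb N50323 = N48206 := ded_20_1 (flp_d L668719) (flp_b L668192) L690333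
theorem L690339 : sm gf N50323 = N48139 := ded_35_2 (flp_d L668201) (flp_f L668197) L690333
theorem L690341 : sm gj N50323 = N48176 := ded_37_2 L668514 (flp_j L668199) L690333
theorem L690343 : sm gh N50323 = N48143 := ded_38_2 (flp_d L668250) (flp_h L382387) (flp_d L382336) L668188 L690333
theorem L690345 : sm gi N48138 = N50324 := rfl
theorem L690347 : sm ga N50324 = N48161 := ded_18_1 (flp_i L668411) (flp_a L668190) L690345
theorem L690349 : sm gb N50324 = N48207 := ded_26_1 (flp_i L668727) (flp_b L668192) L690345
theorem L690351 : sm gc N50324 = N50324 := ded_33_1 (flp_i L690345) L668194 L690345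
theorem L690352 : sm ge N50324 = N48371 := ded_44_1 (flp_i L669971) (flp_e L668195) L690345
theorem L690354 : sm gf N50324 = N48140 := ded_48_1 (flp_i L668215) (flp_f L668197) L690345
theorem L690356 : sm gj N50324 = N48185 := ded_53_1 (flp_i L668566) (flp_j L668199) L690345
theorem L690358 : sm gh N50324 = N48199 := ded_54_1 (flp_i L668667) (flp_h L383402) (flp_i L382338) L668188 L690345
theorem L690360 : sm gi N48139 = N50325 := rfl
theorem L690362 : sm ga N50325 = N48163 := ded_18_1 (flp_i L668425) (flp_a L668203) L690360
theorem L690364 : sm gb N50325 = N48211 := ded_26_1 (flp_i L668761) (flp_b L668205) L690360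
theorem L690366 : sm gd N50325 = N48140 := ded_39_1 (flp_i L668215) L668201 L690360
theorem L690368 : sm ge N50325 = N48173 := ded_44_1 (flp_i L668489) (flp_e L668211) L690360
theorem L690370 : sm gg N50325 = N48141 := ded_51_1 (flp_i L668230) (flp_g L668207) L690360
theorem L690372 : sm gj N50325 = N48177 := ded_53_1 (flp_i L668516) (flp_j L668209) L690360
theorem L690374 : sm gh N48141 = N50326 := rfl
theorem L690376 : sm ga N50326 = N48167 := ded_17_1 (flp_h L668449) (flp_a L668232) L690374
theorem L690378 : sm gd N50326 = N48204 := ded_38_1 (flp_h L668703) L383454 (flp_h L382373) (flp_d L668234) L690374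
theorem L690380 : sm gi N50326 = N48150 := ded_54_2 (flp_h L668322) (flp_i L382437) (flp_h L382364) L668230 L690374
theorem L690382 : sm gd N48142 = N50327 := rfl
theorem L690384 : sm ga N50327 = N48168 := ded_12_1 (flp_d L668455) (flp_a L668238) L690382
theorem L690386 : sm gb N50327 = N48198 := ded_20_1 (flp_d L668659) (flp_b L668240) L690382
theorem L690388 : sm gf N50327 = N48145 := ded_35_2 (flp_d L668268) (flp_f L668246) L690382
theorem L690390 : sm gj N50327 = N48143 := ded_37_2 (flp_d L668250) (flp_j L668248) L690382
theorem L690392 : sm gh N50327 = N48176 := ded_38_2 L668514 L552224 (flp_d L612521) L668236 L690382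
theorem L690394 : sm gi N48142 = N50328 := rfl
theorem L690396 : sm ga N50328 = N48169 := ded_18_1 (flp_i L668461) (flp_a L668238) L690394
theorem L690398 : sm gb N50328 = N48199 := ded_26_1 (flp_i L668667) (flp_b L668240) L690394
theorem L690400 : sm gc N50328 = N48151 := ded_33_1 (flp_i L668328) (flp_c L668242) L690394
theorem L690402 : sm ge N50328 = N48324 := ded_44_1 (flp_i L669615) (flp_e L668244) L690394
theorem L690404 : sm gf N50328 = N48146 := ded_48_1 (flp_i L668282) (flp_f L668246) L690394
theorem L690406 : sm gj N50328 = N48144 := ded_53_1 (flp_i L668256) (flp_j L668248) L690394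
theorem L690408 : sm gh N50328 = N48207 := ded_54_1 (flp_i L668727) (flp_h L383464) (flp_i L382385) L668236 L690394
theorem L690410 : sm gc N48143 = N50329 := rfl
theorem L690412 : sm ga N50329 = N48170 := ded_11_1 (flp_c L668473) (flp_a L668252) L690410
theorem L690414 : sm gf N50329 = N48147 := ded_29_2 (flp_c L668298) (flp_f L668254) L690410
theorem L690416 : sm gd N50329 = N48152 := ded_27_2 (flp_c L668341) (flp_d L382561) (flp_c L382391) L668250 L690410
theorem L690418 : sm ge N48143 = N50330 := rfl
theorem L690420 : sm ga N50330 = N48171 := ded_13_1 (flp_e L668479) (flp_a L668252) L690418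
theorem L690422 : sm gd N50330 = N48325 := ded_34_1 (flp_e L669627) (flp_d L384894) (flp_e L382393) L668250 L690418
theorem L690424 : sm gi N48143 = N50331 := rfl
theorem L690426 : sm ga N50331 = N48172 := ded_18_1 (flp_i L668483) (flp_a L668252) L690424
theorem L690428 : sm gd N50331 = N48144 := ded_39_1 (flp_i L668256) L668250 L690424
theorem L690430 : sm gf N50331 = N48148 := ded_48_1 (flp_i L668306) (flp_f L668254) L690424
theorem L690432 : sm gi N48145 = N50332 := rfl
theorem L690434 : sm ga N50332 = N48173 := ded_18_1 (flp_i L668489) (flp_a L668270) L690432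
theorem L690436 : sm gb N50332 = N48201 := ded_26_1 (flp_i L668683) (flp_b L668272) L690432
theorem L690438 : sm gd N50332 = N48146 := ded_39_1 (flp_i L668282) L668268 L690432
theorem L690440 : sm ge N50332 = N48163 := ded_44_1 (flp_i L668425) (flp_e L668278) L690432
theorem L690442 : sm gg N50332 = N48166 := ded_51_1 (flp_i L668441) (flp_g L668274) L690432
theorem L690444 : sm gj N50332 = N48148 := ded_53_1 (flp_i L668306) (flp_j L668276) L690432
theorem L690446 : sm gi N48147 = N50333 := rfl
theorem L690448 : sm ga N50333 = N48175 := ded_18_1 (flp_i L668502) (flp_a L668300) L690446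
theorem L690450 : sm gc N50333 = N48148 := ded_33_1 (flp_i L668306) L668298 L690446
theorem L690452 : sm gd N50333 = N48155 := ded_39_1 (flp_i L668364) (flp_d L668304) L690446
theorem L690454 : sm gg N50333 = N48149 := ded_51_1 (flp_i L668314) (flp_g L668302) L690446
theorem L690456 : sm gh N48148 = N50334 := rfl
theorem L690458 : sm ga N50334 = N48178 := ded_17_1 (flp_h L668526) (flp_a L668308) L690456
theorem L690460 : sm gg N50334 = N48150 := ded_50_1 (flp_h L668322) (flp_g L668312) L690456
theorem L690462 : sm gd N50334 = N48213 := ded_38_1 (flp_h L668779) L383528 (flp_h L382423) (flp_d L668310) L690456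
theorem L690464 : sm gh N48149 = N50335 := rfl
theorem L690466 : sm ga N50335 = N48183 := ded_17_1 (flp_h L668556) (flp_a L668316) L690464
theorem L690468 : sm gc N50335 = N48150 := ded_32_1 (flp_h L668322) (flp_c L668318) L690464
theorem L690470 : sm gb N48152 = N50336 := rfl
theorem L690472 : sm gf N50336 = N48154 := ded_22_2 (flp_b L668357) (flp_f L668345) L690470
theorem L690474 : sm gh N50336 = N50336 := ded_25_2 (flp_b L690470) L668347 L690470
theorem L690475 : sm gc N50336 = N50336 := ded_19_2 (flp_b L690470) (flp_c L668341) L382565 L668341 L690470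
theorem L690476 : sm gi N48152 = N50337 := rfl
theorem L690478 : sm ga N50337 = N48187 := ded_18_1 (flp_i L668581) (flp_a L668343) L690476
theorem L690480 : sm gc N50337 = N48153 := ded_33_1 (flp_i L668348) L668341 L690476
theorem L690482 : sm gf N50337 = N48155 := ded_48_1 (flp_i L668364) (flp_f L668345) L690476
theorem L690484 : sm gh N48153 = N50338 := rfl
theorem L690486 : sm ga N50338 = N48189 := ded_17_1 (flp_h L668596) (flp_a L668350) L690484
theorem L690488 : sm gb N50338 = N50338 := ded_25_1 (flp_h L690484) L668352 L690484
theorem L690489 : sm gf N50338 = N48156 := ded_47_1 (flp_h L668373) (flp_f L668355) L690484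
theorem L690491 : sm gd N50338 = N48222 := ded_38_1 (flp_h L668850) L383744 (flp_h L382578) (flp_d L668353) L690484
theorem L690493 : sm gi N50338 = N50338 := ded_54_2 (flp_h L690484) (flp_i L668348) L382568 L668348 L690484
theorem L690494 : sm gi N48154 = N50339 := rfl
theorem L690496 : sm gb N50339 = N48155 := ded_26_1 (flp_i L668364) L668357 L690494
theorem L690498 : sm gc N50339 = N50339 := ded_33_1 (flp_i L690494) L668363 L690494
theorem L690499 : sm ge N50339 = N50339 := ded_44_1 (flp_i L690494) L668359 L690494
theorem L690500 : sm gg N50339 = N48158 := ded_51_1 (flp_i L668391) (flp_g L668360) L690494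
theorem L690502 : sm gh N48155 = N50340 := rfl
theorem L690504 : sm ga N50340 = N48190 := ded_17_1 (flp_h L668605) (flp_a L668366) L690502
theorem L690506 : sm gc N50340 = N48156 := ded_32_1 (flp_h L668373) (flp_c L668368) L690502
theorem L690508 : sm ge N50340 = N50340 := ded_43_1 (flp_h L690502) L668370 L690502
theorem L690509 : sm gg N50340 = N48159 := ded_50_1 (flp_h L668397) (flp_g L668371) L690502
theorem L690511 : sm gi N50340 = N50340 := ded_54_2 (flp_h L690502) (flp_i L668364) L382607 L668364 L690502
theorem L690512 : sm gi N48157 = N50341 := rfl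
theorem L690514 : sm ga N50341 = N48158 := ded_18_1 (flp_i L668391) L668384 L690512
theorem L690516 : sm gb N50341 = N48191 := ded_26_1 (flp_i L668613) (flp_b L668389) L690512
theorem L690518 : sm gc N50341 = N50341 := ded_33_1 (flp_i L690512) L668386 L690512
theorem L690519 : sm ge N50341 = N50341 := ded_44_1 (flp_i L690512) L668387 L690512
theorem L690520 : sm gf N50341 = N48622 := ded_48_1 L679932 L679927 L690512
theorem L690522 : sm gh N50341 = N48636 := ded_56_7 (flp_f L672066) (flp_e L650063) (flp_d L271714) L186937 L128754 L88929 (flp_h L88927) L61492 (flp_e L86446) L86444 (flp_c L84937) (flp_b L122916) (flp_a L178191) (flp_h L592026) (flp_f L186795) L186793 L128663 (flp_c L181623) (flp_b L259087) (flp_a L501971) L359840 L248057 (flp_e L576554) L124696 L86078 L59564 L41345 L41349 (flp_f L41482) (flp_e L59788) (flp_d L86444) (flp_c L125235) (flp_b L181817) (flp_a L264253) L384508 (flp_f L660612) L660611 (flp_d L673118) L673108 L653890 (flp_a L659758) (flp_h L659756) (flp_f L652885) L652883 L355041 L244330 L168466 L116304 L116310 L80618 L55887 L40808 L40806 (flp_b L41433)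 (flp_a L59670) (flp_h L86032) (flp_f L124628) (flp_e L180914) (flp_d L262960) (flp_c L382627) (flp_b L668393) (flp_a L690514)
theorem L690524 : sm gh N48158 = N50342 := rfl
theorem L690526 : sm ga N50342 = N48636 := ded_17_1 (flp_h L690522) L690514 L690524
theorem L690528 : sm gb N50342 = N48159 := ded_25_1 (flp_h L668397) (flp_b L668393) L690524
theorem L690530 : sm gc N50342 = N50342 := ded_32_1 (flp_h L690524) L668395 L690524
theorem L690531 : sm ge N50342 = N50342 := ded_43_1 (flp_h L690524) L668396 L690524
theorem L690532 : sm gf N50342 = N48606 := ded_47_1 L680907 L680905 L690524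
theorem L690534 : sm gi N50342 = N50342 := ded_54_2 (flp_h L690524) (flp_i L668391) L382621 L668391 L690524
theorem L690535 : sm gd N48159 = N50343 := rfl
theorem L690537 : sm ga N50343 = N48193 := ded_12_1 (flp_d L668628) (flp_a L668399) L690535
theorem L690539 : sm gi N50343 = N50343 := ded_39_2 (flp_d L690535) L668404 L690535
theorem L690540 : sm gc N50343 = N48227 := ded_27_1 (flp_d L668896) L383815 (flp_d L382636) (flp_c L668401) L690535
theorem L690542 : sm gc N48160 = N50344 := rfl
theorem L690544 : sm gf N50344 = N48162 := ded_29_2 (flp_c L668418) (flp_f L668407) L690542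
theorem L690546 : sm gh N50344 = N48170 := ded_32_2 (flp_c L668473) (flp_h L668409) L690542
theorem L690548 : sm gd N50344 = N50344 := ded_27_2 (flp_c L690542) (flp_d L668405) L382659 L668405 L690542
theorem L690549 : sm ge N48160 = N50345 := rfl
theorem L690551 : sm gh N50345 = N48171 := ded_43_2 (flp_e L668479) (flp_h L668409) L690549
theorem L690553 : sm gi N48160 = N50346 := rfl
theorem L690555 : sm gd N50346 = N48161 := ded_39_1 (flp_i L668411) L668405 L690553
theorem L690557 : sm gf N50346 = N48163 := ded_48_1 (flp_i L668425) (flp_f L668407) L690553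
theorem L690559 : sm gi N48162 = N50347 := rfl
theorem L690561 : sm gc N50347 = N48163 := ded_33_1 (flp_i L668425) L668418 L690559
theorem L690563 : sm gd N50347 = N50347 := ded_39_1 (flp_i L690559) L668424 L690559
theorem L690564 : sm gg N50347 = N48165 := ded_51_1 (flp_i L668436) (flp_g L668420) L690559
theorem L690566 : sm gh N48163 = N50348 := rfl
theorem L690568 : sm gg N50348 = N48167 := ded_50_1 (flp_h L668449) (flp_g L668429) L690566
theorem L690570 : sm gd N50348 = N48233 := ded_38_1 (flp_h L668932) L383889 (flp_h L382682) (flp_d L668427) L690566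
theorem L690572 : sm gi N50348 = N48178 := ded_54_2 (flp_h L668526) (flp_i L382757) (flp_h L382673) L668425 L690566
theorem L690574 : sm gi N48164 = N50349 := rfl
theorem L690576 : sm gb N50349 = N48165 := ded_26_1 (flp_i L668436) L668431 L690574
theorem L690578 : sm gd N50349 = N50349 := ded_39_1 (flp_i L690574) L668433 L690574
theorem L690579 : sm gh N48165 = N50350 := rfl
theorem L690581 : sm gc N50350 = N48167 := ded_32_1 (flp_h L668449) (flp_c L668438) L690579
theorem L690583 : sm gi N50350 = N48183 := ded_54_2 (flp_h L668556) (flp_i L382772) (flp_h L382686) L668436 L690579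
theorem L690585 : sm gh N48166 = N50351 := rfl
theorem L690587 : sm gb N50351 = N48204 := ded_25_1 (flp_h L668703) (flp_b L668443) L690585
theorem L690589 : sm ge N50351 = N48167 := ded_43_1 (flp_h L668449) (flp_e L668447) L690585
theorem L690591 : sm gi N50351 = N48184 := ded_54_2 (flp_h L668560) (flp_i L382782) (flp_h L382691) L668441 L690585
theorem L690593 : sm ge N48168 = N50352 := rfl
theorem L690595 : sm gj N50352 = N48171 := ded_42_2 (flp_e L668479) (flp_j L668459) L690593
theorem L690597 : sm gd N50352 = N48346 := ded_34_1 (flp_e L669792) (flp_d L385378) (flp_e L382711) L668455 L690593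
theorem L690599 : sm gi N48168 = N50353 := rfl
theorem L690601 : sm gd N50353 = N48169 := ded_39_1 (flp_i L668461) L668455 L690599
theorem L690603 : sm gf N50353 = N48173 := ded_48_1 (flp_i L668489) (flp_f L668457) L690599
theorem L690605 : sm gj N50353 = N48172 := ded_53_1 (flp_i L668483) (flp_j L668459) L690599
theorem L690607 : sm ge N48170 = N50354 := rfl
theorem L690609 : sm gc N50354 = N48171 := ded_28_1 (flp_e L668479) L668473 L690607
theorem L690611 : sm gi N48170 = N50355 := rfl
theorem L690613 : sm gc N50355 = N48172 := ded_33_1 (flp_i L668483) L668473 L690611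
theorem L690615 : sm gd N50355 = N48187 := ded_39_1 (flp_i L668581) (flp_d L668477) L690611
theorem L690617 : sm gf N50355 = N48175 := ded_48_1 (flp_i L668502) (flp_f L668475) L690611
theorem L690619 : sm gf N48171 = N50356 := rfl
theorem L690621 : sm gb N50356 = N48209 := ded_22_1 (flp_f L687117) L687113 L690619
theorem L690623 : sm gd N50356 = N48351 := ded_35_1 (flp_f L669822) (flp_d L668481) L690619
theorem L690625 : sm ge N50356 = N48176 := ded_40_1 (flp_f L668510) (flp_e L382751) (flp_f L382719) L668479 L690619
theorem L690627 : sm gi N48171 = N50357 := rfl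
theorem L690629 : sm gd N50357 = N48352 := ded_39_1 (flp_i L669828) (flp_d L668481) L690627
theorem L690631 : sm ge N50357 = N48172 := ded_44_1 (flp_i L668483) L668479 L690627
theorem L690633 : sm gh N48172 = N50358 := rfl
theorem L690635 : sm gf N50358 = N48178 := ded_47_1 (flp_h L668526) (flp_f L668487) L690633
theorem L690637 : sm gd N50358 = N48251 := ded_38_1 (flp_h L669043) L383961 (flp_h L382729) (flp_d L668485) L690633
theorem L690639 : sm gh N48173 = N50359 := rfl
theorem L690641 : sm gj N50359 = N48178 := ded_52_1 (flp_h L668526) (flp_j L668493) L690639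
theorem L690643 : sm gd N50359 = N48254 := ded_38_1 (flp_h L669061) L383979 (flp_h L382743) (flp_d L668491) L690639
theorem L690645 : sm gf N48174 = N50360 := rfl
theorem L690647 : sm gc N50360 = N48176 := ded_29_1 (flp_f L668510) (flp_c L668497) L690645
theorem L690649 : sm gd N50360 = N50360 := ded_35_1 (flp_f L690645) L668501 L690645
theorem L690650 : sm gi N48174 = N50361 := rfl
theorem L690652 : sm gc N50361 = N48177 := ded_33_1 (flp_i L668516) (flp_c L668497) L690650
theorem L690654 : sm gd N50361 = N50361 := ded_39_1 (flp_i L690650) L668501 L690650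
theorem L690655 : sm ge N50361 = N48175 := ded_44_1 (flp_i L668502) L668495 L690650
theorem L690657 : sm gg N50361 = N48182 := ded_51_1 (flp_i L668549) (flp_g L668499) L690650
theorem L690659 : sm gh N48175 = N50362 := rfl
theorem L690661 : sm gc N50362 = N48178 := ded_32_1 (flp_h L668526) (flp_c L668504) L690659
theorem L690663 : sm gg N50362 = N48183 := ded_50_1 (flp_h L668556) (flp_g L668508) L690659
theorem L690665 : sm gi N48176 = N50363 := rfl
theorem L690667 : sm gb N50363 = N48210 := ded_26_1 (flp_i L668753) (flp_b L668512) L690665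
theorem L690669 : sm gd N50363 = N48185 := ded_39_1 (flp_i L668566) (flp_d L668514) L690665
theorem L690671 : sm gf N50363 = N48177 := ded_48_1 (flp_i L668516) L668510 L690665
theorem L690673 : sm gh N48177 = N50364 := rfl
theorem L690675 : sm gb N50364 = N48213 := ded_25_1 (flp_h L668779) (flp_b L668518) L690673
theorem L690677 : sm ge N50364 = N48178 := ded_43_1 (flp_h L668526) (flp_e L668522) L690673
theorem L690679 : sm gg N50364 = N48184 := ded_50_1 (flp_h L668560) (flp_g L668524) L690673
theorem L690681 : sm gi N48179 = N50365 := rfl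
theorem L690683 : sm ga N50365 = N48181 := ded_18_1 (flp_i L668543) L668532 L690681
theorem L690685 : sm gd N50365 = N48191 := ded_39_1 (flp_i L668613) (flp_d L668534) L690681
theorem L690687 : sm gi N48180 = N50366 := rfl
theorem L690689 : sm gb N50366 = N48182 := ded_26_1 (flp_i L668549) (flp_b L668538) L690687
theorem L690691 : sm gc N50366 = N48215 := ded_33_1 (flp_i L668791) (flp_c L668540) L690687
theorem L690693 : sm gd N50366 = N50366 := ded_39_1 (flp_i L690687) L668542 L690687
theorem L690694 : sm ge N50366 = N48181 := ded_44_1 (flp_i L668543) L668536 L690687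
theorem L690696 : sm gh N48181 = N50367 := rfl
theorem L690698 : sm gb N50367 = N48183 := ded_25_1 (flp_h L668556) (flp_b L668545) L690696
theorem L690700 : sm gh N48182 = N50368 := rfl
theorem L690702 : sm gc N50368 = N48184 := ded_32_1 (flp_h L668560) (flp_c L668551) L690700
theorem L690704 : sm ge N50368 = N48183 := ded_43_1 (flp_h L668556) (flp_e L668554) L690700
theorem L690706 : sm gd N48183 = N50369 := rfl
theorem L690708 : sm gc N50369 = N48272 := ded_27_1 (flp_d L669177) L384053 (flp_d L382790) (flp_c L668558) L690706
theorem L690710 : sm gh N50369 = N48193 := ded_38_2 (flp_d L668628) (flp_h L382986) (flp_d L382776) L668556 L690706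
theorem L690712 : sm gd N48186 = N50370 := rfl
theorem L690714 : sm gf N50370 = N50370 := ded_35_2 (flp_d L690712) L668580 L690712
theorem L690715 : sm gc N50370 = N48381 := ded_27_1 (flp_d L670067) L385682 (flp_d L382922) (flp_c L668577) L690712
theorem L690717 : sm gi N48186 = N50371 := rfl
theorem L690719 : sm gc N50371 = N48188 := ded_33_1 (flp_i L668587) (flp_c L668577) L690717
theorem L690721 : sm ge N50371 = N48187 := ded_44_1 (flp_i L668581) L668575 L690717
theorem L690723 : sm gf N50371 = N50371 := ded_48_1 (flp_i L690717) L668580 L690717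
theorem L690724 : sm gh N48187 = N50372 := rfl
theorem L690726 : sm gc N50372 = N48189 := ded_32_1 (flp_h L668596) (flp_c L668583) L690724
theorem L690728 : sm gf N50372 = N48190 := ded_47_1 (flp_h L668605) (flp_f L668585) L690724
theorem L690730 : sm gi N50372 = N50372 := ded_54_2 (flp_h L690724) (flp_i L668581) L382916 L668581 L690724
theorem L690731 : sm gh N48188 = N50373 := rfl
theorem L690733 : sm gb N50373 = N48194 := ded_25_1 (flp_h L668633) (flp_b L668589) L690731
theorem L690735 : sm ge N50373 = N48189 := ded_43_1 (flp_h L668596) (flp_e L668593) L690731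
theorem L690737 : sm gf N50373 = N50373 := ded_47_1 (flp_h L690731) L668595 L690731
theorem L690738 : sm gi N50373 = N50373 := ded_54_2 (flp_h L690731) (flp_i L668587) L382921 L668587 L690731
theorem L690739 : sm gd N48190 = N50374 := rfl
theorem L690741 : sm gg N50374 = N48193 := ded_36_2 (flp_d L668628) (flp_g L668610) L690739
theorem L690743 : sm gi N50374 = N50374 := ded_39_2 (flp_d L690739) L668612 L690739
theorem L690744 : sm gc N50374 = N48296 := ded_27_1 (flp_d L669372) L384314 (flp_d L382970) (flp_c L668607) L690739
theorem L690746 : sm gh N48191 = N50375 := rfl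
theorem L690748 : sm ga N50375 = N48192 := ded_17_1 (flp_h L668620) (flp_a L668615) L690746
theorem L690750 : sm gb N50375 = N48636 := ded_25_1 (flp_h L690522) L690516 L690746
theorem L690752 : sm gc N50375 = N48195 := ded_32_1 (flp_h L668640) (flp_c L668617) L690746
theorem L690754 : sm ge N50375 = N50375 := ded_43_1 (flp_h L690746) L668619 L690746
theorem L690755 : sm gf N50375 = N48635 := ded_47_1 L681438 L681436 L690746
theorem L690757 : sm gi N50375 = N50375 := ded_54_2 (flp_h L690746) (flp_i L668613) L382978 L668613 L690746
theorem L690758 : sm gd N48192 = N50376 := rfl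
theorem L690760 : sm gb N50376 = N48193 := ded_20_1 (flp_d L668628) (flp_b L668622) L690758
theorem L690762 : sm gi N50376 = N50376 := ded_39_2 (flp_d L690758) L668627 L690758
theorem L690763 : sm ge N48193 = N50377 := rfl
theorem L690765 : sm gc N50377 = N48299 := ded_28_1 (flp_e L669391) (flp_c L668631) L690763
theorem L690767 : sm gi N50377 = N50377 := ded_44_2 (flp_e L690763) L668630 L690763
theorem L690768 : sm gd N50377 = N50377 := ded_34_1 (flp_e L690763) (flp_d L668628) L382990 L668628 L690763
theorem L690769 : sm gc N48198 = N50378 := rfl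
theorem L690771 : sm ga N50378 = N48228 := ded_11_1 (flp_c L668901) (flp_a L668661) L690769
theorem L690773 : sm gf N50378 = N48200 := ded_29_2 (flp_c L668674) (flp_f L668663) L690769
theorem L690775 : sm gh N50378 = N48208 := ded_32_2 (flp_c L668739) (flp_h L668665) L690769
theorem L690777 : sm gd N50378 = N50378 := ded_27_2 (flp_c L690769) (flp_d L668659) L383406 L668659 L690769
theorem L690778 : sm ge N48198 = N50379 := rfl
theorem L690780 : sm ga N50379 = N48229 := ded_13_1 (flp_e L668908) (flp_a L668661) L690778
theorem L690782 : sm gh N50379 = N48209 := ded_43_2 (flp_e L668747) (flp_h L668665) L690778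
theorem L690784 : sm gi N48198 = N50380 := rfl
theorem L690786 : sm ga N50380 = N48230 := ded_18_1 (flp_i L668912) (flp_a L668661) L690784
theorem L690788 : sm gd N50380 = N48199 := ded_39_1 (flp_i L668667) L668659 L690784
theorem L690790 : sm gf N50380 = N48201 := ded_48_1 (flp_i L668683) (flp_f L668663) L690784
theorem L690792 : sm gi N48200 = N50381 := rfl
theorem L690794 : sm ga N50381 = N48232 := ded_18_1 (flp_i L668925) (flp_a L668676) L690792
theorem L690796 : sm gc N50381 = N48201 := ded_33_1 (flp_i L668683) L668674 L690792
theorem L690798 : sm gd N50381 = N50381 := ded_39_1 (flp_i L690792) L668682 L690792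
theorem L690799 : sm gg N50381 = N48203 := ded_51_1 (flp_i L668696) (flp_g L668678) L690792
theorem L690801 : sm gh N48201 = N50382 := rfl
theorem L690803 : sm ga N50382 = N48233 := ded_17_1 (flp_h L668932) (flp_a L668685) L690801
theorem L690805 : sm gg N50382 = N48204 := ded_50_1 (flp_h L668703) (flp_g L668689) L690801
theorem L690807 : sm gi N50382 = N48213 := ded_54_2 (flp_h L668779) (flp_i L383524) (flp_h L383424) L668683 L690801
theorem L690809 : sm gi N48202 = N50383 := rfl
theorem L690811 : sm gb N50383 = N48203 := ded_26_1 (flp_i L668696) L668691 L690809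
theorem L690813 : sm gd N50383 = N50383 := ded_39_1 (flp_i L690809) L668693 L690809
theorem L690814 : sm gh N48203 = N50384 := rfl
theorem L690816 : sm ga N50384 = N48238 := ded_17_1 (flp_h L668961) (flp_a L668698) L690814
theorem L690818 : sm gc N50384 = N48204 := ded_32_1 (flp_h L668703) (flp_c L668700) L690814
theorem L690820 : sm gi N50384 = N48216 := ded_54_2 (flp_h L668797) (flp_i L383544) (flp_h L383439) L668696 L690814
theorem L690822 : sm gd N48205 = N50385 := rfl
theorem L690824 : sm ga N50385 = N48241 := ded_12_1 (flp_d L668979) (flp_a L668711) L690822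
theorem L690826 : sm gg N50385 = N48206 := ded_36_2 (flp_d L668719) (flp_g L668717) L690822
theorem L690828 : sm gi N48205 = N50386 := rfl
theorem L690830 : sm ga N50386 = N48242 := ded_18_1 (flp_i L668983) (flp_a L668711) L690828
theorem L690832 : sm gc N50386 = N48218 := ded_33_1 (flp_i L668811) (flp_c L668713) L690828
theorem L690834 : sm ge N50386 = N48405 := ded_44_1 (flp_i L670286) (flp_e L668715) L690828
theorem L690836 : sm gg N50386 = N48207 := ded_51_1 (flp_i L668727) (flp_g L668717) L690828
theorem L690838 : sm ge N48206 = N50387 := rfl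
theorem L690840 : sm ga N50387 = N48244 := ded_13_1 (flp_e L668999) (flp_a L668721) L690838
theorem L690842 : sm gj N50387 = N48209 := ded_42_2 (flp_e L668747) (flp_j L668725) L690838
theorem L690844 : sm gd N50387 = N48407 := ded_34_1 (flp_e L670305) (flp_d L386584) (flp_e L383470) L668719 L690838
theorem L690846 : sm gi N48206 = N50388 := rfl
theorem L690848 : sm ga N50388 = N48245 := ded_18_1 (flp_i L669005) (flp_a L668721) L690846
theorem L690850 : sm gd N50388 = N48207 := ded_39_1 (flp_i L668727) L668719 L690846
theorem L690852 : sm gf N50388 = N48211 := ded_48_1 (flp_i L668761) (flp_f L668723) L690846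
theorem L690854 : sm gj N50388 = N48210 := ded_53_1 (flp_i L668753) (flp_j L668725) L690846
theorem L690856 : sm ge N48208 = N50389 := rfl
theorem L690858 : sm ga N50389 = N48247 := ded_13_1 (flp_e L669019) (flp_a L668741) L690856
theorem L690860 : sm gc N50389 = N48209 := ded_28_1 (flp_e L668747) L668739 L690856
theorem L690862 : sm gi N48208 = N50390 := rfl
theorem L690864 : sm ga N50390 = N48248 := ded_18_1 (flp_i L669023) (flp_a L668741) L690862
theorem L690866 : sm gc N50390 = N48210 := ded_33_1 (flp_i L668753) L668739 L690862
theorem L690868 : sm gd N50390 = N48220 := ded_39_1 (flp_i L668831) (flp_d L668745) L690862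
theorem L690870 : sm gf N50390 = N48212 := ded_48_1 (flp_i L668769) (flp_f L668743) L690862
theorem L690872 : sm gi N48209 = N50391 := rfl
theorem L690874 : sm ga N50391 = N48250 := ded_18_1 (flp_i L669037) (flp_a L668749) L690872
theorem L690876 : sm gd N50391 = N48412 := ded_39_1 (flp_i L670343) (flp_d L668751) L690872
theorem L690878 : sm ge N50391 = N48210 := ded_44_1 (flp_i L668753) L668747 L690872
theorem L690880 : sm gh N48210 = N50392 := rfl
theorem L690882 : sm ga N50392 = N48251 := ded_17_1 (flp_h L669043) (flp_a L668755) L690880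
theorem L690884 : sm gf N50392 = N48213 := ded_47_1 (flp_h L668779) (flp_f L668759) L690880
theorem L690886 : sm gh N48211 = N50393 := rfl
theorem L690888 : sm ga N50393 = N48254 := ded_17_1 (flp_h L669061) (flp_a L668763) L690886
theorem L690890 : sm gj N50393 = N48213 := ded_52_1 (flp_h L668779) (flp_j L668767) L690886
theorem L690892 : sm gh N48212 = N50394 := rfl
theorem L690894 : sm ga N50394 = N48260 := ded_17_1 (flp_h L669103) (flp_a L668771) L690892
theorem L690896 : sm gc N50394 = N48213 := ded_32_1 (flp_h L668779) (flp_c L668773) L690892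
theorem L690898 : sm gg N50394 = N48216 := ded_50_1 (flp_h L668797) (flp_g L668777) L690892
theorem L690900 : sm gi N48214 = N50395 := rfl
theorem L690902 : sm ga N50395 = N48215 := ded_18_1 (flp_i L668791) L668785 L690900
theorem L690904 : sm gb N50395 = N48265 := ded_26_1 (flp_i L669133) (flp_b L668789) L690900
theorem L690906 : sm gd N50395 = N48225 := ded_39_1 (flp_i L668879) (flp_d L668787) L690900
theorem L690908 : sm gh N48215 = N50396 := rfl
theorem L690910 : sm gb N50396 = N48216 := ded_25_1 (flp_h L668797) (flp_b L668793) L690908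
theorem L690912 : sm gd N48216 = N50397 := rfl
theorem L690914 : sm ga N50397 = N48272 := ded_12_1 (flp_d L669177) (flp_a L668799) L690912
theorem L690916 : sm gh N50397 = N48227 := ded_38_2 (flp_d L668896) (flp_h L383811) (flp_d L383550) L668797 L690912
theorem L690918 : sm gi N48217 = N50398 := rfl
theorem L690920 : sm ga N50398 = N48280 := ded_18_1 (flp_i L669232) (flp_a L668805) L690918
theorem L690922 : sm gb N50398 = N50398 := ded_26_1 (flp_i L690918) L668807 L690918
theorem L690923 : sm gd N50398 = N48218 := ded_39_1 (flp_i L668811) L668803 L690918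
theorem L690925 : sm gg N50398 = N48219 := ded_51_1 (flp_i L668820) (flp_g L668808) L690918
theorem L690927 : sm gh N48219 = N50399 := rfl
theorem L690929 : sm ga N50399 = N48284 := ded_17_1 (flp_h L669269) (flp_a L668822) L690927
theorem L690931 : sm gb N50399 = N50399 := ded_25_1 (flp_h L690927) L668824 L690927
theorem L690932 : sm gf N50399 = N48223 := ded_47_1 (flp_h L668858) (flp_f L668827) L690927
theorem L690934 : sm gj N50399 = N48222 := ded_52_1 (flp_h L668850) (flp_j L668829) L690927
theorem L690936 : sm gi N50399 = N50399 := ded_54_2 (flp_h L690927) (flp_i L668820) L383710 L668820 L690927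
theorem L690937 : sm gh N48220 = N50400 := rfl
theorem L690939 : sm ga N50400 = N48290 := ded_17_1 (flp_h L669316) (flp_a L668833) L690937
theorem L690941 : sm gc N50400 = N48222 := ded_32_1 (flp_h L668850) (flp_c L668835) L690937
theorem L690943 : sm gf N50400 = N48224 := ded_47_1 (flp_h L668868) (flp_f L668837) L690937
theorem L690945 : sm gi N50400 = N50400 := ded_54_2 (flp_h L690937) (flp_i L668831) L383728 L668831 L690937
theorem L690946 : sm gh N48221 = N50401 := rfl
theorem L690948 : sm ga N50401 = N48291 := ded_17_1 (flp_h L669323) (flp_a L668841) L690946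
theorem L690950 : sm gb N50401 = N50401 := ded_25_1 (flp_h L690946) L668843 L690946
theorem L690951 : sm ge N50401 = N48222 := ded_43_1 (flp_h L668850) (flp_e L668846) L690946
theorem L690953 : sm gf N50401 = N48602 := ded_47_1 (flp_h L671826) (flp_f L668848) L690946
theorem L690955 : sm gi N50401 = N50401 := ded_54_2 (flp_h L690946) (flp_i L668839) L383734 L668839 L690946
theorem L690956 : sm gd N48224 = N50402 := rfl
theorem L690958 : sm ga N50402 = N48296 := ded_12_1 (flp_d L669372) (flp_a L668870) L690956
theorem L690960 : sm gg N50402 = N48227 := ded_36_2 (flp_d L668896) (flp_g L668876) L690956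
theorem L690962 : sm gi N50402 = N50402 := ded_39_2 (flp_d L690956) L668878 L690956
theorem L690963 : sm gh N48225 = N50403 := rfl
theorem L690965 : sm ga N50403 = N48226 := ded_17_1 (flp_h L668888) (flp_a L668881) L690963
theorem L690967 : sm gb N50403 = N48297 := ded_25_1 (flp_h L669377) (flp_b L668883) L690963
theorem L690969 : sm gc N50403 = N50403 := ded_32_1 (flp_h L690963) L668885 L690963
theorem L690970 : sm ge N50403 = N48604 := ded_43_1 (flp_h L671843) (flp_e L668886) L690963
theorem L690972 : sm gi N50403 = N50403 := ded_54_2 (flp_h L690963) (flp_i L668879) L383801 L668879 L690963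
theorem L690973 : sm gd N48226 = N50404 := rfl
theorem L690975 : sm gb N50404 = N48227 := ded_20_1 (flp_d L668896) (flp_b L668890) L690973
theorem L690977 : sm gi N50404 = N50404 := ded_39_2 (flp_d L690973) L668895 L690973
theorem L690978 : sm ge N48227 = N50405 := rfl
theorem L690980 : sm ga N50405 = N48299 := ded_13_1 (flp_e L669391) (flp_a L668898) L690978
theorem L690982 : sm gi N50405 = N50405 := ded_44_2 (flp_e L690978) L668900 L690978
theorem L690983 : sm gd N50405 = N48606 := ded_34_1 (flp_e L671858) (flp_d L649745) (flp_e L383817) L668896 L690978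
theorem L690985 : sm gb N48228 = N50406 := rfl
theorem L690987 : sm gd N50406 = N50406 := ded_20_2 (flp_b L690985) L668907 L690985
theorem L690988 : sm gf N50406 = N48231 := ded_22_2 (flp_b L668918) (flp_f L668903) L690985
theorem L690990 : sm gh N50406 = N48246 := ded_25_2 (flp_b L669013) (flp_h L668905) L690985
theorem L690992 : sm ge N48228 = N50407 := rfl
theorem L690994 : sm gc N50407 = N48229 := ded_28_1 (flp_e L668908) L668901 L690992
theorem L690996 : sm gh N50407 = N48247 := ded_43_2 (flp_e L669019) (flp_h L668905) L690992
theorem L690998 : sm gi N48228 = N50408 := rfl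
theorem L691000 : sm gc N50408 = N48230 := ded_33_1 (flp_i L668912) L668901 L690998
theorem L691002 : sm gd N50408 = N50408 := ded_39_1 (flp_i L690998) L668907 L690998
theorem L691003 : sm gf N50408 = N48232 := ded_48_1 (flp_i L668925) (flp_f L668903) L690998
theorem L691005 : sm gi N48229 = N50409 := rfl
theorem L691007 : sm ge N50409 = N48230 := ded_44_1 (flp_i L668912) L668908 L691005
theorem L691009 : sm gh N48230 = N50410 := rfl
theorem L691011 : sm gf N50410 = N48233 := ded_47_1 (flp_h L668932) (flp_f L668916) L691009
theorem L691013 : sm gi N50410 = N48251 := ded_54_2 (flp_h L669043) (flp_i L383959) (flp_h L383852) L668912 L691009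
theorem L691015 : sm gi N48231 = N50411 := rfl
theorem L691017 : sm gb N50411 = N48232 := ded_26_1 (flp_i L668925) L668918 L691015
theorem L691019 : sm gd N50411 = N50411 := ded_39_1 (flp_i L691015) L668920 L691015
theorem L691020 : sm gg N50411 = N48235 := ded_51_1 (flp_i L668944) (flp_g L668921) L691015
theorem L691022 : sm gh N48232 = N50412 := rfl
theorem L691024 : sm gc N50412 = N48233 := ded_32_1 (flp_h L668932) (flp_c L668927) L691022
theorem L691026 : sm gg N50412 = N48238 := ded_50_1 (flp_h L668961) (flp_g L668930) L691022
theorem L691028 : sm gi N50412 = N48260 := ded_54_2 (flp_h L669103) (flp_i L383997) (flp_h L383876) L668925 L691022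
theorem L691030 : sm gi N48234 = N50413 := rfl
theorem L691032 : sm gb N50413 = N48237 := ded_26_1 (flp_i L668955) (flp_b L668940) L691030
theorem L691034 : sm ge N50413 = N48235 := ded_44_1 (flp_i L668944) L668938 L691030
theorem L691036 : sm gh N48235 = N50414 := rfl
theorem L691038 : sm gb N50414 = N48238 := ded_25_1 (flp_h L668961) (flp_b L668946) L691036
theorem L691040 : sm gi N50414 = N48268 := ded_54_2 (flp_h L669153) (flp_i L384031) (flp_h L383896) L668944 L691036
theorem L691042 : sm gh N48237 = N50415 := rfl
theorem L691044 : sm gc N50415 = N48240 := ded_32_1 (flp_h L668973) (flp_c L668957) L691042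
theorem L691046 : sm ge N50415 = N48238 := ded_43_1 (flp_h L668961) (flp_e L668959) L691042
theorem L691048 : sm gi N50415 = N48271 := ded_54_2 (flp_h L669171) (flp_i L384043) (flp_h L383902) L668955 L691042
theorem L691050 : sm gd N48238 = N50416 := rfl
theorem L691052 : sm gi N50416 = N48272 := ded_39_2 (flp_d L669177) (flp_i L668965) L691050
theorem L691054 : sm gh N50416 = N50416 := ded_38_2 (flp_d L691050) (flp_h L668961) L383908 L668961 L691050
theorem L691055 : sm gc N48241 = N50417 := rfl
theorem L691057 : sm gg N50417 = N48243 := ded_30_2 (flp_c L668991) (flp_g L668981) L691055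
theorem L691059 : sm gd N50417 = N48279 := ded_27_2 (flp_c L669227) (flp_d L384187) (flp_c L383927) L668979 L691055
theorem L691061 : sm ge N48241 = N50418 := rfl
theorem L691063 : sm gg N50418 = N48244 := ded_41_2 (flp_e L668999) (flp_g L668981) L691061
theorem L691065 : sm gd N50418 = N48475 := ded_34_1 (flp_e L670849) (flp_d L387296) (flp_e L383929) L668979 L691061
theorem L691067 : sm gi N48241 = N50419 := rfl
theorem L691069 : sm gd N50419 = N48242 := ded_39_1 (flp_i L668983) L668979 L691067
theorem L691071 : sm gg N50419 = N48245 := ded_51_1 (flp_i L669005) (flp_g L668981) L691067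
theorem L691073 : sm gb N48243 = N50420 := rfl
theorem L691075 : sm gd N50420 = N48281 := ded_20_2 (flp_b L669240) (flp_d L668997) L691073
theorem L691077 : sm gf N50420 = N48252 := ded_22_2 (flp_b L669047) (flp_f L668993) L691073
theorem L691079 : sm gj N50420 = N48246 := ded_24_2 (flp_b L669013) (flp_j L668995) L691073
theorem L691081 : sm ge N48243 = N50421 := rfl
theorem L691083 : sm gc N50421 = N48244 := ded_28_1 (flp_e L668999) L668991 L691081
theorem L691085 : sm gj N50421 = N48247 := ded_42_2 (flp_e L669019) (flp_j L668995) L691081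
theorem L691087 : sm gi N48243 = N50422 := rfl
theorem L691089 : sm gc N50422 = N48245 := ded_33_1 (flp_i L669005) L668991 L691087
theorem L691091 : sm gd N50422 = N48282 := ded_39_1 (flp_i L669249) (flp_d L668997) L691087
theorem L691093 : sm gf N50422 = N48253 := ded_48_1 (flp_i L669053) (flp_f L668993) L691087
theorem L691095 : sm gj N50422 = N48248 := ded_53_1 (flp_i L669023) (flp_j L668995) L691087
theorem L691097 : sm gi N48244 = N50423 := rfl
theorem L691099 : sm gd N50423 = N48481 := ded_39_1 (flp_i L670890) (flp_d L669003) L691097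
theorem L691101 : sm ge N50423 = N48245 := ded_44_1 (flp_i L669005) L668999 L691097
theorem L691103 : sm gj N50423 = N48250 := ded_53_1 (flp_i L669037) (flp_j L669001) L691097
theorem L691105 : sm gh N48245 = N50424 := rfl
theorem L691107 : sm gf N50424 = N48254 := ded_47_1 (flp_h L669061) (flp_f L669009) L691105
theorem L691109 : sm gj N50424 = N48251 := ded_52_1 (flp_h L669043) (flp_j L669011) L691105
theorem L691111 : sm ga N48246 = N50425 := rfl
theorem L691113 : sm gd N50425 = N48285 := ded_12_2 (flp_a L669278) (flp_d L669015) L691111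
theorem L691115 : sm gf N50425 = N48255 := ded_14_2 (flp_a L669065) (flp_f L669017) L691111
theorem L691117 : sm ge N48246 = N50426 := rfl
theorem L691119 : sm gb N50426 = N48247 := ded_21_1 (flp_e L669019) L669013 L691117
theorem L691121 : sm gi N48246 = N50427 := rfl
theorem L691123 : sm gb N50427 = N48248 := ded_26_1 (flp_i L669023) L669013 L691121
theorem L691125 : sm gd N50427 = N48287 := ded_39_1 (flp_i L669294) (flp_d L669015) L691121
theorem L691127 : sm gf N50427 = N48257 := ded_48_1 (flp_i L669079) (flp_f L669017) L691121
theorem L691129 : sm gd N48247 = N50428 := rfl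
theorem L691131 : sm gc N50428 = N48486 := ded_27_1 (flp_d L670920) L387336 (flp_d L383957) (flp_c L669021) L691129
theorem L691133 : sm ge N50428 = N48288 := ded_34_2 (flp_d L669302) (flp_e L384237) (flp_d L383953) L669019 L691129
theorem L691135 : sm gf N48247 = N50429 := rfl
theorem L691137 : sm gc N50429 = N48249 := ded_29_1 (flp_f L669031) (flp_c L669021) L691135
theorem L691139 : sm ge N50429 = N48258 := ded_40_1 (flp_f L669087) (flp_e L383989) (flp_f L383951) L669019 L691135
theorem L691141 : sm gi N48247 = N50430 := rfl
theorem L691143 : sm gc N50430 = N48250 := ded_33_1 (flp_i L669037) (flp_c L669021) L691141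
theorem L691145 : sm ge N50430 = N48248 := ded_44_1 (flp_i L669023) L669019 L691141
theorem L691147 : sm gh N48248 = N50431 := rfl
theorem L691149 : sm gc N50431 = N48251 := ded_32_1 (flp_h L669043) (flp_c L669025) L691147
theorem L691151 : sm gf N50431 = N48260 := ded_47_1 (flp_h L669103) (flp_f L669029) L691147
theorem L691153 : sm gg N48249 = N50432 := rfl
theorem L691155 : sm gd N50432 = N48490 := ded_36_1 (flp_g L670942) (flp_d L669033) L691153
theorem L691157 : sm ge N50432 = N48261 := ded_41_1 (flp_g L669109) (flp_e L669035) L691153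
theorem L691159 : sm gi N48249 = N50433 := rfl
theorem L691161 : sm gd N50433 = N48491 := ded_39_1 (flp_i L670946) (flp_d L669033) L691159
theorem L691163 : sm ge N50433 = N48262 := ded_44_1 (flp_i L669115) (flp_e L669035) L691159
theorem L691165 : sm gf N50433 = N48250 := ded_48_1 (flp_i L669037) L669031 L691159
theorem L691167 : sm gh N48250 = N50434 := rfl
theorem L691169 : sm ge N50434 = N48251 := ded_43_1 (flp_h L669043) (flp_e L669041) L691167
theorem L691171 : sm gi N48252 = N50435 := rfl
theorem L691173 : sm gb N50435 = N48253 := ded_26_1 (flp_i L669053) L669047 L691171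
theorem L691175 : sm gd N50435 = N48292 := ded_39_1 (flp_i L669332) (flp_d L669049) L691171
theorem L691177 : sm gj N50435 = N48257 := ded_53_1 (flp_i L669079) (flp_j L669051) L691171
theorem L691179 : sm gh N48253 = N50436 := rfl
theorem L691181 : sm gc N50436 = N48254 := ded_32_1 (flp_h L669061) (flp_c L669055) L691179
theorem L691183 : sm gj N50436 = N48260 := ded_52_1 (flp_h L669103) (flp_j L669059) L691179
theorem L691185 : sm gi N48255 = N50437 := rfl
theorem L691187 : sm ga N50437 = N48257 := ded_18_1 (flp_i L669079) L669065 L691185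
theorem L691189 : sm gd N50437 = N48294 := ded_39_1 (flp_i L669351) (flp_d L669067) L691185
theorem L691191 : sm gg N50437 = N48265 := ded_51_1 (flp_i L669133) (flp_g L669069) L691185
theorem L691193 : sm gf N48256 = N50438 := rfl
theorem L691195 : sm gb N50438 = N48258 := ded_22_1 (flp_f L669087) (flp_b L669073) L691193
theorem L691197 : sm gd N50438 = N48607 := ded_35_1 (flp_f L671864) (flp_d L669077) L691193
theorem L691199 : sm gi N48256 = N50439 := rfl
theorem L691201 : sm gb N50439 = N48259 := ded_26_1 (flp_i L669093) (flp_b L669073) L691199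
theorem L691203 : sm gd N50439 = N48608 := ded_39_1 (flp_i L671869) (flp_d L669077) L691199
theorem L691205 : sm ge N50439 = N48257 := ded_44_1 (flp_i L669079) L669071 L691199
theorem L691207 : sm gg N50439 = N48267 := ded_51_1 (flp_i L669145) (flp_g L669075) L691199
theorem L691209 : sm gh N48257 = N50440 := rfl
theorem L691211 : sm gb N50440 = N48260 := ded_25_1 (flp_h L669103) (flp_b L669081) L691209
theorem L691213 : sm gg N50440 = N48268 := ded_50_1 (flp_h L669153) (flp_g L669085) L691209
theorem L691215 : sm gg N48258 = N50441 := rfl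
theorem L691217 : sm gc N50441 = N48261 := ded_30_1 (flp_g L669109) (flp_c L669089) L691215
theorem L691219 : sm gd N50441 = N48609 := ded_36_1 (flp_g L671878) (flp_d L669091) L691215
theorem L691221 : sm gf N50441 = N48269 := ded_45_1 (flp_g L669157) (flp_f L384037) (flp_g L383993) L669087 L691215
theorem L691223 : sm gi N48258 = N50442 := rfl
theorem L691225 : sm gc N50442 = N48262 := ded_33_1 (flp_i L669115) (flp_c L669089) L691223
theorem L691227 : sm gd N50442 = N48610 := ded_39_1 (flp_i L671884) (flp_d L669091) L691223
theorem L691229 : sm gf N50442 = N48259 := ded_48_1 (flp_i L669093) L669087 L691223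
theorem L691231 : sm gh N48259 = N50443 := rfl
theorem L691233 : sm gc N50443 = N48263 := ded_32_1 (flp_h L669121) (flp_c L669095) L691231
theorem L691235 : sm ge N50443 = N48260 := ded_43_1 (flp_h L669103) (flp_e L669099) L691231
theorem L691237 : sm gg N50443 = N48271 := ded_50_1 (flp_h L669171) (flp_g L669101) L691231
theorem L691239 : sm gd N48260 = N50444 := rfl
theorem L691241 : sm gg N50444 = N48272 := ded_36_2 (flp_d L669177) (flp_g L669107) L691239
theorem L691243 : sm gh N50444 = N48296 := ded_38_2 (flp_d L669372) (flp_h L384312) (flp_d L384001) L669103 L691239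
theorem L691245 : sm gj N48261 = N50445 := rfl
theorem L691247 : sm gd N50445 = N48276 := ded_37_1 (flp_j L669195) (flp_d L669111) L691245
theorem L691249 : sm gf N50445 = N48273 := ded_46_1 (flp_j L669181) (flp_f L669113) L691245
theorem L691251 : sm gi N48261 = N50446 := rfl
theorem L691253 : sm gd N50446 = N48277 := ded_39_1 (flp_i L669205) (flp_d L669111) L691251
theorem L691255 : sm gf N50446 = N48274 := ded_48_1 (flp_i L669185) (flp_f L669113) L691251
theorem L691257 : sm gg N50446 = N48262 := ded_51_1 (flp_i L669115) L669109 L691251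
theorem L691259 : sm gh N48262 = N50447 := rfl
theorem L691261 : sm gf N50447 = N48263 := ded_47_1 (flp_h L669121) (flp_f L669119) L691259
theorem L691263 : sm gi N48264 = N50448 := rfl
theorem L691265 : sm ga N50448 = N48267 := ded_18_1 (flp_i L669145) (flp_a L669129) L691263
theorem L691267 : sm gd N50448 = N48614 := ded_39_1 (flp_i L671916) (flp_d L669131) L691263
theorem L691269 : sm ge N50448 = N48265 := ded_44_1 (flp_i L669133) L669127 L691263
theorem L691271 : sm gh N48265 = N50449 := rfl
theorem L691273 : sm ga N50449 = N48268 := ded_17_1 (flp_h L669153) (flp_a L669135) L691271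
theorem L691275 : sm gi N48266 = N50450 := rfl
theorem L691277 : sm gb N50450 = N48270 := ded_26_1 (flp_i L669163) (flp_b L669141) L691275
theorem L691279 : sm gd N50450 = N48616 := ded_39_1 (flp_i L671929) (flp_d L669143) L691275
theorem L691281 : sm gf N50450 = N48267 := ded_48_1 (flp_i L669145) L669139 L691275
theorem L691283 : sm gh N48267 = N50451 := rfl
theorem L691285 : sm gb N50451 = N48271 := ded_25_1 (flp_h L669171) (flp_b L669147) L691283
theorem L691287 : sm ge N50451 = N48268 := ded_43_1 (flp_h L669153) (flp_e L669151) L691283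
theorem L691289 : sm gd N48268 = N50452 := rfl
theorem L691291 : sm gb N50452 = N48272 := ded_20_1 (flp_d L669177) (flp_b L669155) L691289
theorem L691293 : sm gh N50452 = N48298 := ded_38_2 (flp_d L669386) (flp_h L384329) (flp_d L384035) L669153 L691289
theorem L691295 : sm gi N48269 = N50453 := rfl
theorem L691297 : sm gc N50453 = N48274 := ded_33_1 (flp_i L669185) (flp_c L669159) L691295
theorem L691299 : sm gd N50453 = N48619 := ded_39_1 (flp_i L671951) (flp_d L669161) L691295
theorem L691301 : sm gg N50453 = N48270 := ded_51_1 (flp_i L669163) L669157 L691295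
theorem L691303 : sm gh N48270 = N50454 := rfl
theorem L691305 : sm gc N50454 = N48275 := ded_32_1 (flp_h L669191) (flp_c L669165) L691303
theorem L691307 : sm gf N50454 = N48271 := ded_47_1 (flp_h L669171) (flp_f L669169) L691303
theorem L691309 : sm gd N48271 = N50455 := rfl
theorem L691311 : sm gh N50455 = N48621 := ded_38_2 (flp_d L671965) (flp_h L649897) (flp_d L384047) L669171 L691309
theorem L691313 : sm ge N48272 = N50456 := rfl
theorem L691315 : sm gh N50456 = N48299 := ded_43_2 (flp_e L669391) (flp_h L669179) L691313
theorem L691317 : sm gi N48273 = N50457 := rfl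
theorem L691319 : sm gd N50457 = N48278 := ded_39_1 (flp_i L669215) (flp_d L669183) L691317
theorem L691321 : sm gg N50457 = N48621 := ded_51_1 L674244 L674236 L691317
theorem L691323 : sm gj N50457 = N48274 := ded_53_1 (flp_i L669185) L669181 L691317
theorem L691325 : sm gh N48274 = N50458 := rfl
theorem L691327 : sm gg N50458 = N48275 := ded_50_1 (flp_h L669191) (flp_g L669189) L691325
theorem L691329 : sm gi N48276 = N50459 := rfl
theorem L691331 : sm gc N50459 = N48612 := ded_33_1 L671908 (flp_c L669197) L691329
theorem L691333 : sm ge N50459 = N48529 := ded_44_1 (flp_i L671215) (flp_e L669199) L691329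
theorem L691335 : sm gf N50459 = N48278 := ded_48_1 (flp_i L669215) (flp_f L669201) L691329
theorem L691337 : sm gj N50459 = N48277 := ded_53_1 (flp_i L669205) L669195 L691329
theorem L691339 : sm gh N50459 = N48610 := ded_54_1 (flp_i L671884) L653371 L653369 (flp_h L669203) L691329
theorem L691341 : sm gi N48279 = N50460 := rfl
theorem L691343 : sm gc N50460 = N48280 := ded_33_1 (flp_i L669232) L669227 L691341
theorem L691345 : sm gg N50460 = N48282 := ded_51_1 (flp_i L669249) (flp_g L669229) L691341
theorem L691347 : sm gh N48280 = N50461 := rfl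
theorem L691349 : sm gb N50461 = N48300 := ded_25_1 (flp_h L669396) (flp_b L669234) L691347
theorem L691351 : sm gf N50461 = N48316 := ded_47_1 L681575 L681569 L691347
theorem L691353 : sm gg N50461 = N48284 := ded_50_1 (flp_h L669269) (flp_g L669238) L691347
theorem L691355 : sm gd N50461 = N48310 := ded_38_1 (flp_h L669493) (flp_d L665535) L665543 (flp_d L669236) L691347
theorem L691357 : sm gi N50461 = N50461 := ded_54_2 (flp_h L691347) (flp_i L669232) L384193 L669232 L691347
theorem L691358 : sm gi N48281 = N50462 := rfl
theorem L691360 : sm gb N50462 = N48282 := ded_26_1 (flp_i L669249) L669240 L691358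
theorem L691362 : sm gc N50462 = N48303 := ded_33_1 (flp_i L669425) (flp_c L669247) L691358
theorem L691364 : sm gf N50462 = N48292 := ded_48_1 (flp_i L669332) (flp_f L669242) L691358
theorem L691366 : sm gj N50462 = N48287 := ded_53_1 (flp_i L669294) (flp_j L669244) L691358
theorem L691368 : sm gh N48282 = N50463 := rfl
theorem L691370 : sm gc N50463 = N48284 := ded_32_1 (flp_h L669269) (flp_c L669251) L691368
theorem L691372 : sm gf N50463 = N48293 := ded_47_1 (flp_h L669342) (flp_f L669253) L691368
theorem L691374 : sm gj N50463 = N48290 := ded_52_1 (flp_h L669316) (flp_j L669255) L691368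
theorem L691376 : sm gi N50463 = N50463 := ded_54_2 (flp_h L691368) (flp_i L669249) L384208 L669249 L691368
theorem L691377 : sm gi N48285 = N50464 := rfl
theorem L691379 : sm ga N50464 = N48287 := ded_18_1 (flp_i L669294) L669278 L691377
theorem L691381 : sm gc N50464 = N48307 := ded_33_1 (flp_i L669464) (flp_c L669280) L691377
theorem L691383 : sm gf N50464 = N48294 := ded_48_1 (flp_i L669351) (flp_f L669282) L691377
theorem L691385 : sm gd N48286 = N50465 := rfl
theorem L691387 : sm gb N50465 = N48288 := ded_20_1 (flp_d L669302) (flp_b L669287) L691385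
theorem L691389 : sm gf N50465 = N48623 := ded_35_2 (flp_d L671972) (flp_f L669292) L691385
theorem L691391 : sm gi N48286 = N50466 := rfl
theorem L691393 : sm gb N50466 = N48289 := ded_26_1 (flp_i L669308) (flp_b L669287) L691391
theorem L691395 : sm gc N50466 = N48309 := ded_33_1 (flp_i L669485) (flp_c L669289) L691391
theorem L691397 : sm ge N50466 = N48287 := ded_44_1 (flp_i L669294) L669285 L691391
theorem L691399 : sm gf N50466 = N48624 := ded_48_1 (flp_i L671977) (flp_f L669292) L691391
theorem L691401 : sm gh N48287 = N50467 := rfl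
theorem L691403 : sm gb N50467 = N48290 := ded_25_1 (flp_h L669316) (flp_b L669296) L691401
theorem L691405 : sm gc N50467 = N48310 := ded_32_1 (flp_h L669493) (flp_c L669298) L691401
theorem L691407 : sm gf N50467 = N48295 := ded_47_1 (flp_h L669361) (flp_f L669300) L691401
theorem L691409 : sm gi N50467 = N50467 := ded_54_2 (flp_h L691401) (flp_i L669294) L384234 L669294 L691401
theorem L691410 : sm gh N48288 = N50468 := rfl
theorem L691412 : sm gc N50468 = N48537 := ded_32_1 (flp_h L671296) (flp_c L669306) L691410
theorem L691414 : sm gf N50468 = N48626 := ded_47_1 (flp_h L671996) (flp_f L669304) L691410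
theorem L691416 : sm gd N50468 = N50468 := ded_38_1 (flp_h L691410) (flp_d L669302) L384241 L669302 L691410
theorem L691417 : sm gi N48288 = N50469 := rfl
theorem L691419 : sm gc N50469 = N48538 := ded_33_1 (flp_i L671302) (flp_c L669306) L691417
theorem L691421 : sm gd N50469 = N48289 := ded_39_1 (flp_i L669308) L669302 L691417
theorem L691423 : sm gf N50469 = N48627 := ded_48_1 (flp_i L672002) (flp_f L669304) L691417
theorem L691425 : sm gh N48289 = N50470 := rfl
theorem L691427 : sm gc N50470 = N48291 := ded_32_1 (flp_h L669323) (flp_c L669310) L691425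
theorem L691429 : sm ge N50470 = N48290 := ded_43_1 (flp_h L669316) (flp_e L669312) L691425
theorem L691431 : sm gf N50470 = N48628 := ded_47_1 (flp_h L672009) (flp_f L669314) L691425
theorem L691433 : sm gi N50470 = N50470 := ded_54_2 (flp_h L691425) (flp_i L669308) L384241 L669308 L691425
theorem L691434 : sm gd N48290 = N50471 := rfl
theorem L691436 : sm gf N50471 = N48296 := ded_35_2 (flp_d L669372) (flp_f L669320) L691434
theorem L691438 : sm gi N50471 = N50471 := ded_39_2 (flp_d L691434) L669322 L691434
theorem L691439 : sm gh N48292 = N50472 := rfl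
theorem L691441 : sm gb N50472 = N48293 := ded_25_1 (flp_h L669342) (flp_b L669334) L691439
theorem L691443 : sm gc N50472 = N48314 := ded_32_1 (flp_h L669536) (flp_c L669336) L691439
theorem L691445 : sm ge N50472 = N48629 := ded_43_1 (flp_h L672017) (flp_e L669338) L691439
theorem L691447 : sm gj N50472 = N48295 := ded_52_1 (flp_h L669361) (flp_j L669340) L691439
theorem L691449 : sm gi N50472 = N50472 := ded_54_2 (flp_h L691439) (flp_i L669332) L384273 L669332 L691439
theorem L691450 : sm gd N48293 = N50473 := rfl
theorem L691452 : sm gj N50473 = N48296 := ded_37_2 (flp_d L669372) (flp_j L669348) L691450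
theorem L691454 : sm gi N50473 = N50473 := ded_39_2 (flp_d L691450) L669350 L691450
theorem L691455 : sm gh N48294 = N50474 := rfl
theorem L691457 : sm ga N50474 = N48295 := ded_17_1 (flp_h L669361) (flp_a L669353) L691455
theorem L691459 : sm gc N50474 = N48315 := ded_32_1 (flp_h L669545) (flp_c L669355) L691455
theorem L691461 : sm ge N50474 = N48630 := ded_43_1 (flp_h L672026) (flp_e L669357) L691455
theorem L691463 : sm gg N50474 = N48297 := ded_50_1 (flp_h L669377) (flp_g L669359) L691455
theorem L691465 : sm gi N50474 = N50474 := ded_54_2 (flp_h L691455) (flp_i L669351) L384301 L669351 L691455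
theorem L691466 : sm gd N48295 = N50475 := rfl
theorem L691468 : sm gb N50475 = N48296 := ded_20_1 (flp_d L669372) (flp_b L669363) L691466
theorem L691470 : sm gg N50475 = N48298 := ded_36_2 (flp_d L669386) (flp_g L669369) L691466
theorem L691472 : sm gi N50475 = N50475 := ded_39_2 (flp_d L691466) L669371 L691466
theorem L691473 : sm ge N48296 = N50476 := rfl
theorem L691475 : sm gg N50476 = N48299 := ded_41_2 (flp_e L669391) (flp_g L669374) L691473
theorem L691477 : sm gi N50476 = N50476 := ded_44_2 (flp_e L691473) L669376 L691473
theorem L691478 : sm gd N50476 = N48632 := ded_34_1 (flp_e L672042) (flp_d L650043) (flp_e L384316) L669372 L691473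
theorem L691480 : sm gd N48297 = N50477 := rfl
theorem L691482 : sm ga N50477 = N48298 := ded_12_1 (flp_d L669386) (flp_a L669379) L691480
theorem L691484 : sm gi N50477 = N50477 := ded_39_2 (flp_d L691480) L669385 L691480
theorem L691485 : sm gc N48298 = N50478 := rfl
theorem L691487 : sm gi N50478 = N50478 := ded_33_2 (flp_c L691485) L669390 L691485
theorem L691488 : sm gd N50478 = N48319 := ded_27_2 (flp_c L669576) (flp_d L384516) (flp_c L384333) L669386 L691485
theorem L691490 : sm ge N48298 = N50479 := rfl
theorem L691492 : sm gb N50479 = N48299 := ded_21_1 (flp_e L669391) (flp_b L669388) L691490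
theorem L691494 : sm gi N50479 = N50479 := ded_44_2 (flp_e L691490) L669390 L691490
theorem L691495 : sm gd N50479 = N48635 := ded_34_1 (flp_e L672061) (flp_d L650057) (flp_e L384335) L669386 L691490
theorem L691497 : sm gf N48299 = N50480 := rfl
theorem L691499 : sm gd N50480 = N48636 := ded_35_1 (flp_f L672066) (flp_d L669394) L691497
theorem L691501 : sm gi N50480 = N50480 := ded_48_2 (flp_f L691497) L669393 L691497
theorem L691502 : sm gi N48301 = N50481 := rfl
theorem L691504 : sm ga N50481 = N48303 := ded_18_1 (flp_i L669425) L669406 L691502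
theorem L691506 : sm gb N50481 = N50481 := ded_26_1 (flp_i L691502) L669413 L691502
theorem L691507 : sm gf N50481 = N48313 := ded_48_1 (flp_i L669527) (flp_f L669408) L691502
theorem L691509 : sm gj N50481 = N48307 := ded_53_1 (flp_i L669464) (flp_j L669410) L691502
theorem L691511 : sm gi N48302 = N50482 := rfl
theorem L691513 : sm gb N50482 = N48304 := ded_26_1 (flp_i L669433) (flp_b L669416) L691511
theorem L691515 : sm gd N50482 = N48389 := ded_39_1 L670146 (flp_d L669421) L691511
theorem L691517 : sm ge N50482 = N48303 := ded_44_1 (flp_i L669425) L669414 L691511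
theorem L691519 : sm gf N50482 = N48393 := ded_48_1 L670187 (flp_f L669423) L691511
theorem L691521 : sm gj N50482 = N48309 := ded_53_1 (flp_i L669485) (flp_j L669418) L691511
theorem L691523 : sm gh N48303 = N50483 := rfl
theorem L691525 : sm gb N50483 = N48305 := ded_25_1 (flp_h L669446) (flp_b L669427) L691523
theorem L691527 : sm gf N50483 = N48314 := ded_47_1 (flp_h L669536) (flp_f L669429) L691523
theorem L691529 : sm gj N50483 = N48310 := ded_52_1 (flp_h L669493) (flp_j L669431) L691523
theorem L691531 : sm gi N50483 = N50483 := ded_54_2 (flp_h L691523) (flp_i L669425) L384368 L669425 L691523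
theorem L691532 : sm gi N48306 = N50484 := rfl
theorem L691534 : sm ga N50484 = N48309 := ded_18_1 (flp_i L669485) (flp_a L669458) L691532
theorem L691536 : sm gb N50484 = N50484 := ded_26_1 (flp_i L691532) L669460 L691532
theorem L691537 : sm ge N50484 = N48307 := ded_44_1 (flp_i L669464) L669456 L691532
theorem L691539 : sm gf N50484 = N48639 := ded_48_1 (flp_i L672090) (flp_f L669462) L691532
theorem L691541 : sm gh N48307 = N50485 := rfl
theorem L691543 : sm ga N50485 = N48310 := ded_17_1 (flp_h L669493) (flp_a L669466) L691541
theorem L691545 : sm gb N50485 = N50485 := ded_25_1 (flp_h L691541) L669468 L691541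
theorem L691546 : sm gf N50485 = N48315 := ded_47_1 (flp_h L669545) (flp_f L669469) L691541
theorem L691548 : sm gi N50485 = N50485 := ded_54_2 (flp_h L691541) (flp_i L669464) L384411 L669464 L691541
theorem L691549 : sm gi N48308 = N50486 := rfl
theorem L691551 : sm gb N50486 = N48311 := ded_26_1 (flp_i L669500) (flp_b L669473) L691549
theorem L691553 : sm gd N50486 = N48309 := ded_39_1 (flp_i L669485) L669471 L691549
theorem L691555 : sm ge N50486 = N48373 := ded_44_1 (flp_i L669987) (flp_e L669481) L691549
theorem L691557 : sm gf N50486 = N48391 := ded_48_1 L670165 (flp_f L669475) L691549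
theorem L691559 : sm gg N50486 = N48377 := ded_51_1 (flp_i L670023) (flp_g L669477) L691549
theorem L691561 : sm gj N50486 = N48389 := ded_53_1 L670146 (flp_j L669479) L691549
theorem L691563 : sm gh N50486 = N48386 := ded_54_1 (flp_i L670110) L385821 (flp_i L615871) L669483 L691549
theorem L691565 : sm gh N48309 = N50487 := rfl
theorem L691567 : sm gb N50487 = N48312 := ded_25_1 (flp_h L669517) (flp_b L669487) L691565
theorem L691569 : sm ge N50487 = N48310 := ded_43_1 (flp_h L669493) (flp_e L669489) L691565
theorem L691571 : sm gf N50487 = N48641 := ded_47_1 (flp_h L672107) (flp_f L669491) L691565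
theorem L691573 : sm gi N50487 = N50487 := ded_54_2 (flp_h L691565) (flp_i L669485) L384417 L669485 L691565
theorem L691574 : sm gh N48313 = N50488 := rfl
theorem L691576 : sm ga N50488 = N48314 := ded_17_1 (flp_h L669536) (flp_a L669529) L691574
theorem L691578 : sm gb N50488 = N50488 := ded_25_1 (flp_h L691574) L669531 L691574
theorem L691579 : sm ge N50488 = N48644 := ded_43_1 (flp_h L672131) (flp_e L669532) L691574
theorem L691581 : sm gj N50488 = N48315 := ded_52_1 (flp_h L669545) (flp_j L669534) L691574
theorem L691583 : sm gi N50488 = N50488 := ded_54_2 (flp_h L691574) (flp_i L669527) L384464 L669527 L691574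
theorem L691584 : sm gd N48315 = N50489 := rfl
theorem L691586 : sm ga N50489 = N48316 := ded_12_1 (flp_d L669555) (flp_a L669547) L691584
theorem L691588 : sm gb N50489 = N50489 := ded_20_1 (flp_d L691584) L669549 L691584
theorem L691589 : sm gg N50489 = N48318 := ded_36_2 (flp_d L669570) (flp_g L669552) L691584
theorem L691591 : sm gi N50489 = N50489 := ded_39_2 (flp_d L691584) L669554 L691584
theorem L691592 : sm gc N48316 = N50490 := rfl
theorem L691594 : sm gg N50490 = N48319 := ded_30_2 (flp_c L669576) (flp_g L669559) L691592
theorem L691596 : sm gi N50490 = N50490 := ded_33_2 (flp_c L691592) L669561 L691592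
theorem L691597 : sm ge N48316 = N50491 := rfl
theorem L691599 : sm gb N50491 = N48317 := ded_21_1 (flp_e L669562) (flp_b L669557) L691597
theorem L691601 : sm gg N50491 = N48320 := ded_41_2 (flp_e L669579) (flp_g L669559) L691597
theorem L691603 : sm gi N50491 = N50491 := ded_44_2 (flp_e L691597) L669561 L691597
theorem L691604 : sm gd N50491 = N48649 := ded_34_1 (flp_e L672171) (flp_d L650166) (flp_e L384497) L669555 L691597
theorem L691606 : sm gd N48322 = N50492 := rfl
theorem L691608 : sm ga N50492 = N48343 := ded_12_1 (flp_d L669770) (flp_a L669600) L691606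
theorem L691610 : sm gf N50492 = N50492 := ded_35_2 (flp_d L691606) L669604 L691606
theorem L691611 : sm gg N50492 = N48323 := ded_36_2 (flp_d L669607) (flp_g L669605) L691606
theorem L691613 : sm gi N48322 = N50493 := rfl
theorem L691615 : sm ga N50493 = N48344 := ded_18_1 (flp_i L669775) (flp_a L669600) L691613
theorem L691617 : sm gc N50493 = N48329 := ded_33_1 (flp_i L669656) (flp_c L669602) L691613
theorem L691619 : sm gf N50493 = N50493 := ded_48_1 (flp_i L691613) L669604 L691613
theorem L691620 : sm gg N50493 = N48324 := ded_51_1 (flp_i L669615) (flp_g L669605) L691613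
theorem L691622 : sm gh N50493 = N48405 := ded_54_1 (flp_i L670286) (flp_h L386575) (flp_i L384881) L669598 L691613
theorem L691624 : sm ge N48323 = N50494 := rfl
theorem L691626 : sm ga N50494 = N48346 := ded_13_1 (flp_e L669792) (flp_a L669609) L691624
theorem L691628 : sm gj N50494 = N48325 := ded_42_2 (flp_e L669627) (flp_j L669613) L691624
theorem L691630 : sm gi N48323 = N50495 := rfl
theorem L691632 : sm ga N50495 = N48347 := ded_18_1 (flp_i L669796) (flp_a L669609) L691630
theorem L691634 : sm gd N50495 = N48324 := ded_39_1 (flp_i L669615) L669607 L691630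
theorem L691636 : sm gf N50495 = N48327 := ded_48_1 (flp_i L669639) (flp_f L669611) L691630
theorem L691638 : sm gj N50495 = N48326 := ded_53_1 (flp_i L669631) (flp_j L669613) L691630
theorem L691640 : sm gi N48325 = N50496 := rfl
theorem L691642 : sm ga N50496 = N48352 := ded_18_1 (flp_i L669828) (flp_a L669629) L691640
theorem L691644 : sm ge N50496 = N48326 := ded_44_1 (flp_i L669631) L669627 L691640
theorem L691646 : sm gh N48326 = N50497 := rfl
theorem L691648 : sm ga N50497 = N48353 := ded_17_1 (flp_h L669832) (flp_a L669633) L691646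
theorem L691650 : sm gf N50497 = N48328 := ded_47_1 (flp_h L669648) (flp_f L669637) L691646
theorem L691652 : sm gd N50497 = N48413 := ded_38_1 (flp_h L670349) L386618 (flp_h L384908) (flp_d L669635) L691646
theorem L691654 : sm gh N48327 = N50498 := rfl
theorem L691656 : sm ga N50498 = N48359 := ded_17_1 (flp_h L669881) (flp_a L669641) L691654
theorem L691658 : sm gg N50498 = N50498 := ded_50_1 (flp_h L691654) L669645 L691654
theorem L691659 : sm gj N50498 = N48328 := ded_52_1 (flp_h L669648) (flp_j L669646) L691654
theorem L691661 : sm gd N50498 = N48416 := ded_38_1 (flp_h L670373) L386644 (flp_h L384928) (flp_d L669643) L691654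
theorem L691663 : sm ge N48330 = N50499 := rfl
theorem L691665 : sm gd N50499 = N48335 := ded_34_1 (flp_e L669705) (flp_d L385275) (flp_e L385254) L669666 L691663
theorem L691667 : sm gi N48330 = N50500 := rfl
theorem L691669 : sm gd N50500 = N48331 := ded_39_1 (flp_i L669670) L669666 L691667
theorem L691671 : sm gf N50500 = N48730 := ded_48_1 (flp_i L672865) (flp_f L669668) L691667
theorem L691673 : sm gd N48332 = N50501 := rfl
theorem L691675 : sm gf N50501 = N50501 := ded_35_2 (flp_d L691673) L669684 L691673
theorem L691676 : sm gg N50501 = N48333 := ded_36_2 (flp_d L669687) (flp_g L669685) L691673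
theorem L691678 : sm gh N50501 = N48343 := ded_38_2 (flp_d L669770) (flp_h L385371) (flp_d L385262) L669680 L691673
theorem L691680 : sm gi N48332 = N50502 := rfl
theorem L691682 : sm gc N50502 = N48548 := ded_33_1 (flp_i L671397) (flp_c L669682) L691680
theorem L691684 : sm gf N50502 = N50502 := ded_48_1 (flp_i L691680) L669684 L691680
theorem L691685 : sm gg N50502 = N48334 := ded_51_1 (flp_i L669695) (flp_g L669685) L691680
theorem L691687 : sm gh N50502 = N48441 := ded_54_1 (flp_i L670590) (flp_h L387120) (flp_i L385264) L669680 L691680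
theorem L691689 : sm ge N48333 = N50503 := rfl
theorem L691691 : sm gj N50503 = N48335 := ded_42_2 (flp_e L669705) (flp_j L669691) L691689
theorem L691693 : sm gh N50503 = N48346 := ded_43_2 (flp_e L669792) (flp_h L669693) L691689
theorem L691695 : sm gi N48333 = N50504 := rfl
theorem L691697 : sm gd N50504 = N48334 := ded_39_1 (flp_i L669695) L669687 L691695
theorem L691699 : sm gf N50504 = N48338 := ded_48_1 (flp_i L669728) (flp_f L669689) L691695
theorem L691701 : sm gj N50504 = N48336 := ded_53_1 (flp_i L669709) (flp_j L669691) L691695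
theorem L691703 : sm gf N48335 = N50505 := rfl
theorem L691705 : sm gb N50505 = N48400 := ded_22_1 (flp_f L687932) L687928 L691703
theorem L691707 : sm gh N50505 = N48351 := ded_47_2 (flp_f L669822) (flp_h L669707) L691703
theorem L691709 : sm ge N50505 = N48339 := ded_40_1 (flp_f L669735) (flp_e L385315) (flp_f L385277) L669705 L691703
theorem L691711 : sm gi N48335 = N50506 := rfl
theorem L691713 : sm ge N50506 = N48336 := ded_44_1 (flp_i L669709) L669705 L691711
theorem L691715 : sm gh N48336 = N50507 := rfl
theorem L691717 : sm gf N50507 = N48341 := ded_47_1 (flp_h L669753) (flp_f L669713) L691715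
theorem L691719 : sm gd N50507 = N48450 := ded_38_1 (flp_h L670653) L387157 (flp_h L385287) (flp_d L669711) L691715
theorem L691721 : sm gi N50507 = N48353 := ded_54_2 (flp_h L669832) (flp_i L385402) (flp_h L385279) L669709 L691715
theorem L691723 : sm gi N48337 = N50508 := rfl
theorem L691725 : sm ga N50508 = N48730 := ded_18_1 (flp_i L672865) (flp_a L669717) L691723
theorem L691727 : sm gb N50508 = N48402 := ded_26_1 (flp_i L670262) (flp_b L669719) L691723
theorem L691729 : sm gd N50508 = N48395 := ded_39_1 (flp_i L670197) (flp_d L669726) L691723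
theorem L691731 : sm ge N50508 = N48338 := ded_44_1 (flp_i L669728) L669715 L691723
theorem L691733 : sm gg N50508 = N50508 := ded_51_1 (flp_i L691723) L669721 L691723
theorem L691734 : sm gj N50508 = N48340 := ded_53_1 (flp_i L669743) (flp_j L669722) L691723
theorem L691736 : sm gh N48338 = N50509 := rfl
theorem L691738 : sm gg N50509 = N50509 := ded_50_1 (flp_h L691736) L669732 L691736
theorem L691739 : sm gj N50509 = N48341 := ded_52_1 (flp_h L669753) (flp_j L669733) L691736
theorem L691741 : sm gd N50509 = N48455 := ded_38_1 (flp_h L670698) L387181 (flp_h L385305) (flp_d L669730) L691736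
theorem L691743 : sm gi N50509 = N48359 := ded_54_2 (flp_h L669881) (flp_i L385422) (flp_h L385294) L669728 L691736
theorem L691745 : sm gi N48339 = N50510 := rfl
theorem L691747 : sm gb N50510 = N48401 := ded_26_1 (flp_i L670254) (flp_b L669737) L691745
theorem L691749 : sm gd N50510 = N48394 := ded_39_1 (flp_i L670191) (flp_d L669739) L691745
theorem L691751 : sm gf N50510 = N48340 := ded_48_1 (flp_i L669743) L669735 L691745
theorem L691753 : sm gh N48340 = N50511 := rfl
theorem L691755 : sm gb N50511 = N48403 := ded_25_1 (flp_h L670271) (flp_b L669745) L691753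
theorem L691757 : sm ge N50511 = N48341 := ded_43_1 (flp_h L669753) (flp_e L669749) L691753
theorem L691759 : sm gg N50511 = N48342 := ded_50_1 (flp_h L669761) (flp_g L669751) L691753
theorem L691761 : sm gi N50511 = N48366 := ded_54_2 (flp_h L669933) (flp_i L385454) (flp_h L385319) L669743 L691753
theorem L691763 : sm gc N48343 = N50512 := rfl
theorem L691765 : sm gf N50512 = N50512 := ded_29_2 (flp_c L691763) L669772 L691763
theorem L691766 : sm gg N50512 = N48345 := ded_30_2 (flp_c L669784) (flp_g L669773) L691763
theorem L691768 : sm gd N50512 = N48372 := ded_27_2 (flp_c L669980) (flp_d L385627) (flp_c L385373) L669770 L691763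
theorem L691770 : sm ge N48343 = N50513 := rfl
theorem L691772 : sm gg N50513 = N48346 := ded_41_2 (flp_e L669792) (flp_g L669773) L691770
theorem L691774 : sm gi N48343 = N50514 := rfl
theorem L691776 : sm gd N50514 = N48344 := ded_39_1 (flp_i L669775) L669770 L691774
theorem L691778 : sm gf N50514 = N50514 := ded_48_1 (flp_i L691774) L669772 L691774
theorem L691779 : sm gg N50514 = N48347 := ded_51_1 (flp_i L669796) (flp_g L669773) L691774
theorem L691781 : sm gb N48345 = N50515 := rfl
theorem L691783 : sm gd N50515 = N48374 := ded_20_2 (flp_b L669996) (flp_d L669790) L691781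
theorem L691785 : sm gf N50515 = N48354 := ded_22_2 (flp_b L669838) (flp_f L669786) L691781
theorem L691787 : sm gj N50515 = N48348 := ded_24_2 (flp_b L669804) (flp_j L669788) L691781
theorem L691789 : sm ge N48345 = N50516 := rfl
theorem L691791 : sm gc N50516 = N48346 := ded_28_1 (flp_e L669792) L669784 L691789
theorem L691793 : sm gj N50516 = N48349 := ded_42_2 (flp_e L669810) (flp_j L669788) L691789
theorem L691795 : sm gi N48345 = N50517 := rfl
theorem L691797 : sm gc N50517 = N48347 := ded_33_1 (flp_i L669796) L669784 L691795
theorem L691799 : sm gd N50517 = N48376 := ded_39_1 (flp_i L670015) (flp_d L669790) L691795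
theorem L691801 : sm gf N50517 = N48356 := ded_48_1 (flp_i L669853) (flp_f L669786) L691795
theorem L691803 : sm gj N50517 = N48350 := ded_53_1 (flp_i L669814) (flp_j L669788) L691795
theorem L691805 : sm gf N48346 = N50518 := rfl
theorem L691807 : sm gb N50518 = N48407 := ded_22_1 (flp_f L687979) L687975 L691805
theorem L691809 : sm gj N50518 = N48351 := ded_46_2 (flp_f L669822) (flp_j L669794) L691805
theorem L691811 : sm ge N50518 = N48357 := ded_40_1 (flp_f L669862) (flp_e L385415) (flp_f L385380) L669792 L691805
theorem L691813 : sm gi N48346 = N50519 := rfl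
theorem L691815 : sm ge N50519 = N48347 := ded_44_1 (flp_i L669796) L669792 L691813
theorem L691817 : sm gj N50519 = N48352 := ded_53_1 (flp_i L669828) (flp_j L669794) L691813
theorem L691819 : sm gh N48347 = N50520 := rfl
theorem L691821 : sm gf N50520 = N48359 := ded_47_1 (flp_h L669881) (flp_f L669800) L691819
theorem L691823 : sm gj N50520 = N48353 := ded_52_1 (flp_h L669832) (flp_j L669802) L691819
theorem L691825 : sm gd N50520 = N48482 := ded_38_1 (flp_h L670896) L387322 (flp_h L385392) (flp_d L669798) L691819
theorem L691827 : sm ge N48348 = N50521 := rfl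
theorem L691829 : sm gb N50521 = N48349 := ded_21_1 (flp_e L669810) L669804 L691827
theorem L691831 : sm gi N48348 = N50522 := rfl
theorem L691833 : sm gb N50522 = N48350 := ded_26_1 (flp_i L669814) L669804 L691831
theorem L691835 : sm gd N50522 = N48380 := ded_39_1 (flp_i L670059) (flp_d L669806) L691831
theorem L691837 : sm gf N50522 = N48361 := ded_48_1 (flp_i L669897) (flp_f L669808) L691831
theorem L691839 : sm gd N48349 = N50523 := rfl
theorem L691841 : sm ge N50523 = N48381 := ded_34_2 (flp_d L670067) (flp_e L385680) (flp_d L385398) L669810 L691839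
theorem L691843 : sm gf N48349 = N50524 := rfl
theorem L691845 : sm gc N50524 = N48351 := ded_29_1 (flp_f L669822) (flp_c L669812) L691843
theorem L691847 : sm ge N50524 = N48362 := ded_40_1 (flp_f L669905) (flp_e L385435) (flp_f L385396) L669810 L691843
theorem L691849 : sm gi N48349 = N50525 := rfl
theorem L691851 : sm gc N50525 = N48352 := ded_33_1 (flp_i L669828) (flp_c L669812) L691849
theorem L691853 : sm ge N50525 = N48350 := ded_44_1 (flp_i L669814) L669810 L691849
theorem L691855 : sm gh N48350 = N50526 := rfl
theorem L691857 : sm gc N50526 = N48353 := ded_32_1 (flp_h L669832) (flp_c L669816) L691855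
theorem L691859 : sm gf N50526 = N48364 := ded_47_1 (flp_h L669919) (flp_f L669820) L691855
theorem L691861 : sm gi N48351 = N50527 := rfl
theorem L691863 : sm gb N50527 = N48412 := ded_26_1 (flp_i L670343) (flp_b L669824) L691861
theorem L691865 : sm ge N50527 = N48365 := ded_44_1 (flp_i L669925) (flp_e L669826) L691861
theorem L691867 : sm gf N50527 = N48352 := ded_48_1 (flp_i L669828) L669822 L691861
theorem L691869 : sm gh N48352 = N50528 := rfl
theorem L691871 : sm ge N50528 = N48353 := ded_43_1 (flp_h L669832) (flp_e L669830) L691869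
theorem L691873 : sm ge N48354 = N50529 := rfl
theorem L691875 : sm gb N50529 = N48355 := ded_21_1 (flp_e L669845) L669838 L691873
theorem L691877 : sm gc N50529 = N48414 := ded_28_1 (flp_e L688043) L688048 L691873
theorem L691879 : sm gg N50529 = N50529 := ded_41_2 (flp_e L691873) L669842 L691873
theorem L691880 : sm gj N50529 = N48360 := ded_42_2 (flp_e L669888) (flp_j L669843) L691873
theorem L691882 : sm gd N50529 = N50529 := ded_34_1 (flp_e L691873) L669840 L385712 (flp_d L669840) L691873
theorem L691883 : sm gi N48354 = N50530 := rfl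
theorem L691885 : sm gb N50530 = N48356 := ded_26_1 (flp_i L669853) L669838 L691883
theorem L691887 : sm gd N50530 = N48384 := ded_39_1 (flp_i L670089) (flp_d L669840) L691883
theorem L691889 : sm gg N50530 = N50530 := ded_51_1 (flp_i L691883) L669842 L691883
theorem L691890 : sm gj N50530 = N48361 := ded_53_1 (flp_i L669897) (flp_j L669843) L691883
theorem L691892 : sm gf N48355 = N50531 := rfl
theorem L691894 : sm gc N50531 = N48357 := ded_29_1 (flp_f L669862) (flp_c L669847) L691892
theorem L691896 : sm gd N50531 = N50531 := ded_35_1 (flp_f L691892) L669852 L691892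
theorem L691897 : sm gj N50531 = N48362 := ded_46_2 (flp_f L669905) (flp_j L669850) L691892
theorem L691899 : sm gi N48355 = N50532 := rfl
theorem L691901 : sm gc N50532 = N48358 := ded_33_1 (flp_i L669870) (flp_c L669847) L691899
theorem L691903 : sm gd N50532 = N50532 := ded_39_1 (flp_i L691899) L669852 L691899
theorem L691904 : sm ge N50532 = N48356 := ded_44_1 (flp_i L669853) L669845 L691899
theorem L691906 : sm gg N50532 = N50532 := ded_51_1 (flp_i L691899) L669849 L691899
theorem L691907 : sm gj N50532 = N48363 := ded_53_1 (flp_i L669910) (flp_j L669850) L691899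
theorem L691909 : sm gh N48356 = N50533 := rfl
theorem L691911 : sm gc N50533 = N48359 := ded_32_1 (flp_h L669881) (flp_c L669855) L691909
theorem L691913 : sm gg N50533 = N50533 := ded_50_1 (flp_h L691909) L669859 L691909
theorem L691914 : sm gj N50533 = N48364 := ded_52_1 (flp_h L669919) (flp_j L669860) L691909
theorem L691916 : sm gg N48357 = N50534 := rfl
theorem L691918 : sm gb N50534 = N48404 := ded_23_1 L670284 (flp_b L669864) L691916
theorem L691920 : sm gd N50534 = N48370 := ded_36_1 (flp_g L669963) (flp_d L669866) L691916
theorem L691922 : sm gh N50534 = N48381 := ded_50_2 (flp_g L684284) L684288 L691916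
theorem L691924 : sm gf N50534 = N50534 := ded_45_1 (flp_g L691916) (flp_f L669862) L385417 L669862 L691916
theorem L691925 : sm gi N48357 = N50535 := rfl
theorem L691927 : sm gb N50535 = N48408 := ded_26_1 (flp_i L670311) (flp_b L669864) L691925
theorem L691929 : sm gd N50535 = N48371 := ded_39_1 (flp_i L669971) (flp_d L669866) L691925
theorem L691931 : sm gf N50535 = N48358 := ded_48_1 (flp_i L669870) L669862 L691925
theorem L691933 : sm gj N50535 = N48365 := ded_53_1 (flp_i L669925) (flp_j L669868) L691925
theorem L691935 : sm gh N48358 = N50536 := rfl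
theorem L691937 : sm gb N50536 = N48416 := ded_25_1 (flp_h L670373) (flp_b L669872) L691935
theorem L691939 : sm ge N50536 = N48359 := ded_43_1 (flp_h L669881) (flp_e L669876) L691935
theorem L691941 : sm gg N50536 = N50536 := ded_50_1 (flp_h L691935) L669878 L691935
theorem L691942 : sm gj N50536 = N48366 := ded_52_1 (flp_h L669933) (flp_j L669879) L691935
theorem L691944 : sm gf N48360 = N50537 := rfl
theorem L691946 : sm gb N50537 = N48362 := ded_22_1 (flp_f L669905) (flp_b L669890) L691944
theorem L691948 : sm gc N50537 = N48409 := ded_29_1 L670325 (flp_c L669892) L691944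
theorem L691950 : sm gd N50537 = N50537 := ded_35_1 (flp_f L691944) L669896 L691944
theorem L691951 : sm gi N48360 = N50538 := rfl
theorem L691953 : sm gb N50538 = N48363 := ded_26_1 (flp_i L669910) (flp_b L669890) L691951
theorem L691955 : sm gc N50538 = N48418 := ded_33_1 (flp_i L670388) (flp_c L669892) L691951
theorem L691957 : sm gd N50538 = N50538 := ded_39_1 (flp_i L691951) L669896 L691951
theorem L691958 : sm ge N50538 = N48361 := ded_44_1 (flp_i L669897) L669888 L691951
theorem L691960 : sm gg N50538 = N48367 := ded_51_1 (flp_i L669941) (flp_g L669894) L691951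
theorem L691962 : sm gh N48361 = N50539 := rfl
theorem L691964 : sm gb N50539 = N48364 := ded_25_1 (flp_h L669919) (flp_b L669899) L691962
theorem L691966 : sm gg N50539 = N48368 := ded_50_1 (flp_h L669951) (flp_g L669903) L691962
theorem L691968 : sm gi N48362 = N50540 := rfl
theorem L691970 : sm gc N50540 = N48365 := ded_33_1 (flp_i L669925) (flp_c L669907) L691968
theorem L691972 : sm gd N50540 = N50540 := ded_39_1 (flp_i L691968) L669909 L691968
theorem L691973 : sm gf N50540 = N48363 := ded_48_1 (flp_i L669910) L669905 L691968
theorem L691975 : sm gh N48363 = N50541 := rfl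
theorem L691977 : sm gc N50541 = N48366 := ded_32_1 (flp_h L669933) (flp_c L669912) L691975
theorem L691979 : sm ge N50541 = N48364 := ded_43_1 (flp_h L669919) (flp_e L669915) L691975
theorem L691981 : sm gg N50541 = N48369 := ded_50_1 (flp_h L669956) (flp_g L669917) L691975
theorem L691983 : sm gh N48365 = N50542 := rfl
theorem L691985 : sm gb N50542 = N48413 := ded_25_1 (flp_h L670349) (flp_b L669927) L691983
theorem L691987 : sm gf N50542 = N48366 := ded_47_1 (flp_h L669933) (flp_f L669931) L691983
theorem L691989 : sm gh N48367 = N50543 := rfl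
theorem L691991 : sm gb N50543 = N48369 := ded_25_1 (flp_h L669956) (flp_b L669943) L691989
theorem L691993 : sm gc N50543 = N48421 := ded_32_1 (flp_h L670413) (flp_c L669945) L691989
theorem L691995 : sm ge N50543 = N48368 := ded_43_1 (flp_h L669951) (flp_e L669948) L691989
theorem L691997 : sm gj N50543 = N50543 := ded_52_1 (flp_h L691989) L669950 L691989
theorem L691998 : sm gd N48369 = N50544 := rfl
theorem L692000 : sm gj N50544 = N50544 := ded_37_2 (flp_d L691998) L669962 L691998
theorem L692001 : sm gh N50544 = N50544 := ded_38_2 (flp_d L691998) (flp_h L669956) L385496 L669956 L691998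
theorem L692002 : sm gi N48370 = N50545 := rfl
theorem L692004 : sm gb N50545 = N48405 := ded_26_1 (flp_i L670286) (flp_b L669965) L692002
theorem L692006 : sm gc N50545 = N50545 := ded_33_1 (flp_i L692002) L669967 L692002
theorem L692007 : sm gf N50545 = N50545 := ded_48_1 (flp_i L692002) L669970 L692002
theorem L692008 : sm gg N50545 = N48371 := ded_51_1 (flp_i L669971) L669963 L692002
theorem L692010 : sm gi N48372 = N50546 := rfl
theorem L692012 : sm gc N50546 = N48373 := ded_33_1 (flp_i L669987) L669980 L692010
theorem L692014 : sm gf N50546 = N50546 := ded_48_1 (flp_i L692010) L669982 L692010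
theorem L692015 : sm gg N50546 = N48376 := ded_51_1 (flp_i L670015) (flp_g L669983) L692010
theorem L692017 : sm gi N48374 = N50547 := rfl
theorem L692019 : sm gb N50547 = N48376 := ded_26_1 (flp_i L670015) L669996 L692017
theorem L692021 : sm gc N50547 = N48386 := ded_33_1 (flp_i L670110) (flp_c L670004) L692017
theorem L692023 : sm gf N50547 = N48384 := ded_48_1 (flp_i L670089) (flp_f L669998) L692017
theorem L692025 : sm gj N50547 = N48380 := ded_53_1 (flp_i L670059) (flp_j L670000) L692017
theorem L692027 : sm gd N48375 = N50548 := rfl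
theorem L692029 : sm gf N50548 = N50548 := ded_35_2 (flp_d L692027) L670014 L692027
theorem L692030 : sm gj N50548 = N48381 := ded_37_2 (flp_d L670067) (flp_j L670010) L692027
theorem L692032 : sm gi N48375 = N50549 := rfl
theorem L692034 : sm gc N50549 = N48377 := ded_33_1 (flp_i L670023) (flp_c L670008) L692032
theorem L692036 : sm ge N50549 = N48376 := ded_44_1 (flp_i L670015) L670006 L692032
theorem L692038 : sm gf N50549 = N50549 := ded_48_1 (flp_i L692032) L670014 L692032
theorem L692039 : sm gj N50549 = N48382 := ded_53_1 (flp_i L670070) (flp_j L670010) L692032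
theorem L692041 : sm gi N48378 = N50550 := rfl
theorem L692043 : sm ga N50550 = N48380 := ded_18_1 (flp_i L670059) L670032 L692041
theorem L692045 : sm gb N50550 = N48737 := ded_26_1 (flp_i L672906) (flp_b L670042) L692041
theorem L692047 : sm gc N50550 = N48387 := ded_33_1 (flp_i L670118) (flp_c L670034) L692041
theorem L692049 : sm ge N50550 = N48441 := ded_44_1 (flp_i L670590) L670044 L692041
theorem L692051 : sm gf N50550 = N48385 := ded_48_1 (flp_i L670099) (flp_f L670036) L692041
theorem L692053 : sm gg N50550 = N48436 := ded_51_1 (flp_i L670555) (flp_g L670038) L692041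
theorem L692055 : sm gd N48379 = N50551 := rfl
theorem L692057 : sm ga N50551 = N48440 := ded_12_1 (flp_d L670583) (flp_a L670048) L692055
theorem L692059 : sm gb N50551 = N48381 := ded_20_1 (flp_d L670067) (flp_b L670050) L692055
theorem L692061 : sm gf N50551 = N50551 := ded_35_2 (flp_d L692055) L670058 L692055
theorem L692062 : sm gg N50551 = N48398 := ded_36_2 (flp_d L670228) (flp_g L670054) L692055
theorem L692064 : sm gh N50551 = N48404 := ded_38_2 (flp_d L670279) (flp_h L386575) (flp_d L386447) (flp_h L670056) L692055
theorem L692066 : sm gi N48379 = N50552 := rfl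
theorem L692068 : sm ga N50552 = N48441 := ded_18_1 (flp_i L670590) (flp_a L670048) L692066
theorem L692070 : sm gb N50552 = N48382 := ded_26_1 (flp_i L670070) (flp_b L670050) L692066
theorem L692072 : sm gc N50552 = N48388 := ded_33_1 (flp_i L670129) (flp_c L670052) L692066
theorem L692074 : sm ge N50552 = N48380 := ded_44_1 (flp_i L670059) L670046 L692066
theorem L692076 : sm gf N50552 = N50552 := ded_48_1 (flp_i L692066) L670058 L692066
theorem L692077 : sm gg N50552 = N48399 := ded_51_1 (flp_i L670238) (flp_g L670054) L692066
theorem L692079 : sm gi N48381 = N50553 := rfl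
theorem L692081 : sm gd N50553 = N48382 := ded_39_1 (flp_i L670070) L670067 L692079
theorem L692083 : sm gf N50553 = N50553 := ded_48_1 (flp_i L692079) L670069 L692079
theorem L692084 : sm gi N48383 = N50554 := rfl
theorem L692086 : sm ga N50554 = N48384 := ded_18_1 (flp_i L670089) L670077 L692084
theorem L692088 : sm gb N50554 = N48738 := ded_26_1 (flp_i L672913) (flp_b L670087) L692084
theorem L692090 : sm gc N50554 = N48390 := ded_33_1 (flp_i L670148) (flp_c L670079) L692084
theorem L692092 : sm ge N50554 = N50554 := ded_44_1 (flp_i L692084) L670081 L692084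
theorem L692093 : sm gg N50554 = N50554 := ded_51_1 (flp_i L692084) L670082 L692084
theorem L692094 : sm gj N50554 = N48385 := ded_53_1 (flp_i L670099) (flp_j L670083) L692084
theorem L692096 : sm gh N48387 = N50555 := rfl
theorem L692098 : sm ga N50555 = N48389 := ded_17_1 (flp_h L670140) (flp_a L670120) L692096
theorem L692100 : sm gb N50555 = N50555 := ded_25_1 (flp_h L692096) L670122 L692096
theorem L692101 : sm ge N50555 = N48548 := ded_43_1 L671403 (flp_e L670123) L692096
theorem L692103 : sm gf N50555 = N48392 := ded_47_1 (flp_h L670169) (flp_f L670125) L692096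
theorem L692105 : sm gg N50555 = N48546 := ded_50_1 L671388 (flp_g L670127) L692096
theorem L692107 : sm gi N50555 = N48545 := ded_54_2 (flp_h L671368) L615784 (flp_h L385865) L670118 L692096
theorem L692109 : sm gh N48390 = N50556 := rfl
theorem L692111 : sm ga N50556 = N48391 := ded_17_1 (flp_h L670157) (flp_a L670150) L692109
theorem L692113 : sm gb N50556 = N50556 := ded_25_1 (flp_h L692109) L670152 L692109
theorem L692114 : sm ge N50556 = N50556 := ded_43_1 (flp_h L692109) L670153 L692109
theorem L692115 : sm gg N50556 = N50556 := ded_50_1 (flp_h L692109) L670154 L692109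
theorem L692116 : sm gj N50556 = N48392 := ded_52_1 (flp_h L670169) (flp_j L670155) L692109
theorem L692118 : sm gi N50556 = N48549 := ded_54_2 (flp_h L671405) (flp_i L390065) (flp_h L385916) L670148 L692109
theorem L692120 : sm gd N48639 = N50556 := ded_12_0 L692111 (flp_d L670167) (flp_a L672092)
theorem L692122 : sm gc N48396 = N50557 := rfl
theorem L692124 : sm ga N50557 = N48437 := ded_11_1 (flp_c L670567) (flp_a L670214) L692122
theorem L692126 : sm gf N50557 = N48731 := ded_29_2 (flp_c L672870) (flp_f L670216) L692122
theorem L692128 : sm gd N50557 = N48550 := ded_27_2 (flp_c L671416) (flp_d L390463) (flp_c L386435) L670212 L692122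
theorem L692130 : sm ge N48396 = N50558 := rfl
theorem L692132 : sm ga N50558 = N48438 := ded_13_1 (flp_e L670573) (flp_a L670214) L692130
theorem L692134 : sm gd N50558 = N48400 := ded_34_1 (flp_e L670248) (flp_d L386460) (flp_e L386437) L670212 L692130
theorem L692136 : sm gi N48396 = N50559 := rfl
theorem L692138 : sm ga N50559 = N48439 := ded_18_1 (flp_i L670577) (flp_a L670214) L692136
theorem L692140 : sm gd N50559 = N48397 := ded_39_1 (flp_i L670218) L670212 L692136
theorem L692142 : sm gf N50559 = N48732 := ded_48_1 (flp_i L672877) (flp_f L670216) L692136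
theorem L692144 : sm ge N48398 = N50560 := rfl
theorem L692146 : sm ga N50560 = N48443 := ded_13_1 (flp_e L670607) (flp_a L670230) L692144
theorem L692148 : sm gj N50560 = N48400 := ded_42_2 (flp_e L670248) (flp_j L670234) L692144
theorem L692150 : sm gh N50560 = N48407 := ded_43_2 (flp_e L670305) (flp_h L670236) L692144
theorem L692152 : sm gi N48398 = N50561 := rfl
theorem L692154 : sm ga N50561 = N48444 := ded_18_1 (flp_i L670613) (flp_a L670230) L692152
theorem L692156 : sm gd N50561 = N48399 := ded_39_1 (flp_i L670238) L670228 L692152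
theorem L692158 : sm gf N50561 = N48402 := ded_48_1 (flp_i L670262) (flp_f L670232) L692152
theorem L692160 : sm gj N50561 = N48401 := ded_53_1 (flp_i L670254) (flp_j L670234) L692152
theorem L692162 : sm gi N48400 = N50562 := rfl
theorem L692164 : sm ga N50562 = N48449 := ded_18_1 (flp_i L670649) (flp_a L670250) L692162
theorem L692166 : sm ge N50562 = N48401 := ded_44_1 (flp_i L670254) L670248 L692162
theorem L692168 : sm gh N48401 = N50563 := rfl
theorem L692170 : sm ga N50563 = N48450 := ded_17_1 (flp_h L670653) (flp_a L670256) L692168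
theorem L692172 : sm gf N50563 = N48403 := ded_47_1 (flp_h L670271) (flp_f L670260) L692168
theorem L692174 : sm gi N50563 = N48413 := ded_54_2 (flp_h L670349) (flp_i L386614) (flp_h L386466) L670254 L692168
theorem L692176 : sm gh N48402 = N50564 := rfl
theorem L692178 : sm ga N50564 = N48455 := ded_17_1 (flp_h L670698) (flp_a L670264) L692176
theorem L692180 : sm gg N50564 = N50564 := ded_50_1 (flp_h L692176) L670268 L692176
theorem L692181 : sm gj N50564 = N48403 := ded_52_1 (flp_h L670271) (flp_j L670269) L692176
theorem L692183 : sm gi N50564 = N48416 := ded_54_2 (flp_h L670373) (flp_i L386640) (flp_h L386483) L670262 L692176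
theorem L692185 : sm gc N48404 = N50565 := rfl
theorem L692187 : sm ga N50565 = N48474 := ded_11_1 (flp_c L670842) (flp_a L670281) L692185
theorem L692189 : sm gf N50565 = N50565 := ded_29_2 (flp_c L692185) L670283 L692185
theorem L692190 : sm gg N50565 = N48406 := ded_30_2 (flp_c L670295) (flp_g L670284) L692185
theorem L692192 : sm gd N50565 = N48422 := ded_27_2 (flp_c L670418) (flp_d L386907) (flp_c L386579) L670279 L692185
theorem L692194 : sm ge N48404 = N50566 := rfl
theorem L692196 : sm ga N50566 = N48475 := ded_13_1 (flp_e L670849) (flp_a L670281) L692194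
theorem L692198 : sm gg N50566 = N48407 := ded_41_2 (flp_e L670305) (flp_g L670284) L692194
theorem L692200 : sm gi N48404 = N50567 := rfl
theorem L692202 : sm ga N50567 = N48476 := ded_18_1 (flp_i L670853) (flp_a L670281) L692200
theorem L692204 : sm gd N50567 = N48405 := ded_39_1 (flp_i L670286) L670279 L692200
theorem L692206 : sm gf N50567 = N50567 := ded_48_1 (flp_i L692200) L670283 L692200
theorem L692207 : sm gg N50567 = N48408 := ded_51_1 (flp_i L670311) (flp_g L670284) L692200
theorem L692209 : sm gb N48406 = N50568 := rfl
theorem L692211 : sm gd N50568 = N48424 := ded_20_2 (flp_b L670437) (flp_d L670303) L692209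
theorem L692213 : sm gf N50568 = N48414 := ded_22_2 (flp_b L670355) (flp_f L670299) L692209
theorem L692215 : sm gj N50568 = N48409 := ded_24_2 (flp_b L670321) (flp_j L670301) L692209
theorem L692217 : sm ge N48406 = N50569 := rfl
theorem L692219 : sm ga N50569 = N48478 := ded_13_1 (flp_e L670868) (flp_a L670297) L692217
theorem L692221 : sm gc N50569 = N48407 := ded_28_1 (flp_e L670305) L670295 L692217
theorem L692223 : sm gj N50569 = N48410 := ded_42_2 (flp_e L670327) (flp_j L670301) L692217
theorem L692225 : sm gi N48406 = N50570 := rfl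
theorem L692227 : sm ga N50570 = N48479 := ded_18_1 (flp_i L670874) (flp_a L670297) L692225
theorem L692229 : sm gc N50570 = N48408 := ded_33_1 (flp_i L670311) L670295 L692225
theorem L692231 : sm gd N50570 = N48426 := ded_39_1 (flp_i L670458) (flp_d L670303) L692225
theorem L692233 : sm gf N50570 = N48415 := ded_48_1 (flp_i L670362) (flp_f L670299) L692225
theorem L692235 : sm gj N50570 = N48411 := ded_53_1 (flp_i L670333) (flp_j L670301) L692225
theorem L692237 : sm gi N48407 = N50571 := rfl
theorem L692239 : sm ga N50571 = N48481 := ded_18_1 (flp_i L670890) (flp_a L670307) L692237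
theorem L692241 : sm ge N50571 = N48408 := ded_44_1 (flp_i L670311) L670305 L692237
theorem L692243 : sm gj N50571 = N48412 := ded_53_1 (flp_i L670343) (flp_j L670309) L692237
theorem L692245 : sm gh N48408 = N50572 := rfl
theorem L692247 : sm ga N50572 = N48482 := ded_17_1 (flp_h L670896) (flp_a L670313) L692245
theorem L692249 : sm gf N50572 = N48416 := ded_47_1 (flp_h L670373) (flp_f L670317) L692245
theorem L692251 : sm gj N50572 = N48413 := ded_52_1 (flp_h L670349) (flp_j L670319) L692245
theorem L692253 : sm ga N48409 = N50573 := rfl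
theorem L692255 : sm gd N50573 = N48428 := ded_12_2 (flp_a L670481) (flp_d L670323) L692253
theorem L692257 : sm gf N50573 = N48417 := ded_14_2 (flp_a L670380) (flp_f L670325) L692253
theorem L692259 : sm gb N50573 = N48483 := ded_10_2 (flp_a L670902) (flp_b L387328) (flp_a L386604) L670321 L692253
theorem L692261 : sm ge N48409 = N50574 := rfl
theorem L692263 : sm gb N50574 = N48410 := ded_21_1 (flp_e L670327) L670321 L692261
theorem L692265 : sm gi N48409 = N50575 := rfl
theorem L692267 : sm gb N50575 = N48411 := ded_26_1 (flp_i L670333) L670321 L692265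
theorem L692269 : sm gd N50575 = N48430 := ded_39_1 (flp_i L670499) (flp_d L670323) L692265
theorem L692271 : sm gf N50575 = N48418 := ded_48_1 (flp_i L670388) (flp_f L670325) L692265
theorem L692273 : sm gd N48410 = N50576 := rfl
theorem L692275 : sm ga N50576 = N48486 := ded_12_1 (flp_d L670920) (flp_a L670329) L692273
theorem L692277 : sm ge N50576 = N48431 := ded_34_2 (flp_d L670506) (flp_e L386964) (flp_d L386608) L670327 L692273
theorem L692279 : sm gi N48410 = N50577 := rfl
theorem L692281 : sm ga N50577 = N48488 := ded_18_1 (flp_i L670930) (flp_a L670329) L692279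
theorem L692283 : sm gc N50577 = N48412 := ded_33_1 (flp_i L670343) (flp_c L670331) L692279
theorem L692285 : sm ge N50577 = N48411 := ded_44_1 (flp_i L670333) L670327 L692279
theorem L692287 : sm gh N48411 = N50578 := rfl
theorem L692289 : sm ga N50578 = N48489 := ded_17_1 (flp_h L670936) (flp_a L670335) L692287
theorem L692291 : sm gc N50578 = N48413 := ded_32_1 (flp_h L670349) (flp_c L670337) L692287
theorem L692293 : sm gf N50578 = N48419 := ded_47_1 (flp_h L670396) (flp_f L670341) L692287
theorem L692295 : sm gh N48412 = N50579 := rfl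
theorem L692297 : sm ga N50579 = N48492 := ded_17_1 (flp_h L670952) (flp_a L670345) L692295
theorem L692299 : sm ge N50579 = N48413 := ded_43_1 (flp_h L670349) (flp_e L670347) L692295
theorem L692301 : sm ga N48414 = N50580 := rfl
theorem L692303 : sm gd N50580 = N48433 := ded_12_2 (flp_a L670522) (flp_d L670357) L692301
theorem L692305 : sm gg N50580 = N50580 := ded_15_2 (flp_a L692301) L670359 L692301
theorem L692306 : sm gj N50580 = N48417 := ded_16_2 (flp_a L670380) (flp_j L670360) L692301
theorem L692308 : sm gb N50580 = N48493 := ded_10_2 (flp_a L670956) (flp_b L387358) (flp_a L386624) L670355 L692301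
theorem L692310 : sm gi N48414 = N50581 := rfl
theorem L692312 : sm gb N50581 = N48415 := ded_26_1 (flp_i L670362) L670355 L692310
theorem L692314 : sm gd N50581 = N48434 := ded_39_1 (flp_i L670534) (flp_d L670357) L692310
theorem L692316 : sm gg N50581 = N50581 := ded_51_1 (flp_i L692310) L670359 L692310
theorem L692317 : sm gj N50581 = N48418 := ded_53_1 (flp_i L670388) (flp_j L670360) L692310
theorem L692319 : sm gh N48415 = N50582 := rfl
theorem L692321 : sm ga N50582 = N48498 := ded_17_1 (flp_h L671000) (flp_a L670364) L692319
theorem L692323 : sm gc N50582 = N48416 := ded_32_1 (flp_h L670373) (flp_c L670366) L692319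
theorem L692325 : sm gg N50582 = N50582 := ded_50_1 (flp_h L692319) L670370 L692319
theorem L692326 : sm gj N50582 = N48419 := ded_52_1 (flp_h L670396) (flp_j L670371) L692319
theorem L692328 : sm gi N48417 = N50583 := rfl
theorem L692330 : sm ga N50583 = N48418 := ded_18_1 (flp_i L670388) L670380 L692328
theorem L692332 : sm gb N50583 = N48503 := ded_26_1 (flp_i L671035) (flp_b L670386) L692328
theorem L692334 : sm gd N50583 = N48435 := ded_39_1 (flp_i L670544) (flp_d L670382) L692328
theorem L692336 : sm gg N50583 = N48420 := ded_51_1 (flp_i L670404) (flp_g L670384) L692328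
theorem L692338 : sm gh N48418 = N50584 := rfl
theorem L692340 : sm gb N50584 = N48419 := ded_25_1 (flp_h L670396) (flp_b L670390) L692338
theorem L692342 : sm gg N50584 = N48421 := ded_50_1 (flp_h L670413) (flp_g L670394) L692338
theorem L692344 : sm gh N48420 = N50585 := rfl
theorem L692346 : sm ga N50585 = N48421 := ded_17_1 (flp_h L670413) (flp_a L670406) L692344
theorem L692348 : sm gb N50585 = N48515 := ded_25_1 (flp_h L671122) (flp_b L670408) L692344
theorem L692350 : sm gj N50585 = N50585 := ded_52_1 (flp_h L692344) L670412 L692344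
theorem L692351 : sm gi N48422 = N50586 := rfl
theorem L692353 : sm ga N50586 = N48530 := ded_18_1 (flp_i L671223) (flp_a L670420) L692351
theorem L692355 : sm gc N50586 = N48423 := ded_33_1 (flp_i L670427) L670418 L692351
theorem L692357 : sm gf N50586 = N50586 := ded_48_1 (flp_i L692351) L670422 L692351
theorem L692358 : sm gg N50586 = N48426 := ded_51_1 (flp_i L670458) (flp_g L670423) L692351
theorem L692360 : sm gi N48424 = N50587 := rfl
theorem L692362 : sm gb N50587 = N48426 := ded_26_1 (flp_i L670458) L670437 L692360
theorem L692364 : sm gc N50587 = N50587 := ded_33_1 (flp_i L692360) L670445 L692360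
theorem L692365 : sm gf N50587 = N48434 := ded_48_1 (flp_i L670534) (flp_f L670439) L692360
theorem L692367 : sm gj N50587 = N48430 := ded_53_1 (flp_i L670499) (flp_j L670441) L692360
theorem L692369 : sm gi N48425 = N50588 := rfl
theorem L692371 : sm ga N50588 = N48533 := ded_18_1 (flp_i L671252) (flp_a L670448) L692369
theorem L692373 : sm gc N50588 = N48427 := ded_33_1 (flp_i L670468) (flp_c L670450) L692369
theorem L692375 : sm ge N50588 = N48426 := ded_44_1 (flp_i L670458) L670446 L692369
theorem L692377 : sm gf N50588 = N48542 := ded_48_1 L671348 (flp_f L670456) L692369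
theorem L692379 : sm gj N50588 = N48432 := ded_53_1 (flp_i L670512) (flp_j L670452) L692369
theorem L692381 : sm gh N50588 = N48535 := ded_54_1 (flp_i L671280) L387751 (flp_i L646444) (flp_h L670454) L692369
theorem L692383 : sm gi N48428 = N50589 := rfl
theorem L692385 : sm ga N50589 = N48430 := ded_18_1 (flp_i L670499) L670481 L692383
theorem L692387 : sm gb N50589 = N48535 := ded_26_1 (flp_i L671280) (flp_b L670488) L692383
theorem L692389 : sm gc N50589 = N50589 := ded_33_1 (flp_i L692383) L670483 L692383
theorem L692390 : sm gf N50589 = N48435 := ded_48_1 (flp_i L670544) (flp_f L670484) L692383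
theorem L692392 : sm gd N48429 = N50590 := rfl
theorem L692394 : sm gb N50590 = N48431 := ded_20_1 (flp_d L670506) (flp_b L670492) L692392
theorem L692396 : sm gf N50590 = N48670 := ded_35_2 (flp_d L672366) (flp_f L670497) L692392
theorem L692398 : sm gi N48429 = N50591 := rfl
theorem L692400 : sm gb N50591 = N48432 := ded_26_1 (flp_i L670512) (flp_b L670492) L692398
theorem L692402 : sm gc N50591 = N50591 := ded_33_1 (flp_i L692398) L670494 L692398
theorem L692403 : sm ge N50591 = N48430 := ded_44_1 (flp_i L670499) L670490 L692398
theorem L692405 : sm gf N50591 = N48671 := ded_48_1 (flp_i L672371) (flp_f L670497) L692398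
theorem L692407 : sm gh N48431 = N50592 := rfl
theorem L692409 : sm ga N50592 = N48537 := ded_17_1 (flp_h L671296) (flp_a L670508) L692407
theorem L692411 : sm gf N50592 = N48673 := ded_47_1 (flp_h L672393) (flp_f L670510) L692407
theorem L692413 : sm gd N50592 = N48552 := ded_38_1 (flp_h L671431) (flp_d L390849) (flp_h L386970) L670506 L692407
theorem L692415 : sm gi N48431 = N50593 := rfl
theorem L692417 : sm ga N50593 = N48538 := ded_18_1 (flp_i L671302) (flp_a L670508) L692415
theorem L692419 : sm gd N50593 = N48432 := ded_39_1 (flp_i L670512) L670506 L692415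
theorem L692421 : sm gf N50593 = N48674 := ded_48_1 (flp_i L672400) (flp_f L670510) L692415
theorem L692423 : sm gi N48433 = N50594 := rfl
theorem L692425 : sm ga N50594 = N48434 := ded_18_1 (flp_i L670534) L670522 L692423
theorem L692427 : sm gb N50594 = N48540 := ded_26_1 (flp_i L671314) (flp_b L670532) L692423
theorem L692429 : sm gc N50594 = N50594 := ded_33_1 (flp_i L692423) L670524 L692423
theorem L692430 : sm ge N50594 = N48672 := ded_44_1 L672391 (flp_e L670525) L692423
theorem L692432 : sm gg N50594 = N50594 := ded_51_1 (flp_i L692423) L670527 L692423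
theorem L692433 : sm gj N50594 = N48435 := ded_53_1 (flp_i L670544) (flp_j L670528) L692423
theorem L692435 : sm gh N50594 = N48671 := ded_54_1 (flp_i L672371) L650363 (flp_i L648499) (flp_h L670530) L692423
theorem L692437 : sm gb N48437 = N50595 := rfl
theorem L692439 : sm gd N50595 = N48556 := ded_20_2 (flp_b L671463) (flp_d L670571) L692437
theorem L692441 : sm gf N50595 = N48733 := ded_22_2 (flp_b L672884) (flp_f L670569) L692437
theorem L692443 : sm ge N48437 = N50596 := rfl
theorem L692445 : sm gc N50596 = N48438 := ded_28_1 (flp_e L670573) L670567 L692443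
theorem L692447 : sm gi N48437 = N50597 := rfl
theorem L692449 : sm gc N50597 = N48439 := ded_33_1 (flp_i L670577) L670567 L692447
theorem L692451 : sm gd N50597 = N48558 := ded_39_1 (flp_i L671475) (flp_d L670571) L692447
theorem L692453 : sm gf N50597 = N48734 := ded_48_1 (flp_i L672889) (flp_f L670569) L692447
theorem L692455 : sm gi N48438 = N50598 := rfl
theorem L692457 : sm gd N50598 = N48449 := ded_39_1 (flp_i L670649) (flp_d L670575) L692455
theorem L692459 : sm ge N50598 = N48439 := ded_44_1 (flp_i L670577) L670573 L692455
theorem L692461 : sm gh N48439 = N50599 := rfl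
theorem L692463 : sm gf N50599 = N48735 := ded_47_1 (flp_h L672896) (flp_f L670581) L692461
theorem L692465 : sm gc N48440 = N50600 := rfl
theorem L692467 : sm gf N50600 = N50600 := ded_29_2 (flp_c L692465) L670585 L692465
theorem L692468 : sm gg N50600 = N48442 := ded_30_2 (flp_c L670597) (flp_g L670586) L692465
theorem L692470 : sm gh N50600 = N48474 := ded_32_2 (flp_c L670842) (flp_h L670588) L692465
theorem L692472 : sm gd N50600 = N48561 := ded_27_2 (flp_c L671495) (flp_d L391012) (flp_c L387122) L670583 L692465
theorem L692474 : sm ge N48440 = N50601 := rfl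
theorem L692476 : sm gg N50601 = N48443 := ded_41_2 (flp_e L670607) (flp_g L670586) L692474
theorem L692478 : sm gh N50601 = N48475 := ded_43_2 (flp_e L670849) (flp_h L670588) L692474
theorem L692480 : sm gi N48440 = N50602 := rfl
theorem L692482 : sm gd N50602 = N48441 := ded_39_1 (flp_i L670590) L670583 L692480
theorem L692484 : sm gf N50602 = N50602 := ded_48_1 (flp_i L692480) L670585 L692480
theorem L692485 : sm gg N50602 = N48444 := ded_51_1 (flp_i L670613) (flp_g L670586) L692480
theorem L692487 : sm gb N48442 = N50603 := rfl
theorem L692489 : sm gd N50603 = N48563 := ded_20_2 (flp_b L671510) (flp_d L670605) L692487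
theorem L692491 : sm gf N50603 = N48451 := ded_22_2 (flp_b L670659) (flp_f L670599) L692487
theorem L692493 : sm gj N50603 = N48445 := ded_24_2 (flp_b L670621) (flp_j L670601) L692487
theorem L692495 : sm gh N50603 = N48477 := ded_25_2 (flp_b L670860) (flp_h L670603) L692487
theorem L692497 : sm ge N48442 = N50604 := rfl
theorem L692499 : sm gc N50604 = N48443 := ded_28_1 (flp_e L670607) L670597 L692497
theorem L692501 : sm gj N50604 = N48446 := ded_42_2 (flp_e L670629) (flp_j L670601) L692497
theorem L692503 : sm gh N50604 = N48478 := ded_43_2 (flp_e L670868) (flp_h L670603) L692497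
theorem L692505 : sm gi N48442 = N50605 := rfl
theorem L692507 : sm gc N50605 = N48444 := ded_33_1 (flp_i L670613) L670597 L692505
theorem L692509 : sm gd N50605 = N48565 := ded_39_1 (flp_i L671528) (flp_d L670605) L692505
theorem L692511 : sm gf N50605 = N48453 := ded_48_1 (flp_i L670678) (flp_f L670599) L692505
theorem L692513 : sm gj N50605 = N48447 := ded_53_1 (flp_i L670635) (flp_j L670601) L692505
theorem L692515 : sm gi N48443 = N50606 := rfl
theorem L692517 : sm ge N50606 = N48444 := ded_44_1 (flp_i L670613) L670607 L692515
theorem L692519 : sm gj N50606 = N48449 := ded_53_1 (flp_i L670649) (flp_j L670609) L692515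
theorem L692521 : sm gh N48444 = N50607 := rfl
theorem L692523 : sm gf N50607 = N48455 := ded_47_1 (flp_h L670698) (flp_f L670617) L692521
theorem L692525 : sm gj N50607 = N48450 := ded_52_1 (flp_h L670653) (flp_j L670619) L692521
theorem L692527 : sm gi N50607 = N48482 := ded_54_2 (flp_h L670896) (flp_i L387320) (flp_h L387133) L670613 L692521
theorem L692529 : sm ga N48445 = N50608 := rfl
theorem L692531 : sm gd N50608 = N48567 := ded_12_2 (flp_a L671544) (flp_d L670623) L692529
theorem L692533 : sm gf N50608 = N48456 := ded_14_2 (flp_a L670705) (flp_f L670625) L692529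
theorem L692535 : sm gh N50608 = N48483 := ded_17_2 (flp_a L670902) (flp_h L670627) L692529
theorem L692537 : sm ge N48445 = N50609 := rfl
theorem L692539 : sm gb N50609 = N48446 := ded_21_1 (flp_e L670629) L670621 L692537
theorem L692541 : sm gh N50609 = N48484 := ded_43_2 (flp_e L670908) (flp_h L670627) L692537
theorem L692543 : sm gi N48445 = N50610 := rfl
theorem L692545 : sm gb N50610 = N48447 := ded_26_1 (flp_i L670635) L670621 L692543
theorem L692547 : sm gd N50610 = N48569 := ded_39_1 (flp_i L671559) (flp_d L670623) L692543
theorem L692549 : sm gf N50610 = N48458 := ded_48_1 (flp_i L670722) (flp_f L670625) L692543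
theorem L692551 : sm gd N48446 = N50611 := rfl
theorem L692553 : sm ge N50611 = N48570 := ded_34_2 (flp_d L671566) (flp_e L391058) (flp_d L387149) L670629 L692551
theorem L692555 : sm gf N48446 = N50612 := rfl
theorem L692557 : sm gc N50612 = N48448 := ded_29_1 (flp_f L670643) (flp_c L670631) L692555
theorem L692559 : sm gh N50612 = N48487 := ded_47_2 (flp_f L670924) (flp_h L670633) L692555
theorem L692561 : sm ge N50612 = N48459 := ded_40_1 (flp_f L670730) (flp_e L387194) (flp_f L387145) L670629 L692555
theorem L692563 : sm gi N48446 = N50613 := rfl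
theorem L692565 : sm gc N50613 = N48449 := ded_33_1 (flp_i L670649) (flp_c L670631) L692563
theorem L692567 : sm ge N50613 = N48447 := ded_44_1 (flp_i L670635) L670629 L692563
theorem L692569 : sm gh N48447 = N50614 := rfl
theorem L692571 : sm gc N50614 = N48450 := ded_32_1 (flp_h L670653) (flp_c L670637) L692569
theorem L692573 : sm gf N50614 = N48461 := ded_47_1 (flp_h L670746) (flp_f L670641) L692569
theorem L692575 : sm gi N50614 = N48489 := ded_54_2 (flp_h L670936) (flp_i L387338) (flp_h L387147) L670635 L692569
theorem L692577 : sm gg N48448 = N50615 := rfl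
theorem L692579 : sm ge N50615 = N48462 := ded_41_1 (flp_g L670754) (flp_e L670647) L692577
theorem L692581 : sm gh N50615 = N48490 := ded_50_2 (flp_g L670942) (flp_h L670645) L692577
theorem L692583 : sm gi N48448 = N50616 := rfl
theorem L692585 : sm ge N50616 = N48463 := ded_44_1 (flp_i L670762) (flp_e L670647) L692583
theorem L692587 : sm gf N50616 = N48449 := ded_48_1 (flp_i L670649) L670643 L692583
theorem L692589 : sm gh N48449 = N50617 := rfl
theorem L692591 : sm ge N50617 = N48450 := ded_43_1 (flp_h L670653) (flp_e L670651) L692589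
theorem L692593 : sm gi N50617 = N48492 := ded_54_2 (flp_h L670952) (flp_i L387350) (flp_h L387153) L670649 L692589
theorem L692595 : sm ga N48451 = N50618 := rfl
theorem L692597 : sm gd N50618 = N48572 := ded_12_2 (flp_a L671576) (flp_d L670661) L692595
theorem L692599 : sm gg N50618 = N50618 := ded_15_2 (flp_a L692595) L670663 L692595
theorem L692600 : sm gj N50618 = N48456 := ded_16_2 (flp_a L670705) (flp_j L670664) L692595
theorem L692602 : sm gh N50618 = N48493 := ded_17_2 (flp_a L670956) (flp_h L670666) L692595
theorem L692604 : sm ge N48451 = N50619 := rfl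
theorem L692606 : sm gb N50619 = N48452 := ded_21_1 (flp_e L670668) L670659 L692604
theorem L692608 : sm gc N50619 = N48733 := ded_28_1 (flp_e L689122) L689129 L692604
theorem L692610 : sm gg N50619 = N50619 := ded_41_2 (flp_e L692604) L670663 L692604
theorem L692611 : sm gj N50619 = N48457 := ded_42_2 (flp_e L670713) (flp_j L670664) L692604
theorem L692613 : sm gh N50619 = N48494 := ded_43_2 (flp_e L670963) (flp_h L670666) L692604
theorem L692615 : sm gd N50619 = N50619 := ded_34_1 (flp_e L692604) L670661 L391086 (flp_d L670661) L692604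
theorem L692616 : sm gi N48451 = N50620 := rfl
theorem L692618 : sm gb N50620 = N48453 := ded_26_1 (flp_i L670678) L670659 L692616
theorem L692620 : sm gd N50620 = N48573 := ded_39_1 (flp_i L671585) (flp_d L670661) L692616
theorem L692622 : sm gg N50620 = N50620 := ded_51_1 (flp_i L692616) L670663 L692616
theorem L692623 : sm gj N50620 = N48458 := ded_53_1 (flp_i L670722) (flp_j L670664) L692616
theorem L692625 : sm gi N48452 = N50621 := rfl
theorem L692627 : sm gc N50621 = N48454 := ded_33_1 (flp_i L670687) (flp_c L670670) L692625
theorem L692629 : sm gd N50621 = N50621 := ded_39_1 (flp_i L692625) L670677 L692625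
theorem L692630 : sm ge N50621 = N48453 := ded_44_1 (flp_i L670678) L670668 L692625
theorem L692632 : sm gg N50621 = N50621 := ded_51_1 (flp_i L692625) L670672 L692625
theorem L692633 : sm gj N50621 = N48460 := ded_53_1 (flp_i L670737) (flp_j L670673) L692625
theorem L692635 : sm gh N48453 = N50622 := rfl
theorem L692637 : sm gc N50622 = N48455 := ded_32_1 (flp_h L670698) (flp_c L670680) L692635
theorem L692639 : sm gg N50622 = N50622 := ded_50_1 (flp_h L692635) L670684 L692635
theorem L692640 : sm gj N50622 = N48461 := ded_52_1 (flp_h L670746) (flp_j L670685) L692635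
theorem L692642 : sm gi N50622 = N48498 := ded_54_2 (flp_h L671000) (flp_i L387374) (flp_h L387166) L670678 L692635
theorem L692644 : sm gh N48454 = N50623 := rfl
theorem L692646 : sm gb N50623 = N48735 := ded_25_1 (flp_h L672896) (flp_b L670689) L692644
theorem L692648 : sm ge N50623 = N48455 := ded_43_1 (flp_h L670698) (flp_e L670693) L692644
theorem L692650 : sm gg N50623 = N50623 := ded_50_1 (flp_h L692644) L670695 L692644
theorem L692651 : sm gj N50623 = N48464 := ded_52_1 (flp_h L670768) (flp_j L670696) L692644
theorem L692653 : sm gi N50623 = N48501 := ded_54_2 (flp_h L671020) (flp_i L387389) (flp_h L387175) L670687 L692644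
theorem L692655 : sm gi N48456 = N50624 := rfl
theorem L692657 : sm ga N50624 = N48458 := ded_18_1 (flp_i L670722) L670705 L692655
theorem L692659 : sm gd N50624 = N48574 := ded_39_1 (flp_i L671596) (flp_d L670707) L692655
theorem L692661 : sm gg N50624 = N48465 := ded_51_1 (flp_i L670776) (flp_g L670709) L692655
theorem L692663 : sm gf N48457 = N50625 := rfl
theorem L692665 : sm gb N50625 = N48459 := ded_22_1 (flp_f L670730) (flp_b L670715) L692663
theorem L692667 : sm gd N50625 = N50625 := ded_35_1 (flp_f L692663) L670721 L692663
theorem L692668 : sm gh N50625 = N48504 := ded_47_2 (flp_f L671043) (flp_h L670719) L692663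
theorem L692670 : sm gi N48457 = N50626 := rfl
theorem L692672 : sm gb N50626 = N48460 := ded_26_1 (flp_i L670737) (flp_b L670715) L692670
theorem L692674 : sm gd N50626 = N50626 := ded_39_1 (flp_i L692670) L670721 L692670
theorem L692675 : sm ge N50626 = N48458 := ded_44_1 (flp_i L670722) L670713 L692670
theorem L692677 : sm gg N50626 = N48466 := ded_51_1 (flp_i L670783) (flp_g L670717) L692670
theorem L692679 : sm gh N48458 = N50627 := rfl
theorem L692681 : sm gb N50627 = N48461 := ded_25_1 (flp_h L670746) (flp_b L670724) L692679
theorem L692683 : sm gg N50627 = N48467 := ded_50_1 (flp_h L670791) (flp_g L670728) L692679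
theorem L692685 : sm gi N50627 = N48506 := ded_54_2 (flp_h L671059) (flp_i L387417) (flp_h L387192) L670722 L692679
theorem L692687 : sm gg N48459 = N50628 := rfl
theorem L692689 : sm gc N50628 = N48462 := ded_30_1 (flp_g L670754) (flp_c L670732) L692687
theorem L692691 : sm gd N50628 = N50628 := ded_36_1 (flp_g L692687) L670734 L692687
theorem L692692 : sm gh N50628 = N48507 := ded_50_2 (flp_g L671065) (flp_h L670735) L692687
theorem L692694 : sm gf N50628 = N48468 := ded_45_1 (flp_g L670798) (flp_f L387253) (flp_g L387198) L670730 L692687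
theorem L692696 : sm gi N48459 = N50629 := rfl
theorem L692698 : sm gc N50629 = N48463 := ded_33_1 (flp_i L670762) (flp_c L670732) L692696
theorem L692700 : sm gd N50629 = N50629 := ded_39_1 (flp_i L692696) L670734 L692696
theorem L692701 : sm gf N50629 = N48460 := ded_48_1 (flp_i L670737) L670730 L692696
theorem L692703 : sm gh N48460 = N50630 := rfl
theorem L692705 : sm gc N50630 = N48464 := ded_32_1 (flp_h L670768) (flp_c L670739) L692703
theorem L692707 : sm ge N50630 = N48461 := ded_43_1 (flp_h L670746) (flp_e L670742) L692703
theorem L692709 : sm gg N50630 = N48470 := ded_50_1 (flp_h L670813) (flp_g L670744) L692703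
theorem L692711 : sm gi N50630 = N48509 := ded_54_2 (flp_h L671081) (flp_i L387431) (flp_h L387200) L670737 L692703
theorem L692713 : sm gj N48462 = N50631 := rfl
theorem L692715 : sm gd N50631 = N48736 := ded_37_1 (flp_j L672899) (flp_d L670756) L692713
theorem L692717 : sm gf N50631 = N48471 := ded_46_1 (flp_j L670822) (flp_f L670760) L692713
theorem L692719 : sm gh N50631 = N48511 := ded_52_2 (flp_j L671095) (flp_h L670758) L692713
theorem L692721 : sm gi N48462 = N50632 := rfl
theorem L692723 : sm gd N50632 = N48737 := ded_39_1 (flp_i L672906) (flp_d L670756) L692721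
theorem L692725 : sm gf N50632 = N48472 := ded_48_1 (flp_i L670829) (flp_f L670760) L692721
theorem L692727 : sm gg N50632 = N48463 := ded_51_1 (flp_i L670762) L670754 L692721
theorem L692729 : sm gh N48463 = N50633 := rfl
theorem L692731 : sm gf N50633 = N48464 := ded_47_1 (flp_h L670768) (flp_f L670766) L692729
theorem L692733 : sm gi N50633 = N48513 := ded_54_2 (flp_h L671109) (flp_i L387453) (flp_h L387215) L670762 L692729
theorem L692735 : sm gh N48465 = N50634 := rfl
theorem L692737 : sm ga N50634 = N48467 := ded_17_1 (flp_h L670791) (flp_a L670778) L692735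
theorem L692739 : sm gj N50634 = N50634 := ded_52_1 (flp_h L692735) L670782 L692735
theorem L692740 : sm gi N50634 = N48515 := ded_54_2 (flp_h L671122) (flp_i L387472) (flp_h L387236) L670776 L692735
theorem L692742 : sm gh N48466 = N50635 := rfl
theorem L692744 : sm gb N50635 = N48470 := ded_25_1 (flp_h L670813) (flp_b L670785) L692742
theorem L692746 : sm ge N50635 = N48467 := ded_43_1 (flp_h L670791) (flp_e L670788) L692742
theorem L692748 : sm gj N50635 = N50635 := ded_52_1 (flp_h L692742) L670790 L692742
theorem L692749 : sm gi N50635 = N48518 := ded_54_2 (flp_h L671142) (flp_i L387486) (flp_h L387243) L670783 L692742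
theorem L692751 : sm gj N48468 = N50636 := rfl
theorem L692753 : sm gc N50636 = N48471 := ded_31_1 (flp_j L670822) (flp_c L670800) L692751
theorem L692755 : sm gd N50636 = N50636 := ded_37_1 (flp_j L692751) L670802 L692751
theorem L692756 : sm gh N50636 = N48520 := ded_52_2 (flp_j L671156) (flp_h L670803) L692751
theorem L692758 : sm gg N50636 = N50636 := ded_49_1 (flp_j L692751) (flp_g L670798) L387258 L670798 L692751
theorem L692759 : sm gi N48468 = N50637 := rfl
theorem L692761 : sm gc N50637 = N48472 := ded_33_1 (flp_i L670829) (flp_c L670800) L692759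
theorem L692763 : sm gd N50637 = N50637 := ded_39_1 (flp_i L692759) L670802 L692759
theorem L692764 : sm gg N50637 = N48469 := ded_51_1 (flp_i L670805) L670798 L692759
theorem L692766 : sm gh N48469 = N50638 := rfl
theorem L692768 : sm gc N50638 = N48473 := ded_32_1 (flp_h L670835) (flp_c L670807) L692766
theorem L692770 : sm gf N50638 = N48470 := ded_47_1 (flp_h L670813) (flp_f L670810) L692766
theorem L692772 : sm gj N50638 = N50638 := ded_52_1 (flp_h L692766) L670812 L692766
theorem L692773 : sm gi N50638 = N48522 := ded_54_2 (flp_h L671171) (flp_i L387506) (flp_h L387259) L670805 L692766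
theorem L692775 : sm gd N48470 = N50639 := rfl
theorem L692777 : sm gj N50639 = N50639 := ded_37_2 (flp_d L692775) L670819 L692775
theorem L692778 : sm gi N50639 = N48523 := ded_39_2 (flp_d L671178) (flp_i L670820) L692775
theorem L692780 : sm gh N50639 = N50639 := ded_38_2 (flp_d L692775) (flp_h L670813) L387265 L670813 L692775
theorem L692781 : sm gi N48471 = N50640 := rfl
theorem L692783 : sm gd N50640 = N48738 := ded_39_1 (flp_i L672913) (flp_d L670824) L692781
theorem L692785 : sm gg N50640 = N50640 := ded_51_1 (flp_i L692781) L670828 L692781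
theorem L692786 : sm gj N50640 = N48472 := ded_53_1 (flp_i L670829) L670822 L692781
theorem L692788 : sm gh N48472 = N50641 := rfl
theorem L692790 : sm gg N50641 = N48473 := ded_50_1 (flp_h L670835) (flp_g L670833) L692788
theorem L692792 : sm gi N50641 = N48526 := ded_54_2 (flp_h L671195) (flp_i L387532) (flp_h L387280) L670829 L692788
theorem L692794 : sm ge N48474 = N50642 := rfl
theorem L692796 : sm gc N50642 = N48475 := ded_28_1 (flp_e L670849) L670842 L692794
theorem L692798 : sm gg N50642 = N48478 := ded_41_2 (flp_e L670868) (flp_g L670845) L692794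
theorem L692800 : sm gi N48474 = N50643 := rfl
theorem L692802 : sm gc N50643 = N48476 := ded_33_1 (flp_i L670853) L670842 L692800
theorem L692804 : sm gd N50643 = N48530 := ded_39_1 (flp_i L671223) (flp_d L670847) L692800
theorem L692806 : sm gf N50643 = N50643 := ded_48_1 (flp_i L692800) L670844 L692800
theorem L692807 : sm gg N50643 = N48479 := ded_51_1 (flp_i L670874) (flp_g L670845) L692800
theorem L692809 : sm gf N48475 = N50644 := rfl
theorem L692811 : sm ge N50644 = N50644 := ded_40_1 (flp_f L692809) (flp_e L670849) L387298 L670849 L692809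
theorem L692812 : sm gi N48475 = N50645 := rfl
theorem L692814 : sm ge N50645 = N48476 := ded_44_1 (flp_i L670853) L670849 L692812
theorem L692816 : sm gg N50645 = N48481 := ded_51_1 (flp_i L670890) (flp_g L670851) L692812
theorem L692818 : sm gh N48476 = N50646 := rfl
theorem L692820 : sm gf N50646 = N50646 := ded_47_1 (flp_h L692818) L670857 L692818
theorem L692821 : sm gg N50646 = N48482 := ded_50_1 (flp_h L670896) (flp_g L670858) L692818
theorem L692823 : sm ge N48477 = N50647 := rfl
theorem L692825 : sm gb N50647 = N48478 := ded_21_1 (flp_e L670868) L670860 L692823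
theorem L692827 : sm gj N50647 = N48484 := ded_42_2 (flp_e L670908) (flp_j L670866) L692823
theorem L692829 : sm gd N50647 = N48577 := ded_34_1 (flp_e L671615) (flp_d L391505) (flp_e L629382) (flp_d L670862) L692823
theorem L692831 : sm gi N48477 = N50648 := rfl
theorem L692833 : sm gb N50648 = N48479 := ded_26_1 (flp_i L670874) L670860 L692831
theorem L692835 : sm gd N50648 = N48531 := ded_39_1 (flp_i L671230) (flp_d L670862) L692831
theorem L692837 : sm gf N50648 = N48495 := ded_48_1 (flp_i L670972) (flp_f L670864) L692831
theorem L692839 : sm gj N50648 = N48485 := ded_53_1 (flp_i L670912) (flp_j L670866) L692831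
theorem L692841 : sm gd N48478 = N50649 := rfl
theorem L692843 : sm gb N50649 = N48577 := ded_20_1 (flp_d L692829) L692825 L692841
theorem L692845 : sm gj N50649 = N48486 := ded_37_2 (flp_d L670920) (flp_j L670872) L692841
theorem L692847 : sm ge N50649 = N48532 := ded_34_2 (flp_d L671244) (flp_e L387707) (flp_d L387314) L670868 L692841
theorem L692849 : sm gf N48478 = N50650 := rfl
theorem L692851 : sm gc N50650 = N48480 := ded_29_1 (flp_f L670884) (flp_c L670870) L692849
theorem L692853 : sm gj N50650 = N48487 := ded_46_2 (flp_f L670924) (flp_j L670872) L692849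
theorem L692855 : sm ge N50650 = N48496 := ded_40_1 (flp_f L670981) (flp_e L387365) (flp_f L387310) L670868 L692849
theorem L692857 : sm gi N48478 = N50651 := rfl
theorem L692859 : sm gc N50651 = N48481 := ded_33_1 (flp_i L670890) (flp_c L670870) L692857
theorem L692861 : sm ge N50651 = N48479 := ded_44_1 (flp_i L670874) L670868 L692857
theorem L692863 : sm gj N50651 = N48488 := ded_53_1 (flp_i L670930) (flp_j L670872) L692857
theorem L692865 : sm gh N48479 = N50652 := rfl
theorem L692867 : sm gc N50652 = N48482 := ded_32_1 (flp_h L670896) (flp_c L670876) L692865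
theorem L692869 : sm gf N50652 = N48498 := ded_47_1 (flp_h L671000) (flp_f L670880) L692865
theorem L692871 : sm gj N50652 = N48489 := ded_52_1 (flp_h L670936) (flp_j L670882) L692865
theorem L692873 : sm gg N48480 = N50653 := rfl
theorem L692875 : sm ge N50653 = N48499 := ded_41_1 (flp_g L671007) (flp_e L670888) L692873
theorem L692877 : sm gi N48480 = N50654 := rfl
theorem L692879 : sm ge N50654 = N48500 := ded_44_1 (flp_i L671012) (flp_e L670888) L692877
theorem L692881 : sm gf N50654 = N48481 := ded_48_1 (flp_i L670890) L670884 L692877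
theorem L692883 : sm gj N50654 = N48491 := ded_53_1 (flp_i L670946) (flp_j L670886) L692877
theorem L692885 : sm gh N48481 = N50655 := rfl
theorem L692887 : sm ge N50655 = N48482 := ded_43_1 (flp_h L670896) (flp_e L670892) L692885
theorem L692889 : sm gj N50655 = N48492 := ded_52_1 (flp_h L670952) (flp_j L670894) L692885
theorem L692891 : sm ge N48483 = N50656 := rfl
theorem L692893 : sm ga N50656 = N48484 := ded_13_1 (flp_e L670908) L670902 L692891
theorem L692895 : sm gi N48483 = N50657 := rfl
theorem L692897 : sm ga N50657 = N48485 := ded_18_1 (flp_i L670912) L670902 L692895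
theorem L692899 : sm gd N50657 = N48535 := ded_39_1 (flp_i L671280) (flp_d L670904) L692895
theorem L692901 : sm gf N50657 = N48503 := ded_48_1 (flp_i L671035) (flp_f L670906) L692895
theorem L692903 : sm gd N48484 = N50658 := rfl
theorem L692905 : sm gb N50658 = N48486 := ded_20_1 (flp_d L670920) (flp_b L670910) L692903
theorem L692907 : sm gj N50658 = N48577 := ded_37_2 (flp_d L692829) L692827 L692903
theorem L692909 : sm ge N50658 = N48536 := ded_34_2 (flp_d L671288) (flp_e L387753) (flp_d L387330) L670908 L692903
theorem L692911 : sm gf N48484 = N50659 := rfl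
theorem L692913 : sm gb N50659 = N48487 := ded_22_1 (flp_f L670924) (flp_b L670910) L692911
theorem L692915 : sm ge N50659 = N48504 := ded_40_1 (flp_f L671043) (flp_e L387409) (flp_f L387332) L670908 L692911
theorem L692917 : sm gi N48484 = N50660 := rfl
theorem L692919 : sm gb N50660 = N48488 := ded_26_1 (flp_i L670930) (flp_b L670910) L692917
theorem L692921 : sm ge N50660 = N48485 := ded_44_1 (flp_i L670912) L670908 L692917
theorem L692923 : sm gh N48485 = N50661 := rfl
theorem L692925 : sm gb N50661 = N48489 := ded_25_1 (flp_h L670936) (flp_b L670914) L692923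
theorem L692927 : sm gf N50661 = N48506 := ded_47_1 (flp_h L671059) (flp_f L670918) L692923
theorem L692929 : sm gf N48486 = N50662 := rfl
theorem L692931 : sm gd N50662 = N48487 := ded_35_1 (flp_f L670924) L670920 L692929
theorem L692933 : sm ge N50662 = N48684 := ded_40_1 (flp_f L672505) L650545 (flp_f L387773) (flp_e L670922) L692929
theorem L692935 : sm gh N48486 = N50663 := rfl
theorem L692937 : sm ge N50663 = N48537 := ded_43_1 (flp_h L671296) (flp_e L670922) L692935
theorem L692939 : sm gi N48486 = N50664 := rfl
theorem L692941 : sm gd N50664 = N48488 := ded_39_1 (flp_i L670930) L670920 L692939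
theorem L692943 : sm ge N50664 = N48538 := ded_44_1 (flp_i L671302) (flp_e L670922) L692939
theorem L692945 : sm gg N48487 = N50665 := rfl
theorem L692947 : sm gc N50665 = N48490 := ded_30_1 (flp_g L670942) (flp_c L670926) L692945
theorem L692949 : sm ge N50665 = N48507 := ded_41_1 (flp_g L671065) (flp_e L670928) L692945
theorem L692951 : sm gi N48487 = N50666 := rfl
theorem L692953 : sm gc N50666 = N48491 := ded_33_1 (flp_i L670946) (flp_c L670926) L692951
theorem L692955 : sm ge N50666 = N48508 := ded_44_1 (flp_i L671073) (flp_e L670928) L692951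
theorem L692957 : sm gf N50666 = N48488 := ded_48_1 (flp_i L670930) L670924 L692951
theorem L692959 : sm gh N48488 = N50667 := rfl
theorem L692961 : sm gc N50667 = N48492 := ded_32_1 (flp_h L670952) (flp_c L670932) L692959
theorem L692963 : sm ge N50667 = N48489 := ded_43_1 (flp_h L670936) (flp_e L670934) L692959
theorem L692965 : sm gd N48489 = N50668 := rfl
theorem L692967 : sm gf N50668 = N48510 := ded_35_2 (flp_d L671089) (flp_f L670940) L692965
theorem L692969 : sm gh N50668 = N48539 := ded_38_2 (flp_d L671308) (flp_h L387783) (flp_d L387342) L670936 L692965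
theorem L692971 : sm gj N48490 = N50669 := rfl
theorem L692973 : sm ge N50669 = N48511 := ded_42_1 (flp_j L671095) (flp_e L670944) L692971
theorem L692975 : sm gi N48490 = N50670 := rfl
theorem L692977 : sm ge N50670 = N48512 := ded_44_1 (flp_i L671101) (flp_e L670944) L692975
theorem L692979 : sm gg N50670 = N48491 := ded_51_1 (flp_i L670946) L670942 L692975
theorem L692981 : sm gh N48491 = N50671 := rfl
theorem L692983 : sm ge N50671 = N48513 := ded_43_1 (flp_h L671109) (flp_e L670948) L692981
theorem L692985 : sm gf N50671 = N48492 := ded_47_1 (flp_h L670952) (flp_f L670950) L692981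
theorem L692987 : sm gd N48492 = N50672 := rfl
theorem L692989 : sm ge N48493 = N50673 := rfl
theorem L692991 : sm ga N50673 = N48494 := ded_13_1 (flp_e L670963) L670956 L692989
theorem L692993 : sm gg N50673 = N50673 := ded_41_2 (flp_e L692989) L670960 L692989
theorem L692994 : sm gj N50673 = N48502 := ded_42_2 (flp_e L671027) (flp_j L670961) L692989
theorem L692996 : sm gd N50673 = N48694 := ded_34_1 (flp_e L672585) L650593 (flp_e L387805) (flp_d L670958) L692989
theorem L692998 : sm gi N48493 = N50674 := rfl
theorem L693000 : sm ga N50674 = N48495 := ded_18_1 (flp_i L670972) L670956 L692998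
theorem L693002 : sm gd N50674 = N48540 := ded_39_1 (flp_i L671314) (flp_d L670958) L692998
theorem L693004 : sm gg N50674 = N50674 := ded_51_1 (flp_i L692998) L670960 L692998
theorem L693005 : sm gj N50674 = N48503 := ded_53_1 (flp_i L671035) (flp_j L670961) L692998
theorem L693007 : sm gf N48494 = N50675 := rfl
theorem L693009 : sm gb N50675 = N48496 := ded_22_1 (flp_f L670981) (flp_b L670965) L693007
theorem L693011 : sm gd N50675 = N48695 := ded_35_1 (flp_f L672594) (flp_d L670970) L693007
theorem L693013 : sm gj N50675 = N48504 := ded_46_2 (flp_f L671043) (flp_j L670968) L693007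
theorem L693015 : sm gi N48494 = N50676 := rfl
theorem L693017 : sm gb N50676 = N48497 := ded_26_1 (flp_i L670989) (flp_b L670965) L693015
theorem L693019 : sm gd N50676 = N48696 := ded_39_1 (flp_i L672604) (flp_d L670970) L693015
theorem L693021 : sm ge N50676 = N48495 := ded_44_1 (flp_i L670972) L670963 L693015
theorem L693023 : sm gg N50676 = N50676 := ded_51_1 (flp_i L693015) L670967 L693015
theorem L693024 : sm gj N50676 = N48505 := ded_53_1 (flp_i L671049) (flp_j L670968) L693015
theorem L693026 : sm gh N48495 = N50677 := rfl
theorem L693028 : sm gb N50677 = N48498 := ded_25_1 (flp_h L671000) (flp_b L670974) L693026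
theorem L693030 : sm gg N50677 = N50677 := ded_50_1 (flp_h L693026) L670978 L693026
theorem L693031 : sm gj N50677 = N48506 := ded_52_1 (flp_h L671059) (flp_j L670979) L693026
theorem L693033 : sm gd N50677 = N48726 := ded_38_1 (flp_h L672844) L650893 L649013 (flp_d L670976) L693026
theorem L693035 : sm gi N48496 = N50678 := rfl
theorem L693037 : sm gc N50678 = N48500 := ded_33_1 (flp_i L671012) (flp_c L670983) L693035
theorem L693039 : sm gd N50678 = N48697 := ded_39_1 (flp_i L672614) (flp_d L670985) L693035
theorem L693041 : sm gf N50678 = N48497 := ded_48_1 (flp_i L670989) L670981 L693035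
theorem L693043 : sm gj N50678 = N48508 := ded_53_1 (flp_i L671073) (flp_j L670987) L693035
theorem L693045 : sm gh N48497 = N50679 := rfl
theorem L693047 : sm gc N50679 = N48501 := ded_32_1 (flp_h L671020) (flp_c L670991) L693045
theorem L693049 : sm ge N50679 = N48498 := ded_43_1 (flp_h L671000) (flp_e L670995) L693045
theorem L693051 : sm gg N50679 = N50679 := ded_50_1 (flp_h L693045) L670997 L693045
theorem L693052 : sm gj N50679 = N48509 := ded_52_1 (flp_h L671081) (flp_j L670998) L693045
theorem L693054 : sm gd N48498 = N50680 := rfl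
theorem L693056 : sm gb N50680 = N48726 := ded_20_1 (flp_d L693033) L693028 L693054
theorem L693058 : sm gg N50680 = N50680 := ded_36_2 (flp_d L693054) L671004 L693054
theorem L693059 : sm gj N50680 = N48510 := ded_37_2 (flp_d L671089) (flp_j L671005) L693054
theorem L693061 : sm gh N50680 = N48541 := ded_38_2 (flp_d L671327) (flp_h L387823) (flp_d L387378) L671000 L693054
theorem L693063 : sm gj N48499 = N50681 := rfl
theorem L693065 : sm gd N50681 = N48527 := ded_37_1 (flp_j L671199) (flp_d L671009) L693063
theorem L693067 : sm gf N50681 = N50681 := ded_46_1 (flp_j L693063) L671011 L693063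
theorem L693068 : sm gg N50681 = N48511 := ded_49_1 (flp_j L671095) (flp_g L387447) (flp_j L387387) L671007 L693063
theorem L693070 : sm gi N48499 = N50682 := rfl
theorem L693072 : sm gd N50682 = N48528 := ded_39_1 (flp_i L671208) (flp_d L671009) L693070
theorem L693074 : sm gf N50682 = N50682 := ded_48_1 (flp_i L693070) L671011 L693070
theorem L693075 : sm gg N50682 = N48500 := ded_51_1 (flp_i L671012) L671007 L693070
theorem L693077 : sm gh N48500 = N50683 := rfl
theorem L693079 : sm gf N50683 = N48501 := ded_47_1 (flp_h L671020) (flp_f L671016) L693077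
theorem L693081 : sm gj N50683 = N48513 := ded_52_1 (flp_h L671109) (flp_j L671018) L693077
theorem L693083 : sm gf N48502 = N50684 := rfl
theorem L693085 : sm ga N50684 = N48504 := ded_14_1 (flp_f L671043) (flp_a L671029) L693083
theorem L693087 : sm gd N50684 = N48700 := ded_35_1 (flp_f L672640) (flp_d L671033) L693083
theorem L693089 : sm gi N48502 = N50685 := rfl
theorem L693091 : sm ga N50685 = N48505 := ded_18_1 (flp_i L671049) (flp_a L671029) L693089
theorem L693093 : sm gd N50685 = N48701 := ded_39_1 (flp_i L672646) (flp_d L671033) L693089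
theorem L693095 : sm ge N50685 = N48503 := ded_44_1 (flp_i L671035) L671027 L693089
theorem L693097 : sm gg N50685 = N48514 := ded_51_1 (flp_i L671113) (flp_g L671031) L693089
theorem L693099 : sm gh N48503 = N50686 := rfl
theorem L693101 : sm ga N50686 = N48506 := ded_17_1 (flp_h L671059) (flp_a L671037) L693099
theorem L693103 : sm gg N50686 = N48515 := ded_50_1 (flp_h L671122) (flp_g L671041) L693099
theorem L693105 : sm gg N48504 = N50687 := rfl
theorem L693107 : sm gb N50687 = N48507 := ded_23_1 (flp_g L671065) (flp_b L671045) L693105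
theorem L693109 : sm gd N50687 = N48703 := ded_36_1 (flp_g L672663) (flp_d L671047) L693105
theorem L693111 : sm gf N50687 = N48516 := ded_45_1 (flp_g L671127) (flp_f L387479) (flp_g L387413) L671043 L693105
theorem L693113 : sm gi N48504 = N50688 := rfl
theorem L693115 : sm gb N50688 = N48508 := ded_26_1 (flp_i L671073) (flp_b L671045) L693113
theorem L693117 : sm gd N50688 = N48704 := ded_39_1 (flp_i L672671) (flp_d L671047) L693113
theorem L693119 : sm gf N50688 = N48505 := ded_48_1 (flp_i L671049) L671043 L693113
theorem L693121 : sm gh N48505 = N50689 := rfl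
theorem L693123 : sm gb N50689 = N48509 := ded_25_1 (flp_h L671081) (flp_b L671051) L693121
theorem L693125 : sm ge N50689 = N48506 := ded_43_1 (flp_h L671059) (flp_e L671055) L693121
theorem L693127 : sm gg N50689 = N48518 := ded_50_1 (flp_h L671142) (flp_g L671057) L693121
theorem L693129 : sm gd N48506 = N50690 := rfl
theorem L693131 : sm gb N50690 = N48510 := ded_20_1 (flp_d L671089) (flp_b L671061) L693129
theorem L693133 : sm gg N50690 = N48519 := ded_36_2 (flp_d L671149) (flp_g L671063) L693129
theorem L693135 : sm gj N50690 = N48726 := ded_37_2 (flp_d L693033) L693031 L693129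
theorem L693137 : sm gh N50690 = N48543 := ded_38_2 (flp_d L671350) (flp_h L387844) (flp_d L387421) L671059 L693129
theorem L693139 : sm gj N48507 = N50691 := rfl
theorem L693141 : sm gc N50691 = N48511 := ded_31_1 (flp_j L671095) (flp_c L671067) L693139
theorem L693143 : sm gd N50691 = N48706 := ded_37_1 (flp_j L672688) (flp_d L671069) L693139
theorem L693145 : sm gf N50691 = N48520 := ded_46_1 (flp_j L671156) (flp_f L671071) L693139
theorem L693147 : sm gi N48507 = N50692 := rfl
theorem L693149 : sm gc N50692 = N48512 := ded_33_1 (flp_i L671101) (flp_c L671067) L693147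
theorem L693151 : sm gd N50692 = N48707 := ded_39_1 (flp_i L672695) (flp_d L671069) L693147
theorem L693153 : sm gf N50692 = N48521 := ded_48_1 (flp_i L671163) (flp_f L671071) L693147
theorem L693155 : sm gg N50692 = N48508 := ded_51_1 (flp_i L671073) L671065 L693147
theorem L693157 : sm gh N48508 = N50693 := rfl
theorem L693159 : sm gc N50693 = N48513 := ded_32_1 (flp_h L671109) (flp_c L671075) L693157
theorem L693161 : sm gf N50693 = N48509 := ded_47_1 (flp_h L671081) (flp_f L671079) L693157
theorem L693163 : sm gd N48509 = N50694 := rfl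
theorem L693165 : sm gg N50694 = N48523 := ded_36_2 (flp_d L671178) (flp_g L671087) L693163
theorem L693167 : sm gh N50694 = N48709 := ded_38_2 (flp_d L672710) (flp_h L650717) (flp_d L387435) L671081 L693163
theorem L693169 : sm ge N48510 = N50695 := rfl
theorem L693171 : sm gg N50695 = N48524 := ded_41_2 (flp_e L671183) (flp_g L671091) L693169
theorem L693173 : sm gh N50695 = N48544 := ded_43_2 (flp_e L671360) (flp_h L671093) L693169
theorem L693175 : sm gi N48511 = N50696 := rfl
theorem L693177 : sm gd N50696 = N48529 := ded_39_1 (flp_i L671215) (flp_d L671097) L693175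
theorem L693179 : sm gf N50696 = N48525 := ded_48_1 (flp_i L671188) (flp_f L671099) L693175
theorem L693181 : sm gj N50696 = N48512 := ded_53_1 (flp_i L671101) L671095 L693175
theorem L693183 : sm gh N48512 = N50697 := rfl
theorem L693185 : sm gf N50697 = N48526 := ded_47_1 (flp_h L671195) (flp_f L671105) L693183
theorem L693187 : sm gg N50697 = N48513 := ded_50_1 (flp_h L671109) (flp_g L671107) L693183
theorem L693189 : sm gh N48514 = N50698 := rfl
theorem L693191 : sm ga N50698 = N48518 := ded_17_1 (flp_h L671142) (flp_a L671115) L693189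
theorem L693193 : sm ge N50698 = N48515 := ded_43_1 (flp_h L671122) (flp_e L671119) L693189
theorem L693195 : sm gj N50698 = N50698 := ded_52_1 (flp_h L693189) L671121 L693189
theorem L693196 : sm gj N48516 = N50699 := rfl
theorem L693198 : sm ga N50699 = N48733 := ded_16_1 (flp_j L689162) L689154 L693196
theorem L693200 : sm gb N50699 = N48520 := ded_24_1 (flp_j L671156) (flp_b L671129) L693196
theorem L693202 : sm gd N50699 = N48716 := ded_37_1 (flp_j L672769) (flp_d L671131) L693196
theorem L693204 : sm gg N50699 = N50699 := ded_49_1 (flp_j L693196) (flp_g L671127) L387485 L671127 L693196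
theorem L693205 : sm gi N48516 = N50700 := rfl
theorem L693207 : sm gb N50700 = N48521 := ded_26_1 (flp_i L671163) (flp_b L671129) L693205
theorem L693209 : sm gd N50700 = N48717 := ded_39_1 (flp_i L672779) (flp_d L671131) L693205
theorem L693211 : sm gg N50700 = N48517 := ded_51_1 (flp_i L671133) L671127 L693205
theorem L693213 : sm gh N48517 = N50701 := rfl
theorem L693215 : sm gb N50701 = N48522 := ded_25_1 (flp_h L671171) (flp_b L671135) L693213
theorem L693217 : sm gf N50701 = N48518 := ded_47_1 (flp_h L671142) (flp_f L671139) L693213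
theorem L693219 : sm gj N50701 = N50701 := ded_52_1 (flp_h L693213) L671141 L693213
theorem L693220 : sm gd N48518 = N50702 := rfl
theorem L693222 : sm gb N50702 = N48523 := ded_20_1 (flp_d L671178) (flp_b L671144) L693220
theorem L693224 : sm gj N50702 = N50702 := ded_37_2 (flp_d L693220) L671148 L693220
theorem L693225 : sm gh N50702 = N48719 := ded_38_2 (flp_d L672797) (flp_h L650797) (flp_d L387490) L671142 L693220
theorem L693227 : sm gi N48520 = N50703 := rfl
theorem L693229 : sm gc N50703 = N48525 := ded_33_1 (flp_i L671188) (flp_c L671158) L693227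
theorem L693231 : sm gd N50703 = N48720 := ded_39_1 (flp_i L672803) (flp_d L671160) L693227
theorem L693233 : sm gg N50703 = N50703 := ded_51_1 (flp_i L693227) L671162 L693227
theorem L693234 : sm gj N50703 = N48521 := ded_53_1 (flp_i L671163) L671156 L693227
theorem L693236 : sm gh N48521 = N50704 := rfl
theorem L693238 : sm gc N50704 = N48526 := ded_32_1 (flp_h L671195) (flp_c L671165) L693236
theorem L693240 : sm gg N50704 = N48522 := ded_50_1 (flp_h L671171) (flp_g L671169) L693236
theorem L693242 : sm gd N48522 = N50705 := rfl
theorem L693244 : sm gf N50705 = N48523 := ded_35_2 (flp_d L671178) (flp_f L671175) L693242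
theorem L693246 : sm gj N50705 = N50705 := ded_37_2 (flp_d L693242) L671177 L693242
theorem L693247 : sm gh N50705 = N48722 := ded_38_2 (flp_d L672819) (flp_h L650829) (flp_d L387510) L671171 L693242
theorem L693249 : sm ge N48523 = N50706 := rfl
theorem L693251 : sm gj N50706 = N50706 := ded_42_2 (flp_e L693249) L671180 L693249
theorem L693252 : sm gh N50706 = N48723 := ded_43_2 (flp_e L672825) (flp_h L671181) L693249
theorem L693254 : sm gd N50706 = N48524 := ded_34_1 (flp_e L671183) (flp_d L387522) (flp_e L387519) L671178 L693249
theorem L693256 : sm gh N48525 = N50707 := rfl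
theorem L693258 : sm gg N50707 = N50707 := ded_50_1 (flp_h L693256) L671192 L693256
theorem L693259 : sm gj N50707 = N48526 := ded_52_1 (flp_h L671195) (flp_j L671193) L693256
theorem L693261 : sm gi N48527 = N50708 := rfl
theorem L693263 : sm gc N50708 = N48724 := ded_33_1 (flp_i L672831) (flp_c L671201) L693261
theorem L693265 : sm gf N50708 = N50708 := ded_48_1 (flp_i L693261) L671203 L693261
theorem L693266 : sm gg N50708 = N48529 := ded_51_1 (flp_i L671215) (flp_g L671206) L693261
theorem L693268 : sm gj N50708 = N48528 := ded_53_1 (flp_i L671208) L671199 L693261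
theorem L693270 : sm gi N48532 = N50709 := rfl
theorem L693272 : sm gb N50709 = N48539 := ded_26_1 L671312 (flp_b L671246) L693270
theorem L693274 : sm gd N50709 = N48533 := ded_39_1 (flp_i L671252) L671244 L693270
theorem L693276 : sm gf N50709 = N48543 := ded_48_1 L671358 (flp_f L671248) L693270
theorem L693278 : sm gj N50709 = N48538 := ded_53_1 (flp_i L671302) (flp_j L671250) L693270
theorem L693280 : sm gd N48534 = N50710 := rfl
theorem L693282 : sm gb N50710 = N48538 := ded_20_1 L671304 (flp_b L671268) L693280
theorem L693284 : sm gf N50710 = N48541 := ded_35_2 (flp_d L671327) (flp_f L671274) L693280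
theorem L693286 : sm gj N50710 = N48539 := ded_37_2 (flp_d L671308) (flp_j L671276) L693280
theorem L693288 : sm gi N50710 = N48536 := ded_39_2 (flp_d L671288) (flp_i L671278) L693280
theorem L693290 : sm gi N48537 = N50711 := rfl
theorem L693292 : sm gd N50711 = N48576 := ded_39_1 (flp_i L671610) (flp_d L671300) L693290
theorem L693294 : sm gf N50711 = N48725 := ded_48_1 (flp_i L672839) (flp_f L671298) L693290
theorem L693296 : sm gh N48538 = N50712 := rfl
theorem L693298 : sm gf N50712 = N48726 := ded_47_1 (flp_h L672844) (flp_f L671306) L693296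
theorem L693300 : sm ge N48539 = N50713 := rfl
theorem L693302 : sm gi N50713 = N48577 := ded_44_2 (flp_e L671615) (flp_i L671312) L693300
theorem L693304 : sm ge N48541 = N50714 := rfl
theorem L693306 : sm gb N50714 = N48686 := ded_21_1 L672519 (flp_b L671329) L693304
theorem L693308 : sm gg N50714 = N50714 := ded_41_2 (flp_e L693304) L671331 L693304
theorem L693309 : sm gj N50714 = N48544 := ded_42_2 (flp_e L671360) (flp_j L671332) L693304
theorem L693311 : sm gi N50714 = N48578 := ded_44_2 (flp_e L671617) (flp_i L671334) L693304
theorem L693313 : sm gd N50714 = N48682 := ded_34_1 L672487 L650535 L646670 L671327 L693304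
theorem L693315 : sm gf N48544 = N50715 := rfl
theorem L693317 : sm gd N50715 = N48727 := ded_35_1 (flp_f L672847) (flp_d L671366) L693315
theorem L693319 : sm gi N50715 = N48579 := ded_48_2 (flp_f L671626) (flp_i L671364) L693315
theorem L693321 : sm gh N48547 = N50716 := rfl
theorem L693323 : sm gb N50716 = N50716 := ded_25_1 (flp_h L693321) L671392 L693321
theorem L693324 : sm gf N50716 = N48740 := ded_47_1 (flp_h L672927) (flp_f L671395) L693321
theorem L693326 : sm gd N50716 = N48560 := ded_38_1 (flp_h L671489) L391008 (flp_h L389203) (flp_d L671393) L693321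
theorem L693328 : sm gi N50716 = N50716 := ded_54_2 (flp_h L693321) (flp_i L671390) L389195 L671390 L693321
theorem L693329 : sm gi N48550 = N50717 := rfl
theorem L693331 : sm ga N50717 = N48558 := ded_18_1 (flp_i L671475) (flp_a L671418) L693329
theorem L693333 : sm gc N50717 = N48551 := ded_33_1 (flp_i L671423) L671416 L693329
theorem L693335 : sm gf N50717 = N48741 := ded_48_1 (flp_i L672934) (flp_f L671420) L693329
theorem L693337 : sm gh N48551 = N50718 := rfl
theorem L693339 : sm ga N50718 = N48560 := ded_17_1 (flp_h L671489) (flp_a L671425) L693337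
theorem L693341 : sm gf N50718 = N48742 := ded_47_1 (flp_h L672942) (flp_f L671429) L693337
theorem L693343 : sm gi N50718 = N50718 := ded_54_2 (flp_h L693337) (flp_i L671423) L390469 L671423 L693337
theorem L693344 : sm gi N48552 = N50719 := rfl
theorem L693346 : sm ga N50719 = N48576 := ded_18_1 (flp_i L671610) (flp_a L671433) L693344
theorem L693348 : sm gc N50719 = N50719 := ded_33_1 (flp_i L693344) L671435 L693344
theorem L693349 : sm gf N50719 = N48728 := ded_48_1 (flp_i L672852) (flp_f L671436) L693344
theorem L693351 : sm gb N48553 = N50720 := rfl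
theorem L693353 : sm gf N50720 = N48713 := ded_22_2 L672744 (flp_f L671440) L693351
theorem L693355 : sm gg N50720 = N48700 := ded_23_2 (flp_b L688154) L688151 L693351
theorem L693357 : sm gj N50720 = N48556 := ded_24_2 (flp_b L671463) (flp_j L671442) L693351
theorem L693359 : sm gh N50720 = N50720 := ded_25_2 (flp_b L693351) L671444 L693351
theorem L693360 : sm ga N50720 = N48703 := ded_10_1 L672665 (flp_a L654410) L676040 (flp_a L676051) L693351
theorem L693362 : sm gc N50720 = N50720 := ded_19_2 (flp_b L693351) (flp_c L671438) L390978 L671438 L693351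
theorem L693363 : sm ge N48553 = N50721 := rfl
theorem L693365 : sm gc N50721 = N48554 := ded_28_1 (flp_e L671445) L671438 L693363
theorem L693367 : sm gj N50721 = N48557 := ded_42_2 (flp_e L671469) (flp_j L671442) L693363
theorem L693369 : sm gh N50721 = N50721 := ded_43_2 (flp_e L693363) L671444 L693363
theorem L693370 : sm gf N50721 = N50721 := ded_40_2 (flp_e L693363) L671440 L651230 (flp_f L671440) L693363
theorem L693371 : sm gi N48553 = N50722 := rfl
theorem L693373 : sm gc N50722 = N48555 := ded_33_1 (flp_i L671454) L671438 L693371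
theorem L693375 : sm gf N50722 = N48743 := ded_48_1 (flp_i L672949) (flp_f L671440) L693371
theorem L693377 : sm gj N50722 = N48558 := ded_53_1 (flp_i L671475) (flp_j L671442) L693371
theorem L693379 : sm gi N48554 = N50723 := rfl
theorem L693381 : sm gb N50723 = N50723 := ded_26_1 (flp_i L693379) L671447 L693379
theorem L693382 : sm gd N50723 = N48566 := ded_39_1 (flp_i L671536) (flp_d L671451) L693379
theorem L693384 : sm ge N50723 = N48555 := ded_44_1 (flp_i L671454) L671445 L693379
theorem L693386 : sm gf N50723 = N50723 := ded_48_1 (flp_i L693379) L671453 L693379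
theorem L693387 : sm gj N50723 = N48559 := ded_53_1 (flp_i L671481) (flp_j L671448) L693379
theorem L693389 : sm gh N48555 = N50724 := rfl
theorem L693391 : sm gb N50724 = N50724 := ded_25_1 (flp_h L693389) L671456 L693389
theorem L693392 : sm gf N50724 = N48744 := ded_47_1 (flp_h L672956) (flp_f L671459) L693389
theorem L693394 : sm gj N50724 = N48560 := ded_52_1 (flp_h L671489) (flp_j L671461) L693389
theorem L693396 : sm gi N50724 = N50724 := ded_54_2 (flp_h L693389) (flp_i L671454) L390983 L671454 L693389
theorem L693397 : sm ga N48556 = N50725 := rfl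
theorem L693399 : sm gc N50725 = N50725 := ded_11_2 (flp_a L693397) L671468 L693397
theorem L693400 : sm gf N50725 = N48716 := ded_14_2 L672771 (flp_f L671465) L693397
theorem L693402 : sm gj N50725 = N48703 := ded_16_2 (flp_a L693360) L693357 L693397
theorem L693404 : sm gh N50725 = N50725 := ded_17_2 (flp_a L693397) L671467 L693397
theorem L693405 : sm gb N50725 = N48706 := ded_10_2 (flp_a L676011) L676022 L671418 L671463 L693397
theorem L693407 : sm ge N48556 = N50726 := rfl
theorem L693409 : sm gb N50726 = N48557 := ded_21_1 (flp_e L671469) L671463 L693407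
theorem L693411 : sm gc N50726 = N50726 := ded_28_1 (flp_e L693407) L671468 L693407
theorem L693412 : sm gh N50726 = N50726 := ded_43_2 (flp_e L693407) L671467 L693407
theorem L693413 : sm gf N50726 = N50726 := ded_40_2 (flp_e L693407) L671465 L651244 (flp_f L671465) L693407
theorem L693414 : sm gi N48556 = N50727 := rfl
theorem L693416 : sm gb N50727 = N48558 := ded_26_1 (flp_i L671475) L671463 L693414
theorem L693418 : sm gc N50727 = N50727 := ded_33_1 (flp_i L693414) L671468 L693414
theorem L693419 : sm gf N50727 = N48745 := ded_48_1 (flp_i L672963) (flp_f L671465) L693414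
theorem L693421 : sm gd N48557 = N50728 := rfl
theorem L693423 : sm gf N50728 = N50728 := ded_35_2 (flp_d L693421) L671474 L693421
theorem L693424 : sm gc N50728 = N48570 := ded_27_1 (flp_d L671566) L391060 (flp_d L391002) (flp_c L671471) L693421
theorem L693426 : sm gi N48557 = N50729 := rfl
theorem L693428 : sm gc N50729 = N48559 := ded_33_1 (flp_i L671481) (flp_c L671471) L693426
theorem L693430 : sm ge N50729 = N48558 := ded_44_1 (flp_i L671475) L671469 L693426
theorem L693432 : sm gf N50729 = N50729 := ded_48_1 (flp_i L693426) L671474 L693426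
theorem L693433 : sm gh N48558 = N50730 := rfl
theorem L693435 : sm gc N50730 = N48560 := ded_32_1 (flp_h L671489) (flp_c L671477) L693433
theorem L693437 : sm gf N50730 = N48746 := ded_47_1 (flp_h L672970) (flp_f L671479) L693433
theorem L693439 : sm gi N50730 = N50730 := ded_54_2 (flp_h L693433) (flp_i L671475) L390997 L671475 L693433
theorem L693440 : sm gh N48559 = N50731 := rfl
theorem L693442 : sm gb N50731 = N50731 := ded_25_1 (flp_h L693440) L671483 L693440
theorem L693443 : sm ge N50731 = N48560 := ded_43_1 (flp_h L671489) (flp_e L671486) L693440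
theorem L693445 : sm gf N50731 = N50731 := ded_47_1 (flp_h L693440) L671488 L693440
theorem L693446 : sm gi N50731 = N50731 := ded_54_2 (flp_h L693440) (flp_i L671481) L391001 L671481 L693440
theorem L693447 : sm gi N48561 = N50732 := rfl
theorem L693449 : sm gc N50732 = N48562 := ded_33_1 (flp_i L671502) L671495 L693447
theorem L693451 : sm gf N50732 = N50732 := ded_48_1 (flp_i L693447) L671497 L693447
theorem L693452 : sm gg N50732 = N48565 := ded_51_1 (flp_i L671528) (flp_g L671498) L693447
theorem L693454 : sm gi N48563 = N50733 := rfl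
theorem L693456 : sm gb N50733 = N48565 := ded_26_1 (flp_i L671528) L671510 L693454
theorem L693458 : sm gc N50733 = N50733 := ded_33_1 (flp_i L693454) L671518 L693454
theorem L693459 : sm gf N50733 = N48573 := ded_48_1 (flp_i L671585) (flp_f L671512) L693454
theorem L693461 : sm gj N50733 = N48569 := ded_53_1 (flp_i L671559) (flp_j L671514) L693454
theorem L693463 : sm gh N50733 = N48576 := ded_54_1 (flp_i L671610) (flp_h L391485) (flp_i L646308) (flp_h L671516) L693454
theorem L693465 : sm gd N48564 = N50734 := rfl
theorem L693467 : sm gf N50734 = N50734 := ded_35_2 (flp_d L693465) L671527 L693465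
theorem L693468 : sm gj N50734 = N48570 := ded_37_2 (flp_d L671566) (flp_j L671523) L693465
theorem L693470 : sm gi N48564 = N50735 := rfl
theorem L693472 : sm gc N50735 = N48566 := ded_33_1 (flp_i L671536) (flp_c L671521) L693470
theorem L693474 : sm ge N50735 = N48565 := ded_44_1 (flp_i L671528) L671519 L693470
theorem L693476 : sm gf N50735 = N50735 := ded_48_1 (flp_i L693470) L671527 L693470
theorem L693477 : sm gj N50735 = N48571 := ded_53_1 (flp_i L671569) (flp_j L671523) L693470
theorem L693479 : sm gi N48567 = N50736 := rfl
theorem L693481 : sm ga N50736 = N48569 := ded_18_1 (flp_i L671559) L671544 L693479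
theorem L693483 : sm gc N50736 = N50736 := ded_33_1 (flp_i L693479) L671546 L693479
theorem L693484 : sm gf N50736 = N48574 := ded_48_1 (flp_i L671596) (flp_f L671547) L693479
theorem L693486 : sm gd N48568 = N50737 := rfl
theorem L693488 : sm gb N50737 = N48570 := ded_20_1 (flp_d L671566) (flp_b L671553) L693486
theorem L693490 : sm gf N50737 = N50737 := ded_35_2 (flp_d L693486) L671558 L693486
theorem L693491 : sm gi N48568 = N50738 := rfl
theorem L693493 : sm gb N50738 = N48571 := ded_26_1 (flp_i L671569) (flp_b L671553) L693491
theorem L693495 : sm gc N50738 = N50738 := ded_33_1 (flp_i L693491) L671555 L693491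
theorem L693496 : sm ge N50738 = N48569 := ded_44_1 (flp_i L671559) L671551 L693491
theorem L693498 : sm gf N50738 = N50738 := ded_48_1 (flp_i L693491) L671558 L693491
theorem L693499 : sm gh N48570 = N50739 := rfl
theorem L693501 : sm gf N50739 = N50739 := ded_47_1 (flp_h L693499) L671568 L693499
theorem L693502 : sm gd N50739 = N48575 := ded_38_1 (flp_h L671604) (flp_d L391241) (flp_h L391062) L671566 L693499
theorem L693504 : sm gi N48570 = N50740 := rfl
theorem L693506 : sm gd N50740 = N48571 := ded_39_1 (flp_i L671569) L671566 L693504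
theorem L693508 : sm gf N50740 = N50740 := ded_48_1 (flp_i L693504) L671568 L693504
theorem L693509 : sm gi N48572 = N50741 := rfl
theorem L693511 : sm ga N50741 = N48573 := ded_18_1 (flp_i L671585) L671576 L693509
theorem L693513 : sm gc N50741 = N50741 := ded_33_1 (flp_i L693509) L671578 L693509
theorem L693514 : sm ge N50741 = N50741 := ded_44_1 (flp_i L693509) L671579 L693509
theorem L693515 : sm gg N50741 = N50741 := ded_51_1 (flp_i L693509) L671580 L693509
theorem L693516 : sm gj N50741 = N48574 := ded_53_1 (flp_i L671596) (flp_j L671581) L693509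
theorem L693518 : sm gh N50741 = N48728 := ded_54_1 (flp_i L672852) (flp_h L650903) (flp_i L648503) (flp_h L671583) L693509
theorem L693520 : sm gi N48575 = N50742 := rfl
theorem L693522 : sm gc N50742 = N50742 := ded_33_1 (flp_i L693520) L671606 L693520
theorem L693523 : sm ge N50742 = N48576 := ded_44_1 (flp_i L671610) (flp_e L671607) L693520
theorem L693525 : sm gf N50742 = N50742 := ded_48_1 (flp_i L693520) L671609 L693520
theorem L693526 : sm gf N48577 = N50743 := rfl
theorem L693528 : sm ge N50743 = N48579 := ded_40_1 (flp_f L671626) (flp_e L391559) (flp_f L391507) L671615 L693526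
theorem L693530 : sm gf N48578 = N50744 := rfl
theorem L693532 : sm gb N50744 = N48684 := ded_22_1 (flp_f L672505) (flp_b L671619) L693530
theorem L693534 : sm gd N50744 = N48681 := ded_35_1 (flp_f L672472) (flp_d L671624) L693530
theorem L693536 : sm gj N50744 = N48579 := ded_46_2 (flp_f L671626) (flp_j L671622) L693530
theorem L693538 : sm ge N48580 = N50745 := rfl
theorem L693540 : sm ga N50745 = N48587 := ded_13_1 (flp_e L671692) (flp_a L671632) L693538
theorem L693542 : sm gc N50745 = N50745 := ded_28_1 (flp_e L693538) L671638 L693538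
theorem L693543 : sm gj N50745 = N48606 := ded_42_2 (flp_e L671858) (flp_j L671635) L693538
theorem L693545 : sm gi N50745 = N50745 := ded_44_2 (flp_e L693538) L671637 L693538
theorem L693546 : sm gd N48583 = N50746 := rfl
theorem L693548 : sm gb N50746 = N48592 := ded_20_1 (flp_d L671736) (flp_b L671659) L693546
theorem L693550 : sm gf N50746 = N48600 := ded_35_2 L690280 L690275 L693546
theorem L693552 : sm gg N50746 = N50746 := ded_36_2 (flp_d L693546) L671663 L693546
theorem L693553 : sm gj N50746 = N48654 := ded_37_2 L673068 L673065 L693546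
theorem L693555 : sm gi N50746 = N50746 := ded_39_2 (flp_d L693546) L671664 L693546
theorem L693556 : sm ge N50746 = N50746 := ded_34_2 (flp_d L693546) L671661 L649505 (flp_e L671661) L693546
theorem L693557 : sm gh N50746 = N50746 := ded_38_2 (flp_d L693546) (flp_h L671657) L649494 L671657 L693546
theorem L693558 : sm gd N48585 = N50747 := rfl
theorem L693560 : sm ga N50747 = N48586 := ded_12_1 (flp_d L671684) (flp_a L671676) L693558
theorem L693562 : sm gf N50747 = N50747 := ded_35_2 (flp_d L693558) L671680 L693558
theorem L693563 : sm gj N50747 = N48633 := ded_37_2 (flp_d L672048) (flp_j L671681) L693558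
theorem L693565 : sm gi N50747 = N50747 := ded_39_2 (flp_d L693558) L671683 L693558
theorem L693566 : sm gc N48586 = N50748 := rfl
theorem L693568 : sm gf N50748 = N50748 := ded_29_2 (flp_c L693566) L671688 L693566
theorem L693569 : sm gj N50748 = N48634 := ded_31_2 (flp_c L672054) (flp_j L671689) L693566
theorem L693571 : sm gi N50748 = N50748 := ded_33_2 (flp_c L693566) L671691 L693566
theorem L693572 : sm gb N50748 = N50748 := ded_19_1 (flp_c L693566) L671686 L649557 (flp_b L671686) L693566
theorem L693573 : sm gd N50748 = N48599 := ded_27_2 (flp_c L671802) (flp_d L649668) (flp_c L649545) L671684 L693566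
theorem L693575 : sm ge N48586 = N50749 := rfl
theorem L693577 : sm gb N50749 = N48587 := ded_21_1 (flp_e L671692) (flp_b L671686) L693575
theorem L693579 : sm gj N50749 = N48635 := ded_42_2 (flp_e L672061) (flp_j L671689) L693575
theorem L693581 : sm gi N50749 = N50749 := ded_44_2 (flp_e L693575) L671691 L693575
theorem L693582 : sm gf N48587 = N50750 := rfl
theorem L693584 : sm gc N50750 = N50750 := ded_29_1 (flp_f L693582) L671694 L693582
theorem L693585 : sm gj N50750 = N48636 := ded_46_2 (flp_f L672066) (flp_j L671695) L693582
theorem L693587 : sm gi N50750 = N50750 := ded_48_2 (flp_f L693582) L671697 L693582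
theorem L693588 : sm ge N50750 = N50750 := ded_40_1 (flp_f L693582) (flp_e L671692) L649553 L671692 L693582
theorem L693589 : sm gd N48588 = N50751 := rfl
theorem L693591 : sm ga N50751 = N50751 := ded_12_1 (flp_d L693589) L671700 L693589
theorem L693592 : sm gf N50751 = N48594 := ded_35_2 (flp_d L671757) (flp_f L671703) L693589
theorem L693594 : sm gj N50751 = N48591 := ded_37_2 (flp_d L671726) (flp_j L671705) L693589
theorem L693596 : sm gi N50751 = N50751 := ded_39_2 (flp_d L693589) L671707 L693589
theorem L693597 : sm gc N50751 = N50751 := ded_27_1 (flp_d L693589) L671701 L649583 (flp_c L671701) L693589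
theorem L693598 : sm ge N50751 = N50751 := ded_34_2 (flp_d L693589) (flp_e L680030) L680038 L680030 L693589
theorem L693599 : sm gh N50751 = N50751 := ded_38_2 (flp_d L693589) (flp_h L671698) L649563 L671698 L693589
theorem L693600 : sm gd N48589 = N50752 := rfl
theorem L693602 : sm gb N50752 = N48591 := ded_20_1 (flp_d L671726) (flp_b L671710) L693600
theorem L693604 : sm gf N50752 = N48596 := ded_35_2 (flp_d L671775) (flp_f L671712) L693600
theorem L693606 : sm gg N50752 = N50752 := ded_36_2 (flp_d L693600) L671714 L693600
theorem L693607 : sm gi N50752 = N50752 := ded_39_2 (flp_d L693600) L671715 L693600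
theorem L693608 : sm ge N50752 = N50752 := ded_34_2 (flp_d L693600) (flp_e L678336) L678341 L678336 L693600
theorem L693609 : sm gh N50752 = N50752 := ded_38_2 (flp_d L693600) (flp_h L671708) L649589 L671708 L693600
theorem L693610 : sm gd N48593 = N50753 := rfl
theorem L693612 : sm ga N50753 = N48653 := ded_12_1 L680184 L680172 L693610
theorem L693614 : sm gb N50753 = N48594 := ded_20_1 (flp_d L671757) (flp_b L671750) L693610
theorem L693616 : sm gg N50753 = N48645 := ded_36_2 (flp_d L672139) (flp_g L671752) L693610
theorem L693618 : sm gj N50753 = N48596 := ded_37_2 (flp_d L671775) (flp_j L671754) L693610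
theorem L693620 : sm gi N50753 = N50753 := ded_39_2 (flp_d L693610) L671756 L693610
theorem L693621 : sm gc N50753 = N48652 := ded_27_1 L673158 L673151 (flp_d L674843) L674835 L693610
theorem L693623 : sm ge N50753 = N48651 := ded_34_2 L680401 L680397 L681607 (flp_e L681620) L693610
theorem L693625 : sm gh N50753 = N50753 := ded_38_2 (flp_d L693610) (flp_h L671748) L649621 L671748 L693610
theorem L693626 : sm gd N48595 = N50754 := rfl
theorem L693628 : sm ga N50754 = N48596 := ded_12_1 (flp_d L671775) (flp_a L671769) L693626
theorem L693630 : sm gb N50754 = N50754 := ded_20_1 (flp_d L693626) L671771 L693626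
theorem L693631 : sm gg N50754 = N48598 := ded_36_2 (flp_d L671792) (flp_g L671772) L693626
theorem L693633 : sm gj N50754 = N48653 := ded_37_2 L680184 L680181 L693626
theorem L693635 : sm gi N50754 = N50754 := ded_39_2 (flp_d L693626) L671774 L693626
theorem L693636 : sm gh N50754 = N50754 := ded_38_2 (flp_d L693626) (flp_h L671767) L649641 L671767 L693626
theorem L693637 : sm gc N48600 = N50754 := ded_31_3 L693633 L672202 (flp_j L671814)
theorem L693639 : sm ge N48599 = N50754 := ded_42_3 L693633 (flp_e L672199) (flp_j L671805)
theorem L693641 : sm gc N48596 = N50755 := rfl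
theorem L693643 : sm ga N50755 = N48600 := ded_11_1 L693637 L693628 L693641
theorem L693645 : sm gg N50755 = N48599 := ded_30_2 (flp_c L671802) (flp_g L671779) L693641
theorem L693647 : sm gj N50755 = N48652 := ded_31_2 (flp_c L693621) L693618 L693641
theorem L693649 : sm gh N50755 = N50755 := ded_32_2 (flp_c L693641) L671782 L693641
theorem L693650 : sm gi N50755 = N50755 := ded_33_2 (flp_c L693641) L671781 L693641
theorem L693651 : sm gb N50755 = N50755 := ded_19_1 (flp_c L693641) L671777 L649657 (flp_b L671777) L693641
theorem L693652 : sm ge N48598 = N50755 := ded_13_0 L693643 (flp_e L671810) (flp_a L671794)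
theorem L693654 : sm ge N48596 = N50756 := rfl
theorem L693656 : sm ga N50756 = N48599 := ded_13_1 L693639 L693628 L693654
theorem L693658 : sm gb N50756 = N48597 := ded_21_1 (flp_e L671783) (flp_b L671777) L693654
theorem L693660 : sm gc N50756 = N48598 := ded_28_1 L693652 (flp_c L693641) L693654
theorem L693662 : sm gg N50756 = N48600 := ded_41_2 (flp_e L671810) (flp_g L671779) L693654
theorem L693664 : sm gj N50756 = N48651 := ded_42_2 (flp_e L693623) L693618 L693654
theorem L693666 : sm gh N50756 = N50756 := ded_43_2 (flp_e L693654) L671782 L693654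
theorem L693667 : sm gi N50756 = N50756 := ded_44_2 (flp_e L693654) L671781 L693654
theorem L693668 : sm gf N50756 = N50756 := ded_40_2 (flp_e L693654) (flp_f L693604) L693608 L693604 L693654
theorem L693669 : sm ge N48603 = N50757 := rfl
theorem L693671 : sm ga N50757 = N48632 := ded_13_1 (flp_e L672042) (flp_a L671837) L693669
theorem L693673 : sm gc N50757 = N50757 := ded_28_1 (flp_e L693669) L671842 L693669
theorem L693674 : sm gg N50757 = N48606 := ded_41_2 (flp_e L671858) (flp_g L671839) L693669
theorem L693676 : sm gi N50757 = N50757 := ded_44_2 (flp_e L693669) L671841 L693669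
theorem L693677 : sm gi N48607 = N50758 := rfl
theorem L693679 : sm gb N50758 = N48610 := ded_26_1 (flp_i L671884) (flp_b L671866) L693677
theorem L693681 : sm gc N50758 = N50758 := ded_33_1 (flp_i L693677) L671868 L693677
theorem L693682 : sm gf N50758 = N48608 := ded_48_1 (flp_i L671869) L671864 L693677
theorem L693684 : sm gi N48609 = N50759 := rfl
theorem L693686 : sm gc N50759 = N48611 := ded_33_1 (flp_i L671890) (flp_c L671880) L693684
theorem L693688 : sm gf N50759 = N48619 := ded_48_1 (flp_i L671951) (flp_f L671882) L693684
theorem L693690 : sm gg N50759 = N48610 := ded_51_1 (flp_i L671884) L671878 L693684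
theorem L693692 : sm gi N48613 = N50760 := rfl
theorem L693694 : sm ga N50760 = N48616 := ded_18_1 (flp_i L671929) (flp_a L671912) L693692
theorem L693696 : sm gc N50760 = N50760 := ded_33_1 (flp_i L693692) L671914 L693692
theorem L693697 : sm ge N50760 = N50760 := ded_44_1 (flp_i L693692) L671915 L693692
theorem L693698 : sm gf N50760 = N48614 := ded_48_1 (flp_i L671916) L671910 L693692
theorem L693700 : sm gh N48614 = N50761 := rfl
theorem L693702 : sm ga N50761 = N48617 := ded_17_1 (flp_h L671937) (flp_a L671918) L693700
theorem L693704 : sm gc N50761 = N50761 := ded_32_1 (flp_h L693700) L671920 L693700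
theorem L693705 : sm ge N50761 = N48615 := ded_43_1 (flp_h L671923) (flp_e L671921) L693700
theorem L693707 : sm gd N48617 = N50762 := rfl
theorem L693709 : sm gb N50762 = N48621 := ded_20_1 (flp_d L671965) (flp_b L671939) L693707
theorem L693711 : sm ge N48621 = N50763 := rfl
theorem L693713 : sm gd N50763 = N48622 := ded_34_1 (flp_e L671967) (flp_d L649903) (flp_e L649901) L671965 L693711
theorem L693715 : sm gi N48623 = N50764 := rfl
theorem L693717 : sm gb N50764 = N48627 := ded_26_1 (flp_i L672002) (flp_b L671974) L693715
theorem L693719 : sm gd N50764 = N48624 := ded_39_1 (flp_i L671977) L671972 L693715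
theorem L693721 : sm gg N50764 = N50764 := ded_51_1 (flp_i L693715) L671976 L693715
theorem L693722 : sm gh N48624 = N50765 := rfl
theorem L693724 : sm gb N50765 = N48628 := ded_25_1 (flp_h L672009) (flp_b L671979) L693722
theorem L693726 : sm gc N50765 = N48641 := ded_32_1 (flp_h L672107) (flp_c L671981) L693722
theorem L693728 : sm ge N50765 = N48625 := ded_43_1 (flp_h L671986) (flp_e L671983) L693722
theorem L693730 : sm gg N50765 = N50765 := ded_50_1 (flp_h L693722) L671985 L693722
theorem L693731 : sm gi N50765 = N50765 := ded_54_2 (flp_h L693722) (flp_i L671977) L649973 L671977 L693722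
theorem L693732 : sm gi N48626 = N50766 := rfl
theorem L693734 : sm gc N50766 = N48725 := ded_33_1 (flp_i L672839) (flp_c L671998) L693732
theorem L693736 : sm gd N50766 = N50766 := ded_39_1 (flp_i L693732) L672001 L693732
theorem L693737 : sm gg N50766 = N50766 := ded_51_1 (flp_i L693732) L672000 L693732
theorem L693738 : sm gh N48627 = N50767 := rfl
theorem L693740 : sm gc N50767 = N48726 := ded_32_1 (flp_h L672844) (flp_c L672004) L693738
theorem L693742 : sm gg N50767 = N50767 := ded_50_1 (flp_h L693738) L672008 L693738
theorem L693743 : sm gd N48628 = N50768 := rfl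
theorem L693745 : sm gg N50768 = N50768 := ded_36_2 (flp_d L693743) L672015 L693743
theorem L693746 : sm gi N50768 = N50768 := ded_39_2 (flp_d L693743) L672016 L693743
theorem L693747 : sm gd N48630 = N50769 := rfl
theorem L693749 : sm ga N50769 = N48631 := ded_12_1 (flp_d L672035) (flp_a L672028) L693747
theorem L693751 : sm gg N50769 = N48633 := ded_36_2 (flp_d L672048) (flp_g L672032) L693747
theorem L693753 : sm gi N50769 = N50769 := ded_39_2 (flp_d L693747) L672034 L693747
theorem L693754 : sm gc N48631 = N50770 := rfl
theorem L693756 : sm gg N50770 = N48634 := ded_30_2 (flp_c L672054) (flp_g L672039) L693754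
theorem L693758 : sm gi N50770 = N50770 := ded_33_2 (flp_c L693754) L672041 L693754
theorem L693759 : sm gb N50770 = N50770 := ded_19_1 (flp_c L693754) L672037 L650048 (flp_b L672037) L693754
theorem L693760 : sm gd N50770 = N48648 := ded_27_2 (flp_c L672164) (flp_d L650166) (flp_c L650038) L672035 L693754
theorem L693762 : sm ge N48631 = N50771 := rfl
theorem L693764 : sm gb N50771 = N48632 := ded_21_1 (flp_e L672042) (flp_b L672037) L693762
theorem L693766 : sm gg N50771 = N48635 := ded_41_2 (flp_e L672061) (flp_g L672039) L693762
theorem L693768 : sm gi N50771 = N50771 := ded_44_2 (flp_e L693762) L672041 L693762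
theorem L693769 : sm gf N48632 = N50772 := rfl
theorem L693771 : sm gc N50772 = N50772 := ded_29_1 (flp_f L693769) L672044 L693769
theorem L693772 : sm gi N50772 = N50772 := ded_48_2 (flp_f L693769) L672047 L693769
theorem L693773 : sm gg N48636 = N50773 := rfl
theorem L693775 : sm gc N50773 = N50773 := ded_30_1 (flp_g L693773) L672068 L693773
theorem L693776 : sm ge N50773 = N50773 := ded_41_1 (flp_g L693773) L672070 L693773
theorem L693777 : sm gi N50773 = N50773 := ded_51_2 (flp_g L693773) L672069 L693773
theorem L693778 : sm gd N48637 = N50774 := rfl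
theorem L693780 : sm gb N50774 = N48638 := ded_20_1 (flp_d L672080) (flp_b L672073) L693778
theorem L693782 : sm gf N50774 = N48645 := ded_35_2 (flp_d L672139) (flp_f L672075) L693778
theorem L693784 : sm gj N50774 = N48642 := ded_37_2 (flp_d L672115) (flp_j L672077) L693778
theorem L693786 : sm gi N50774 = N50774 := ded_39_2 (flp_d L693778) L672079 L693778
theorem L693787 : sm gh N50774 = N50774 := ded_38_2 (flp_d L693778) (flp_h L672071) L650071 L672071 L693778
theorem L693788 : sm gh N48639 = N50775 := rfl
theorem L693790 : sm ga N50775 = N48641 := ded_17_1 (flp_h L672107) (flp_a L672092) L693788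
theorem L693792 : sm gb N50775 = N50775 := ded_25_1 (flp_h L693788) L672094 L693788
theorem L693793 : sm ge N50775 = N48640 := ded_43_1 (flp_h L672098) (flp_e L672095) L693788
theorem L693795 : sm gg N50775 = N50775 := ded_50_1 (flp_h L693788) L672097 L693788
theorem L693796 : sm gi N50775 = N50775 := ded_54_2 (flp_h L693788) (flp_i L672090) L650092 L672090 L693788
theorem L693797 : sm gd N48640 = N50776 := rfl
theorem L693799 : sm ga N50776 = N48642 := ded_12_1 (flp_d L672115) (flp_a L672100) L693797
theorem L693801 : sm gb N50776 = N50776 := ded_20_1 (flp_d L693797) L672102 L693797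
theorem L693802 : sm gf N50776 = N48647 := ded_35_2 (flp_d L672155) (flp_f L672103) L693797
theorem L693804 : sm gg N50776 = N50776 := ded_36_2 (flp_d L693797) L672105 L693797
theorem L693805 : sm gi N50776 = N50776 := ded_39_2 (flp_d L693797) L672106 L693797
theorem L693806 : sm gh N50776 = N50776 := ded_38_2 (flp_d L693797) (flp_h L672098) L650098 L672098 L693797
theorem L693807 : sm gc N48642 = N50777 := rfl
theorem L693809 : sm gf N50777 = N48648 := ded_29_2 (flp_c L672164) (flp_f L672119) L693807
theorem L693811 : sm gg N50777 = N50777 := ded_30_2 (flp_c L693807) L672121 L693807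
theorem L693812 : sm gh N50777 = N50777 := ded_32_2 (flp_c L693807) L672123 L693807
theorem L693813 : sm gi N50777 = N50777 := ded_33_2 (flp_c L693807) L672122 L693807
theorem L693814 : sm gb N50777 = N50777 := ded_19_1 (flp_c L693807) L672117 L650133 (flp_b L672117) L693807
theorem L693815 : sm ge N48642 = N50778 := rfl
theorem L693817 : sm gb N50778 = N48643 := ded_21_1 (flp_e L672124) (flp_b L672117) L693815
theorem L693819 : sm gg N50778 = N50778 := ded_41_2 (flp_e L693815) L672121 L693815
theorem L693820 : sm gh N50778 = N50778 := ded_43_2 (flp_e L693815) L672123 L693815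
theorem L693821 : sm gi N50778 = N50778 := ded_44_2 (flp_e L693815) L672122 L693815
theorem L693822 : sm gd N48644 = N50779 := rfl
theorem L693824 : sm ga N50779 = N48645 := ded_12_1 (flp_d L672139) (flp_a L672133) L693822
theorem L693826 : sm gb N50779 = N50779 := ded_20_1 (flp_d L693822) L672135 L693822
theorem L693827 : sm gg N50779 = N48653 := ded_36_2 L680184 L680179 L693822
theorem L693829 : sm gj N50779 = N48647 := ded_37_2 (flp_d L672155) (flp_j L672136) L693822
theorem L693831 : sm gi N50779 = N50779 := ded_39_2 (flp_d L693822) L672138 L693822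
theorem L693832 : sm gh N50779 = N50779 := ded_38_2 (flp_d L693822) (flp_h L672131) L650140 L672131 L693822
theorem L693833 : sm gc N48649 = N50779 := ded_30_3 L693827 L672202 (flp_g L672175)
theorem L693835 : sm ge N48648 = N50779 := ded_41_3 L693827 (flp_e L672199) (flp_g L672166)
theorem L693837 : sm gc N48645 = N50780 := rfl
theorem L693839 : sm ga N50780 = N48649 := ded_11_1 L693833 L693824 L693837
theorem L693841 : sm gg N50780 = N48652 := ded_30_2 (flp_c L693621) L693616 L693837
theorem L693843 : sm gj N50780 = N48648 := ded_31_2 (flp_c L672164) (flp_j L672143) L693837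
theorem L693845 : sm gh N50780 = N50780 := ded_32_2 (flp_c L693837) L672146 L693837
theorem L693846 : sm gi N50780 = N50780 := ded_33_2 (flp_c L693837) L672145 L693837
theorem L693847 : sm gb N50780 = N50780 := ded_19_1 (flp_c L693837) L672141 L650156 (flp_b L672141) L693837
theorem L693848 : sm ge N48647 = N50780 := ded_13_0 L693839 (flp_e L672171) (flp_a L672157)
theorem L693850 : sm ge N48645 = N50781 := rfl
theorem L693852 : sm ga N50781 = N48648 := ded_13_1 L693835 L693824 L693850
theorem L693854 : sm gb N50781 = N48646 := ded_21_1 (flp_e L672147) (flp_b L672141) L693850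
theorem L693856 : sm gc N50781 = N48647 := ded_28_1 L693848 (flp_c L693837) L693850
theorem L693858 : sm gg N50781 = N48651 := ded_41_2 (flp_e L693623) L693616 L693850
theorem L693860 : sm gj N50781 = N48649 := ded_42_2 (flp_e L672171) (flp_j L672143) L693850
theorem L693862 : sm gh N50781 = N50781 := ded_43_2 (flp_e L693850) L672146 L693850
theorem L693863 : sm gi N50781 = N50781 := ded_44_2 (flp_e L693850) L672145 L693850
theorem L693864 : sm gf N48646 = N50782 := rfl
theorem L693866 : sm ga N50782 = N50782 := ded_14_1 (flp_f L693864) L672149 L693864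
theorem L693867 : sm gc N50782 = N50782 := ded_29_1 (flp_f L693864) L672150 L693864
theorem L693868 : sm gj N50782 = N48650 := ded_46_2 (flp_f L672179) (flp_j L672151) L693864
theorem L693870 : sm gh N50782 = N50782 := ded_47_2 (flp_f L693864) L672153 L693864
theorem L693871 : sm gi N50782 = N50782 := ded_48_2 (flp_f L693864) L672154 L693864
theorem L693872 : sm gg N50782 = N50782 := ded_45_2 (flp_f L693864) (flp_g L680409) L680408 L680409 L693864
theorem L693873 : sm gf N48649 = N50783 := rfl
theorem L693875 : sm gb N50783 = N48650 := ded_22_1 (flp_f L672179) (flp_b L672173) L693873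
theorem L693877 : sm gh N50783 = N50783 := ded_47_2 (flp_f L693873) L672177 L693873
theorem L693878 : sm gi N50783 = N50783 := ded_48_2 (flp_f L693873) L672178 L693873
theorem L693879 : sm gi N48656 = N50784 := rfl
theorem L693881 : sm ga N50784 = N48657 := ded_18_1 (flp_i L672233) L672221 L693879
theorem L693883 : sm gb N50784 = N48676 := ded_26_1 L672428 (flp_b L672231) L693879
theorem L693885 : sm gd N50784 = N48669 := ded_39_1 (flp_i L672352) (flp_d L672223) L693879
theorem L693887 : sm gf N50784 = N48662 := ded_48_1 (flp_i L672283) (flp_f L672225) L693879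
theorem L693889 : sm gg N50784 = N50784 := ded_51_1 (flp_i L693879) L672227 L693879
theorem L693890 : sm gj N50784 = N48677 := ded_53_1 L672437 (flp_j L672228) L693879
theorem L693892 : sm gh N48657 = N50785 := rfl
theorem L693894 : sm gb N50785 = N48658 := ded_25_1 (flp_h L672242) (flp_b L672235) L693892
theorem L693896 : sm gf N50785 = N48663 := ded_47_1 (flp_h L672293) (flp_f L672239) L693892
theorem L693898 : sm gg N50785 = N50785 := ded_50_1 (flp_h L693892) L672241 L693892
theorem L693899 : sm gi N50785 = N50785 := ded_54_2 (flp_h L693892) (flp_i L672233) L650216 L672233 L693892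
theorem L693900 : sm gd N48658 = N50786 := rfl
theorem L693902 : sm ga N50786 = N48690 := ded_12_1 (flp_d L672546) (flp_a L672244) L693900
theorem L693904 : sm gf N50786 = N48664 := ded_35_2 (flp_d L672300) (flp_f L672248) L693900
theorem L693906 : sm gg N50786 = N50786 := ded_36_2 (flp_d L693900) L672250 L693900
theorem L693907 : sm gj N50786 = N48702 := ded_37_2 (flp_d L673413) L673411 L693900
theorem L693909 : sm gi N50786 = N50786 := ded_39_2 (flp_d L693900) L672251 L693900
theorem L693910 : sm gc N50786 = N50786 := ded_27_1 (flp_d L693900) L672246 L650235 (flp_c L672246) L693900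
theorem L693911 : sm gh N50786 = N48675 := ded_38_2 (flp_d L672407) (flp_h L650387) (flp_d L650223) L672242 L693900
theorem L693913 : sm gi N48659 = N50787 := rfl
theorem L693915 : sm ga N50787 = N48660 := ded_18_1 (flp_i L672264) L672252 L693913
theorem L693917 : sm gb N50787 = N48675 := ded_26_1 L672416 (flp_b L672262) L693913
theorem L693919 : sm gd N50787 = N48672 := ded_39_1 L672391 (flp_d L672254) L693913
theorem L693921 : sm gf N50787 = N48677 := ded_48_1 L672437 (flp_f L672256) L693913
theorem L693923 : sm gg N50787 = N50787 := ded_51_1 (flp_i L693913) L672258 L693913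
theorem L693924 : sm gj N50787 = N48662 := ded_53_1 (flp_i L672283) (flp_j L672259) L693913
theorem L693926 : sm gh N48660 = N50788 := rfl
theorem L693928 : sm gb N50788 = N48661 := ded_25_1 (flp_h L672273) (flp_b L672266) L693926
theorem L693930 : sm gg N50788 = N50788 := ded_50_1 (flp_h L693926) L672270 L693926
theorem L693931 : sm gj N50788 = N48663 := ded_52_1 (flp_h L672293) (flp_j L672271) L693926
theorem L693933 : sm gi N50788 = N50788 := ded_54_2 (flp_h L693926) (flp_i L672264) L650244 L672264 L693926
theorem L693934 : sm gd N48661 = N50789 := rfl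
theorem L693936 : sm ga N50789 = N48683 := ded_12_1 L672502 (flp_a L672275) L693934
theorem L693938 : sm gf N50789 = N48702 := ded_35_2 (flp_d L673413) L673407 L693934
theorem L693940 : sm gg N50789 = N50789 := ded_36_2 (flp_d L693934) L672279 L693934
theorem L693941 : sm gj N50789 = N48664 := ded_37_2 (flp_d L672300) (flp_j L672280) L693934
theorem L693943 : sm gi N50789 = N50789 := ded_39_2 (flp_d L693934) L672282 L693934
theorem L693944 : sm gc N50789 = N50789 := ded_27_1 (flp_d L693934) L672277 L650263 (flp_c L672277) L693934
theorem L693945 : sm gh N50789 = N48676 := ded_38_2 (flp_d L672419) (flp_h L650420) (flp_d L650251) L672273 L693934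
theorem L693947 : sm gh N48662 = N50790 := rfl
theorem L693949 : sm ga N50790 = N48663 := ded_17_1 (flp_h L672293) (flp_a L672285) L693947
theorem L693951 : sm gb N50790 = N48702 := ded_25_1 (flp_h L672655) (flp_b L672287) L693947
theorem L693953 : sm gg N50790 = N48665 := ded_50_1 (flp_h L672310) (flp_g L672291) L693947
theorem L693955 : sm gi N50790 = N50790 := ded_54_2 (flp_h L693947) (flp_i L672283) L650271 L672283 L693947
theorem L693956 : sm gd N48663 = N50791 := rfl
theorem L693958 : sm gb N50791 = N48664 := ded_20_1 (flp_d L672300) (flp_b L672295) L693956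
theorem L693960 : sm gg N50791 = N48666 := ded_36_2 (flp_d L672319) (flp_g L672297) L693956
theorem L693962 : sm gi N50791 = N50791 := ded_39_2 (flp_d L693956) L672299 L693956
theorem L693963 : sm gh N50791 = N48677 := ded_38_2 (flp_d L672431) (flp_h L650442) (flp_d L650278) L672293 L693956
theorem L693965 : sm ge N48664 = N50792 := rfl
theorem L693967 : sm ga N50792 = N48710 := ded_13_1 (flp_e L672715) (flp_a L672302) L693965
theorem L693969 : sm gc N50792 = N50792 := ded_28_1 (flp_e L693965) L672307 L693965
theorem L693970 : sm gg N50792 = N48667 := ded_41_2 (flp_e L672328) (flp_g L672304) L693965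
theorem L693972 : sm gh N50792 = N48678 := ded_43_2 (flp_e L672439) (flp_h L672308) L693965
theorem L693974 : sm gi N50792 = N50792 := ded_44_2 (flp_e L693965) L672306 L693965
theorem L693975 : sm gi N48670 = N50793 := rfl
theorem L693977 : sm gb N50793 = N48674 := ded_26_1 (flp_i L672400) (flp_b L672368) L693975
theorem L693979 : sm gd N50793 = N48671 := ded_39_1 (flp_i L672371) L672366 L693975
theorem L693981 : sm gg N50793 = N50793 := ded_51_1 (flp_i L693975) L672370 L693975
theorem L693982 : sm gi N48673 = N50794 := rfl
theorem L693984 : sm ga N50794 = N48725 := ded_18_1 (flp_i L672839) (flp_a L672395) L693982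
theorem L693986 : sm gd N50794 = N48728 := ded_39_1 (flp_i L672852) (flp_d L672398) L693982
theorem L693988 : sm gg N50794 = N50794 := ded_51_1 (flp_i L693982) L672397 L693982
theorem L693989 : sm gh N48674 = N50795 := rfl
theorem L693991 : sm ga N50795 = N48726 := ded_17_1 (flp_h L672844) (flp_a L672402) L693989
theorem L693993 : sm gg N50795 = N50795 := ded_50_1 (flp_h L693989) L672406 L693989
theorem L693994 : sm ge N48675 = N50796 := rfl
theorem L693996 : sm ga N50796 = N48696 := ded_13_1 L672609 (flp_a L672409) L693994
theorem L693998 : sm gc N50796 = N50796 := ded_28_1 (flp_e L693994) L672418 L693994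
theorem L693999 : sm gg N50796 = N50796 := ded_41_2 (flp_e L693994) L672413 L693994
theorem L694000 : sm gj N50796 = N48701 := ded_42_2 L672651 (flp_j L672414) L693994
theorem L694002 : sm gi N50796 = N48694 := ded_44_2 (flp_e L672585) (flp_i L672416) L693994
theorem L694004 : sm ge N48676 = N50797 := rfl
theorem L694006 : sm ga N50797 = N48682 := ded_13_1 L672487 (flp_a L672421) L694004
theorem L694008 : sm gc N50797 = N50797 := ded_28_1 (flp_e L694004) L672430 L694004
theorem L694009 : sm gg N50797 = N50797 := ded_41_2 (flp_e L694004) L672425 L694004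
theorem L694010 : sm gj N50797 = N48678 := ded_42_2 (flp_e L672439) (flp_j L672426) L694004
theorem L694012 : sm gi N50797 = N48680 := ded_44_2 (flp_e L672463) (flp_i L672428) L694004
theorem L694014 : sm gf N48678 = N50798 := rfl
theorem L694016 : sm ga N50798 = N48727 := ded_14_1 (flp_f L672847) (flp_a L672441) L694014
theorem L694018 : sm gc N50798 = N50798 := ded_29_1 (flp_f L694014) L672443 L694014
theorem L694019 : sm gi N50798 = N48729 := ded_48_2 (flp_f L672859) (flp_i L672446) L694014
theorem L694021 : sm gf N48680 = N50799 := rfl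
theorem L694023 : sm ga N50799 = N48681 := ded_14_1 (flp_f L672472) (flp_a L672465) L694021
theorem L694025 : sm gc N50799 = N50799 := ded_29_1 (flp_f L694021) L672467 L694021
theorem L694026 : sm gj N50799 = N48729 := ded_46_2 (flp_f L672859) (flp_j L672469) L694021
theorem L694028 : sm gh N50799 = N50799 := ded_47_2 (flp_f L694021) L672471 L694021
theorem L694029 : sm ge N50799 = N48700 := ded_40_1 (flp_f L672640) (flp_e L650664) (flp_f L650515) L672463 L694021
theorem L694031 : sm gg N48681 = N50800 := rfl
theorem L694033 : sm gb N50800 = N48687 := ded_23_1 (flp_g L672522) (flp_b L672474) L694031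
theorem L694035 : sm gc N50800 = N50800 := ded_30_1 (flp_g L694031) L672476 L694031
theorem L694036 : sm ge N50800 = N48703 := ded_41_1 (flp_g L672663) (flp_e L672480) L694031
theorem L694038 : sm gh N50800 = N50800 := ded_50_2 (flp_g L694031) L672479 L694031
theorem L694039 : sm gf N50800 = N50800 := ded_45_1 (flp_g L694031) (flp_f L672472) L650526 L672472 L694031
theorem L694040 : sm gi N48681 = N50801 := rfl
theorem L694042 : sm gb N50801 = N48688 := ded_26_1 (flp_i L672530) (flp_b L672474) L694040
theorem L694044 : sm gc N50801 = N50801 := ded_33_1 (flp_i L694040) L672476 L694040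
theorem L694045 : sm ge N50801 = N48704 := ded_44_1 (flp_i L672671) (flp_e L672480) L694040
theorem L694047 : sm gf N50801 = N48682 := ded_48_1 (flp_i L672482) L672472 L694040
theorem L694049 : sm gj N50801 = N48727 := ded_53_1 L672850 (flp_j L672477) L694040
theorem L694051 : sm gh N48682 = N50802 := rfl
theorem L694053 : sm gb N50802 = N48689 := ded_25_1 (flp_h L672538) (flp_b L672484) L694051
theorem L694055 : sm gc N50802 = N50802 := ded_32_1 (flp_h L694051) L672486 L694051
theorem L694056 : sm ge N50802 = N48683 := ded_43_1 (flp_h L672492) (flp_e L672487) L694051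
theorem L694058 : sm gg N50802 = N50802 := ded_50_1 (flp_h L694051) L672489 L694051
theorem L694059 : sm gj N50802 = N48710 := ded_52_1 L672720 (flp_j L672490) L694051
theorem L694061 : sm gi N50802 = N50802 := ded_54_2 (flp_h L694051) (flp_i L672482) L650529 L672482 L694051
theorem L694062 : sm gg N48684 = N50803 := rfl
theorem L694064 : sm gd N50803 = N48687 := ded_36_1 (flp_g L672522) (flp_d L672507) L694062
theorem L694066 : sm gf N50803 = N50803 := ded_45_1 (flp_g L694062) (flp_f L672505) L650544 L672505 L694062
theorem L694067 : sm gh N48684 = N50804 := rfl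
theorem L694069 : sm gf N50804 = N48685 := ded_47_1 (flp_h L672509) L672505 L694067
theorem L694071 : sm gd N50804 = N50804 := ded_38_1 (flp_h L694067) L672507 L650551 (flp_d L672507) L694067
theorem L694072 : sm gi N48684 = N50805 := rfl
theorem L694074 : sm gd N50805 = N48688 := ded_39_1 (flp_i L672530) (flp_d L672507) L694072
theorem L694076 : sm gf N50805 = N48686 := ded_48_1 (flp_i L672515) L672505 L694072
theorem L694078 : sm gi N48685 = N50806 := rfl
theorem L694080 : sm gd N50806 = N50806 := ded_39_1 (flp_i L694078) L672514 L694078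
theorem L694081 : sm ge N50806 = N48725 := ded_44_1 (flp_i L672839) (flp_e L672511) L694078
theorem L694083 : sm gg N50806 = N50806 := ded_51_1 (flp_i L694078) L672513 L694078
theorem L694084 : sm gh N48686 = N50807 := rfl
theorem L694086 : sm ge N50807 = N48726 := ded_43_1 (flp_h L672844) (flp_e L672519) L694084
theorem L694088 : sm gg N50807 = N50807 := ded_50_1 (flp_h L694084) L672521 L694084
theorem L694089 : sm gi N48687 = N50808 := rfl
theorem L694091 : sm gc N50808 = N48691 := ded_33_1 (flp_i L672559) (flp_c L672524) L694089
theorem L694093 : sm ge N50808 = N48707 := ded_44_1 (flp_i L672695) (flp_e L672526) L694089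
theorem L694095 : sm gf N50808 = N50808 := ded_48_1 (flp_i L694089) L672529 L694089
theorem L694096 : sm gg N50808 = N48688 := ded_51_1 (flp_i L672530) L672522 L694089
theorem L694098 : sm gh N48688 = N50809 := rfl
theorem L694100 : sm gc N50809 = N48692 := ded_32_1 (flp_h L672567) (flp_c L672532) L694098
theorem L694102 : sm ge N50809 = N48708 := ded_43_1 (flp_h L672703) (flp_e L672534) L694098
theorem L694104 : sm gf N50809 = N48689 := ded_47_1 (flp_h L672538) (flp_f L672536) L694098
theorem L694106 : sm gi N50809 = N50809 := ded_54_2 (flp_h L694098) (flp_i L672530) L650551 L672530 L694098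
theorem L694107 : sm gd N48689 = N50810 := rfl
theorem L694109 : sm gg N50810 = N50810 := ded_36_2 (flp_d L694107) L672544 L694107
theorem L694110 : sm gi N50810 = N50810 := ded_39_2 (flp_d L694107) L672545 L694107
theorem L694111 : sm ge N48690 = N50811 := rfl
theorem L694113 : sm gb N50811 = N48698 := ded_21_1 L672626 (flp_b L672548) L694111
theorem L694115 : sm gc N50811 = N50811 := ded_28_1 (flp_e L694111) L672556 L694111
theorem L694116 : sm gg N50811 = N50811 := ded_41_2 (flp_e L694111) L672552 L694111
theorem L694117 : sm gj N50811 = N48705 := ded_42_2 L672683 (flp_j L672553) L694111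
theorem L694119 : sm gh N50811 = N48696 := ded_43_2 L672609 (flp_h L672557) L694111
theorem L694121 : sm gi N50811 = N50811 := ded_44_2 (flp_e L694111) L672555 L694111
theorem L694122 : sm gh N48691 = N50812 := rfl
theorem L694124 : sm gb N50812 = N50812 := ded_25_1 (flp_h L694122) L672561 L694122
theorem L694125 : sm ge N50812 = N48712 := ded_43_1 (flp_h L672732) (flp_e L672562) L694122
theorem L694127 : sm gf N50812 = N50812 := ded_47_1 (flp_h L694122) L672564 L694122
theorem L694128 : sm gg N50812 = N48692 := ded_50_1 (flp_h L672567) (flp_g L672565) L694122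
theorem L694130 : sm gi N50812 = N50812 := ded_54_2 (flp_h L694122) (flp_i L672559) L650574 L672559 L694122
theorem L694131 : sm gd N48692 = N50813 := rfl
theorem L694133 : sm gb N50813 = N50813 := ded_20_1 (flp_d L694131) L672569 L694131
theorem L694134 : sm gf N50813 = N48693 := ded_35_2 (flp_d L672575) (flp_f L672572) L694131
theorem L694136 : sm gj N50813 = N48712 := ded_37_2 (flp_d L677155) L677153 L694131
theorem L694138 : sm gi N50813 = N50813 := ded_39_2 (flp_d L694131) L672574 L694131
theorem L694139 : sm gh N50813 = N48711 := ded_38_2 L672726 (flp_h L655358) L655350 L672567 L694131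
theorem L694141 : sm gc N48693 = N50814 := rfl
theorem L694143 : sm ge N50814 = N50814 := ded_28_2 (flp_c L694141) L672582 L694141
theorem L694144 : sm gg N50814 = N50814 := ded_30_2 (flp_c L694141) L672578 L694141
theorem L694145 : sm gj N50814 = N48721 := ded_31_2 L672813 (flp_j L672579) L694141
theorem L694147 : sm gh N50814 = N48720 := ded_32_2 L672805 (flp_h L672583) L694141
theorem L694149 : sm gi N50814 = N50814 := ded_33_2 (flp_c L694141) L672581 L694141
theorem L694150 : sm gf N48694 = N50815 := rfl
theorem L694152 : sm ga N50815 = N48695 := ded_14_1 (flp_f L672594) (flp_a L672587) L694150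
theorem L694154 : sm gc N50815 = N50815 := ded_29_1 (flp_f L694150) L672589 L694150
theorem L694155 : sm gj N50815 = N48700 := ded_46_2 (flp_f L672640) (flp_j L672591) L694150
theorem L694157 : sm gh N50815 = N50815 := ded_47_2 (flp_f L694150) L672593 L694150
theorem L694158 : sm ge N50815 = N48729 := ded_40_1 (flp_f L672859) (flp_e L650917) (flp_f L650595) L672585 L694150
theorem L694160 : sm gi N48695 = N50816 := rfl
theorem L694162 : sm gb N50816 = N48697 := ded_26_1 (flp_i L672614) (flp_b L672596) L694160
theorem L694164 : sm gc N50816 = N50816 := ded_33_1 (flp_i L694160) L672598 L694160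
theorem L694165 : sm ge N50816 = N48727 := ded_44_1 L672850 (flp_e L672602) L694160
theorem L694167 : sm gf N50816 = N48696 := ded_48_1 (flp_i L672604) L672594 L694160
theorem L694169 : sm gj N50816 = N48704 := ded_53_1 (flp_i L672671) (flp_j L672599) L694160
theorem L694171 : sm gh N48697 = N50817 := rfl
theorem L694173 : sm gc N50817 = N48699 := ded_32_1 (flp_h L672632) (flp_c L672616) L694171
theorem L694175 : sm gf N50817 = N48698 := ded_47_1 (flp_h L672622) (flp_f L672618) L694171
theorem L694177 : sm gj N50817 = N48708 := ded_52_1 (flp_h L672703) (flp_j L672620) L694171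
theorem L694179 : sm gi N50817 = N50817 := ded_54_2 (flp_h L694171) (flp_i L672614) L650628 L672614 L694171
theorem L694180 : sm gd N48698 = N50818 := rfl
theorem L694182 : sm gg N50818 = N50818 := ded_36_2 (flp_d L694180) L672628 L694180
theorem L694183 : sm gj N50818 = N48709 := ded_37_2 (flp_d L672710) (flp_j L672629) L694180
theorem L694185 : sm gi N50818 = N50818 := ded_39_2 (flp_d L694180) L672631 L694180
theorem L694186 : sm gi N48700 = N50819 := rfl
theorem L694188 : sm ga N50819 = N48704 := ded_18_1 (flp_i L672671) (flp_a L672642) L694186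
theorem L694190 : sm gc N50819 = N50819 := ded_33_1 (flp_i L694186) L672644 L694186
theorem L694191 : sm gf N50819 = N48701 := ded_48_1 (flp_i L672646) L672640 L694186
theorem L694193 : sm gh N48701 = N50820 := rfl
theorem L694195 : sm ga N50820 = N48705 := ded_17_1 (flp_h L672678) (flp_a L672648) L694193
theorem L694197 : sm gc N50820 = N50820 := ded_32_1 (flp_h L694193) L672650 L694193
theorem L694198 : sm ge N50820 = N48702 := ded_43_1 (flp_h L672655) (flp_e L672651) L694193
theorem L694200 : sm gg N50820 = N48715 := ded_50_1 (flp_h L672760) (flp_g L672653) L694193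
theorem L694202 : sm gi N50820 = N50820 := ded_54_2 (flp_h L694193) (flp_i L672646) L650671 L672646 L694193
theorem L694203 : sm gi N48703 = N50821 := rfl
theorem L694205 : sm gb N50821 = N48707 := ded_26_1 (flp_i L672695) (flp_b L672665) L694203
theorem L694207 : sm gc N50821 = N50821 := ded_33_1 (flp_i L694203) L672667 L694203
theorem L694208 : sm gf N50821 = N48717 := ded_48_1 (flp_i L672779) (flp_f L672669) L694203
theorem L694210 : sm gg N50821 = N48704 := ded_51_1 (flp_i L672671) L672663 L694203
theorem L694212 : sm gh N48704 = N50822 := rfl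
theorem L694214 : sm gb N50822 = N48708 := ded_25_1 (flp_h L672703) (flp_b L672673) L694212
theorem L694216 : sm gc N50822 = N50822 := ded_32_1 (flp_h L694212) L672675 L694212
theorem L694217 : sm gf N50822 = N48705 := ded_47_1 (flp_h L672678) (flp_f L672676) L694212
theorem L694219 : sm gi N50822 = N50822 := ded_54_2 (flp_h L694212) (flp_i L672671) L650686 L672671 L694212
theorem L694220 : sm gd N48705 = N50823 := rfl
theorem L694222 : sm gb N50823 = N48709 := ded_20_1 (flp_d L672710) (flp_b L672680) L694220
theorem L694224 : sm gg N50823 = N48719 := ded_36_2 (flp_d L672797) (flp_g L672685) L694220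
theorem L694226 : sm gi N50823 = N50823 := ded_39_2 (flp_d L694220) L672687 L694220
theorem L694227 : sm gi N48706 = N50824 := rfl
theorem L694229 : sm gc N50824 = N48711 := ded_33_1 (flp_i L672723) (flp_c L672690) L694227
theorem L694231 : sm gf N50824 = N48720 := ded_48_1 (flp_i L672803) (flp_f L672692) L694227
theorem L694233 : sm gj N50824 = N48707 := ded_53_1 (flp_i L672695) L672688 L694227
theorem L694235 : sm gh N48707 = N50825 := rfl
theorem L694237 : sm gc N50825 = N48712 := ded_32_1 (flp_h L672732) (flp_c L672697) L694235
theorem L694239 : sm gf N50825 = N48721 := ded_47_1 (flp_h L672811) (flp_f L672699) L694235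
theorem L694241 : sm gg N50825 = N48708 := ded_50_1 (flp_h L672703) (flp_g L672701) L694235
theorem L694243 : sm gi N50825 = N50825 := ded_54_2 (flp_h L694235) (flp_i L672695) L650708 L672695 L694235
theorem L694244 : sm gd N48708 = N50826 := rfl
theorem L694246 : sm gf N50826 = N48709 := ded_35_2 (flp_d L672710) (flp_f L672707) L694244
theorem L694248 : sm gi N50826 = N50826 := ded_39_2 (flp_d L694244) L672709 L694244
theorem L694249 : sm ge N48709 = N50827 := rfl
theorem L694251 : sm gg N50827 = N48723 := ded_41_2 (flp_e L672825) (flp_g L672712) L694249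
theorem L694253 : sm gi N50827 = N50827 := ded_44_2 (flp_e L694249) L672714 L694249
theorem L694254 : sm gd N50827 = N48710 := ded_34_1 (flp_e L672715) (flp_d L650726) (flp_e L650721) L672710 L694249
theorem L694256 : sm gf N48710 = N50828 := rfl
theorem L694258 : sm gc N50828 = N50828 := ded_29_1 (flp_f L694256) L672717 L694256
theorem L694259 : sm gh N50828 = N48727 := ded_47_2 (flp_f L672847) (flp_h L672720) L694256
theorem L694261 : sm gi N50828 = N50828 := ded_48_2 (flp_f L694256) L672722 L694256
theorem L694262 : sm gi N48713 = N50829 := rfl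
theorem L694264 : sm ga N50829 = N48717 := ded_18_1 (flp_i L672779) (flp_a L672742) L694262
theorem L694266 : sm gb N50829 = N48743 := ded_26_1 (flp_i L672949) (flp_b L672744) L694262
theorem L694268 : sm gc N50829 = N50829 := ded_33_1 (flp_i L694262) L672746 L694262
theorem L694269 : sm ge N50829 = N50829 := ded_44_1 (flp_i L694262) L672747 L694262
theorem L694270 : sm gg N50829 = N48714 := ded_51_1 (flp_i L672751) L672740 L694262
theorem L694272 : sm gj N50829 = N48745 := ded_53_1 (flp_i L672963) L672749 L694262
theorem L694274 : sm gh N48714 = N50830 := rfl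
theorem L694276 : sm ga N50830 = N48718 := ded_17_1 (flp_h L672787) (flp_a L672753) L694274
theorem L694278 : sm gc N50830 = N50830 := ded_32_1 (flp_h L694274) L672755 L694274
theorem L694279 : sm ge N50830 = N50830 := ded_43_1 (flp_h L694274) L672756 L694274
theorem L694280 : sm gf N50830 = N48715 := ded_47_1 (flp_h L672760) (flp_f L672757) L694274
theorem L694282 : sm gj N50830 = N50830 := ded_52_1 (flp_h L694274) L672759 L694274
theorem L694283 : sm gi N50830 = N50830 := ded_54_2 (flp_h L694274) (flp_i L672751) L650763 L672751 L694274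
theorem L694284 : sm gi N48716 = N50831 := rfl
theorem L694286 : sm ga N50831 = N48745 := ded_18_1 (flp_i L672963) (flp_a L672771) L694284
theorem L694288 : sm gb N50831 = N48720 := ded_26_1 (flp_i L672803) (flp_b L672773) L694284
theorem L694290 : sm gc N50831 = N50831 := ded_33_1 (flp_i L694284) L672775 L694284
theorem L694291 : sm ge N50831 = N50831 := ded_44_1 (flp_i L694284) L672776 L694284
theorem L694292 : sm gg N50831 = N50831 := ded_51_1 (flp_i L694284) L672778 L694284
theorem L694293 : sm gj N50831 = N48717 := ded_53_1 (flp_i L672779) L672769 L694284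
theorem L694295 : sm gh N48717 = N50832 := rfl
theorem L694297 : sm gb N50832 = N48721 := ded_25_1 (flp_h L672811) (flp_b L672781) L694295
theorem L694299 : sm gc N50832 = N50832 := ded_32_1 (flp_h L694295) L672783 L694295
theorem L694300 : sm ge N50832 = N50832 := ded_43_1 (flp_h L694295) L672784 L694295
theorem L694301 : sm gg N50832 = N48718 := ded_50_1 (flp_h L672787) (flp_g L672785) L694295
theorem L694303 : sm gi N50832 = N50832 := ded_54_2 (flp_h L694295) (flp_i L672779) L650787 L672779 L694295
theorem L694304 : sm gd N48718 = N50833 := rfl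
theorem L694306 : sm gb N50833 = N48722 := ded_20_1 (flp_d L672819) (flp_b L672789) L694304
theorem L694308 : sm gf N50833 = N48719 := ded_35_2 (flp_d L672797) (flp_f L672793) L694304
theorem L694310 : sm gj N50833 = N50833 := ded_37_2 (flp_d L694304) L672795 L694304
theorem L694311 : sm gi N50833 = N50833 := ded_39_2 (flp_d L694304) L672796 L694304
theorem L694312 : sm gc N48719 = N50834 := rfl
theorem L694314 : sm ge N50834 = N48722 := ded_28_2 (flp_c L677183) L677185 L694312
theorem L694316 : sm gj N50834 = N50834 := ded_31_2 (flp_c L694312) L672801 L694312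
theorem L694317 : sm gi N50834 = N50834 := ded_33_2 (flp_c L694312) L672802 L694312
theorem L694318 : sm gd N50834 = N50834 := ded_27_2 (flp_c L694312) (flp_d L672797) L650801 L672797 L694312
theorem L694319 : sm gd N48721 = N50835 := rfl
theorem L694321 : sm gg N50835 = N48722 := ded_36_2 (flp_d L672819) (flp_g L672816) L694319
theorem L694323 : sm gi N50835 = N50835 := ded_39_2 (flp_d L694319) L672818 L694319
theorem L694324 : sm gh N48725 = N50836 := rfl
theorem L694326 : sm gg N50836 = N50836 := ded_50_1 (flp_h L694324) L672843 L694324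
theorem L694327 : sm gi N50836 = N48726 := ded_54_2 (flp_h L672844) (flp_i L650891) L650886 L672839 L694324
theorem L694329 : sm gh N48730 = N50837 := rfl
theorem L694331 : sm gg N50837 = N50837 := ded_50_1 (flp_h L694329) L672869 L694329
theorem L694332 : sm gd N50837 = N48735 := ded_38_1 (flp_h L672896) L651141 (flp_h L651100) (flp_d L672867) L694329
theorem L694334 : sm gi N48731 = N50838 := rfl
theorem L694336 : sm ga N50838 = N48734 := ded_18_1 (flp_i L672889) (flp_a L672872) L694334
theorem L694338 : sm gc N50838 = N48732 := ded_33_1 (flp_i L672877) L672870 L694334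
theorem L694340 : sm gd N50838 = N48741 := ded_39_1 (flp_i L672934) (flp_d L672875) L694334
theorem L694342 : sm gg N50838 = N50838 := ded_51_1 (flp_i L694334) L672874 L694334
theorem L694343 : sm gh N48732 = N50839 := rfl
theorem L694345 : sm ga N50839 = N48735 := ded_17_1 (flp_h L672896) (flp_a L672879) L694343
theorem L694347 : sm gg N50839 = N50839 := ded_50_1 (flp_h L694343) L672883 L694343
theorem L694348 : sm gi N48733 = N50840 := rfl
theorem L694350 : sm gb N50840 = N48734 := ded_26_1 (flp_i L672889) L672884 L694348
theorem L694352 : sm gd N50840 = N48745 := ded_39_1 (flp_i L672963) (flp_d L672886) L694348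
theorem L694354 : sm gg N50840 = N50840 := ded_51_1 (flp_i L694348) L672888 L694348
theorem L694355 : sm gh N48734 = N50841 := rfl
theorem L694357 : sm gc N50841 = N48735 := ded_32_1 (flp_h L672896) (flp_c L672891) L694355
theorem L694359 : sm gg N50841 = N50841 := ded_50_1 (flp_h L694355) L672895 L694355
theorem L694360 : sm gi N48736 = N50842 := rfl
theorem L694362 : sm gc N50842 = N50842 := ded_33_1 (flp_i L694360) L672901 L694360
theorem L694363 : sm gf N50842 = N48738 := ded_48_1 (flp_i L672913) (flp_f L672902) L694360
theorem L694365 : sm gj N50842 = N48737 := ded_53_1 (flp_i L672906) L672899 L694360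
theorem L694367 : sm gh N48739 = N50843 := rfl
theorem L694369 : sm ga N50843 = N48740 := ded_17_1 (flp_h L672927) (flp_a L672922) L694367
theorem L694371 : sm gg N50843 = N50843 := ded_50_1 (flp_h L694367) L672926 L694367
theorem L694372 : sm gd N50843 = N48742 := ded_38_1 (flp_h L672942) L651224 (flp_h L651196) (flp_d L672924) L694367
theorem L694374 : sm gi N50843 = N50843 := ded_54_2 (flp_h L694367) (flp_i L672920) L651188 L672920 L694367
theorem L694375 : sm gh N48741 = N50844 := rfl
theorem L694377 : sm ga N50844 = N48746 := ded_17_1 (flp_h L672970) (flp_a L672936) L694375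
theorem L694379 : sm gc N50844 = N48742 := ded_32_1 (flp_h L672942) (flp_c L672938) L694375
theorem L694381 : sm ge N50844 = N50844 := ded_43_1 (flp_h L694375) L672940 L694375
theorem L694382 : sm gg N50844 = N50844 := ded_50_1 (flp_h L694375) L672941 L694375
theorem L694383 : sm gi N50844 = N50844 := ded_54_2 (flp_h L694375) (flp_i L672934) L651219 L672934 L694375
theorem L694384 : sm gh N48743 = N50845 := rfl
theorem L694386 : sm gc N50845 = N48744 := ded_32_1 (flp_h L672956) (flp_c L672951) L694384
theorem L694388 : sm ge N50845 = N50845 := ded_43_1 (flp_h L694384) L672953 L694384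
theorem L694389 : sm gj N50845 = N48746 := ded_52_1 (flp_h L672970) (flp_j L672954) L694384
theorem L694391 : sm gi N50845 = N50845 := ded_54_2 (flp_h L694384) (flp_i L672949) L651233 L672949 L694384
theorem L694392 : sm gh N48745 = N50846 := rfl
theorem L694394 : sm gb N50846 = N48746 := ded_25_1 (flp_h L672970) (flp_b L672965) L694392
theorem L694396 : sm gc N50846 = N50846 := ded_32_1 (flp_h L694392) L672967 L694392
theorem L694397 : sm ge N50846 = N50846 := ded_43_1 (flp_h L694392) L672968 L694392
theorem L694398 : sm gg N50846 = N50846 := ded_50_1 (flp_h L694392) L672969 L694392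
theorem L694399 : sm gi N50846 = N50846 := ded_54_2 (flp_h L694392) (flp_i L672963) L651246 L672963 L694392
theorem L694400 : sm gd N48746 = N50847 := rfl
theorem L694402 : sm gg N50847 = N50847 := ded_36_2 (flp_d L694400) L672975 L694400
theorem L694403 : sm gi N50847 = N50847 := ded_39_2 (flp_d L694400) L672976 L694400
theorem L694404 : sm gi N48747 = N50848 := rfl
theorem L694406 : sm ga N50848 = N49173 := ded_18_1 (flp_i L678462) (flp_a L672979) L694404
theorem L694408 : sm gb N50848 = N50848 := ded_26_1 (flp_i L694404) L672981 L694404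
theorem L694409 : sm gc N50848 = N48826 := ded_33_1 (flp_i L674139) (flp_c L672982) L694404
theorem L694411 : sm gd N50848 = N50848 := ded_39_1 (flp_i L694404) L672984 L694404
theorem L694412 : sm ge N50848 = N49227 := ded_44_1 (flp_i L679183) (flp_e L672985) L694404
theorem L694414 : sm gf N50848 = N50848 := ded_48_1 (flp_i L694404) L672988 L694404
theorem L694415 : sm gg N50848 = N48748 := ded_51_1 (flp_i L672991) L672977 L694404
theorem L694417 : sm gj N50848 = N49328 := ded_53_1 (flp_i L680376) L672989 L694404
theorem L694419 : sm gh N50748 = N50848 := ded_32_0 L694409 (flp_h L674150) L693566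
theorem L694421 : sm gh N48748 = N50849 := rfl
theorem L694423 : sm ga N50849 = N50316 := ded_17_1 (flp_h L690269) (flp_a L672993) L694421
theorem L694425 : sm gb N50849 = N50849 := ded_25_1 (flp_h L694421) L672995 L694421
theorem L694426 : sm gc N50849 = N48827 := ded_32_1 (flp_h L674152) (flp_c L672996) L694421
theorem L694428 : sm ge N50849 = N50298 := ded_43_1 (flp_h L690133) (flp_e L672999) L694421
theorem L694430 : sm gf N50849 = N48749 := ded_47_1 (flp_h L673005) (flp_f L673001) L694421
theorem L694432 : sm gg N50849 = N50748 := ded_50_1 L694419 L694415 L694421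
theorem L694434 : sm gj N50849 = N48758 := ded_52_1 (flp_h L673146) (flp_j L673003) L694421
theorem L694436 : sm gi N50849 = N50849 := ded_54_2 (flp_h L694421) (flp_i L672991) L651295 L672991 L694421
theorem L694437 : sm gd N50755 = N50849 := ded_55_89 L694436 (flp_h L694421) L672998 L673001 L651306 L350819 L241517 L241518 L166564 (flp_i L116095) (flp_h L80327) (flp_d L55695) L55704 (flp_e L80034) (flp_d L115615) L115613 L80039 L80040 (flp_i L79997) L79996 (flp_d L115547) (flp_f L115543) L79987 (flp_d L58003) (flp_b L57995) L57997 L62806 L62812 L62899 L62906 L625496 L46623 L32380 L22558 L15760 L11029 L11031 (flp_h L15274) (flp_d L21403) L21406 (flp_e L30370) L30369 (flp_b L40324) (flp_c L58077) (flp_d L83862) L644812 (flp_h L115650) L80040 (flp_f L55514) (flp_e L38605) L26912 L28034 L28041 L21143 (flp_i L30306) (flp_h L594235) L22907 (flp_f L16004) (flp_e L11197) (flp_d L10987) L10994 L8613 L8614 L6118 L6117 (flp_d L8614) L8616 L12321 L17648 (flp_b L22511) L32307 (flp_d L42295) L42294 L60995 (flp_d L592204) (flp_f L122059) (flp_e L177087) (flp_d L642721) L244038 L168256 L170310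 L247190 L359258 (flp_d L657228) L657222 L382145 L649651 (flp_b L671777) L693641
theorem L694439 : sm gd N48749 = N50850 := rfl
theorem L694441 : sm ga N50850 = N50746 := ded_12_1 (flp_d L693546) (flp_a L673007) L694439
theorem L694443 : sm gb N50850 = N50850 := ded_20_1 (flp_d L694439) L673009 L694439
theorem L694444 : sm gf N50850 = N50755 := ded_35_2 L694437 L694430 L694439
theorem L694446 : sm gg N50850 = N50850 := ded_36_2 (flp_d L694439) L673014 L694439
theorem L694447 : sm gj N50850 = N48759 := ded_37_2 (flp_d L673160) (flp_j L673015) L694439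
theorem L694449 : sm gi N50850 = N50850 := ded_39_2 (flp_d L694439) L673017 L694439
theorem L694450 : sm gc N50850 = N50752 := ded_27_1 (flp_d L693600) (flp_c L673842) L673851 (flp_c L673010) L694439
theorem L694452 : sm ge N50850 = N50850 := ded_34_2 (flp_d L694439) L673012 L651323 (flp_e L673012) L694439
theorem L694453 : sm gh N50850 = N50850 := ded_38_2 (flp_d L694439) (flp_h L673005) L651305 L673005 L694439
theorem L694454 : sm gi N48750 = N50851 := rfl
theorem L694456 : sm ga N50851 = N48757 := ded_18_1 (flp_i L673136) (flp_a L673020) L694454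
theorem L694458 : sm gb N50851 = N49324 := ded_26_1 (flp_i L680324) (flp_b L673022) L694454
theorem L694460 : sm gc N50851 = N48887 := ded_33_1 (flp_i L675012) (flp_c L673024) L694454
theorem L694462 : sm gd N50851 = N50851 := ded_39_1 (flp_i L694454) L673026 L694454
theorem L694463 : sm ge N50851 = N49439 := ded_44_1 (flp_i L681563) (flp_e L673027) L694454
theorem L694465 : sm gf N50851 = N48763 := ded_48_1 (flp_i L673219) (flp_f L673030) L694454
theorem L694467 : sm gg N50851 = N48751 := ded_51_1 (flp_i L673034) L673018 L694454
theorem L694469 : sm gj N50851 = N49326 := ded_53_1 (flp_i L680353) (flp_j L673032) L694454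
theorem L694471 : sm gh N50491 = N50851 := ded_25_0 L694458 (flp_h L680338) (flp_b L691599)
theorem L694473 : sm gi N48753 = N50852 := rfl
theorem L694475 : sm ga N50852 = N49439 := ded_18_1 (flp_i L681563) (flp_a L673072) L694473
theorem L694477 : sm gb N50852 = N50852 := ded_26_1 (flp_i L694473) L673074 L694473
theorem L694478 : sm gc N50852 = N48920 := ded_33_1 (flp_i L675446) (flp_c L673075) L694473
theorem L694480 : sm gd N50852 = N50053 := ded_39_1 L687802 (flp_d L673077) L694473
theorem L694482 : sm ge N50852 = N48757 := ded_44_1 (flp_i L673136) (flp_e L673079) L694473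
theorem L694484 : sm gf N50852 = N50398 := ded_48_1 (flp_i L690918) (flp_f L673082) L694473
theorem L694486 : sm gg N50852 = N48754 := ded_51_1 (flp_i L673086) L673070 L694473
theorem L694488 : sm gj N50852 = N49440 := ded_53_1 (flp_i L681577) (flp_j L673084) L694473
theorem L694490 : sm gh N50489 = N50852 := ded_17_0 L694475 (flp_h L681575) (flp_a L691586)
theorem L694492 : sm gi N48756 = N50853 := rfl
theorem L694494 : sm ga N50853 = N49326 := ded_18_1 (flp_i L680353) (flp_a L673123) L694492
theorem L694496 : sm gb N50853 = N50853 := ded_26_1 (flp_i L694492) L673125 L694492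
theorem L694497 : sm gc N50853 = N48923 := ded_33_1 (flp_i L675472) (flp_c L673126) L694492
theorem L694499 : sm gd N50853 = N50853 := ded_39_1 (flp_i L694492) L673128 L694492
theorem L694500 : sm ge N50853 = N49440 := ded_44_1 (flp_i L681577) (flp_e L673129) L694492
theorem L694502 : sm gf N50853 = N48772 := ded_48_1 (flp_i L673346) (flp_f L673131) L694492
theorem L694504 : sm gg N50853 = N49328 := ded_51_1 (flp_i L680376) (flp_g L673134) L694492
theorem L694506 : sm gj N50853 = N48757 := ded_53_1 (flp_i L673136) L673121 L694492
theorem L694508 : sm gh N50770 = N50853 := ded_32_0 L694497 (flp_h L675484) L693754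
theorem L694510 : sm gh N48757 = N50854 := rfl
theorem L694512 : sm ga N50854 = N50491 := ded_17_1 L694471 L694456 L694510
theorem L694514 : sm gb N50854 = N50854 := ded_25_1 (flp_h L694510) L673138 L694510
theorem L694515 : sm gc N50854 = N48924 := ded_32_1 (flp_h L675486) (flp_c L673139) L694510
theorem L694517 : sm ge N50854 = N50489 := ded_43_1 L694490 L694482 L694510
theorem L694519 : sm gf N50854 = N48773 := ded_47_1 (flp_h L673355) (flp_f L673142) L694510
theorem L694521 : sm gg N50854 = N48758 := ded_50_1 (flp_h L673146) (flp_g L673144) L694510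
theorem L694523 : sm gj N50854 = N50770 := ded_52_1 L694508 L694506 L694510
theorem L694525 : sm gi N50854 = N50854 := ded_54_2 (flp_h L694510) (flp_i L673136) L651420 L673136 L694510
theorem L694526 : sm gd N50780 = N50854 := ded_12_0 L694512 L691604 (flp_a L693839)
theorem L694528 : sm gc N48759 = N50855 := rfl
theorem L694530 : sm ga N50855 = N49314 := ded_11_1 L680194 (flp_a L673162) L694528
theorem L694532 : sm ge N50855 = N50855 := ded_28_2 (flp_c L694528) L673170 L694528
theorem L694533 : sm gf N50855 = N50753 := ded_29_2 L693621 (flp_f L673165) L694528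
theorem L694535 : sm gg N50855 = N48775 := ded_30_2 (flp_c L673371) (flp_g L673167) L694528
theorem L694537 : sm gj N50855 = N50752 := ded_31_2 (flp_c L694450) L694447 L694528
theorem L694539 : sm gh N50855 = N50855 := ded_32_2 (flp_c L694528) L673171 L694528
theorem L694540 : sm gi N50855 = N50855 := ded_33_2 (flp_c L694528) L673169 L694528
theorem L694541 : sm gd N50855 = N48876 := ded_27_2 L674852 L653323 (flp_c L651434) L673160 L694528
theorem L694543 : sm gb N50751 = N50855 := ded_22_3 L694533 L693614 (flp_f L693592)
theorem L694545 : sm gd N48760 = N50856 := rfl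
theorem L694547 : sm ga N50856 = N50856 := ded_12_1 (flp_d L694545) L673174 L694545
theorem L694548 : sm gb N50856 = N48775 := ded_20_1 L673379 (flp_b L673175) L694545
theorem L694550 : sm gf N50856 = N50059 := ded_35_2 L687868 (flp_f L673181) L694545
theorem L694552 : sm gg N50856 = N50751 := ded_36_2 (flp_d L693589) (flp_g L673183) L694545
theorem L694554 : sm gj N50856 = N50856 := ded_37_2 (flp_d L694545) L673185 L694545
theorem L694555 : sm gi N50856 = N50856 := ded_39_2 (flp_d L694545) L673186 L694545
theorem L694556 : sm gc N50856 = N50856 := ded_27_1 (flp_d L694545) L673177 L651481 (flp_c L673177) L694545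
theorem L694557 : sm ge N50856 = N50856 := ded_34_2 (flp_d L694545) L673179 L660650 (flp_e L673179) L694545
theorem L694558 : sm gh N50856 = N50856 := ded_38_2 (flp_d L694545) (flp_h L673172) L651448 L673172 L694545
theorem L694559 : sm gi N48762 = N50857 := rfl
theorem L694561 : sm ga N50857 = N48772 := ded_18_1 (flp_i L673346) (flp_a L673206) L694559
theorem L694563 : sm gb N50857 = N49321 := ded_26_1 (flp_i L680287) (flp_b L673208) L694559
theorem L694565 : sm gc N50857 = N49050 := ded_33_1 (flp_i L677088) (flp_c L673210) L694559
theorem L694567 : sm gd N50857 = N50857 := ded_39_1 (flp_i L694559) L673212 L694559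
theorem L694568 : sm ge N50857 = N49924 := ded_44_1 L686348 (flp_e L673213) L694559
theorem L694570 : sm gf N50857 = N49326 := ded_48_1 (flp_i L680353) (flp_f L673215) L694559
theorem L694572 : sm gg N50857 = N50857 := ded_51_1 (flp_i L694559) L673218 L694559
theorem L694573 : sm gj N50857 = N48763 := ded_53_1 (flp_i L673219) L673204 L694559
theorem L694575 : sm gh N48763 = N50858 := rfl
theorem L694577 : sm ga N50858 = N48773 := ded_17_1 (flp_h L673355) (flp_a L673221) L694575
theorem L694579 : sm gb N50858 = N49162 := ded_25_1 L678303 (flp_b L673223) L694575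
theorem L694581 : sm gc N50858 = N49051 := ded_32_1 (flp_h L677099) (flp_c L673225) L694575
theorem L694583 : sm ge N50858 = N49161 := ded_43_1 L678296 (flp_e L673228) L694575
theorem L694585 : sm gf N50858 = N50491 := ded_47_1 L694471 L694465 L694575
theorem L694587 : sm gg N50858 = N48764 := ded_50_1 (flp_h L673232) (flp_g L673230) L694575
theorem L694589 : sm gi N50858 = N50858 := ded_54_2 (flp_h L694575) (flp_i L673219) L651511 L673219 L694575
theorem L694590 : sm gd N50783 = N50858 := ded_20_0 L694579 L678306 (flp_b L693875)
theorem L694592 : sm gd N48764 = N50859 := rfl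
theorem L694594 : sm ga N50859 = N48774 := ded_12_1 (flp_d L673363) (flp_a L673234) L694592
theorem L694596 : sm gb N50859 = N48790 := ded_20_1 L673577 (flp_b L673236) L694592
theorem L694598 : sm gf N50859 = N48765 := ded_35_2 (flp_d L673246) (flp_f L673242) L694592
theorem L694600 : sm gg N50859 = N50783 := ded_36_2 L694590 L694587 L694592
theorem L694602 : sm gj N50859 = N50859 := ded_37_2 (flp_d L694592) L673244 L694592
theorem L694603 : sm gi N50859 = N50859 := ded_39_2 (flp_d L694592) L673245 L694592
theorem L694604 : sm gc N50859 = N49623 := ded_27_1 (flp_d L683342) L660819 (flp_d L655328) (flp_c L673238) L694592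
theorem L694606 : sm ge N50859 = N48789 := ded_34_2 (flp_d L673560) L651868 L656293 (flp_e L673240) L694592
theorem L694608 : sm gh N50859 = N50859 := ded_38_2 (flp_d L694592) (flp_h L673232) L651520 L673232 L694592
theorem L694609 : sm gj N48766 = N50860 := rfl
theorem L694611 : sm ga N50860 = N49434 := ded_16_1 L681507 (flp_a L673262) L694609
theorem L694613 : sm gb N50860 = N50860 := ded_24_1 (flp_j L694609) L673264 L694609
theorem L694614 : sm gc N50860 = N49120 := ded_31_1 (flp_j L677852) (flp_c L673265) L694609
theorem L694616 : sm gd N50860 = N49775 := ded_37_1 L684952 (flp_d L673267) L694609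
theorem L694618 : sm ge N50860 = N49433 := ded_42_1 L681497 (flp_e L673269) L694609
theorem L694620 : sm gf N50860 = N48769 := ded_46_1 (flp_j L673305) (flp_f L673272) L694609
theorem L694622 : sm gh N50860 = N50860 := ded_52_2 (flp_j L694609) L673271 L694609
theorem L694623 : sm gg N50860 = N49503 := ded_49_1 L682208 L659810 (flp_j L651560) L673260 L694609
theorem L694625 : sm gi N48766 = N50861 := rfl
theorem L694627 : sm ga N50861 = N49922 := ded_18_1 L686326 (flp_a L673262) L694625
theorem L694629 : sm gb N50861 = N50861 := ded_26_1 (flp_i L694625) L673264 L694625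
theorem L694630 : sm gc N50861 = N49121 := ded_33_1 (flp_i L677859) (flp_c L673265) L694625
theorem L694632 : sm gd N50861 = N49920 := ded_39_1 L686299 (flp_d L673267) L694625
theorem L694634 : sm ge N50861 = N50398 := ded_44_1 (flp_i L690918) (flp_e L673269) L694625
theorem L694636 : sm gf N50861 = N48770 := ded_48_1 (flp_i L673318) (flp_f L673272) L694625
theorem L694638 : sm gg N50861 = N48767 := ded_51_1 (flp_i L673274) L673260 L694625
theorem L694640 : sm gh N48767 = N50862 := rfl
theorem L694642 : sm ga N50862 = N50278 := ded_17_1 L689963 (flp_a L673276) L694640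
theorem L694644 : sm gb N50862 = N50862 := ded_25_1 (flp_h L694640) L673278 L694640
theorem L694645 : sm gc N50862 = N49122 := ded_32_1 (flp_h L677867) (flp_c L673279) L694640
theorem L694647 : sm ge N50862 = N50399 := ded_43_1 (flp_h L690927) (flp_e L673283) L694640
theorem L694649 : sm gf N50862 = N48768 := ded_47_1 (flp_h L673289) (flp_f L673285) L694640
theorem L694651 : sm gj N50862 = N50401 := ded_52_1 (flp_h L690946) (flp_j L673287) L694640
theorem L694653 : sm gd N50862 = N50276 := ded_38_1 (flp_h L689938) L667544 (flp_h L670479) (flp_d L673281) L694640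
theorem L694655 : sm gi N50862 = N50862 := ded_54_2 (flp_h L694640) (flp_i L673274) L651562 L673274 L694640
theorem L694656 : sm gi N48769 = N50863 := rfl
theorem L694658 : sm ga N50863 = N49924 := ded_18_1 L686348 (flp_a L673307) L694656
theorem L694660 : sm gb N50863 = N50863 := ded_26_1 (flp_i L694656) L673309 L694656
theorem L694661 : sm gc N50863 = N49124 := ded_33_1 (flp_i L677881) (flp_c L673310) L694656
theorem L694663 : sm gd N50863 = N49923 := ded_39_1 L686339 (flp_d L673312) L694656
theorem L694665 : sm ge N50863 = N48772 := ded_44_1 (flp_i L673346) (flp_e L673314) L694656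
theorem L694667 : sm gg N50863 = N50863 := ded_51_1 (flp_i L694656) L673317 L694656
theorem L694668 : sm gj N50863 = N48770 := ded_53_1 (flp_i L673318) L673305 L694656
theorem L694670 : sm gh N48770 = N50864 := rfl
theorem L694672 : sm ga N50864 = N49161 := ded_17_1 L678296 (flp_a L673320) L694670
theorem L694674 : sm gb N50864 = N50864 := ded_25_1 (flp_h L694670) L673322 L694670
theorem L694675 : sm gc N50864 = N49125 := ded_32_1 (flp_h L677890) (flp_c L673323) L694670
theorem L694677 : sm ge N50864 = N48773 := ded_43_1 (flp_h L673355) (flp_e L673327) L694670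
theorem L694679 : sm gg N50864 = N48771 := ded_50_1 (flp_h L673331) (flp_g L673329) L694670
theorem L694681 : sm gd N50864 = N49160 := ded_38_1 (flp_h L678281) L656265 L663593 (flp_d L673325) L694670
theorem L694683 : sm gi N50864 = N50864 := ded_54_2 (flp_h L694670) (flp_i L673318) L651606 L673318 L694670
theorem L694684 : sm gh N48772 = N50865 := rfl
theorem L694686 : sm gb N50865 = N50865 := ded_25_1 (flp_h L694684) L673348 L694684
theorem L694687 : sm gc N50865 = N49128 := ded_32_1 (flp_h L677915) (flp_c L673349) L694684
theorem L694689 : sm gf N50865 = N50770 := ded_47_1 L694508 L694502 L694684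
theorem L694691 : sm gg N50865 = N50865 := ded_50_1 (flp_h L694684) L673352 L694684
theorem L694692 : sm gj N50865 = N48773 := ded_52_1 (flp_h L673355) (flp_j L673353) L694684
theorem L694694 : sm gi N50865 = N50865 := ded_54_2 (flp_h L694684) (flp_i L673346) L651640 L673346 L694684
theorem L694695 : sm gd N50777 = N50865 := ded_27_0 L694687 L677924 L671990 L672115 L693807
theorem L694697 : sm gd N48773 = N50866 := rfl
theorem L694699 : sm ga N50866 = N50783 := ded_12_1 L694590 L694577 L694697
theorem L694701 : sm gb N50866 = N50866 := ded_20_1 (flp_d L694697) L673357 L694697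
theorem L694702 : sm gf N50866 = N50780 := ded_35_2 L694526 L694519 L694697
theorem L694704 : sm gg N50866 = N48774 := ded_36_2 (flp_d L673363) (flp_g L673360) L694697
theorem L694706 : sm gj N50866 = N50777 := ded_37_2 L694695 L694692 L694697
theorem L694708 : sm gi N50866 = N50866 := ded_39_2 (flp_d L694697) L673362 L694697
theorem L694709 : sm gc N50866 = N50774 := ded_27_1 (flp_d L693778) (flp_c L676639) L676647 (flp_c L673358) L694697
theorem L694711 : sm gh N50866 = N50866 := ded_38_2 (flp_d L694697) (flp_h L673355) L651647 L673355 L694697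
theorem L694712 : sm gc N48774 = N50867 := rfl
theorem L694714 : sm ga N50867 = N49623 := ded_11_1 (flp_c L694604) L694594 L694712
theorem L694716 : sm gf N50867 = N48775 := ded_29_2 (flp_c L673371) (flp_f L673366) L694712
theorem L694718 : sm gg N50867 = N50774 := ded_30_2 (flp_c L694709) L694704 L694712
theorem L694720 : sm gj N50867 = N50867 := ded_31_2 (flp_c L694712) L673368 L694712
theorem L694721 : sm gh N50867 = N50867 := ded_32_2 (flp_c L694712) L673370 L694712
theorem L694722 : sm gi N50867 = N50867 := ded_33_2 (flp_c L694712) L673369 L694712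
theorem L694723 : sm gd N50867 = N49014 := ded_27_2 L676656 L654965 (flp_c L651653) L673363 L694712
theorem L694725 : sm gb N50059 = N50867 := ded_22_3 L694716 (flp_b L694548) L694550
theorem L694727 : sm ge N50867 = N50058 := ded_55_4 (flp_d L687851) L665665 L377860 L259769 L259770 (flp_h L259762) L178779 L123198 L123196 L85095 (flp_b L85251) (flp_c L123389) L592347 (flp_i L86845) (flp_h L60045) L41631 (flp_f L31842) L22157 (flp_d L28941) L41619 L41624 L576313 L591122 (flp_h L44859) (flp_d L40983) L59055 L85336 L123576 (flp_b L179272) L551382 L253011 (flp_i L253006) (flp_h L249801) (flp_d L356654) L356657 (flp_e L377842) L377841 L377847 L648410 L272408 L272754 L650460 (flp_d L651723) L651727 L651725 (flp_d L655776) L655772 L357322 L245872 (flp_i L169415) (flp_h L116872) L116855 L116859 L85422 (flp_d L64846) L44914 L31909 L22204 (flp_i L22343) L32140 L46316 L46320 L46323 (flp_d L46316) L32142 L22386 L32197 L32203 (flp_h L45842) (flp_d L45835) L31808 L31806 L22131 (flp_b L31767) (flp_c L45746) L590943 (flp_i L86465) L590851 (flp_d L123618) L85357 (flp_e L80796) L116799 (flp_b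 L169214) L245545 L245551 L356826 L654968 (flp_d L673379) (flp_f L694716)
theorem L694729 : sm ge N48774 = N50868 := rfl
theorem L694731 : sm ga N50868 = N48789 := ded_13_1 (flp_e L694606) L694594 L694729
theorem L694733 : sm gb N50868 = N50868 := ded_21_1 (flp_e L694729) L673365 L694729
theorem L694734 : sm gc N50868 = N50058 := ded_28_1 (flp_e L694727) (flp_c L694712) L694729
theorem L694736 : sm gj N50868 = N50868 := ded_42_2 (flp_e L694729) L673368 L694729
theorem L694737 : sm gh N50868 = N50868 := ded_43_2 (flp_e L694729) L673370 L694729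
theorem L694738 : sm gi N50868 = N50868 := ded_44_2 (flp_e L694729) L673369 L694729
theorem L694739 : sm gd N50868 = N48788 := ded_34_1 L673555 (flp_d L673343) L673338 L673363 L694729
theorem L694741 : sm gf N50868 = N50868 := ded_40_2 (flp_e L694729) L673366 L651664 (flp_f L673366) L694729
theorem L694742 : sm gh N48776 = N50869 := rfl
theorem L694744 : sm ga N50869 = N50791 := ded_17_1 L693963 (flp_a L673383) L694742
theorem L694746 : sm gb N50869 = N48777 := ded_25_1 (flp_h L673399) (flp_b L673385) L694742
theorem L694748 : sm gc N50869 = N48786 := ded_32_1 (flp_h L673527) (flp_c L673387) L694742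
theorem L694750 : sm ge N50869 = N49143 := ded_43_1 (flp_h L678096) (flp_e L673391) L694742
theorem L694752 : sm gf N50869 = N50788 := ded_47_1 (flp_h L693926) (flp_f L673393) L694742
theorem L694754 : sm gg N50869 = N48778 := ded_50_1 (flp_h L673416) (flp_g L673395) L694742
theorem L694756 : sm gj N50869 = N50785 := ded_52_1 (flp_h L693892) (flp_j L673397) L694742
theorem L694758 : sm gd N50869 = N50790 := ded_38_1 (flp_h L693947) L672289 (flp_h L672350) (flp_d L673389) L694742
theorem L694760 : sm gi N50869 = N50869 := ded_54_2 (flp_h L694742) (flp_i L673381) L651678 L673381 L694742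
theorem L694761 : sm gi N48779 = N50870 := rfl
theorem L694763 : sm ga N50870 = N48780 := ded_18_1 (flp_i L673445) L673431 L694761
theorem L694765 : sm gb N50870 = N50870 := ded_26_1 (flp_i L694761) L673444 L694761
theorem L694766 : sm gc N50870 = N50787 := ded_33_1 (flp_i L693913) (flp_c L673433) L694761
theorem L694768 : sm gd N50870 = N50870 := ded_39_1 (flp_i L694761) L673435 L694761
theorem L694769 : sm ge N50870 = N50099 := ded_44_1 (flp_i L688300) (flp_e L673436) L694761
theorem L694771 : sm gf N50870 = N48785 := ded_48_1 (flp_i L673515) (flp_f L673438) L694761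
theorem L694773 : sm gg N50870 = N50870 := ded_51_1 (flp_i L694761) L673440 L694761
theorem L694774 : sm gj N50870 = N50054 := ded_53_1 (flp_i L687804) (flp_j L673441) L694761
theorem L694776 : sm gh N48780 = N50871 := rfl
theorem L694778 : sm gb N50871 = N48781 := ded_25_1 (flp_h L673459) (flp_b L673447) L694776
theorem L694780 : sm gc N50871 = N50788 := ded_32_1 (flp_h L693926) (flp_c L673449) L694776
theorem L694782 : sm ge N50871 = N50100 := ded_43_1 (flp_h L688310) (flp_e L673452) L694776
theorem L694784 : sm gf N50871 = N48786 := ded_47_1 (flp_h L673527) (flp_f L673454) L694776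
theorem L694786 : sm gg N50871 = N50871 := ded_50_1 (flp_h L694776) L673456 L694776
theorem L694787 : sm gj N50871 = N50055 := ded_52_1 (flp_h L687816) (flp_j L673457) L694776
theorem L694789 : sm gi N50871 = N50871 := ded_54_2 (flp_h L694776) (flp_i L673445) L651752 L673445 L694776
theorem L694790 : sm gd N50778 = N50871 := ded_20_0 L694778 (flp_d L673472) (flp_b L693817)
theorem L694792 : sm gi N48782 = N50872 := rfl
theorem L694794 : sm ga N50872 = N48783 := ded_18_1 (flp_i L673488) L673474 L694792
theorem L694796 : sm gb N50872 = N50872 := ded_26_1 (flp_i L694792) L673487 L694792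
theorem L694797 : sm gc N50872 = N50784 := ded_33_1 (flp_i L693879) (flp_c L673476) L694792
theorem L694799 : sm gd N50872 = N50872 := ded_39_1 (flp_i L694792) L673478 L694792
theorem L694800 : sm ge N50872 = N49157 := ded_44_1 (flp_i L678254) (flp_e L673479) L694792
theorem L694802 : sm gf N50872 = N50054 := ded_48_1 (flp_i L687804) (flp_f L673481) L694792
theorem L694804 : sm gg N50872 = N50872 := ded_51_1 (flp_i L694792) L673483 L694792
theorem L694805 : sm gj N50872 = N48785 := ded_53_1 (flp_i L673515) (flp_j L673484) L694792
theorem L694807 : sm gh N48783 = N50873 := rfl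
theorem L694809 : sm gb N50873 = N48784 := ded_25_1 (flp_h L673502) (flp_b L673490) L694807
theorem L694811 : sm gc N50873 = N50785 := ded_32_1 (flp_h L693892) (flp_c L673492) L694807
theorem L694813 : sm ge N50873 = N49158 := ded_43_1 (flp_h L678264) (flp_e L673495) L694807
theorem L694815 : sm gf N50873 = N50055 := ded_47_1 (flp_h L687816) (flp_f L673497) L694807
theorem L694817 : sm gg N50873 = N50873 := ded_50_1 (flp_h L694807) L673499 L694807
theorem L694818 : sm gj N50873 = N48786 := ded_52_1 (flp_h L673527) (flp_j L673500) L694807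
theorem L694820 : sm gi N50873 = N50873 := ded_54_2 (flp_h L694807) (flp_i L673488) L651792 L673488 L694807
theorem L694821 : sm gd N48784 = N50874 := rfl
theorem L694823 : sm ga N50874 = N50874 := ded_12_1 (flp_d L694821) L673504 L694821
theorem L694824 : sm gf N50874 = N50056 := ded_35_2 (flp_d L687827) (flp_f L673509) L694821
theorem L694826 : sm gg N50874 = N50874 := ded_36_2 (flp_d L694821) L673511 L694821
theorem L694827 : sm gj N50874 = N48787 := ded_37_2 (flp_d L673536) (flp_j L673512) L694821
theorem L694829 : sm gi N50874 = N50874 := ded_39_2 (flp_d L694821) L673514 L694821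
theorem L694830 : sm gc N50874 = N50874 := ded_27_1 (flp_d L694821) L673505 L651820 (flp_c L673505) L694821
theorem L694831 : sm gh N50874 = N50874 := ded_38_2 (flp_d L694821) (flp_h L673502) L651800 L673502 L694821
theorem L694832 : sm ge N50782 = N50874 := ded_40_5 L694824 L687836 L672083 L672147 L693864
theorem L694834 : sm gh N48785 = N50875 := rfl
theorem L694836 : sm ga N50875 = N48786 := ded_17_1 (flp_h L673527) (flp_a L673517) L694834
theorem L694838 : sm gb N50875 = N50875 := ded_25_1 (flp_h L694834) L673519 L694834
theorem L694839 : sm gc N50875 = N50791 := ded_32_1 L693963 (flp_c L673520) L694834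
theorem L694841 : sm ge N50875 = N49160 := ded_43_1 (flp_h L678281) (flp_e L673523) L694834
theorem L694843 : sm gg N50875 = N48788 := ded_50_1 (flp_h L673548) (flp_g L673525) L694834
theorem L694845 : sm gi N50875 = N50875 := ded_54_2 (flp_h L694834) (flp_i L673515) L651831 L673515 L694834
theorem L694846 : sm gd N48786 = N50876 := rfl
theorem L694848 : sm gb N50876 = N48787 := ded_20_1 (flp_d L673536) (flp_b L673529) L694846
theorem L694850 : sm gf N50876 = N50778 := ded_35_2 L694790 L694784 L694846
theorem L694852 : sm gg N50876 = N48789 := ded_36_2 (flp_d L673560) (flp_g L673533) L694846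
theorem L694854 : sm gi N50876 = N50876 := ded_39_2 (flp_d L694846) L673535 L694846
theorem L694855 : sm ge N50876 = N50783 := ded_34_2 L694590 L694583 (flp_d L678289) (flp_e L673531) L694846
theorem L694857 : sm gh N50876 = N50876 := ded_38_2 (flp_d L694846) (flp_h L673527) L651837 L673527 L694846
theorem L694858 : sm gc N48789 = N50877 := rfl
theorem L694860 : sm ga N50877 = N50058 := ded_11_1 (flp_c L694734) L694731 L694858
theorem L694862 : sm ge N50877 = N49623 := ded_28_2 (flp_c L694604) L694606 L694858
theorem L694864 : sm gf N50877 = N50877 := ded_29_2 (flp_c L694858) L673564 L694858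
theorem L694865 : sm gj N50877 = N50877 := ded_31_2 (flp_c L694858) L673565 L694858
theorem L694866 : sm gh N50877 = N50877 := ded_32_2 (flp_c L694858) L673567 L694858
theorem L694867 : sm gi N50877 = N50877 := ded_33_2 (flp_c L694858) L673566 L694858
theorem L694868 : sm gb N50877 = N50877 := ded_19_1 (flp_c L694858) L673562 L651879 (flp_b L673562) L694858
theorem L694869 : sm gd N50877 = N50057 := ded_27_2 L687844 (flp_d L673428) L673422 L673560 L694858
theorem L694871 : sm ge N48791 = N50878 := rfl
theorem L694873 : sm ga N50878 = N49274 := ded_13_1 L679730 (flp_a L673583) L694871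
theorem L694875 : sm gb N50878 = N49205 := ded_21_1 (flp_e L678911) (flp_b L673585) L694871
theorem L694877 : sm gc N50878 = N49290 := ded_28_1 L679888 (flp_c L673593) L694871
theorem L694879 : sm gg N50878 = N49287 := ded_41_2 L679865 (flp_g L673589) L694871
theorem L694881 : sm gj N50878 = N48833 := ded_42_2 (flp_e L674246) (flp_j L673591) L694871
theorem L694883 : sm gh N50878 = N48797 := ded_43_2 (flp_e L673684) (flp_h L673595) L694871
theorem L694885 : sm gd N50878 = N50878 := ded_34_1 (flp_e L694871) (flp_d L673581) L652074 L673581 L694871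
theorem L694886 : sm gf N50878 = N49239 := ded_40_2 (flp_e L679321) L657363 (flp_e L664424) (flp_f L673587) L694871
theorem L694888 : sm gi N48791 = N50879 := rfl
theorem L694890 : sm ga N50879 = N49972 := ded_18_1 (flp_i L686932) (flp_a L673583) L694888
theorem L694892 : sm gb N50879 = N49206 := ded_26_1 (flp_i L678918) (flp_b L673585) L694888
theorem L694894 : sm gc N50879 = N50313 := ded_33_1 (flp_i L690246) (flp_c L673593) L694888
theorem L694896 : sm gd N50879 = N48792 := ded_39_1 (flp_i L673597) L673581 L694888
theorem L694898 : sm gf N50879 = N49966 := ded_48_1 (flp_i L686858) (flp_f L673587) L694888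
theorem L694900 : sm gg N50879 = N50310 := ded_51_1 (flp_i L690222) (flp_g L673589) L694888
theorem L694902 : sm gj N50879 = N48834 := ded_53_1 (flp_i L674257) (flp_j L673591) L694888
theorem L694904 : sm ge N48794 = N50880 := rfl
theorem L694906 : sm ga N50880 = N49290 := ded_13_1 L679888 (flp_a L673636) L694904
theorem L694908 : sm gb N50880 = N49190 := ded_21_1 (flp_e L678718) (flp_b L673638) L694904
theorem L694910 : sm gc N50880 = N49274 := ded_28_1 L679730 (flp_c L673646) L694904
theorem L694912 : sm gg N50880 = N48797 := ded_41_2 (flp_e L673684) (flp_g L673642) L694904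
theorem L694914 : sm gj N50880 = N49357 := ded_42_2 L680737 (flp_j L673644) L694904
theorem L694916 : sm gh N50880 = N49287 := ded_43_2 L679865 (flp_h L673648) L694904
theorem L694918 : sm gd N50880 = N48800 := ded_34_1 (flp_e L673725) (flp_d L652173) (flp_e L652126) L673634 L694904
theorem L694920 : sm gf N50880 = N49272 := ded_40_2 (flp_e L679700) L657652 (flp_e L664591) (flp_f L673640) L694904
theorem L694922 : sm gi N48794 = N50881 := rfl
theorem L694924 : sm ga N50881 = N50313 := ded_18_1 (flp_i L690246) (flp_a L673636) L694922
theorem L694926 : sm gb N50881 = N49212 := ded_26_1 (flp_i L679002) (flp_b L673638) L694922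
theorem L694928 : sm gc N50881 = N49972 := ded_33_1 (flp_i L686932) (flp_c L673646) L694922
theorem L694930 : sm gd N50881 = N48795 := ded_39_1 (flp_i L673650) L673634 L694922
theorem L694932 : sm gf N50881 = N49973 := ded_48_1 (flp_i L686942) (flp_f L673640) L694922
theorem L694934 : sm gg N50881 = N48798 := ded_51_1 (flp_i L673696) (flp_g L673642) L694922
theorem L694936 : sm gj N50881 = N49991 := ded_53_1 L687155 (flp_j L673644) L694922
theorem L694938 : sm ge N48796 = N50882 := rfl
theorem L694940 : sm ga N50882 = N49287 := ded_13_1 L679865 (flp_a L673670) L694938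
theorem L694942 : sm gb N50882 = N49277 := ded_21_1 (flp_e L679747) L673682 L694938
theorem L694944 : sm gc N50882 = N48797 := ded_28_1 (flp_e L673684) L673668 L694938
theorem L694946 : sm gg N50882 = N49274 := ded_41_2 L679730 (flp_g L673674) L694938
theorem L694948 : sm gj N50882 = N48845 := ded_42_2 (flp_e L674403) (flp_j L673676) L694938
theorem L694950 : sm gh N50882 = N49290 := ded_43_2 L679888 (flp_h L673678) L694938
theorem L694952 : sm gd N50882 = N50882 := ded_34_1 (flp_e L694938) L673680 L652279 (flp_d L673680) L694938
theorem L694953 : sm gf N50882 = N49250 := ded_40_2 (flp_e L679442) L657433 (flp_e L652520) (flp_f L673672) L694938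
theorem L694955 : sm gi N48796 = N50883 := rfl
theorem L694957 : sm ga N50883 = N50310 := ded_18_1 (flp_i L690222) (flp_a L673670) L694955
theorem L694959 : sm gb N50883 = N49278 := ded_26_1 (flp_i L679752) L673682 L694955
theorem L694961 : sm gc N50883 = N48798 := ded_33_1 (flp_i L673696) L673668 L694955
theorem L694963 : sm gd N50883 = N48804 := ded_39_1 (flp_i L673784) (flp_d L673680) L694955
theorem L694965 : sm gf N50883 = N48817 := ded_48_1 (flp_i L674003) (flp_f L673672) L694955
theorem L694967 : sm gg N50883 = N49972 := ded_51_1 (flp_i L686932) (flp_g L673674) L694955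
theorem L694969 : sm gj N50883 = N48846 := ded_53_1 (flp_i L674412) (flp_j L673676) L694955
theorem L694971 : sm gi N48797 = N50884 := rfl
theorem L694973 : sm ga N50884 = N49291 := ded_18_1 (flp_i L679890) (flp_a L673686) L694971
theorem L694975 : sm gb N50884 = N49216 := ded_26_1 (flp_i L679044) (flp_b L673688) L694971
theorem L694977 : sm gd N50884 = N48802 := ded_39_1 (flp_i L673755) (flp_d L673692) L694971
theorem L694979 : sm ge N50884 = N48798 := ded_44_1 (flp_i L673696) L673684 L694971
theorem L694981 : sm gf N50884 = N49252 := ded_48_1 (flp_i L679463) (flp_f L673694) L694971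
theorem L694983 : sm gj N50884 = N48847 := ded_53_1 (flp_i L674422) (flp_j L673690) L694971
theorem L694985 : sm gh N48798 = N50885 := rfl
theorem L694987 : sm ga N50885 = N50314 := ded_17_1 (flp_h L690254) (flp_a L673698) L694985
theorem L694989 : sm gb N50885 = N49217 := ded_25_1 (flp_h L679052) (flp_b L673700) L694985
theorem L694991 : sm gf N50885 = N49967 := ded_47_1 (flp_h L686872) (flp_f L673704) L694985
theorem L694993 : sm gj N50885 = N48848 := ded_52_1 (flp_h L674434) (flp_j L673706) L694985
theorem L694995 : sm gd N50885 = N48821 := ded_38_1 (flp_h L674069) L652572 (flp_h L652156) (flp_d L673702) L694985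
theorem L694997 : sm gi N48800 = N50886 := rfl
theorem L694999 : sm ga N50886 = N49295 := ded_18_1 (flp_i L679934) (flp_a L673727) L694997
theorem L695001 : sm gb N50886 = N49200 := ded_26_1 (flp_i L678850) (flp_b L673729) L694997
theorem L695003 : sm gc N50886 = N50886 := ded_33_1 (flp_i L694997) L673731 L694997
theorem L695004 : sm ge N50886 = N48801 := ded_44_1 (flp_i L673739) L673725 L694997
theorem L695006 : sm gf N50886 = N50284 := ded_48_1 (flp_i L690025) L673737 L694997
theorem L695008 : sm gg N50886 = N48802 := ded_51_1 (flp_i L673755) (flp_g L673732) L694997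
theorem L695010 : sm gj N50886 = N49371 := ded_53_1 (flp_i L680896) (flp_j L673734) L694997
theorem L695012 : sm gh N50745 = N50886 := ded_17_0 L694999 (flp_h L679943) (flp_a L693540)
theorem L695014 : sm gh N48802 = N50887 := rfl
theorem L695016 : sm ga N50887 = N49296 := ded_17_1 (flp_h L679945) (flp_a L673757) L695014
theorem L695018 : sm gb N50887 = N49221 := ded_25_1 (flp_h L679107) (flp_b L673759) L695014
theorem L695020 : sm gc N50887 = N50887 := ded_32_1 (flp_h L695014) L673761 L695014
theorem L695021 : sm ge N50887 = N48803 := ded_43_1 (flp_h L673768) (flp_e L673762) L695014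
theorem L695023 : sm gf N50887 = N49257 := ded_47_1 (flp_h L679520) (flp_f L673764) L695014
theorem L695025 : sm gg N50887 = N50745 := ded_50_1 L695012 L695008 L695014
theorem L695027 : sm gj N50887 = N48854 := ded_52_1 (flp_h L674512) (flp_j L673766) L695014
theorem L695029 : sm gi N50887 = N50887 := ded_54_2 (flp_h L695014) (flp_i L673755) L652208 L673755 L695014
theorem L695030 : sm gi N48805 = N50888 := rfl
theorem L695032 : sm ga N50888 = N49234 := ded_18_1 (flp_i L679274) (flp_a L673803) L695030
theorem L695034 : sm gb N50888 = N48808 := ded_26_1 (flp_i L673854) (flp_b L673805) L695030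
theorem L695036 : sm gc N50888 = N50300 := ded_33_1 (flp_i L690152) L673817 L695030
theorem L695038 : sm gd N50888 = N48806 := ded_39_1 (flp_i L673819) L673801 L695030
theorem L695040 : sm ge N50888 = N50305 := ded_44_1 (flp_i L690184) (flp_e L673813) L695030
theorem L695042 : sm gf N50888 = N49968 := ded_48_1 (flp_i L686884) (flp_f L673807) L695030
theorem L695044 : sm gg N50888 = N50308 := ded_51_1 (flp_i L690206) (flp_g L673809) L695030
theorem L695046 : sm gj N50888 = N48873 := ded_53_1 (flp_i L674801) (flp_j L673811) L695030
theorem L695048 : sm gh N48808 = N50889 := rfl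
theorem L695050 : sm ga N50889 = N48821 := ded_17_1 (flp_h L674069) (flp_a L673856) L695048
theorem L695052 : sm gc N50889 = N49971 := ded_32_1 (flp_h L686920) (flp_c L673858) L695048
theorem L695054 : sm ge N50889 = N50306 := ded_43_1 (flp_h L690192) (flp_e L673862) L695048
theorem L695056 : sm gf N50889 = N49970 := ded_47_1 (flp_h L686912) (flp_f L673864) L695048
theorem L695058 : sm gg N50889 = N50311 := ded_50_1 (flp_h L690232) (flp_g L673866) L695048
theorem L695060 : sm gj N50889 = N48882 := ded_52_1 (flp_h L674937) (flp_j L673868) L695048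
theorem L695062 : sm gd N50889 = N50314 := ded_38_1 (flp_h L690254) L668031 (flp_h L652405) (flp_d L673860) L695048
theorem L695064 : sm gi N50889 = N49979 := ded_54_2 (flp_h L687015) (flp_i L664634) (flp_h L652389) L673854 L695048
theorem L695066 : sm gi N48809 = N50890 := rfl
theorem L695068 : sm ga N50890 = N48826 := ded_18_1 (flp_i L674139) (flp_a L673872) L695066
theorem L695070 : sm gb N50890 = N49169 := ded_26_1 (flp_i L678402) (flp_b L673874) L695066
theorem L695072 : sm gc N50890 = N49173 := ded_33_1 (flp_i L678462) (flp_c L673876) L695066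
theorem L695074 : sm gd N50890 = N49180 := ded_39_1 (flp_i L678566) (flp_d L673878) L695066
theorem L695076 : sm ge N50890 = N49225 := ded_44_1 (flp_i L679162) (flp_e L673880) L695066
theorem L695078 : sm gf N50890 = N50890 := ded_48_1 (flp_i L695066) L673883 L695066
theorem L695079 : sm gg N50890 = N48810 := ded_51_1 (flp_i L673886) L673870 L695066
theorem L695081 : sm gj N50890 = N49318 := ded_53_1 (flp_i L680241) L673884 L695066
theorem L695083 : sm gh N50747 = N50890 := ded_17_0 L695068 (flp_h L674150) (flp_a L693560)
theorem L695085 : sm gh N48810 = N50891 := rfl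
theorem L695087 : sm ga N50891 = N48827 := ded_17_1 (flp_h L674152) (flp_a L673888) L695085
theorem L695089 : sm gb N50891 = N49195 := ded_25_1 (flp_h L678779) (flp_b L673890) L695085
theorem L695091 : sm gc N50891 = N50316 := ded_32_1 (flp_h L690269) (flp_c L673892) L695085
theorem L695093 : sm ge N50891 = N50315 := ded_43_1 (flp_h L690260) (flp_e L673896) L695085
theorem L695095 : sm gf N50891 = N48811 := ded_47_1 (flp_h L673902) (flp_f L673898) L695085
theorem L695097 : sm gg N50891 = N50747 := ded_50_1 L695083 L695079 L695085
theorem L695099 : sm gj N50891 = N48888 := ded_52_1 (flp_h L675024) (flp_j L673900) L695085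
theorem L695101 : sm gd N50891 = N49222 := ded_38_1 (flp_h L679114) L657075 (flp_h L656656) (flp_d L673894) L695085
theorem L695103 : sm gi N50891 = N50891 := ded_54_2 (flp_h L695085) (flp_i L673886) L652419 L673886 L695085
theorem L695104 : sm gi N48813 = N50892 := rfl
theorem L695106 : sm ga N50892 = N49973 := ded_18_1 (flp_i L686942) (flp_a L673939) L695104
theorem L695108 : sm gb N50892 = N49270 := ded_26_1 (flp_i L679677) (flp_b L673941) L695104
theorem L695110 : sm gc N50892 = N49966 := ded_33_1 (flp_i L686858) (flp_c L673949) L695104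
theorem L695112 : sm gd N50892 = N48814 := ded_39_1 (flp_i L673955) L673937 L695104
theorem L695114 : sm ge N50892 = N50293 := ded_44_1 (flp_i L690094) L673953 L695104
theorem L695116 : sm gf N50892 = N50313 := ded_48_1 (flp_i L690246) (flp_f L673943) L695104
theorem L695118 : sm gg N50892 = N48816 := ded_51_1 (flp_i L673989) (flp_g L673945) L695104
theorem L695120 : sm gj N50892 = N49985 := ded_53_1 (flp_i L687085) (flp_j L673947) L695104
theorem L695122 : sm gi N48815 = N50893 := rfl
theorem L695124 : sm ga N50893 = N49978 := ded_18_1 (flp_i L687004) (flp_a L673974) L695122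
theorem L695126 : sm gb N50893 = N49275 := ded_26_1 (flp_i L679732) (flp_b L673976) L695122
theorem L695128 : sm gc N50893 = N49969 := ded_33_1 (flp_i L686898) (flp_c L673978) L695122
theorem L695130 : sm gd N50893 = N50893 := ded_39_1 (flp_i L695122) L673986 L695122
theorem L695131 : sm ge N50893 = N48816 := ded_44_1 (flp_i L673989) L673972 L695122
theorem L695133 : sm gf N50893 = N50303 := ded_48_1 (flp_i L690175) (flp_f L673987) L695122
theorem L695135 : sm gg N50893 = N50293 := ded_51_1 (flp_i L690094) (flp_g L673980) L695122
theorem L695137 : sm gj N50893 = N48897 := ded_53_1 (flp_i L675156) (flp_j L673982) L695122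
theorem L695139 : sm gh N48816 = N50894 := rfl
theorem L695141 : sm ga N50894 = N49979 := ded_17_1 (flp_h L687015) (flp_a L673991) L695139
theorem L695143 : sm gb N50894 = N49276 := ded_25_1 (flp_h L679739) (flp_b L673993) L695139
theorem L695145 : sm gc N50894 = N49970 := ded_32_1 (flp_h L686912) (flp_c L673995) L695139
theorem L695147 : sm gf N50894 = N49971 := ded_47_1 (flp_h L686920) (flp_f L673999) L695139
theorem L695149 : sm gj N50894 = N48898 := ded_52_1 (flp_h L675167) (flp_j L674001) L695139
theorem L695151 : sm gi N50894 = N48821 := ded_54_2 (flp_h L674069) (flp_i L652568) (flp_h L652493) L673989 L695139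
theorem L695153 : sm gh N48817 = N50895 := rfl
theorem L695155 : sm ga N50895 = N50311 := ded_17_1 (flp_h L690232) (flp_a L674005) L695153
theorem L695157 : sm gb N50895 = N49283 := ded_25_1 (flp_h L679809) (flp_b L674007) L695153
theorem L695159 : sm gc N50895 = N49967 := ded_32_1 (flp_h L686872) (flp_c L674009) L695153
theorem L695161 : sm ge N50895 = N50297 := ded_43_1 (flp_h L690125) (flp_e L674013) L695153
theorem L695163 : sm gg N50895 = N48821 := ded_50_1 (flp_h L674069) (flp_g L674015) L695153
theorem L695165 : sm gj N50895 = N49990 := ded_52_1 (flp_h L687141) (flp_j L674017) L695153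
theorem L695167 : sm gh N48818 = N50896 := rfl
theorem L695169 : sm ga N50896 = N49971 := ded_17_1 (flp_h L686920) (flp_a L674021) L695167
theorem L695171 : sm gb N50896 = N50288 := ded_25_1 (flp_h L690058) (flp_b L674023) L695167
theorem L695173 : sm gc N50896 = N48821 := ded_32_1 (flp_h L674069) (flp_c L674025) L695167
theorem L695175 : sm ge N50896 = N50296 := ded_43_1 (flp_h L690119) (flp_e L674029) L695167
theorem L695177 : sm gf N50896 = N49979 := ded_47_1 (flp_h L687015) (flp_f L674031) L695167
theorem L695179 : sm gg N50896 = N49967 := ded_50_1 (flp_h L686872) (flp_g L674033) L695167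
theorem L695181 : sm gj N50896 = N48912 := ded_52_1 (flp_h L675355) (flp_j L674035) L695167
theorem L695183 : sm gd N50896 = N49974 := ded_38_1 (flp_h L686954) L664605 (flp_h L652664) (flp_d L674027) L695167
theorem L695185 : sm gi N50896 = N49970 := ded_54_2 (flp_h L686912) (flp_i L664499) (flp_h L652546) L674019 L695167
theorem L695187 : sm gg N48819 = N50897 := rfl
theorem L695189 : sm ga N50897 = N49213 := ded_15_1 L679014 (flp_a L674039) L695187
theorem L695191 : sm gb N50897 = N49290 := ded_23_1 (flp_g L679884) (flp_b L674041) L695187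
theorem L695193 : sm gc N50897 = N49242 := ded_30_1 L679363 (flp_c L674043) L695187
theorem L695195 : sm gd N50897 = N48822 := ded_36_1 (flp_g L674077) (flp_d L674045) L695187
theorem L695197 : sm ge N50897 = N49264 := ded_41_1 L679608 (flp_e L674051) L695187
theorem L695199 : sm gh N50897 = N49277 := ded_50_2 L679749 (flp_h L674049) L695187
theorem L695201 : sm gf N50897 = N49246 := ded_45_1 L679408 L657433 (flp_g L652562) L674037 L695187
theorem L695203 : sm gj N49400 = N50897 := ded_16_0 L695189 L679016 L681148
theorem L695205 : sm gi N48819 = N50898 := rfl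
theorem L695207 : sm ga N50898 = N50302 := ded_18_1 (flp_i L690167) (flp_a L674039) L695205
theorem L695209 : sm gb N50898 = N49291 := ded_26_1 (flp_i L679890) (flp_b L674041) L695205
theorem L695211 : sm gc N50898 = N50295 := ded_33_1 (flp_i L690111) (flp_c L674043) L695205
theorem L695213 : sm gd N50898 = N48823 := ded_39_1 (flp_i L674092) (flp_d L674045) L695205
theorem L695215 : sm ge N50898 = N49980 := ded_44_1 (flp_i L687021) (flp_e L674051) L695205
theorem L695217 : sm gf N50898 = N48820 := ded_48_1 (flp_i L674053) L674037 L695205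
theorem L695219 : sm gj N50898 = N48914 := ded_53_1 (flp_i L675375) (flp_j L674047) L695205
theorem L695221 : sm gh N48820 = N50899 := rfl
theorem L695223 : sm ga N50899 = N50306 := ded_17_1 (flp_h L690192) (flp_a L674055) L695221
theorem L695225 : sm gb N50899 = N49292 := ded_25_1 (flp_h L679900) (flp_b L674057) L695221
theorem L695227 : sm gc N50899 = N50296 := ded_32_1 (flp_h L690119) (flp_c L674059) L695221
theorem L695229 : sm ge N50899 = N48821 := ded_43_1 (flp_h L674069) (flp_e L674063) L695221
theorem L695231 : sm gg N50899 = N50297 := ded_50_1 (flp_h L690125) (flp_g L674065) L695221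
theorem L695233 : sm gj N50899 = N48915 := ded_52_1 (flp_h L675385) (flp_j L674067) L695221
theorem L695235 : sm gi N48822 = N50900 := rfl
theorem L695237 : sm ga N50900 = N49225 := ded_18_1 (flp_i L679162) (flp_a L674079) L695235
theorem L695239 : sm gb N50900 = N49295 := ded_26_1 (flp_i L679934) (flp_b L674081) L695235
theorem L695241 : sm gc N50900 = N49227 := ded_33_1 (flp_i L679183) (flp_c L674083) L695235
theorem L695243 : sm ge N50900 = N48826 := ded_44_1 (flp_i L674139) (flp_e L674085) L695235
theorem L695245 : sm gf N50900 = N49259 := ded_48_1 (flp_i L679543) (flp_f L674088) L695235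
theorem L695247 : sm gg N50900 = N48823 := ded_51_1 (flp_i L674092) L674077 L695235
theorem L695249 : sm gj N50900 = N49428 := ded_53_1 (flp_i L681426) L674090 L695235
theorem L695251 : sm gh N50749 = N50900 := ded_25_0 L695239 (flp_h L679943) (flp_b L693577)
theorem L695253 : sm gh N48823 = N50901 := rfl
theorem L695255 : sm ga N50901 = N50315 := ded_17_1 (flp_h L690260) (flp_a L674094) L695253
theorem L695257 : sm gb N50901 = N49296 := ded_25_1 (flp_h L679945) (flp_b L674096) L695253
theorem L695259 : sm gc N50901 = N50298 := ded_32_1 (flp_h L690133) (flp_c L674098) L695253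
theorem L695261 : sm ge N50901 = N48827 := ded_43_1 (flp_h L674152) (flp_e L674100) L695253
theorem L695263 : sm gf N50901 = N48824 := ded_47_1 (flp_h L674106) (flp_f L674102) L695253
theorem L695265 : sm gg N50901 = N50749 := ded_50_1 L695251 L695247 L695253
theorem L695267 : sm gj N50901 = N48921 := ded_52_1 (flp_h L675454) (flp_j L674104) L695253
theorem L695269 : sm gi N50901 = N50901 := ded_54_2 (flp_h L695253) (flp_i L674092) L652588 L674092 L695253
theorem L695270 : sm gd N48824 = N50902 := rfl
theorem L695272 : sm ga N50902 = N50318 := ded_12_1 (flp_d L690293) (flp_a L674108) L695270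
theorem L695274 : sm gb N50902 = N49297 := ded_20_1 (flp_d L679957) (flp_b L674110) L695270
theorem L695276 : sm gg N50902 = N50299 := ded_36_2 (flp_d L690145) (flp_g L674116) L695270
theorem L695278 : sm gj N50902 = N48922 := ded_37_2 (flp_d L675467) (flp_j L674118) L695270
theorem L695280 : sm gi N50902 = N50902 := ded_39_2 (flp_d L695270) L674120 L695270
theorem L695281 : sm gd N48829 = N50903 := rfl
theorem L695283 : sm ga N50903 = N50011 := ded_12_1 (flp_d L687383) (flp_a L674187) L695281
theorem L695285 : sm gb N50903 = N49375 := ded_20_1 (flp_d L680945) (flp_b L674189) L695281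
theorem L695287 : sm gf N50903 = N48830 := ded_35_2 (flp_d L674201) (flp_f L674195) L695281
theorem L695289 : sm gg N50903 = N49982 := ded_36_2 (flp_d L687043) (flp_g L674197) L695281
theorem L695291 : sm gj N50903 = N50441 := ded_37_2 L691219 (flp_j L674199) L695281
theorem L695293 : sm gc N50903 = N50445 := ded_27_1 L691247 L669197 (flp_d L665023) (flp_c L674191) L695281
theorem L695295 : sm gh N50903 = N48837 := ded_38_2 (flp_d L674305) (flp_h L652749) (flp_d L652674) L674185 L695281
theorem L695297 : sm gi N48829 = N50904 := rfl
theorem L695299 : sm ga N50904 = N50012 := ded_18_1 (flp_i L687393) (flp_a L674187) L695297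
theorem L695301 : sm gb N50904 = N49376 := ded_26_1 (flp_i L680953) (flp_b L674189) L695297
theorem L695303 : sm gc N50904 = N50003 := ded_33_1 (flp_i L687283) (flp_c L674191) L695297
theorem L695305 : sm ge N50904 = N50119 := ded_44_1 (flp_i L688510) (flp_e L674193) L695297
theorem L695307 : sm gf N50904 = N48831 := ded_48_1 (flp_i L674215) (flp_f L674195) L695297
theorem L695309 : sm gg N50904 = N49983 := ded_51_1 (flp_i L687055) (flp_g L674197) L695297
theorem L695311 : sm gj N50904 = N50759 := ded_53_1 (flp_i L693684) (flp_j L674199) L695297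
theorem L695313 : sm gh N50904 = N48891 := ded_54_1 (flp_i L675069) (flp_h L653580) (flp_i L652676) L674185 L695297
theorem L695315 : sm ge N48830 = N50905 := rfl
theorem L695317 : sm ga N50905 = N49539 := ded_13_1 L682551 (flp_a L674203) L695315
theorem L695319 : sm gb N50905 = N49380 := ded_21_1 (flp_e L680991) (flp_b L674205) L695315
theorem L695321 : sm gc N50905 = N49574 := ded_28_1 L682843 (flp_c L674211) L695315
theorem L695323 : sm gg N50905 = N48833 := ded_41_2 (flp_e L674246) (flp_g L674207) L695315
theorem L695325 : sm gj N50905 = N49570 := ded_42_2 L682816 (flp_j L674209) L695315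
theorem L695327 : sm gh N50905 = N48842 := ded_43_2 (flp_e L674373) (flp_h L674213) L695315
theorem L695329 : sm gd N50905 = N50905 := ded_34_1 (flp_e L695315) (flp_d L674201) L652707 L674201 L695315
theorem L695330 : sm gi N48830 = N50906 := rfl
theorem L695332 : sm ga N50906 = N50050 := ded_18_1 L687765 (flp_a L674203) L695330
theorem L695334 : sm gb N50906 = N49381 := ded_26_1 (flp_i L680998) (flp_b L674205) L695330
theorem L695336 : sm gc N50906 = N50457 := ded_33_1 (flp_i L691317) (flp_c L674211) L695330
theorem L695338 : sm gd N50906 = N48831 := ded_39_1 (flp_i L674215) L674201 L695330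
theorem L695340 : sm gg N50906 = N48834 := ded_51_1 (flp_i L674257) (flp_g L674207) L695330
theorem L695342 : sm gj N50906 = N50453 := ded_53_1 (flp_i L691295) (flp_j L674209) L695330
theorem L695344 : sm gb N48832 = N50907 := rfl
theorem L695346 : sm gd N50907 = N49263 := ded_20_2 L679589 (flp_d L674242) L695344
theorem L695348 : sm gf N50907 = N49266 := ded_22_2 L679629 (flp_f L674234) L695344
theorem L695350 : sm gg N50907 = N50039 := ded_23_2 L687649 (flp_g L674236) L695344
theorem L695352 : sm gj N50907 = N49264 := ded_24_2 L679604 (flp_j L674238) L695344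
theorem L695354 : sm gh N50907 = N48844 := ded_25_2 (flp_b L674393) (flp_h L674240) L695344
theorem L695356 : sm gi N50907 = N50762 := ded_26_2 L693709 L674244 L695344
theorem L695358 : sm ga N50907 = N49401 := ded_10_1 L681156 (flp_a L678972) L678974 (flp_a L674232) L695344
theorem L695360 : sm gc N50907 = N49382 := ded_19_2 (flp_b L681004) (flp_c L658836) (flp_b L652716) L674230 L695344
theorem L695362 : sm ge N49400 = N50907 := ded_34_0 L695346 L679592 (flp_d L674129) L674131 (flp_d L681150)
theorem L695364 : sm ge N48832 = N50908 := rfl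
theorem L695366 : sm ga N50908 = N49357 := ded_13_1 L680737 (flp_a L674232) L695364
theorem L695368 : sm gb N50908 = N49400 := ded_21_1 L695362 (flp_b L695344) L695364
theorem L695370 : sm gc N50908 = N48833 := ded_28_1 (flp_e L674246) L674230 L695364
theorem L695372 : sm gg N50908 = N49574 := ded_41_2 L682843 (flp_g L674236) L695364
theorem L695374 : sm gj N50908 = N49290 := ded_42_2 L679888 (flp_j L674238) L695364
theorem L695376 : sm gh N50908 = N48845 := ded_43_2 (flp_e L674403) (flp_h L674240) L695364
theorem L695378 : sm gi N50908 = N50763 := ded_44_2 (flp_e L693711) L674244 L695364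
theorem L695380 : sm gd N50908 = N49294 := ded_34_1 L679925 L657851 (flp_e L668047) (flp_d L674242) L695364
theorem L695382 : sm gf N50908 = N49470 := ded_40_2 (flp_e L681893) L659563 (flp_e L664798) (flp_f L674234) L695364
theorem L695384 : sm gi N48833 = N50909 := rfl
theorem L695386 : sm ga N50909 = N49540 := ded_18_1 (flp_i L682555) (flp_a L674248) L695384
theorem L695388 : sm gb N50909 = N49386 := ded_26_1 (flp_i L681043) (flp_b L674250) L695384
theorem L695390 : sm gc N50909 = N50763 := ded_33_1 (flp_i L695378) L695370 L695384
theorem L695392 : sm gd N50909 = N50909 := ded_39_1 (flp_i L695384) L674254 L695384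
theorem L695393 : sm ge N50909 = N48834 := ded_44_1 (flp_i L674257) L674246 L695384
theorem L695395 : sm gf N50909 = N49472 := ded_48_1 (flp_i L681914) (flp_f L674255) L695384
theorem L695397 : sm gh N48834 = N50910 := rfl
theorem L695399 : sm ga N50910 = N50038 := ded_17_1 L687645 (flp_a L674259) L695397
theorem L695401 : sm gb N50910 = N49387 := ded_25_1 (flp_h L681048) (flp_b L674261) L695397
theorem L695403 : sm gc N50910 = N50455 := ded_32_1 L691311 (flp_c L674263) L695397
theorem L695405 : sm gf N50910 = N49986 := ded_47_1 (flp_h L687097) (flp_f L674267) L695397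
theorem L695407 : sm gd N50910 = N48898 := ded_38_1 (flp_h L675167) L653647 (flp_h L652733) (flp_d L674265) L695397
theorem L695409 : sm gi N50910 = N48848 := ded_54_2 (flp_h L674434) (flp_i L652815) (flp_h L652720) L674257 L695397
theorem L695411 : sm gd N48836 = N50911 := rfl
theorem L695413 : sm ga N50911 = N50445 := ded_12_1 L691247 (flp_a L674291) L695411
theorem L695415 : sm gb N50911 = N49389 := ded_20_1 (flp_d L681070) (flp_b L674293) L695411
theorem L695417 : sm gf N50911 = N48839 := ded_35_2 (flp_d L674331) (flp_f L674299) L695411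
theorem L695419 : sm gg N50911 = N50013 := ded_36_2 L687415 (flp_g L674301) L695411
theorem L695421 : sm gj N50911 = N48837 := ded_37_2 (flp_d L674305) (flp_j L674303) L695411
theorem L695423 : sm gc N50911 = N50011 := ded_27_1 (flp_d L687383) L665160 (flp_d L652931) (flp_c L674295) L695411
theorem L695425 : sm gh N50911 = N50441 := ded_38_2 L691219 L674183 L674173 L674289 L695411
theorem L695427 : sm gi N48836 = N50912 := rfl
theorem L695429 : sm ga N50912 = N50459 := ded_18_1 (flp_i L691329) (flp_a L674291) L695427
theorem L695431 : sm gb N50912 = N49390 := ded_26_1 (flp_i L681076) (flp_b L674293) L695427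
theorem L695433 : sm gc N50912 = N48855 := ded_33_1 (flp_i L674524) (flp_c L674295) L695427
theorem L695435 : sm ge N50912 = N48942 := ded_44_1 (flp_i L675723) (flp_e L674297) L695427
theorem L695437 : sm gf N50912 = N48840 := ded_48_1 (flp_i L674345) (flp_f L674299) L695427
theorem L695439 : sm gg N50912 = N50044 := ded_51_1 (flp_i L687691) (flp_g L674301) L695427
theorem L695441 : sm gj N50912 = N48838 := ded_53_1 (flp_i L674315) (flp_j L674303) L695427
theorem L695443 : sm gh N50912 = N48900 := ded_54_1 (flp_i L675191) (flp_h L653665) (flp_i L652747) L674289 L695427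
theorem L695445 : sm gc N48837 = N50913 := rfl
theorem L695447 : sm ga N50913 = N50441 := ded_11_1 L691217 (flp_a L674307) L695445
theorem L695449 : sm gf N50913 = N48841 := ded_29_2 (flp_c L674361) (flp_f L674311) L695445
theorem L695451 : sm gg N50913 = N48899 := ded_30_2 L675189 (flp_g L674313) L695445
theorem L695453 : sm gj N50913 = N50011 := ded_31_2 (flp_c L695423) L695421 L695445
theorem L695455 : sm gh N50913 = N50445 := ded_32_2 (flp_c L695293) L695295 L695445
theorem L695457 : sm gd N50913 = N48856 := ded_27_2 (flp_c L674542) (flp_d L652933) (flp_c L652755) L674305 L695445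
theorem L695459 : sm gb N49542 = N50913 := ded_23_3 L695451 L675183 (flp_g L682570)
theorem L695461 : sm ge N48837 = N50914 := rfl
theorem L695463 : sm ga N50914 = N50432 := ded_13_1 L691157 (flp_a L674307) L695461
theorem L695465 : sm gb N50914 = N49392 := ded_21_1 (flp_e L681096) (flp_b L674309) L695461
theorem L695467 : sm gg N50914 = N49987 := ded_41_2 (flp_e L687109) (flp_g L674313) L695461
theorem L695469 : sm gd N50914 = N48944 := ded_34_1 (flp_e L675747) (flp_d L654157) (flp_e L652757) L674305 L695461
theorem L695471 : sm gi N48837 = N50915 := rfl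
theorem L695473 : sm ga N50915 = N50446 := ded_18_1 (flp_i L691251) (flp_a L674307) L695471
theorem L695475 : sm gb N50915 = N49393 := ded_26_1 (flp_i L681102) (flp_b L674309) L695471
theorem L695477 : sm gd N50915 = N48838 := ded_39_1 (flp_i L674315) L674305 L695471
theorem L695479 : sm gf N50915 = N48843 := ded_48_1 (flp_i L674383) (flp_f L674311) L695471
theorem L695481 : sm gg N50915 = N49988 := ded_51_1 (flp_i L687119) (flp_g L674313) L695471
theorem L695483 : sm ge N48839 = N50916 := rfl
theorem L695485 : sm ga N50916 = N49574 := ded_13_1 L682843 (flp_a L674333) L695483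
theorem L695487 : sm gb N50916 = N49354 := ded_21_1 (flp_e L680711) (flp_b L674335) L695483
theorem L695489 : sm gc N50916 = N49539 := ded_28_1 L682551 (flp_c L674341) L695483
theorem L695491 : sm gg N50916 = N49357 := ded_41_2 L680737 (flp_g L674337) L695483
theorem L695493 : sm gj N50916 = N48842 := ded_42_2 (flp_e L674373) (flp_j L674339) L695483
theorem L695495 : sm gh N50916 = N49570 := ded_43_2 L682816 (flp_h L674343) L695483
theorem L695497 : sm gd N50916 = N48849 := ded_34_1 (flp_e L674444) (flp_d L652825) (flp_e L652771) L674331 L695483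
theorem L695499 : sm gi N48839 = N50917 := rfl
theorem L695501 : sm ga N50917 = N50457 := ded_18_1 (flp_i L691317) (flp_a L674333) L695499
theorem L695503 : sm gb N50917 = N49394 := ded_26_1 (flp_i L681110) (flp_b L674335) L695499
theorem L695505 : sm gc N50917 = N50050 := ded_33_1 L687765 (flp_c L674341) L695499
theorem L695507 : sm gd N50917 = N48840 := ded_39_1 (flp_i L674345) L674331 L695499
theorem L695509 : sm gg N50917 = N49991 := ded_51_1 L687155 (flp_g L674337) L695499
theorem L695511 : sm gj N50917 = N48843 := ded_53_1 (flp_i L674383) (flp_j L674339) L695499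
theorem L695513 : sm gb N48841 = N50918 := rfl
theorem L695515 : sm gd N50918 = N48858 := ded_20_2 (flp_b L674576) (flp_d L674371) L695513
theorem L695517 : sm gf N50918 = N49542 := ded_22_2 L695459 L695449 L695513
theorem L695519 : sm gg N50918 = N48844 := ded_23_2 (flp_b L674393) (flp_g L674365) L695513
theorem L695521 : sm gj N50918 = N50008 := ded_24_2 L687353 (flp_j L674367) L695513
theorem L695523 : sm gh N50918 = N50039 := ded_25_2 L687649 (flp_h L674369) L695513
theorem L695525 : sm gc N50918 = N49395 := ded_19_2 (flp_b L681116) (flp_c L658906) (flp_b L652779) L674361 L695513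
theorem L695527 : sm ge N48841 = N50919 := rfl
theorem L695529 : sm ga N50919 = N49570 := ded_13_1 L682816 (flp_a L674363) L695527
theorem L695531 : sm gc N50919 = N48842 := ded_28_1 (flp_e L674373) L674361 L695527
theorem L695533 : sm gg N50919 = N48845 := ded_41_2 (flp_e L674403) (flp_g L674365) L695527
theorem L695535 : sm gj N50919 = N49539 := ded_42_2 L682551 (flp_j L674367) L695527
theorem L695537 : sm gh N50919 = N49574 := ded_43_2 L682843 (flp_h L674369) L695527
theorem L695539 : sm gd N50919 = N50919 := ded_34_1 (flp_e L695527) L674371 L653002 (flp_d L674371) L695527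
theorem L695540 : sm gi N48841 = N50920 := rfl
theorem L695542 : sm ga N50920 = N50453 := ded_18_1 (flp_i L691295) (flp_a L674363) L695540
theorem L695544 : sm gc N50920 = N48843 := ded_33_1 (flp_i L674383) L674361 L695540
theorem L695546 : sm gd N50920 = N48859 := ded_39_1 (flp_i L674589) (flp_d L674371) L695540
theorem L695548 : sm gg N50920 = N48846 := ded_51_1 (flp_i L674412) (flp_g L674365) L695540
theorem L695550 : sm gj N50920 = N50050 := ded_53_1 L687765 (flp_j L674367) L695540
theorem L695552 : sm gf N48842 = N50921 := rfl
theorem L695554 : sm ga N50921 = N49564 := ded_14_1 L682768 (flp_a L674375) L695552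
theorem L695556 : sm gb N50921 = N49397 := ded_22_1 (flp_f L681130) (flp_b L674377) L695552
theorem L695558 : sm gd N50921 = N48851 := ded_35_1 (flp_f L674473) (flp_d L674381) L695552
theorem L695560 : sm gg N50921 = N49486 := ded_45_2 (flp_f L682044) L659653 (flp_f L652813) (flp_g L674379) L695552
theorem L695562 : sm gi N48842 = N50922 := rfl
theorem L695564 : sm ga N50922 = N49575 := ded_18_1 (flp_i L682845) (flp_a L674375) L695562
theorem L695566 : sm gb N50922 = N49398 := ded_26_1 (flp_i L681134) (flp_b L674377) L695562
theorem L695568 : sm gd N50922 = N48852 := ded_39_1 (flp_i L674485) (flp_d L674381) L695562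
theorem L695570 : sm ge N50922 = N48843 := ded_44_1 (flp_i L674383) L674373 L695562
theorem L695572 : sm gg N50922 = N48847 := ded_51_1 (flp_i L674422) (flp_g L674379) L695562
theorem L695574 : sm gh N48843 = N50923 := rfl
theorem L695576 : sm ga N50923 = N50458 := ded_17_1 (flp_h L691325) (flp_a L674385) L695574
theorem L695578 : sm gb N50923 = N49399 := ded_25_1 (flp_h L681142) (flp_b L674387) L695574
theorem L695580 : sm gg N50923 = N48848 := ded_50_1 (flp_h L674434) (flp_g L674391) L695574
theorem L695582 : sm gd N50923 = N48908 := ded_38_1 (flp_h L675299) L653761 (flp_h L652795) (flp_d L674389) L695574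
theorem L695584 : sm ga N48844 = N50924 := rfl
theorem L695586 : sm gc N50924 = N49400 := ded_11_2 (flp_a L681148) (flp_c L674401) L695584
theorem L695588 : sm gd N50924 = N48860 := ded_12_2 (flp_a L674602) (flp_d L674395) L695584
theorem L695590 : sm gf N50924 = N49244 := ded_14_2 L679378 (flp_f L674397) L695584
theorem L695592 : sm gj N50924 = N49242 := ded_16_2 L679359 (flp_j L674399) L695584
theorem L695594 : sm gh N50924 = N49401 := ded_17_2 (flp_a L695358) L695354 L695584
theorem L695596 : sm gb N50924 = N49383 := ded_10_2 L681013 L669141 (flp_a L652799) L674393 L695584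
theorem L695598 : sm ge N49382 = N50924 := ded_28_0 L695586 L695362 L695360
theorem L695600 : sm ge N48844 = N50925 := rfl
theorem L695602 : sm ga N50925 = N49382 := ded_13_1 L695598 (flp_a L695584) L695600
theorem L695604 : sm gb N50925 = N48845 := ded_21_1 (flp_e L674403) L674393 L695600
theorem L695606 : sm gc N50925 = N49401 := ded_28_1 (flp_e L681154) (flp_c L674401) L695600
theorem L695608 : sm gj N50925 = N49277 := ded_42_2 (flp_e L679747) (flp_j L674399) L695600
theorem L695610 : sm gh N50925 = N49400 := ded_43_2 L695362 L695354 L695600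
theorem L695612 : sm gd N50925 = N50925 := ded_34_1 (flp_e L695600) L674395 L653026 (flp_d L674395) L695600
theorem L695613 : sm gf N50925 = N49490 := ded_40_2 (flp_e L682080) L659669 (flp_e L657712) (flp_f L674397) L695600
theorem L695615 : sm gi N48844 = N50926 := rfl
theorem L695617 : sm gb N50926 = N48846 := ded_26_1 (flp_i L674412) L674393 L695615
theorem L695619 : sm gc N50926 = N49402 := ded_33_1 (flp_i L681158) (flp_c L674401) L695615
theorem L695621 : sm gd N50926 = N48861 := ded_39_1 (flp_i L674615) (flp_d L674395) L695615
theorem L695623 : sm gf N50926 = N49279 := ded_48_1 (flp_i L679760) (flp_f L674397) L695615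
theorem L695625 : sm gj N50926 = N49278 := ded_53_1 (flp_i L679752) (flp_j L674399) L695615
theorem L695627 : sm gi N48845 = N50927 := rfl
theorem L695629 : sm ga N50927 = N49571 := ded_18_1 (flp_i L682818) (flp_a L674405) L695627
theorem L695631 : sm gc N50927 = N48847 := ded_33_1 (flp_i L674422) (flp_c L674407) L695627
theorem L695633 : sm gd N50927 = N50927 := ded_39_1 (flp_i L695627) L674409 L695627
theorem L695634 : sm ge N50927 = N48846 := ded_44_1 (flp_i L674412) L674403 L695627
theorem L695636 : sm gf N50927 = N49492 := ded_48_1 (flp_i L682097) (flp_f L674410) L695627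
theorem L695638 : sm gh N48846 = N50928 := rfl
theorem L695640 : sm ga N50928 = N50454 := ded_17_1 (flp_h L691303) (flp_a L674414) L695638
theorem L695642 : sm gc N50928 = N48848 := ded_32_1 (flp_h L674434) (flp_c L674416) L695638
theorem L695644 : sm gf N50928 = N49990 := ded_47_1 (flp_h L687141) (flp_f L674420) L695638
theorem L695646 : sm gd N50928 = N50415 := ded_38_1 (flp_h L691042) L674641 (flp_h L674626) (flp_d L674418) L695638
theorem L695648 : sm gi N50928 = N50455 := ded_54_2 L691311 L674244 L674240 L674412 L695638
theorem L695650 : sm gh N48847 = N50929 := rfl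
theorem L695652 : sm ga N50929 = N49576 := ded_17_1 (flp_h L682853) (flp_a L674424) L695650
theorem L695654 : sm gb N50929 = N49408 := ded_25_1 (flp_h L681210) (flp_b L674426) L695650
theorem L695656 : sm ge N50929 = N48848 := ded_43_1 (flp_h L674434) (flp_e L674430) L695650
theorem L695658 : sm gf N50929 = N49494 := ded_47_1 (flp_h L682114) (flp_f L674432) L695650
theorem L695660 : sm gf N48849 = N50930 := rfl
theorem L695662 : sm ga N50930 = N49580 := ded_14_1 L682891 (flp_a L674446) L695660
theorem L695664 : sm gb N50930 = N49367 := ded_22_1 L680854 (flp_b L674448) L695660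
theorem L695666 : sm gc N50930 = N50930 := ded_29_1 (flp_f L695660) L674450 L695660
theorem L695667 : sm gj N50930 = N48851 := ded_46_2 (flp_f L674473) (flp_j L674453) L695660
theorem L695669 : sm gh N50930 = N50930 := ded_47_2 (flp_f L695660) L674455 L695660
theorem L695670 : sm ge N50930 = N48959 := ded_40_1 (flp_f L675920) (flp_e L654297) (flp_f L652831) L674444 L695660
theorem L695672 : sm gg N50930 = N50336 := ded_45_2 L690472 L668360 (flp_f L658760) (flp_g L674451) L695660
theorem L695674 : sm gi N48849 = N50931 := rfl
theorem L695676 : sm ga N50931 = N49584 := ded_18_1 (flp_i L682916) (flp_a L674446) L695674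
theorem L695678 : sm gb N50931 = N49369 := ded_26_1 (flp_i L680874) (flp_b L674448) L695674
theorem L695680 : sm gc N50931 = N50931 := ded_33_1 (flp_i L695674) L674450 L695674
theorem L695681 : sm ge N50931 = N48850 := ded_44_1 (flp_i L674456) L674444 L695674
theorem L695683 : sm gg N50931 = N49371 := ded_51_1 (flp_i L680896) (flp_g L674451) L695674
theorem L695685 : sm gj N50931 = N48852 := ded_53_1 (flp_i L674485) (flp_j L674453) L695674
theorem L695687 : sm gh N50757 = N50931 := ded_17_0 L695676 (flp_h L682925) (flp_a L693671)
theorem L695689 : sm gi N48851 = N50932 := rfl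
theorem L695691 : sm ga N50932 = N49581 := ded_18_1 (flp_i L682894) (flp_a L674475) L695689
theorem L695693 : sm gb N50932 = N49411 := ded_26_1 (flp_i L681242) (flp_b L674477) L695689
theorem L695695 : sm gc N50932 = N50932 := ded_33_1 (flp_i L695689) L674479 L695689
theorem L695696 : sm ge N50932 = N48962 := ded_44_1 (flp_i L675957) (flp_e L674481) L695689
theorem L695698 : sm gf N50932 = N48852 := ded_48_1 (flp_i L674485) L674473 L695689
theorem L695700 : sm gg N50932 = N49498 := ded_51_1 (flp_i L682159) (flp_g L674483) L695689
theorem L695702 : sm gh N48852 = N50933 := rfl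
theorem L695704 : sm ga N50933 = N49585 := ded_17_1 (flp_h L682927) (flp_a L674487) L695702
theorem L695706 : sm gb N50933 = N49412 := ded_25_1 (flp_h L681248) (flp_b L674489) L695702
theorem L695708 : sm gc N50933 = N50933 := ded_32_1 (flp_h L695702) L674491 L695702
theorem L695709 : sm ge N50933 = N48853 := ded_43_1 (flp_h L674496) (flp_e L674492) L695702
theorem L695711 : sm gg N50933 = N48854 := ded_50_1 (flp_h L674512) (flp_g L674494) L695702
theorem L695713 : sm gj N50933 = N50757 := ded_52_1 L695687 L695685 L695702
theorem L695715 : sm gi N50933 = N50933 := ded_54_2 (flp_h L695702) (flp_i L674485) L652862 L674485 L695702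
theorem L695716 : sm gd N48854 = N50934 := rfl
theorem L695718 : sm ga N50934 = N49586 := ded_12_1 (flp_d L682937) (flp_a L674514) L695716
theorem L695720 : sm gb N50934 = N49415 := ded_20_1 (flp_d L681278) (flp_b L674516) L695716
theorem L695722 : sm gf N50934 = N49500 := ded_35_2 (flp_d L682178) (flp_f L674521) L695716
theorem L695724 : sm gi N50934 = N50934 := ded_39_2 (flp_d L695716) L674523 L695716
theorem L695725 : sm ge N50934 = N48922 := ded_34_2 (flp_d L675467) L653892 (flp_d L652896) (flp_e L674519) L695716
theorem L695727 : sm gi N48856 = N50935 := rfl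
theorem L695729 : sm ga N50935 = N50759 := ded_18_1 (flp_i L693684) (flp_a L674544) L695727
theorem L695731 : sm gb N50935 = N49543 := ded_26_1 (flp_i L682574) (flp_b L674556) L695727
theorem L695733 : sm gc N50935 = N48857 := ded_33_1 (flp_i L674558) L674542 L695727
theorem L695735 : sm ge N50935 = N49082 := ded_44_1 (flp_i L677454) (flp_e L674546) L695727
theorem L695737 : sm gf N50935 = N48859 := ded_48_1 (flp_i L674589) (flp_f L674548) L695727
theorem L695739 : sm gg N50935 = N48900 := ded_51_1 (flp_i L675191) (flp_g L674550) L695727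
theorem L695741 : sm gj N50935 = N50012 := ded_53_1 (flp_i L687393) (flp_j L674552) L695727
theorem L695743 : sm gh N50935 = N50044 := ded_54_1 (flp_i L687691) L674287 L674281 (flp_h L674554) L695727
theorem L695745 : sm ga N48858 = N50936 := rfl
theorem L695747 : sm gc N50936 = N48863 := ded_11_2 (flp_a L674643) (flp_c L674587) L695745
theorem L695749 : sm ge N50936 = N50936 := ded_13_2 (flp_a L695745) L674578 L695745
theorem L695750 : sm gf N50936 = N49474 := ded_14_2 L681931 (flp_f L674579) L695745
theorem L695752 : sm gg N50936 = N48860 := ded_15_2 (flp_a L674602) (flp_g L674581) L695745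
theorem L695754 : sm gj N50936 = N49331 := ded_16_2 L680420 (flp_j L674583) L695745
theorem L695756 : sm gh N50936 = N49241 := ded_17_2 L679342 (flp_h L674585) L695745
theorem L695758 : sm gb N50936 = N49342 := ded_10_2 L680565 L658814 (flp_a L653000) L674576 L695745
theorem L695760 : sm gi N48858 = N50937 := rfl
theorem L695762 : sm gb N50937 = N48859 := ded_26_1 (flp_i L674589) L674576 L695760
theorem L695764 : sm gc N50937 = N48864 := ded_33_1 (flp_i L674657) (flp_c L674587) L695760
theorem L695766 : sm ge N50937 = N50937 := ded_44_1 (flp_i L695760) L674578 L695760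
theorem L695767 : sm gf N50937 = N49543 := ded_48_1 (flp_i L682574) (flp_f L674579) L695760
theorem L695769 : sm gg N50937 = N48861 := ded_51_1 (flp_i L674615) (flp_g L674581) L695760
theorem L695771 : sm gj N50937 = N50049 := ded_53_1 L687759 (flp_j L674583) L695760
theorem L695773 : sm gh N50937 = N50048 := ded_54_1 (flp_i L687739) (flp_h L674712) L674714 (flp_h L674585) L695760
theorem L695775 : sm gi N48860 = N50938 := rfl
theorem L695777 : sm ga N50938 = N48861 := ded_18_1 (flp_i L674615) L674602 L695775
theorem L695779 : sm gb N50938 = N50760 := ded_26_1 (flp_i L693692) (flp_b L674613) L695775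
theorem L695781 : sm gc N50938 = N48865 := ded_33_1 (flp_i L674672) (flp_c L674604) L695775
theorem L695783 : sm ge N50938 = N50938 := ded_44_1 (flp_i L695775) L674606 L695775
theorem L695784 : sm gf N50938 = N49245 := ded_48_1 (flp_i L679390) (flp_f L674607) L695775
theorem L695786 : sm gj N50938 = N49243 := ded_53_1 (flp_i L679365) (flp_j L674609) L695775
theorem L695788 : sm gh N48861 = N50939 := rfl
theorem L695790 : sm gb N50939 = N48862 := ded_25_1 (flp_h L674626) (flp_b L674617) L695788
theorem L695792 : sm gc N50939 = N48866 := ded_32_1 (flp_h L674684) (flp_c L674619) L695788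
theorem L695794 : sm ge N50939 = N50939 := ded_43_1 (flp_h L695788) L674621 L695788
theorem L695795 : sm gf N50939 = N49211 := ded_47_1 L679000 (flp_f L674622) L695788
theorem L695797 : sm gg N50939 = N50048 := ded_50_1 (flp_h L695773) L695769 L695788
theorem L695799 : sm gj N50939 = N49209 := ded_52_1 L678968 (flp_j L674624) L695788
theorem L695801 : sm gi N50939 = N49207 := ded_54_2 (flp_h L678926) L656944 (flp_h L653031) L674615 L695788
theorem L695803 : sm gd N50413 = N50939 := ded_20_0 L695790 (flp_d L674641) (flp_b L691032)
theorem L695805 : sm gi N48863 = N50940 := rfl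
theorem L695807 : sm ga N50940 = N48864 := ded_18_1 (flp_i L674657) L674643 L695805
theorem L695809 : sm gb N50940 = N50940 := ded_26_1 (flp_i L695805) L674656 L695805
theorem L695810 : sm gd N50940 = N49440 := ded_39_1 (flp_i L681577) (flp_d L674645) L695805
theorem L695812 : sm ge N50940 = N50940 := ded_44_1 (flp_i L695805) L674647 L695805
theorem L695813 : sm gf N50940 = N49501 := ded_48_1 (flp_i L682183) (flp_f L674648) L695805
theorem L695815 : sm gg N50940 = N48865 := ded_51_1 (flp_i L674672) (flp_g L674650) L695805
theorem L695817 : sm gj N50940 = N50053 := ded_53_1 L687802 (flp_j L674652) L695805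
theorem L695819 : sm gh N50940 = N50052 := ded_54_1 (flp_i L687782) L678805 L678799 (flp_h L674654) L695805
theorem L695821 : sm gh N48865 = N50941 := rfl
theorem L695823 : sm ga N50941 = N48866 := ded_17_1 (flp_h L674684) (flp_a L674674) L695821
theorem L695825 : sm gb N50941 = N50941 := ded_25_1 (flp_h L695821) L674676 L695821
theorem L695826 : sm ge N50941 = N50941 := ded_43_1 (flp_h L695821) L674679 L695821
theorem L695827 : sm gf N50941 = N49199 := ded_47_1 L678848 (flp_f L674680) L695821
theorem L695829 : sm gg N50941 = N50052 := ded_50_1 (flp_h L695819) L695815 L695821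
theorem L695831 : sm gj N50941 = N49198 := ded_52_1 L678833 (flp_j L674682) L695821
theorem L695833 : sm gi N50941 = N49197 := ded_54_2 (flp_h L678807) L656811 (flp_h L653133) L674672 L695821
theorem L695835 : sm gd N50941 = N49311 := ded_55_2 L680152 L658140 L359584 L247386 L247387 L170506 (flp_i L117824) (flp_h L81464) L56444 (flp_f L39229) (flp_e L27312) L19074 (flp_b L13977) (flp_c L9793) (flp_d L6842) L4758 (flp_h L3273) L2228 L1568 L1567 (flp_d L2228) L2226 L1658 L1659 (flp_i L1169) L793 (flp_d L1120) L1122 (flp_e L1615) L1614 (flp_b L2181) (flp_c L3061) (flp_d L4429) L6400 L9204 L13131 (flp_f L18729) L26772 (flp_d L38346) L38342 (flp_c L55088) L79412 L79416 (flp_h L639510) L68651 (flp_f L619317) L83794 L58425 L41164 (flp_c L45155) L623619 (flp_i L64248) (flp_h L44504) (flp_d L43912) L43914 (flp_e L43907) L30535 (flp_b L30525) (flp_c L40442) (flp_d L58256) (flp_i L84033) L121621 L566976 L97529 L68468 (flp_d L565849) L84037 L58207 (flp_d L83976) L121534 L121541 L121537 (flp_f L121681) (flp_e L176491) (flp_d L644293) (flp_b L354082) (flp_c L652106) L652108 (flp_i L652464)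 L673918 L673933 (flp_f L674234) L695364 L695380 L679922 L659138 (flp_d L653126) L674672 L695821
theorem L695837 : sm gd N48869 = N50942 := rfl
theorem L695839 : sm ga N50942 = N49450 := ded_12_1 (flp_d L681695) (flp_a L674739) L695837
theorem L695841 : sm gb N50942 = N48877 := ded_20_1 (flp_d L674863) (flp_b L674741) L695837
theorem L695843 : sm gf N50942 = N48870 := ded_35_2 (flp_d L674752) (flp_f L674746) L695837
theorem L695845 : sm gg N50942 = N49992 := ded_36_2 (flp_d L687159) (flp_g L674748) L695837
theorem L695847 : sm gj N50942 = N50438 := ded_37_2 L691197 (flp_j L674750) L695837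
theorem L695849 : sm gh N50942 = N50016 := ded_38_2 L687441 L665427 (flp_d L653187) L674737 L695837
theorem L695851 : sm gc N50942 = N50406 := ded_56_4 (flp_b L690985) (flp_a L690771) L690775 L668743 (flp_e L653711) (flp_d L653699) L355597 L244821 L168793 (flp_h L168791) (flp_f L168778) L168776 L116989 L116987 (flp_b L118981) (flp_a L172310) L250184 L250189 L172331 L118868 (flp_c L172244) (flp_b L249888) (flp_a L356764) (flp_h L356762) (flp_f L355281) (flp_e L653202) (flp_d L674707) L674705 L657095 L358487 L641078 (flp_f L641013) L360339 L362994 L615886 (flp_b L513275) L368260 (flp_h L253651) L174671 (flp_e L174665) L120429 L83230 L57690 L40088 L57751 L57756 L40104 L27919 L27915 (flp_b L40072) (flp_a L57607) (flp_h L57605) L39978 (flp_e L57584) (flp_d L82136) (flp_c L118745) (flp_b L172110) (flp_a L245488) L356730 (flp_f L654805) (flp_e L674744) L695837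
theorem L695853 : sm gi N48869 = N50943 := rfl
theorem L695855 : sm ga N50943 = N49451 := ded_18_1 (flp_i L681703) (flp_a L674739) L695853
theorem L695857 : sm gb N50943 = N48878 := ded_26_1 (flp_i L674877) (flp_b L674741) L695853
theorem L695859 : sm gc N50943 = N50943 := ded_33_1 (flp_i L695853) L674743 L695853
theorem L695860 : sm ge N50943 = N49002 := ded_44_1 (flp_i L676487) (flp_e L674744) L695853
theorem L695862 : sm gf N50943 = N48871 := ded_48_1 (flp_i L674768) (flp_f L674746) L695853
theorem L695864 : sm gg N50943 = N49993 := ded_51_1 (flp_i L687171) (flp_g L674748) L695853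
theorem L695866 : sm gj N50943 = N50758 := ded_53_1 (flp_i L693677) (flp_j L674750) L695853
theorem L695868 : sm gh N50943 = N50042 := ded_54_1 (flp_i L687667) L665347 (flp_i L653189) L674737 L695853
theorem L695870 : sm gi N48870 = N50944 := rfl
theorem L695872 : sm ga N50944 = N49455 := ded_18_1 (flp_i L681748) (flp_a L674754) L695870
theorem L695874 : sm gb N50944 = N48879 := ded_26_1 (flp_i L674893) (flp_b L674756) L695870
theorem L695876 : sm gc N50944 = N50411 := ded_33_1 (flp_i L691015) L674766 L695870
theorem L695878 : sm gd N50944 = N48871 := ded_39_1 (flp_i L674768) L674752 L695870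
theorem L695880 : sm ge N50944 = N50435 := ded_44_1 (flp_i L691171) (flp_e L674762) L695870
theorem L695882 : sm gg N50944 = N48873 := ded_51_1 (flp_i L674801) (flp_g L674758) L695870
theorem L695884 : sm gj N50944 = N50439 := ded_53_1 (flp_i L691199) (flp_j L674760) L695870
theorem L695886 : sm gi N48872 = N50945 := rfl
theorem L695888 : sm ga N50945 = N49407 := ded_18_1 (flp_i L681200) (flp_a L674785) L695886
theorem L695890 : sm gb N50945 = N48881 := ded_26_1 (flp_i L674923) (flp_b L674787) L695886
theorem L695892 : sm gc N50945 = N50413 := ded_33_1 (flp_i L691030) (flp_c L674789) L695886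
theorem L695894 : sm gd N50945 = N48874 := ded_39_1 (flp_i L674813) (flp_d L674797) L695886
theorem L695896 : sm ge N50945 = N48873 := ded_44_1 (flp_i L674801) L674783 L695886
theorem L695898 : sm gf N50945 = N49359 := ded_48_1 (flp_i L680755) (flp_f L674799) L695886
theorem L695900 : sm gg N50945 = N50435 := ded_51_1 (flp_i L691171) (flp_g L674791) L695886
theorem L695902 : sm gj N50945 = N50305 := ded_53_1 (flp_i L690184) (flp_j L674793) L695886
theorem L695904 : sm gh N48873 = N50946 := rfl
theorem L695906 : sm ga N50946 = N49458 := ded_17_1 (flp_h L681776) (flp_a L674803) L695904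
theorem L695908 : sm gb N50946 = N48882 := ded_25_1 (flp_h L674937) (flp_b L674805) L695904
theorem L695910 : sm gc N50946 = N50414 := ded_32_1 (flp_h L691036) (flp_c L674807) L695904
theorem L695912 : sm gf N50946 = N49995 := ded_47_1 (flp_h L687200) (flp_f L674811) L695904
theorem L695914 : sm gd N50946 = N50041 := ded_38_1 (flp_h L687661) L665330 (flp_h L653246) (flp_d L674809) L695904
theorem L695916 : sm gi N50946 = N50034 := ded_54_2 (flp_h L687615) (flp_i L665296) (flp_h L653231) L674801 L695904
theorem L695918 : sm gh N48874 = N50947 := rfl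
theorem L695920 : sm ga N50947 = N49414 := ded_17_1 (flp_h L681269) (flp_a L674815) L695918
theorem L695922 : sm gb N50947 = N48885 := ded_25_1 (flp_h L674980) (flp_b L674817) L695918
theorem L695924 : sm gc N50947 = N49443 := ded_32_1 L681618 (flp_c L674819) L695918
theorem L695926 : sm ge N50947 = N48875 := ded_43_1 (flp_h L674829) (flp_e L674821) L695918
theorem L695928 : sm gf N50947 = N49364 := ded_47_1 (flp_h L680809) (flp_f L674823) L695918
theorem L695930 : sm gg N50947 = N50472 := ded_50_1 (flp_h L691439) (flp_g L674825) L695918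
theorem L695932 : sm gj N50947 = N50317 := ded_52_1 (flp_h L690282) (flp_j L674827) L695918
theorem L695934 : sm gi N50947 = N50947 := ded_54_2 (flp_h L695918) (flp_i L674813) L653277 L674813 L695918
theorem L695935 : sm ge N48877 = N50948 := rfl
theorem L695937 : sm ga N50948 = N48902 := ded_13_1 (flp_e L675221) (flp_a L674865) L695935
theorem L695939 : sm gc N50948 = N50005 := ded_28_1 (flp_e L687317) (flp_c L674873) L695935
theorem L695941 : sm gg N50948 = N49996 := ded_41_2 (flp_e L687210) (flp_g L674869) L695935
theorem L695943 : sm gj N50948 = N50429 := ded_42_2 L691139 (flp_j L674871) L695935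
theorem L695945 : sm gh N50948 = N50017 := ded_43_2 (flp_e L687449) (flp_h L674875) L695935
theorem L695947 : sm gd N50948 = N49032 := ded_34_1 (flp_e L676874) (flp_d L655099) (flp_e L653379) L674863 L695935
theorem L695949 : sm gf N50948 = N50421 := ded_40_2 (flp_e L691081) L668993 (flp_e L653397) (flp_f L674867) L695935
theorem L695951 : sm gi N48877 = N50949 := rfl
theorem L695953 : sm ga N50949 = N48903 := ded_18_1 (flp_i L675229) (flp_a L674865) L695951
theorem L695955 : sm gc N50949 = N50006 := ded_33_1 (flp_i L687329) (flp_c L674873) L695951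
theorem L695957 : sm gd N50949 = N48878 := ded_39_1 (flp_i L674877) L674863 L695951
theorem L695959 : sm gf N50949 = N48879 := ded_48_1 (flp_i L674893) (flp_f L674867) L695951
theorem L695961 : sm gg N50949 = N49997 := ded_51_1 (flp_i L687216) (flp_g L674869) L695951
theorem L695963 : sm gj N50949 = N50442 := ded_53_1 (flp_i L691223) (flp_j L674871) L695951
theorem L695965 : sm gh N48879 = N50950 := rfl
theorem L695967 : sm ga N50950 = N48908 := ded_17_1 (flp_h L675299) (flp_a L674895) L695965
theorem L695969 : sm gc N50950 = N50007 := ded_32_1 (flp_h L687339) (flp_c L674897) L695965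
theorem L695971 : sm ge N50950 = N50436 := ded_43_1 (flp_h L691179) (flp_e L674901) L695965
theorem L695973 : sm gg N50950 = N48882 := ded_50_1 (flp_h L674937) (flp_g L674903) L695965
theorem L695975 : sm gj N50950 = N50443 := ded_52_1 (flp_h L691231) (flp_j L674905) L695965
theorem L695977 : sm gd N50950 = N50458 := ded_38_1 (flp_h L691325) L669187 (flp_h L653413) (flp_d L674899) L695965
theorem L695979 : sm gi N50950 = N50029 := ded_54_2 (flp_h L687568) (flp_i L665253) (flp_h L653399) L674893 L695965
theorem L695981 : sm gg N48880 = N50951 := rfl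
theorem L695983 : sm ga N50951 = N48913 := ded_15_1 (flp_g L675367) (flp_a L674909) L695981
theorem L695985 : sm gb N50951 = N49355 := ded_23_1 L680719 (flp_b L674911) L695981
theorem L695987 : sm gc N50951 = N50008 := ded_30_1 (flp_g L687351) (flp_c L674913) L695981
theorem L695989 : sm gd N50951 = N48883 := ded_36_1 (flp_g L674949) (flp_d L674915) L695981
theorem L695991 : sm ge N50951 = N49336 := ded_41_1 L680493 (flp_e L674921) L695981
theorem L695993 : sm gh N50951 = N50035 := ded_50_2 (flp_g L687621) (flp_h L674919) L695981
theorem L695995 : sm gf N50951 = N50417 := ded_45_1 L691057 L668993 (flp_g L653421) L674907 L695981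
theorem L695997 : sm gj N50951 = N49395 := ded_49_2 L681120 (flp_j L679016) L679014 (flp_j L674917) L695981
theorem L695999 : sm gi N48880 = N50952 := rfl
theorem L696001 : sm ga N50952 = N48914 := ded_18_1 (flp_i L675375) (flp_a L674909) L695999
theorem L696003 : sm gb N50952 = N49359 := ded_26_1 (flp_i L680755) (flp_b L674911) L695999
theorem L696005 : sm gc N50952 = N50009 := ded_33_1 (flp_i L687361) (flp_c L674913) L695999
theorem L696007 : sm gd N50952 = N48884 := ded_39_1 (flp_i L674964) (flp_d L674915) L695999
theorem L696009 : sm ge N50952 = N49338 := ded_44_1 (flp_i L680508) (flp_e L674921) L695999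
theorem L696011 : sm gf N50952 = N48881 := ded_48_1 (flp_i L674923) L674907 L695999
theorem L696013 : sm gj N50952 = N50302 := ded_53_1 (flp_i L690167) (flp_j L674917) L695999
theorem L696015 : sm gh N48881 = N50953 := rfl
theorem L696017 : sm ga N50953 = N48915 := ded_17_1 (flp_h L675385) (flp_a L674925) L696015
theorem L696019 : sm gc N50953 = N50010 := ded_32_1 (flp_h L687371) (flp_c L674927) L696015
theorem L696021 : sm ge N50953 = N48882 := ded_43_1 (flp_h L674937) (flp_e L674931) L696015
theorem L696023 : sm gg N50953 = N50436 := ded_50_1 (flp_h L691179) (flp_g L674933) L696015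
theorem L696025 : sm gj N50953 = N50306 := ded_52_1 (flp_h L690192) (flp_j L674935) L696015
theorem L696027 : sm gi N50953 = N50037 := ded_54_2 (flp_h L687633) (flp_i L665309) (flp_h L653425) L674923 L696015
theorem L696029 : sm gi N48883 = N50954 := rfl
theorem L696031 : sm ga N50954 = N48920 := ded_18_1 (flp_i L675446) (flp_a L674951) L696029
theorem L696033 : sm gb N50954 = N49362 := ded_26_1 (flp_i L680786) (flp_b L674953) L696029
theorem L696035 : sm gc N50954 = N49439 := ded_33_1 (flp_i L681563) (flp_c L674955) L696029
theorem L696037 : sm ge N50954 = N48887 := ded_44_1 (flp_i L675012) (flp_e L674957) L696029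
theorem L696039 : sm gf N50954 = N50460 := ded_48_1 (flp_i L691341) (flp_f L674960) L696029
theorem L696041 : sm gg N50954 = N48884 := ded_51_1 (flp_i L674964) L674949 L696029
theorem L696043 : sm gj N50954 = N49426 := ded_53_1 (flp_i L681411) (flp_j L674962) L696029
theorem L696045 : sm gh N50490 = N50954 := ded_32_0 L696035 (flp_h L681575) L691592
theorem L696047 : sm gd N48885 = N50955 := rfl
theorem L696049 : sm ga N50955 = N48922 := ded_12_1 (flp_d L675467) (flp_a L674982) L696047
theorem L696051 : sm gf N50955 = N50478 := ded_35_2 L691488 (flp_f L674988) L696047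
theorem L696053 : sm gg N50955 = N50473 := ded_36_2 (flp_d L691450) (flp_g L674990) L696047
theorem L696055 : sm gj N50955 = N50318 := ded_37_2 (flp_d L690293) (flp_j L674992) L696047
theorem L696057 : sm gi N50955 = N50955 := ded_39_2 (flp_d L696047) L674994 L696047
theorem L696058 : sm gc N50955 = N49604 := ded_27_1 (flp_d L683106) L660476 L660615 (flp_c L674984) L696047
theorem L696060 : sm ge N50955 = N49586 := ded_34_2 (flp_d L682937) L660294 (flp_d L653476) (flp_e L674986) L696047
theorem L696062 : sm gi N48886 = N50956 := rfl
theorem L696064 : sm ga N50956 = N48923 := ded_18_1 (flp_i L675472) (flp_a L674997) L696062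
theorem L696066 : sm gb N50956 = N49316 := ded_26_1 (flp_i L680215) (flp_b L674999) L696062
theorem L696068 : sm gc N50956 = N49326 := ded_33_1 (flp_i L680353) (flp_c L675001) L696062
theorem L696070 : sm gd N50956 = N49339 := ded_39_1 (flp_i L680518) (flp_d L675003) L696062
theorem L696072 : sm ge N50956 = N49426 := ded_44_1 (flp_i L681411) (flp_e L675005) L696062
theorem L696074 : sm gf N50956 = N49050 := ded_48_1 (flp_i L677088) (flp_f L675007) L696062
theorem L696076 : sm gg N50956 = N49318 := ded_51_1 (flp_i L680241) (flp_g L675010) L696062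
theorem L696078 : sm gj N50956 = N48887 := ded_53_1 (flp_i L675012) L674995 L696062
theorem L696080 : sm gh N50769 = N50956 := ded_17_0 L696064 (flp_h L675484) (flp_a L693749)
theorem L696082 : sm gh N48887 = N50957 := rfl
theorem L696084 : sm ga N50957 = N48924 := ded_17_1 (flp_h L675486) (flp_a L675014) L696082
theorem L696086 : sm gb N50957 = N49363 := ded_25_1 (flp_h L680798) (flp_b L675016) L696082
theorem L696088 : sm gc N50957 = N50491 := ded_32_1 L694471 L694460 L696082
theorem L696090 : sm ge N50957 = N50490 := ded_43_1 L696045 L696037 L696082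
theorem L696092 : sm gf N50957 = N49051 := ded_47_1 (flp_h L677099) (flp_f L675020) L696082
theorem L696094 : sm gg N50957 = N48888 := ded_50_1 (flp_h L675024) (flp_g L675022) L696082
theorem L696096 : sm gj N50957 = N50769 := ded_52_1 L696080 L696078 L696082
theorem L696098 : sm gd N50957 = N49416 := ded_38_1 (flp_h L681283) L659024 (flp_h L658504) (flp_d L675018) L696082
theorem L696100 : sm gi N50957 = N50957 := ded_54_2 (flp_h L696082) (flp_i L675012) L653487 L675012 L696082
theorem L696101 : sm gd N48889 = N50958 := rfl
theorem L696103 : sm ga N50958 = N50013 := ded_12_1 L687415 (flp_a L675041) L696101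
theorem L696105 : sm gb N50958 = N49522 := ded_20_1 (flp_d L682399) (flp_b L675043) L696101
theorem L696107 : sm gf N50958 = N48892 := ded_35_2 (flp_d L675083) (flp_f L675049) L696101
theorem L696109 : sm gg N50958 = N50445 := ded_36_2 L691247 (flp_g L675051) L696101
theorem L696111 : sm gj N50958 = N48890 := ded_37_2 (flp_d L675055) (flp_j L675053) L696101
theorem L696113 : sm gc N50958 = N49982 := ded_27_1 (flp_d L687043) L664756 L665025 (flp_c L675045) L696101
theorem L696115 : sm gh N50958 = N48899 := ded_38_2 (flp_d L675179) (flp_h L653665) (flp_d L653572) L675039 L696101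
theorem L696117 : sm gi N48889 = N50959 := rfl
theorem L696119 : sm ga N50959 = N50044 := ded_18_1 (flp_i L687691) (flp_a L675041) L696117
theorem L696121 : sm gb N50959 = N49523 := ded_26_1 (flp_i L682407) (flp_b L675043) L696117
theorem L696123 : sm gc N50959 = N50004 := ded_33_1 (flp_i L687300) (flp_c L675045) L696117
theorem L696125 : sm ge N50959 = N50708 := ded_44_1 (flp_i L693261) (flp_e L675047) L696117
theorem L696127 : sm gf N50959 = N48893 := ded_48_1 (flp_i L675099) (flp_f L675049) L696117
theorem L696129 : sm gg N50959 = N50459 := ded_51_1 (flp_i L691329) (flp_g L675051) L696117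
theorem L696131 : sm gj N50959 = N48891 := ded_53_1 (flp_i L675069) (flp_j L675053) L696117
theorem L696133 : sm gh N50959 = N50759 := ded_54_1 (flp_i L693684) L674183 L674179 L675039 L696117
theorem L696135 : sm ge N48890 = N50960 := rfl
theorem L696137 : sm ga N50960 = N50017 := ded_13_1 (flp_e L687449) (flp_a L675057) L696135
theorem L696139 : sm gb N50960 = N49525 := ded_21_1 (flp_e L682423) (flp_b L675059) L696135
theorem L696141 : sm gc N50960 = N49996 := ded_28_1 (flp_e L687210) (flp_c L675065) L696135
theorem L696143 : sm gg N50960 = N50005 := ded_41_2 (flp_e L687317) (flp_g L675063) L696135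
theorem L696145 : sm gh N50960 = N48902 := ded_43_2 (flp_e L675221) (flp_h L675067) L696135
theorem L696147 : sm gd N50960 = N50653 := ded_34_1 L692875 L671009 (flp_e L653588) L675055 L696135
theorem L696149 : sm gi N48890 = N50961 := rfl
theorem L696151 : sm ga N50961 = N50018 := ded_18_1 (flp_i L687453) (flp_a L675057) L696149
theorem L696153 : sm gb N50961 = N49526 := ded_26_1 (flp_i L682429) (flp_b L675059) L696149
theorem L696155 : sm gc N50961 = N49997 := ded_33_1 (flp_i L687216) (flp_c L675065) L696149
theorem L696157 : sm gd N50961 = N48891 := ded_39_1 (flp_i L675069) L675055 L696149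
theorem L696159 : sm gf N50961 = N48895 := ded_48_1 (flp_i L675129) (flp_f L675061) L696149
theorem L696161 : sm gg N50961 = N50006 := ded_51_1 (flp_i L687329) (flp_g L675063) L696149
theorem L696163 : sm gi N48892 = N50962 := rfl
theorem L696165 : sm ga N50962 = N50023 := ded_18_1 (flp_i L687501) (flp_a L675085) L696163
theorem L696167 : sm gb N50962 = N49529 := ded_26_1 (flp_i L682459) (flp_b L675087) L696163
theorem L696169 : sm gc N50962 = N49984 := ded_33_1 (flp_i L687071) (flp_c L675093) L696163
theorem L696171 : sm gd N50962 = N48893 := ded_39_1 (flp_i L675099) L675083 L696163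
theorem L696173 : sm ge N50962 = N50381 := ded_44_1 (flp_i L690792) L675097 L696163
theorem L696175 : sm gg N50962 = N49985 := ded_51_1 (flp_i L687085) (flp_g L675089) L696163
theorem L696177 : sm gj N50962 = N48895 := ded_53_1 (flp_i L675129) (flp_j L675091) L696163
theorem L696179 : sm gf N48894 = N50963 := rfl
theorem L696181 : sm ga N50963 = N50027 := ded_14_1 (flp_f L687548) (flp_a L675116) L696179
theorem L696183 : sm gb N50963 = N49533 := ded_22_1 (flp_f L682499) (flp_b L675118) L696179
theorem L696185 : sm gc N50963 = N49998 := ded_29_1 (flp_f L687224) (flp_c L675120) L696179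
theorem L696187 : sm gd N50963 = N50963 := ded_35_1 (flp_f L696179) L675128 L696179
theorem L696188 : sm gj N50963 = N50378 := ded_46_2 L690773 (flp_j L675124) L696179
theorem L696190 : sm gh N50963 = N48906 := ded_47_2 (flp_f L675271) (flp_h L675126) L696179
theorem L696192 : sm gi N48894 = N50964 := rfl
theorem L696194 : sm ga N50964 = N50028 := ded_18_1 (flp_i L687557) (flp_a L675116) L696192
theorem L696196 : sm gb N50964 = N49534 := ded_26_1 (flp_i L682504) (flp_b L675118) L696192
theorem L696198 : sm gc N50964 = N49999 := ded_33_1 (flp_i L687236) (flp_c L675120) L696192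
theorem L696200 : sm gd N50964 = N50964 := ded_39_1 (flp_i L696192) L675128 L696192
theorem L696201 : sm ge N50964 = N48895 := ded_44_1 (flp_i L675129) L675114 L696192
theorem L696203 : sm gg N50964 = N48897 := ded_51_1 (flp_i L675156) (flp_g L675122) L696192
theorem L696205 : sm gj N50964 = N50381 := ded_53_1 (flp_i L690792) (flp_j L675124) L696192
theorem L696207 : sm gh N48895 = N50965 := rfl
theorem L696209 : sm ga N50965 = N50029 := ded_17_1 (flp_h L687568) (flp_a L675131) L696207
theorem L696211 : sm gb N50965 = N49535 := ded_25_1 (flp_h L682511) (flp_b L675133) L696207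
theorem L696213 : sm gc N50965 = N50000 := ded_32_1 (flp_h L687250) (flp_c L675135) L696207
theorem L696215 : sm gg N50965 = N48898 := ded_50_1 (flp_h L675167) (flp_g L675139) L696207
theorem L696217 : sm gi N50965 = N48908 := ded_54_2 (flp_h L675299) (flp_i L653757) (flp_h L653615) L675129 L696207
theorem L696219 : sm gg N48896 = N50966 := rfl
theorem L696221 : sm ga N50966 = N50035 := ded_15_1 (flp_g L687621) (flp_a L675143) L696219
theorem L696223 : sm gb N50966 = N49539 := ded_23_1 (flp_g L682548) (flp_b L675145) L696219
theorem L696225 : sm gc N50966 = N49336 := ded_30_1 L680493 (flp_c L675147) L696219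
theorem L696227 : sm gd N50966 = N50966 := ded_36_1 (flp_g L696219) L675149 L696219
theorem L696228 : sm ge N50966 = N50008 := ded_41_1 (flp_g L687351) (flp_e L675154) L696219
theorem L696230 : sm gh N50966 = N48913 := ded_50_2 (flp_g L675367) (flp_h L675152) L696219
theorem L696232 : sm gi N48896 = N50967 := rfl
theorem L696234 : sm ga N50967 = N50036 := ded_18_1 (flp_i L687626) (flp_a L675143) L696232
theorem L696236 : sm gb N50967 = N49540 := ded_26_1 (flp_i L682555) (flp_b L675145) L696232
theorem L696238 : sm gc N50967 = N49338 := ded_33_1 (flp_i L680508) (flp_c L675147) L696232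
theorem L696240 : sm gd N50967 = N50967 := ded_39_1 (flp_i L696232) L675149 L696232
theorem L696241 : sm ge N50967 = N50009 := ded_44_1 (flp_i L687361) (flp_e L675154) L696232
theorem L696243 : sm gf N50967 = N48897 := ded_48_1 (flp_i L675156) L675141 L696232
theorem L696245 : sm gj N50967 = N50303 := ded_53_1 (flp_i L690175) (flp_j L675150) L696232
theorem L696247 : sm gh N48897 = N50968 := rfl
theorem L696249 : sm ga N50968 = N50037 := ded_17_1 (flp_h L687633) (flp_a L675158) L696247
theorem L696251 : sm gb N50968 = N49541 := ded_25_1 (flp_h L682562) (flp_b L675160) L696247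
theorem L696253 : sm gc N50968 = N50001 := ded_32_1 (flp_h L687258) (flp_c L675162) L696247
theorem L696255 : sm ge N50968 = N48898 := ded_43_1 (flp_h L675167) (flp_e L675165) L696247
theorem L696257 : sm gi N50968 = N48915 := ded_54_2 (flp_h L675385) (flp_i L653817) (flp_h L653636) L675156 L696247
theorem L696259 : sm ge N48899 = N50969 := rfl
theorem L696261 : sm ga N50969 = N50429 := ded_13_1 L691139 (flp_a L675181) L696259
theorem L696263 : sm gb N50969 = N49545 := ded_21_1 (flp_e L682594) (flp_b L675183) L696259
theorem L696265 : sm gc N50969 = N49987 := ded_28_1 (flp_e L687109) (flp_c L675189) L696259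
theorem L696267 : sm gj N50969 = N48902 := ded_42_2 (flp_e L675221) (flp_j L675187) L696259
theorem L696269 : sm gd N50969 = N49084 := ded_34_1 (flp_e L677475) (flp_d L655615) (flp_e L653673) L675179 L696259
theorem L696271 : sm gf N50969 = N50389 := ded_40_2 (flp_e L690856) L668743 (flp_e L653711) (flp_f L675185) L696259
theorem L696273 : sm gi N48899 = N50970 := rfl
theorem L696275 : sm ga N50970 = N50442 := ded_18_1 (flp_i L691223) (flp_a L675181) L696273
theorem L696277 : sm gb N50970 = N49546 := ded_26_1 (flp_i L682600) (flp_b L675183) L696273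
theorem L696279 : sm gc N50970 = N49988 := ded_33_1 (flp_i L687119) (flp_c L675189) L696273
theorem L696281 : sm gd N50970 = N48900 := ded_39_1 (flp_i L675191) L675179 L696273
theorem L696283 : sm gf N50970 = N48904 := ded_48_1 (flp_i L675239) (flp_f L675185) L696273
theorem L696285 : sm gj N50970 = N48903 := ded_53_1 (flp_i L675229) (flp_j L675187) L696273
theorem L696287 : sm ge N48901 = N50971 := rfl
theorem L696289 : sm ga N50971 = N50005 := ded_13_1 (flp_e L687317) (flp_a L675207) L696287
theorem L696291 : sm gb N50971 = N50352 := ded_21_1 (flp_e L690593) L675219 L696287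
theorem L696293 : sm gc N50971 = N48902 := ded_28_1 (flp_e L675221) L675205 L696287
theorem L696295 : sm gg N50971 = N50017 := ded_41_2 (flp_e L687449) (flp_g L675211) L696287
theorem L696297 : sm gj N50971 = N49987 := ded_42_2 (flp_e L687109) (flp_j L675213) L696287
theorem L696299 : sm gh N50971 = N49996 := ded_43_2 (flp_e L687210) (flp_h L675215) L696287
theorem L696301 : sm gd N50971 = N50068 := ded_34_1 (flp_e L687971) (flp_d L665781) (flp_e L653939) (flp_d L675217) L696287
theorem L696303 : sm gf N50971 = N50387 := ded_40_2 (flp_e L690838) L668723 L653739 (flp_f L675209) L696287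
theorem L696305 : sm gi N48901 = N50972 := rfl
theorem L696307 : sm ga N50972 = N50006 := ded_18_1 (flp_i L687329) (flp_a L675207) L696305
theorem L696309 : sm gb N50972 = N50353 := ded_26_1 (flp_i L690599) L675219 L696305
theorem L696311 : sm gc N50972 = N48903 := ded_33_1 (flp_i L675229) L675205 L696305
theorem L696313 : sm gd N50972 = N48925 := ded_39_1 (flp_i L675499) (flp_d L675217) L696305
theorem L696315 : sm gf N50972 = N48905 := ded_48_1 (flp_i L675255) (flp_f L675209) L696305
theorem L696317 : sm gg N50972 = N50018 := ded_51_1 (flp_i L687453) (flp_g L675211) L696305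
theorem L696319 : sm gj N50972 = N49988 := ded_53_1 (flp_i L687119) (flp_j L675213) L696305
theorem L696321 : sm gf N48902 = N50973 := rfl
theorem L696323 : sm ga N50973 = N50421 := ded_14_1 (flp_f L695949) L695937 L696321
theorem L696325 : sm gb N50973 = N49550 := ded_22_1 (flp_f L682636) (flp_b L675223) L696321
theorem L696327 : sm gc N50973 = N50387 := ded_29_1 (flp_f L696303) L696293 L696321
theorem L696329 : sm gd N50973 = N49089 := ded_35_1 (flp_f L677517) (flp_d L675227) L696321
theorem L696331 : sm gj N50973 = N50389 := ded_46_2 (flp_f L696271) L696267 L696321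
theorem L696333 : sm ge N50973 = N48906 := ded_40_1 (flp_f L675271) (flp_e L653743) (flp_f L653683) L675221 L696321
theorem L696335 : sm gi N48902 = N50974 := rfl
theorem L696337 : sm gb N50974 = N49551 := ded_26_1 (flp_i L682642) (flp_b L675223) L696335
theorem L696339 : sm gd N50974 = N49090 := ded_39_1 (flp_i L677523) (flp_d L675227) L696335
theorem L696341 : sm ge N50974 = N48903 := ded_44_1 (flp_i L675229) L675221 L696335
theorem L696343 : sm gg N50974 = N50020 := ded_51_1 (flp_i L687473) (flp_g L675225) L696335
theorem L696345 : sm gh N48903 = N50975 := rfl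
theorem L696347 : sm gb N50975 = N49552 := ded_25_1 (flp_h L682650) (flp_b L675231) L696345
theorem L696349 : sm gf N50975 = N48908 := ded_47_1 (flp_h L675299) (flp_f L675235) L696345
theorem L696351 : sm gg N50975 = N50021 := ded_50_1 (flp_h L687481) (flp_g L675237) L696345
theorem L696353 : sm gh N48904 = N50976 := rfl
theorem L696355 : sm ga N50976 = N50443 := ded_17_1 (flp_h L691231) (flp_a L675241) L696353
theorem L696357 : sm gb N50976 = N49557 := ded_25_1 (flp_h L682699) (flp_b L675243) L696353
theorem L696359 : sm gc N50976 = N49989 := ded_32_1 (flp_h L687129) (flp_c L675245) L696353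
theorem L696361 : sm ge N50976 = N50394 := ded_43_1 (flp_h L690892) (flp_e L675249) L696353
theorem L696363 : sm gg N50976 = N49990 := ded_50_1 (flp_h L687141) (flp_g L675251) L696353
theorem L696365 : sm gj N50976 = N48908 := ded_52_1 (flp_h L675299) (flp_j L675253) L696353
theorem L696367 : sm gh N48905 = N50977 := rfl
theorem L696369 : sm ga N50977 = N50007 := ded_17_1 (flp_h L687339) (flp_a L675257) L696367
theorem L696371 : sm gb N50977 = N50359 := ded_25_1 (flp_h L690639) (flp_b L675259) L696367
theorem L696373 : sm gc N50977 = N48908 := ded_32_1 (flp_h L675299) (flp_c L675261) L696367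
theorem L696375 : sm ge N50977 = N50393 := ded_43_1 (flp_h L690886) (flp_e L675265) L696367
theorem L696377 : sm gg N50977 = N48912 := ded_50_1 (flp_h L675355) (flp_g L675267) L696367
theorem L696379 : sm gj N50977 = N49989 := ded_52_1 (flp_h L687129) (flp_j L675269) L696367
theorem L696381 : sm gd N50977 = N50024 := ded_38_1 (flp_h L687513) L665226 (flp_h L653983) (flp_d L675263) L696367
theorem L696383 : sm gi N50977 = N50000 := ded_54_2 (flp_h L687250) (flp_i L664958) (flp_h L653735) L675255 L696367
theorem L696385 : sm gg N48906 = N50978 := rfl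
theorem L696387 : sm ga N50978 = N50417 := ded_15_1 L691057 (flp_a L675273) L696385
theorem L696389 : sm gb N50978 = N49564 := ded_23_1 (flp_g L682764) (flp_b L675275) L696385
theorem L696391 : sm gc N50978 = N50385 := ded_30_1 L690826 (flp_c L675277) L696385
theorem L696393 : sm gd N50978 = N48916 := ded_36_1 (flp_g L675391) (flp_d L675279) L696385
theorem L696395 : sm gf N50978 = N48913 := ded_45_1 (flp_g L675367) (flp_f L653809) (flp_g L653751) L675271 L696385
theorem L696397 : sm gi N48906 = N50979 := rfl
theorem L696399 : sm ga N50979 = N50422 := ded_18_1 (flp_i L691087) (flp_a L675273) L696397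
theorem L696401 : sm gb N50979 = N49565 := ded_26_1 (flp_i L682770) (flp_b L675275) L696397
theorem L696403 : sm gc N50979 = N50388 := ded_33_1 (flp_i L690846) (flp_c L675277) L696397
theorem L696405 : sm gd N50979 = N48917 := ded_39_1 (flp_i L675404) (flp_d L675279) L696397
theorem L696407 : sm gf N50979 = N48907 := ded_48_1 (flp_i L675283) L675271 L696397
theorem L696409 : sm gj N50979 = N50390 := ded_53_1 (flp_i L690862) (flp_j L675281) L696397
theorem L696411 : sm gh N48907 = N50980 := rfl
theorem L696413 : sm ga N50980 = N50436 := ded_17_1 (flp_h L691179) (flp_a L675285) L696411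
theorem L696415 : sm gb N50980 = N49566 := ded_25_1 (flp_h L682776) (flp_b L675287) L696411
theorem L696417 : sm gc N50980 = N50393 := ded_32_1 (flp_h L690886) (flp_c L675289) L696411
theorem L696419 : sm ge N50980 = N48908 := ded_43_1 (flp_h L675299) (flp_e L675293) L696411
theorem L696421 : sm gg N50980 = N48915 := ded_50_1 (flp_h L675385) (flp_g L675295) L696411
theorem L696423 : sm gj N50980 = N50394 := ded_52_1 (flp_h L690892) (flp_j L675297) L696411
theorem L696425 : sm gh N48909 = N50981 := rfl
theorem L696427 : sm ga N50981 = N50351 := ded_17_1 (flp_h L690585) (flp_a L675307) L696425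
theorem L696429 : sm gb N50981 = N48912 := ded_25_1 (flp_h L675355) (flp_b L675309) L696425
theorem L696431 : sm gc N50981 = N49569 := ded_32_1 (flp_h L682805) (flp_c L675311) L696425
theorem L696433 : sm ge N50981 = N50326 := ded_43_1 (flp_h L690374) (flp_e L675315) L696425
theorem L696435 : sm gf N50981 = N50034 := ded_47_1 (flp_h L687615) (flp_f L675317) L696425
theorem L696437 : sm gg N50981 = N50359 := ded_50_1 (flp_h L690639) (flp_g L675319) L696425
theorem L696439 : sm gj N50981 = N50288 := ded_52_1 (flp_h L690058) (flp_j L675321) L696425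
theorem L696441 : sm gd N50981 = N50010 := ded_38_1 (flp_h L687371) L665142 (flp_h L654001) (flp_d L675313) L696425
theorem L696443 : sm gi N50981 = N49995 := ded_54_2 (flp_h L687200) (flp_i L664916) (flp_h L653775) L675305 L696425
theorem L696445 : sm gg N48910 = N50982 := rfl
theorem L696447 : sm ga N50982 = N50008 := ded_15_1 (flp_g L687351) (flp_a L675325) L696445
theorem L696449 : sm gb N50982 = N49343 := ded_23_1 L680577 (flp_b L675327) L696445
theorem L696451 : sm gc N50982 = N48913 := ded_30_1 (flp_g L675367) (flp_c L675329) L696445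
theorem L696453 : sm gd N50982 = N49331 := ded_36_1 L680429 (flp_d L675331) L696445
theorem L696455 : sm ge N50982 = N50035 := ded_41_1 (flp_g L687621) (flp_e L675337) L696445
theorem L696457 : sm gh N50982 = N49336 := ded_50_2 L680493 (flp_h L675335) L696445
theorem L696459 : sm gf N50982 = N50385 := ded_45_1 L690826 L668723 (flp_g L653791) L675323 L696445
theorem L696461 : sm gi N48910 = N50983 := rfl
theorem L696463 : sm ga N50983 = N50009 := ded_18_1 (flp_i L687361) (flp_a L675325) L696461
theorem L696465 : sm gb N50983 = N49347 := ded_26_1 (flp_i L680617) (flp_b L675327) L696461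
theorem L696467 : sm gc N50983 = N48914 := ded_33_1 (flp_i L675375) (flp_c L675329) L696461
theorem L696469 : sm gd N50983 = N49332 := ded_39_1 (flp_i L680431) (flp_d L675331) L696461
theorem L696471 : sm ge N50983 = N50036 := ded_44_1 (flp_i L687626) (flp_e L675337) L696461
theorem L696473 : sm gf N50983 = N48911 := ded_48_1 (flp_i L675339) L675323 L696461
theorem L696475 : sm gj N50983 = N50295 := ded_53_1 (flp_i L690111) (flp_j L675333) L696461
theorem L696477 : sm gh N48911 = N50984 := rfl
theorem L696479 : sm ga N50984 = N50010 := ded_17_1 (flp_h L687371) (flp_a L675341) L696477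
theorem L696481 : sm gb N50984 = N50326 := ded_25_1 (flp_h L690374) (flp_b L675343) L696477
theorem L696483 : sm gc N50984 = N48915 := ded_32_1 (flp_h L675385) (flp_c L675345) L696477
theorem L696485 : sm ge N50984 = N48912 := ded_43_1 (flp_h L675355) (flp_e L675349) L696477
theorem L696487 : sm gg N50984 = N50393 := ded_50_1 (flp_h L690886) (flp_g L675351) L696477
theorem L696489 : sm gj N50984 = N50296 := ded_52_1 (flp_h L690119) (flp_j L675353) L696477
theorem L696491 : sm gd N50984 = N50351 := ded_38_1 (flp_h L690585) L668445 (flp_h L667849) (flp_d L675347) L696477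
theorem L696493 : sm gi N50984 = N50001 := ded_54_2 (flp_h L687258) (flp_i L664966) (flp_h L653795) L675339 L696477
theorem L696495 : sm gj N48913 = N50985 := rfl
theorem L696497 : sm ga N50985 = N49395 := ded_16_1 (flp_j L695997) L695983 L696495
theorem L696499 : sm gb N50985 = N49574 := ded_24_1 (flp_j L682839) (flp_b L675369) L696495
theorem L696501 : sm gd N50985 = N48919 := ded_37_1 (flp_j L675433) (flp_d L675371) L696495
theorem L696503 : sm ge N50985 = N50039 := ded_42_1 (flp_j L687647) (flp_e L675373) L696495
theorem L696505 : sm gg N50985 = N49400 := ded_49_1 L695203 (flp_g L695187) L674047 L675367 L696495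
theorem L696507 : sm gi N48913 = N50986 := rfl
theorem L696509 : sm gb N50986 = N49575 := ded_26_1 (flp_i L682845) (flp_b L675369) L696507
theorem L696511 : sm gd N50986 = N48920 := ded_39_1 (flp_i L675446) (flp_d L675371) L696507
theorem L696513 : sm ge N50986 = N50040 := ded_44_1 (flp_i L687653) (flp_e L675373) L696507
theorem L696515 : sm gg N50986 = N48914 := ded_51_1 (flp_i L675375) L675367 L696507
theorem L696517 : sm gh N48914 = N50987 := rfl
theorem L696519 : sm gb N50987 = N49576 := ded_25_1 (flp_h L682853) (flp_b L675377) L696517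
theorem L696521 : sm ge N50987 = N50041 := ded_43_1 (flp_h L687661) (flp_e L675381) L696517
theorem L696523 : sm gf N50987 = N48915 := ded_47_1 (flp_h L675385) (flp_f L675383) L696517
theorem L696525 : sm gd N48915 = N50988 := rfl
theorem L696527 : sm gb N50988 = N49577 := ded_20_1 (flp_d L682859) (flp_b L675387) L696525
theorem L696529 : sm gh N50988 = N48922 := ded_38_2 (flp_d L675467) (flp_h L653888) (flp_d L653821) L675385 L696525
theorem L696531 : sm gj N48916 = N50989 := rfl
theorem L696533 : sm ga N50989 = N49420 := ded_16_1 L681349 (flp_a L675393) L696531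
theorem L696535 : sm gb N50989 = N49580 := ded_24_1 (flp_j L682886) (flp_b L675395) L696531
theorem L696537 : sm gc N50989 = N49433 := ded_31_1 L681497 (flp_c L675397) L696531
theorem L696539 : sm ge N50989 = N49120 := ded_42_1 (flp_j L677852) (flp_e L675399) L696531
theorem L696541 : sm gf N50989 = N48919 := ded_46_1 (flp_j L675433) (flp_f L675402) L696531
theorem L696543 : sm gh N50989 = N50989 := ded_52_2 (flp_j L696531) L675401 L696531
theorem L696544 : sm gg N50989 = N49502 := ded_49_1 L682200 L659802 (flp_j L653839) L675391 L696531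
theorem L696546 : sm gi N48916 = N50990 := rfl
theorem L696548 : sm ga N50990 = N50460 := ded_18_1 (flp_i L691341) (flp_a L675393) L696546
theorem L696550 : sm gb N50990 = N49581 := ded_26_1 (flp_i L682894) (flp_b L675395) L696546
theorem L696552 : sm gc N50990 = N50398 := ded_33_1 (flp_i L690918) (flp_c L675397) L696546
theorem L696554 : sm ge N50990 = N49121 := ded_44_1 (flp_i L677859) (flp_e L675399) L696546
theorem L696556 : sm gf N50990 = N48920 := ded_48_1 (flp_i L675446) (flp_f L675402) L696546
theorem L696558 : sm gg N50990 = N48917 := ded_51_1 (flp_i L675404) L675391 L696546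
theorem L696560 : sm gh N48917 = N50991 := rfl
theorem L696562 : sm ga N50991 = N50463 := ded_17_1 (flp_h L691368) (flp_a L675406) L696560
theorem L696564 : sm gb N50991 = N49582 := ded_25_1 (flp_h L682903) (flp_b L675408) L696560
theorem L696566 : sm gc N50991 = N50399 := ded_32_1 (flp_h L690927) (flp_c L675410) L696560
theorem L696568 : sm ge N50991 = N49122 := ded_43_1 (flp_h L677867) (flp_e L675412) L696560
theorem L696570 : sm gf N50991 = N48918 := ded_47_1 (flp_h L675418) (flp_f L675414) L696560
theorem L696572 : sm gj N50991 = N50400 := ded_52_1 (flp_h L690937) (flp_j L675416) L696560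
theorem L696574 : sm gi N50991 = N50991 := ded_54_2 (flp_h L696560) (flp_i L675404) L653841 L675404 L696560
theorem L696575 : sm gd N48918 = N50992 := rfl
theorem L696577 : sm ga N50992 = N50473 := ded_12_1 (flp_d L691450) (flp_a L675420) L696575
theorem L696579 : sm gb N50992 = N49583 := ded_20_1 (flp_d L682911) (flp_b L675422) L696575
theorem L696581 : sm gg N50992 = N48922 := ded_36_2 (flp_d L675467) (flp_g L675428) L696575
theorem L696583 : sm gj N50992 = N50402 := ded_37_2 (flp_d L690956) (flp_j L675430) L696575
theorem L696585 : sm gi N50992 = N50992 := ded_39_2 (flp_d L696575) L675432 L696575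
theorem L696586 : sm gi N48919 = N50993 := rfl
theorem L696588 : sm ga N50993 = N49426 := ded_18_1 (flp_i L681411) (flp_a L675435) L696586
theorem L696590 : sm gb N50993 = N49584 := ded_26_1 (flp_i L682916) (flp_b L675437) L696586
theorem L696592 : sm gc N50993 = N49440 := ded_33_1 (flp_i L681577) (flp_c L675439) L696586
theorem L696594 : sm ge N50993 = N48923 := ded_44_1 (flp_i L675472) (flp_e L675441) L696586
theorem L696596 : sm gg N50993 = N49428 := ded_51_1 (flp_i L681426) (flp_g L675444) L696586
theorem L696598 : sm gj N50993 = N48920 := ded_53_1 (flp_i L675446) L675433 L696586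
theorem L696600 : sm gh N50771 = N50993 := ded_25_0 L696590 (flp_h L682925) (flp_b L693764)
theorem L696602 : sm gh N48920 = N50994 := rfl
theorem L696604 : sm ga N50994 = N50490 := ded_17_1 L696045 L696031 L696602
theorem L696606 : sm gb N50994 = N49585 := ded_25_1 (flp_h L682927) (flp_b L675448) L696602
theorem L696608 : sm gc N50994 = N50489 := ded_32_1 L694490 L694478 L696602
theorem L696610 : sm ge N50994 = N48924 := ded_43_1 (flp_h L675486) (flp_e L675450) L696602
theorem L696612 : sm gg N50994 = N48921 := ded_50_1 (flp_h L675454) (flp_g L675452) L696602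
theorem L696614 : sm gj N50994 = N50771 := ded_52_1 L696600 L696598 L696602
theorem L696616 : sm gi N50994 = N50994 := ded_54_2 (flp_h L696602) (flp_i L675446) L653879 L675446 L696602
theorem L696617 : sm gd N48921 = N50995 := rfl
theorem L696619 : sm ga N50995 = N50478 := ded_12_1 L691488 (flp_a L675456) L696617
theorem L696621 : sm gb N50995 = N49586 := ded_20_1 (flp_d L682937) (flp_b L675458) L696617
theorem L696623 : sm gf N50995 = N48922 := ded_35_2 (flp_d L675467) (flp_f L675464) L696617
theorem L696625 : sm gi N50995 = N50995 := ded_39_2 (flp_d L696617) L675466 L696617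
theorem L696626 : sm gc N50995 = N50477 := ded_27_1 (flp_d L691480) L669381 L669570 (flp_c L675460) L696617
theorem L696628 : sm gc N48922 = N50996 := rfl
theorem L696630 : sm ga N50996 = N49604 := ded_11_1 (flp_c L696058) L696049 L696628
theorem L696632 : sm gf N50996 = N50477 := ded_29_2 (flp_c L696626) L696623 L696628
theorem L696634 : sm gi N50996 = N50996 := ded_33_2 (flp_c L696628) L675471 L696628
theorem L696635 : sm gd N50996 = N49603 := ded_27_2 L683100 (flp_d L673118) L673108 L675467 L696628
theorem L696637 : sm gh N48926 = N50997 := rfl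
theorem L696639 : sm ga N50997 = N49060 := ded_17_1 (flp_h L677218) (flp_a L675519) L696637
theorem L696641 : sm gb N50997 = N49650 := ded_25_1 (flp_h L683645) (flp_b L675521) L696637
theorem L696643 : sm gc N50997 = N50997 := ded_32_1 (flp_h L696637) L675523 L696637
theorem L696644 : sm ge N50997 = N48929 := ded_43_1 (flp_h L675561) (flp_e L675526) L696637
theorem L696646 : sm gf N50997 = N50997 := ded_47_1 (flp_h L696637) L675528 L696637
theorem L696647 : sm gg N50997 = N49017 := ded_50_1 (flp_h L676692) (flp_g L675531) L696637
theorem L696649 : sm gj N50997 = N48927 := ded_52_1 (flp_h L675533) L675517 L696637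
theorem L696651 : sm gd N48927 = N50998 := rfl
theorem L696653 : sm ga N50998 = N50171 := ded_12_1 (flp_d L689021) (flp_a L675535) L696651
theorem L696655 : sm gb N50998 = N49651 := ded_20_1 (flp_d L683656) (flp_b L675537) L696651
theorem L696657 : sm gf N50998 = N50998 := ded_35_2 (flp_d L696651) L675542 L696651
theorem L696658 : sm gg N50998 = N50060 := ded_36_2 (flp_d L687870) (flp_g L675543) L696651
theorem L696660 : sm gh N50998 = N50118 := ded_38_2 (flp_d L688503) (flp_h L666347) (flp_d L654033) L675533 L696651
theorem L696662 : sm gi N48927 = N50999 := rfl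
theorem L696664 : sm ga N50999 = N50172 := ded_18_1 (flp_i L689030) (flp_a L675535) L696662
theorem L696666 : sm gb N50999 = N49652 := ded_26_1 (flp_i L683663) (flp_b L675537) L696662
theorem L696668 : sm gc N50999 = N50999 := ded_33_1 (flp_i L696662) L675539 L696662
theorem L696669 : sm ge N50999 = N48931 := ded_44_1 (flp_i L675584) (flp_e L675540) L696662
theorem L696671 : sm gf N50999 = N50999 := ded_48_1 (flp_i L696662) L675542 L696662
theorem L696672 : sm gg N50999 = N50061 := ded_51_1 (flp_i L687882) (flp_g L675543) L696662
theorem L696674 : sm gh N50999 = N49059 := ded_54_1 (flp_i L677208) (flp_h L655444) (flp_i L654031) L675533 L696662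
theorem L696676 : sm gh N48928 = N51000 := rfl
theorem L696678 : sm ga N51000 = N49057 := ded_17_1 (flp_h L677187) (flp_a L675547) L696676
theorem L696680 : sm gb N51000 = N49653 := ded_25_1 (flp_h L683676) (flp_b L675549) L696676
theorem L696682 : sm gc N51000 = N51000 := ded_32_1 (flp_h L696676) L675551 L696676
theorem L696683 : sm ge N51000 = N49017 := ded_43_1 (flp_h L676692) (flp_e L675554) L696676
theorem L696685 : sm gf N51000 = N51000 := ded_47_1 (flp_h L696676) L675558 L696676
theorem L696686 : sm gg N51000 = N48929 := ded_50_1 (flp_h L675561) L675545 L696676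
theorem L696688 : sm gj N51000 = N49016 := ded_52_1 (flp_h L676680) (flp_j L675559) L696676
theorem L696690 : sm gd N48929 = N51001 := rfl
theorem L696692 : sm ga N51001 = N50631 := ded_12_1 L692715 (flp_a L675563) L696690
theorem L696694 : sm gb N51001 = N49654 := ded_20_1 (flp_d L683687) (flp_b L675565) L696690
theorem L696696 : sm gf N51001 = N48932 := ded_35_2 (flp_d L675597) (flp_f L675568) L696690
theorem L696698 : sm gj N51001 = N48930 := ded_37_2 (flp_d L675572) (flp_j L675570) L696690
theorem L696700 : sm gh N51001 = N48941 := ded_38_2 (flp_d L675713) (flp_h L654145) (flp_d L654043) L675561 L696690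
theorem L696702 : sm gi N48929 = N51002 := rfl
theorem L696704 : sm ga N51002 = N50842 := ded_18_1 (flp_i L694360) (flp_a L675563) L696702
theorem L696706 : sm gb N51002 = N49655 := ded_26_1 (flp_i L683699) (flp_b L675565) L696702
theorem L696708 : sm gc N51002 = N51002 := ded_33_1 (flp_i L696702) L675567 L696702
theorem L696709 : sm gf N51002 = N48933 := ded_48_1 (flp_i L675608) (flp_f L675568) L696702
theorem L696711 : sm gj N51002 = N48931 := ded_53_1 (flp_i L675584) (flp_j L675570) L696702
theorem L696713 : sm gh N51002 = N49062 := ded_54_1 (flp_i L677240) (flp_h L655466) (flp_i L654047) L675561 L696702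
theorem L696715 : sm gc N48930 = N51003 := rfl
theorem L696717 : sm ga N51003 = N50628 := ded_11_1 L692689 (flp_a L675574) L696715
theorem L696719 : sm gf N51003 = N48934 := ded_29_2 (flp_c L675621) (flp_f L675578) L696715
theorem L696721 : sm gg N51003 = N49965 := ded_30_2 L686853 (flp_g L675580) L696715
theorem L696723 : sm gh N51003 = N48943 := ded_32_2 (flp_c L675737) (flp_h L675582) L696715
theorem L696725 : sm gb N51003 = N50136 := ded_19_1 L688669 L666456 (flp_c L661188) (flp_b L675576) L696715
theorem L696727 : sm gd N51003 = N51003 := ded_27_2 (flp_c L696715) (flp_d L675572) L654055 L675572 L696715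
theorem L696728 : sm ge N48930 = N51004 := rfl
theorem L696730 : sm ga N51004 = N50615 := ded_13_1 L692579 (flp_a L675574) L696728
theorem L696732 : sm gb N51004 = N49656 := ded_21_1 (flp_e L683711) (flp_b L675576) L696728
theorem L696734 : sm gg N51004 = N50064 := ded_41_2 (flp_e L687924) (flp_g L675580) L696728
theorem L696736 : sm gh N51004 = N48944 := ded_43_2 (flp_e L675747) (flp_h L675582) L696728
theorem L696738 : sm gi N48930 = N51005 := rfl
theorem L696740 : sm ga N51005 = N50632 := ded_18_1 (flp_i L692721) (flp_a L675574) L696738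
theorem L696742 : sm gb N51005 = N49657 := ded_26_1 (flp_i L683721) (flp_b L675576) L696738
theorem L696744 : sm gd N51005 = N48931 := ded_39_1 (flp_i L675584) L675572 L696738
theorem L696746 : sm gf N51005 = N48936 := ded_48_1 (flp_i L675647) (flp_f L675578) L696738
theorem L696748 : sm gg N51005 = N50065 := ded_51_1 (flp_i L687934) (flp_g L675580) L696738
theorem L696750 : sm gc N48932 = N51006 := rfl
theorem L696752 : sm ga N51006 = N50636 := ded_11_1 L692753 (flp_a L675599) L696750
theorem L696754 : sm gg N51006 = N51006 := ded_30_2 (flp_c L696750) L675603 L696750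
theorem L696755 : sm gj N51006 = N48934 := ded_31_2 (flp_c L675621) (flp_j L675604) L696750
theorem L696757 : sm gh N51006 = N48946 := ded_32_2 (flp_c L675767) (flp_h L675606) L696750
theorem L696759 : sm gb N51006 = N50130 := ded_19_1 L688604 L666409 (flp_c L661211) (flp_b L675601) L696750
theorem L696761 : sm gd N51006 = N51006 := ded_27_2 (flp_c L696750) (flp_d L675597) L654066 L675597 L696750
theorem L696762 : sm ge N50129 = N51006 := ded_42_3 L696755 (flp_e L675632) (flp_j L688598)
theorem L696764 : sm ge N48932 = N51007 := rfl
theorem L696766 : sm ga N51007 = N49820 := ded_13_1 L685402 (flp_a L675599) L696764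
theorem L696768 : sm gb N51007 = N49658 := ded_21_1 (flp_e L683733) (flp_b L675601) L696764
theorem L696770 : sm gc N51007 = N50129 := ded_28_1 L696762 (flp_c L696750) L696764
theorem L696772 : sm gg N51007 = N51007 := ded_41_2 (flp_e L696764) L675603 L696764
theorem L696773 : sm gj N51007 = N48935 := ded_42_2 (flp_e L675634) (flp_j L675604) L696764
theorem L696775 : sm gh N51007 = N48947 := ded_43_2 (flp_e L675778) (flp_h L675606) L696764
theorem L696777 : sm gd N51007 = N51007 := ded_34_1 (flp_e L696764) (flp_d L675597) L654067 L675597 L696764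
theorem L696778 : sm gi N48932 = N51008 := rfl
theorem L696780 : sm ga N51008 = N50640 := ded_18_1 (flp_i L692781) (flp_a L675599) L696778
theorem L696782 : sm gb N51008 = N49659 := ded_26_1 (flp_i L683745) (flp_b L675601) L696778
theorem L696784 : sm gd N51008 = N48933 := ded_39_1 (flp_i L675608) L675597 L696778
theorem L696786 : sm gg N51008 = N51008 := ded_51_1 (flp_i L696778) L675603 L696778
theorem L696787 : sm gj N51008 = N48936 := ded_53_1 (flp_i L675647) (flp_j L675604) L696778
theorem L696789 : sm gi N48934 = N51009 := rfl
theorem L696791 : sm ga N51009 = N50637 := ded_18_1 (flp_i L692759) (flp_a L675623) L696789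
theorem L696793 : sm gb N51009 = N50137 := ded_26_1 (flp_i L688672) (flp_b L675629) L696789
theorem L696795 : sm gc N51009 = N48936 := ded_33_1 (flp_i L675647) L675621 L696789
theorem L696797 : sm gd N51009 = N51009 := ded_39_1 (flp_i L696789) L675631 L696789
theorem L696798 : sm ge N51009 = N50135 := ded_44_1 (flp_i L688657) L675632 L696789
theorem L696800 : sm gg N51009 = N48937 := ded_51_1 (flp_i L675657) (flp_g L675625) L696789
theorem L696802 : sm gf N48935 = N51010 := rfl
theorem L696804 : sm ga N51010 = N49813 := ded_14_1 L685333 (flp_a L675636) L696802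
theorem L696806 : sm gb N51010 = N49660 := ded_22_1 (flp_f L683756) (flp_b L675638) L696802
theorem L696808 : sm gc N51010 = N50123 := ded_29_1 L688551 (flp_c L675640) L696802
theorem L696810 : sm gd N51010 = N51010 := ded_35_1 (flp_f L696802) L675646 L696802
theorem L696811 : sm gh N51010 = N48952 := ded_47_2 (flp_f L675839) (flp_h L675644) L696802
theorem L696813 : sm gg N51010 = N49739 := ded_45_2 (flp_f L684594) L662105 (flp_f L654119) (flp_g L675642) L696802
theorem L696815 : sm gi N48935 = N51011 := rfl
theorem L696817 : sm ga N51011 = N49821 := ded_18_1 (flp_i L685407) (flp_a L675636) L696815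
theorem L696819 : sm gb N51011 = N49661 := ded_26_1 (flp_i L683765) (flp_b L675638) L696815
theorem L696821 : sm gc N51011 = N50135 := ded_33_1 (flp_i L688657) (flp_c L675640) L696815
theorem L696823 : sm gd N51011 = N51011 := ded_39_1 (flp_i L696815) L675646 L696815
theorem L696824 : sm ge N51011 = N48936 := ded_44_1 (flp_i L675647) L675634 L696815
theorem L696826 : sm gg N51011 = N48938 := ded_51_1 (flp_i L675671) (flp_g L675642) L696815
theorem L696828 : sm gh N48936 = N51012 := rfl
theorem L696830 : sm ga N51012 = N50641 := ded_17_1 (flp_h L692788) (flp_a L675649) L696828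
theorem L696832 : sm gb N51012 = N49662 := ded_25_1 (flp_h L683776) (flp_b L675651) L696828
theorem L696834 : sm gg N51012 = N48939 := ded_50_1 (flp_h L675685) (flp_g L675655) L696828
theorem L696836 : sm gd N51012 = N49074 := ded_38_1 (flp_h L677363) L655532 (flp_h L654091) (flp_d L675653) L696828
theorem L696838 : sm gi N51012 = N48954 := ded_54_2 (flp_h L675861) (flp_i L654223) (flp_h L654079) L675647 L696828
theorem L696840 : sm gh N48937 = N51013 := rfl
theorem L696842 : sm ga N51013 = N50638 := ded_17_1 (flp_h L692766) (flp_a L675659) L696840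
theorem L696844 : sm gb N51013 = N50142 := ded_25_1 (flp_h L688720) (flp_b L675661) L696840
theorem L696846 : sm gc N51013 = N48939 := ded_32_1 (flp_h L675685) (flp_c L675663) L696840
theorem L696848 : sm ge N51013 = N50141 := ded_43_1 (flp_h L688713) (flp_e L675666) L696840
theorem L696850 : sm gf N51013 = N49873 := ded_47_1 L685814 (flp_f L675668) L696840
theorem L696852 : sm gj N51013 = N51013 := ded_52_1 (flp_h L696840) L675670 L696840
theorem L696853 : sm gi N51013 = N48957 := ded_54_2 (flp_h L675900) (flp_i L654262) (flp_h L654100) L675657 L696840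
theorem L696855 : sm gh N48938 = N51014 := rfl
theorem L696857 : sm ga N51014 = N49822 := ded_17_1 (flp_h L685414) (flp_a L675673) L696855
theorem L696859 : sm gb N51014 = N49663 := ded_25_1 (flp_h L683788) (flp_b L675675) L696855
theorem L696861 : sm gc N51014 = N50141 := ded_32_1 (flp_h L688713) (flp_c L675677) L696855
theorem L696863 : sm ge N51014 = N48939 := ded_43_1 (flp_h L675685) (flp_e L675680) L696855
theorem L696865 : sm gf N51014 = N49742 := ded_47_1 (flp_h L684626) (flp_f L675682) L696855
theorem L696867 : sm gj N51014 = N51014 := ded_52_1 (flp_h L696855) L675684 L696855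
theorem L696868 : sm gi N51014 = N48958 := ded_54_2 (flp_h L675909) (flp_i L654273) (flp_h L654116) L675671 L696855
theorem L696870 : sm gd N48940 = N51015 := rfl
theorem L696872 : sm ga N51015 = N50681 := ded_12_1 L693065 (flp_a L675700) L696870
theorem L696874 : sm gb N51015 = N49664 := ded_20_1 (flp_d L683799) (flp_b L675702) L696870
theorem L696876 : sm gf N51015 = N51015 := ded_35_2 (flp_d L696870) L675708 L696870
theorem L696877 : sm gg N51015 = N48941 := ded_36_2 (flp_d L675713) (flp_g L675709) L696870
theorem L696879 : sm gj N51015 = N50046 := ded_37_2 (flp_d L687713) (flp_j L675711) L696870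
theorem L696881 : sm gc N51015 = N50256 := ded_27_1 (flp_d L689778) L667335 L654379 (flp_c L675704) L696870
theorem L696883 : sm gi N48940 = N51016 := rfl
theorem L696885 : sm ga N51016 = N50708 := ded_18_1 (flp_i L693261) (flp_a L675700) L696883
theorem L696887 : sm gb N51016 = N49665 := ded_26_1 (flp_i L683806) (flp_b L675702) L696883
theorem L696889 : sm gc N51016 = N48965 := ded_33_1 (flp_i L675992) (flp_c L675704) L696883
theorem L696891 : sm ge N51016 = N50044 := ded_44_1 (flp_i L687691) (flp_e L675706) L696883
theorem L696893 : sm gf N51016 = N51016 := ded_48_1 (flp_i L696883) L675708 L696883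
theorem L696894 : sm gg N51016 = N48942 := ded_51_1 (flp_i L675723) (flp_g L675709) L696883
theorem L696896 : sm gj N51016 = N50047 := ded_53_1 (flp_i L687724) (flp_j L675711) L696883
theorem L696898 : sm gh N51016 = N49082 := ded_54_1 (flp_i L677454) (flp_h L655604) (flp_i L654140) L675698 L696883
theorem L696900 : sm gc N48941 = N51017 := rfl
theorem L696902 : sm ga N51017 = N50691 := ded_11_1 L693141 (flp_a L675715) L696900
theorem L696904 : sm gf N51017 = N48946 := ded_29_2 (flp_c L675767) (flp_f L675719) L696900
theorem L696906 : sm gg N51017 = N50256 := ded_30_2 (flp_c L696881) L696877 L696900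
theorem L696908 : sm gj N51017 = N48943 := ded_31_2 (flp_c L675737) (flp_j L675721) L696900
theorem L696910 : sm gb N51017 = N50557 := ded_19_1 (flp_c L692122) (flp_b L683829) (flp_c L683817) (flp_b L675717) L696900
theorem L696912 : sm gd N51017 = N48966 := ded_27_2 (flp_c L676009) (flp_d L654381) (flp_c L654151) L675713 L696900
theorem L696914 : sm ge N48941 = N51018 := rfl
theorem L696916 : sm ga N51018 = N50669 := ded_13_1 L692973 (flp_a L675715) L696914
theorem L696918 : sm gb N51018 = N49667 := ded_21_1 (flp_e L683831) (flp_b L675717) L696914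
theorem L696920 : sm gj N51018 = N48944 := ded_42_2 (flp_e L675747) (flp_j L675721) L696914
theorem L696922 : sm gi N48941 = N51019 := rfl
theorem L696924 : sm ga N51019 = N50696 := ded_18_1 (flp_i L693175) (flp_a L675715) L696922
theorem L696926 : sm gb N51019 = N49668 := ded_26_1 (flp_i L683835) (flp_b L675717) L696922
theorem L696928 : sm gd N51019 = N48942 := ded_39_1 (flp_i L675723) L675713 L696922
theorem L696930 : sm gf N51019 = N48948 := ded_48_1 (flp_i L675789) (flp_f L675719) L696922
theorem L696932 : sm gj N51019 = N48945 := ded_53_1 (flp_i L675755) (flp_j L675721) L696922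
theorem L696934 : sm gb N48943 = N51020 := rfl
theorem L696936 : sm gd N51020 = N48968 := ded_20_2 (flp_b L676040) (flp_d L675745) L696934
theorem L696938 : sm gf N51020 = N48949 := ded_22_2 (flp_b L675800) (flp_f L675741) L696934
theorem L696940 : sm gg N51020 = N50070 := ded_23_2 (flp_b L687993) (flp_g L675743) L696934
theorem L696942 : sm gj N51020 = N50557 := ded_24_2 (flp_b L696910) L696908 L696934
theorem L696944 : sm gh N51020 = N50136 := ded_25_2 (flp_b L696725) L696723 L696934
theorem L696946 : sm gc N51020 = N49669 := ded_19_2 (flp_b L683843) (flp_c L661296) (flp_b L654161) L675737 L696934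
theorem L696948 : sm ga N50187 = N51020 := ded_12_3 L696936 (flp_a L676051) (flp_d L689181)
theorem L696950 : sm ge N48943 = N51021 := rfl
theorem L696952 : sm ga N51021 = N50665 := ded_13_1 L692949 (flp_a L675739) L696950
theorem L696954 : sm gc N51021 = N48944 := ded_28_1 (flp_e L675747) L675737 L696950
theorem L696956 : sm gg N51021 = N50071 := ded_41_2 (flp_e L688001) (flp_g L675743) L696950
theorem L696958 : sm gi N48943 = N51022 := rfl
theorem L696960 : sm ga N51022 = N50692 := ded_18_1 (flp_i L693147) (flp_a L675739) L696958
theorem L696962 : sm gc N51022 = N48945 := ded_33_1 (flp_i L675755) L675737 L696958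
theorem L696964 : sm gd N51022 = N48970 := ded_39_1 (flp_i L676065) (flp_d L675745) L696958
theorem L696966 : sm gf N51022 = N48951 := ded_48_1 (flp_i L675829) (flp_f L675741) L696958
theorem L696968 : sm gg N51022 = N50072 := ded_51_1 (flp_i L688009) (flp_g L675743) L696958
theorem L696970 : sm gf N48944 = N51023 := rfl
theorem L696972 : sm ga N51023 = N49840 := ded_14_1 L685551 (flp_a L675749) L696970
theorem L696974 : sm gb N51023 = N49672 := ded_22_1 (flp_f L683879) (flp_b L675751) L696970
theorem L696976 : sm ge N51023 = N48952 := ded_40_1 (flp_f L675839) (flp_e L654213) (flp_f L654163) L675747 L696970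
theorem L696978 : sm gg N51023 = N49751 := ded_45_2 (flp_f L684721) L662188 (flp_f L665819) (flp_g L675753) L696970
theorem L696980 : sm gi N48944 = N51024 := rfl
theorem L696982 : sm ga N51024 = N50670 := ded_18_1 (flp_i L692975) (flp_a L675749) L696980
theorem L696984 : sm gb N51024 = N49673 := ded_26_1 (flp_i L683883) (flp_b L675751) L696980
theorem L696986 : sm ge N51024 = N48945 := ded_44_1 (flp_i L675755) L675747 L696980
theorem L696988 : sm gg N51024 = N50073 := ded_51_1 (flp_i L688019) (flp_g L675753) L696980
theorem L696990 : sm gh N48945 = N51025 := rfl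
theorem L696992 : sm ga N51025 = N50697 := ded_17_1 (flp_h L693183) (flp_a L675757) L696990
theorem L696994 : sm gb N51025 = N49674 := ded_25_1 (flp_h L683889) (flp_b L675759) L696990
theorem L696996 : sm gf N51025 = N48954 := ded_47_1 (flp_h L675861) (flp_f L675763) L696990
theorem L696998 : sm gg N51025 = N50074 := ded_50_1 (flp_h L688029) (flp_g L675765) L696990
theorem L697000 : sm gd N51025 = N49091 := ded_38_1 (flp_h L677531) L655651 (flp_h L654179) (flp_d L675761) L696990
theorem L697002 : sm ge N48946 = N51026 := rfl
theorem L697004 : sm ga N51026 = N49869 := ded_13_1 L685782 (flp_a L675769) L697002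
theorem L697006 : sm gb N51026 = N50113 := ded_21_1 L688454 (flp_b L675774) L697002
theorem L697008 : sm gc N51026 = N48947 := ded_28_1 (flp_e L675778) L675767 L697002
theorem L697010 : sm gg N51026 = N51026 := ded_41_2 (flp_e L697002) L675771 L697002
theorem L697011 : sm gj N51026 = N48950 := ded_42_2 (flp_e L675816) (flp_j L675772) L697002
theorem L697013 : sm gh N51026 = N50129 := ded_43_2 L696762 L696757 L697002
theorem L697015 : sm gd N51026 = N51026 := ded_34_1 (flp_e L697002) L675776 L654447 (flp_d L675776) L697002
theorem L697016 : sm gi N48946 = N51027 := rfl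
theorem L697018 : sm ga N51027 = N50703 := ded_18_1 (flp_i L693227) (flp_a L675769) L697016
theorem L697020 : sm gb N51027 = N50838 := ded_26_1 (flp_i L694334) (flp_b L675774) L697016
theorem L697022 : sm gc N51027 = N48948 := ded_33_1 (flp_i L675789) L675767 L697016
theorem L697024 : sm gd N51027 = N48973 := ded_39_1 (flp_i L676103) (flp_d L675776) L697016
theorem L697026 : sm gg N51027 = N51027 := ded_51_1 (flp_i L697016) L675771 L697016
theorem L697027 : sm gj N51027 = N48951 := ded_53_1 (flp_i L675829) (flp_j L675772) L697016
theorem L697029 : sm gf N48947 = N51028 := rfl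
theorem L697031 : sm ga N51028 = N49860 := ded_14_1 L685705 (flp_a L675780) L697029
theorem L697033 : sm gb N51028 = N49676 := ded_22_1 (flp_f L683912) (flp_b L675782) L697029
theorem L697035 : sm gd N51028 = N48959 := ded_35_1 (flp_f L675920) (flp_d L675787) L697029
theorem L697037 : sm gj N51028 = N48952 := ded_46_2 (flp_f L675839) (flp_j L675785) L697029
theorem L697039 : sm gi N48947 = N51029 := rfl
theorem L697041 : sm ga N51029 = N49874 := ded_18_1 (flp_i L685818) (flp_a L675780) L697039
theorem L697043 : sm gb N51029 = N49677 := ded_26_1 (flp_i L683920) (flp_b L675782) L697039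
theorem L697045 : sm gd N51029 = N48960 := ded_39_1 (flp_i L675930) (flp_d L675787) L697039
theorem L697047 : sm ge N51029 = N48948 := ded_44_1 (flp_i L675789) L675778 L697039
theorem L697049 : sm gg N51029 = N51029 := ded_51_1 (flp_i L697039) L675784 L697039
theorem L697050 : sm gj N51029 = N48953 := ded_53_1 (flp_i L675849) (flp_j L675785) L697039
theorem L697052 : sm gh N48948 = N51030 := rfl
theorem L697054 : sm ga N51030 = N50707 := ded_17_1 (flp_h L693256) (flp_a L675791) L697052
theorem L697056 : sm gb N51030 = N49678 := ded_25_1 (flp_h L683931) (flp_b L675793) L697052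
theorem L697058 : sm gg N51030 = N51030 := ded_50_1 (flp_h L697052) L675797 L697052
theorem L697059 : sm gj N51030 = N48954 := ded_52_1 (flp_h L675861) (flp_j L675798) L697052
theorem L697061 : sm gd N51030 = N49096 := ded_38_1 (flp_h L677590) L655685 (flp_h L654203) (flp_d L675795) L697052
theorem L697063 : sm gi N48949 = N51031 := rfl
theorem L697065 : sm ga N51031 = N50188 := ded_18_1 (flp_i L689187) L675812 L697063
theorem L697067 : sm gb N51031 = N48951 := ded_26_1 (flp_i L675829) L675800 L697063
theorem L697069 : sm gc N51031 = N49679 := ded_33_1 (flp_i L683938) (flp_c L675810) L697063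
theorem L697071 : sm gd N51031 = N48975 := ded_39_1 (flp_i L676128) (flp_d L675802) L697063
theorem L697073 : sm ge N51031 = N50115 := ded_44_1 (flp_i L688475) L675814 L697063
theorem L697075 : sm gg N51031 = N48955 := ded_51_1 (flp_i L675871) (flp_g L675804) L697063
theorem L697077 : sm gj N51031 = N50838 := ded_53_1 (flp_i L694334) (flp_j L675806) L697063
theorem L697079 : sm gf N48950 = N51032 := rfl
theorem L697081 : sm ga N51032 = N49856 := ded_14_1 L685672 (flp_a L675818) L697079
theorem L697083 : sm gb N51032 = N50110 := ded_22_1 L688431 (flp_b L675820) L697079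
theorem L697085 : sm gc N51032 = N48952 := ded_29_1 (flp_f L675839) (flp_c L675822) L697079
theorem L697087 : sm gd N51032 = N51032 := ded_35_1 (flp_f L697079) L675828 L697079
theorem L697088 : sm gh N51032 = N50123 := ded_47_2 L688551 (flp_h L675826) L697079
theorem L697090 : sm gg N51032 = N49760 := ded_45_2 (flp_f L684806) L662247 (flp_f L654260) (flp_g L675824) L697079
theorem L697092 : sm gi N48950 = N51033 := rfl
theorem L697094 : sm ga N51033 = N49870 := ded_18_1 (flp_i L685785) (flp_a L675818) L697092
theorem L697096 : sm gb N51033 = N50115 := ded_26_1 (flp_i L688475) (flp_b L675820) L697092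
theorem L697098 : sm gc N51033 = N48953 := ded_33_1 (flp_i L675849) (flp_c L675822) L697092
theorem L697100 : sm gd N51033 = N51033 := ded_39_1 (flp_i L697092) L675828 L697092
theorem L697101 : sm ge N51033 = N48951 := ded_44_1 (flp_i L675829) L675816 L697092
theorem L697103 : sm gg N51033 = N48956 := ded_51_1 (flp_i L675886) (flp_g L675824) L697092
theorem L697105 : sm gh N48951 = N51034 := rfl
theorem L697107 : sm ga N51034 = N50704 := ded_17_1 (flp_h L693236) (flp_a L675831) L697105
theorem L697109 : sm gc N51034 = N48954 := ded_32_1 (flp_h L675861) (flp_c L675833) L697105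
theorem L697111 : sm gg N51034 = N48957 := ded_50_1 (flp_h L675900) (flp_g L675837) L697105
theorem L697113 : sm gi N48952 = N51035 := rfl
theorem L697115 : sm ga N51035 = N49861 := ded_18_1 (flp_i L685707) (flp_a L675841) L697113
theorem L697117 : sm gb N51035 = N49684 := ded_26_1 (flp_i L684002) (flp_b L675843) L697113
theorem L697119 : sm gd N51035 = N48962 := ded_39_1 (flp_i L675957) (flp_d L675845) L697113
theorem L697121 : sm gf N51035 = N48953 := ded_48_1 (flp_i L675849) L675839 L697113
theorem L697123 : sm gg N51035 = N49763 := ded_51_1 (flp_i L684838) (flp_g L675847) L697113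
theorem L697125 : sm gh N48953 = N51036 := rfl
theorem L697127 : sm ga N51036 = N49875 := ded_17_1 (flp_h L685827) (flp_a L675851) L697125
theorem L697129 : sm gb N51036 = N49685 := ded_25_1 (flp_h L684008) (flp_b L675853) L697125
theorem L697131 : sm ge N51036 = N48954 := ded_43_1 (flp_h L675861) (flp_e L675857) L697125
theorem L697133 : sm gg N51036 = N48958 := ded_50_1 (flp_h L675909) (flp_g L675859) L697125
theorem L697135 : sm gh N48955 = N51037 := rfl
theorem L697137 : sm ga N51037 = N50195 := ded_17_1 (flp_h L689265) (flp_a L675873) L697135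
theorem L697139 : sm gb N51037 = N48957 := ded_25_1 (flp_h L675900) (flp_b L675875) L697135
theorem L697141 : sm gc N51037 = N49686 := ded_32_1 (flp_h L684014) (flp_c L675877) L697135
theorem L697143 : sm ge N51037 = N50117 := ded_43_1 (flp_h L688494) (flp_e L675881) L697135
theorem L697145 : sm gf N51037 = N50082 := ded_47_1 (flp_h L688127) (flp_f L675883) L697135
theorem L697147 : sm gj N51037 = N51037 := ded_52_1 (flp_h L697135) L675885 L697135
theorem L697148 : sm gi N51037 = N50142 := ded_54_2 (flp_h L688720) (flp_i L666489) (flp_h L654240) L675871 L697135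
theorem L697150 : sm gh N48956 = N51038 := rfl
theorem L697152 : sm ga N51038 = N49871 := ded_17_1 (flp_h L685794) (flp_a L675888) L697150
theorem L697154 : sm gb N51038 = N50117 := ded_25_1 (flp_h L688494) (flp_b L675890) L697150
theorem L697156 : sm gc N51038 = N48958 := ded_32_1 (flp_h L675909) (flp_c L675892) L697150
theorem L697158 : sm ge N51038 = N48957 := ded_43_1 (flp_h L675900) (flp_e L675895) L697150
theorem L697160 : sm gf N51038 = N49766 := ded_47_1 (flp_h L684865) (flp_f L675897) L697150
theorem L697162 : sm gj N51038 = N51038 := ded_52_1 (flp_h L697150) L675899 L697150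
theorem L697163 : sm gi N51038 = N50141 := ded_54_2 (flp_h L688713) (flp_i L666480) (flp_h L654257) L675886 L697150
theorem L697165 : sm gd N48957 = N51039 := rfl
theorem L697167 : sm ga N51039 = N50705 := ded_12_1 (flp_d L693242) (flp_a L675902) L697165
theorem L697169 : sm gf N51039 = N50083 := ded_35_2 (flp_d L688136) (flp_f L675906) L697165
theorem L697171 : sm gj N51039 = N51039 := ded_37_2 (flp_d L697165) L675908 L697165
theorem L697172 : sm gc N51039 = N49112 := ded_27_1 (flp_d L677770) L655809 (flp_d L654295) (flp_c L675904) L697165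
theorem L697174 : sm gh N51039 = N48979 := ded_38_2 (flp_d L676178) (flp_h L654524) (flp_d L654268) L675900 L697165
theorem L697176 : sm gd N48958 = N51040 := rfl
theorem L697178 : sm ga N51040 = N49876 := ded_12_1 (flp_d L685833) (flp_a L675911) L697176
theorem L697180 : sm gb N51040 = N49691 := ded_20_1 (flp_d L684074) (flp_b L675913) L697176
theorem L697182 : sm gf N51040 = N49767 := ded_35_2 (flp_d L684876) (flp_f L675917) L697176
theorem L697184 : sm gj N51040 = N51040 := ded_37_2 (flp_d L697176) L675919 L697176
theorem L697185 : sm ge N51040 = N49116 := ded_34_2 (flp_d L677805) L655837 (flp_d L654295) (flp_e L675915) L697176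
theorem L697187 : sm gh N51040 = N48964 := ded_38_2 (flp_d L675980) (flp_h L654353) (flp_d L654279) L675909 L697176
theorem L697189 : sm gg N48959 = N51041 := rfl
theorem L697191 : sm ga N51041 = N49878 := ded_15_1 L685850 (flp_a L675922) L697189
theorem L697193 : sm gb N51041 = N49692 := ded_23_1 (flp_g L684081) (flp_b L675924) L697189
theorem L697195 : sm gc N51041 = N51041 := ded_30_1 (flp_g L697189) L675926 L697189
theorem L697196 : sm ge N51041 = N50336 := ded_41_1 (flp_g L695672) L695670 L697189
theorem L697198 : sm gh N51041 = N51041 := ded_50_2 (flp_g L697189) L675929 L697189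
theorem L697199 : sm gf N51041 = N51041 := ded_45_1 (flp_g L697189) (flp_f L675920) L654304 L675920 L697189
theorem L697200 : sm gj N51041 = N49768 := ded_49_2 (flp_g L684883) L662328 (flp_g L654328) (flp_j L675927) L697189
theorem L697202 : sm gi N48959 = N51042 := rfl
theorem L697204 : sm ga N51042 = N49882 := ded_18_1 (flp_i L685872) (flp_a L675922) L697202
theorem L697206 : sm gb N51042 = N49693 := ded_26_1 (flp_i L684091) (flp_b L675924) L697202
theorem L697208 : sm gc N51042 = N51042 := ded_33_1 (flp_i L697202) L675926 L697202
theorem L697209 : sm gf N51042 = N48960 := ded_48_1 (flp_i L675930) L675920 L697202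
theorem L697211 : sm gj N51042 = N48962 := ded_53_1 (flp_i L675957) (flp_j L675927) L697202
theorem L697213 : sm gh N48960 = N51043 := rfl
theorem L697215 : sm ga N51043 = N49886 := ded_17_1 (flp_h L685898) (flp_a L675932) L697213
theorem L697217 : sm gb N51043 = N49694 := ded_25_1 (flp_h L684099) (flp_b L675934) L697213
theorem L697219 : sm gc N51043 = N51043 := ded_32_1 (flp_h L697213) L675936 L697213
theorem L697220 : sm ge N51043 = N48961 := ded_43_1 (flp_h L675942) (flp_e L675937) L697213
theorem L697222 : sm gg N51043 = N51043 := ded_50_1 (flp_h L697213) L675939 L697213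
theorem L697223 : sm gj N51043 = N48963 := ded_52_1 (flp_h L675968) (flp_j L675940) L697213
theorem L697225 : sm gi N51043 = N51043 := ded_54_2 (flp_h L697213) (flp_i L675930) L654307 L675930 L697213
theorem L697226 : sm gh N48962 = N51044 := rfl
theorem L697228 : sm ga N51044 = N49883 := ded_17_1 (flp_h L685879) (flp_a L675959) L697226
theorem L697230 : sm gb N51044 = N49697 := ded_25_1 (flp_h L684130) (flp_b L675961) L697226
theorem L697232 : sm gc N51044 = N51044 := ded_32_1 (flp_h L697226) L675963 L697226
theorem L697233 : sm gf N51044 = N48963 := ded_47_1 (flp_h L675968) (flp_f L675964) L697226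
theorem L697235 : sm gg N51044 = N49771 := ded_50_1 (flp_h L684910) (flp_g L675966) L697226
theorem L697237 : sm gi N51044 = N51044 := ded_54_2 (flp_h L697226) (flp_i L675957) L654327 L675957 L697226
theorem L697238 : sm gd N48963 = N51045 := rfl
theorem L697240 : sm ga N51045 = N49887 := ded_12_1 (flp_d L685907) (flp_a L675970) L697238
theorem L697242 : sm gb N51045 = N49698 := ded_20_1 (flp_d L684135) (flp_b L675972) L697238
theorem L697244 : sm gg N51045 = N48964 := ded_36_2 (flp_d L675980) (flp_g L675977) L697238
theorem L697246 : sm gi N51045 = N51045 := ded_39_2 (flp_d L697238) L675979 L697238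
theorem L697247 : sm ge N51045 = N49123 := ded_34_2 (flp_d L677874) L655897 (flp_d L654350) (flp_e L675975) L697238
theorem L697249 : sm gc N48964 = N51046 := rfl
theorem L697251 : sm ga N51046 = N49888 := ded_11_1 (flp_c L685912) (flp_a L675982) L697249
theorem L697253 : sm ge N51046 = N49127 := ded_28_2 (flp_c L677907) (flp_e L675990) L697249
theorem L697255 : sm gf N51046 = N49773 := ded_29_2 (flp_c L684925) (flp_f L675986) L697249
theorem L697257 : sm gj N51046 = N51046 := ded_31_2 (flp_c L697249) L675988 L697249
theorem L697258 : sm gi N51046 = N51046 := ded_33_2 (flp_c L697249) L675989 L697249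
theorem L697259 : sm gd N51046 = N51046 := ded_27_2 (flp_c L697249) (flp_d L675980) L654359 L675980 L697249
theorem L697260 : sm gi N48966 = N51047 := rfl
theorem L697262 : sm ga N51047 = N50824 := ded_18_1 (flp_i L694227) (flp_a L676011) L697260
theorem L697264 : sm gb N51047 = N50717 := ded_26_1 (flp_i L693329) (flp_b L676022) L697260
theorem L697266 : sm gc N51047 = N48967 := ded_33_1 (flp_i L676024) L676009 L697260
theorem L697268 : sm ge N51047 = N50253 := ded_44_1 (flp_i L689751) (flp_e L676013) L697260
theorem L697270 : sm gf N51047 = N48973 := ded_48_1 (flp_i L676103) (flp_f L676015) L697260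
theorem L697272 : sm gg N51047 = N50257 := ded_51_1 (flp_i L689783) (flp_g L676017) L697260
theorem L697274 : sm gj N51047 = N48970 := ded_53_1 (flp_i L676065) (flp_j L676019) L697260
theorem L697276 : sm gh N48967 = N51048 := rfl
theorem L697278 : sm ga N51048 = N50813 := ded_17_1 L694139 (flp_a L676026) L697276
theorem L697280 : sm gb N51048 = N48981 := ded_25_1 (flp_h L676205) (flp_b L676028) L697276
theorem L697282 : sm ge N51048 = N50254 := ded_43_1 (flp_h L689758) (flp_e L676032) L697276
theorem L697284 : sm gf N51048 = N48974 := ded_47_1 (flp_h L676115) (flp_f L676034) L697276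
theorem L697286 : sm gg N51048 = N50259 := ded_50_1 (flp_h L689801) (flp_g L676036) L697276
theorem L697288 : sm gj N51048 = N48972 := ded_52_1 (flp_h L676090) (flp_j L676038) L697276
theorem L697290 : sm gd N51048 = N49131 := ded_38_1 (flp_h L677950) L655976 (flp_h L654406) (flp_d L676030) L697276
theorem L697292 : sm gi N51048 = N51048 := ded_54_2 (flp_h L697276) (flp_i L676024) L654395 L676024 L697276
theorem L697293 : sm ge N48968 = N51049 := rfl
theorem L697295 : sm ga N51049 = N50721 := ded_13_1 (flp_e L693363) L676051 L697293
theorem L697297 : sm gb N51049 = N48969 := ded_21_1 (flp_e L676053) L676040 L697293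
theorem L697299 : sm gc N51049 = N48982 := ded_28_1 (flp_e L676219) (flp_c L676049) L697293
theorem L697301 : sm gg N51049 = N49129 := ded_41_2 L677929 (flp_g L676044) L697293
theorem L697303 : sm gj N51049 = N49961 := ded_42_2 L686808 (flp_j L676046) L697293
theorem L697305 : sm gh N51049 = N51049 := ded_43_2 (flp_e L697293) L676048 L697293
theorem L697306 : sm gf N51049 = N51049 := ded_40_2 (flp_e L697293) L676042 L654468 (flp_f L676042) L697293
theorem L697307 : sm gi N48968 = N51050 := rfl
theorem L697309 : sm ga N51050 = N50722 := ded_18_1 (flp_i L693371) L676051 L697307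
theorem L697311 : sm gb N51050 = N48970 := ded_26_1 (flp_i L676065) L676040 L697307
theorem L697313 : sm gc N51050 = N48983 := ded_33_1 (flp_i L676233) (flp_c L676049) L697307
theorem L697315 : sm gf N51050 = N48975 := ded_48_1 (flp_i L676128) (flp_f L676042) L697307
theorem L697317 : sm gg N51050 = N50085 := ded_51_1 (flp_i L688156) (flp_g L676044) L697307
theorem L697319 : sm gj N51050 = N50717 := ded_53_1 (flp_i L693329) (flp_j L676046) L697307
theorem L697321 : sm gd N48969 = N51051 := rfl
theorem L697323 : sm ga N51051 = N50803 := ded_12_1 L694064 (flp_a L676055) L697321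
theorem L697325 : sm gf N51051 = N51051 := ded_35_2 (flp_d L697321) L676064 L697321
theorem L697326 : sm gg N51051 = N49083 := ded_36_2 L677473 (flp_g L676059) L697321
theorem L697328 : sm gj N51051 = N50200 := ded_37_2 L689317 (flp_j L676061) L697321
theorem L697330 : sm gc N51051 = N49081 := ded_27_1 (flp_d L677445) L655608 (flp_d L654428) (flp_c L676057) L697321
theorem L697332 : sm gi N48969 = N51052 := rfl
theorem L697334 : sm ga N51052 = N50808 := ded_18_1 (flp_i L694089) (flp_a L676055) L697332
theorem L697336 : sm gc N51052 = N48971 := ded_33_1 (flp_i L676075) (flp_c L676057) L697332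
theorem L697338 : sm ge N51052 = N48970 := ded_44_1 (flp_i L676065) L676053 L697332
theorem L697340 : sm gf N51052 = N51052 := ded_48_1 (flp_i L697332) L676064 L697332
theorem L697341 : sm gg N51052 = N49130 := ded_51_1 (flp_i L677938) (flp_g L676059) L697332
theorem L697343 : sm gj N51052 = N50253 := ded_53_1 (flp_i L689751) (flp_j L676061) L697332
theorem L697345 : sm gh N48970 = N51053 := rfl
theorem L697347 : sm ga N51053 = N50825 := ded_17_1 (flp_h L694235) (flp_a L676067) L697345
theorem L697349 : sm gc N51053 = N48972 := ded_32_1 (flp_h L676090) (flp_c L676069) L697345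
theorem L697351 : sm gf N51053 = N48976 := ded_47_1 (flp_h L676141) (flp_f L676071) L697345
theorem L697353 : sm gg N51053 = N50086 := ded_50_1 (flp_h L688164) (flp_g L676073) L697345
theorem L697355 : sm gi N51053 = N51053 := ded_54_2 (flp_h L697345) (flp_i L676065) L654416 L676065 L697345
theorem L697356 : sm gh N48971 = N51054 := rfl
theorem L697358 : sm ga N51054 = N50812 := ded_17_1 (flp_h L694122) (flp_a L676077) L697356
theorem L697360 : sm gb N51054 = N48986 := ded_25_1 (flp_h L676271) (flp_b L676079) L697356
theorem L697362 : sm ge N51054 = N48972 := ded_43_1 (flp_h L676090) (flp_e L676083) L697356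
theorem L697364 : sm gf N51054 = N51054 := ded_47_1 (flp_h L697356) L676085 L697356
theorem L697365 : sm gg N51054 = N49131 := ded_50_1 (flp_h L677950) (flp_g L676086) L697356
theorem L697367 : sm gj N51054 = N50254 := ded_52_1 (flp_h L689758) (flp_j L676088) L697356
theorem L697369 : sm gd N51054 = N50259 := ded_38_1 (flp_h L689801) (flp_d L675998) L676007 (flp_d L676081) L697356
theorem L697371 : sm gi N51054 = N51054 := ded_54_2 (flp_h L697356) (flp_i L676075) L654427 L676075 L697356
theorem L697372 : sm gh N48973 = N51055 := rfl
theorem L697374 : sm ga N51055 = N50814 := ded_17_1 L694147 (flp_a L676105) L697372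
theorem L697376 : sm gb N51055 = N50844 := ded_25_1 (flp_h L694375) (flp_b L676107) L697372
theorem L697378 : sm gc N51055 = N48974 := ded_32_1 (flp_h L676115) (flp_c L676109) L697372
theorem L697380 : sm ge N51055 = N51055 := ded_43_1 (flp_h L697372) L676111 L697372
theorem L697381 : sm gg N51055 = N51055 := ded_50_1 (flp_h L697372) L676112 L697372
theorem L697382 : sm gj N51055 = N48976 := ded_52_1 (flp_h L676141) (flp_j L676113) L697372
theorem L697384 : sm gi N51055 = N51055 := ded_54_2 (flp_h L697372) (flp_i L676103) L654451 L676103 L697372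
theorem L697385 : sm gh N48975 = N51056 := rfl
theorem L697387 : sm ga N51056 = N50845 := ded_17_1 (flp_h L694384) (flp_a L676130) L697385
theorem L697389 : sm gb N51056 = N48976 := ded_25_1 (flp_h L676141) (flp_b L676132) L697385
theorem L697391 : sm gc N51056 = N48988 := ded_32_1 (flp_h L676296) (flp_c L676134) L697385
theorem L697393 : sm ge N51056 = N51056 := ded_43_1 (flp_h L697385) L676136 L697385
theorem L697394 : sm gg N51056 = N48978 := ded_50_1 (flp_h L676167) (flp_g L676137) L697385
theorem L697396 : sm gj N51056 = N50844 := ded_52_1 (flp_h L694375) (flp_j L676139) L697385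
theorem L697398 : sm gi N51056 = N51056 := ded_54_2 (flp_h L697385) (flp_i L676128) L654473 L676128 L697385
theorem L697399 : sm gd N48976 = N51057 := rfl
theorem L697401 : sm ga N51057 = N50835 := ded_12_1 (flp_d L694319) (flp_a L676143) L697399
theorem L697403 : sm gg N51057 = N48979 := ded_36_2 (flp_d L676178) (flp_g L676148) L697399
theorem L697405 : sm gi N51057 = N51057 := ded_39_2 (flp_d L697399) L676150 L697399
theorem L697406 : sm gc N51057 = N49144 := ded_27_1 (flp_d L678105) L656093 (flp_d L654496) (flp_c L676145) L697399
theorem L697408 : sm gh N48977 = N51058 := rfl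
theorem L697410 : sm ga N51058 = N48978 := ded_17_1 (flp_h L676167) (flp_a L676153) L697408
theorem L697412 : sm gb N51058 = N50830 := ded_25_1 (flp_h L694274) (flp_b L676155) L697408
theorem L697414 : sm gc N51058 = N48990 := ded_32_1 (flp_h L676318) (flp_c L676157) L697408
theorem L697416 : sm ge N51058 = N51058 := ded_43_1 (flp_h L697408) L676161 L697408
theorem L697417 : sm gf N51058 = N50093 := ded_47_1 (flp_h L688240) (flp_f L676162) L697408
theorem L697419 : sm gg N51058 = N50845 := ded_50_1 (flp_h L694384) (flp_g L676164) L697408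
theorem L697421 : sm gj N51058 = N51058 := ded_52_1 (flp_h L697408) L676166 L697408
theorem L697422 : sm gi N51058 = N51058 := ded_54_2 (flp_h L697408) (flp_i L676151) L654511 L676151 L697408
theorem L697423 : sm gd N49702 = N51058 := ded_27_0 L697414 L676329 L660796 L661544 L684172
theorem L697425 : sm gd N48978 = N51059 := rfl
theorem L697427 : sm ga N51059 = N49702 := ded_12_1 L697423 L697410 L697425
theorem L697429 : sm gb N51059 = N48979 := ded_20_1 (flp_d L676178) (flp_b L676169) L697425
theorem L697431 : sm gf N51059 = N50094 := ded_35_2 (flp_d L688252) (flp_f L676174) L697425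
theorem L697433 : sm gj N51059 = N51059 := ded_37_2 (flp_d L697425) L676176 L697425
theorem L697434 : sm gi N51059 = N51059 := ded_39_2 (flp_d L697425) L676177 L697425
theorem L697435 : sm gc N51059 = N49648 := ded_27_1 (flp_d L683623) L676344 (flp_d L676332) (flp_c L676171) L697425
theorem L697437 : sm ge N49773 = N51059 := ded_13_0 L697427 L684174 (flp_a L684927)
theorem L697439 : sm ge N48979 = N51060 := rfl
theorem L697441 : sm ga N51060 = N50834 := ded_13_1 L694314 (flp_a L676180) L697439
theorem L697443 : sm gb N51060 = N49773 := ded_21_1 L697437 L697429 L697439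
theorem L697445 : sm gc N51060 = N49147 := ded_28_1 (flp_e L678132) (flp_c L676186) L697439
theorem L697447 : sm gj N51060 = N51060 := ded_42_2 (flp_e L697439) L676184 L697439
theorem L697448 : sm gi N51060 = N51060 := ded_44_2 (flp_e L697439) L676185 L697439
theorem L697449 : sm gd N51060 = N51060 := ded_34_1 (flp_e L697439) (flp_d L676178) L654530 L676178 L697439
theorem L697450 : sm gh N48980 = N51061 := rfl
theorem L697452 : sm ga N51061 = N51061 := ded_17_1 (flp_h L697450) L676190 L697450
theorem L697453 : sm gb N51061 = N50718 := ded_25_1 (flp_h L693337) (flp_b L676191) L697450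
theorem L697455 : sm gc N51061 = N48981 := ded_32_1 (flp_h L676205) (flp_c L676193) L697450
theorem L697457 : sm ge N51061 = N49612 := ded_43_1 L683204 (flp_e L676197) L697450
theorem L697459 : sm gf N51061 = N48987 := ded_47_1 (flp_h L676284) (flp_f L676199) L697450
theorem L697461 : sm gg N51061 = N50275 := ded_50_1 (flp_h L689925) (flp_g L676201) L697450
theorem L697463 : sm gj N51061 = N48985 := ded_52_1 (flp_h L676261) (flp_j L676203) L697450
theorem L697465 : sm gd N51061 = N49438 := ded_38_1 (flp_h L681555) L659243 (flp_h L661762) (flp_d L676195) L697450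
theorem L697467 : sm gi N51061 = N51061 := ded_54_2 (flp_h L697450) (flp_i L676188) L654562 L676188 L697450
theorem L697468 : sm gi N48982 = N51062 := rfl
theorem L697470 : sm ga N51062 = N50723 := ded_18_1 (flp_i L693379) (flp_a L676221) L697468
theorem L697472 : sm gb N51062 = N48984 := ded_26_1 (flp_i L676247) (flp_b L676223) L697468
theorem L697474 : sm gd N51062 = N49901 := ded_39_1 L686079 (flp_d L676230) L697468
theorem L697476 : sm ge N51062 = N48983 := ded_44_1 (flp_i L676233) L676219 L697468
theorem L697478 : sm gf N51062 = N51062 := ded_48_1 (flp_i L697468) L676232 L697468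
theorem L697479 : sm gg N51062 = N49149 := ded_51_1 (flp_i L678154) (flp_g L676225) L697468
theorem L697481 : sm gj N51062 = N49911 := ded_53_1 L686188 (flp_j L676227) L697468
theorem L697483 : sm gh N48983 = N51063 := rfl
theorem L697485 : sm ga N51063 = N50724 := ded_17_1 (flp_h L693389) (flp_a L676235) L697483
theorem L697487 : sm gb N51063 = N48985 := ded_25_1 (flp_h L676261) (flp_b L676237) L697483
theorem L697489 : sm gf N51063 = N48988 := ded_47_1 (flp_h L676296) (flp_f L676241) L697483
theorem L697491 : sm gg N51063 = N50097 := ded_50_1 (flp_h L688279) (flp_g L676243) L697483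
theorem L697493 : sm gj N51063 = N50718 := ded_52_1 (flp_h L693337) (flp_j L676245) L697483
theorem L697495 : sm gi N51063 = N51063 := ded_54_2 (flp_h L697483) (flp_i L676233) L654590 L676233 L697483
theorem L697496 : sm gh N48984 = N51064 := rfl
theorem L697498 : sm ga N51064 = N51064 := ded_17_1 (flp_h L697496) L676249 L697496
theorem L697499 : sm gc N51064 = N48986 := ded_32_1 (flp_h L676271) (flp_c L676250) L697496
theorem L697501 : sm ge N51064 = N48985 := ded_43_1 (flp_h L676261) (flp_e L676254) L697496
theorem L697503 : sm gf N51064 = N51064 := ded_47_1 (flp_h L697496) L676256 L697496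
theorem L697504 : sm gg N51064 = N49150 := ded_50_1 (flp_h L678166) (flp_g L676257) L697496
theorem L697506 : sm gj N51064 = N49612 := ded_52_1 L683204 (flp_j L676259) L697496
theorem L697508 : sm gd N51064 = N49606 := ded_38_1 (flp_h L683117) L660492 (flp_h L663399) (flp_d L676252) L697496
theorem L697510 : sm gi N51064 = N51064 := ded_54_2 (flp_h L697496) (flp_i L676247) L654602 L676247 L697496
theorem L697511 : sm gd N48985 = N51065 := rfl
theorem L697513 : sm ga N51065 = N51065 := ded_12_1 (flp_d L697511) L676263 L697511
theorem L697514 : sm gf N51065 = N48989 := ded_35_2 (flp_d L676308) (flp_f L676266) L697511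
theorem L697516 : sm gg N51065 = N50098 := ded_36_2 (flp_d L688286) (flp_g L676268) L697511
theorem L697518 : sm gj N51065 = N49438 := ded_37_2 (flp_d L697465) L697463 L697511
theorem L697520 : sm gi N51065 = N51065 := ded_39_2 (flp_d L697511) L676270 L697511
theorem L697521 : sm gc N51065 = N49156 := ded_27_1 (flp_d L678242) L656212 (flp_d L654636) (flp_c L676264) L697511
theorem L697523 : sm ge N51065 = N49432 := ded_34_2 L681486 (flp_e L683122) (flp_d L697508) L697501 L697511
theorem L697525 : sm gh N51065 = N49431 := ded_38_2 L681465 L661777 (flp_d L654611) L676261 L697511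
theorem L697527 : sm gd N48987 = N51066 := rfl
theorem L697529 : sm ga N51066 = N51066 := ded_12_1 (flp_d L697527) L676286 L697527
theorem L697530 : sm gb N51066 = N50843 := ded_20_1 L694372 (flp_b L676287) L697527
theorem L697532 : sm gf N51066 = N49438 := ded_35_2 (flp_d L697465) L697459 L697527
theorem L697534 : sm gg N51066 = N51066 := ded_36_2 (flp_d L697527) L676292 L697527
theorem L697535 : sm gj N51066 = N48989 := ded_37_2 (flp_d L676308) (flp_j L676293) L697527
theorem L697537 : sm gi N51066 = N51066 := ded_39_2 (flp_d L697527) L676295 L697527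
theorem L697538 : sm gc N51066 = N49159 := ded_27_1 (flp_d L678272) L656254 (flp_d L654659) (flp_c L676289) L697527
theorem L697540 : sm gh N51066 = N49322 := ded_38_2 L680307 L660846 (flp_d L654646) L676284 L697527
theorem L697542 : sm ge N49323 = N51066 := ded_40_5 L697532 L681558 L659252 (flp_e L658365) (flp_f L680319)
theorem L697544 : sm gd N48988 = N51067 := rfl
theorem L697546 : sm ga N51067 = N49619 := ded_12_1 L683295 (flp_a L676298) L697544
theorem L697548 : sm gb N51067 = N48989 := ded_20_1 (flp_d L676308) (flp_b L676300) L697544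
theorem L697550 : sm gg N51067 = N48991 := ded_36_2 (flp_d L676332) (flp_g L676303) L697544
theorem L697552 : sm gj N51067 = N50843 := ded_37_2 L694372 (flp_j L676305) L697544
theorem L697554 : sm gi N51067 = N51067 := ded_39_2 (flp_d L697544) L676307 L697544
theorem L697555 : sm gh N51067 = N49614 := ded_38_2 L683227 (flp_h L661812) (flp_d L654668) L676296 L697544
theorem L697557 : sm gc N49647 = N51067 := ded_11_0 L697546 L683287 (flp_a L683616)
theorem L697559 : sm ge N49615 = N51067 := ded_13_0 L697546 L683289 (flp_a L683237)
theorem L697561 : sm ge N48989 = N51068 := rfl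
theorem L697563 : sm ga N51068 = N51068 := ded_13_1 (flp_e L697561) L676310 L697561
theorem L697564 : sm gb N51068 = N49615 := ded_21_1 L697559 L697548 L697561
theorem L697566 : sm gc N51068 = N49162 := ded_28_1 (flp_e L678298) (flp_c L676314) L697561
theorem L697568 : sm gg N51068 = N48992 := ded_41_2 (flp_e L676348) (flp_g L676311) L697561
theorem L697570 : sm gj N51068 = N49323 := ded_42_2 L697542 L697535 L697561
theorem L697572 : sm gh N51068 = N49320 := ded_43_2 L680279 (flp_h L676316) L697561
theorem L697574 : sm gi N51068 = N51068 := ded_44_2 (flp_e L697561) L676313 L697561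
theorem L697575 : sm gd N51068 = N51068 := ded_34_1 (flp_e L697561) (flp_d L676308) L654680 L676308 L697561
theorem L697576 : sm gf N51068 = N49325 := ded_40_2 L680345 (flp_f L681480) (flp_e L697523) L697514 L697561
theorem L697578 : sm gh N48993 = N51069 := rfl
theorem L697580 : sm ga N51069 = N49711 := ded_17_1 (flp_h L684308) (flp_a L676364) L697578
theorem L697582 : sm gb N51069 = N49017 := ded_25_1 (flp_h L676692) (flp_b L676366) L697578
theorem L697584 : sm gc N51069 = N49925 := ded_32_1 (flp_h L686350) (flp_c L676368) L697578
theorem L697586 : sm ge N51069 = N49653 := ded_43_1 (flp_h L683676) (flp_e L676372) L697578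
theorem L697588 : sm gf N51069 = N48995 := ded_47_1 (flp_h L676394) (flp_f L676374) L697578
theorem L697590 : sm gg N51069 = N49650 := ded_50_1 (flp_h L683645) (flp_g L676378) L697578
theorem L697592 : sm gj N51069 = N48994 := ded_52_1 (flp_h L676380) L676362 L697578
theorem L697594 : sm gd N48994 = N51070 := rfl
theorem L697596 : sm ga N51070 = N49712 := ded_12_1 (flp_d L684322) (flp_a L676382) L697594
theorem L697598 : sm gb N51070 = N49018 := ded_20_1 (flp_d L676701) (flp_b L676384) L697594
theorem L697600 : sm gf N51070 = N48996 := ded_35_2 (flp_d L676406) (flp_f L676390) L697594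
theorem L697602 : sm gg N51070 = N49680 := ded_36_2 L683960 (flp_g L676392) L697594
theorem L697604 : sm gc N51070 = N49683 := ded_27_1 L683998 (flp_c L683262) L683264 (flp_c L676386) L697594
theorem L697606 : sm gh N51070 = N49001 := ded_38_2 (flp_d L676477) (flp_h L654798) (flp_d L654725) L676380 L697594
theorem L697608 : sm gi N48994 = N51071 := rfl
theorem L697610 : sm ga N51071 = N49713 := ded_18_1 (flp_i L684332) (flp_a L676382) L697608
theorem L697612 : sm gb N51071 = N49019 := ded_26_1 (flp_i L676711) (flp_b L676384) L697608
theorem L697614 : sm gc N51071 = N50555 := ded_33_1 L692107 (flp_c L676386) L697608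
theorem L697616 : sm ge N51071 = N50502 := ded_44_1 (flp_i L691680) (flp_e L676388) L697608
theorem L697618 : sm gf N51071 = N48997 := ded_48_1 (flp_i L676420) (flp_f L676390) L697608
theorem L697620 : sm gg N51071 = N50103 := ded_51_1 (flp_i L688341) (flp_g L676392) L697608
theorem L697622 : sm gh N51071 = N50550 := ded_54_1 (flp_i L692041) L670040 (flp_i L654727) L676380 L697608
theorem L697624 : sm gd N48995 = N51072 := rfl
theorem L697626 : sm ga N51072 = N49714 := ded_12_1 (flp_d L684344) (flp_a L676396) L697624
theorem L697628 : sm gb N51072 = N49020 := ded_20_1 (flp_d L676722) (flp_b L676398) L697624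
theorem L697630 : sm gg N51072 = N51072 := ded_36_2 (flp_d L697624) L676403 L697624
theorem L697631 : sm gj N51072 = N48996 := ded_37_2 (flp_d L676406) (flp_j L676404) L697624
theorem L697633 : sm gc N51072 = N49688 := ded_27_1 L684050 L661520 L671414 (flp_c L676400) L697624
theorem L697635 : sm gh N51072 = N49003 := ded_38_2 (flp_d L676500) (flp_h L654809) (flp_d L654741) L676394 L697624
theorem L697637 : sm ge N49724 = N51072 := ded_21_0 L697628 (flp_e L676733) (flp_b L684443)
theorem L697639 : sm gi N48995 = N51073 := rfl
theorem L697641 : sm ga N51073 = N49715 := ded_18_1 (flp_i L684355) (flp_a L676396) L697639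
theorem L697643 : sm gb N51073 = N49021 := ded_26_1 (flp_i L676735) (flp_b L676398) L697639
theorem L697645 : sm gc N51073 = N50556 := ded_33_1 L692118 (flp_c L676400) L697639
theorem L697647 : sm ge N51073 = N51073 := ded_44_1 (flp_i L697639) L676402 L697639
theorem L697648 : sm gg N51073 = N51073 := ded_51_1 (flp_i L697639) L676403 L697639
theorem L697649 : sm gj N51073 = N48997 := ded_53_1 (flp_i L676420) (flp_j L676404) L697639
theorem L697651 : sm gh N51073 = N50554 := ded_54_1 (flp_i L692084) L670085 (flp_i L654744) L676394 L697639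
theorem L697653 : sm gi N48996 = N51074 := rfl
theorem L697655 : sm ga N51074 = N49716 := ded_18_1 (flp_i L684367) (flp_a L676408) L697653
theorem L697657 : sm gb N51074 = N49024 := ded_26_1 (flp_i L676776) (flp_b L676410) L697653
theorem L697659 : sm gc N51074 = N49689 := ded_33_1 (flp_i L684055) (flp_c L676414) L697653
theorem L697661 : sm gd N51074 = N48997 := ded_39_1 (flp_i L676420) L676406 L697653
theorem L697663 : sm ge N51074 = N49726 := ded_44_1 (flp_i L684455) L676418 L697653
theorem L697665 : sm gg N51074 = N48998 := ded_51_1 (flp_i L676433) (flp_g L676412) L697653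
theorem L697667 : sm gh N48998 = N51075 := rfl
theorem L697669 : sm ga N51075 = N49717 := ded_17_1 (flp_h L684375) (flp_a L676435) L697667
theorem L697671 : sm gb N51075 = N49027 := ded_25_1 (flp_h L676812) (flp_b L676437) L697667
theorem L697673 : sm gc N51075 = N49690 := ded_32_1 (flp_h L684065) (flp_c L676439) L697667
theorem L697675 : sm ge N51075 = N49728 := ded_43_1 (flp_h L684468) (flp_e L676443) L697667
theorem L697677 : sm gf N51075 = N49687 := ded_47_1 (flp_h L684029) (flp_f L676445) L697667
theorem L697679 : sm gj N51075 = N51075 := ded_52_1 (flp_h L697667) L676447 L697667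
theorem L697680 : sm gd N51075 = N50199 := ded_38_1 (flp_h L689301) L666950 (flp_h L654785) (flp_d L676441) L697667
theorem L697682 : sm gi N51075 = N49010 := ded_54_2 (flp_h L676593) (flp_i L654871) (flp_h L654769) L676433 L697667
theorem L697684 : sm gh N48999 = N51076 := rfl
theorem L697686 : sm ga N51076 = N49718 := ded_17_1 (flp_h L684386) (flp_a L676450) L697684
theorem L697688 : sm gb N51076 = N49028 := ded_25_1 (flp_h L676823) (flp_b L676452) L697684
theorem L697690 : sm gc N51076 = N51076 := ded_32_1 (flp_h L697684) L676454 L697684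
theorem L697691 : sm ge N51076 = N49374 := ded_43_1 (flp_h L680934) (flp_e L676457) L697684
theorem L697693 : sm gf N51076 = N51076 := ded_47_1 (flp_h L697684) L676461 L697684
theorem L697694 : sm gg N51076 = N49000 := ded_50_1 (flp_h L676464) L676448 L697684
theorem L697696 : sm gj N51076 = N49373 := ded_52_1 (flp_h L680922) (flp_j L676462) L697684
theorem L697698 : sm gd N49000 = N51077 := rfl
theorem L697700 : sm ga N51077 = N49719 := ded_12_1 (flp_d L684396) (flp_a L676466) L697698
theorem L697702 : sm gb N51077 = N49029 := ded_20_1 (flp_d L676836) (flp_b L676468) L697698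
theorem L697704 : sm gf N51077 = N49003 := ded_35_2 (flp_d L676500) (flp_f L676473) L697698
theorem L697706 : sm gj N51077 = N49001 := ded_37_2 (flp_d L676477) (flp_j L676475) L697698
theorem L697708 : sm gi N49000 = N51078 := rfl
theorem L697710 : sm ga N51078 = N49720 := ded_18_1 (flp_i L684404) (flp_a L676466) L697708
theorem L697712 : sm gb N51078 = N49030 := ded_26_1 (flp_i L676846) (flp_b L676468) L697708
theorem L697714 : sm gc N51078 = N51078 := ded_33_1 (flp_i L697708) L676470 L697708
theorem L697715 : sm ge N51078 = N50758 := ded_44_1 (flp_i L693677) (flp_e L676471) L697708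
theorem L697717 : sm gf N51078 = N49004 := ded_48_1 (flp_i L676511) (flp_f L676473) L697708
theorem L697719 : sm gj N51078 = N49002 := ded_53_1 (flp_i L676487) (flp_j L676475) L697708
theorem L697721 : sm gh N51078 = N50252 := ded_54_1 (flp_i L689742) L667288 (flp_i L654796) L676464 L697708
theorem L697723 : sm gc N49001 = N51079 := rfl
theorem L697725 : sm ga N51079 = N49721 := ded_11_1 (flp_c L684413) (flp_a L676479) L697723
theorem L697727 : sm gf N51079 = N49005 := ded_29_2 (flp_c L676525) (flp_f L676483) L697723
theorem L697729 : sm gg N51079 = N49660 := ded_30_2 L683760 (flp_g L676485) L697723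
theorem L697731 : sm gh N51079 = N49683 := ded_32_2 (flp_c L697604) L697606 L697723
theorem L697733 : sm gb N51079 = N49739 := ded_19_1 L684598 L676872 (flp_c L676860) (flp_b L676481) L697723
theorem L697735 : sm gd N51079 = N51079 := ded_27_2 (flp_c L697723) (flp_d L676477) L654804 L676477 L697723
theorem L697736 : sm ge N49001 = N51080 := rfl
theorem L697738 : sm ga N51080 = N49722 := ded_13_1 (flp_e L684420) (flp_a L676479) L697736
theorem L697740 : sm gb N51080 = N49032 := ded_21_1 (flp_e L676874) (flp_b L676481) L697736
theorem L697742 : sm gg N51080 = N50106 := ded_41_2 (flp_e L688384) (flp_g L676485) L697736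
theorem L697744 : sm gi N49001 = N51081 := rfl
theorem L697746 : sm ga N51081 = N49723 := ded_18_1 (flp_i L684426) (flp_a L676479) L697744
theorem L697748 : sm gb N51081 = N49033 := ded_26_1 (flp_i L676880) (flp_b L676481) L697744
theorem L697750 : sm gd N51081 = N49002 := ded_39_1 (flp_i L676487) L676477 L697744
theorem L697752 : sm gf N51081 = N49007 := ded_48_1 (flp_i L676554) (flp_f L676483) L697744
theorem L697754 : sm gg N51081 = N50107 := ded_51_1 (flp_i L688392) (flp_g L676485) L697744
theorem L697756 : sm gc N49003 = N51082 := rfl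
theorem L697758 : sm ga N51082 = N49724 := ded_11_1 (flp_c L684436) (flp_a L676502) L697756
theorem L697760 : sm ge N51082 = N49714 := ded_28_2 L684351 (flp_e L676509) L697756
theorem L697762 : sm gg N51082 = N51082 := ded_30_2 (flp_c L697756) L676506 L697756
theorem L697763 : sm gj N51082 = N49005 := ded_31_2 (flp_c L676525) (flp_j L676507) L697756
theorem L697765 : sm gh N51082 = N49688 := ded_32_2 (flp_c L697633) L697635 L697756
theorem L697767 : sm gb N51082 = N49737 := ded_19_1 L684575 L671619 (flp_c L655126) (flp_b L676504) L697756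
theorem L697769 : sm gd N51082 = N51082 := ded_27_2 (flp_c L697756) (flp_d L676500) L654815 L676500 L697756
theorem L697770 : sm gi N49003 = N51083 := rfl
theorem L697772 : sm ga N51083 = N49725 := ded_18_1 (flp_i L684446) (flp_a L676502) L697770
theorem L697774 : sm gb N51083 = N49034 := ded_26_1 (flp_i L676890) (flp_b L676504) L697770
theorem L697776 : sm gd N51083 = N49004 := ded_39_1 (flp_i L676511) L676500 L697770
theorem L697778 : sm ge N51083 = N50764 := ded_44_1 (flp_i L693715) (flp_e L676509) L697770
theorem L697780 : sm gg N51083 = N51083 := ded_51_1 (flp_i L697770) L676506 L697770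
theorem L697781 : sm gj N51083 = N49007 := ded_53_1 (flp_i L676554) (flp_j L676507) L697770
theorem L697783 : sm gi N49005 = N51084 := rfl
theorem L697785 : sm ga N51084 = N49726 := ded_18_1 (flp_i L684455) (flp_a L676527) L697783
theorem L697787 : sm gb N51084 = N49740 := ded_26_1 (flp_i L684603) (flp_b L676533) L697783
theorem L697789 : sm gc N51084 = N49007 := ded_33_1 (flp_i L676554) L676525 L697783
theorem L697791 : sm gd N51084 = N51084 := ded_39_1 (flp_i L697783) L676535 L697783
theorem L697792 : sm ge N51084 = N49716 := ded_44_1 (flp_i L684367) L676536 L697783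
theorem L697794 : sm gg N51084 = N49008 := ded_51_1 (flp_i L676564) (flp_g L676529) L697783
theorem L697796 : sm gf N49006 = N51085 := rfl
theorem L697798 : sm ga N51085 = N49683 := ded_14_1 L684000 (flp_a L676540) L697796
theorem L697800 : sm gb N51085 = N49036 := ded_22_1 (flp_f L676919) (flp_b L676542) L697796
theorem L697802 : sm gc N51085 = N49712 := ded_29_1 L684326 (flp_c L676544) L697796
theorem L697804 : sm gd N51085 = N49011 := ded_35_1 (flp_f L676604) (flp_d L676552) L697796
theorem L697806 : sm gj N51085 = N50465 := ded_46_2 L691389 (flp_j L676548) L697796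
theorem L697808 : sm gh N51085 = N49721 := ded_47_2 L684415 (flp_h L676550) L697796
theorem L697810 : sm gg N51085 = N49640 := ded_45_2 (flp_f L683542) L661021 (flp_f L654869) (flp_g L676546) L697796
theorem L697812 : sm gi N49006 = N51086 := rfl
theorem L697814 : sm ga N51086 = N49689 := ded_18_1 (flp_i L684055) (flp_a L676540) L697812
theorem L697816 : sm gb N51086 = N49037 := ded_26_1 (flp_i L676929) (flp_b L676542) L697812
theorem L697818 : sm gc N51086 = N49716 := ded_33_1 (flp_i L684367) (flp_c L676544) L697812
theorem L697820 : sm gd N51086 = N49012 := ded_39_1 (flp_i L676619) (flp_d L676552) L697812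
theorem L697822 : sm ge N51086 = N49007 := ded_44_1 (flp_i L676554) L676538 L697812
theorem L697824 : sm gg N51086 = N49009 := ded_51_1 (flp_i L676578) (flp_g L676546) L697812
theorem L697826 : sm gj N51086 = N50764 := ded_53_1 (flp_i L693715) (flp_j L676548) L697812
theorem L697828 : sm gh N49007 = N51087 := rfl
theorem L697830 : sm ga N51087 = N49727 := ded_17_1 (flp_h L684462) (flp_a L676556) L697828
theorem L697832 : sm gb N51087 = N49038 := ded_25_1 (flp_h L676943) (flp_b L676558) L697828
theorem L697834 : sm gg N51087 = N49010 := ded_50_1 (flp_h L676593) (flp_g L676562) L697828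
theorem L697836 : sm gd N51087 = N50251 := ded_38_1 (flp_h L689736) L667259 (flp_h L654840) (flp_d L676560) L697828
theorem L697838 : sm gh N49008 = N51088 := rfl
theorem L697840 : sm ga N51088 = N49728 := ded_17_1 (flp_h L684468) (flp_a L676566) L697838
theorem L697842 : sm gb N51088 = N49742 := ded_25_1 (flp_h L684626) (flp_b L676568) L697838
theorem L697844 : sm gc N51088 = N49010 := ded_32_1 (flp_h L676593) (flp_c L676570) L697838
theorem L697846 : sm ge N51088 = N49717 := ded_43_1 (flp_h L684375) (flp_e L676573) L697838
theorem L697848 : sm gf N51088 = N49663 := ded_47_1 (flp_h L683788) (flp_f L676575) L697838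
theorem L697850 : sm gj N51088 = N51088 := ded_52_1 (flp_h L697838) L676577 L697838
theorem L697851 : sm gi N51088 = N49690 := ded_54_2 (flp_h L684065) (flp_i L661456) (flp_h L654849) L676564 L697838
theorem L697853 : sm gh N49009 = N51089 := rfl
theorem L697855 : sm ga N51089 = N49690 := ded_17_1 (flp_h L684065) (flp_a L676580) L697853
theorem L697857 : sm gb N51089 = N49042 := ded_25_1 (flp_h L676993) (flp_b L676582) L697853
theorem L697859 : sm gc N51089 = N49717 := ded_32_1 (flp_h L684375) (flp_c L676584) L697853
theorem L697861 : sm ge N51089 = N49010 := ded_43_1 (flp_h L676593) (flp_e L676588) L697853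
theorem L697863 : sm gf N51089 = N49643 := ded_47_1 (flp_h L683576) (flp_f L676590) L697853
theorem L697865 : sm gj N51089 = N51089 := ded_52_1 (flp_h L697853) L676592 L697853
theorem L697866 : sm gi N51089 = N49728 := ded_54_2 (flp_h L684468) (flp_i L661984) (flp_h L654865) L676578 L697853
theorem L697868 : sm gi N49011 = N51090 := rfl
theorem L697870 : sm ga N51090 = N49696 := ded_18_1 (flp_i L684122) (flp_a L676606) L697868
theorem L697872 : sm gb N51090 = N49044 := ded_26_1 (flp_i L677015) (flp_b L676608) L697868
theorem L697874 : sm gc N51090 = N50482 := ded_33_1 (flp_i L691511) (flp_c L676610) L697868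
theorem L697876 : sm ge N51090 = N50462 := ded_44_1 (flp_i L691358) (flp_e L676615) L697868
theorem L697878 : sm gf N51090 = N49012 := ded_48_1 (flp_i L676619) L676604 L697868
theorem L697880 : sm gg N51090 = N49646 := ded_51_1 (flp_i L683608) (flp_g L676617) L697868
theorem L697882 : sm gj N51090 = N50466 := ded_53_1 (flp_i L691391) (flp_j L676612) L697868
theorem L697884 : sm gh N49012 = N51091 := rfl
theorem L697886 : sm ga N51091 = N49700 := ded_17_1 (flp_h L684155) (flp_a L676621) L697884
theorem L697888 : sm gb N51091 = N49045 := ded_25_1 (flp_h L677027) (flp_b L676623) L697884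
theorem L697890 : sm gc N51091 = N50102 := ded_32_1 L688337 (flp_c L676625) L697884
theorem L697892 : sm ge N51091 = N49013 := ded_43_1 (flp_h L676633) (flp_e L676627) L697884
theorem L697894 : sm gg N51091 = N49015 := ded_50_1 (flp_h L676666) (flp_g L676629) L697884
theorem L697896 : sm gj N51091 = N50765 := ded_52_1 (flp_h L693722) (flp_j L676631) L697884
theorem L697898 : sm gi N51091 = N51091 := ded_54_2 (flp_h L697884) (flp_i L676619) L654910 L676619 L697884
theorem L697899 : sm gd N49015 = N51092 := rfl
theorem L697901 : sm ga N51092 = N49701 := ded_12_1 (flp_d L684164) (flp_a L676668) L697899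
theorem L697903 : sm gb N51092 = N49049 := ded_20_1 (flp_d L677078) (flp_b L676670) L697899
theorem L697905 : sm gf N51092 = N49648 := ded_35_2 (flp_d L683623) (flp_f L676676) L697899
theorem L697907 : sm gj N51092 = N51092 := ded_37_2 (flp_d L697899) L676678 L697899
theorem L697908 : sm gi N51092 = N51092 := ded_39_2 (flp_d L697899) L676679 L697899
theorem L697909 : sm gc N51092 = N50094 := ded_27_1 (flp_d L688252) L666032 L666138 (flp_c L676672) L697899
theorem L697911 : sm ge N51092 = N49126 := ded_34_2 (flp_d L677899) L655922 (flp_d L654965) (flp_e L676674) L697899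
theorem L697913 : sm gd N49016 = N51093 := rfl
theorem L697915 : sm ga N51093 = N49058 := ded_12_1 (flp_d L677199) (flp_a L676682) L697913
theorem L697917 : sm gb N51093 = N50501 := ded_20_1 (flp_d L691673) (flp_b L676684) L697913
theorem L697919 : sm gf N51093 = N51093 := ded_35_2 (flp_d L697913) L676689 L697913
theorem L697920 : sm gg N51093 = N50062 := ded_36_2 (flp_d L687897) (flp_g L676690) L697913
theorem L697922 : sm gh N51093 = N50046 := ded_38_2 (flp_d L687713) L665443 (flp_d L654989) L676680 L697913
theorem L697924 : sm gc N50264 = N51093 := ded_32_3 L697922 L687722 L689842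
theorem L697926 : sm gi N49016 = N51094 := rfl
theorem L697928 : sm ga N51094 = N49059 := ded_18_1 (flp_i L677208) (flp_a L676682) L697926
theorem L697930 : sm gb N51094 = N50502 := ded_26_1 (flp_i L691680) (flp_b L676684) L697926
theorem L697932 : sm gc N51094 = N51094 := ded_33_1 (flp_i L697926) L676686 L697926
theorem L697933 : sm ge N51094 = N49019 := ded_44_1 (flp_i L676711) (flp_e L676687) L697926
theorem L697935 : sm gf N51094 = N51094 := ded_48_1 (flp_i L697926) L676689 L697926
theorem L697936 : sm gg N51094 = N50063 := ded_51_1 (flp_i L687909) (flp_g L676690) L697926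
theorem L697938 : sm gh N51094 = N50172 := ded_54_1 (flp_i L689030) (flp_h L666766) (flp_i L654987) L676680 L697926
theorem L697940 : sm gd N49017 = N51095 := rfl
theorem L697942 : sm ga N51095 = N49061 := ded_12_1 (flp_d L677230) (flp_a L676694) L697940
theorem L697944 : sm gf N51095 = N49020 := ded_35_2 (flp_d L676722) (flp_f L676697) L697940
theorem L697946 : sm gj N51095 = N49018 := ded_37_2 (flp_d L676701) (flp_j L676699) L697940
theorem L697948 : sm gh N51095 = N49029 := ded_38_2 (flp_d L676836) (flp_h L655087) (flp_d L654997) L676692 L697940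
theorem L697950 : sm gc N50804 = N51095 := ded_29_3 L697944 (flp_c L676731) (flp_f L694069)
theorem L697952 : sm gi N49017 = N51096 := rfl
theorem L697954 : sm ga N51096 = N49062 := ded_18_1 (flp_i L677240) (flp_a L676694) L697952
theorem L697956 : sm gc N51096 = N51096 := ded_33_1 (flp_i L697952) L676696 L697952
theorem L697957 : sm gf N51096 = N49021 := ded_48_1 (flp_i L676735) (flp_f L676697) L697952
theorem L697959 : sm gj N51096 = N49019 := ded_53_1 (flp_i L676711) (flp_j L676699) L697952
theorem L697961 : sm gh N51096 = N50842 := ded_54_1 (flp_i L694360) L672904 (flp_i L655001) L676692 L697952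
theorem L697963 : sm gc N49018 = N51097 := rfl
theorem L697965 : sm ga N51097 = N49063 := ded_11_1 (flp_c L677249) (flp_a L676703) L697963
theorem L697967 : sm gf N51097 = N49022 := ded_29_2 (flp_c L676746) (flp_f L676705) L697963
theorem L697969 : sm gg N51097 = N50110 := ded_30_2 (flp_c L688427) (flp_g L676707) L697963
theorem L697971 : sm gj N51097 = N50804 := ded_31_2 L697950 L697946 L697963
theorem L697973 : sm gh N51097 = N49031 := ded_32_2 (flp_c L676860) (flp_h L676709) L697963
theorem L697975 : sm gb N51097 = N49760 := ded_19_1 L684810 (flp_b L683996) (flp_c L697604) L697598 L697963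
theorem L697977 : sm gd N51097 = N51097 := ded_27_2 (flp_c L697963) (flp_d L676701) L655007 L676701 L697963
theorem L697978 : sm ge N49018 = N51098 := rfl
theorem L697980 : sm ga N51098 = N49064 := ded_13_1 (flp_e L677258) (flp_a L676703) L697978
theorem L697982 : sm gg N51098 = N50111 := ded_41_2 (flp_e L688436) (flp_g L676707) L697978
theorem L697984 : sm gh N51098 = N49032 := ded_43_2 (flp_e L676874) (flp_h L676709) L697978
theorem L697986 : sm gi N49018 = N51099 := rfl
theorem L697988 : sm ga N51099 = N49065 := ded_18_1 (flp_i L677266) (flp_a L676703) L697986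
theorem L697990 : sm gd N51099 = N49019 := ded_39_1 (flp_i L676711) L676701 L697986
theorem L697992 : sm gf N51099 = N49024 := ded_48_1 (flp_i L676776) (flp_f L676705) L697986
theorem L697994 : sm gg N51099 = N50112 := ded_51_1 (flp_i L688442) (flp_g L676707) L697986
theorem L697996 : sm gi N49020 = N51100 := rfl
theorem L697998 : sm ga N51100 = N49068 := ded_18_1 (flp_i L677302) (flp_a L676724) L697996
theorem L698000 : sm gc N51100 = N50806 := ded_33_1 (flp_i L694078) L676731 L697996
theorem L698002 : sm gd N51100 = N49021 := ded_39_1 (flp_i L676735) L676722 L697996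
theorem L698004 : sm ge N51100 = N50766 := ded_44_1 (flp_i L693732) L676733 L697996
theorem L698006 : sm gg N51100 = N51100 := ded_51_1 (flp_i L697996) L676726 L697996
theorem L698007 : sm gj N51100 = N49024 := ded_53_1 (flp_i L676776) (flp_j L676727) L697996
theorem L698009 : sm gi N49022 = N51101 := rfl
theorem L698011 : sm ga N51101 = N49071 := ded_18_1 (flp_i L677340) (flp_a L676748) L698009
theorem L698013 : sm gb N51101 = N49761 := ded_26_1 (flp_i L684815) (flp_b L676756) L698009
theorem L698015 : sm gc N51101 = N49024 := ded_33_1 (flp_i L676776) L676746 L698009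
theorem L698017 : sm gd N51101 = N51101 := ded_39_1 (flp_i L698009) L676758 L698009
theorem L698018 : sm ge N51101 = N49759 := ded_44_1 (flp_i L684796) L676759 L698009
theorem L698020 : sm gg N51101 = N49025 := ded_51_1 (flp_i L676784) (flp_g L676750) L698009
theorem L698022 : sm gj N51101 = N50806 := ded_53_1 (flp_i L694078) (flp_j L676752) L698009
theorem L698024 : sm gf N49023 = N51102 := rfl
theorem L698026 : sm ga N51102 = N49072 := ded_14_1 (flp_f L677347) (flp_a L676763) L698024
theorem L698028 : sm gb N51102 = N49721 := ded_22_1 L684415 (flp_b L676765) L698024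
theorem L698030 : sm gc N51102 = N49748 := ded_29_1 L684691 (flp_c L676767) L698024
theorem L698032 : sm gd N51102 = N51102 := ded_35_1 (flp_f L698024) L676775 L698024
theorem L698033 : sm gj N51102 = N50468 := ded_46_2 L691414 (flp_j L676771) L698024
theorem L698035 : sm gh N51102 = N49036 := ded_47_2 (flp_f L676919) (flp_h L676773) L698024
theorem L698037 : sm gg N51102 = N50537 := ded_45_2 (flp_f L691944) L669894 (flp_f L655065) (flp_g L676769) L698024
theorem L698039 : sm gi N49023 = N51103 := rfl
theorem L698041 : sm ga N51103 = N49073 := ded_18_1 (flp_i L677354) (flp_a L676763) L698039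
theorem L698043 : sm gb N51103 = N49726 := ded_26_1 (flp_i L684455) (flp_b L676765) L698039
theorem L698045 : sm gc N51103 = N49759 := ded_33_1 (flp_i L684796) (flp_c L676767) L698039
theorem L698047 : sm gd N51103 = N51103 := ded_39_1 (flp_i L698039) L676775 L698039
theorem L698048 : sm ge N51103 = N49024 := ded_44_1 (flp_i L676776) L676761 L698039
theorem L698050 : sm gg N51103 = N49026 := ded_51_1 (flp_i L676798) (flp_g L676769) L698039
theorem L698052 : sm gj N51103 = N50766 := ded_53_1 (flp_i L693732) (flp_j L676771) L698039
theorem L698054 : sm gh N49024 = N51104 := rfl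
theorem L698056 : sm ga N51104 = N49074 := ded_17_1 (flp_h L677363) (flp_a L676778) L698054
theorem L698058 : sm gg N51104 = N49027 := ded_50_1 (flp_h L676812) (flp_g L676782) L698054
theorem L698060 : sm gd N51104 = N50641 := ded_38_1 (flp_h L692788) L670831 (flp_h L655037) (flp_d L676780) L698054
theorem L698062 : sm gi N51104 = N49038 := ded_54_2 (flp_h L676943) (flp_i L655169) (flp_h L655027) L676776 L698054
theorem L698064 : sm gh N49025 = N51105 := rfl
theorem L698066 : sm ga N51105 = N49077 := ded_17_1 (flp_h L677400) (flp_a L676786) L698064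
theorem L698068 : sm gb N51105 = N49766 := ded_25_1 (flp_h L684865) (flp_b L676788) L698064
theorem L698070 : sm gc N51105 = N49027 := ded_32_1 (flp_h L676812) (flp_c L676790) L698064
theorem L698072 : sm ge N51105 = N49765 := ded_43_1 (flp_h L684854) (flp_e L676793) L698064
theorem L698074 : sm gf N51105 = N50117 := ded_47_1 (flp_h L688494) (flp_f L676795) L698064
theorem L698076 : sm gj N51105 = N51105 := ded_52_1 (flp_h L698064) L676797 L698064
theorem L698077 : sm gi N51105 = N49039 := ded_54_2 (flp_h L676951) (flp_i L655177) (flp_h L655046) L676784 L698064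
theorem L698079 : sm gh N49026 = N51106 := rfl
theorem L698081 : sm ga N51106 = N49080 := ded_17_1 (flp_h L677436) (flp_a L676800) L698079
theorem L698083 : sm gb N51106 = N49728 := ded_25_1 (flp_h L684468) (flp_b L676802) L698079
theorem L698085 : sm gc N51106 = N49765 := ded_32_1 (flp_h L684854) (flp_c L676804) L698079
theorem L698087 : sm ge N51106 = N49027 := ded_43_1 (flp_h L676812) (flp_e L676807) L698079
theorem L698089 : sm gf N51106 = N50543 := ded_47_1 (flp_h L691989) (flp_f L676809) L698079
theorem L698091 : sm gj N51106 = N51106 := ded_52_1 (flp_h L698079) L676811 L698079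
theorem L698092 : sm gi N51106 = N49042 := ded_54_2 (flp_h L676993) (flp_i L655207) (flp_h L655062) L676798 L698079
theorem L698094 : sm gd N49028 = N51107 := rfl
theorem L698096 : sm ga N51107 = N49081 := ded_12_1 (flp_d L677445) (flp_a L676825) L698094
theorem L698098 : sm gf N51107 = N51107 := ded_35_2 (flp_d L698094) L676831 L698094
theorem L698099 : sm gg N51107 = N49029 := ded_36_2 (flp_d L676836) (flp_g L676832) L698094
theorem L698101 : sm gj N51107 = N50118 := ded_37_2 (flp_d L688503) (flp_j L676834) L698094
theorem L698103 : sm gc N51107 = N50803 := ded_27_1 L694064 L672524 L655343 (flp_c L676827) L698094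
theorem L698105 : sm gi N49028 = N51108 := rfl
theorem L698107 : sm ga N51108 = N49082 := ded_18_1 (flp_i L677454) (flp_a L676825) L698105
theorem L698109 : sm gc N51108 = N49052 := ded_33_1 (flp_i L677110) (flp_c L676827) L698105
theorem L698111 : sm ge N51108 = N50759 := ded_44_1 (flp_i L693684) (flp_e L676829) L698105
theorem L698113 : sm gf N51108 = N51108 := ded_48_1 (flp_i L698105) L676831 L698105
theorem L698114 : sm gg N51108 = N49030 := ded_51_1 (flp_i L676846) (flp_g L676832) L698105
theorem L698116 : sm gj N51108 = N50119 := ded_53_1 (flp_i L688510) (flp_j L676834) L698105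
theorem L698118 : sm gh N51108 = N50708 := ded_54_1 (flp_i L693261) L671204 (flp_i L655082) L676823 L698105
theorem L698120 : sm ge N49029 = N51109 := rfl
theorem L698122 : sm ga N51109 = N49084 := ded_13_1 (flp_e L677475) (flp_a L676838) L698120
theorem L698124 : sm gc N51109 = N50662 := ded_28_1 L692933 (flp_c L676844) L698120
theorem L698126 : sm gj N51109 = N49032 := ded_42_2 (flp_e L676874) (flp_j L676842) L698120
theorem L698128 : sm gd N51109 = N50429 := ded_34_1 L691139 L669091 (flp_e L655093) L676836 L698120
theorem L698130 : sm gf N51109 = N50428 := ded_40_2 L691133 L669304 (flp_e L655128) (flp_f L676840) L698120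
theorem L698132 : sm gi N49029 = N51110 := rfl
theorem L698134 : sm ga N51110 = N49085 := ded_18_1 (flp_i L677481) (flp_a L676838) L698132
theorem L698136 : sm gc N51110 = N50805 := ded_33_1 (flp_i L694072) (flp_c L676844) L698132
theorem L698138 : sm gd N51110 = N49030 := ded_39_1 (flp_i L676846) L676836 L698132
theorem L698140 : sm gf N51110 = N49034 := ded_48_1 (flp_i L676890) (flp_f L676840) L698132
theorem L698142 : sm gj N51110 = N49033 := ded_53_1 (flp_i L676880) (flp_j L676842) L698132
theorem L698144 : sm ge N49031 = N51111 := rfl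
theorem L698146 : sm ga N51111 = N49087 := ded_13_1 (flp_e L677501) (flp_a L676862) L698144
theorem L698148 : sm gb N51111 = N50743 := ded_21_1 L693528 L676872 L698144
theorem L698150 : sm gc N51111 = N49032 := ded_28_1 (flp_e L676874) L676860 L698144
theorem L698152 : sm gg N51111 = N50124 := ded_41_2 (flp_e L688555) (flp_g L676866) L698144
theorem L698154 : sm gj N51111 = N50662 := ded_42_2 L692933 (flp_j L676868) L698144
theorem L698156 : sm gd N51111 = N50650 := ded_34_1 L692855 L670985 (flp_e L655364) (flp_d L676870) L698144
theorem L698158 : sm gf N51111 = N50649 := ded_40_2 L692847 L671248 L655155 (flp_f L676864) L698144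
theorem L698160 : sm gi N49031 = N51112 := rfl
theorem L698162 : sm ga N51112 = N49088 := ded_18_1 (flp_i L677507) (flp_a L676862) L698160
theorem L698164 : sm gb N51112 = N50715 := ded_26_1 L693319 L676872 L698160
theorem L698166 : sm gc N51112 = N49033 := ded_33_1 (flp_i L676880) L676860 L698160
theorem L698168 : sm gd N51112 = N49053 := ded_39_1 (flp_i L677126) (flp_d L676870) L698160
theorem L698170 : sm gf N51112 = N49035 := ded_48_1 (flp_i L676903) (flp_f L676864) L698160
theorem L698172 : sm gg N51112 = N50125 := ded_51_1 (flp_i L688561) (flp_g L676866) L698160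
theorem L698174 : sm gj N51112 = N50805 := ded_53_1 (flp_i L694072) (flp_j L676868) L698160
theorem L698176 : sm gf N49032 = N51113 := rfl
theorem L698178 : sm ga N51113 = N49089 := ded_14_1 (flp_f L677517) (flp_a L676876) L698176
theorem L698180 : sm gc N51113 = N50649 := ded_29_1 (flp_f L698158) L698150 L698176
theorem L698182 : sm gd N51113 = N50421 := ded_35_1 (flp_f L695949) L695947 L698176
theorem L698184 : sm gj N51113 = N50428 := ded_46_2 (flp_f L698130) L698126 L698176
theorem L698186 : sm ge N51113 = N49036 := ded_40_1 (flp_f L676919) (flp_e L655157) (flp_f L655103) L676874 L698176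
theorem L698188 : sm gi N49032 = N51114 := rfl
theorem L698190 : sm ga N51114 = N49090 := ded_18_1 (flp_i L677523) (flp_a L676876) L698188
theorem L698192 : sm ge N51114 = N49033 := ded_44_1 (flp_i L676880) L676874 L698188
theorem L698194 : sm gg N51114 = N50127 := ded_51_1 (flp_i L688579) (flp_g L676878) L698188
theorem L698196 : sm gh N49033 = N51115 := rfl
theorem L698198 : sm ga N51115 = N49091 := ded_17_1 (flp_h L677531) (flp_a L676882) L698196
theorem L698200 : sm gf N51115 = N49038 := ded_47_1 (flp_h L676943) (flp_f L676886) L698196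
theorem L698202 : sm gg N51115 = N50128 := ded_50_1 (flp_h L688585) (flp_g L676888) L698196
theorem L698204 : sm gd N51115 = N50697 := ded_38_1 (flp_h L693183) L671103 (flp_h L655117) (flp_d L676884) L698196
theorem L698206 : sm gh N49034 = N51116 := rfl
theorem L698208 : sm ga N51116 = N49096 := ded_17_1 (flp_h L677590) (flp_a L676892) L698206
theorem L698210 : sm gc N51116 = N50807 := ded_32_1 (flp_h L694084) (flp_c L676894) L698206
theorem L698212 : sm ge N51116 = N50767 := ded_43_1 (flp_h L693738) (flp_e L676898) L698206
theorem L698214 : sm gg N51116 = N51116 := ded_50_1 (flp_h L698206) L676900 L698206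
theorem L698215 : sm gj N51116 = N49038 := ded_52_1 (flp_h L676943) (flp_j L676901) L698206
theorem L698217 : sm gd N51116 = N50707 := ded_38_1 (flp_h L693256) L671190 (flp_h L655141) (flp_d L676896) L698206
theorem L698219 : sm gh N49035 = N51117 := rfl
theorem L698221 : sm ga N51117 = N49102 := ded_17_1 (flp_h L677661) (flp_a L676905) L698219
theorem L698223 : sm gb N51117 = N50695 := ded_25_1 L693173 (flp_b L676907) L698219
theorem L698225 : sm gc N51117 = N49038 := ded_32_1 (flp_h L676943) (flp_c L676909) L698219
theorem L698227 : sm ge N51117 = N50690 := ded_43_1 L693137 (flp_e L676913) L698219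
theorem L698229 : sm gg N51117 = N49039 := ded_50_1 (flp_h L676951) (flp_g L676915) L698219
theorem L698231 : sm gj N51117 = N50807 := ded_52_1 (flp_h L694084) (flp_j L676917) L698219
theorem L698233 : sm gg N49036 = N51118 := rfl
theorem L698235 : sm ga N51118 = N49103 := ded_15_1 (flp_g L677667) (flp_a L676921) L698233
theorem L698237 : sm gb N51118 = N49640 := ded_23_1 (flp_g L697810) L697800 L698233
theorem L698239 : sm gc N51118 = N49956 := ded_30_1 L686763 (flp_c L676923) L698233
theorem L698241 : sm gd N51118 = N49043 := ded_36_1 (flp_g L677002) (flp_d L676925) L698233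
theorem L698243 : sm gh N51118 = N50537 := ded_50_2 (flp_g L698037) L698035 L698233
theorem L698245 : sm gf N51118 = N49040 := ded_45_1 (flp_g L676964) (flp_f L655192) (flp_g L655163) L676919 L698233
theorem L698247 : sm gi N49036 = N51119 := rfl
theorem L698249 : sm ga N51119 = N49104 := ded_18_1 (flp_i L677675) (flp_a L676921) L698247
theorem L698251 : sm gc N51119 = N50709 := ded_33_1 (flp_i L693270) (flp_c L676923) L698247
theorem L698253 : sm gd N51119 = N49044 := ded_39_1 (flp_i L677015) (flp_d L676925) L698247
theorem L698255 : sm gf N51119 = N49037 := ded_48_1 (flp_i L676929) L676919 L698247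
theorem L698257 : sm gj N51119 = N50469 := ded_53_1 (flp_i L691417) (flp_j L676927) L698247
theorem L698259 : sm gh N49037 = N51120 := rfl
theorem L698261 : sm ga N51120 = N49105 := ded_17_1 (flp_h L677683) (flp_a L676931) L698259
theorem L698263 : sm gc N51120 = N50690 := ded_32_1 L693137 (flp_c L676933) L698259
theorem L698265 : sm ge N51120 = N49038 := ded_43_1 (flp_h L676943) (flp_e L676937) L698259
theorem L698267 : sm gg N51120 = N49042 := ded_50_1 (flp_h L676993) (flp_g L676939) L698259
theorem L698269 : sm gj N51120 = N50767 := ded_52_1 (flp_h L693738) (flp_j L676941) L698259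
theorem L698271 : sm gd N49039 = N51121 := rfl
theorem L698273 : sm ga N51121 = N49112 := ded_12_1 (flp_d L677770) (flp_a L676953) L698271
theorem L698275 : sm gb N51121 = N50706 := ded_20_1 L693254 (flp_b L676955) L698271
theorem L698277 : sm gf N51121 = N50143 := ded_35_2 (flp_d L688729) (flp_f L676961) L698271
theorem L698279 : sm gj N51121 = N51121 := ded_37_2 (flp_d L698271) L676963 L698271
theorem L698280 : sm gc N51121 = N50705 := ded_27_1 (flp_d L693242) L671173 (flp_d L655225) (flp_c L676957) L698271
theorem L698282 : sm ge N51121 = N50702 := ded_34_2 (flp_d L693220) L671146 L671149 (flp_e L676959) L698271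
theorem L698284 : sm gh N51121 = N49056 := ded_38_2 (flp_d L677173) (flp_h L655418) (flp_d L655185) L676951 L698271
theorem L698286 : sm gj N49040 = N51122 := rfl
theorem L698288 : sm ga N51122 = N49113 := ded_16_1 (flp_j L677777) (flp_a L676966) L698286
theorem L698290 : sm gb N51122 = N49638 := ded_24_1 L683525 (flp_b L676968) L698286
theorem L698292 : sm gc N51122 = N49963 := ded_31_1 L686833 (flp_c L676970) L698286
theorem L698294 : sm gd N51122 = N49046 := ded_37_1 (flp_j L677040) (flp_d L676972) L698286
theorem L698296 : sm ge N51122 = N49627 := ded_42_1 L683393 (flp_e L676974) L698286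
theorem L698298 : sm gh N51122 = N50529 := ded_52_2 L691880 (flp_h L676976) L698286
theorem L698300 : sm gg N51122 = N51122 := ded_49_1 (flp_j L698286) (flp_g L676964) L655202 L676964 L698286
theorem L698301 : sm gi N49040 = N51123 := rfl
theorem L698303 : sm ga N51123 = N49114 := ded_18_1 (flp_i L677786) (flp_a L676966) L698301
theorem L698305 : sm gb N51123 = N49641 := ded_26_1 (flp_i L683552) (flp_b L676968) L698301
theorem L698307 : sm gc N51123 = N49916 := ded_33_1 L686246 (flp_c L676970) L698301
theorem L698309 : sm gd N51123 = N49047 := ded_39_1 (flp_i L677052) (flp_d L676972) L698301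
theorem L698311 : sm ge N51123 = N49630 := ded_44_1 (flp_i L683424) (flp_e L676974) L698301
theorem L698313 : sm gg N51123 = N49041 := ded_51_1 (flp_i L676978) L676964 L698301
theorem L698315 : sm gh N49041 = N51124 := rfl
theorem L698317 : sm ga N51124 = N49115 := ded_17_1 (flp_h L677796) (flp_a L676980) L698315
theorem L698319 : sm gb N51124 = N49643 := ded_25_1 (flp_h L683576) (flp_b L676982) L698315
theorem L698321 : sm gc N51124 = N49868 := ded_32_1 L685775 (flp_c L676984) L698315
theorem L698323 : sm ge N51124 = N49632 := ded_43_1 (flp_h L683448) (flp_e L676988) L698315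
theorem L698325 : sm gf N51124 = N49042 := ded_47_1 (flp_h L676993) (flp_f L676990) L698315
theorem L698327 : sm gj N51124 = N51124 := ded_52_1 (flp_h L698315) L676992 L698315
theorem L698328 : sm gi N51124 = N50543 := ded_54_2 (flp_h L691989) (flp_i L669941) (flp_h L655203) L676978 L698315
theorem L698330 : sm gd N49042 = N51125 := rfl
theorem L698332 : sm ga N51125 = N49116 := ded_12_1 (flp_d L677805) (flp_a L676995) L698330
theorem L698334 : sm gj N51125 = N51125 := ded_37_2 (flp_d L698330) L677001 L698330
theorem L698335 : sm gc N51125 = N50244 := ded_27_1 (flp_d L689691) L667220 L671149 (flp_c L676997) L698330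
theorem L698337 : sm ge N51125 = N49876 := ded_34_2 (flp_d L685833) L663032 (flp_d L655225) (flp_e L676999) L698330
theorem L698339 : sm gh N51125 = N49049 := ded_38_2 (flp_d L677078) (flp_h L655289) (flp_d L655213) L676993 L698330
theorem L698341 : sm gj N49043 = N51126 := rfl
theorem L698343 : sm ga N51126 = N49120 := ded_16_1 (flp_j L677852) (flp_a L677004) L698341
theorem L698345 : sm gb N51126 = N49421 := ded_24_1 L681362 (flp_b L677006) L698341
theorem L698347 : sm gc N51126 = N49434 := ded_31_1 L681507 (flp_c L677008) L698341
theorem L698349 : sm ge N51126 = N49420 := ded_42_1 L681349 (flp_e L677010) L698341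
theorem L698351 : sm gf N51126 = N49046 := ded_46_1 (flp_j L677040) (flp_f L677013) L698341
theorem L698353 : sm gh N51126 = N51126 := ded_52_2 (flp_j L698341) L677012 L698341
theorem L698354 : sm gg N51126 = N49588 := ded_49_1 L682952 L660381 (flp_j L655233) L677002 L698341
theorem L698356 : sm gi N49043 = N51127 := rfl
theorem L698358 : sm ga N51127 = N49121 := ded_18_1 (flp_i L677859) (flp_a L677004) L698356
theorem L698360 : sm gb N51127 = N49646 := ded_26_1 (flp_i L683608) (flp_b L677006) L698356
theorem L698362 : sm gc N51127 = N49922 := ded_33_1 L686326 (flp_c L677008) L698356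
theorem L698364 : sm ge N51127 = N50460 := ded_44_1 (flp_i L691341) (flp_e L677010) L698356
theorem L698366 : sm gf N51127 = N49047 := ded_48_1 (flp_i L677052) (flp_f L677013) L698356
theorem L698368 : sm gg N51127 = N49044 := ded_51_1 (flp_i L677015) L677002 L698356
theorem L698370 : sm gh N49044 = N51128 := rfl
theorem L698372 : sm ga N51128 = N49122 := ded_17_1 (flp_h L677867) (flp_a L677017) L698370
theorem L698374 : sm gc N51128 = N50278 := ded_32_1 L689963 (flp_c L677019) L698370
theorem L698376 : sm ge N51128 = N50463 := ded_43_1 (flp_h L691368) (flp_e L677021) L698370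
theorem L698378 : sm gf N51128 = N49045 := ded_47_1 (flp_h L677027) (flp_f L677023) L698370
theorem L698380 : sm gj N51128 = N50470 := ded_52_1 (flp_h L691425) (flp_j L677025) L698370
theorem L698382 : sm gi N51128 = N51128 := ded_54_2 (flp_h L698370) (flp_i L677015) L655235 L677015 L698370
theorem L698383 : sm gd N49045 = N51129 := rfl
theorem L698385 : sm ga N51129 = N49123 := ded_12_1 (flp_d L677874) (flp_a L677029) L698383
theorem L698387 : sm gg N51129 = N49049 := ded_36_2 (flp_d L677078) (flp_g L677035) L698383
theorem L698389 : sm gj N51129 = N50768 := ded_37_2 (flp_d L693743) (flp_j L677037) L698383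
theorem L698391 : sm gi N51129 = N51129 := ded_39_2 (flp_d L698383) L677039 L698383
theorem L698392 : sm gc N51129 = N50272 := ded_27_1 (flp_d L689901) L667456 L667630 (flp_c L677031) L698383
theorem L698394 : sm ge N51129 = N49887 := ded_34_2 (flp_d L685907) L663098 (flp_d L655262) (flp_e L677033) L698383
theorem L698396 : sm gi N49046 = N51130 := rfl
theorem L698398 : sm ga N51130 = N49124 := ded_18_1 (flp_i L677881) (flp_a L677042) L698396
theorem L698400 : sm gb N51130 = N49644 := ded_26_1 (flp_i L683587) (flp_b L677044) L698396
theorem L698402 : sm gc N51130 = N49924 := ded_33_1 L686348 (flp_c L677046) L698396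
theorem L698404 : sm ge N51130 = N49050 := ded_44_1 (flp_i L677088) (flp_e L677048) L698396
theorem L698406 : sm gg N51130 = N51130 := ded_51_1 (flp_i L698396) L677051 L698396
theorem L698407 : sm gj N51130 = N49047 := ded_53_1 (flp_i L677052) L677040 L698396
theorem L698409 : sm gh N49047 = N51131 := rfl
theorem L698411 : sm ga N51131 = N49125 := ded_17_1 (flp_h L677890) (flp_a L677054) L698409
theorem L698413 : sm gb N51131 = N49647 := ded_25_1 (flp_h L683614) (flp_b L677056) L698409
theorem L698415 : sm gc N51131 = N49161 := ded_32_1 L678296 (flp_c L677058) L698409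
theorem L698417 : sm ge N51131 = N49051 := ded_43_1 (flp_h L677099) (flp_e L677060) L698409
theorem L698419 : sm gg N51131 = N49048 := ded_50_1 (flp_h L677064) (flp_g L677062) L698409
theorem L698421 : sm gi N51131 = N51131 := ded_54_2 (flp_h L698409) (flp_i L677052) L655275 L677052 L698409
theorem L698422 : sm gd N49048 = N51132 := rfl
theorem L698424 : sm ga N51132 = N49126 := ded_12_1 (flp_d L677899) (flp_a L677066) L698422
theorem L698426 : sm gb N51132 = N49648 := ded_20_1 (flp_d L683623) (flp_b L677068) L698422
theorem L698428 : sm gf N51132 = N49049 := ded_35_2 (flp_d L677078) (flp_f L677074) L698422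
theorem L698430 : sm gj N51132 = N51132 := ded_37_2 (flp_d L698422) L677076 L698422
theorem L698431 : sm gi N51132 = N51132 := ded_39_2 (flp_d L698422) L677077 L698422
theorem L698432 : sm gc N51132 = N49146 := ded_27_1 (flp_d L678124) L656115 L656293 (flp_c L677070) L698422
theorem L698434 : sm ge N51132 = N49701 := ded_34_2 (flp_d L684164) L661538 (flp_d L655328) (flp_e L677072) L698422
theorem L698436 : sm gh N49050 = N51133 := rfl
theorem L698438 : sm ga N51133 = N49128 := ded_17_1 (flp_h L677915) (flp_a L677090) L698436
theorem L698440 : sm gb N51133 = N49645 := ded_25_1 (flp_h L683598) (flp_b L677092) L698436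
theorem L698442 : sm gf N51133 = N50769 := ded_47_1 L696080 L696074 L698436
theorem L698444 : sm gg N51133 = N51133 := ded_50_1 (flp_h L698436) L677096 L698436
theorem L698445 : sm gj N51133 = N49051 := ded_52_1 (flp_h L677099) (flp_j L677097) L698436
theorem L698447 : sm gd N51133 = N49703 := ded_38_1 (flp_h L684178) L661558 (flp_h L660942) (flp_d L677094) L698436
theorem L698449 : sm gi N51133 = N51133 := ded_54_2 (flp_h L698436) (flp_i L677088) L655307 L677088 L698436
theorem L698450 : sm gh N49053 = N51134 := rfl
theorem L698452 : sm ga N51134 = N49137 := ded_17_1 (flp_h L678023) (flp_a L677128) L698450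
theorem L698454 : sm gb N51134 = N50828 := ded_25_1 L694259 (flp_b L677130) L698450
theorem L698456 : sm gc N51134 = N49054 := ded_32_1 (flp_h L677142) (flp_c L677132) L698450
theorem L698458 : sm ge N51134 = N50817 := ded_43_1 (flp_h L694171) (flp_e L677134) L698450
theorem L698460 : sm gf N51134 = N49055 := ded_47_1 (flp_h L677158) (flp_f L677136) L698450
theorem L698462 : sm gg N51134 = N50157 := ded_50_1 (flp_h L688883) (flp_g L677138) L698450
theorem L698464 : sm gj N51134 = N50809 := ded_52_1 (flp_h L694098) (flp_j L677140) L698450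
theorem L698466 : sm gi N51134 = N51134 := ded_54_2 (flp_h L698450) (flp_i L677126) L655372 L677126 L698450
theorem L698467 : sm gd N49055 = N51135 := rfl
theorem L698469 : sm ga N51135 = N49144 := ded_12_1 (flp_d L678105) (flp_a L677160) L698467
theorem L698471 : sm gb N51135 = N50827 := ded_20_1 L694254 (flp_b L677162) L698467
theorem L698473 : sm gg N51135 = N49056 := ded_36_2 (flp_d L677173) (flp_g L677168) L698467
theorem L698475 : sm gj N51135 = N50810 := ded_37_2 (flp_d L694107) (flp_j L677170) L698467
theorem L698477 : sm gi N51135 = N51135 := ded_39_2 (flp_d L698467) L677172 L698467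
theorem L698478 : sm gc N51135 = N50835 := ded_27_1 (flp_d L694319) L672813 (flp_d L655415) (flp_c L677164) L698467
theorem L698480 : sm ge N51135 = N50823 := ded_34_2 (flp_d L694220) L672683 (flp_d L672460) (flp_e L677166) L698467
theorem L698482 : sm gd N49057 = N51136 := rfl
theorem L698484 : sm gb N51136 = N49787 := ded_20_1 (flp_d L685099) (flp_b L677189) L698482
theorem L698486 : sm gf N51136 = N51136 := ded_35_2 (flp_d L698482) L677194 L698482
theorem L698487 : sm gg N51136 = N50631 := ded_36_2 L692715 (flp_g L677195) L698482
theorem L698489 : sm gj N51136 = N49058 := ded_37_2 (flp_d L677199) (flp_j L677197) L698482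
theorem L698491 : sm gh N51136 = N50681 := ded_38_2 L693065 L671204 (flp_d L655437) L677187 L698482
theorem L698493 : sm gi N49057 = N51137 := rfl
theorem L698495 : sm gb N51137 = N49788 := ded_26_1 (flp_i L685104) (flp_b L677189) L698493
theorem L698497 : sm gc N51137 = N51137 := ded_33_1 (flp_i L698493) L677191 L698493
theorem L698498 : sm ge N51137 = N49062 := ded_44_1 (flp_i L677240) (flp_e L677192) L698493
theorem L698500 : sm gf N51137 = N51137 := ded_48_1 (flp_i L698493) L677194 L698493
theorem L698501 : sm gg N51137 = N50842 := ded_51_1 (flp_i L694360) (flp_g L677195) L698493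
theorem L698503 : sm gj N51137 = N49059 := ded_53_1 (flp_i L677208) (flp_j L677197) L698493
theorem L698505 : sm gc N49058 = N51138 := rfl
theorem L698507 : sm ga N51138 = N50264 := ded_11_1 L697924 L697915 L698505
theorem L698509 : sm gf N51138 = N51138 := ded_29_2 (flp_c L698505) L677203 L698505
theorem L698510 : sm gg N51138 = N50168 := ded_30_2 (flp_c L688990) (flp_g L677204) L698505
theorem L698512 : sm gh N51138 = N50155 := ded_32_2 L688870 (flp_h L677206) L698505
theorem L698514 : sm gd N51138 = N51138 := ded_27_2 (flp_c L698505) (flp_d L677199) L655448 L677199 L698505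
theorem L698515 : sm ge N49058 = N51139 := rfl
theorem L698517 : sm gb N51139 = N49790 := ded_21_1 (flp_e L685120) (flp_b L677201) L698515
theorem L698519 : sm gg N51139 = N50169 := ded_41_2 (flp_e L688999) (flp_g L677204) L698515
theorem L698521 : sm gh N51139 = N50653 := ded_43_2 L692875 (flp_h L677206) L698515
theorem L698523 : sm gd N51139 = N49064 := ded_34_1 (flp_e L677258) (flp_d L655475) (flp_e L655449) L677199 L698515
theorem L698525 : sm gi N49058 = N51140 := rfl
theorem L698527 : sm gb N51140 = N49791 := ded_26_1 (flp_i L685126) (flp_b L677201) L698525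
theorem L698529 : sm gd N51140 = N49059 := ded_39_1 (flp_i L677208) L677199 L698525
theorem L698531 : sm gf N51140 = N51140 := ded_48_1 (flp_i L698525) L677203 L698525
theorem L698532 : sm gg N51140 = N50170 := ded_51_1 (flp_i L689011) (flp_g L677204) L698525
theorem L698534 : sm gd N49060 = N51141 := rfl
theorem L698536 : sm gb N51141 = N49792 := ded_20_1 (flp_d L685133) (flp_b L677220) L698534
theorem L698538 : sm gf N51141 = N51141 := ded_35_2 (flp_d L698534) L677225 L698534
theorem L698539 : sm gg N51141 = N49061 := ded_36_2 (flp_d L677230) (flp_g L677226) L698534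
theorem L698541 : sm gj N51141 = N50171 := ded_37_2 (flp_d L689021) (flp_j L677228) L698534
theorem L698543 : sm gh N51141 = N49081 := ded_38_2 (flp_d L677445) (flp_h L655604) (flp_d L655459) L677218 L698534
theorem L698545 : sm gi N49060 = N51142 := rfl
theorem L698547 : sm gb N51142 = N49793 := ded_26_1 (flp_i L685142) (flp_b L677220) L698545
theorem L698549 : sm gc N51142 = N51142 := ded_33_1 (flp_i L698545) L677222 L698545
theorem L698550 : sm ge N51142 = N50842 := ded_44_1 (flp_i L694360) (flp_e L677223) L698545
theorem L698552 : sm gf N51142 = N51142 := ded_48_1 (flp_i L698545) L677225 L698545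
theorem L698553 : sm gg N51142 = N49062 := ded_51_1 (flp_i L677240) (flp_g L677226) L698545
theorem L698555 : sm gj N51142 = N50172 := ded_53_1 (flp_i L689030) (flp_j L677228) L698545
theorem L698557 : sm gc N49061 = N51143 := rfl
theorem L698559 : sm ga N51143 = N50804 := ded_11_1 L697950 L697942 L698557
theorem L698561 : sm gf N51143 = N49066 := ded_29_2 (flp_c L677276) (flp_f L677234) L698557
theorem L698563 : sm gj N51143 = N49063 := ded_31_2 (flp_c L677249) (flp_j L677236) L698557
theorem L698565 : sm gh N51143 = N49083 := ded_32_2 (flp_c L677465) (flp_h L677238) L698557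
theorem L698567 : sm gd N51143 = N51143 := ded_27_2 (flp_c L698557) (flp_d L677230) L655470 L677230 L698557
theorem L698568 : sm ge N49061 = N51144 := rfl
theorem L698570 : sm gb N51144 = N49795 := ded_21_1 (flp_e L685163) (flp_b L677232) L698568
theorem L698572 : sm gj N51144 = N49064 := ded_42_2 (flp_e L677258) (flp_j L677236) L698568
theorem L698574 : sm gh N51144 = N49084 := ded_43_2 (flp_e L677475) (flp_h L677238) L698568
theorem L698576 : sm gi N49061 = N51145 := rfl
theorem L698578 : sm gb N51145 = N49796 := ded_26_1 (flp_i L685169) (flp_b L677232) L698576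
theorem L698580 : sm gd N51145 = N49062 := ded_39_1 (flp_i L677240) L677230 L698576
theorem L698582 : sm gf N51145 = N49068 := ded_48_1 (flp_i L677302) (flp_f L677234) L698576
theorem L698584 : sm gj N51145 = N49065 := ded_53_1 (flp_i L677266) (flp_j L677236) L698576
theorem L698586 : sm gb N49063 = N51146 := rfl
theorem L698588 : sm gd N51146 = N51146 := ded_20_2 (flp_b L698586) L677257 L698586
theorem L698589 : sm gf N51146 = N49069 := ded_22_2 (flp_b L677311) (flp_f L677251) L698586
theorem L698591 : sm gg N51146 = N50176 := ded_23_2 (flp_b L689071) (flp_g L677253) L698586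
theorem L698593 : sm gh N51146 = N49086 := ded_25_2 (flp_b L677491) (flp_h L677255) L698586
theorem L698595 : sm ga N51146 = N49853 := ded_10_1 L685649 (flp_a L684808) (flp_b L697975) L697965 L698586
theorem L698597 : sm gc N51146 = N49797 := ded_19_2 (flp_b L685177) (flp_c L662591) (flp_b L655477) L677249 L698586
theorem L698599 : sm ge N49063 = N51147 := rfl
theorem L698601 : sm gc N51147 = N49064 := ded_28_1 (flp_e L677258) L677249 L698599
theorem L698603 : sm gg N51147 = N50177 := ded_41_2 (flp_e L689080) (flp_g L677253) L698599
theorem L698605 : sm gh N51147 = N49087 := ded_43_2 (flp_e L677501) (flp_h L677255) L698599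
theorem L698607 : sm gi N49063 = N51148 := rfl
theorem L698609 : sm gc N51148 = N49065 := ded_33_1 (flp_i L677266) L677249 L698607
theorem L698611 : sm gd N51148 = N51148 := ded_39_1 (flp_i L698607) L677257 L698607
theorem L698612 : sm gf N51148 = N49071 := ded_48_1 (flp_i L677340) (flp_f L677251) L698607
theorem L698614 : sm gg N51148 = N50178 := ded_51_1 (flp_i L689086) (flp_g L677253) L698607
theorem L698616 : sm gf N49064 = N51149 := rfl
theorem L698618 : sm gb N51149 = N49800 := ded_22_1 (flp_f L685209) (flp_b L677260) L698616
theorem L698620 : sm gh N51149 = N49089 := ded_47_2 (flp_f L677517) (flp_h L677264) L698616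
theorem L698622 : sm ge N51149 = N49072 := ded_40_1 (flp_f L677347) (flp_e L655519) (flp_f L655479) L677258 L698616
theorem L698624 : sm gi N49064 = N51150 := rfl
theorem L698626 : sm gb N51150 = N49801 := ded_26_1 (flp_i L685215) (flp_b L677260) L698624
theorem L698628 : sm ge N51150 = N49065 := ded_44_1 (flp_i L677266) L677258 L698624
theorem L698630 : sm gg N51150 = N50180 := ded_51_1 (flp_i L689105) (flp_g L677262) L698624
theorem L698632 : sm gh N49065 = N51151 := rfl
theorem L698634 : sm gb N51151 = N49802 := ded_25_1 (flp_h L685221) (flp_b L677268) L698632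
theorem L698636 : sm gf N51151 = N49074 := ded_47_1 (flp_h L677363) (flp_f L677272) L698632
theorem L698638 : sm gg N51151 = N50181 := ded_50_1 (flp_h L689111) (flp_g L677274) L698632
theorem L698640 : sm gi N51151 = N49091 := ded_54_2 (flp_h L677531) (flp_i L655647) (flp_h L655483) L677266 L698632
theorem L698642 : sm gb N49066 = N51152 := rfl
theorem L698644 : sm gd N51152 = N51152 := ded_20_2 (flp_b L698642) L677285 L698642
theorem L698645 : sm ge N51152 = N49843 := ded_21_2 L685574 L677286 L698642
theorem L698647 : sm gg N51152 = N51152 := ded_23_2 (flp_b L698642) L677280 L698642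
theorem L698648 : sm gj N51152 = N49069 := ded_24_2 (flp_b L677311) (flp_j L677281) L698642
theorem L698650 : sm gh N51152 = N49092 := ded_25_2 (flp_b L677539) (flp_h L677283) L698642
theorem L698652 : sm ga N51152 = N49844 := ded_10_1 L685578 (flp_a L684745) L684747 (flp_a L677278) L698642
theorem L698654 : sm gc N51152 = N49803 := ded_19_2 (flp_b L685229) (flp_c L662617) (flp_b L655496) L677276 L698642
theorem L698656 : sm gi N49066 = N51153 := rfl
theorem L698658 : sm ga N51153 = N50806 := ded_18_1 (flp_i L694078) (flp_a L677278) L698656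
theorem L698660 : sm gc N51153 = N49068 := ded_33_1 (flp_i L677302) L677276 L698656
theorem L698662 : sm gd N51153 = N51153 := ded_39_1 (flp_i L698656) L677285 L698656
theorem L698663 : sm ge N51153 = N50794 := ded_44_1 (flp_i L693982) L677286 L698656
theorem L698665 : sm gg N51153 = N51153 := ded_51_1 (flp_i L698656) L677280 L698656
theorem L698666 : sm gj N51153 = N49071 := ded_53_1 (flp_i L677340) (flp_j L677281) L698656
theorem L698668 : sm gf N49067 = N51154 := rfl
theorem L698670 : sm ga N51154 = N50468 := ded_14_1 L691414 (flp_a L677290) L698668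
theorem L698672 : sm gb N51154 = N49806 := ded_22_1 (flp_f L685264) (flp_b L677292) L698668
theorem L698674 : sm gc N51154 = N50592 := ded_29_1 L692411 (flp_c L677294) L698668
theorem L698676 : sm gd N51154 = N51154 := ded_35_1 (flp_f L698668) L677301 L698668
theorem L698677 : sm gj N51154 = N49072 := ded_46_2 (flp_f L677347) (flp_j L677297) L698668
theorem L698679 : sm gh N51154 = N49094 := ded_47_2 (flp_f L677563) (flp_h L677299) L698668
theorem L698681 : sm gi N49067 = N51155 := rfl
theorem L698683 : sm ga N51155 = N50766 := ded_18_1 (flp_i L693732) (flp_a L677290) L698681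
theorem L698685 : sm gb N51155 = N49807 := ded_26_1 (flp_i L685271) (flp_b L677292) L698681
theorem L698687 : sm gc N51155 = N50794 := ded_33_1 (flp_i L693982) (flp_c L677294) L698681
theorem L698689 : sm gd N51155 = N51155 := ded_39_1 (flp_i L698681) L677301 L698681
theorem L698690 : sm ge N51155 = N49068 := ded_44_1 (flp_i L677302) L677288 L698681
theorem L698692 : sm gg N51155 = N51155 := ded_51_1 (flp_i L698681) L677296 L698681
theorem L698693 : sm gj N51155 = N49073 := ded_53_1 (flp_i L677354) (flp_j L677297) L698681
theorem L698695 : sm gh N49068 = N51156 := rfl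
theorem L698697 : sm gb N51156 = N49808 := ded_25_1 (flp_h L685279) (flp_b L677304) L698695
theorem L698699 : sm gg N51156 = N51156 := ded_50_1 (flp_h L698695) L677308 L698695
theorem L698700 : sm gj N51156 = N49074 := ded_52_1 (flp_h L677363) (flp_j L677309) L698695
theorem L698702 : sm gi N51156 = N49096 := ded_54_2 (flp_h L677590) (flp_i L655681) (flp_h L655501) L677302 L698695
theorem L698704 : sm gi N49069 = N51157 := rfl
theorem L698706 : sm ga N51157 = N49854 := ded_18_1 (flp_i L685652) (flp_a L677318) L698704
theorem L698708 : sm gb N51157 = N49071 := ded_26_1 (flp_i L677340) L677311 L698704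
theorem L698710 : sm gc N51157 = N49809 := ded_33_1 (flp_i L685286) (flp_c L677320) L698704
theorem L698712 : sm gd N51157 = N51157 := ded_39_1 (flp_i L698704) L677313 L698704
theorem L698713 : sm ge N51157 = N49852 := ded_44_1 (flp_i L685639) L677322 L698704
theorem L698715 : sm gg N51157 = N49075 := ded_51_1 (flp_i L677371) (flp_g L677314) L698704
theorem L698717 : sm gf N49070 = N51158 := rfl
theorem L698719 : sm ga N51158 = N49748 := ded_14_1 L684691 (flp_a L677326) L698717
theorem L698721 : sm gb N51158 = N49833 := ded_22_1 L685499 (flp_b L677328) L698717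
theorem L698723 : sm gc N51158 = N49072 := ded_29_1 (flp_f L677347) (flp_c L677330) L698717
theorem L698725 : sm gd N51158 = N49780 := ded_35_1 L685014 L677338 L698717
theorem L698727 : sm gj N51158 = N50592 := ded_46_2 L692411 (flp_j L677334) L698717
theorem L698729 : sm gh N51158 = N49100 := ded_47_2 (flp_f L677637) (flp_h L677336) L698717
theorem L698731 : sm gg N51158 = N50573 := ded_45_2 L692257 L670384 L655563 (flp_g L677332) L698717
theorem L698733 : sm gi N49070 = N51159 := rfl
theorem L698735 : sm ga N51159 = N49759 := ded_18_1 (flp_i L684796) (flp_a L677326) L698733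
theorem L698737 : sm gb N51159 = N49852 := ded_26_1 (flp_i L685639) (flp_b L677328) L698733
theorem L698739 : sm gc N51159 = N49073 := ded_33_1 (flp_i L677354) (flp_c L677330) L698733
theorem L698741 : sm gd N51159 = N49785 := ded_39_1 (flp_i L685069) L677338 L698733
theorem L698743 : sm ge N51159 = N49071 := ded_44_1 (flp_i L677340) L677324 L698733
theorem L698745 : sm gg N51159 = N49076 := ded_51_1 (flp_i L677385) (flp_g L677332) L698733
theorem L698747 : sm gj N51159 = N50794 := ded_53_1 (flp_i L693982) (flp_j L677334) L698733
theorem L698749 : sm gh N49071 = N51160 := rfl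
theorem L698751 : sm gc N51160 = N49074 := ded_32_1 (flp_h L677363) (flp_c L677342) L698749
theorem L698753 : sm gg N51160 = N49077 := ded_50_1 (flp_h L677400) (flp_g L677345) L698749
theorem L698755 : sm gi N51160 = N49102 := ded_54_2 (flp_h L677661) (flp_i L655710) (flp_h L655516) L677340 L698749
theorem L698757 : sm gg N49072 = N51161 := rfl
theorem L698759 : sm ga N51161 = N50537 := ded_15_1 (flp_g L698037) L698026 L698757
theorem L698761 : sm gb N51161 = N49813 := ded_23_1 (flp_g L685328) (flp_b L677349) L698757
theorem L698763 : sm gc N51161 = N50573 := ded_30_1 (flp_g L698731) L698723 L698757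
theorem L698765 : sm gd N51161 = N51161 := ded_36_1 (flp_g L698757) L677351 L698757
theorem L698766 : sm gh N51161 = N49103 := ded_50_2 (flp_g L677667) (flp_h L677352) L698757
theorem L698768 : sm gf N51161 = N49078 := ded_45_1 (flp_g L677409) (flp_f L655573) (flp_g L655523) L677347 L698757
theorem L698770 : sm gi N49072 = N51162 := rfl
theorem L698772 : sm gb N51162 = N49814 := ded_26_1 (flp_i L685335) (flp_b L677349) L698770
theorem L698774 : sm gd N51162 = N51162 := ded_39_1 (flp_i L698770) L677351 L698770
theorem L698775 : sm gf N51162 = N49073 := ded_48_1 (flp_i L677354) L677347 L698770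
theorem L698777 : sm gh N49073 = N51163 := rfl
theorem L698779 : sm gb N51163 = N49815 := ded_25_1 (flp_h L685340) (flp_b L677356) L698777
theorem L698781 : sm ge N51163 = N49074 := ded_43_1 (flp_h L677363) (flp_e L677359) L698777
theorem L698783 : sm gg N51163 = N49080 := ded_50_1 (flp_h L677436) (flp_g L677361) L698777
theorem L698785 : sm gi N51163 = N49105 := ded_54_2 (flp_h L677683) (flp_i L655724) (flp_h L655525) L677354 L698777
theorem L698787 : sm gh N49075 = N51164 := rfl
theorem L698789 : sm ga N51164 = N49867 := ded_17_1 (flp_h L685759) (flp_a L677373) L698787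
theorem L698791 : sm gb N51164 = N49077 := ded_25_1 (flp_h L677400) (flp_b L677375) L698787
theorem L698793 : sm gc N51164 = N49816 := ded_32_1 (flp_h L685348) (flp_c L677377) L698787
theorem L698795 : sm ge N51164 = N49864 := ded_43_1 (flp_h L685725) (flp_e L677380) L698787
theorem L698797 : sm gf N51164 = N50194 := ded_47_1 (flp_h L689256) (flp_f L677382) L698787
theorem L698799 : sm gj N51164 = N51164 := ded_52_1 (flp_h L698787) L677384 L698787
theorem L698800 : sm gi N51164 = N49108 := ded_54_2 (flp_h L677721) (flp_i L655770) (flp_h L655542) L677371 L698787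
theorem L698802 : sm gh N49076 = N51165 := rfl
theorem L698804 : sm ga N51165 = N49765 := ded_17_1 (flp_h L684854) (flp_a L677387) L698802
theorem L698806 : sm gb N51165 = N49864 := ded_25_1 (flp_h L685725) (flp_b L677389) L698802
theorem L698808 : sm gc N51165 = N49080 := ded_32_1 (flp_h L677436) (flp_c L677391) L698802
theorem L698810 : sm ge N51165 = N49077 := ded_43_1 (flp_h L677400) (flp_e L677395) L698802
theorem L698812 : sm gf N51165 = N50585 := ded_47_1 (flp_h L692344) (flp_f L677397) L698802
theorem L698814 : sm gj N51165 = N51165 := ded_52_1 (flp_h L698802) L677399 L698802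
theorem L698815 : sm gd N51165 = N50634 := ded_38_1 (flp_h L692735) L670780 (flp_h L662525) (flp_d L677393) L698802
theorem L698817 : sm gi N51165 = N49111 := ded_54_2 (flp_h L677759) (flp_i L655796) (flp_h L655559) L677385 L698802
theorem L698819 : sm gd N49077 = N51166 := rfl
theorem L698821 : sm gf N51166 = N50196 := ded_35_2 (flp_d L689274) (flp_f L677404) L698819
theorem L698823 : sm gj N51166 = N51166 := ded_37_2 (flp_d L698819) L677406 L698819
theorem L698824 : sm gi N51166 = N49112 := ded_39_2 (flp_d L677770) (flp_i L677407) L698819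
theorem L698826 : sm gh N51166 = N51166 := ded_38_2 (flp_d L698819) (flp_h L677400) L655569 L677400 L698819
theorem L698827 : sm gj N49078 = N51167 := rfl
theorem L698829 : sm ga N51167 = N50529 := ded_16_1 L691880 (flp_a L677411) L698827
theorem L698831 : sm gb N51167 = N49820 := ded_24_1 (flp_j L685399) (flp_b L677413) L698827
theorem L698833 : sm gc N51167 = N50580 := ded_31_1 L692306 (flp_c L677415) L698827
theorem L698835 : sm gd N51167 = N51167 := ded_37_1 (flp_j L698827) L677417 L698827
theorem L698836 : sm ge N51167 = N50197 := ded_42_1 (flp_j L689280) (flp_e L677418) L698827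
theorem L698838 : sm gh N51167 = N49113 := ded_52_2 (flp_j L677777) (flp_h L677420) L698827
theorem L698840 : sm gg N51167 = N51167 := ded_49_1 (flp_j L698827) (flp_g L677409) L655582 L677409 L698827
theorem L698841 : sm gi N49078 = N51168 := rfl
theorem L698843 : sm ga N51168 = N50538 := ded_18_1 (flp_i L691951) (flp_a L677411) L698841
theorem L698845 : sm gb N51168 = N49821 := ded_26_1 (flp_i L685407) (flp_b L677413) L698841
theorem L698847 : sm gc N51168 = N50583 := ded_33_1 (flp_i L692328) (flp_c L677415) L698841
theorem L698849 : sm gd N51168 = N51168 := ded_39_1 (flp_i L698841) L677417 L698841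
theorem L698850 : sm ge N51168 = N50198 := ded_44_1 (flp_i L689291) (flp_e L677418) L698841
theorem L698852 : sm gg N51168 = N49079 := ded_51_1 (flp_i L677422) L677409 L698841
theorem L698854 : sm gh N49079 = N51169 := rfl
theorem L698856 : sm ga N51169 = N50543 := ded_17_1 (flp_h L691989) (flp_a L677424) L698854
theorem L698858 : sm gb N51169 = N49822 := ded_25_1 (flp_h L685414) (flp_b L677426) L698854
theorem L698860 : sm gc N51169 = N50585 := ded_32_1 (flp_h L692344) (flp_c L677428) L698854
theorem L698862 : sm ge N51169 = N50199 := ded_43_1 (flp_h L689301) (flp_e L677431) L698854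
theorem L698864 : sm gf N51169 = N49080 := ded_47_1 (flp_h L677436) (flp_f L677433) L698854
theorem L698866 : sm gj N51169 = N51169 := ded_52_1 (flp_h L698854) L677435 L698854
theorem L698867 : sm gi N51169 = N49115 := ded_54_2 (flp_h L677796) (flp_i L655822) (flp_h L655583) L677422 L698854
theorem L698869 : sm gd N49080 = N51170 := rfl
theorem L698871 : sm gb N51170 = N49823 := ded_20_1 (flp_d L685423) (flp_b L677438) L698869
theorem L698873 : sm gj N51170 = N51170 := ded_37_2 (flp_d L698869) L677442 L698869
theorem L698874 : sm gi N51170 = N49116 := ded_39_2 (flp_d L677805) (flp_i L677443) L698869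
theorem L698876 : sm gh N51170 = N51170 := ded_38_2 (flp_d L698869) (flp_h L677436) L655591 L677436 L698869
theorem L698877 : sm ge N49081 = N51171 := rfl
theorem L698879 : sm gb N51171 = N49825 := ded_21_1 (flp_e L685438) (flp_b L677447) L698877
theorem L698881 : sm gg N51171 = N49084 := ded_41_2 (flp_e L677475) (flp_g L677450) L698877
theorem L698883 : sm gj N51171 = N50201 := ded_42_2 (flp_e L689319) (flp_j L677452) L698877
theorem L698885 : sm gi N49081 = N51172 := rfl
theorem L698887 : sm gb N51172 = N49826 := ded_26_1 (flp_i L685444) (flp_b L677447) L698885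
theorem L698889 : sm gd N51172 = N49082 := ded_39_1 (flp_i L677454) L677445 L698885
theorem L698891 : sm gf N51172 = N51172 := ded_48_1 (flp_i L698885) L677449 L698885
theorem L698892 : sm gg N51172 = N49085 := ded_51_1 (flp_i L677481) (flp_g L677450) L698885
theorem L698894 : sm gj N51172 = N50202 := ded_53_1 (flp_i L689325) (flp_j L677452) L698885
theorem L698896 : sm gb N49083 = N51173 := rfl
theorem L698898 : sm gd N51173 = N49129 := ded_20_2 (flp_b L677927) (flp_d L677473) L698896
theorem L698900 : sm gf N51173 = N49092 := ded_22_2 (flp_b L677539) (flp_f L677469) L698896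
theorem L698902 : sm gj N51173 = N49086 := ded_24_2 (flp_b L677491) (flp_j L677471) L698896
theorem L698904 : sm gc N51173 = N49827 := ded_19_2 (flp_b L685453) (flp_c L662777) (flp_b L655617) L677465 L698896
theorem L698906 : sm ge N49083 = N51174 := rfl
theorem L698908 : sm ga N51174 = N50662 := ded_13_1 L692933 (flp_a L677467) L698906
theorem L698910 : sm gc N51174 = N49084 := ded_28_1 (flp_e L677475) L677465 L698906
theorem L698912 : sm gj N51174 = N49087 := ded_42_2 (flp_e L677501) (flp_j L677471) L698906
theorem L698914 : sm gd N51174 = N50071 := ded_34_1 (flp_e L688001) L665811 (flp_e L655963) (flp_d L677473) L698906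
theorem L698916 : sm gf N51174 = N50576 := ded_40_2 L692277 L670510 L655666 (flp_f L677469) L698906
theorem L698918 : sm gi N49083 = N51175 := rfl
theorem L698920 : sm ga N51175 = N50805 := ded_18_1 (flp_i L694072) (flp_a L677467) L698918
theorem L698922 : sm gc N51175 = N49085 := ded_33_1 (flp_i L677481) L677465 L698918
theorem L698924 : sm gd N51175 = N49130 := ded_39_1 (flp_i L677938) (flp_d L677473) L698918
theorem L698926 : sm gf N51175 = N49093 := ded_48_1 (flp_i L677550) (flp_f L677469) L698918
theorem L698928 : sm gj N51175 = N49088 := ded_53_1 (flp_i L677507) (flp_j L677471) L698918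
theorem L698930 : sm gf N49084 = N51176 := rfl
theorem L698932 : sm ga N51176 = N50428 := ded_14_1 (flp_f L698130) L698122 L698930
theorem L698934 : sm gb N51176 = N49830 := ded_22_1 (flp_f L685477) (flp_b L677477) L698930
theorem L698936 : sm gc N51176 = N50576 := ded_29_1 (flp_f L698916) L698910 L698930
theorem L698938 : sm gd N51176 = N50389 := ded_35_1 (flp_f L696271) L696269 L698930
theorem L698940 : sm gj N51176 = N49089 := ded_46_2 (flp_f L677517) (flp_j L677479) L698930
theorem L698942 : sm ge N51176 = N49094 := ded_40_1 (flp_f L677563) (flp_e L655668) (flp_f L655619) L677475 L698930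
theorem L698944 : sm gi N49084 = N51177 := rfl
theorem L698946 : sm gb N51177 = N49831 := ded_26_1 (flp_i L685483) (flp_b L677477) L698944
theorem L698948 : sm ge N51177 = N49085 := ded_44_1 (flp_i L677481) L677475 L698944
theorem L698950 : sm gj N51177 = N49090 := ded_53_1 (flp_i L677523) (flp_j L677479) L698944
theorem L698952 : sm gh N49085 = N51178 := rfl
theorem L698954 : sm gb N51178 = N49832 := ded_25_1 (flp_h L685489) (flp_b L677483) L698952
theorem L698956 : sm gf N51178 = N49096 := ded_47_1 (flp_h L677590) (flp_f L677487) L698952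
theorem L698958 : sm gj N51178 = N49091 := ded_52_1 (flp_h L677531) (flp_j L677489) L698952
theorem L698960 : sm ga N49086 = N51179 := rfl
theorem L698962 : sm gc N51179 = N49833 := ded_11_2 (flp_a L685495) (flp_c L677499) L698960
theorem L698964 : sm gd N51179 = N49132 := ded_12_2 (flp_a L677963) (flp_d L677493) L698960
theorem L698966 : sm gf N51179 = N49097 := ded_14_2 (flp_a L677597) (flp_f L677495) L698960
theorem L698968 : sm gg N51179 = N50209 := ded_15_2 (flp_a L689388) (flp_g L677497) L698960
theorem L698970 : sm gh N51179 = N49853 := ded_17_2 (flp_a L698595) L698593 L698960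
theorem L698972 : sm gb N51179 = N49810 := ded_10_2 L685296 L676872 L676862 L677491 L698960
theorem L698974 : sm ge N49086 = N51180 := rfl
theorem L698976 : sm gb N51180 = N49087 := ded_21_1 (flp_e L677501) L677491 L698974
theorem L698978 : sm gc N51180 = N49834 := ded_28_1 (flp_e L685503) (flp_c L677499) L698974
theorem L698980 : sm gg N51180 = N50210 := ded_41_2 (flp_e L689396) (flp_g L677497) L698974
theorem L698982 : sm gi N49086 = N51181 := rfl
theorem L698984 : sm gb N51181 = N49088 := ded_26_1 (flp_i L677507) L677491 L698982
theorem L698986 : sm gc N51181 = N49835 := ded_33_1 (flp_i L685509) (flp_c L677499) L698982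
theorem L698988 : sm gd N51181 = N49134 := ded_39_1 (flp_i L677987) (flp_d L677493) L698982
theorem L698990 : sm gf N51181 = N49099 := ded_48_1 (flp_i L677627) (flp_f L677495) L698982
theorem L698992 : sm gg N51181 = N50211 := ded_51_1 (flp_i L689402) (flp_g L677497) L698982
theorem L698994 : sm gd N49087 = N51182 := rfl
theorem L698996 : sm ga N51182 = N50650 := ded_12_1 (flp_d L698156) L698146 L698994
theorem L698998 : sm gg N51182 = N50212 := ded_36_2 (flp_d L689412) (flp_g L677505) L698994
theorem L699000 : sm gj N51182 = N50071 := ded_37_2 (flp_d L698914) L698912 L698994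
theorem L699002 : sm gc N51182 = N50068 := ded_27_1 (flp_d L696301) L696293 L675227 (flp_c L677503) L698994
theorem L699004 : sm ge N51182 = N49135 := ded_34_2 (flp_d L677997) (flp_e L655993) (flp_d L655639) L677501 L698994
theorem L699006 : sm gf N50569 = N51182 := ded_14_0 L698996 (flp_f L692849) (flp_a L692219)
theorem L699008 : sm gf N49087 = N51183 := rfl
theorem L699010 : sm ga N51183 = N50649 := ded_14_1 (flp_f L698158) L698146 L699008
theorem L699012 : sm gc N51183 = N49089 := ded_29_1 (flp_f L677517) (flp_c L677503) L699008
theorem L699014 : sm gd N51183 = N50569 := ded_35_1 L699006 (flp_d L698994) L699008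
theorem L699016 : sm gj N51183 = N50576 := ded_46_2 (flp_f L698916) L698912 L699008
theorem L699018 : sm ge N51183 = N49100 := ded_40_1 (flp_f L677637) (flp_e L655698) (flp_f L655635) L677501 L699008
theorem L699020 : sm gi N49087 = N51184 := rfl
theorem L699022 : sm gc N51184 = N49090 := ded_33_1 (flp_i L677523) (flp_c L677503) L699020
theorem L699024 : sm ge N51184 = N49088 := ded_44_1 (flp_i L677507) L677501 L699020
theorem L699026 : sm gg N51184 = N50214 := ded_51_1 (flp_i L689422) (flp_g L677505) L699020
theorem L699028 : sm gh N49088 = N51185 := rfl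
theorem L699030 : sm gc N51185 = N49091 := ded_32_1 (flp_h L677531) (flp_c L677509) L699028
theorem L699032 : sm gf N51185 = N49102 := ded_47_1 (flp_h L677661) (flp_f L677513) L699028
theorem L699034 : sm gg N51185 = N50215 := ded_50_1 (flp_h L689428) (flp_g L677515) L699028
theorem L699036 : sm gg N49089 = N51186 := rfl
theorem L699038 : sm gb N51186 = N49840 := ded_23_1 (flp_g L685547) (flp_b L677519) L699036
theorem L699040 : sm ge N51186 = N49103 := ded_41_1 (flp_g L677667) (flp_e L677521) L699036
theorem L699042 : sm gf N51186 = N50216 := ded_45_1 (flp_g L689434) (flp_f L667024) (flp_g L655645) L677517 L699036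
theorem L699044 : sm gi N49089 = N51187 := rfl
theorem L699046 : sm gb N51187 = N49841 := ded_26_1 (flp_i L685553) (flp_b L677519) L699044
theorem L699048 : sm ge N51187 = N49104 := ded_44_1 (flp_i L677675) (flp_e L677521) L699044
theorem L699050 : sm gf N51187 = N49090 := ded_48_1 (flp_i L677523) L677517 L699044
theorem L699052 : sm gh N49090 = N51188 := rfl
theorem L699054 : sm gb N51188 = N49842 := ded_25_1 (flp_h L685559) (flp_b L677525) L699052
theorem L699056 : sm ge N51188 = N49091 := ded_43_1 (flp_h L677531) (flp_e L677527) L699052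
theorem L699058 : sm gg N51188 = N50218 := ded_50_1 (flp_h L689448) (flp_g L677529) L699052
theorem L699060 : sm ga N49092 = N51189 := rfl
theorem L699062 : sm gc N51189 = N49843 := ded_11_2 (flp_a L685565) (flp_c L677548) L699060
theorem L699064 : sm gd N51189 = N49139 := ded_12_2 (flp_a L678049) (flp_d L677541) L699060
theorem L699066 : sm ge N51189 = N49803 := ded_13_2 L685238 (flp_e L677543) L699060
theorem L699068 : sm gg N51189 = N51189 := ded_15_2 (flp_a L699060) L677545 L699060
theorem L699069 : sm gj N51189 = N49097 := ded_16_2 (flp_a L677597) (flp_j L677546) L699060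
theorem L699071 : sm gh N51189 = N49844 := ded_17_2 (flp_a L698652) L698650 L699060
theorem L699073 : sm gb N51189 = N49804 := ded_10_2 L685242 L671619 (flp_a L655659) L677539 L699060
theorem L699075 : sm gi N49092 = N51190 := rfl
theorem L699077 : sm gb N51190 = N49093 := ded_26_1 (flp_i L677550) L677539 L699075
theorem L699079 : sm gc N51190 = N49845 := ded_33_1 (flp_i L685586) (flp_c L677548) L699075
theorem L699081 : sm gd N51190 = N49140 := ded_39_1 (flp_i L678061) (flp_d L677541) L699075
theorem L699083 : sm ge N51190 = N50793 := ded_44_1 (flp_i L693975) (flp_e L677543) L699075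
theorem L699085 : sm gg N51190 = N51190 := ded_51_1 (flp_i L699075) L677545 L699075
theorem L699086 : sm gj N51190 = N49099 := ded_53_1 (flp_i L677627) (flp_j L677546) L699075
theorem L699088 : sm gh N49093 = N51191 := rfl
theorem L699090 : sm ga N51191 = N50807 := ded_17_1 (flp_h L694084) (flp_a L677552) L699088
theorem L699092 : sm gc N51191 = N49096 := ded_32_1 (flp_h L677590) (flp_c L677554) L699088
theorem L699094 : sm ge N51191 = N50795 := ded_43_1 (flp_h L693989) (flp_e L677558) L699088
theorem L699096 : sm gg N51191 = N51191 := ded_50_1 (flp_h L699088) L677560 L699088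
theorem L699097 : sm gj N51191 = N49102 := ded_52_1 (flp_h L677661) (flp_j L677561) L699088
theorem L699099 : sm gg N49094 = N51192 := rfl
theorem L699101 : sm ga N51192 = N49595 := ded_15_1 L683024 (flp_a L677565) L699099
theorem L699103 : sm gb N51192 = N49849 := ded_23_1 (flp_g L685619) (flp_b L677567) L699099
theorem L699105 : sm gc N51192 = N49783 := ded_30_1 L685054 (flp_c L677569) L699099
theorem L699107 : sm gd N51192 = N49117 := ded_36_1 (flp_g L677812) (flp_d L677571) L699099
theorem L699109 : sm gf N51192 = N51192 := ded_45_1 (flp_g L699099) (flp_f L677563) L655676 L677563 L699099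
theorem L699110 : sm gi N49094 = N51193 := rfl
theorem L699112 : sm ga N51193 = N50469 := ded_18_1 (flp_i L691417) (flp_a L677565) L699110
theorem L699114 : sm gb N51193 = N49850 := ded_26_1 (flp_i L685624) (flp_b L677567) L699110
theorem L699116 : sm gc N51193 = N50593 := ded_33_1 (flp_i L692415) (flp_c L677569) L699110
theorem L699118 : sm gd N51193 = N49118 := ded_39_1 (flp_i L677824) (flp_d L677571) L699110
theorem L699120 : sm gf N51193 = N49095 := ded_48_1 (flp_i L677575) L677563 L699110
theorem L699122 : sm gj N51193 = N49104 := ded_53_1 (flp_i L677675) (flp_j L677573) L699110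
theorem L699124 : sm gh N49095 = N51194 := rfl
theorem L699126 : sm ga N51194 = N50767 := ded_17_1 (flp_h L693738) (flp_a L677577) L699124
theorem L699128 : sm gb N51194 = N49851 := ded_25_1 (flp_h L685632) (flp_b L677579) L699124
theorem L699130 : sm gc N51194 = N50795 := ded_32_1 (flp_h L693989) (flp_c L677581) L699124
theorem L699132 : sm ge N51194 = N49096 := ded_43_1 (flp_h L677590) (flp_e L677585) L699124
theorem L699134 : sm gg N51194 = N51194 := ded_50_1 (flp_h L699124) L677587 L699124
theorem L699135 : sm gj N51194 = N49105 := ded_52_1 (flp_h L677683) (flp_j L677588) L699124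
theorem L699137 : sm gi N49097 = N51195 := rfl
theorem L699139 : sm ga N51195 = N49099 := ded_18_1 (flp_i L677627) L677597 L699137
theorem L699141 : sm gb N51195 = N49811 := ded_26_1 (flp_i L685304) (flp_b L677607) L699137
theorem L699143 : sm gc N51195 = N49852 := ded_33_1 (flp_i L685639) (flp_c L677599) L699137
theorem L699145 : sm gd N51195 = N49142 := ded_39_1 (flp_i L678084) (flp_d L677601) L699137
theorem L699147 : sm ge N51195 = N49809 := ded_44_1 (flp_i L685286) L677609 L699137
theorem L699149 : sm gg N51195 = N49106 := ded_51_1 (flp_i L677691) (flp_g L677603) L699137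
theorem L699151 : sm gf N49098 = N51196 := rfl
theorem L699153 : sm ga N51196 = N49797 := ded_14_1 L685181 (flp_a L677613) L699151
theorem L699155 : sm gb N51196 = N49100 := ded_22_1 (flp_f L677637) (flp_b L677615) L699151
theorem L699157 : sm gc N51196 = N49853 := ded_29_1 (flp_f L685647) (flp_c L677617) L699151
theorem L699159 : sm gd N51196 = N49945 := ded_35_1 L686611 (flp_d L677625) L699151
theorem L699161 : sm gj N51196 = N50590 := ded_46_2 L692396 (flp_j L677621) L699151
theorem L699163 : sm gh N51196 = N49833 := ded_47_2 L685499 (flp_h L677623) L699151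
theorem L699165 : sm gg N51196 = N50608 := ded_45_2 L692533 L670709 L655768 (flp_g L677619) L699151
theorem L699167 : sm gi N49098 = N51197 := rfl
theorem L699169 : sm ga N51197 = N49809 := ded_18_1 (flp_i L685286) (flp_a L677613) L699167
theorem L699171 : sm gb N51197 = N49101 := ded_26_1 (flp_i L677647) (flp_b L677615) L699167
theorem L699173 : sm gc N51197 = N49854 := ded_33_1 (flp_i L685652) (flp_c L677617) L699167
theorem L699175 : sm gd N51197 = N49951 := ded_39_1 (flp_i L686689) (flp_d L677625) L699167
theorem L699177 : sm ge N51197 = N49099 := ded_44_1 (flp_i L677627) L677611 L699167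
theorem L699179 : sm gg N51197 = N49107 := ded_51_1 (flp_i L677706) (flp_g L677619) L699167
theorem L699181 : sm gj N51197 = N50793 := ded_53_1 (flp_i L693975) (flp_j L677621) L699167
theorem L699183 : sm gh N49099 = N51198 := rfl
theorem L699185 : sm gb N51198 = N49102 := ded_25_1 (flp_h L677661) (flp_b L677629) L699183
theorem L699187 : sm gc N51198 = N49855 := ded_32_1 (flp_h L685661) (flp_c L677631) L699183
theorem L699189 : sm gg N51198 = N49108 := ded_50_1 (flp_h L677721) (flp_g L677635) L699183
theorem L699191 : sm gg N49100 = N51199 := rfl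
theorem L699193 : sm ga N51199 = N49956 := ded_15_1 L686763 (flp_a L677639) L699191
theorem L699195 : sm gb N51199 = N50608 := ded_23_1 (flp_g L699165) L699155 L699191
theorem L699197 : sm gc N51199 = N49103 := ded_30_1 (flp_g L677667) (flp_c L677641) L699191
theorem L699199 : sm gd N51199 = N49955 := ded_36_1 L686755 (flp_d L677643) L699191
theorem L699201 : sm gh N51199 = N50573 := ded_50_2 (flp_g L698731) L698729 L699191
theorem L699203 : sm gf N51199 = N49109 := ded_45_1 (flp_g L677730) (flp_f L655781) (flp_g L655704) L677637 L699191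
theorem L699205 : sm gi N49100 = N51200 := rfl
theorem L699207 : sm ga N51200 = N50709 := ded_18_1 (flp_i L693270) (flp_a L677639) L699205
theorem L699209 : sm gc N51200 = N49104 := ded_33_1 (flp_i L677675) (flp_c L677641) L699205
theorem L699211 : sm gd N51200 = N50588 := ded_39_1 (flp_i L692369) (flp_d L677643) L699205
theorem L699213 : sm gf N51200 = N49101 := ded_48_1 (flp_i L677647) L677637 L699205
theorem L699215 : sm gj N51200 = N50593 := ded_53_1 (flp_i L692415) (flp_j L677645) L699205
theorem L699217 : sm gh N49101 = N51201 := rfl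
theorem L699219 : sm ga N51201 = N50690 := ded_17_1 L693137 (flp_a L677649) L699217
theorem L699221 : sm gc N51201 = N49105 := ded_32_1 (flp_h L677683) (flp_c L677651) L699217
theorem L699223 : sm ge N51201 = N49102 := ded_43_1 (flp_h L677661) (flp_e L677655) L699217
theorem L699225 : sm gg N51201 = N49111 := ded_50_1 (flp_h L677759) (flp_g L677657) L699217
theorem L699227 : sm gj N51201 = N50795 := ded_52_1 (flp_h L693989) (flp_j L677659) L699217
theorem L699229 : sm gd N51201 = N50686 := ded_38_1 (flp_h L693099) L671039 L671336 (flp_d L677653) L699217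
theorem L699231 : sm gd N49102 = N51202 := rfl
theorem L699233 : sm gg N51202 = N49112 := ded_36_2 (flp_d L677770) (flp_g L677665) L699231
theorem L699235 : sm gh N51202 = N49144 := ded_38_2 (flp_d L678105) (flp_h L656091) (flp_d L655714) L677661 L699231
theorem L699237 : sm gj N49103 = N51203 := rfl
theorem L699239 : sm gb N51203 = N49860 := ded_24_1 (flp_j L685701) (flp_b L677669) L699237
theorem L699241 : sm gd N51203 = N49120 := ded_37_1 (flp_j L677852) (flp_d L677671) L699237
theorem L699243 : sm gf N51203 = N49113 := ded_46_1 (flp_j L677777) (flp_f L677673) L699237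
theorem L699245 : sm gi N49103 = N51204 := rfl
theorem L699247 : sm gb N51204 = N49861 := ded_26_1 (flp_i L685707) (flp_b L677669) L699245
theorem L699249 : sm gd N51204 = N49121 := ded_39_1 (flp_i L677859) (flp_d L677671) L699245
theorem L699251 : sm gf N51204 = N49114 := ded_48_1 (flp_i L677786) (flp_f L677673) L699245
theorem L699253 : sm gg N51204 = N49104 := ded_51_1 (flp_i L677675) L677667 L699245
theorem L699255 : sm gh N49104 = N51205 := rfl
theorem L699257 : sm gb N51205 = N49862 := ded_25_1 (flp_h L685715) (flp_b L677677) L699255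
theorem L699259 : sm gf N51205 = N49105 := ded_47_1 (flp_h L677683) (flp_f L677681) L699255
theorem L699261 : sm gd N49105 = N51206 := rfl
theorem L699263 : sm gb N51206 = N49863 := ded_20_1 (flp_d L685719) (flp_b L677685) L699261
theorem L699265 : sm gg N51206 = N49116 := ded_36_2 (flp_d L677805) (flp_g L677689) L699261
theorem L699267 : sm gh N51206 = N49123 := ded_38_2 (flp_d L677874) (flp_h L655893) (flp_d L655728) L677683 L699261
theorem L699269 : sm gh N49106 = N51207 := rfl
theorem L699271 : sm ga N51207 = N49108 := ded_17_1 (flp_h L677721) (flp_a L677693) L699269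
theorem L699273 : sm gb N51207 = N49819 := ded_25_1 (flp_h L685388) (flp_b L677695) L699269
theorem L699275 : sm gc N51207 = N49864 := ded_32_1 (flp_h L685725) (flp_c L677697) L699269
theorem L699277 : sm ge N51207 = N49816 := ded_43_1 (flp_h L685348) (flp_e L677701) L699269
theorem L699279 : sm gf N51207 = N50240 := ded_47_1 (flp_h L689648) (flp_f L677703) L699269
theorem L699281 : sm gj N51207 = N51207 := ded_52_1 (flp_h L699269) L677705 L699269
theorem L699282 : sm gi N51207 = N49867 := ded_54_2 (flp_h L685759) (flp_i L662963) (flp_h L655749) L677691 L699269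
theorem L699284 : sm gh N49107 = N51208 := rfl
theorem L699286 : sm ga N51208 = N49816 := ded_17_1 (flp_h L685348) (flp_a L677708) L699284
theorem L699288 : sm gb N51208 = N49111 := ded_25_1 (flp_h L677759) (flp_b L677710) L699284
theorem L699290 : sm gc N51208 = N49867 := ded_32_1 (flp_h L685759) (flp_c L677712) L699284
theorem L699292 : sm ge N51208 = N49108 := ded_43_1 (flp_h L677721) (flp_e L677716) L699284
theorem L699294 : sm gf N51208 = N50634 := ded_47_1 (flp_h L692735) (flp_f L677718) L699284
theorem L699296 : sm gj N51208 = N51208 := ded_52_1 (flp_h L699284) L677720 L699284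
theorem L699297 : sm gd N51208 = N50585 := ded_38_1 (flp_h L692344) L670410 (flp_h L664042) (flp_d L677714) L699284
theorem L699299 : sm gi N51208 = N49864 := ded_54_2 (flp_h L685725) (flp_i L662940) (flp_h L655764) L677706 L699284
theorem L699301 : sm gd N49108 = N51209 := rfl
theorem L699303 : sm gb N51209 = N49112 := ded_20_1 (flp_d L677770) (flp_b L677723) L699301
theorem L699305 : sm gf N51209 = N50244 := ded_35_2 (flp_d L689691) (flp_f L677727) L699301
theorem L699307 : sm gj N51209 = N51209 := ded_37_2 (flp_d L699301) L677729 L699301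
theorem L699308 : sm gh N51209 = N49146 := ded_38_2 (flp_d L678124) (flp_h L656111) (flp_d L655776) L677721 L699301
theorem L699310 : sm gj N49109 = N51210 := rfl
theorem L699312 : sm ga N51210 = N49963 := ded_16_1 L686833 (flp_a L677732) L699310
theorem L699314 : sm gb N51210 = N50618 := ded_24_1 L692600 (flp_b L677734) L699310
theorem L699316 : sm gc N51210 = N49113 := ded_31_1 (flp_j L677777) (flp_c L677736) L699310
theorem L699318 : sm gd N51210 = N49962 := ded_37_1 L686826 (flp_d L677738) L699310
theorem L699320 : sm ge N51210 = N50245 := ded_42_1 (flp_j L689698) (flp_e L677740) L699310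
theorem L699322 : sm gh N51210 = N50580 := ded_52_2 L692306 (flp_h L677742) L699310
theorem L699324 : sm gg N51210 = N51210 := ded_49_1 (flp_j L699310) (flp_g L677730) L655791 L677730 L699310
theorem L699325 : sm gi N49109 = N51211 := rfl
theorem L699327 : sm ga N51211 = N49916 := ded_18_1 L686246 (flp_a L677732) L699325
theorem L699329 : sm gb N51211 = N50624 := ded_26_1 (flp_i L692655) (flp_b L677734) L699325
theorem L699331 : sm gc N51211 = N49114 := ded_33_1 (flp_i L677786) (flp_c L677736) L699325
theorem L699333 : sm gd N51211 = N49915 := ded_39_1 L686238 (flp_d L677738) L699325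
theorem L699335 : sm ge N51211 = N50246 := ded_44_1 (flp_i L689704) (flp_e L677740) L699325
theorem L699337 : sm gg N51211 = N49110 := ded_51_1 (flp_i L677744) L677730 L699325
theorem L699339 : sm gh N49110 = N51212 := rfl
theorem L699341 : sm ga N51212 = N49868 := ded_17_1 L685775 (flp_a L677746) L699339
theorem L699343 : sm gb N51212 = N50634 := ded_25_1 (flp_h L692735) (flp_b L677748) L699339
theorem L699345 : sm gc N51212 = N49115 := ded_32_1 (flp_h L677796) (flp_c L677750) L699339
theorem L699347 : sm ge N51212 = N50247 := ded_43_1 (flp_h L689711) (flp_e L677754) L699339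
theorem L699349 : sm gf N51212 = N49111 := ded_47_1 (flp_h L677759) (flp_f L677756) L699339
theorem L699351 : sm gj N51212 = N51212 := ded_52_1 (flp_h L699339) L677758 L699339
theorem L699352 : sm gd N51212 = N49864 := ded_38_1 (flp_h L685725) L662944 L663341 (flp_d L677752) L699339
theorem L699354 : sm gi N51212 = N50585 := ded_54_2 (flp_h L692344) (flp_i L670404) (flp_h L655792) L677744 L699339
theorem L699356 : sm ge N49112 = N51213 := rfl
theorem L699358 : sm ga N51213 = N50702 := ded_13_1 (flp_e L698282) L698273 L699356
theorem L699360 : sm gj N51213 = N51213 := ded_42_2 (flp_e L699356) L677774 L699356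
theorem L699361 : sm gh N51213 = N49147 := ded_43_2 (flp_e L678132) (flp_h L677775) L699356
theorem L699363 : sm gd N51213 = N50698 := ded_34_1 L693193 (flp_d L677768) L677765 L677770 L699356
theorem L699365 : sm gi N49113 = N51214 := rfl
theorem L699367 : sm gb N51214 = N49874 := ded_26_1 (flp_i L685818) (flp_b L677779) L699365
theorem L699369 : sm gd N51214 = N49124 := ded_39_1 (flp_i L677881) (flp_d L677781) L699365
theorem L699371 : sm ge N51214 = N50250 := ded_44_1 (flp_i L689727) (flp_e L677783) L699365
theorem L699373 : sm gg N51214 = N51214 := ded_51_1 (flp_i L699365) L677785 L699365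
theorem L699374 : sm gj N51214 = N49114 := ded_53_1 (flp_i L677786) L677777 L699365
theorem L699376 : sm gh N49114 = N51215 := rfl
theorem L699378 : sm gb N51215 = N49875 := ded_25_1 (flp_h L685827) (flp_b L677788) L699376
theorem L699380 : sm ge N51215 = N50251 := ded_43_1 (flp_h L689736) (flp_e L677792) L699376
theorem L699382 : sm gg N51215 = N49115 := ded_50_1 (flp_h L677796) (flp_g L677794) L699376
theorem L699384 : sm gd N49115 = N51216 := rfl
theorem L699386 : sm gb N51216 = N49876 := ded_20_1 (flp_d L685833) (flp_b L677798) L699384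
theorem L699388 : sm gf N51216 = N49116 := ded_35_2 (flp_d L677805) (flp_f L677802) L699384
theorem L699390 : sm gj N51216 = N51216 := ded_37_2 (flp_d L699384) L677804 L699384
theorem L699391 : sm gh N51216 = N49126 := ded_38_2 (flp_d L677899) (flp_h L655918) (flp_d L655826) L677796 L699384
theorem L699393 : sm gc N49116 = N51217 := rfl
theorem L699395 : sm ga N51217 = N50244 := ded_11_1 (flp_c L698335) L698332 L699393
theorem L699397 : sm gj N51217 = N51217 := ded_31_2 (flp_c L699393) L677809 L699393
theorem L699398 : sm gh N51217 = N49127 := ded_32_2 (flp_c L677907) (flp_h L677810) L699393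
theorem L699400 : sm gd N51217 = N50240 := ded_27_2 L689652 (flp_d L677768) L677763 L677805 L699393
theorem L699402 : sm gj N49117 = N51218 := rfl
theorem L699404 : sm ga N51218 = N49588 := ded_16_1 L682952 (flp_a L677814) L699402
theorem L699406 : sm gb N51218 = N49878 := ded_24_1 (flp_j L685845) (flp_b L677816) L699402
theorem L699408 : sm gc N51218 = N49503 := ded_31_1 L682208 (flp_c L677818) L699402
theorem L699410 : sm ge N51218 = N49502 := ded_42_1 L682200 (flp_e L677820) L699402
theorem L699412 : sm gf N51218 = N51218 := ded_46_1 (flp_j L699402) L677823 L699402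
theorem L699413 : sm gh N51218 = N51218 := ded_52_2 (flp_j L699402) L677822 L699402
theorem L699414 : sm gg N51218 = N49120 := ded_49_1 (flp_j L677852) (flp_g L655880) (flp_j L655848) L677812 L699402
theorem L699416 : sm gi N49117 = N51219 := rfl
theorem L699418 : sm ga N51219 = N49596 := ded_18_1 (flp_i L683028) (flp_a L677814) L699416
theorem L699420 : sm gb N51219 = N49879 := ded_26_1 (flp_i L685852) (flp_b L677816) L699416
theorem L699422 : sm gc N51219 = N49507 := ded_33_1 (flp_i L682245) (flp_c L677818) L699416
theorem L699424 : sm ge N51219 = N49506 := ded_44_1 (flp_i L682235) (flp_e L677820) L699416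
theorem L699426 : sm gf N51219 = N51219 := ded_48_1 (flp_i L699416) L677823 L699416
theorem L699427 : sm gg N51219 = N49118 := ded_51_1 (flp_i L677824) L677812 L699416
theorem L699429 : sm gh N49118 = N51220 := rfl
theorem L699431 : sm ga N51220 = N50470 := ded_17_1 (flp_h L691425) (flp_a L677826) L699429
theorem L699433 : sm gb N51220 = N49880 := ded_25_1 (flp_h L685858) (flp_b L677828) L699429
theorem L699435 : sm gc N51220 = N50401 := ded_32_1 (flp_h L690946) (flp_c L677830) L699429
theorem L699437 : sm ge N51220 = N50400 := ded_43_1 (flp_h L690937) (flp_e L677832) L699429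
theorem L699439 : sm gf N51220 = N49119 := ded_47_1 (flp_h L677838) (flp_f L677834) L699429
theorem L699441 : sm gj N51220 = N49122 := ded_52_1 (flp_h L677867) (flp_j L677836) L699429
theorem L699443 : sm gi N51220 = N51220 := ded_54_2 (flp_h L699429) (flp_i L677824) L655850 L677824 L699429
theorem L699444 : sm gd N49119 = N51221 := rfl
theorem L699446 : sm ga N51221 = N50768 := ded_12_1 (flp_d L693743) (flp_a L677840) L699444
theorem L699448 : sm gb N51221 = N49881 := ded_20_1 (flp_d L685866) (flp_b L677842) L699444
theorem L699450 : sm gg N51221 = N51221 := ded_36_2 (flp_d L699444) L677848 L699444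
theorem L699451 : sm gj N51221 = N49123 := ded_37_2 (flp_d L677874) (flp_j L677849) L699444
theorem L699453 : sm gi N51221 = N51221 := ded_39_2 (flp_d L699444) L677851 L699444
theorem L699454 : sm gi N49120 = N51222 := rfl
theorem L699456 : sm gb N51222 = N49882 := ded_26_1 (flp_i L685872) (flp_b L677854) L699454
theorem L699458 : sm gf N51222 = N49124 := ded_48_1 (flp_i L677881) (flp_f L677856) L699454
theorem L699460 : sm gj N51222 = N49121 := ded_53_1 (flp_i L677859) L677852 L699454
theorem L699462 : sm gh N49121 = N51223 := rfl
theorem L699464 : sm gb N51223 = N49883 := ded_25_1 (flp_h L685879) (flp_b L677861) L699462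
theorem L699466 : sm gf N51223 = N49125 := ded_47_1 (flp_h L677890) (flp_f L677863) L699462
theorem L699468 : sm gg N51223 = N49122 := ded_50_1 (flp_h L677867) (flp_g L677865) L699462
theorem L699470 : sm gi N51223 = N51223 := ded_54_2 (flp_h L699462) (flp_i L677859) L655884 L677859 L699462
theorem L699471 : sm gd N49122 = N51224 := rfl
theorem L699473 : sm gb N51224 = N49884 := ded_20_1 (flp_d L685887) (flp_b L677869) L699471
theorem L699475 : sm gf N51224 = N49123 := ded_35_2 (flp_d L677874) (flp_f L677871) L699471
theorem L699477 : sm gi N51224 = N51224 := ded_39_2 (flp_d L699471) L677873 L699471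
theorem L699478 : sm gc N49123 = N51225 := rfl
theorem L699480 : sm ga N51225 = N50272 := ded_11_1 (flp_c L698392) L698385 L699478
theorem L699482 : sm gg N51225 = N49127 := ded_30_2 (flp_c L677907) (flp_g L677878) L699478
theorem L699484 : sm gi N51225 = N51225 := ded_33_2 (flp_c L699478) L677880 L699478
theorem L699485 : sm gd N51225 = N50271 := ded_27_2 L689895 (flp_d L673302) L673294 L677874 L699478
theorem L699487 : sm gh N49124 = N51226 := rfl
theorem L699489 : sm gb N51226 = N49886 := ded_25_1 (flp_h L685898) (flp_b L677883) L699487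
theorem L699491 : sm ge N51226 = N49128 := ded_43_1 (flp_h L677915) (flp_e L677885) L699487
theorem L699493 : sm gg N51226 = N51226 := ded_50_1 (flp_h L699487) L677887 L699487
theorem L699494 : sm gj N51226 = N49125 := ded_52_1 (flp_h L677890) (flp_j L677888) L699487
theorem L699496 : sm gi N51226 = N51226 := ded_54_2 (flp_h L699487) (flp_i L677881) L655908 L677881 L699487
theorem L699497 : sm gd N49125 = N51227 := rfl
theorem L699499 : sm gb N51227 = N49887 := ded_20_1 (flp_d L685907) (flp_b L677892) L699497
theorem L699501 : sm gg N51227 = N49126 := ded_36_2 (flp_d L677899) (flp_g L677896) L699497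
theorem L699503 : sm gi N51227 = N51227 := ded_39_2 (flp_d L699497) L677898 L699497
theorem L699504 : sm gc N49126 = N51228 := rfl
theorem L699506 : sm ga N51228 = N49146 := ded_11_1 (flp_c L698432) L698424 L699504
theorem L699508 : sm ge N51228 = N50094 := ded_28_2 (flp_c L697909) L697911 L699504
theorem L699510 : sm gf N51228 = N49127 := ded_29_2 (flp_c L677907) (flp_f L677903) L699504
theorem L699512 : sm gj N51228 = N51228 := ded_31_2 (flp_c L699504) L677905 L699504
theorem L699513 : sm gi N51228 = N51228 := ded_33_2 (flp_c L699504) L677906 L699504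
theorem L699514 : sm gb N51228 = N50095 := ded_19_1 L688262 L685921 (flp_c L685912) (flp_b L677901) L699504
theorem L699516 : sm gd N51228 = N49145 := ded_27_2 L678116 (flp_d L673343) L673336 L677899 L699504
theorem L699518 : sm gb N49127 = N51229 := rfl
theorem L699520 : sm gd N51229 = N50165 := ded_20_2 L688965 (flp_d L677913) L699518
theorem L699522 : sm gf N51229 = N50095 := ded_22_2 (flp_b L699514) L699510 L699518
theorem L699524 : sm gj N51229 = N51229 := ded_24_2 (flp_b L699518) L677911 L699518
theorem L699525 : sm gi N51229 = N51229 := ded_26_2 (flp_b L699518) L677912 L699518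
theorem L699526 : sm ga N51229 = N50166 := ded_10_1 L688975 L666739 (flp_b L667478) (flp_a L677909) L699518
theorem L699528 : sm gc N51229 = N49889 := ded_19_2 (flp_b L685923) (flp_c L663109) (flp_b L655930) L677907 L699518
theorem L699530 : sm ga N49129 = N51230 := rfl
theorem L699532 : sm gc N51230 = N49148 := ded_11_2 (flp_a L678140) (flp_c L677936) L699530
theorem L699534 : sm ge N51230 = N50084 := ded_13_2 (flp_a L688145) (flp_e L677929) L699530
theorem L699536 : sm gf N51230 = N49139 := ded_14_2 (flp_a L678049) (flp_f L677931) L699530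
theorem L699538 : sm gg N51230 = N50721 := ded_15_2 (flp_a L697295) L697301 L699530
theorem L699540 : sm gj N51230 = N49132 := ded_16_2 (flp_a L677963) (flp_j L677933) L699530
theorem L699542 : sm gh N51230 = N51230 := ded_17_2 (flp_a L699530) L677935 L699530
theorem L699543 : sm gb N51230 = N50799 := ded_10_2 L694023 L672474 (flp_a L655961) L677927 L699530
theorem L699545 : sm gi N49129 = N51231 := rfl
theorem L699547 : sm gb N51231 = N49130 := ded_26_1 (flp_i L677938) L677927 L699545
theorem L699549 : sm gc N51231 = N49149 := ded_33_1 (flp_i L678154) (flp_c L677936) L699545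
theorem L699551 : sm ge N51231 = N50085 := ded_44_1 (flp_i L688156) (flp_e L677929) L699545
theorem L699553 : sm gf N51231 = N49140 := ded_48_1 (flp_i L678061) (flp_f L677931) L699545
theorem L699555 : sm gj N51231 = N49134 := ded_53_1 (flp_i L677987) (flp_j L677933) L699545
theorem L699557 : sm gh N49130 = N51232 := rfl
theorem L699559 : sm ga N51232 = N50809 := ded_17_1 (flp_h L694098) (flp_a L677940) L699557
theorem L699561 : sm gc N51232 = N49131 := ded_32_1 (flp_h L677950) (flp_c L677942) L699557
theorem L699563 : sm ge N51232 = N50086 := ded_43_1 (flp_h L688164) (flp_e L677944) L699557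
theorem L699565 : sm gf N51232 = N49141 := ded_47_1 (flp_h L678072) (flp_f L677946) L699557
theorem L699567 : sm gj N51232 = N49137 := ded_52_1 (flp_h L678023) (flp_j L677948) L699557
theorem L699569 : sm gi N51232 = N51232 := ded_54_2 (flp_h L699557) (flp_i L677938) L655969 L677938 L699557
theorem L699570 : sm ge N49132 = N51233 := rfl
theorem L699572 : sm ga N51233 = N49133 := ded_13_1 (flp_e L677974) L677963 L699570
theorem L699574 : sm gb N51233 = N50815 := ded_21_1 L694158 (flp_b L677972) L699570
theorem L699576 : sm gc N51233 = N49151 := ded_28_1 (flp_e L678178) (flp_c L677965) L699570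
theorem L699578 : sm gg N51233 = N49936 := ded_41_2 L686514 (flp_g L677969) L699570
theorem L699580 : sm gj N51233 = N50084 := ded_42_2 (flp_e L699534) L699540 L699570
theorem L699582 : sm gh N51233 = N51233 := ded_43_2 (flp_e L699570) L677971 L699570
theorem L699583 : sm gf N51233 = N50087 := ded_40_2 L688177 L672256 (flp_e L656076) (flp_f L677967) L699570
theorem L699585 : sm gi N49132 = N51234 := rfl
theorem L699587 : sm ga N51234 = N49134 := ded_18_1 (flp_i L677987) L677963 L699585
theorem L699589 : sm gb N51234 = N50798 := ded_26_1 L694019 (flp_b L677972) L699585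
theorem L699591 : sm gc N51234 = N49152 := ded_33_1 (flp_i L678192) (flp_c L677965) L699585
theorem L699593 : sm gf N51234 = N49142 := ded_48_1 (flp_i L678084) (flp_f L677967) L699585
theorem L699595 : sm gg N51234 = N50260 := ded_51_1 (flp_i L689811) (flp_g L677969) L699585

end Cfsg.Agent.Helper28.FicA
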