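import Cfsg.Agent.Helper28.FicB37

/-! # The Fi₂₃ presentation, cosets of the subgroup generated by a, …, i: the coset enumeration, part 38 (helper28; generated) -/

set_option autoImplicit false

noncomputable section

namespace Cfsg.Agent.Helper28.FicA

open Cfsg.Agent.Helper28.CosetTable

theorem L699597 : sm gd N49133 = N51235 := rfl
theorem L699599 : sm gb N51235 = N49135 := ded_20_1 (flp_d L677997) (flp_b L677976) L699597
theorem L699601 : sm gf N51235 = N50075 := ded_35_2 L688041 (flp_f L677985) L699597
theorem L699603 : sm gg N51235 = N50261 := ded_36_2 (flp_d L689819) (flp_g L677980) L699597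
theorem L699605 : sm gj N51235 = N50070 := ded_37_2 L687995 (flp_j L677982) L699597
theorem L699607 : sm gc N51235 = N50515 := ded_27_1 L691783 L670004 L656182 (flp_c L677978) L699597
theorem L699609 : sm gi N49133 = N51236 := rfl
theorem L699611 : sm gb N51236 = N49136 := ded_26_1 (flp_i L678009) (flp_b L677976) L699609
theorem L699613 : sm gc N51236 = N49153 := ded_33_1 (flp_i L678203) (flp_c L677978) L699609
theorem L699615 : sm ge N51236 = N49134 := ded_44_1 (flp_i L677987) L677974 L699609
theorem L699617 : sm gf N51236 = N50088 := ded_48_1 (flp_i L688185) (flp_f L677985) L699609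
theorem L699619 : sm gg N51236 = N50262 := ded_51_1 (flp_i L689824) (flp_g L677980) L699609
theorem L699621 : sm gj N51236 = N50085 := ded_53_1 (flp_i L688156) (flp_j L677982) L699609
theorem L699623 : sm gh N49134 = N51237 := rfl
theorem L699625 : sm gb N51237 = N49137 := ded_25_1 (flp_h L678023) (flp_b L677989) L699623
theorem L699627 : sm gc N51237 = N49154 := ded_32_1 (flp_h L678217) (flp_c L677991) L699623
theorem L699629 : sm gf N51237 = N49143 := ded_47_1 (flp_h L678096) (flp_f L677993) L699623
theorem L699631 : sm gg N51237 = N50263 := ded_50_1 (flp_h L689833) (flp_g L677995) L699623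
theorem L699633 : sm gi N51237 = N51237 := ded_54_2 (flp_h L699623) (flp_i L677987) L655990 L677987 L699623
theorem L699634 : sm gh N49135 = N51238 := rfl
theorem L699636 : sm ga N51238 = N50168 := ded_17_1 L688996 (flp_a L677999) L699634
theorem L699638 : sm gc N51238 = N50062 := ded_32_1 L687907 (flp_c L678007) L699634
theorem L699640 : sm gf N51238 = N49964 := ded_47_1 L686846 (flp_f L678001) L699634
theorem L699642 : sm gg N51238 = N50264 := ded_50_1 (flp_h L689842) (flp_g L678003) L699634
theorem L699644 : sm gj N51238 = N49965 := ded_52_1 L686856 (flp_j L678005) L699634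
theorem L699646 : sm gd N51238 = N51238 := ded_38_1 (flp_h L699634) (flp_d L677997) L656003 L677997 L699634
theorem L699647 : sm gi N49135 = N51239 := rfl
theorem L699649 : sm ga N51239 = N50678 := ded_18_1 (flp_i L693035) (flp_a L677999) L699647
theorem L699651 : sm gc N51239 = N50069 := ded_33_1 (flp_i L687981) (flp_c L678007) L699647
theorem L699653 : sm gd N51239 = N49136 := ded_39_1 (flp_i L678009) L677997 L699647
theorem L699655 : sm gf N51239 = N50076 := ded_48_1 (flp_i L688050) (flp_f L678001) L699647
theorem L699657 : sm gg N51239 = N50265 := ded_51_1 (flp_i L689846) (flp_g L678003) L699647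
theorem L699659 : sm gj N51239 = N50072 := ded_53_1 (flp_i L688009) (flp_j L678005) L699647
theorem L699661 : sm gh N49136 = N51240 := rfl
theorem L699663 : sm ga N51240 = N50817 := ded_17_1 (flp_h L694171) (flp_a L678011) L699661
theorem L699665 : sm gc N51240 = N49138 := ded_32_1 (flp_h L678032) (flp_c L678013) L699661
theorem L699667 : sm ge N51240 = N49137 := ded_43_1 (flp_h L678023) (flp_e L678015) L699661
theorem L699669 : sm gf N51240 = N50089 := ded_47_1 (flp_h L688196) (flp_f L678017) L699661
theorem L699671 : sm gg N51240 = N50266 := ded_50_1 (flp_h L689851) (flp_g L678019) L699661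
theorem L699673 : sm gj N51240 = N50086 := ded_52_1 (flp_h L688164) (flp_j L678021) L699661
theorem L699675 : sm gi N51240 = N51240 := ded_54_2 (flp_h L699661) (flp_i L678009) L656003 L678009 L699661
theorem L699676 : sm gd N49137 = N51241 := rfl
theorem L699678 : sm gf N51241 = N49144 := ded_35_2 (flp_d L678105) (flp_f L678027) L699676
theorem L699680 : sm gg N51241 = N50267 := ded_36_2 (flp_d L689859) (flp_g L678029) L699676
theorem L699682 : sm gi N51241 = N51241 := ded_39_2 (flp_d L699676) L678031 L699676
theorem L699683 : sm gi N49139 = N51242 := rfl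
theorem L699685 : sm ga N51242 = N49140 := ded_18_1 (flp_i L678061) L678049 L699683
theorem L699687 : sm gb N51242 = N50797 := ded_26_1 L694012 (flp_b L678059) L699683
theorem L699689 : sm gc N51242 = N49157 := ded_33_1 (flp_i L678254) (flp_c L678051) L699683
theorem L699691 : sm ge N51242 = N50784 := ded_44_1 (flp_i L693879) (flp_e L678053) L699683
theorem L699693 : sm gg N51242 = N51242 := ded_51_1 (flp_i L699683) L678055 L699683
theorem L699694 : sm gj N51242 = N49142 := ded_53_1 (flp_i L678084) (flp_j L678056) L699683
theorem L699696 : sm gh N49140 = N51243 := rfl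
theorem L699698 : sm gb N51243 = N49141 := ded_25_1 (flp_h L678072) (flp_b L678063) L699696
theorem L699700 : sm gc N51243 = N49158 := ded_32_1 (flp_h L678264) (flp_c L678065) L699696
theorem L699702 : sm ge N51243 = N50785 := ded_43_1 (flp_h L693892) (flp_e L678067) L699696
theorem L699704 : sm gg N51243 = N51243 := ded_50_1 (flp_h L699696) L678069 L699696
theorem L699705 : sm gj N51243 = N49143 := ded_52_1 (flp_h L678096) (flp_j L678070) L699696
theorem L699707 : sm gi N51243 = N51243 := ded_54_2 (flp_h L699696) (flp_i L678061) L656046 L678061 L699696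
theorem L699708 : sm gd N49141 = N51244 := rfl
theorem L699710 : sm ga N51244 = N50810 := ded_12_1 (flp_d L694107) (flp_a L678074) L699708
theorem L699712 : sm gg N51244 = N51244 := ded_36_2 (flp_d L699708) L678080 L699708
theorem L699713 : sm gj N51244 = N49144 := ded_37_2 (flp_d L678105) (flp_j L678081) L699708
theorem L699715 : sm gi N51244 = N51244 := ded_39_2 (flp_d L699708) L678083 L699708
theorem L699716 : sm gh N49142 = N51245 := rfl
theorem L699718 : sm ga N51245 = N49143 := ded_17_1 (flp_h L678096) (flp_a L678086) L699716
theorem L699720 : sm gb N51245 = N50792 := ded_25_1 L693972 (flp_b L678088) L699716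
theorem L699722 : sm gc N51245 = N49160 := ded_32_1 (flp_h L678281) (flp_c L678090) L699716
theorem L699724 : sm ge N51245 = N50791 := ded_43_1 L693963 (flp_e L678092) L699716
theorem L699726 : sm gg N51245 = N49145 := ded_50_1 (flp_h L678110) (flp_g L678094) L699716
theorem L699728 : sm gi N51245 = N51245 := ded_54_2 (flp_h L699716) (flp_i L678084) L656080 L678084 L699716
theorem L699729 : sm gd N49143 = N51246 := rfl
theorem L699731 : sm gb N51246 = N49144 := ded_20_1 (flp_d L678105) (flp_b L678098) L699729
theorem L699733 : sm gg N51246 = N49146 := ded_36_2 (flp_d L678124) (flp_g L678102) L699729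
theorem L699735 : sm gi N51246 = N51246 := ded_39_2 (flp_d L699729) L678104 L699729
theorem L699736 : sm ge N49144 = N51247 := rfl
theorem L699738 : sm ga N51247 = N50823 := ded_13_1 (flp_e L698480) L698469 L699736
theorem L699740 : sm gg N51247 = N49147 := ded_41_2 (flp_e L678132) (flp_g L678107) L699736
theorem L699742 : sm gi N51247 = N51247 := ded_44_2 (flp_e L699736) L678109 L699736
theorem L699743 : sm gd N51247 = N50820 := ded_34_1 L694198 (flp_d L673413) L673405 L678105 L699736
theorem L699745 : sm ge N49146 = N51248 := rfl
theorem L699747 : sm ga N51248 = N50094 := ded_13_1 (flp_e L699508) L699506 L699745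
theorem L699749 : sm gb N51248 = N49147 := ded_21_1 (flp_e L678132) (flp_b L678126) L699745
theorem L699751 : sm gc N51248 = N49701 := ded_28_1 (flp_e L698434) L698432 L699745
theorem L699753 : sm gj N51248 = N51248 := ded_42_2 (flp_e L699745) L678130 L699745
theorem L699754 : sm gi N51248 = N51248 := ded_44_2 (flp_e L699745) L678131 L699745
theorem L699755 : sm gd N51248 = N50093 := ded_34_1 L688248 (flp_d L673428) L673424 L678124 L699745
theorem L699757 : sm gf N51248 = N49702 := ded_40_2 L684174 (flp_f L685916) L685914 (flp_f L678128) L699745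
theorem L699759 : sm gf N49147 = N51249 := rfl
theorem L699761 : sm ga N51249 = N50833 := ded_14_1 L694308 (flp_a L678134) L699759
theorem L699763 : sm gb N51249 = N49702 := ded_22_1 (flp_f L699757) L699749 L699759
theorem L699765 : sm gd N51249 = N50830 := ded_35_1 L694280 (flp_d L678138) L699759
theorem L699767 : sm gj N51249 = N51249 := ded_46_2 (flp_f L699759) L678136 L699759
theorem L699768 : sm gi N51249 = N51249 := ded_48_2 (flp_f L699759) L678137 L699759
theorem L699769 : sm ge N51249 = N49889 := ded_40_1 L685926 (flp_e L667482) (flp_f L656123) L678132 L699759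
theorem L699771 : sm gi N49148 = N51250 := rfl
theorem L699773 : sm ga N51250 = N49149 := ded_18_1 (flp_i L678154) L678140 L699771
theorem L699775 : sm gb N51250 = N51250 := ded_26_1 (flp_i L699771) L678153 L699771
theorem L699776 : sm gd N51250 = N49918 := ded_39_1 (flp_i L686259) (flp_d L678142) L699771
theorem L699778 : sm ge N51250 = N50096 := ded_44_1 (flp_i L688268) (flp_e L678144) L699771
theorem L699780 : sm gf N51250 = N49157 := ded_48_1 (flp_i L678254) (flp_f L678146) L699771
theorem L699782 : sm gg N51250 = N50723 := ded_51_1 (flp_i L693379) (flp_g L678148) L699771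
theorem L699784 : sm gj N51250 = N49152 := ded_53_1 (flp_i L678192) (flp_j L678150) L699771
theorem L699786 : sm gh N49149 = N51251 := rfl
theorem L699788 : sm gb N51251 = N49150 := ded_25_1 (flp_h L678166) (flp_b L678156) L699786
theorem L699790 : sm ge N51251 = N50097 := ded_43_1 (flp_h L688279) (flp_e L678160) L699786
theorem L699792 : sm gf N51251 = N49158 := ded_47_1 (flp_h L678264) (flp_f L678162) L699786
theorem L699794 : sm gj N51251 = N49154 := ded_52_1 (flp_h L678217) (flp_j L678164) L699786
theorem L699796 : sm gi N51251 = N51251 := ded_54_2 (flp_h L699786) (flp_i L678154) L656137 L678154 L699786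
theorem L699797 : sm gd N49150 = N51252 := rfl
theorem L699799 : sm ga N51252 = N51252 := ded_12_1 (flp_d L699797) L678168 L699797
theorem L699800 : sm gf N51252 = N49159 := ded_35_2 (flp_d L678272) (flp_f L678173) L699797
theorem L699802 : sm gg N51252 = N49606 := ded_36_2 (flp_d L697508) L697504 L699797
theorem L699804 : sm gj N51252 = N49156 := ded_37_2 (flp_d L678242) (flp_j L678175) L699797
theorem L699806 : sm gi N51252 = N51252 := ded_39_2 (flp_d L699797) L678177 L699797
theorem L699807 : sm gc N51252 = N49438 := ded_27_1 (flp_d L697465) L697455 L676216 (flp_c L678169) L699797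
theorem L699809 : sm ge N51252 = N49437 := ded_34_2 L681552 L688298 (flp_d L688286) (flp_e L678171) L699797
theorem L699811 : sm gh N51252 = N49436 := ded_38_2 L681531 L663414 (flp_d L656143) L678166 L699797
theorem L699813 : sm gi N49151 = N51253 := rfl
theorem L699815 : sm ga N51253 = N49153 := ded_18_1 (flp_i L678203) (flp_a L678180) L699813
theorem L699817 : sm gb N51253 = N51253 := ded_26_1 (flp_i L699813) L678182 L699813
theorem L699818 : sm gd N51253 = N49935 := ded_39_1 (flp_i L686497) (flp_d L678188) L699813
theorem L699820 : sm ge N51253 = N49152 := ded_44_1 (flp_i L678192) L678178 L699813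
theorem L699822 : sm gf N51253 = N50099 := ded_48_1 (flp_i L688300) (flp_f L678190) L699813
theorem L699824 : sm gg N51253 = N49937 := ded_51_1 (flp_i L686520) (flp_g L678183) L699813
theorem L699826 : sm gj N51253 = N50096 := ded_53_1 (flp_i L688268) (flp_j L678185) L699813
theorem L699828 : sm gh N49152 = N51254 := rfl
theorem L699830 : sm ga N51254 = N49154 := ded_17_1 (flp_h L678217) (flp_a L678194) L699828
theorem L699832 : sm gb N51254 = N51254 := ded_25_1 (flp_h L699828) L678196 L699828
theorem L699833 : sm gf N51254 = N49160 := ded_47_1 (flp_h L678281) (flp_f L678199) L699828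
theorem L699835 : sm gg N51254 = N50276 := ded_50_1 (flp_h L689938) (flp_g L678201) L699828
theorem L699837 : sm gi N51254 = N51254 := ded_54_2 (flp_h L699828) (flp_i L678192) L656169 L678192 L699828
theorem L699838 : sm gh N49153 = N51255 := rfl
theorem L699840 : sm gb N51255 = N49155 := ded_25_1 (flp_h L678226) (flp_b L678205) L699838
theorem L699842 : sm ge N51255 = N49154 := ded_43_1 (flp_h L678217) (flp_e L678209) L699838
theorem L699844 : sm gf N51255 = N50100 := ded_47_1 (flp_h L688310) (flp_f L678211) L699838
theorem L699846 : sm gg N51255 = N50277 := ded_50_1 (flp_h L689946) (flp_g L678213) L699838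
theorem L699848 : sm gj N51255 = N50097 := ded_52_1 (flp_h L688279) (flp_j L678215) L699838
theorem L699850 : sm gd N51255 = N50487 := ded_38_1 (flp_h L691565) (flp_d L691553) L691563 (flp_d L678207) L699838
theorem L699852 : sm gi N51255 = N51255 := ded_54_2 (flp_h L699838) (flp_i L678203) L656179 L678203 L699838
theorem L699853 : sm gd N49154 = N51256 := rfl
theorem L699855 : sm gb N51256 = N49156 := ded_20_1 (flp_d L678242) (flp_b L678219) L699853
theorem L699857 : sm gf N51256 = N49161 := ded_35_2 (flp_d L678289) (flp_f L678221) L699853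
theorem L699859 : sm gg N51256 = N50278 := ded_36_2 (flp_d L689954) (flp_g L678223) L699853
theorem L699861 : sm gi N51256 = N51256 := ded_39_2 (flp_d L699853) L678225 L699853
theorem L699862 : sm ge N51256 = N50461 := ded_34_2 L691355 (flp_e L691569) (flp_d L699850) L699842 L699853
theorem L699864 : sm gh N51256 = N49922 := ded_38_2 (flp_d L686318) (flp_h L663517) (flp_d L656188) L678217 L699853
theorem L699866 : sm gh N49157 = N51257 := rfl
theorem L699868 : sm ga N51257 = N49158 := ded_17_1 (flp_h L678264) (flp_a L678256) L699866
theorem L699870 : sm gb N51257 = N51257 := ded_25_1 (flp_h L699866) L678258 L699866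
theorem L699871 : sm gg N51257 = N51257 := ded_50_1 (flp_h L699866) L678261 L699866
theorem L699872 : sm gj N51257 = N49160 := ded_52_1 (flp_h L678281) (flp_j L678262) L699866
theorem L699874 : sm gi N51257 = N51257 := ded_54_2 (flp_h L699866) (flp_i L678254) L656240 L678254 L699866
theorem L699875 : sm gd N49158 = N51258 := rfl
theorem L699877 : sm gb N51258 = N49159 := ded_20_1 (flp_d L678272) (flp_b L678266) L699875
theorem L699879 : sm gg N51258 = N51258 := ded_36_2 (flp_d L699875) L678268 L699875
theorem L699880 : sm gj N51258 = N49161 := ded_37_2 (flp_d L678289) (flp_j L678269) L699875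
theorem L699882 : sm gi N51258 = N51258 := ded_39_2 (flp_d L699875) L678271 L699875
theorem L699883 : sm gh N51258 = N49924 := ded_38_2 (flp_d L686341) (flp_h L663575) (flp_d L656246) L678264 L699875
theorem L699885 : sm ge N49159 = N51259 := rfl
theorem L699887 : sm ga N51259 = N51259 := ded_13_1 (flp_e L699885) L678274 L699885
theorem L699888 : sm gc N51259 = N49323 := ded_28_1 L697542 L697538 L699885
theorem L699890 : sm gg N51259 = N51259 := ded_41_2 (flp_e L699885) L678275 L699885
theorem L699891 : sm gj N51259 = N49162 := ded_42_2 (flp_e L678298) (flp_j L678276) L699885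
theorem L699893 : sm gh N51259 = N49321 := ded_43_2 L680293 (flp_h L678279) L699885
theorem L699895 : sm gi N51259 = N51259 := ded_44_2 (flp_e L699885) L678278 L699885
theorem L699896 : sm gd N51259 = N50782 := ded_34_1 L694832 (flp_d L694821) L673507 L678272 L699885
theorem L699898 : sm gf N51259 = N49327 := ded_40_2 L680367 (flp_f L681546) (flp_e L699809) L699800 L699885
theorem L699900 : sm gh N49163 = N51260 := rfl
theorem L699902 : sm ga N51260 = N49167 := ded_17_1 (flp_h L678376) (flp_a L678312) L699900
theorem L699904 : sm gb N51260 = N49172 := ded_25_1 (flp_h L678447) (flp_b L678314) L699900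
theorem L699906 : sm gc N51260 = N49195 := ded_32_1 (flp_h L678779) (flp_c L678316) L699900
theorem L699908 : sm ge N51260 = N49224 := ded_43_1 (flp_h L679149) (flp_e L678320) L699900
theorem L699910 : sm gf N51260 = N49164 := ded_47_1 (flp_h L678328) (flp_f L678322) L699900
theorem L699912 : sm gg N51260 = N49170 := ded_50_1 (flp_h L678417) (flp_g L678324) L699900
theorem L699914 : sm gj N51260 = N49305 := ded_52_1 (flp_h L680058) (flp_j L678326) L699900
theorem L699916 : sm gd N51260 = N51260 := ded_38_1 (flp_h L699900) L678318 L656358 (flp_d L678318) L699900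
theorem L699917 : sm gi N51260 = N51260 := ded_54_2 (flp_h L699900) (flp_i L678310) L656341 L678310 L699900
theorem L699918 : sm gh N49165 = N51261 := rfl
theorem L699920 : sm ga N51261 = N49170 := ded_17_1 (flp_h L678417) (flp_a L678345) L699918
theorem L699922 : sm gb N51261 = N51261 := ded_25_1 (flp_h L699918) L678347 L699918
theorem L699923 : sm gc N51261 = N49219 := ded_32_1 (flp_h L679079) (flp_c L678348) L699918
theorem L699925 : sm ge N51261 = N49201 := ded_43_1 (flp_h L678864) (flp_e L678352) L699918
theorem L699927 : sm gf N51261 = N51261 := ded_47_1 (flp_h L699918) L678354 L699918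
theorem L699928 : sm gg N51261 = N49167 := ded_50_1 (flp_h L678376) (flp_g L678355) L699918
theorem L699930 : sm gj N51261 = N49307 := ded_52_1 (flp_h L680089) (flp_j L678357) L699918
theorem L699932 : sm gd N51261 = N51261 := ded_38_1 (flp_h L699918) L678350 L656403 (flp_d L678350) L699918
theorem L699933 : sm gi N51261 = N51261 := ded_54_2 (flp_h L699918) (flp_i L678343) L656388 L678343 L699918
theorem L699934 : sm gh N49166 = N51262 := rfl
theorem L699936 : sm ga N51262 = N49224 := ded_17_1 (flp_h L679149) (flp_a L678361) L699934
theorem L699938 : sm gb N51262 = N51262 := ded_25_1 (flp_h L699934) L678363 L699934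
theorem L699939 : sm gc N51262 = N49221 := ded_32_1 (flp_h L679107) (flp_c L678364) L699934
theorem L699941 : sm ge N51262 = N49167 := ded_43_1 (flp_h L678376) (flp_e L678368) L699934
theorem L699943 : sm gf N51262 = N50322 := ded_47_1 (flp_h L690323) (flp_f L678370) L699934
theorem L699945 : sm gg N51262 = N49201 := ded_50_1 (flp_h L678864) (flp_g L678372) L699934
theorem L699947 : sm gj N51262 = N49312 := ded_52_1 (flp_h L680158) (flp_j L678374) L699934
theorem L699949 : sm gd N51262 = N49260 := ded_38_1 (flp_h L679554) L657566 (flp_h L656847) (flp_d L678366) L699934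
theorem L699951 : sm gi N51262 = N51262 := ded_54_2 (flp_h L699934) (flp_i L678359) L656432 L678359 L699934
theorem L699952 : sm gd N49168 = N51263 := rfl
theorem L699954 : sm ga N51263 = N50752 := ded_12_1 (flp_d L693600) (flp_a L678389) L699952
theorem L699956 : sm gb N51263 = N51263 := ded_20_1 (flp_d L699952) L678391 L699952
theorem L699957 : sm gf N51263 = N50754 := ded_35_2 (flp_d L693626) (flp_f L678396) L699952
theorem L699959 : sm gg N51263 = N51263 := ded_36_2 (flp_d L699952) L678398 L699952
theorem L699960 : sm gj N51263 = N49314 := ded_37_2 (flp_d L680186) (flp_j L678399) L699952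
theorem L699962 : sm gi N51263 = N51263 := ded_39_2 (flp_d L699952) L678401 L699952
theorem L699963 : sm gc N51263 = N50746 := ded_27_1 (flp_d L693546) (flp_c L673908) L673915 (flp_c L678392) L699952
theorem L699965 : sm ge N51263 = N51263 := ded_34_2 (flp_d L699952) L678394 L656471 (flp_e L678394) L699952
theorem L699966 : sm gh N51263 = N51263 := ded_38_2 (flp_d L699952) (flp_h L678387) L656455 L678387 L699952
theorem L699967 : sm gh N49169 = N51264 := rfl
theorem L699969 : sm ga N51264 = N49219 := ded_17_1 (flp_h L679079) (flp_a L678404) L699967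
theorem L699971 : sm gb N51264 = N50747 := ded_25_1 L695083 L695070 L699967
theorem L699973 : sm gc N51264 = N49170 := ded_32_1 (flp_h L678417) (flp_c L678406) L699967
theorem L699975 : sm ge N51264 = N49226 := ded_43_1 (flp_h L679174) (flp_e L678410) L699967
theorem L699977 : sm gf N51264 = N51264 := ded_47_1 (flp_h L699967) L678412 L699967
theorem L699978 : sm gg N51264 = N49195 := ded_50_1 (flp_h L678779) (flp_g L678413) L699967
theorem L699980 : sm gj N51264 = N49319 := ded_52_1 (flp_h L680256) (flp_j L678415) L699967
theorem L699982 : sm gd N51264 = N49256 := ded_38_1 (flp_h L679507) L657491 (flp_h L656765) (flp_d L678408) L699967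
theorem L699984 : sm gi N51264 = N51264 := ded_54_2 (flp_h L699967) (flp_i L678402) L656484 L678402 L699967
theorem L699985 : sm gh N49173 = N51265 := rfl
theorem L699987 : sm ga N51265 = N50748 := ded_17_1 L694419 L694406 L699985
theorem L699989 : sm gb N51265 = N49174 := ded_25_1 (flp_h L678474) (flp_b L678464) L699985
theorem L699991 : sm gc N51265 = N50747 := ded_32_1 L695083 L695072 L699985
theorem L699993 : sm ge N51265 = N49228 := ded_43_1 (flp_h L679196) (flp_e L678467) L699985
theorem L699995 : sm gf N51265 = N51265 := ded_47_1 (flp_h L699985) L678469 L699985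
theorem L699996 : sm gg N51265 = N50316 := ded_50_1 (flp_h L690269) (flp_g L678470) L699985
theorem L699998 : sm gj N51265 = N49329 := ded_52_1 (flp_h L680389) (flp_j L678472) L699985
theorem L700000 : sm gi N51265 = N51265 := ded_54_2 (flp_h L699985) (flp_i L678462) L656570 L678462 L699985
theorem L700001 : sm gd N50756 = N51265 := ded_55_89 L700000 (flp_h L699985) L678466 L678469 L678467 L657247 L359103 (flp_c L631987) L354200 (flp_i L243786) (flp_h L168029) (flp_d L167390) L167392 (flp_e L121220) L83767 (flp_b L83753) L83755 (flp_d L90758) L90762 L625462 L46622 (flp_f L625496) L62903 L62906 L62901 L43643 L43647 L438828 (flp_h L43639) (flp_d L30346) L30354 L30363 (flp_d L30697) (flp_b L44129) (flp_c L63660) (flp_d L84429) (flp_i L122027) L177045 L591668 L124252 (flp_e L117338) L170083 L550481 (flp_c L357910) L357916 L656448 L678387 L699952 L699957 (flp_e L693639) (flp_d L693573) L693572 (flp_c L693566) (flp_d L671684) L649550 (flp_h L649541) (flp_d L649438) L649440 (flp_e L671644) (flp_d L690210) L690208 L668011 L381779 (flp_i L262422) L180550 L612262 L257568 L257574 L612200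 L612194 L262289 L262290 (flp_i L261710) (flp_h L637294) (flp_d L664615) L664617 (flp_e L667653) (flp_d L667643) L611856 L262101 L262236 L381588 L667894 (flp_d L680020) L680014 L668183 L671792 L671796 (flp_c L693660)
theorem L700003 : sm gh N49175 = N51266 := rfl
theorem L700005 : sm ga N51266 = N49263 := ded_17_1 (flp_h L679587) (flp_a L678491) L700003
theorem L700007 : sm gb N51266 = N49187 := ded_25_1 (flp_h L678668) (flp_b L678493) L700003
theorem L700009 : sm gc N51266 = N51266 := ded_32_1 (flp_h L700003) L678495 L700003
theorem L700010 : sm ge N51266 = N49179 := ded_43_1 (flp_h L678550) (flp_e L678498) L700003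
theorem L700012 : sm gf N51266 = N49235 := ded_47_1 (flp_h L679284) (flp_f L678500) L700003
theorem L700014 : sm gg N51266 = N49335 := ded_50_1 (flp_h L680476) (flp_g L678504) L700003
theorem L700016 : sm gj N51266 = N49176 := ded_52_1 (flp_h L678506) L678489 L700003
theorem L700018 : sm gd N51266 = N49401 := ded_38_1 (flp_h L695594) L695588 L674611 (flp_d L678496) L700003
theorem L700020 : sm gi N51266 = N50761 := ded_54_2 (flp_h L693700) (flp_i L671916) L657293 (flp_i L678502) L700003
theorem L700022 : sm gd N49176 = N51267 := rfl
theorem L700024 : sm ga N51267 = N49264 := ded_12_1 (flp_d L679602) (flp_a L678508) L700022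
theorem L700026 : sm gb N51267 = N49188 := ded_20_1 (flp_d L678682) (flp_b L678510) L700022
theorem L700028 : sm gf N51267 = N49236 := ded_35_2 (flp_d L679294) (flp_f L678515) L700022
theorem L700030 : sm gg N51267 = N49177 := ded_36_2 (flp_d L678519) (flp_g L678517) L700022
theorem L700032 : sm gj N51267 = N49401 := ded_37_2 (flp_d L700018) L700016 L700022
theorem L700034 : sm ge N51267 = N49213 := ded_34_2 L679010 (flp_e L673880) L673878 (flp_e L678513) L700022
theorem L700036 : sm gh N51267 = N49242 := ded_38_2 (flp_d L679357) (flp_h L657388) (flp_d L656601) L678506 L700022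
theorem L700038 : sm gc N51267 = N49277 := ded_56_4 (flp_b L694942) L694940 (flp_h L694916) L694920 (flp_e L679700) L657658 (flp_c L657650) (flp_b L652485) L652483 (flp_h L652389) L652379 L664485 L664497 L374483 L550196 L261545 (flp_h L180081) (flp_f L169894) (flp_e L169886) L117208 L117206 L81081 L56216 L81125 L81128 L56226 L41150 (flp_c L58407) (flp_b L84325) L592201 L61088 (flp_f L67217) L97215 (flp_d L140787) (flp_c L620656) L175983 L121359 L176037 (flp_f L644341) L242792 L167398 L115565 L80004 L80003 L80008 (flp_f L115450) L115446 L115445 (flp_c L167207) L643785 L142344 L98508 (flp_f L140723) L644866 (flp_d L140855) (flp_c L199013) (flp_b L281651) L648328 L656635 L656642 (flp_e L678513) L700022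
theorem L700040 : sm gi N49176 = N51268 := rfl
theorem L700042 : sm ga N51268 = N49265 := ded_18_1 (flp_i L679612) (flp_a L678508) L700040
theorem L700044 : sm gb N51268 = N49189 := ded_26_1 (flp_i L678694) (flp_b L678510) L700040
theorem L700046 : sm gc N51268 = N51268 := ded_33_1 (flp_i L700040) L678512 L700040
theorem L700047 : sm ge N51268 = N49180 := ded_44_1 (flp_i L678566) (flp_e L678513) L700040
theorem L700049 : sm gf N51268 = N49237 := ded_48_1 (flp_i L679302) (flp_f L678515) L700040
theorem L700051 : sm gg N51268 = N49178 := ded_51_1 (flp_i L678535) (flp_g L678517) L700040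
theorem L700053 : sm gj N51268 = N50761 := ded_53_1 (flp_i L700020) L700016 L700040
theorem L700055 : sm gh N51268 = N49232 := ded_54_1 (flp_i L679250) (flp_h L657295) (flp_i L656605) L678506 L700040
theorem L700057 : sm gi N49177 = N51269 := rfl
theorem L700059 : sm ga N51269 = N49980 := ded_18_1 (flp_i L687021) (flp_a L678521) L700057
theorem L700061 : sm gb N51269 = N49192 := ded_26_1 (flp_i L678736) (flp_b L678523) L700057
theorem L700063 : sm gc N51269 = N50303 := ded_33_1 (flp_i L690175) L678533 L700057
theorem L700065 : sm gd N51269 = N49178 := ded_39_1 (flp_i L678535) L678519 L700057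
theorem L700067 : sm ge N51269 = N50302 := ded_44_1 (flp_i L690167) (flp_e L678529) L700057
theorem L700069 : sm gf N51269 = N49969 := ded_48_1 (flp_i L686898) (flp_f L678525) L700057
theorem L700071 : sm gj N51269 = N49338 := ded_53_1 (flp_i L680508) (flp_j L678527) L700057
theorem L700073 : sm gd N49182 = N51270 := rfl
theorem L700075 : sm ga N51270 = N49202 := ded_12_1 (flp_d L678876) (flp_a L678600) L700073
theorem L700077 : sm gb N51270 = N49242 := ded_20_1 (flp_d L679357) (flp_b L678602) L700073
theorem L700079 : sm gf N51270 = N49231 := ded_35_2 (flp_d L679238) (flp_f L678606) L700073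
theorem L700081 : sm gg N51270 = N49183 := ded_36_2 (flp_d L678612) (flp_g L678608) L700073
theorem L700083 : sm gj N51270 = N49383 := ded_37_2 L681021 (flp_j L678610) L700073
theorem L700085 : sm gh N51270 = N49188 := ded_38_2 (flp_d L678682) (flp_h L656711) (flp_d L656665) L678598 L700073
theorem L700087 : sm gc N51270 = N49205 := ded_56_4 (flp_b L694875) L694873 L679728 (flp_f L657781) (flp_e L358979) (flp_d L246981) L170167 L117440 L81261 (flp_h L81259) L56310 (flp_e L41227) L28662 L19984 L13970 L10665 L8328 (flp_f L5985) (flp_e L4118) (flp_d L2806) L1936 L1378 L991 (flp_h L989) L692 L691 L690 L689 (flp_b L956) (flp_a L1208) L1756 L1762 L1761 L2553 L3735 L5426 L7825 L7832 L7828 L11197 L15994 L22892 L593228 L28159 L28163 (flp_f L28018) L40265 L58003 L58010 (flp_b L83745) L567468 (flp_h L98499) (flp_f L140713) L204216 L644988 (flp_c L354286) (flp_b L652311) L652309 L657295 (flp_f L678606) L678605 L700073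
theorem L700089 : sm ge N49204 = N51270 := ded_40_5 L700079 L679248 (flp_f L679819) (flp_e L679827) (flp_f L678904)
theorem L700091 : sm gi N49182 = N51271 := rfl
theorem L700093 : sm ga N51271 = N49203 := ded_18_1 (flp_i L678888) (flp_a L678600) L700091
theorem L700095 : sm gb N51271 = N49243 := ded_26_1 (flp_i L679365) (flp_b L678602) L700091
theorem L700097 : sm gc N51271 = N51271 := ded_33_1 (flp_i L700091) L678604 L700091
theorem L700098 : sm ge N51271 = N51271 := ded_44_1 (flp_i L700091) L678605 L700091
theorem L700099 : sm gf N51271 = N49232 := ded_48_1 (flp_i L679250) (flp_f L678606) L700091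
theorem L700101 : sm gg N51271 = N49184 := ded_51_1 (flp_i L678624) (flp_g L678608) L700091
theorem L700103 : sm gj N51271 = N50760 := ded_53_1 (flp_i L693692) (flp_j L678610) L700091
theorem L700105 : sm gh N51271 = N49237 := ded_54_1 (flp_i L679302) (flp_h L657351) (flp_i L656668) L678598 L700091
theorem L700107 : sm gc N49183 = N51272 := rfl
theorem L700109 : sm ga N51272 = N49204 := ded_11_1 (flp_c L678902) (flp_a L678614) L700107
theorem L700111 : sm gf N51272 = N49285 := ded_29_2 L679835 (flp_f L678618) L700107
theorem L700113 : sm gg N51272 = N49205 := ded_30_2 (flp_c L700087) L700081 L700107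
theorem L700115 : sm gj N51272 = N49345 := ded_31_2 (flp_c L680591) (flp_j L678620) L700107
theorem L700117 : sm gh N51272 = N49190 := ded_32_2 (flp_c L678706) (flp_h L678622) L700107
theorem L700119 : sm gb N51272 = N49287 := ded_19_1 L679860 (flp_b L674041) L674043 (flp_b L678616) L700107
theorem L700121 : sm gd N51272 = N51272 := ded_27_2 (flp_c L700107) (flp_d L678612) L656678 L678612 L700107
theorem L700122 : sm ge N49202 = N51272 := ded_13_0 L700109 L700089 L700075
theorem L700124 : sm ge N49183 = N51273 := rfl
theorem L700126 : sm ga N51273 = N49205 := ded_13_1 (flp_e L678911) (flp_a L678614) L700124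
theorem L700128 : sm gb N51273 = N49977 := ded_21_1 L687002 (flp_b L678616) L700124
theorem L700130 : sm gc N51273 = N49202 := ded_28_1 L700122 (flp_c L700107) L700124
theorem L700132 : sm gg N51273 = N49204 := ded_41_2 L700089 L700081 L700124
theorem L700134 : sm gj N51273 = N49346 := ded_42_2 (flp_e L680604) (flp_j L678620) L700124
theorem L700136 : sm gh N51273 = N49191 := ded_43_2 (flp_e L678720) (flp_h L678622) L700124
theorem L700138 : sm gd N51273 = N51273 := ded_34_1 (flp_e L700124) (flp_d L678612) L656679 L678612 L700124
theorem L700139 : sm gf N51273 = N49975 := ded_40_2 (flp_e L686966) L664617 (flp_e L667653) (flp_f L678618) L700124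
theorem L700141 : sm gi N49183 = N51274 := rfl
theorem L700143 : sm ga N51274 = N49206 := ded_18_1 (flp_i L678918) (flp_a L678614) L700141
theorem L700145 : sm gb N51274 = N50295 := ded_26_1 (flp_i L690111) (flp_b L678616) L700141
theorem L700147 : sm gd N51274 = N49184 := ded_39_1 (flp_i L678624) L678612 L700141
theorem L700149 : sm gf N51274 = N50280 := ded_48_1 (flp_i L689979) (flp_f L678618) L700141
theorem L700151 : sm gj N51274 = N49347 := ded_53_1 (flp_i L680617) (flp_j L678620) L700141
theorem L700153 : sm gh N49185 = N51275 := rfl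
theorem L700155 : sm ga N51275 = N49207 := ded_17_1 (flp_h L678926) (flp_a L678640) L700153
theorem L700157 : sm gb N51275 = N49235 := ded_25_1 (flp_h L679284) (flp_b L678642) L700153
theorem L700159 : sm gc N51275 = N49197 := ded_32_1 (flp_h L678807) (flp_c L678644) L700153
theorem L700161 : sm ge N51275 = N51275 := ded_43_1 (flp_h L700153) L678648 L700153
theorem L700162 : sm gf N51275 = N49187 := ded_47_1 (flp_h L678668) (flp_f L678649) L700153
theorem L700164 : sm gg N51275 = N49445 := ded_50_1 (flp_h L681636) (flp_g L678653) L700153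
theorem L700166 : sm gj N51275 = N49186 := ded_52_1 (flp_h L678655) L678638 L700153
theorem L700168 : sm gd N51275 = N49403 := ded_38_1 L681172 L669131 L657293 (flp_d L678646) L700153
theorem L700170 : sm gd N49186 = N51276 := rfl
theorem L700172 : sm ga N51276 = N49208 := ded_12_1 (flp_d L678941) (flp_a L678657) L700170
theorem L700174 : sm gb N51276 = N49236 := ded_20_1 (flp_d L679294) (flp_b L678659) L700170
theorem L700176 : sm gf N51276 = N49188 := ded_35_2 (flp_d L678682) (flp_f L678664) L700170
theorem L700178 : sm gg N51276 = N49229 := ded_36_2 (flp_d L679209) (flp_g L678666) L700170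
theorem L700180 : sm gj N51276 = N49403 := ded_37_2 (flp_d L700168) L700166 L700170
theorem L700182 : sm gc N51276 = N49215 := ded_27_1 L679036 L657043 L656823 (flp_c L678661) L700170
theorem L700184 : sm gh N51276 = N49231 := ded_38_2 (flp_d L679238) (flp_h L657295) (flp_d L656692) L678655 L700170
theorem L700186 : sm ge N49233 = N51276 := ded_56_2 (flp_d L700170) L678661 L656817 L656815 (flp_h L358421) (flp_f L246605) L169934 L117237 L81102 L81100 L56233 (flp_h L81030) L81033 L81029 (flp_d L117124) L117123 (flp_b L169712) (flp_a L246202) L357820 L357825 L614065 L357887 L357894 (flp_b L354030) L550515 L247042 (flp_f L247035) (flp_e L170206) (flp_d L117415) L81201 L56288 L39136 (flp_h L39134) L39127 L56304 L56309 (flp_c L80345) (flp_b L116074) (flp_a L168106) L243897 L243904 L177262 L122185 (flp_c L177225) (flp_b L257376) (flp_a L576347) (flp_h L591235) (flp_f L124212) (flp_e L117317) L117316 L117322 (flp_b L117314) L81155 L81199 (flp_f L117411) (flp_e L170169) L246981 L358971 L657752 L679813 L679825 (flp_f L679267)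
theorem L700188 : sm gi N49186 = N51277 := rfl
theorem L700190 : sm ga N51277 = N49209 := ded_18_1 (flp_i L678957) (flp_a L678657) L700188
theorem L700192 : sm gb N51277 = N49237 := ded_26_1 (flp_i L679302) (flp_b L678659) L700188
theorem L700194 : sm gc N51277 = N49198 := ded_33_1 (flp_i L678821) (flp_c L678661) L700188
theorem L700196 : sm ge N51277 = N51277 := ded_44_1 (flp_i L700188) L678663 L700188
theorem L700197 : sm gf N51277 = N49189 := ded_48_1 (flp_i L678694) (flp_f L678664) L700188
theorem L700199 : sm gg N51277 = N49230 := ded_51_1 (flp_i L679223) (flp_g L678666) L700188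
theorem L700201 : sm gh N51277 = N49243 := ded_54_1 (flp_i L679365) (flp_h L657388) (flp_i L656694) L678655 L700188
theorem L700203 : sm gi N49187 = N51278 := rfl
theorem L700205 : sm ga N51278 = N49211 := ded_18_1 (flp_i L678988) (flp_a L678670) L700203
theorem L700207 : sm gb N51278 = N50761 := ded_26_1 (flp_i L700020) L700007 L700203
theorem L700209 : sm gc N51278 = N49199 := ded_33_1 (flp_i L678835) (flp_c L678672) L700203
theorem L700211 : sm gd N51278 = N49404 := ded_39_1 (flp_i L681176) L678680 L700203
theorem L700213 : sm ge N51278 = N49193 := ded_44_1 (flp_i L678746) (flp_e L678674) L700203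
theorem L700215 : sm gg N51278 = N49353 := ded_51_1 (flp_i L680689) (flp_g L678676) L700203
theorem L700217 : sm gj N51278 = N49189 := ded_53_1 (flp_i L678694) (flp_j L678678) L700203
theorem L700219 : sm gh N51278 = N49245 := ded_54_1 (flp_i L679390) (flp_h L657399) (flp_i L656707) L678668 L700203
theorem L700221 : sm gi N49188 = N51279 := rfl
theorem L700223 : sm ga N51279 = N49212 := ded_18_1 (flp_i L679002) (flp_a L678684) L700221
theorem L700225 : sm gc N51279 = N49216 := ded_33_1 (flp_i L679044) (flp_c L678690) L700221
theorem L700227 : sm gd N51279 = N49189 := ded_39_1 (flp_i L678694) L678682 L700221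
theorem L700229 : sm ge N51279 = N49214 := ded_44_1 (flp_i L679020) (flp_e L678692) L700221
theorem L700231 : sm gg N51279 = N49192 := ded_51_1 (flp_i L678736) (flp_g L678686) L700221
theorem L700233 : sm gj N51279 = N49404 := ded_53_1 (flp_i L681176) (flp_j L678688) L700221
theorem L700235 : sm gi N49190 = N51280 := rfl
theorem L700237 : sm ga N51280 = N49214 := ded_18_1 (flp_i L679020) (flp_a L678708) L700235
theorem L700239 : sm gc N51280 = N49192 := ded_33_1 (flp_i L678736) L678706 L700235
theorem L700241 : sm gd N51280 = N49200 := ded_39_1 (flp_i L678850) (flp_d L678716) L700235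
theorem L700243 : sm ge N51280 = N49212 := ded_44_1 (flp_i L679002) L678718 L700235
theorem L700245 : sm gf N51280 = N50282 := ded_48_1 (flp_i L690007) (flp_f L678710) L700235
theorem L700247 : sm gg N51280 = N49216 := ded_51_1 (flp_i L679044) (flp_g L678712) L700235
theorem L700249 : sm gj N51280 = N49358 := ded_53_1 (flp_i L680745) (flp_j L678714) L700235
theorem L700251 : sm gi N49191 = N51281 := rfl
theorem L700253 : sm ga N51281 = N49216 := ded_18_1 (flp_i L679044) (flp_a L678722) L700251
theorem L700255 : sm gb N51281 = N50302 := ded_26_1 (flp_i L690167) (flp_b L678724) L700251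
theorem L700257 : sm gc N51281 = N49212 := ded_33_1 (flp_i L679002) (flp_c L678726) L700251
theorem L700259 : sm gd N51281 = N49194 := ded_39_1 (flp_i L678763) (flp_d L678732) L700251
theorem L700261 : sm ge N51281 = N49192 := ded_44_1 (flp_i L678736) L678720 L700251
theorem L700263 : sm gf N51281 = N50305 := ded_48_1 (flp_i L690184) (flp_f L678734) L700251
theorem L700265 : sm gg N51281 = N49214 := ded_51_1 (flp_i L679020) (flp_g L678728) L700251
theorem L700267 : sm gj N51281 = N49359 := ded_53_1 (flp_i L680755) (flp_j L678730) L700251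
theorem L700269 : sm gh N49192 = N51282 := rfl
theorem L700271 : sm ga N51282 = N49217 := ded_17_1 (flp_h L679052) (flp_a L678738) L700269
theorem L700273 : sm gf N51282 = N50283 := ded_47_1 (flp_h L690017) (flp_f L678742) L700269
theorem L700275 : sm gj N51282 = N49360 := ded_52_1 (flp_h L680763) (flp_j L678744) L700269
theorem L700277 : sm gd N51282 = N49253 := ded_38_1 (flp_h L679473) L657451 (flp_h L656741) (flp_d L678740) L700269
theorem L700279 : sm gh N49194 = N51283 := rfl
theorem L700281 : sm ga N51283 = N49221 := ded_17_1 (flp_h L679107) (flp_a L678765) L700279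
theorem L700283 : sm gb N51283 = N50315 := ded_25_1 (flp_h L690260) (flp_b L678767) L700279
theorem L700285 : sm gc N51283 = N49224 := ded_32_1 (flp_h L679149) (flp_c L678769) L700279
theorem L700287 : sm ge N51283 = N49195 := ded_43_1 (flp_h L678779) (flp_e L678771) L700279
theorem L700289 : sm gf N51283 = N50317 := ded_47_1 (flp_h L690282) (flp_f L678773) L700279
theorem L700291 : sm gg N51283 = N49226 := ded_50_1 (flp_h L679174) (flp_g L678775) L700279
theorem L700293 : sm gj N51283 = N49364 := ded_52_1 (flp_h L680809) (flp_j L678777) L700279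
theorem L700295 : sm gi N51283 = N51283 := ded_54_2 (flp_h L700279) (flp_i L678763) L656779 L678763 L700279
theorem L700296 : sm gh N49200 = N51284 := rfl
theorem L700298 : sm ga N51284 = N49226 := ded_17_1 (flp_h L679174) (flp_a L678852) L700296
theorem L700300 : sm gb N51284 = N50745 := ded_25_1 L695012 L695001 L700296
theorem L700302 : sm gc N51284 = N49201 := ded_32_1 (flp_h L678864) (flp_c L678854) L700296
theorem L700304 : sm ge N51284 = N49219 := ded_43_1 (flp_h L679079) (flp_e L678856) L700296
theorem L700306 : sm gf N51284 = N50285 := ded_47_1 (flp_h L690033) (flp_f L678858) L700296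
theorem L700308 : sm gg N51284 = N49221 := ded_50_1 (flp_h L679107) (flp_g L678860) L700296
theorem L700310 : sm gj N51284 = N49372 := ded_52_1 (flp_h L680909) (flp_j L678862) L700296
theorem L700312 : sm gi N51284 = N51284 := ded_54_2 (flp_h L700296) (flp_i L678850) L656861 L678850 L700296
theorem L700313 : sm gi N49202 = N51285 := rfl
theorem L700315 : sm gb N51285 = N50310 := ded_26_1 (flp_i L690222) (flp_b L678878) L700313
theorem L700317 : sm gd N51285 = N49203 := ded_39_1 (flp_i L678888) L678876 L700313
theorem L700319 : sm gf N51285 = N50308 := ded_48_1 (flp_i L690206) (flp_f L678880) L700313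
theorem L700321 : sm gg N51285 = N49206 := ded_51_1 (flp_i L678918) (flp_g L678882) L700313
theorem L700323 : sm gj N51285 = N50450 := ded_53_1 (flp_i L691275) (flp_j L678884) L700313
theorem L700325 : sm gb N49204 = N51286 := rfl
theorem L700327 : sm gd N51286 = N51286 := ded_20_2 (flp_b L700325) L678910 L700325
theorem L700328 : sm ge N51286 = N49242 := ded_21_2 (flp_b L700077) (flp_e L700089) L700325
theorem L700330 : sm gf N51286 = N49268 := ded_22_2 L679663 (flp_f L678904) L700325
theorem L700332 : sm gg N51286 = N49977 := ded_23_2 (flp_b L700128) L700132 L700325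
theorem L700334 : sm gj N51286 = N49382 := ded_24_2 (flp_b L681004) (flp_j L678906) L700325
theorem L700336 : sm gh N51286 = N49213 := ded_25_2 (flp_b L679008) (flp_h L678908) L700325
theorem L700338 : sm ga N51286 = N49277 := ded_10_1 (flp_b L694942) L694940 (flp_b L700119) L700109 L700325
theorem L700340 : sm gc N51286 = N49264 := ded_19_2 L679604 (flp_c L673593) L673585 L678902 L700325
theorem L700342 : sm gi N49204 = N51287 := rfl
theorem L700344 : sm gc N51287 = N49206 := ded_33_1 (flp_i L678918) L678902 L700342
theorem L700346 : sm gd N51287 = N51287 := ded_39_1 (flp_i L700342) L678910 L700342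
theorem L700347 : sm gf N51287 = N50286 := ded_48_1 (flp_i L690043) (flp_f L678904) L700342
theorem L700349 : sm gj N51287 = N49384 := ded_53_1 (flp_i L681023) (flp_j L678906) L700342
theorem L700351 : sm gf N49205 = N51288 := rfl
theorem L700353 : sm ga N51288 = N49975 := ded_14_1 (flp_f L700139) L700126 L700351
theorem L700355 : sm gb N51288 = N49239 := ded_22_1 (flp_f L694886) L694875 L700351
theorem L700357 : sm gc N51288 = N49231 := ded_29_1 (flp_f L700079) L700087 L700351
theorem L700359 : sm gd N51288 = N51288 := ded_35_1 (flp_f L700351) L678917 L700351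
theorem L700360 : sm gj N51288 = N49385 := ded_46_2 (flp_f L681030) (flp_j L678913) L700351
theorem L700362 : sm gh N51288 = N49215 := ded_47_2 (flp_f L679030) (flp_h L678915) L700351
theorem L700364 : sm ge N51288 = N49229 := ded_40_1 L679215 L667682 (flp_f L656917) L678911 L700351
theorem L700366 : sm gg N51288 = N49233 := ded_45_2 L679267 (flp_g L679837) (flp_f L700111) L700113 L700351
theorem L700368 : sm gi N49205 = N51289 := rfl
theorem L700370 : sm gd N51289 = N51289 := ded_39_1 (flp_i L700368) L678917 L700368
theorem L700371 : sm ge N51289 = N49206 := ded_44_1 (flp_i L678918) L678911 L700368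
theorem L700373 : sm gj N51289 = N49386 := ded_53_1 (flp_i L681043) (flp_j L678913) L700368
theorem L700375 : sm gh N49206 = N51290 := rfl
theorem L700377 : sm gf N51290 = N50287 := ded_47_1 (flp_h L690050) (flp_f L678922) L700375
theorem L700379 : sm gj N51290 = N49387 := ded_52_1 (flp_h L681048) (flp_j L678924) L700375
theorem L700381 : sm gd N51290 = N49276 := ded_38_1 (flp_h L679739) L657668 (flp_h L656931) (flp_d L678920) L700375
theorem L700383 : sm gi N51290 = N49217 := ded_54_2 (flp_h L679052) (flp_i L656995) (flp_h L656921) L678918 L700375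
theorem L700385 : sm gi N49208 = N51291 := rfl
theorem L700387 : sm gb N51291 = N49973 := ded_26_1 (flp_i L686942) (flp_b L678943) L700385
theorem L700389 : sm gc N51291 = N50305 := ded_33_1 (flp_i L690184) (flp_c L678951) L700385
theorem L700391 : sm gd N51291 = N49209 := ded_39_1 (flp_i L678957) L678941 L700385
theorem L700393 : sm ge N51291 = N50300 := ded_44_1 (flp_i L690152) L678955 L700385
theorem L700395 : sm gf N51291 = N49212 := ded_48_1 (flp_i L679002) (flp_f L678945) L700385
theorem L700397 : sm gg N51291 = N49976 := ded_51_1 (flp_i L686979) (flp_g L678947) L700385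
theorem L700399 : sm gj N51291 = N50413 := ded_53_1 (flp_i L691030) (flp_j L678949) L700385
theorem L700401 : sm gi N49210 = N51292 := rfl
theorem L700403 : sm ga N51292 = N49404 := ded_18_1 (flp_i L681176) (flp_a L678972) L700401
theorem L700405 : sm gb N51292 = N49991 := ded_26_1 L687155 (flp_b L678974) L700401
theorem L700407 : sm gc N51292 = N49359 := ded_33_1 (flp_i L680755) (flp_c L678982) L700401
theorem L700409 : sm gd N51292 = N49211 := ded_39_1 (flp_i L678988) L678970 L700401
theorem L700411 : sm ge N51292 = N49358 := ded_44_1 (flp_i L680745) (flp_e L678984) L700401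
theorem L700413 : sm gf N51292 = N50413 := ded_48_1 (flp_i L691030) (flp_f L678976) L700401
theorem L700415 : sm gg N51292 = N49394 := ded_51_1 (flp_i L681110) (flp_g L678978) L700401
theorem L700417 : sm gj N51292 = N49212 := ded_53_1 (flp_i L679002) (flp_j L678980) L700401
theorem L700419 : sm gh N49212 = N51293 := rfl
theorem L700421 : sm gg N51293 = N49217 := ded_50_1 (flp_h L679052) (flp_g L679006) L700419
theorem L700423 : sm gd N51293 = N49283 := ded_38_1 (flp_h L679809) L657748 (flp_h L656979) (flp_d L679004) L700419
theorem L700425 : sm gi N49213 = N51294 := rfl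
theorem L700427 : sm gb N51294 = N49214 := ded_26_1 (flp_i L679020) L679008 L700425
theorem L700429 : sm gc N51294 = N49278 := ded_33_1 (flp_i L679752) (flp_c L679018) L700425
theorem L700431 : sm gd N51294 = N49225 := ded_39_1 (flp_i L679162) (flp_d L679010) L700425
theorem L700433 : sm gf N51294 = N49281 := ded_48_1 (flp_i L679785) (flp_f L679012) L700425
theorem L700435 : sm gg N51294 = N50302 := ded_51_1 (flp_i L690167) (flp_g L679014) L700425
theorem L700437 : sm gj N51294 = N49402 := ded_53_1 (flp_i L681158) (flp_j L679016) L700425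
theorem L700439 : sm gh N49214 = N51295 := rfl
theorem L700441 : sm gc N51295 = N49217 := ded_32_1 (flp_h L679052) (flp_c L679022) L700439
theorem L700443 : sm gf N51295 = N50290 := ded_47_1 (flp_h L690073) (flp_f L679026) L700439
theorem L700445 : sm gj N51295 = N49405 := ded_52_1 (flp_h L681182) (flp_j L679028) L700439
theorem L700447 : sm gi N49215 = N51296 := rfl
theorem L700449 : sm ga N51296 = N50305 := ded_18_1 (flp_i L690184) (flp_a L679032) L700447
theorem L700451 : sm gb N51296 = N49252 := ded_26_1 (flp_i L679463) (flp_b L679034) L700447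
theorem L700453 : sm gd N51296 = N49220 := ded_39_1 (flp_i L679091) (flp_d L679036) L700447
theorem L700455 : sm ge N51296 = N49234 := ded_44_1 (flp_i L679274) (flp_e L679040) L700447
theorem L700457 : sm gf N51296 = N49216 := ded_48_1 (flp_i L679044) L679030 L700447
theorem L700459 : sm gg N51296 = N50307 := ded_51_1 (flp_i L690198) L679042 L700447
theorem L700461 : sm gj N51296 = N49407 := ded_53_1 (flp_i L681200) (flp_j L679038) L700447
theorem L700463 : sm gh N49216 = N51297 := rfl
theorem L700465 : sm ge N51297 = N49217 := ded_43_1 (flp_h L679052) (flp_e L679048) L700463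
theorem L700467 : sm gj N51297 = N49408 := ded_52_1 (flp_h L681210) (flp_j L679050) L700463
theorem L700469 : sm gh N49220 = N51298 := rfl
theorem L700471 : sm ga N51298 = N50317 := ded_17_1 (flp_h L690282) (flp_a L679093) L700469
theorem L700473 : sm gb N51298 = N49257 := ded_25_1 (flp_h L679520) (flp_b L679095) L700469
theorem L700475 : sm gc N51298 = N50322 := ded_32_1 (flp_h L690323) (flp_c L679097) L700469
theorem L700477 : sm ge N51298 = N49222 := ded_43_1 (flp_h L679114) (flp_e L679099) L700469
theorem L700479 : sm gf N51298 = N49221 := ded_47_1 (flp_h L679107) (flp_f L679101) L700469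
theorem L700481 : sm gg N51298 = N50319 := ded_50_1 (flp_h L690298) (flp_g L679103) L700469
theorem L700483 : sm gj N51298 = N49414 := ded_52_1 (flp_h L681269) (flp_j L679105) L700469
theorem L700485 : sm gi N51298 = N51298 := ded_54_2 (flp_h L700469) (flp_i L679091) L657047 L679091 L700469
theorem L700486 : sm gd N49221 = N51299 := rfl
theorem L700488 : sm gj N51299 = N49415 := ded_37_2 (flp_d L681278) (flp_j L679111) L700486
theorem L700490 : sm gi N51299 = N51299 := ded_39_2 (flp_d L700486) L679113 L700486
theorem L700491 : sm ge N51299 = N49297 := ded_34_2 (flp_d L679957) L657843 (flp_d L657064) (flp_e L679109) L700486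
theorem L700493 : sm gh N49225 = N51300 := rfl
theorem L700495 : sm ga N51300 = N50749 := ded_17_1 L695251 L695237 L700493
theorem L700497 : sm gb N51300 = N49226 := ded_25_1 (flp_h L679174) (flp_b L679164) L700493
theorem L700499 : sm gc N51300 = N49228 := ded_32_1 (flp_h L679196) (flp_c L679166) L700493
theorem L700501 : sm ge N51300 = N50747 := ded_43_1 L695083 L695076 L700493
theorem L700503 : sm gf N51300 = N49298 := ded_47_1 (flp_h L679962) (flp_f L679168) L700493
theorem L700505 : sm gg N51300 = N50315 := ded_50_1 (flp_h L690260) (flp_g L679170) L700493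
theorem L700507 : sm gj N51300 = N49429 := ded_52_1 (flp_h L681440) (flp_j L679172) L700493
theorem L700509 : sm gi N51300 = N51300 := ded_54_2 (flp_h L700493) (flp_i L679162) L657180 L679162 L700493
theorem L700510 : sm gd N49226 = N51301 := rfl
theorem L700512 : sm gf N51301 = N50292 := ded_35_2 (flp_d L690087) (flp_f L679178) L700510
theorem L700514 : sm gj N51301 = N49430 := ded_37_2 (flp_d L681453) (flp_j L679180) L700510
theorem L700516 : sm gi N51301 = N51301 := ded_39_2 (flp_d L700510) L679182 L700510
theorem L700517 : sm gc N51301 = N49301 := ded_27_1 (flp_d L680001) L657931 (flp_d L657199) (flp_c L679176) L700510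
theorem L700519 : sm gh N49227 = N51302 := rfl
theorem L700521 : sm ga N51302 = N49228 := ded_17_1 (flp_h L679196) (flp_a L679185) L700519
theorem L700523 : sm gb N51302 = N51302 := ded_25_1 (flp_h L700519) L679187 L700519
theorem L700524 : sm gc N51302 = N50749 := ded_32_1 L695251 L695241 L700519
theorem L700526 : sm ge N51302 = N50748 := ded_43_1 L694419 L694412 L700519
theorem L700528 : sm gf N51302 = N49260 := ded_47_1 (flp_h L679554) (flp_f L679190) L700519
theorem L700530 : sm gg N51302 = N50298 := ded_50_1 (flp_h L690133) (flp_g L679192) L700519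
theorem L700532 : sm gj N51302 = N49442 := ded_52_1 (flp_h L681595) (flp_j L679194) L700519
theorem L700534 : sm gd N51302 = N50322 := ded_38_1 (flp_h L690323) (flp_d L678826) L678833 (flp_d L679188) L700519
theorem L700536 : sm gi N51302 = N51302 := ded_54_2 (flp_h L700519) (flp_i L679183) L657241 L679183 L700519
theorem L700537 : sm gi N49229 = N51303 := rfl
theorem L700539 : sm ga N51303 = N49976 := ded_18_1 (flp_i L686979) (flp_a L679211) L700537
theorem L700541 : sm gb N51303 = N49240 := ded_26_1 (flp_i L679330) (flp_b L679213) L700537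
theorem L700543 : sm gc N51303 = N50307 := ded_33_1 (flp_i L690198) (flp_c L679219) L700537
theorem L700545 : sm gd N51303 = N49230 := ded_39_1 (flp_i L679223) L679209 L700537
theorem L700547 : sm gf N51303 = N50281 := ded_48_1 (flp_i L689993) (flp_f L679215) L700537
theorem L700549 : sm gj N51303 = N49448 := ded_53_1 (flp_i L681670) (flp_j L679217) L700537
theorem L700551 : sm gi N49231 = N51304 := rfl
theorem L700553 : sm ga N51304 = N50308 := ded_18_1 (flp_i L690206) (flp_a L679240) L700551
theorem L700555 : sm gb N51304 = N49248 := ded_26_1 (flp_i L679426) (flp_b L679242) L700551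
theorem L700557 : sm gd N51304 = N49232 := ded_39_1 (flp_i L679250) L679238 L700551
theorem L700559 : sm ge N51304 = N50307 := ded_44_1 (flp_i L690198) (flp_e L679248) L700551
theorem L700561 : sm gg N51304 = N49234 := ded_51_1 (flp_i L679274) (flp_g L679244) L700551
theorem L700563 : sm gj N51304 = N50448 := ded_53_1 (flp_i L691263) (flp_j L679246) L700551
theorem L700565 : sm gb N49233 = N51305 := rfl
theorem L700567 : sm gd N51305 = N51305 := ded_20_2 (flp_b L700565) L679273 L700565
theorem L700568 : sm ge N51305 = N49236 := ded_21_2 (flp_b L700174) (flp_e L700186) L700565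
theorem L700570 : sm gf N51305 = N49280 := ded_22_2 L679776 (flp_f L679267) L700565
theorem L700572 : sm gg N51305 = N49239 := ded_23_2 (flp_b L700355) L700366 L700565
theorem L700574 : sm gj N51305 = N49456 := ded_24_2 (flp_b L681756) (flp_j L679269) L700565
theorem L700576 : sm gh N51305 = N49247 := ded_25_2 L679418 (flp_h L679271) L700565
theorem L700578 : sm ga N51305 = N49269 := ded_10_1 L679668 L667805 L667915 (flp_a L679265) L700565
theorem L700580 : sm gc N51305 = N49249 := ded_19_2 (flp_b L679434) (flp_c L657429) (flp_b L657310) L679263 L700565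
theorem L700582 : sm gi N49233 = N51306 := rfl
theorem L700584 : sm ga N51306 = N50300 := ded_18_1 (flp_i L690152) (flp_a L679265) L700582
theorem L700586 : sm gc N51306 = N49234 := ded_33_1 (flp_i L679274) L679263 L700582
theorem L700588 : sm gd N51306 = N51306 := ded_39_1 (flp_i L700582) L679273 L700582
theorem L700589 : sm gf N51306 = N50289 := ded_48_1 (flp_i L690064) (flp_f L679267) L700582
theorem L700591 : sm gj N51306 = N49457 := ded_53_1 (flp_i L681767) (flp_j L679269) L700582
theorem L700593 : sm gh N49234 = N51307 := rfl
theorem L700595 : sm gb N51307 = N49253 := ded_25_1 (flp_h L679473) (flp_b L679276) L700593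
theorem L700597 : sm gf N51307 = N50291 := ded_47_1 (flp_h L690079) (flp_f L679280) L700593
theorem L700599 : sm gj N51307 = N49458 := ded_52_1 (flp_h L681776) (flp_j L679282) L700593
theorem L700601 : sm gd N49235 = N51308 := rfl
theorem L700603 : sm ga N51308 = N49266 := ded_12_1 (flp_d L679627) (flp_a L679286) L700601
theorem L700605 : sm gb N51308 = N49403 := ded_20_1 (flp_d L700168) L700157 L700601
theorem L700607 : sm gf N51308 = N49401 := ded_35_2 (flp_d L700018) L700012 L700601
theorem L700609 : sm gg N51308 = N49464 := ded_36_2 (flp_d L681838) (flp_g L679290) L700601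
theorem L700611 : sm gj N51308 = N49236 := ded_37_2 (flp_d L679294) (flp_j L679292) L700601
theorem L700613 : sm gh N51308 = N49244 := ded_38_2 (flp_d L679376) (flp_h L657399) (flp_d L657346) L679284 L700601
theorem L700615 : sm gc N51308 = N49490 := ded_56_4 L682084 L659673 (flp_h L660009) (flp_f L680739) L680737 (flp_d L673630) L673620 L652243 L354161 (flp_h L354159) L644295 L353396 L353394 L243251 L644329 L567653 (flp_h L256171) (flp_f L243133) (flp_e L243126) L167612 L167610 L115707 L80099 L115751 L115755 L80109 (flp_d L83976) (flp_c L643825) L115504 L115503 L643830 (flp_f L643815) L114842 L79643 (flp_c L115038) (flp_b L643933) L88527 L88679 L88685 L88683 L97709 L141501 L644767 L167707 L167712 L115895 L80204 L58298 L58297 (flp_b L84158) L641672 (flp_h L641819) (flp_f L141518) (flp_e L205336) (flp_d L271284) (flp_c L649784) (flp_b L657606) (flp_a L678491) L700003 L700012 L679289 L700601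
theorem L700617 : sm ge N49456 = N51308 := ded_56_2 (flp_d L700601) L679288 (flp_b L700157) L700155 (flp_h L678926) L656942 L358318 L246560 L246558 L169950 L117291 L170021 L170024 (flp_e L246693) L358522 L637358 (flp_b L381906) (flp_a L651372) L651381 (flp_f L651370) (flp_e L351234) (flp_d L241783) L166721 L115116 L79719 (flp_h L79717) (flp_f L55278) L38465 (flp_d L38458) L26813 L18757 L18756 L18760 L18922 (flp_e L26960) L26959 (flp_c L38676) (flp_b L55597) (flp_a L80145) (flp_h L114863) (flp_f L114857) (flp_e L79519) L55158 L55157 L55165 (flp_a L55155) L38385 L26945 L27046 L38821 L55829 L55835 (flp_a L56509) L81543 (flp_f L117926) (flp_e L170938) L248127 L360679 L659665 L682066 L682074 (flp_f L681759)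
theorem L700619 : sm gi N49235 = N51309 := rfl
theorem L700621 : sm ga N51309 = N49267 := ded_18_1 (flp_i L679641) (flp_a L679286) L700619
theorem L700623 : sm gc N51309 = N51309 := ded_33_1 (flp_i L700619) L679288 L700619
theorem L700624 : sm ge N51309 = N51309 := ded_44_1 (flp_i L700619) L679289 L700619
theorem L700625 : sm gf N51309 = N50761 := ded_48_1 (flp_i L700020) L700012 L700619
theorem L700627 : sm gg N51309 = N49465 := ded_51_1 (flp_i L681846) (flp_g L679290) L700619
theorem L700629 : sm gj N51309 = N49237 := ded_53_1 (flp_i L679302) (flp_j L679292) L700619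
theorem L700631 : sm gh N51309 = N50760 := ded_54_1 (flp_i L693692) L678596 L678592 L679284 L700619
theorem L700633 : sm gc N49236 = N51310 := rfl
theorem L700635 : sm ga N51310 = N49268 := ded_11_1 (flp_c L679655) (flp_a L679296) L700633
theorem L700637 : sm ge N51310 = N49249 := ded_28_2 (flp_c L700580) L700568 L700633
theorem L700639 : sm gf N51310 = N49277 := ded_29_2 (flp_c L700038) L700028 L700633
theorem L700641 : sm gg N51310 = N49238 := ded_30_2 (flp_c L679310) (flp_g L679298) L700633
theorem L700643 : sm gj N51310 = N49490 := ded_31_2 (flp_c L700615) L700611 L700633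
theorem L700645 : sm gh N51310 = N49246 := ded_32_2 (flp_c L679404) (flp_h L679300) L700633
theorem L700647 : sm gb N51310 = N49250 := ded_19_1 L679446 (flp_b L679034) (flp_c L700182) L700174 L700633
theorem L700649 : sm gd N51310 = N51310 := ded_27_2 (flp_c L700633) (flp_d L679294) L657355 L679294 L700633
theorem L700650 : sm gi N49236 = N51311 := rfl
theorem L700652 : sm ga N51311 = N49270 := ded_18_1 (flp_i L679677) (flp_a L679296) L700650
theorem L700654 : sm gd N51311 = N49237 := ded_39_1 (flp_i L679302) L679294 L700650
theorem L700656 : sm gg N51311 = N49240 := ded_51_1 (flp_i L679330) (flp_g L679298) L700650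
theorem L700658 : sm gb N49238 = N51312 := rfl
theorem L700660 : sm gd N51312 = N51312 := ded_20_2 (flp_b L700658) L679320 L700658
theorem L700661 : sm gf N51312 = N49269 := ded_22_2 L679668 (flp_f L679314) L700658
theorem L700663 : sm gg N51312 = N49250 := ded_23_2 (flp_b L700647) L700641 L700658
theorem L700665 : sm gj N51312 = N49469 := ded_24_2 (flp_b L681880) (flp_j L679316) L700658
theorem L700667 : sm gh N51312 = N49249 := ded_25_2 (flp_b L679434) (flp_h L679318) L700658
theorem L700669 : sm ga N51312 = N49280 := ded_10_1 L679776 L679696 (flp_b L679683) (flp_a L679312) L700658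
theorem L700671 : sm gc N51312 = N49247 := ded_19_2 L679418 (flp_c L679219) L679213 L679310 L700658
theorem L700673 : sm ge N49246 = N51312 := ded_56_2 L700660 L700671 L679418 (flp_a L667979) (flp_h L667920) (flp_f L679686) (flp_e L679698) L667708 (flp_c L380708) L261652 L261650 L180176 (flp_f L246638) (flp_e L357960) (flp_d L357953) (flp_c L614063) L357824 L357822 (flp_h L246317) L169717 L614238 L246176 L246174 L169655 L169653 L169718 L169722 L117095 L117099 (flp_c L117215) (flp_b L167960) (flp_a L575422) L124386 L137021 (flp_e L198993) (flp_d L612200) L257572 L177384 L122294 L177444 L177450 L122312 L84516 L84511 (flp_b L85900) (flp_a L124305) (flp_h L124303) L85802 (flp_e L124282) L124281 (flp_c L180327) L611870 L261524 L261699 (flp_f L358301) L358300 L656915 L678902 L700325 L700338 (flp_h L695199) L695201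
theorem L700675 : sm ge N49238 = N51313 := rfl
theorem L700677 : sm ga N51313 = N49272 := ded_13_1 (flp_e L679700) (flp_a L679312) L700675
theorem L700679 : sm gb N51313 = N49246 := ded_21_1 L700673 (flp_b L700658) L700675
theorem L700681 : sm gc N51313 = N49239 := ded_28_1 (flp_e L679321) L679310 L700675
theorem L700683 : sm gg N51313 = N49249 := ded_41_2 (flp_e L700637) L700641 L700675
theorem L700685 : sm gj N51313 = N49470 := ded_42_2 (flp_e L681893) (flp_j L679316) L700675
theorem L700687 : sm gh N51313 = N49250 := ded_43_2 (flp_e L679442) (flp_h L679318) L700675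
theorem L700689 : sm gf N51313 = N49290 := ded_40_2 L679888 (flp_f L673943) (flp_e L673953) (flp_f L679314) L700675
theorem L700691 : sm gd N51313 = N49258 := ded_56_3 L679542 (flp_b L679530) L657553 L359135 (flp_f L657174) (flp_e L673880) L673878 L656641 L656639 L358167 (flp_h L246566) L169903 (flp_e L246542) (flp_d L358292) L358291 (flp_b L652051) L652049 (flp_h L652286) L652280 L354464 L642733 (flp_c L185671) L127874 L127872 L88383 L88380 (flp_e L124426) (flp_d L124420) (flp_c L124339) (flp_b L177313) (flp_a L257422) (flp_h L257420) (flp_f L243851) (flp_e L243843) L168090 L168088 L116030 L116028 L116087 L116091 L80331 L58474 (flp_c L84437) L84435 (flp_a L85780) (flp_h L85778) L85768 L124229 L180314 L180320 L612425 L261535 L261723 (flp_f L637292) L374874 (flp_d L664615) L664621 (flp_b L381749) (flp_a L381388) (flp_h L667809) (flp_f L679314) L700675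
theorem L700693 : sm gi N49238 = N51314 := rfl
theorem L700695 : sm ga N51314 = N49273 := ded_18_1 (flp_i L679712) (flp_a L679312) L700693
theorem L700697 : sm gc N51314 = N49240 := ded_33_1 (flp_i L679330) L679310 L700693
theorem L700699 : sm gd N51314 = N51314 := ded_39_1 (flp_i L700693) L679320 L700693
theorem L700700 : sm gf N51314 = N50293 := ded_48_1 (flp_i L690094) (flp_f L679314) L700693
theorem L700702 : sm gj N51314 = N49471 := ded_53_1 (flp_i L681905) (flp_j L679316) L700693
theorem L700704 : sm gi N49239 = N51315 := rfl
theorem L700706 : sm ga N51315 = N49275 := ded_18_1 (flp_i L679732) (flp_a L679323) L700704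
theorem L700708 : sm gd N51315 = N51315 := ded_39_1 (flp_i L700704) L679329 L700704
theorem L700709 : sm ge N51315 = N49240 := ded_44_1 (flp_i L679330) L679321 L700704
theorem L700711 : sm gj N51315 = N49472 := ded_53_1 (flp_i L681914) (flp_j L679325) L700704
theorem L700713 : sm gh N49240 = N51316 := rfl
theorem L700715 : sm ga N51316 = N49276 := ded_17_1 (flp_h L679739) (flp_a L679332) L700713
theorem L700717 : sm gf N51316 = N50294 := ded_47_1 (flp_h L690103) (flp_f L679336) L700713
theorem L700719 : sm gj N51316 = N49473 := ded_52_1 (flp_h L681921) (flp_j L679338) L700713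
theorem L700721 : sm gi N51316 = N49253 := ded_54_2 (flp_h L679473) (flp_i L657447) (flp_h L657367) L679330 L700713
theorem L700723 : sm gi N49242 = N51317 := rfl
theorem L700725 : sm ga N51317 = N49278 := ded_18_1 (flp_i L679752) (flp_a L679359) L700723
theorem L700727 : sm gd N51317 = N49243 := ded_39_1 (flp_i L679365) L679357 L700723
theorem L700729 : sm gf N51317 = N49248 := ded_48_1 (flp_i L679426) (flp_f L679361) L700723
theorem L700731 : sm gg N51317 = N50295 := ded_51_1 (flp_i L690111) (flp_g L679363) L700723
theorem L700733 : sm gi N49244 = N51318 := rfl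
theorem L700735 : sm ga N51318 = N49279 := ded_18_1 (flp_i L679760) (flp_a L679378) L700733
theorem L700737 : sm gb N51318 = N50448 := ded_26_1 (flp_i L691263) (flp_b L679380) L700733
theorem L700739 : sm gc N51318 = N50365 := ded_33_1 (flp_i L690681) (flp_c L679386) L700733
theorem L700741 : sm gd N51318 = N49245 := ded_39_1 (flp_i L679390) L679376 L700733
theorem L700743 : sm ge N51318 = N50395 := ded_44_1 (flp_i L690900) (flp_e L679388) L700733
theorem L700745 : sm gg N51318 = N49482 := ded_51_1 (flp_i L682011) (flp_g L679382) L700733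
theorem L700747 : sm gj N51318 = N49248 := ded_53_1 (flp_i L679426) (flp_j L679384) L700733
theorem L700749 : sm gi N49246 = N51319 := rfl
theorem L700751 : sm ga N51319 = N49281 := ded_18_1 (flp_i L679785) (flp_a L679406) L700749
theorem L700753 : sm gc N51319 = N49248 := ded_33_1 (flp_i L679426) L679404 L700749
theorem L700755 : sm gd N51319 = N49259 := ded_39_1 (flp_i L679543) (flp_d L679412) L700749
theorem L700757 : sm gg N51319 = N49251 := ded_51_1 (flp_i L679451) (flp_g L679408) L700749
theorem L700759 : sm gj N51319 = N50365 := ded_53_1 (flp_i L690681) (flp_j L679410) L700749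
theorem L700761 : sm gf N49247 = N51320 := rfl
theorem L700763 : sm ga N51320 = N49249 := ded_14_1 L679438 (flp_a L679416) L700761
theorem L700765 : sm gb N51320 = N49284 := ded_22_1 L679819 (flp_b L679418) L700761
theorem L700767 : sm gc N51320 = N49269 := ded_29_1 (flp_f L700661) L700671 L700761
theorem L700769 : sm gd N51320 = N49254 := ded_35_1 (flp_f L679481) (flp_d L679424) L700761
theorem L700771 : sm gj N51320 = N49489 := ded_46_2 L682072 (flp_j L679422) L700761
theorem L700773 : sm gh N51320 = N49280 := ded_47_2 (flp_f L700570) L700576 L700761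
theorem L700775 : sm ge N51320 = N49268 := ded_40_1 (flp_f L700330) L700328 L679361 L679414 L700761
theorem L700777 : sm gg N51320 = N49272 := ded_45_2 (flp_f L694920) L694912 L673694 (flp_g L679420) L700761
theorem L700779 : sm gi N49247 = N51321 := rfl
theorem L700781 : sm ga N51321 = N49282 := ded_18_1 (flp_i L679797) (flp_a L679416) L700779
theorem L700783 : sm gb N51321 = N50307 := ded_26_1 (flp_i L690198) (flp_b L679418) L700779
theorem L700785 : sm gd N51321 = N49255 := ded_39_1 (flp_i L679494) (flp_d L679424) L700779
theorem L700787 : sm ge N51321 = N49248 := ded_44_1 (flp_i L679426) L679414 L700779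
theorem L700789 : sm gg N51321 = N49252 := ded_51_1 (flp_i L679463) (flp_g L679420) L700779
theorem L700791 : sm gj N51321 = N50395 := ded_53_1 (flp_i L690900) (flp_j L679422) L700779
theorem L700793 : sm gh N49248 = N51322 := rfl
theorem L700795 : sm ga N51322 = N49283 := ded_17_1 (flp_h L679809) (flp_a L679428) L700793
theorem L700797 : sm gg N51322 = N49253 := ded_50_1 (flp_h L679473) (flp_g L679432) L700793
theorem L700799 : sm gi N49249 = N51323 := rfl
theorem L700801 : sm gb N51323 = N49251 := ded_26_1 (flp_i L679451) L679434 L700799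
theorem L700803 : sm gd N51323 = N49261 := ded_39_1 (flp_i L679565) (flp_d L679436) L700799
theorem L700805 : sm gf N51323 = N49282 := ded_48_1 (flp_i L679797) (flp_f L679438) L700799
theorem L700807 : sm gj N51323 = N49491 := ded_53_1 (flp_i L682089) (flp_j L679440) L700799
theorem L700809 : sm gi N49250 = N51324 := rfl
theorem L700811 : sm ga N51324 = N49288 := ded_18_1 (flp_i L679867) (flp_a L679444) L700809
theorem L700813 : sm gc N51324 = N49252 := ded_33_1 (flp_i L679463) (flp_c L679446) L700809
theorem L700815 : sm gd N51324 = N51324 := ded_39_1 (flp_i L700809) L679450 L700809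
theorem L700816 : sm ge N51324 = N49251 := ded_44_1 (flp_i L679451) L679442 L700809
theorem L700818 : sm gj N51324 = N49492 := ded_53_1 (flp_i L682097) (flp_j L679448) L700809
theorem L700820 : sm gh N49251 = N51325 := rfl
theorem L700822 : sm ga N51325 = N49289 := ded_17_1 (flp_h L679876) (flp_a L679453) L700820
theorem L700824 : sm gc N51325 = N49253 := ded_32_1 (flp_h L679473) (flp_c L679455) L700820
theorem L700826 : sm gf N51325 = N50297 := ded_47_1 (flp_h L690125) (flp_f L679459) L700820
theorem L700828 : sm gj N51325 = N49493 := ded_52_1 (flp_h L682106) (flp_j L679461) L700820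
theorem L700830 : sm gh N49252 = N51326 := rfl
theorem L700832 : sm ga N51326 = N49292 := ded_17_1 (flp_h L679900) (flp_a L679465) L700830
theorem L700834 : sm ge N51326 = N49253 := ded_43_1 (flp_h L679473) (flp_e L679469) L700830
theorem L700836 : sm gj N51326 = N49494 := ded_52_1 (flp_h L682114) (flp_j L679471) L700830
theorem L700838 : sm gi N49254 = N51327 := rfl
theorem L700840 : sm ga N51327 = N49261 := ded_18_1 (flp_i L679565) (flp_a L679483) L700838
theorem L700842 : sm gb N51327 = N49299 := ded_26_1 (flp_i L679974) (flp_b L679485) L700838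
theorem L700844 : sm gc N51327 = N51327 := ded_33_1 (flp_i L700838) L679487 L700838
theorem L700845 : sm ge N51327 = N51327 := ded_44_1 (flp_i L700838) L679491 L700838
theorem L700846 : sm gf N51327 = N49255 := ded_48_1 (flp_i L679494) L679481 L700838
theorem L700848 : sm gg N51327 = N50284 := ded_51_1 (flp_i L690025) (flp_g L679492) L700838
theorem L700850 : sm gj N51327 = N49515 := ded_53_1 (flp_i L682329) (flp_j L679488) L700838
theorem L700852 : sm gh N49255 = N51328 := rfl
theorem L700854 : sm ga N51328 = N49293 := ded_17_1 (flp_h L679906) (flp_a L679496) L700852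
theorem L700856 : sm gb N51328 = N50319 := ded_25_1 (flp_h L690298) (flp_b L679498) L700852
theorem L700858 : sm gc N51328 = N51328 := ded_32_1 (flp_h L700852) L679500 L700852
theorem L700859 : sm ge N51328 = N49256 := ded_43_1 (flp_h L679507) (flp_e L679501) L700852
theorem L700861 : sm gg N51328 = N49257 := ded_50_1 (flp_h L679520) (flp_g L679503) L700852
theorem L700863 : sm gj N51328 = N50403 := ded_52_1 (flp_h L690963) (flp_j L679505) L700852
theorem L700865 : sm gi N51328 = N51328 := ded_54_2 (flp_h L700852) (flp_i L679494) L657483 L679494 L700852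
theorem L700866 : sm gd N49257 = N51329 := rfl
theorem L700868 : sm ga N51329 = N49297 := ded_12_1 (flp_d L679957) (flp_a L679522) L700866
theorem L700870 : sm gj N51329 = N49500 := ded_37_2 (flp_d L682178) (flp_j L679527) L700866
theorem L700872 : sm gi N51329 = N51329 := ded_39_2 (flp_d L700866) L679529 L700866
theorem L700873 : sm gi N49258 = N51330 := rfl
theorem L700875 : sm ga N51330 = N50284 := ded_18_1 (flp_i L690025) (flp_a L679540) L700873
theorem L700877 : sm gb N51330 = N49259 := ded_26_1 (flp_i L679543) L679530 L700873
theorem L700879 : sm gc N51330 = N51330 := ded_33_1 (flp_i L700873) L679542 L700873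
theorem L700880 : sm ge N51330 = N51330 := ded_44_1 (flp_i L700873) L679532 L700873
theorem L700881 : sm gf N51330 = N49295 := ded_48_1 (flp_i L679934) (flp_f L679533) L700873
theorem L700883 : sm gg N51330 = N49261 := ded_51_1 (flp_i L679565) (flp_g L679535) L700873
theorem L700885 : sm gj N51330 = N50341 := ded_53_1 (flp_i L690512) (flp_j L679537) L700873
theorem L700887 : sm gh N51330 = N50750 := ded_56_7 (flp_f L693582) (flp_e L671692) (flp_d L649551) L270310 L185984 L128194 (flp_h L128192) L88466 (flp_e L124507) L124505 (flp_c L122325) (flp_b L177412) (flp_a L257525) (flp_h L592034) (flp_f L270154) L270152 L185883 (flp_c L262449) (flp_b L374791) (flp_a L656647) L656656 L358638 (flp_e L553548) L180137 L124100 L85697 L59328 L59333 (flp_f L59480) (flp_e L85948) (flp_d L124505) (flp_c L180731) (flp_b L262660) (flp_a L382152) L668178 (flp_f L680014) L680013 L680020 (flp_c L674112) L674110 (flp_a L679522) (flp_h L679520) (flp_f L673764) L673762 L652218 L354042 L243739 L168063 L168071 L116153 L80373 L58513 L58511 (flp_b L59427) (flp_a L85816) (flp_h L124049) (flp_f L180058)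 (flp_e L261662) (flp_d L380721) (flp_c L667729) (flp_b L690027) (flp_a L700875)
theorem L700889 : sm gh N49259 = N51331 := rfl
theorem L700891 : sm ga N51331 = N49298 := ded_17_1 (flp_h L679962) (flp_a L679545) L700889
theorem L700893 : sm gb N51331 = N50750 := ded_25_1 (flp_h L700887) L700877 L700889
theorem L700895 : sm gc N51331 = N49260 := ded_32_1 (flp_h L679554) (flp_c L679547) L700889
theorem L700897 : sm ge N51331 = N51331 := ded_43_1 (flp_h L700889) L679549 L700889
theorem L700898 : sm gf N51331 = N50749 := ded_47_1 L695251 L695245 L700889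
theorem L700900 : sm gg N51331 = N49262 := ded_50_1 (flp_h L679575) (flp_g L679550) L700889
theorem L700902 : sm gj N51331 = N50375 := ded_52_1 (flp_h L690746) (flp_j L679552) L700889
theorem L700904 : sm gi N51331 = N51331 := ded_54_2 (flp_h L700889) (flp_i L679543) L657560 L679543 L700889
theorem L700905 : sm gh N49261 = N51332 := rfl
theorem L700907 : sm gb N51332 = N49262 := ded_25_1 (flp_h L679575) (flp_b L679567) L700905
theorem L700909 : sm gc N51332 = N51332 := ded_32_1 (flp_h L700905) L679569 L700905
theorem L700910 : sm ge N51332 = N51332 := ded_43_1 (flp_h L700905) L679570 L700905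
theorem L700911 : sm gf N51332 = N49293 := ded_47_1 (flp_h L679906) (flp_f L679571) L700905
theorem L700913 : sm gg N51332 = N50750 := ded_50_1 (flp_h L700887) L700883 L700905
theorem L700915 : sm gj N51332 = N49516 := ded_52_1 (flp_h L682339) (flp_j L679573) L700905
theorem L700917 : sm gi N51332 = N51332 := ded_54_2 (flp_h L700905) (flp_i L679565) L657580 L679565 L700905
theorem L700918 : sm gd N49262 = N51333 := rfl
theorem L700920 : sm ga N51333 = N49301 := ded_12_1 (flp_d L680001) (flp_a L679577) L700918
theorem L700922 : sm gf N51333 = N50299 := ded_35_2 (flp_d L690145) (flp_f L679582) L700918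
theorem L700924 : sm gj N51333 = N49517 := ded_37_2 (flp_d L682348) (flp_j L679584) L700918
theorem L700926 : sm gi N51333 = N51333 := ded_39_2 (flp_d L700918) L679586 L700918
theorem L700927 : sm gi N49264 = N51334 := rfl
theorem L700929 : sm gb N51334 = N50313 := ded_26_1 (flp_i L690246) (flp_b L679604) L700927
theorem L700931 : sm gd N51334 = N49265 := ded_39_1 (flp_i L679612) L679602 L700927
theorem L700933 : sm gf N51334 = N49270 := ded_48_1 (flp_i L679677) (flp_f L679606) L700927
theorem L700935 : sm gg N51334 = N49980 := ded_51_1 (flp_i L687021) (flp_g L679608) L700927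
theorem L700937 : sm gj N51334 = N50762 := ded_53_1 (flp_i L695356) L695352 L700927
theorem L700939 : sm gi N49266 = N51335 := rfl
theorem L700941 : sm gb N51335 = N49985 := ded_26_1 (flp_i L687085) (flp_b L679629) L700939
theorem L700943 : sm gc N51335 = N50349 := ded_33_1 (flp_i L690574) (flp_c L679637) L700939
theorem L700945 : sm gd N51335 = N49267 := ded_39_1 (flp_i L679641) L679627 L700939
theorem L700947 : sm ge N51335 = N50383 := ded_44_1 (flp_i L690809) L679639 L700939
theorem L700949 : sm gf N51335 = N50762 := ded_48_1 (flp_i L695356) L695348 L700939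
theorem L700951 : sm gg N51335 = N49529 := ded_51_1 (flp_i L682459) (flp_g L679631) L700939
theorem L700953 : sm gj N51335 = N49270 := ded_53_1 (flp_i L679677) (flp_j L679633) L700939
theorem L700955 : sm gi N49268 = N51336 := rfl
theorem L700957 : sm gb N51336 = N50286 := ded_26_1 (flp_i L690043) (flp_b L679663) L700955
theorem L700959 : sm gc N51336 = N49270 := ded_33_1 (flp_i L679677) L679655 L700955
theorem L700961 : sm gd N51336 = N51336 := ded_39_1 (flp_i L700955) L679665 L700955
theorem L700962 : sm gg N51336 = N49273 := ded_51_1 (flp_i L679712) (flp_g L679657) L700955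
theorem L700964 : sm gj N51336 = N50349 := ded_53_1 (flp_i L690574) (flp_j L679659) L700955
theorem L700966 : sm gi N49269 = N51337 := rfl
theorem L700968 : sm gb N51337 = N50293 := ded_26_1 (flp_i L690094) (flp_b L679668) L700966
theorem L700970 : sm gd N51337 = N51337 := ded_39_1 (flp_i L700966) L679676 L700966
theorem L700971 : sm ge N51337 = N49270 := ded_44_1 (flp_i L679677) L679666 L700966
theorem L700973 : sm gg N51337 = N49275 := ded_51_1 (flp_i L679732) (flp_g L679670) L700966
theorem L700975 : sm gj N51337 = N50383 := ded_53_1 (flp_i L690809) (flp_j L679672) L700966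
theorem L700977 : sm gh N49270 = N51338 := rfl
theorem L700979 : sm gg N51338 = N49276 := ded_50_1 (flp_h L679739) (flp_g L679681) L700977
theorem L700981 : sm gi N51338 = N49283 := ded_54_2 (flp_h L679809) (flp_i L657746) (flp_h L657642) L679677 L700977
theorem L700983 : sm gi N49271 = N51339 := rfl
theorem L700985 : sm ga N51339 = N50289 := ded_18_1 (flp_i L690064) L679696 L700983
theorem L700987 : sm gb N51339 = N49273 := ded_26_1 (flp_i L679712) L679683 L700983
theorem L700989 : sm gc N51339 = N49968 := ded_33_1 (flp_i L686884) (flp_c L679694) L700983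
theorem L700991 : sm gd N51339 = N51339 := ded_39_1 (flp_i L700983) L679685 L700983
theorem L700992 : sm ge N51339 = N50282 := ded_44_1 (flp_i L690007) L679698 L700983
theorem L700994 : sm gf N51339 = N50300 := ded_48_1 (flp_i L690152) (flp_f L679686) L700983
theorem L700996 : sm gg N51339 = N50286 := ded_51_1 (flp_i L690043) (flp_g L679688) L700983
theorem L700998 : sm gj N51339 = N49536 := ded_53_1 (flp_i L682517) (flp_j L679690) L700983
theorem L701000 : sm gi N49272 = N51340 := rfl
theorem L701002 : sm gb N51340 = N50282 := ded_26_1 (flp_i L690007) (flp_b L679702) L701000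
theorem L701004 : sm gc N51340 = N49275 := ded_33_1 (flp_i L679732) (flp_c L679704) L701000
theorem L701006 : sm gd N51340 = N50284 := ded_39_1 (flp_i L690025) L679710 L701000
theorem L701008 : sm ge N51340 = N49273 := ded_44_1 (flp_i L679712) L679700 L701000
theorem L701010 : sm gj N51340 = N49537 := ded_53_1 (flp_i L682530) (flp_j L679706) L701000
theorem L701012 : sm gh N49273 = N51341 := rfl
theorem L701014 : sm gc N51341 = N49276 := ded_32_1 (flp_h L679739) (flp_c L679714) L701012
theorem L701016 : sm gf N51341 = N50301 := ded_47_1 (flp_h L690159) (flp_f L679717) L701012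
theorem L701018 : sm gj N51341 = N49538 := ded_52_1 (flp_h L682540) (flp_j L679719) L701012
theorem L701020 : sm gi N51341 = N49289 := ded_54_2 (flp_h L679876) (flp_i L657771) (flp_h L657656) L679712 L701012
theorem L701022 : sm gi N49274 = N51342 := rfl
theorem L701024 : sm gb N51342 = N50303 := ded_26_1 (flp_i L690175) (flp_b L679723) L701022
theorem L701026 : sm gd N51342 = N51342 := ded_39_1 (flp_i L701022) L679725 L701022
theorem L701027 : sm ge N51342 = N49972 := ded_44_1 (flp_i L686932) (flp_e L679730) L701022
theorem L701029 : sm gf N51342 = N49275 := ded_48_1 (flp_i L679732) L679721 L701022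
theorem L701031 : sm gj N51342 = N49540 := ded_53_1 (flp_i L682555) (flp_j L679726) L701022
theorem L701033 : sm gh N49275 = N51343 := rfl
theorem L701035 : sm ge N51343 = N49276 := ded_43_1 (flp_h L679739) (flp_e L679735) L701033
theorem L701037 : sm gj N51343 = N49541 := ded_52_1 (flp_h L682562) (flp_j L679737) L701033
theorem L701039 : sm gi N51343 = N49292 := ded_54_2 (flp_h L679900) (flp_i L657789) (flp_h L657663) L679732 L701033
theorem L701041 : sm gi N49277 = N51344 := rfl
theorem L701043 : sm gd N51344 = N51344 := ded_39_1 (flp_i L701041) L679751 L701041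
theorem L701044 : sm ge N51344 = N49278 := ded_44_1 (flp_i L679752) L679747 L701041
theorem L701046 : sm gg N51344 = N50303 := ded_51_1 (flp_i L690175) (flp_g L679749) L701041
theorem L701048 : sm gh N49278 = N51345 := rfl
theorem L701050 : sm gf N51345 = N49283 := ded_47_1 (flp_h L679809) (flp_f L679756) L701048
theorem L701052 : sm gg N51345 = N50304 := ded_50_1 (flp_h L690180) (flp_g L679758) L701048
theorem L701054 : sm gh N49279 = N51346 := rfl
theorem L701056 : sm gb N51346 = N49990 := ded_25_1 (flp_h L687141) (flp_b L679762) L701054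
theorem L701058 : sm gc N51346 = N50367 := ded_32_1 (flp_h L690696) (flp_c L679764) L701054
theorem L701060 : sm ge N51346 = N50396 := ded_43_1 (flp_h L690908) (flp_e L679768) L701054
theorem L701062 : sm gg N51346 = N49557 := ded_50_1 (flp_h L682699) (flp_g L679770) L701054
theorem L701064 : sm gj N51346 = N49283 := ded_52_1 (flp_h L679809) (flp_j L679772) L701054
theorem L701066 : sm gi N49280 = N51347 := rfl
theorem L701068 : sm gb N51347 = N50289 := ded_26_1 (flp_i L690064) (flp_b L679776) L701066
theorem L701070 : sm gc N51347 = N49282 := ded_33_1 (flp_i L679797) (flp_c L679778) L701066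
theorem L701072 : sm gd N51347 = N51347 := ded_39_1 (flp_i L701066) L679784 L701066
theorem L701073 : sm ge N51347 = N49281 := ded_44_1 (flp_i L679785) L679774 L701066
theorem L701075 : sm gg N51347 = N49288 := ded_51_1 (flp_i L679867) (flp_g L679780) L701066
theorem L701077 : sm gj N51347 = N50366 := ded_53_1 (flp_i L690687) (flp_j L679782) L701066
theorem L701079 : sm gh N49281 = N51348 := rfl
theorem L701081 : sm gb N51348 = N50290 := ded_25_1 (flp_h L690073) (flp_b L679787) L701079
theorem L701083 : sm gc N51348 = N49283 := ded_32_1 (flp_h L679809) (flp_c L679789) L701079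
theorem L701085 : sm gg N51348 = N49289 := ded_50_1 (flp_h L679876) (flp_g L679793) L701079
theorem L701087 : sm gj N51348 = N50367 := ded_52_1 (flp_h L690696) (flp_j L679795) L701079
theorem L701089 : sm gh N49282 = N51349 := rfl
theorem L701091 : sm gb N51349 = N50297 := ded_25_1 (flp_h L690125) (flp_b L679799) L701089
theorem L701093 : sm ge N51349 = N49283 := ded_43_1 (flp_h L679809) (flp_e L679803) L701089
theorem L701095 : sm gg N51349 = N49292 := ded_50_1 (flp_h L679900) (flp_g L679805) L701089
theorem L701097 : sm gj N51349 = N50396 := ded_52_1 (flp_h L690908) (flp_j L679807) L701089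
theorem L701099 : sm gi N49284 = N51350 := rfl
theorem L701101 : sm ga N51350 = N49286 := ded_18_1 (flp_i L679844) L679813 L701099
theorem L701103 : sm gc N51350 = N50281 := ded_33_1 (flp_i L689993) (flp_c L679815) L701099
theorem L701105 : sm gd N51350 = N49299 := ded_39_1 (flp_i L679974) (flp_d L679817) L701099
theorem L701107 : sm ge N51350 = N50286 := ded_44_1 (flp_i L690043) L679827 L701099
theorem L701109 : sm gf N51350 = N50307 := ded_48_1 (flp_i L690198) (flp_f L679819) L701099
theorem L701111 : sm gg N51350 = N50282 := ded_51_1 (flp_i L690007) (flp_g L679821) L701099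
theorem L701113 : sm gj N51350 = N49567 := ded_53_1 (flp_i L682782) (flp_j L679823) L701099
theorem L701115 : sm gi N49285 = N51351 := rfl
theorem L701117 : sm ga N51351 = N50286 := ded_18_1 (flp_i L690043) (flp_a L679831) L701115
theorem L701119 : sm gb N51351 = N49288 := ded_26_1 (flp_i L679867) (flp_b L679833) L701115
theorem L701121 : sm gc N51351 = N50280 := ded_33_1 (flp_i L689979) (flp_c L679835) L701115
theorem L701123 : sm gd N51351 = N51351 := ded_39_1 (flp_i L701115) L679843 L701115
theorem L701124 : sm ge N51351 = N49286 := ded_44_1 (flp_i L679844) L679829 L701115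
theorem L701126 : sm gg N51351 = N50289 := ded_51_1 (flp_i L690064) (flp_g L679837) L701115
theorem L701128 : sm gj N51351 = N49568 := ded_53_1 (flp_i L682794) (flp_j L679839) L701115
theorem L701130 : sm gh N49286 = N51352 := rfl
theorem L701132 : sm gb N51352 = N49289 := ded_25_1 (flp_h L679876) (flp_b L679846) L701130
theorem L701134 : sm gc N51352 = N50288 := ded_32_1 (flp_h L690058) (flp_c L679848) L701130
theorem L701136 : sm gf N51352 = N50309 := ded_47_1 (flp_h L690216) (flp_f L679852) L701130
theorem L701138 : sm gg N51352 = N50290 := ded_50_1 (flp_h L690073) (flp_g L679854) L701130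
theorem L701140 : sm gj N51352 = N49569 := ded_52_1 (flp_h L682805) (flp_j L679856) L701130
theorem L701142 : sm gi N49287 = N51353 := rfl
theorem L701144 : sm gc N51353 = N49291 := ded_33_1 (flp_i L679890) (flp_c L679860) L701142
theorem L701146 : sm gd N51353 = N51353 := ded_39_1 (flp_i L701142) L679862 L701142
theorem L701147 : sm ge N51353 = N50310 := ded_44_1 (flp_i L690222) (flp_e L679865) L701142
theorem L701149 : sm gf N51353 = N49288 := ded_48_1 (flp_i L679867) L679858 L701142
theorem L701151 : sm gj N51353 = N49571 := ded_53_1 (flp_i L682818) (flp_j L679863) L701142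
theorem L701153 : sm gh N49288 = N51354 := rfl
theorem L701155 : sm gc N51354 = N49292 := ded_32_1 (flp_h L679900) (flp_c L679869) L701153
theorem L701157 : sm ge N51354 = N49289 := ded_43_1 (flp_h L679876) (flp_e L679872) L701153
theorem L701159 : sm gj N51354 = N49572 := ded_52_1 (flp_h L682827) (flp_j L679874) L701153
theorem L701161 : sm gd N49289 = N51355 := rfl
theorem L701163 : sm gf N51355 = N50312 := ded_35_2 (flp_d L690240) (flp_f L679880) L701161
theorem L701165 : sm gj N51355 = N49573 := ded_37_2 (flp_d L682833) (flp_j L679882) L701161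
theorem L701167 : sm gh N51355 = N49301 := ded_38_2 (flp_d L680001) (flp_h L657929) (flp_d L657775) L679876 L701161
theorem L701169 : sm gi N49290 = N51356 := rfl
theorem L701171 : sm gd N51356 = N49295 := ded_39_1 (flp_i L679934) (flp_d L679886) L701169
theorem L701173 : sm ge N51356 = N50313 := ded_44_1 (flp_i L690246) (flp_e L679888) L701169
theorem L701175 : sm gg N51356 = N49291 := ded_51_1 (flp_i L679890) L679884 L701169
theorem L701177 : sm gj N51356 = N50763 := ded_53_1 (flp_i L695378) L695374 L701169
theorem L701179 : sm gh N49291 = N51357 := rfl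
theorem L701181 : sm ge N51357 = N50314 := ded_43_1 (flp_h L690254) (flp_e L679894) L701179
theorem L701183 : sm gf N51357 = N49292 := ded_47_1 (flp_h L679900) (flp_f L679896) L701179
theorem L701185 : sm gj N51357 = N49576 := ded_52_1 (flp_h L682853) (flp_j L679898) L701179
theorem L701187 : sm gd N49292 = N51358 := rfl
theorem L701189 : sm gj N51358 = N49577 := ded_37_2 (flp_d L682859) (flp_j L679904) L701187
theorem L701191 : sm gh N51358 = N49297 := ded_38_2 (flp_d L679957) (flp_h L657840) (flp_d L657791) L679900 L701187
theorem L701193 : sm gd N49293 = N51359 := rfl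
theorem L701195 : sm gb N51359 = N50299 := ded_20_1 (flp_d L690145) (flp_b L679908) L701193
theorem L701197 : sm gg N51359 = N49297 := ded_36_2 (flp_d L679957) (flp_g L679913) L701193
theorem L701199 : sm gj N51359 = N50404 := ded_37_2 (flp_d L690973) (flp_j L679915) L701193
theorem L701201 : sm gi N51359 = N51359 := ded_39_2 (flp_d L701193) L679917 L701193
theorem L701202 : sm gd N49296 = N51360 := rfl
theorem L701204 : sm gf N51360 = N49297 := ded_35_2 (flp_d L679957) (flp_f L679950) L701202
theorem L701206 : sm gg N51360 = N50321 := ded_36_2 L690321 (flp_g L679952) L701202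
theorem L701208 : sm gj N51360 = N49586 := ded_37_2 (flp_d L682937) (flp_j L679954) L701202
theorem L701210 : sm gi N51360 = N51360 := ded_39_2 (flp_d L701202) L679956 L701202
theorem L701211 : sm ge N51360 = N50318 := ded_34_2 (flp_d L690293) L668107 (flp_d L657880) (flp_e L679948) L701202
theorem L701213 : sm gc N49297 = N51361 := rfl
theorem L701215 : sm gj N51361 = N49587 := ded_31_2 (flp_c L682942) (flp_j L679959) L701213
theorem L701217 : sm gi N51361 = N51361 := ded_33_2 (flp_c L701213) L679961 L701213
theorem L701218 : sm gd N51361 = N51361 := ded_27_2 (flp_c L701213) (flp_d L679957) L657842 L679957 L701213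
theorem L701219 : sm gd N49298 = N51362 := rfl
theorem L701221 : sm gb N51362 = N50292 := ded_20_1 (flp_d L690087) (flp_b L679964) L701219
theorem L701223 : sm gg N51362 = N49301 := ded_36_2 (flp_d L680001) (flp_g L679969) L701219
theorem L701225 : sm gj N51362 = N50376 := ded_37_2 (flp_d L690758) (flp_j L679971) L701219
theorem L701227 : sm gi N51362 = N51362 := ded_39_2 (flp_d L701219) L679973 L701219
theorem L701228 : sm gh N49299 = N51363 := rfl
theorem L701230 : sm ga N51363 = N49300 := ded_17_1 (flp_h L679987) (flp_a L679976) L701228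
theorem L701232 : sm gc N51363 = N49302 := ded_32_1 (flp_h L680008) (flp_c L679978) L701228
theorem L701234 : sm ge N51363 = N51363 := ded_43_1 (flp_h L701228) L679980 L701228
theorem L701235 : sm gf N51363 = N50319 := ded_47_1 (flp_h L690298) (flp_f L679981) L701228
theorem L701237 : sm gg N51363 = N50285 := ded_50_1 (flp_h L690033) (flp_g L679983) L701228
theorem L701239 : sm gj N51363 = N49603 := ded_52_1 (flp_h L683096) (flp_j L679985) L701228
theorem L701241 : sm gi N51363 = N51363 := ded_54_2 (flp_h L701228) (flp_i L679974) L657915 L679974 L701228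
theorem L701242 : sm gd N49300 = N51364 := rfl
theorem L701244 : sm gb N51364 = N49301 := ded_20_1 (flp_d L680001) (flp_b L679989) L701242
theorem L701246 : sm gf N51364 = N50320 := ded_35_2 (flp_d L690309) (flp_f L679994) L701242
theorem L701248 : sm gg N51364 = N50292 := ded_36_2 (flp_d L690087) (flp_g L679996) L701242
theorem L701250 : sm gj N51364 = N49604 := ded_37_2 (flp_d L683106) (flp_j L679998) L701242
theorem L701252 : sm gi N51364 = N51364 := ded_39_2 (flp_d L701242) L680000 L701242
theorem L701253 : sm gc N51364 = N50318 := ded_27_1 (flp_d L690293) L668105 (flp_d L657964) (flp_c L679991) L701242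
theorem L701255 : sm ge N49301 = N51365 := rfl
theorem L701257 : sm gj N51365 = N49605 := ded_42_2 (flp_e L683113) (flp_j L680005) L701255
theorem L701259 : sm gi N51365 = N51365 := ded_44_2 (flp_e L701255) L680007 L701255
theorem L701260 : sm gd N51365 = N51365 := ded_34_1 (flp_e L701255) (flp_d L680001) L657933 L680001 L701255
theorem L701261 : sm gh N49304 = N51366 := rfl
theorem L701263 : sm ga N51366 = N49310 := ded_17_1 (flp_h L680132) (flp_a L680042) L701261
theorem L701265 : sm gb N51366 = N49325 := ded_25_1 (flp_h L680340) (flp_b L680044) L701261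
theorem L701267 : sm gc N51366 = N49363 := ded_32_1 (flp_h L680798) (flp_c L680046) L701261
theorem L701269 : sm ge N51366 = N49425 := ded_43_1 (flp_h L681400) (flp_e L680050) L701261
theorem L701271 : sm gf N51366 = N49615 := ded_47_1 (flp_h L683235) (flp_f L680052) L701261
theorem L701273 : sm gg N51366 = N49305 := ded_50_1 (flp_h L680058) (flp_g L680054) L701261
theorem L701275 : sm gj N51366 = N49317 := ded_52_1 (flp_h L680231) (flp_j L680056) L701261
theorem L701277 : sm gd N51366 = N51366 := ded_38_1 (flp_h L701261) L680048 L658015 (flp_d L680048) L701261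
theorem L701278 : sm gi N51366 = N51366 := ded_54_2 (flp_h L701261) (flp_i L680040) L657998 L680040 L701261
theorem L701279 : sm gh N49306 = N51367 := rfl
theorem L701281 : sm ga N51367 = N49317 := ded_17_1 (flp_h L680231) (flp_a L680074) L701279
theorem L701283 : sm gb N51367 = N51367 := ded_25_1 (flp_h L701279) L680076 L701279
theorem L701284 : sm gc N51367 = N49409 := ded_32_1 (flp_h L681214) (flp_c L680077) L701279
theorem L701286 : sm ge N51367 = N49370 := ded_43_1 (flp_h L680886) (flp_e L680081) L701279
theorem L701288 : sm gf N51367 = N49616 := ded_47_1 (flp_h L683245) (flp_f L680083) L701279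
theorem L701290 : sm gg N51367 = N49307 := ded_50_1 (flp_h L680089) (flp_g L680085) L701279
theorem L701292 : sm gj N51367 = N49310 := ded_52_1 (flp_h L680132) (flp_j L680087) L701279
theorem L701294 : sm gd N51367 = N51367 := ded_38_1 (flp_h L701279) L680079 L658067 (flp_d L680079) L701279
theorem L701295 : sm gi N51367 = N51367 := ded_54_2 (flp_h L701279) (flp_i L680072) L658051 L680072 L701279
theorem L701296 : sm gi N49308 = N51368 := rfl
theorem L701298 : sm ga N51368 = N49419 := ded_18_1 (flp_i L681331) (flp_a L680103) L701296
theorem L701300 : sm gb N51368 = N51368 := ded_26_1 (flp_i L701296) L680105 L701296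
theorem L701301 : sm gc N51368 = N49411 := ded_33_1 (flp_i L681242) (flp_c L680106) L701296
theorem L701303 : sm gd N51368 = N49366 := ded_39_1 (flp_i L680835) (flp_d L680108) L701296
theorem L701305 : sm ge N51368 = N49618 := ded_44_1 (flp_i L683273) (flp_e L680113) L701296
theorem L701307 : sm gf N51368 = N49309 := ded_48_1 (flp_i L680117) L680101 L701296
theorem L701309 : sm gg N51368 = N50481 := ded_51_1 (flp_i L691502) (flp_g L680115) L701296
theorem L701311 : sm gj N51368 = N49368 := ded_53_1 (flp_i L680861) (flp_j L680110) L701296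
theorem L701313 : sm gh N49309 = N51369 := rfl
theorem L701315 : sm ga N51369 = N49425 := ded_17_1 (flp_h L681400) (flp_a L680119) L701313
theorem L701317 : sm gb N51369 = N51369 := ded_25_1 (flp_h L701313) L680121 L701313
theorem L701318 : sm gc N51369 = N49412 := ded_32_1 (flp_h L681248) (flp_c L680122) L701313
theorem L701320 : sm ge N51369 = N49310 := ded_43_1 (flp_h L680132) (flp_e L680126) L701313
theorem L701322 : sm gg N51369 = N49312 := ded_50_1 (flp_h L680158) (flp_g L680128) L701313
theorem L701324 : sm gj N51369 = N49370 := ded_52_1 (flp_h L680886) (flp_j L680130) L701313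
theorem L701326 : sm gd N51369 = N49511 := ded_38_1 (flp_h L682289) L659842 (flp_h L658736) (flp_d L680124) L701313
theorem L701328 : sm gi N51369 = N51369 := ded_54_2 (flp_h L701313) (flp_i L680117) L658107 L680117 L701313
theorem L701329 : sm gh N49311 = N51370 := rfl
theorem L701331 : sm ga N51370 = N49443 := ded_17_1 L681618 (flp_a L680145) L701329
theorem L701333 : sm gb N51370 = N51370 := ded_25_1 (flp_h L701329) L680147 L701329
theorem L701334 : sm gc N51370 = N49414 := ded_32_1 (flp_h L681269) (flp_c L680148) L701329
theorem L701336 : sm ge N51370 = N49313 := ded_43_1 (flp_h L680170) (flp_e L680150) L701329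
theorem L701338 : sm gf N51370 = N49312 := ded_47_1 (flp_h L680158) (flp_f L680152) L701329
theorem L701340 : sm gg N51370 = N50488 := ded_50_1 (flp_h L691574) (flp_g L680154) L701329
theorem L701342 : sm gj N51370 = N50322 := ded_52_1 (flp_h L690323) (flp_j L680156) L701329
theorem L701344 : sm gd N51370 = N49442 := ded_38_1 (flp_h L681595) (flp_d L674677) L695821 L695835 L701329
theorem L701346 : sm gi N51370 = N51370 := ded_54_2 (flp_h L701329) (flp_i L680143) L658130 L680143 L701329
theorem L701347 : sm gh N49315 = N51371 := rfl
theorem L701349 : sm ga N51371 = N49616 := ded_17_1 (flp_h L683245) (flp_a L680200) L701347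
theorem L701351 : sm gb N51371 = N49323 := ded_25_1 (flp_h L680316) (flp_b L680202) L701347
theorem L701353 : sm gc N51371 = N49645 := ded_32_1 (flp_h L683598) (flp_c L680204) L701347
theorem L701355 : sm ge N51371 = N50843 := ded_43_1 (flp_h L694367) (flp_e L680208) L701347
theorem L701357 : sm gf N51371 = N49317 := ded_47_1 (flp_h L680231) (flp_f L680210) L701347
theorem L701359 : sm gg N51371 = N51371 := ded_50_1 (flp_h L701347) L680212 L701347
theorem L701360 : sm gj N51371 = N49615 := ded_52_1 (flp_h L683235) (flp_j L680213) L701347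
theorem L701362 : sm gd N51371 = N51371 := ded_38_1 (flp_h L701347) L680206 L658206 (flp_d L680206) L701347
theorem L701363 : sm gi N51371 = N51371 := ded_54_2 (flp_h L701347) (flp_i L680198) L658190 L680198 L701347
theorem L701364 : sm gh N49316 = N51372 := rfl
theorem L701366 : sm ga N51372 = N49409 := ded_17_1 (flp_h L681214) (flp_a L680217) L701364
theorem L701368 : sm gb N51372 = N50769 := ded_25_1 L696080 L696066 L701364
theorem L701370 : sm gc N51372 = N49317 := ded_32_1 (flp_h L680231) (flp_c L680219) L701364
theorem L701372 : sm ge N51372 = N49427 := ded_43_1 (flp_h L681419) (flp_e L680223) L701364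
theorem L701374 : sm gf N51372 = N49645 := ded_47_1 (flp_h L683598) (flp_f L680225) L701364
theorem L701376 : sm gg N51372 = N49319 := ded_50_1 (flp_h L680256) (flp_g L680227) L701364
theorem L701378 : sm gj N51372 = N49363 := ded_52_1 (flp_h L680798) (flp_j L680229) L701364
theorem L701380 : sm gd N51372 = N49497 := ded_38_1 (flp_h L682145) L659721 (flp_h L658641) (flp_d L680221) L701364
theorem L701382 : sm gi N51372 = N51372 := ded_54_2 (flp_h L701364) (flp_i L680215) L658219 L680215 L701364
theorem L701383 : sm gh N49326 = N51373 := rfl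
theorem L701385 : sm ga N51373 = N50770 := ded_17_1 L694508 L694494 L701383
theorem L701387 : sm gb N51373 = N49327 := ded_25_1 (flp_h L680362) (flp_b L680355) L701383
theorem L701389 : sm gc N51373 = N50769 := ded_32_1 L696080 L696068 L701383
theorem L701391 : sm ge N51373 = N49441 := ded_43_1 (flp_h L681584) (flp_e L680358) L701383
theorem L701393 : sm gg N51373 = N49329 := ded_50_1 (flp_h L680389) (flp_g L680360) L701383
theorem L701395 : sm gj N51373 = N50491 := ded_52_1 L694471 L694469 L701383
theorem L701397 : sm gi N51373 = N51373 := ded_54_2 (flp_h L701383) (flp_i L680353) L658351 L680353 L701383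
theorem L701398 : sm gd N50781 = N51373 := ded_12_0 L701385 L693760 (flp_a L693852)
theorem L701400 : sm gi N49331 = N51374 := rfl
theorem L701402 : sm ga N51374 = N50049 := ded_18_1 L687759 (flp_a L680420) L701400
theorem L701404 : sm gb N51374 = N49344 := ded_26_1 (flp_i L680581) (flp_b L680422) L701400
theorem L701406 : sm gc N51374 = N50053 := ded_33_1 L687802 (flp_c L680424) L701400
theorem L701408 : sm ge N51374 = N51374 := ded_44_1 (flp_i L701400) L680426 L701400
theorem L701409 : sm gf N51374 = N50386 := ded_48_1 (flp_i L690828) (flp_f L680427) L701400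
theorem L701411 : sm gg N51374 = N49332 := ded_51_1 (flp_i L680431) (flp_g L680429) L701400
theorem L701413 : sm gh N51374 = N49447 := ded_54_1 (flp_i L681659) (flp_h L659389) (flp_i L658407) L680418 L701400
theorem L701415 : sm gh N49333 = N51375 := rfl
theorem L701417 : sm ga N51375 = N49521 := ded_17_1 (flp_h L682386) (flp_a L680448) L701415
theorem L701419 : sm gb N51375 = N49349 := ded_25_1 (flp_h L680643) (flp_b L680450) L701415
theorem L701421 : sm gc N51375 = N51375 := ded_32_1 (flp_h L701415) L680452 L701415
theorem L701422 : sm ge N51375 = N49624 := ded_43_1 (flp_h L683350) (flp_e L680455) L701415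
theorem L701424 : sm gf N51375 = N49335 := ded_47_1 (flp_h L680476) (flp_f L680457) L701415
theorem L701426 : sm gg N51375 = N49461 := ded_50_1 (flp_h L681810) (flp_g L680461) L701415
theorem L701428 : sm gj N51375 = N49334 := ded_52_1 (flp_h L680463) L680446 L701415
theorem L701430 : sm gd N49334 = N51376 := rfl
theorem L701432 : sm ga N51376 = N50030 := ded_12_1 L687578 (flp_a L680465) L701430
theorem L701434 : sm gb N51376 = N49350 := ded_20_1 (flp_d L680655) (flp_b L680467) L701430
theorem L701436 : sm gf N51376 = N49336 := ded_35_2 (flp_d L680487) (flp_f L680472) L701430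
theorem L701438 : sm gg N51376 = N49998 := ded_36_2 L687230 (flp_g L680474) L701430
theorem L701440 : sm gh N51376 = N50385 := ded_38_2 (flp_d L690822) (flp_h L668709) (flp_d L658431) L680463 L701430
theorem L701442 : sm gi N49334 = N51377 := rfl
theorem L701444 : sm ga N51377 = N50042 := ded_18_1 (flp_i L687667) (flp_a L680465) L701442
theorem L701446 : sm gb N51377 = N49351 := ded_26_1 (flp_i L680663) (flp_b L680467) L701442
theorem L701448 : sm gc N51377 = N51377 := ded_33_1 (flp_i L701442) L680469 L701442
theorem L701449 : sm ge N51377 = N49626 := ded_44_1 (flp_i L683373) (flp_e L680470) L701442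
theorem L701451 : sm gf N51377 = N49337 := ded_48_1 (flp_i L680495) (flp_f L680472) L701442
theorem L701453 : sm gg N51377 = N50002 := ded_51_1 (flp_i L687268) (flp_g L680474) L701442
theorem L701455 : sm gh N51377 = N49451 := ded_54_1 (flp_i L681703) (flp_h L659432) (flp_i L658433) L680463 L701442
theorem L701457 : sm gd N49335 = N51378 := rfl
theorem L701459 : sm ga N51378 = N50039 := ded_12_1 L687651 (flp_a L680478) L701457
theorem L701461 : sm gb N51378 = N49352 := ded_20_1 (flp_d L680677) (flp_b L680480) L701457
theorem L701463 : sm gg N51378 = N49401 := ded_36_2 (flp_d L700018) L700014 L701457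
theorem L701465 : sm gj N51378 = N49336 := ded_37_2 (flp_d L680487) (flp_j L680485) L701457
theorem L701467 : sm ge N51378 = N49395 := ded_34_2 L681118 (flp_e L675005) L675003 (flp_e L680483) L701457
theorem L701469 : sm gi N49335 = N51379 := rfl
theorem L701471 : sm ga N51379 = N50043 := ded_18_1 (flp_i L687678) (flp_a L680478) L701469
theorem L701473 : sm gb N51379 = N49353 := ded_26_1 (flp_i L680689) (flp_b L680480) L701469
theorem L701475 : sm gc N51379 = N51379 := ded_33_1 (flp_i L701469) L680482 L701469
theorem L701476 : sm ge N51379 = N49339 := ded_44_1 (flp_i L680518) (flp_e L680483) L701469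
theorem L701478 : sm gg N51379 = N50761 := ded_51_1 (flp_i L700020) L700014 L701469
theorem L701480 : sm gj N51379 = N49337 := ded_53_1 (flp_i L680495) (flp_j L680485) L701469
theorem L701482 : sm gh N51379 = N49453 := ded_54_1 (flp_i L681726) (flp_h L659443) (flp_i L658448) L680476 L701469
theorem L701484 : sm gi N49336 = N51380 := rfl
theorem L701486 : sm ga N51380 = N50040 := ded_18_1 (flp_i L687653) (flp_a L680489) L701484
theorem L701488 : sm gb N51380 = N49356 := ded_26_1 (flp_i L680725) (flp_b L680491) L701484
theorem L701490 : sm gd N51380 = N49337 := ded_39_1 (flp_i L680495) L680487 L701484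
theorem L701492 : sm gg N51380 = N49338 := ded_51_1 (flp_i L680508) (flp_g L680493) L701484
theorem L701494 : sm gh N49338 = N51381 := rfl
theorem L701496 : sm ga N51381 = N50041 := ded_17_1 (flp_h L687661) (flp_a L680510) L701494
theorem L701498 : sm gb N51381 = N49360 := ded_25_1 (flp_h L680763) (flp_b L680512) L701494
theorem L701500 : sm gf N51381 = N50001 := ded_47_1 (flp_h L687258) (flp_f L680516) L701494
theorem L701502 : sm gd N51381 = N49458 := ded_38_1 (flp_h L681776) L659484 (flp_h L658480) (flp_d L680514) L701494
theorem L701504 : sm gh N49340 = N51382 := rfl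
theorem L701506 : sm ga N51382 = N49374 := ded_17_1 (flp_h L680934) (flp_a L680535) L701504
theorem L701508 : sm gb N51382 = N49474 := ded_25_1 (flp_h L681929) (flp_b L680537) L701504
theorem L701510 : sm gc N51382 = N51382 := ded_32_1 (flp_h L701504) L680539 L701504
theorem L701511 : sm ge N51382 = N49718 := ded_43_1 (flp_h L684386) (flp_e L680542) L701504
theorem L701513 : sm gf N51382 = N49342 := ded_47_1 (flp_h L680563) (flp_f L680544) L701504
theorem L701515 : sm gg N51382 = N49449 := ded_50_1 (flp_h L681682) (flp_g L680548) L701504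
theorem L701517 : sm gj N51382 = N49341 := ded_52_1 (flp_h L680550) L680533 L701504
theorem L701519 : sm gd N49341 = N51383 := rfl
theorem L701521 : sm ga N51383 = N49375 := ded_12_1 (flp_d L680945) (flp_a L680552) L701519
theorem L701523 : sm gb N51383 = N50385 := ded_20_1 (flp_d L690822) (flp_b L680554) L701519
theorem L701525 : sm gf N51383 = N49343 := ded_35_2 (flp_d L680573) (flp_f L680559) L701519
theorem L701527 : sm gg N51383 = N50323 := ded_36_2 (flp_d L690333) (flp_g L680561) L701519
theorem L701529 : sm gh N51383 = N49350 := ded_38_2 (flp_d L680655) (flp_h L658569) (flp_d L658513) L680550 L701519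
theorem L701531 : sm gi N49341 = N51384 := rfl
theorem L701533 : sm ga N51384 = N49376 := ded_18_1 (flp_i L680953) (flp_a L680552) L701531
theorem L701535 : sm gb N51384 = N50386 := ded_26_1 (flp_i L690828) (flp_b L680554) L701531
theorem L701537 : sm gc N51384 = N51384 := ded_33_1 (flp_i L701531) L680556 L701531
theorem L701538 : sm ge N51384 = N50545 := ded_44_1 (flp_i L692002) (flp_e L680557) L701531
theorem L701540 : sm gf N51384 = N49344 := ded_48_1 (flp_i L680581) (flp_f L680559) L701531
theorem L701542 : sm gg N51384 = N50324 := ded_51_1 (flp_i L690345) (flp_g L680561) L701531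
theorem L701544 : sm gh N51384 = N49463 := ded_54_1 (flp_i L681829) (flp_h L659526) (flp_i L658515) L680550 L701531
theorem L701546 : sm gd N49342 = N51385 := rfl
theorem L701548 : sm ga N51385 = N49377 := ded_12_1 (flp_d L680962) (flp_a L680565) L701546
theorem L701550 : sm gg N51385 = N49383 := ded_36_2 L681021 (flp_g L680569) L701546
theorem L701552 : sm gj N51385 = N49343 := ded_37_2 (flp_d L680573) (flp_j L680571) L701546
theorem L701554 : sm gh N51385 = N49352 := ded_38_2 (flp_d L680677) (flp_h L658581) (flp_d L658526) L680563 L701546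
theorem L701556 : sm gc N49380 = N51385 := ded_30_3 L701550 L681015 (flp_g L680993)
theorem L701558 : sm ge N49379 = N51385 := ded_41_3 L701550 (flp_e L681011) (flp_g L680986)
theorem L701560 : sm gi N49342 = N51386 := rfl
theorem L701562 : sm ga N51386 = N49378 := ded_18_1 (flp_i L680972) (flp_a L680565) L701560
theorem L701564 : sm gc N51386 = N51386 := ded_33_1 (flp_i L701560) L680567 L701560
theorem L701565 : sm ge N51386 = N51386 := ded_44_1 (flp_i L701560) L680568 L701560
theorem L701566 : sm gg N51386 = N50760 := ded_51_1 (flp_i L693692) (flp_g L680569) L701560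
theorem L701568 : sm gj N51386 = N49344 := ded_53_1 (flp_i L680581) (flp_j L680571) L701560
theorem L701570 : sm gh N51386 = N49465 := ded_54_1 (flp_i L681846) (flp_h L659535) (flp_i L658529) L680563 L701560
theorem L701572 : sm gc N49343 = N51387 := rfl
theorem L701574 : sm ga N51387 = N49379 := ded_11_1 (flp_c L680984) (flp_a L680575) L701572
theorem L701576 : sm gg N51387 = N49345 := ded_30_2 (flp_c L680591) (flp_g L680577) L701572
theorem L701578 : sm gj N51387 = N49380 := ded_31_2 L701556 L701552 L701572
theorem L701580 : sm gh N51387 = N49354 := ded_32_2 (flp_c L680701) (flp_h L680579) L701572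
theorem L701582 : sm gb N51387 = N49570 := ded_19_1 L682813 (flp_b L675369) (flp_c L696451) L696449 L701572
theorem L701584 : sm gd N51387 = N51387 := ded_27_2 (flp_c L701572) (flp_d L680573) L658535 L680573 L701572
theorem L701585 : sm ge N49377 = N51387 := ded_13_0 L701574 L701558 L701548
theorem L701587 : sm ge N49343 = N51388 := rfl
theorem L701589 : sm ga N51388 = N49380 := ded_13_1 (flp_e L680991) (flp_a L680575) L701587
theorem L701591 : sm gb N51388 = N50035 := ded_21_1 (flp_e L696455) L696449 L701587
theorem L701593 : sm gc N51388 = N49377 := ded_28_1 L701585 (flp_c L701572) L701587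
theorem L701595 : sm gg N51388 = N49346 := ded_41_2 (flp_e L680604) (flp_g L680577) L701587
theorem L701597 : sm gj N51388 = N49379 := ded_42_2 L701558 L701552 L701587
theorem L701599 : sm gh N51388 = N49355 := ded_43_2 (flp_e L680713) (flp_h L680579) L701587
theorem L701601 : sm gd N51388 = N51388 := ded_34_1 (flp_e L701587) (flp_d L680573) L658536 L680573 L701587
theorem L701602 : sm gi N49343 = N51389 := rfl
theorem L701604 : sm ga N51389 = N49381 := ded_18_1 (flp_i L680998) (flp_a L680575) L701602
theorem L701606 : sm gd N51389 = N49344 := ded_39_1 (flp_i L680581) L680573 L701602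
theorem L701608 : sm gg N51389 = N49347 := ded_51_1 (flp_i L680617) (flp_g L680577) L701602
theorem L701610 : sm gi N49345 = N51390 := rfl
theorem L701612 : sm ga N51390 = N49384 := ded_18_1 (flp_i L681023) (flp_a L680593) L701610
theorem L701614 : sm gb N51390 = N49571 := ded_26_1 (flp_i L682818) (flp_b L680599) L701610
theorem L701616 : sm gc N51390 = N49347 := ded_33_1 (flp_i L680617) L680591 L701610
theorem L701618 : sm gd N51390 = N51390 := ded_39_1 (flp_i L701610) L680601 L701610
theorem L701619 : sm ge N51390 = N50450 := ded_44_1 (flp_i L691275) L680602 L701610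
theorem L701621 : sm gf N51390 = N49568 := ded_48_1 (flp_i L682794) (flp_f L680595) L701610
theorem L701623 : sm gi N49346 = N51391 := rfl
theorem L701625 : sm ga N51391 = N49386 := ded_18_1 (flp_i L681043) (flp_a L680606) L701623
theorem L701627 : sm gb N51391 = N50036 := ded_26_1 (flp_i L687626) (flp_b L680608) L701623
theorem L701629 : sm gc N51391 = N50450 := ded_33_1 (flp_i L691275) (flp_c L680610) L701623
theorem L701631 : sm gd N51391 = N51391 := ded_39_1 (flp_i L701623) L680614 L701623
theorem L701632 : sm ge N51391 = N49347 := ded_44_1 (flp_i L680617) L680604 L701623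
theorem L701634 : sm gf N51391 = N50033 := ded_48_1 (flp_i L687606) (flp_f L680615) L701623
theorem L701636 : sm gh N49347 = N51392 := rfl
theorem L701638 : sm ga N51392 = N49387 := ded_17_1 (flp_h L681048) (flp_a L680619) L701636
theorem L701640 : sm gf N51392 = N50326 := ded_47_1 (flp_h L690374) (flp_f L680623) L701636
theorem L701642 : sm gd N51392 = N49473 := ded_38_1 (flp_h L681921) L659579 (flp_h L658555) (flp_d L680621) L701636
theorem L701644 : sm gi N51392 = N49360 := ded_54_2 (flp_h L680763) (flp_i L658623) (flp_h L658545) L680617 L701636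
theorem L701646 : sm gh N49348 = N51393 := rfl
theorem L701648 : sm ga N51393 = N49388 := ded_17_1 (flp_h L681056) (flp_a L680627) L701646
theorem L701650 : sm gb N51393 = N49461 := ded_25_1 (flp_h L681810) (flp_b L680629) L701646
theorem L701652 : sm gc N51393 = N49365 := ded_32_1 (flp_h L680820) (flp_c L680631) L701646
theorem L701654 : sm ge N51393 = N49633 := ded_43_1 (flp_h L683461) (flp_e L680635) L701646
theorem L701656 : sm gf N51393 = N49445 := ded_47_1 (flp_h L681636) (flp_f L680639) L701646
theorem L701658 : sm gg N51393 = N49349 := ded_50_1 (flp_h L680643) L680625 L701646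
theorem L701660 : sm gj N51393 = N49444 := ded_52_1 (flp_h L681622) (flp_j L680641) L701646
theorem L701662 : sm gd N49349 = N51394 := rfl
theorem L701664 : sm ga N51394 = N49389 := ded_12_1 (flp_d L681070) (flp_a L680645) L701662
theorem L701666 : sm gf N51394 = N49352 := ded_35_2 (flp_d L680677) (flp_f L680651) L701662
theorem L701668 : sm gj N51394 = N49350 := ded_37_2 (flp_d L680655) (flp_j L680653) L701662
theorem L701670 : sm gc N51394 = N49397 := ded_27_1 L681132 (flp_c L680106) L680108 (flp_c L680647) L701662
theorem L701672 : sm gi N49349 = N51395 := rfl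
theorem L701674 : sm ga N51395 = N49390 := ded_18_1 (flp_i L681076) (flp_a L680645) L701672
theorem L701676 : sm gc N51395 = N49366 := ded_33_1 (flp_i L680835) (flp_c L680647) L701672
theorem L701678 : sm ge N51395 = N49635 := ded_44_1 (flp_i L683484) (flp_e L680649) L701672
theorem L701680 : sm gf N51395 = N49353 := ded_48_1 (flp_i L680689) (flp_f L680651) L701672
theorem L701682 : sm gj N51395 = N49351 := ded_53_1 (flp_i L680663) (flp_j L680653) L701672
theorem L701684 : sm gh N51395 = N49476 := ded_54_1 (flp_i L681949) (flp_h L659593) (flp_i L658567) L680643 L701672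
theorem L701686 : sm gc N49350 = N51396 := rfl
theorem L701688 : sm ga N51396 = N49391 := ded_11_1 (flp_c L681088) (flp_a L680657) L701686
theorem L701690 : sm gf N51396 = N49354 := ded_29_2 (flp_c L680701) (flp_f L680659) L701686
theorem L701692 : sm gg N51396 = N50329 := ded_30_2 (flp_c L690410) (flp_g L680661) L701686
theorem L701694 : sm gj N51396 = N49397 := ded_31_2 (flp_c L701670) L701668 L701686
theorem L701696 : sm gd N51396 = N49367 := ded_27_2 (flp_c L680848) (flp_d L658702) (flp_c L658573) L680655 L701686
theorem L701698 : sm ge N49350 = N51397 := rfl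
theorem L701700 : sm ga N51397 = N49392 := ded_13_1 (flp_e L681096) (flp_a L680657) L701698
theorem L701702 : sm gg N51397 = N50330 := ded_41_2 (flp_e L690418) (flp_g L680661) L701698
theorem L701704 : sm gd N51397 = N49636 := ded_34_1 (flp_e L683496) (flp_d L660967) (flp_e L658575) L680655 L701698
theorem L701706 : sm gi N49350 = N51398 := rfl
theorem L701708 : sm ga N51398 = N49393 := ded_18_1 (flp_i L681102) (flp_a L680657) L701706
theorem L701710 : sm gd N51398 = N49351 := ded_39_1 (flp_i L680663) L680655 L701706
theorem L701712 : sm gf N51398 = N49356 := ded_48_1 (flp_i L680725) (flp_f L680659) L701706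
theorem L701714 : sm gg N51398 = N50331 := ded_51_1 (flp_i L690424) (flp_g L680661) L701706
theorem L701716 : sm gi N49352 = N51399 := rfl
theorem L701718 : sm ga N51399 = N49394 := ded_18_1 (flp_i L681110) (flp_a L680679) L701716
theorem L701720 : sm gc N51399 = N49398 := ded_33_1 (flp_i L681134) (flp_c L680685) L701716
theorem L701722 : sm gd N51399 = N49353 := ded_39_1 (flp_i L680689) L680677 L701716
theorem L701724 : sm ge N51399 = N49396 := ded_44_1 (flp_i L681122) (flp_e L680687) L701716
theorem L701726 : sm gg N51399 = N49404 := ded_51_1 (flp_i L681176) (flp_g L680681) L701716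
theorem L701728 : sm gj N51399 = N49356 := ded_53_1 (flp_i L680725) (flp_j L680683) L701716
theorem L701730 : sm gi N49354 = N51400 := rfl
theorem L701732 : sm ga N51400 = N49396 := ded_18_1 (flp_i L681122) (flp_a L680703) L701730
theorem L701734 : sm gc N51400 = N49356 := ded_33_1 (flp_i L680725) L680701 L701730
theorem L701736 : sm gd N51400 = N49369 := ded_39_1 (flp_i L680874) (flp_d L680709) L701730
theorem L701738 : sm ge N51400 = N49394 := ded_44_1 (flp_i L681110) L680711 L701730
theorem L701740 : sm gg N51400 = N49358 := ded_51_1 (flp_i L680745) (flp_g L680705) L701730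
theorem L701742 : sm gj N51400 = N49398 := ded_53_1 (flp_i L681134) (flp_j L680707) L701730
theorem L701744 : sm gf N49355 = N51401 := rfl
theorem L701746 : sm ga N51401 = N49397 := ded_14_1 (flp_f L681130) (flp_a L680715) L701744
theorem L701748 : sm gb N51401 = N50417 := ded_22_1 (flp_f L695995) L695985 L701744
theorem L701750 : sm gc N51401 = N49389 := ded_29_1 L681072 (flp_c L680717) L701744
theorem L701752 : sm gd N51401 = N49361 := ded_35_1 (flp_f L680771) (flp_d L680723) L701744
theorem L701754 : sm gj N51401 = N49391 := ded_46_2 L681090 (flp_j L680721) L701744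
theorem L701756 : sm gg N51401 = N50420 := ded_45_2 L691077 (flp_g L674791) L674799 (flp_g L680719) L701744
theorem L701758 : sm gi N49355 = N51402 := rfl
theorem L701760 : sm ga N51402 = N49398 := ded_18_1 (flp_i L681134) (flp_a L680715) L701758
theorem L701762 : sm gc N51402 = N49394 := ded_33_1 (flp_i L681110) (flp_c L680717) L701758
theorem L701764 : sm gd N51402 = N49362 := ded_39_1 (flp_i L680786) (flp_d L680723) L701758
theorem L701766 : sm ge N51402 = N49356 := ded_44_1 (flp_i L680725) L680713 L701758
theorem L701768 : sm gg N51402 = N49359 := ded_51_1 (flp_i L680755) (flp_g L680719) L701758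
theorem L701770 : sm gj N51402 = N49396 := ded_53_1 (flp_i L681122) (flp_j L680721) L701758
theorem L701772 : sm gh N49356 = N51403 := rfl
theorem L701774 : sm ga N51403 = N49399 := ded_17_1 (flp_h L681142) (flp_a L680727) L701772
theorem L701776 : sm gg N51403 = N49360 := ded_50_1 (flp_h L680763) (flp_g L680731) L701772
theorem L701778 : sm gd N51403 = N49488 := ded_38_1 (flp_h L682060) L659661 (flp_h L658607) (flp_d L680729) L701772
theorem L701780 : sm gi N49357 = N51404 := rfl
theorem L701782 : sm ga N51404 = N50763 := ded_18_1 (flp_i L695378) L695366 L701780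
theorem L701784 : sm gb N51404 = N49358 := ded_26_1 (flp_i L680745) L680733 L701780
theorem L701786 : sm gc N51404 = N49540 := ded_33_1 (flp_i L682555) (flp_c L680743) L701780
theorem L701788 : sm gd N51404 = N49371 := ded_39_1 (flp_i L680896) (flp_d L680735) L701780
theorem L701790 : sm ge N51404 = N49991 := ded_44_1 L687155 (flp_e L680737) L701780
theorem L701792 : sm gf N51404 = N49537 := ded_48_1 (flp_i L682530) (flp_f L680739) L701780
theorem L701794 : sm gh N49358 = N51405 := rfl
theorem L701796 : sm ga N51405 = N49405 := ded_17_1 (flp_h L681182) (flp_a L680747) L701794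
theorem L701798 : sm gc N51405 = N49360 := ded_32_1 (flp_h L680763) (flp_c L680749) L701794
theorem L701800 : sm gf N51405 = N50335 := ded_47_1 (flp_h L690464) (flp_f L680753) L701794
theorem L701802 : sm gh N49359 = N51406 := rfl
theorem L701804 : sm ga N51406 = N49408 := ded_17_1 (flp_h L681210) (flp_a L680757) L701802
theorem L701806 : sm ge N51406 = N49360 := ded_43_1 (flp_h L680763) (flp_e L680761) L701802
theorem L701808 : sm gi N49361 = N51407 := rfl
theorem L701810 : sm ga N51407 = N49411 := ded_18_1 (flp_i L681242) (flp_a L680773) L701808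
theorem L701812 : sm gb N51407 = N50460 := ded_26_1 (flp_i L691341) (flp_b L680775) L701808
theorem L701814 : sm gc N51407 = N49419 := ded_33_1 (flp_i L681331) (flp_c L680777) L701808
theorem L701816 : sm ge N51407 = N49646 := ded_44_1 (flp_i L683608) (flp_e L680782) L701808
theorem L701818 : sm gf N51407 = N49362 := ded_48_1 (flp_i L680786) L680771 L701808
theorem L701820 : sm gg N51407 = N50462 := ded_51_1 (flp_i L691358) (flp_g L680784) L701808
theorem L701822 : sm gj N51407 = N49422 := ded_53_1 (flp_i L681367) (flp_j L680779) L701808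
theorem L701824 : sm gh N49362 = N51408 := rfl
theorem L701826 : sm ga N51408 = N49412 := ded_17_1 (flp_h L681248) (flp_a L680788) L701824
theorem L701828 : sm gb N51408 = N50490 := ded_25_1 L696045 L696033 L701824
theorem L701830 : sm gc N51408 = N49425 := ded_32_1 (flp_h L681400) (flp_c L680790) L701824
theorem L701832 : sm ge N51408 = N49363 := ded_43_1 (flp_h L680798) (flp_e L680792) L701824
theorem L701834 : sm gg N51408 = N49364 := ded_50_1 (flp_h L680809) (flp_g L680794) L701824
theorem L701836 : sm gj N51408 = N49427 := ded_52_1 (flp_h L681419) (flp_j L680796) L701824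
theorem L701838 : sm gi N51408 = N51408 := ded_54_2 (flp_h L701824) (flp_i L680786) L658653 L680786 L701824
theorem L701839 : sm gd N49364 = N51409 := rfl
theorem L701841 : sm ga N51409 = N49415 := ded_12_1 (flp_d L681278) (flp_a L680811) L701839
theorem L701843 : sm gb N51409 = N50478 := ded_20_1 L691488 (flp_b L680813) L701839
theorem L701845 : sm gi N51409 = N51409 := ded_39_2 (flp_d L701839) L680819 L701839
theorem L701846 : sm gc N51409 = N50376 := ded_27_1 (flp_d L690758) L668624 L668647 (flp_c L680815) L701839
theorem L701848 : sm ge N51409 = N49500 := ded_34_2 (flp_d L682178) L659761 (flp_d L658676) (flp_e L680817) L701839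
theorem L701850 : sm gi N49365 = N51410 := rfl
theorem L701852 : sm ga N51410 = N49417 := ded_18_1 (flp_i L681298) (flp_a L680822) L701850
theorem L701854 : sm gb N51410 = N51410 := ded_26_1 (flp_i L701850) L680824 L701850
theorem L701855 : sm gd N51410 = N50481 := ded_39_1 (flp_i L691502) L680833 L701850
theorem L701857 : sm ge N51410 = N49649 := ded_44_1 (flp_i L683631) (flp_e L680825) L701850
theorem L701859 : sm gf N51410 = N50052 := ded_48_1 (flp_i L687782) (flp_f L680827) L701850
theorem L701861 : sm gg N51410 = N49366 := ded_51_1 (flp_i L680835) (flp_g L680829) L701850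
theorem L701863 : sm gj N51410 = N50051 := ded_53_1 (flp_i L687767) (flp_j L680831) L701850
theorem L701865 : sm gh N51410 = N49501 := ded_54_1 (flp_i L682183) (flp_h L659764) (flp_i L658687) L680820 L701850
theorem L701867 : sm gi N49367 = N51411 := rfl
theorem L701869 : sm ga N51411 = N49422 := ded_18_1 (flp_i L681367) (flp_a L680850) L701867
theorem L701871 : sm gc N51411 = N49368 := ded_33_1 (flp_i L680861) L680848 L701867
theorem L701873 : sm ge N51411 = N49693 := ded_44_1 (flp_i L684091) (flp_e L680852) L701867
theorem L701875 : sm gf N51411 = N49369 := ded_48_1 (flp_i L680874) (flp_f L680854) L701867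
theorem L701877 : sm gg N51411 = N50337 := ded_51_1 (flp_i L690476) (flp_g L680856) L701867
theorem L701879 : sm gj N51411 = N49411 := ded_53_1 (flp_i L681242) (flp_j L680858) L701867
theorem L701881 : sm gh N49368 = N51412 := rfl
theorem L701883 : sm ga N51412 = N49424 := ded_17_1 (flp_h L681389) (flp_a L680863) L701881
theorem L701885 : sm gb N51412 = N51412 := ded_25_1 (flp_h L701881) L680865 L701881
theorem L701886 : sm ge N51412 = N50716 := ded_43_1 (flp_h L693321) (flp_e L680868) L701881
theorem L701888 : sm gf N51412 = N49370 := ded_47_1 (flp_h L680886) (flp_f L680870) L701881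
theorem L701890 : sm gg N51412 = N50338 := ded_50_1 (flp_h L690484) (flp_g L680872) L701881
theorem L701892 : sm gd N51412 = N49508 := ded_38_1 (flp_h L682257) L659821 (flp_h L658725) (flp_d L680866) L701881
theorem L701894 : sm gi N51412 = N51412 := ded_54_2 (flp_h L701881) (flp_i L680861) L658713 L680861 L701881
theorem L701895 : sm gh N49369 = N51413 := rfl
theorem L701897 : sm ga N51413 = N49427 := ded_17_1 (flp_h L681419) (flp_a L680876) L701895
theorem L701899 : sm gb N51413 = N50757 := ded_25_1 L695687 L695678 L701895
theorem L701901 : sm gc N51413 = N49370 := ded_32_1 (flp_h L680886) (flp_c L680878) L701895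
theorem L701903 : sm ge N51413 = N49409 := ded_43_1 (flp_h L681214) (flp_e L680880) L701895
theorem L701905 : sm gg N51413 = N49372 := ded_50_1 (flp_h L680909) (flp_g L680882) L701895
theorem L701907 : sm gj N51413 = N49412 := ded_52_1 (flp_h L681248) (flp_j L680884) L701895
theorem L701909 : sm gi N51413 = N51413 := ded_54_2 (flp_h L701895) (flp_i L680874) L658748 L680874 L701895
theorem L701910 : sm gd N49372 = N51414 := rfl
theorem L701912 : sm ga N51414 = N49430 := ded_12_1 (flp_d L681453) (flp_a L680911) L701910
theorem L701914 : sm gb N51414 = N50405 := ded_20_1 L690983 (flp_b L680913) L701910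
theorem L701916 : sm gf N51414 = N50343 := ded_35_2 (flp_d L690535) (flp_f L680919) L701910
theorem L701918 : sm gi N51414 = N51414 := ded_39_2 (flp_d L701910) L680921 L701910
theorem L701919 : sm gc N51414 = N49517 := ded_27_1 (flp_d L682348) L659895 (flp_d L658779) (flp_c L680915) L701910
theorem L701921 : sm ge N51414 = N50404 := ded_34_2 (flp_d L690973) L668893 L671852 (flp_e L680917) L701910
theorem L701923 : sm gd N49373 = N51415 := rfl
theorem L701925 : sm ga N51415 = N50534 := ded_12_1 L691920 (flp_a L680924) L701923
theorem L701927 : sm gb N51415 = N50118 := ded_20_1 (flp_d L688503) (flp_b L680926) L701923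
theorem L701929 : sm gf N51415 = N51415 := ded_35_2 (flp_d L701923) L680931 L701923
theorem L701930 : sm gg N51415 = N50104 := ded_36_2 (flp_d L688357) (flp_g L680932) L701923
theorem L701932 : sm gh N51415 = N49651 := ded_38_2 (flp_d L683656) (flp_h L661146) (flp_d L658793) L680922 L701923
theorem L701934 : sm gi N49373 = N51416 := rfl
theorem L701936 : sm ga N51416 = N50545 := ded_18_1 (flp_i L692002) (flp_a L680924) L701934
theorem L701938 : sm gb N51416 = N50119 := ded_26_1 (flp_i L688510) (flp_b L680926) L701934
theorem L701940 : sm gc N51416 = N51416 := ded_33_1 (flp_i L701934) L680928 L701934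
theorem L701941 : sm ge N51416 = N49376 := ded_44_1 (flp_i L680953) (flp_e L680929) L701934
theorem L701943 : sm gf N51416 = N51416 := ded_48_1 (flp_i L701934) L680931 L701934
theorem L701944 : sm gg N51416 = N50105 := ded_51_1 (flp_i L688369) (flp_g L680932) L701934
theorem L701946 : sm gh N51416 = N49520 := ded_54_1 (flp_i L682376) (flp_h L659913) (flp_i L658791) L680922 L701934
theorem L701948 : sm gd N49374 = N51417 := rfl
theorem L701950 : sm gb N51417 = N50441 := ded_20_1 L691219 (flp_b L680936) L701948
theorem L701952 : sm gf N51417 = N49377 := ded_35_2 (flp_d L680962) (flp_f L680939) L701948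
theorem L701954 : sm gg N51417 = N50438 := ded_36_2 L691197 (flp_g L680941) L701948
theorem L701956 : sm gj N51417 = N49375 := ded_37_2 (flp_d L680945) (flp_j L680943) L701948
theorem L701958 : sm gh N51417 = N49389 := ded_38_2 (flp_d L681070) (flp_h L658864) (flp_d L658799) L680934 L701948
theorem L701960 : sm gi N49374 = N51418 := rfl
theorem L701962 : sm gb N51418 = N50759 := ded_26_1 (flp_i L693684) (flp_b L680936) L701960
theorem L701964 : sm gc N51418 = N51418 := ded_33_1 (flp_i L701960) L680938 L701960
theorem L701965 : sm gf N51418 = N49378 := ded_48_1 (flp_i L680972) (flp_f L680939) L701960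
theorem L701967 : sm gg N51418 = N50758 := ded_51_1 (flp_i L693677) (flp_g L680941) L701960
theorem L701969 : sm gj N51418 = N49376 := ded_53_1 (flp_i L680953) (flp_j L680943) L701960
theorem L701971 : sm gh N51418 = N49523 := ded_54_1 (flp_i L682407) (flp_h L659936) (flp_i L658803) L680934 L701960
theorem L701973 : sm gc N49375 = N51419 := rfl
theorem L701975 : sm gf N51419 = N49379 := ded_29_2 (flp_c L680984) (flp_f L680947) L701973
theorem L701977 : sm gg N51419 = N50344 := ded_30_2 (flp_c L690542) (flp_g L680949) L701973
theorem L701979 : sm gh N51419 = N49391 := ded_32_2 (flp_c L681088) (flp_h L680951) L701973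
theorem L701981 : sm gd N51419 = N51419 := ded_27_2 (flp_c L701973) (flp_d L680945) L658807 L680945 L701973
theorem L701982 : sm ge N49375 = N51420 := rfl
theorem L701984 : sm gg N51420 = N50345 := ded_41_2 (flp_e L690549) (flp_g L680949) L701982
theorem L701986 : sm gh N51420 = N49392 := ded_43_2 (flp_e L681096) (flp_h L680951) L701982
theorem L701988 : sm gi N49375 = N51421 := rfl
theorem L701990 : sm gd N51421 = N49376 := ded_39_1 (flp_i L680953) L680945 L701988
theorem L701992 : sm gf N51421 = N49381 := ded_48_1 (flp_i L680998) (flp_f L680947) L701988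
theorem L701994 : sm gg N51421 = N50346 := ded_51_1 (flp_i L690553) (flp_g L680949) L701988
theorem L701996 : sm gi N49377 = N51422 := rfl
theorem L701998 : sm gb N51422 = N50453 := ded_26_1 (flp_i L691295) (flp_b L680964) L701996
theorem L702000 : sm gd N51422 = N49378 := ded_39_1 (flp_i L680972) L680962 L701996
theorem L702002 : sm gg N51422 = N50450 := ded_51_1 (flp_i L691275) (flp_g L680966) L701996
theorem L702004 : sm gj N51422 = N49381 := ded_53_1 (flp_i L680998) (flp_j L680968) L701996
theorem L702006 : sm gb N49379 = N51423 := rfl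
theorem L702008 : sm gd N51423 = N51423 := ded_20_2 (flp_b L702006) L680990 L702006
theorem L702009 : sm gg N51423 = N49382 := ded_23_2 (flp_b L681004) (flp_g L680986) L702006
theorem L702011 : sm gj N51423 = N50035 := ded_24_2 (flp_b L701591) L701597 L702006
theorem L702013 : sm gh N51423 = N49395 := ded_25_2 (flp_b L681116) (flp_h L680988) L702006
theorem L702015 : sm gc N51423 = N50039 := ded_19_2 L687649 (flp_c L674211) L674205 L680984 L702006
theorem L702017 : sm gi N49379 = N51424 := rfl
theorem L702019 : sm gc N51424 = N49381 := ded_33_1 (flp_i L680998) L680984 L702017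
theorem L702021 : sm gd N51424 = N51424 := ded_39_1 (flp_i L702017) L680990 L702017
theorem L702022 : sm gg N51424 = N49384 := ded_51_1 (flp_i L681023) (flp_g L680986) L702017
theorem L702024 : sm gf N49380 = N51425 := rfl
theorem L702026 : sm gd N51425 = N51425 := ded_35_1 (flp_f L702024) L680997 L702024
theorem L702027 : sm gh N51425 = N49397 := ded_47_2 (flp_f L681130) (flp_h L680995) L702024
theorem L702029 : sm gi N49380 = N51426 := rfl
theorem L702031 : sm gd N51426 = N51426 := ded_39_1 (flp_i L702029) L680997 L702029
theorem L702032 : sm ge N51426 = N49381 := ded_44_1 (flp_i L680998) L680991 L702029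
theorem L702034 : sm gg N51426 = N49386 := ded_51_1 (flp_i L681043) (flp_g L680993) L702029
theorem L702036 : sm gh N49381 = N51427 := rfl
theorem L702038 : sm gg N51427 = N49387 := ded_50_1 (flp_h L681048) (flp_g L681002) L702036
theorem L702040 : sm gd N51427 = N49535 := ded_38_1 (flp_h L682511) L659986 (flp_h L658834) (flp_d L681000) L702036
theorem L702042 : sm gi N51427 = N49399 := ded_54_2 (flp_h L681142) (flp_i L658918) (flp_h L658826) L680998 L702036
theorem L702044 : sm gi N49382 = N51428 := rfl
theorem L702046 : sm gb N51428 = N49384 := ded_26_1 (flp_i L681023) L681004 L702044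
theorem L702048 : sm gc N51428 = N50762 := ded_33_1 (flp_i L695356) L695360 L702044
theorem L702050 : sm gd N51428 = N51428 := ded_39_1 (flp_i L702044) L681006 L702044
theorem L702051 : sm gf N51428 = N50349 := ded_48_1 (flp_i L690574) (flp_f L681007) L702044
theorem L702053 : sm gi N49383 = N51429 := rfl
theorem L702055 : sm ga N51429 = N50450 := ded_18_1 (flp_i L691275) (flp_a L681013) L702053
theorem L702057 : sm gc N51429 = N49386 := ded_33_1 (flp_i L681043) (flp_c L681015) L702053
theorem L702059 : sm gd N51429 = N50760 := ded_39_1 (flp_i L693692) (flp_d L681021) L702053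
theorem L702061 : sm ge N51429 = N49384 := ded_44_1 (flp_i L681023) L681011 L702053
theorem L702063 : sm gf N51429 = N50448 := ded_48_1 (flp_i L691263) (flp_f L681019) L702053
theorem L702065 : sm gh N49384 = N51430 := rfl
theorem L702067 : sm gc N51430 = N49387 := ded_32_1 (flp_h L681048) (flp_c L681025) L702065
theorem L702069 : sm gf N51430 = N50350 := ded_47_1 (flp_h L690579) (flp_f L681028) L702065
theorem L702071 : sm gi N51430 = N49405 := ded_54_2 (flp_h L681182) (flp_i L658934) (flp_h L658840) L681023 L702065
theorem L702073 : sm gg N49385 = N51431 := rfl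
theorem L702075 : sm ga N51431 = N50025 := ded_15_1 L687531 (flp_a L681032) L702073
theorem L702077 : sm gb N51431 = N49467 := ded_23_1 L681867 (flp_b L681034) L702073
theorem L702079 : sm gc N51431 = N49452 := ded_30_1 L681720 (flp_c L681036) L702073
theorem L702081 : sm gd N51431 = N51431 := ded_36_1 (flp_g L702073) L681038 L702073
theorem L702082 : sm ge N51431 = N49446 := ded_41_1 L681653 (flp_e L681041) L702073
theorem L702084 : sm gh N51431 = N49406 := ded_50_2 (flp_g L681188) (flp_h L681039) L702073
theorem L702086 : sm gj N51431 = N49454 := ded_49_2 L681743 (flp_j L679269) (flp_g L700366) L700360 L702073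
theorem L702088 : sm gi N49385 = N51432 := rfl
theorem L702090 : sm ga N51432 = N50033 := ded_18_1 (flp_i L687606) (flp_a L681032) L702088
theorem L702092 : sm gb N51432 = N49472 := ded_26_1 (flp_i L681914) (flp_b L681034) L702088
theorem L702094 : sm gc N51432 = N50448 := ded_33_1 (flp_i L691263) (flp_c L681036) L702088
theorem L702096 : sm gd N51432 = N51432 := ded_39_1 (flp_i L702088) L681038 L702088
theorem L702097 : sm ge N51432 = N49448 := ded_44_1 (flp_i L681670) (flp_e L681041) L702088
theorem L702099 : sm gf N51432 = N49386 := ded_48_1 (flp_i L681043) L681030 L702088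
theorem L702101 : sm gh N49386 = N51433 := rfl
theorem L702103 : sm ge N51433 = N49387 := ded_43_1 (flp_h L681048) (flp_e L681046) L702101
theorem L702105 : sm gi N51433 = N49408 := ded_54_2 (flp_h L681210) (flp_i L658950) (flp_h L658845) L681043 L702101
theorem L702107 : sm gd N49388 = N51434 := rfl
theorem L702109 : sm gb N51434 = N50013 := ded_20_1 L687415 (flp_b L681058) L702107
theorem L702111 : sm gf N51434 = N50022 := ded_35_2 L687489 (flp_f L681064) L702107
theorem L702113 : sm gg N51434 = N49389 := ded_36_2 (flp_d L681070) (flp_g L681066) L702107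
theorem L702115 : sm gj N51434 = N50016 := ded_37_2 L687441 (flp_j L681068) L702107
theorem L702117 : sm gc N51434 = N50420 := ded_27_1 L691075 L669247 L659051 (flp_c L681060) L702107
theorem L702119 : sm gh N51434 = N50438 := ded_38_2 L691197 L674735 L674725 L681056 L702107
theorem L702121 : sm gi N49388 = N51435 := rfl
theorem L702123 : sm gb N51435 = N50044 := ded_26_1 (flp_i L687691) (flp_b L681058) L702121
theorem L702125 : sm gc N51435 = N49417 := ded_33_1 (flp_i L681298) (flp_c L681060) L702121
theorem L702127 : sm ge N51435 = N49665 := ded_44_1 (flp_i L683806) (flp_e L681062) L702121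
theorem L702129 : sm gf N51435 = N50048 := ded_48_1 (flp_i L687739) (flp_f L681064) L702121
theorem L702131 : sm gg N51435 = N49390 := ded_51_1 (flp_i L681076) (flp_g L681066) L702121
theorem L702133 : sm gj N51435 = N50045 := ded_53_1 (flp_i L687699) (flp_j L681068) L702121
theorem L702135 : sm gh N51435 = N49543 := ded_54_1 (flp_i L682574) (flp_h L660038) (flp_i L658860) L681056 L702121
theorem L702137 : sm ge N49389 = N51436 := rfl
theorem L702139 : sm gj N51436 = N49392 := ded_42_2 (flp_e L681096) (flp_j L681074) L702137
theorem L702141 : sm gd N51436 = N49667 := ded_34_1 (flp_e L683831) (flp_d L661280) (flp_e L658868) L681070 L702137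
theorem L702143 : sm gi N49389 = N51437 := rfl
theorem L702145 : sm gd N51437 = N49390 := ded_39_1 (flp_i L681076) L681070 L702143
theorem L702147 : sm gf N51437 = N49394 := ded_48_1 (flp_i L681110) (flp_f L681072) L702143
theorem L702149 : sm gj N51437 = N49393 := ded_53_1 (flp_i L681102) (flp_j L681074) L702143
theorem L702151 : sm gb N49391 = N51438 := rfl
theorem L702153 : sm gd N51438 = N49420 := ded_20_2 (flp_b L681343) (flp_d L681094) L702151
theorem L702155 : sm gf N51438 = N49395 := ded_22_2 (flp_b L681116) (flp_f L681090) L702151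
theorem L702157 : sm gg N51438 = N49544 := ded_23_2 L682590 (flp_g L681092) L702151
theorem L702159 : sm gj N51438 = N50417 := ded_24_2 (flp_b L701748) L701754 L702151
theorem L702161 : sm gc N51438 = N49542 := ded_19_2 L695459 (flp_c L695445) L674309 L681088 L702151
theorem L702163 : sm ge N49391 = N51439 := rfl
theorem L702165 : sm gc N51439 = N49392 := ded_28_1 (flp_e L681096) L681088 L702163
theorem L702167 : sm gg N51439 = N50354 := ded_41_2 (flp_e L690607) (flp_g L681092) L702163
theorem L702169 : sm gi N49391 = N51440 := rfl
theorem L702171 : sm gc N51440 = N49393 := ded_33_1 (flp_i L681102) L681088 L702169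
theorem L702173 : sm gd N51440 = N49422 := ded_39_1 (flp_i L681367) (flp_d L681094) L702169
theorem L702175 : sm gf N51440 = N49396 := ded_48_1 (flp_i L681122) (flp_f L681090) L702169
theorem L702177 : sm gg N51440 = N50355 := ded_51_1 (flp_i L690611) (flp_g L681092) L702169
theorem L702179 : sm gf N49392 = N51441 := rfl
theorem L702181 : sm gd N51441 = N49672 := ded_35_1 (flp_f L683879) (flp_d L681100) L702179
theorem L702183 : sm ge N51441 = N49397 := ded_40_1 (flp_f L681130) (flp_e L658912) (flp_f L658876) L681096 L702179
theorem L702185 : sm gi N49392 = N51442 := rfl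
theorem L702187 : sm gd N51442 = N49673 := ded_39_1 (flp_i L683883) (flp_d L681100) L702185
theorem L702189 : sm ge N51442 = N49393 := ded_44_1 (flp_i L681102) L681096 L702185
theorem L702191 : sm gg N51442 = N50357 := ded_51_1 (flp_i L690627) (flp_g L681098) L702185
theorem L702193 : sm gh N49393 = N51443 := rfl
theorem L702195 : sm gf N51443 = N49399 := ded_47_1 (flp_h L681142) (flp_f L681106) L702193
theorem L702197 : sm gg N51443 = N50358 := ded_50_1 (flp_h L690633) (flp_g L681108) L702193
theorem L702199 : sm gd N51443 = N49552 := ded_38_1 (flp_h L682650) L660080 (flp_h L658890) (flp_d L681104) L702193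
theorem L702201 : sm gh N49394 = N51444 := rfl
theorem L702203 : sm gj N51444 = N49399 := ded_52_1 (flp_h L681142) (flp_j L681114) L702201
theorem L702205 : sm gd N51444 = N49557 := ded_38_1 (flp_h L682699) L660108 (flp_h L658904) (flp_d L681112) L702201
theorem L702207 : sm gi N49395 = N51445 := rfl
theorem L702209 : sm gb N51445 = N49396 := ded_26_1 (flp_i L681122) L681116 L702207
theorem L702211 : sm gd N51445 = N49426 := ded_39_1 (flp_i L681411) (flp_d L681118) L702207
theorem L702213 : sm gg N51445 = N49402 := ded_51_1 (flp_i L681158) (flp_g L681120) L702207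
theorem L702215 : sm gh N49396 = N51446 := rfl
theorem L702217 : sm gc N51446 = N49399 := ded_32_1 (flp_h L681142) (flp_c L681124) L702215
theorem L702219 : sm gg N51446 = N49405 := ded_50_1 (flp_h L681182) (flp_g L681128) L702215
theorem L702221 : sm gg N49397 = N51447 := rfl
theorem L702223 : sm ga N51447 = N50420 := ded_15_1 (flp_g L701756) L701746 L702221
theorem L702225 : sm gb N51447 = N49486 := ded_23_1 (flp_g L695560) L695556 L702221
theorem L702227 : sm gd N51447 = N49410 := ded_36_1 (flp_g L681227) (flp_d L681132) L702221
theorem L702229 : sm gf N51447 = N49406 := ded_45_1 (flp_g L681188) (flp_f L658942) (flp_g L658914) L681130 L702221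
theorem L702231 : sm gj N50425 = N51447 := ded_16_0 L702223 L691079 L691111
theorem L702233 : sm gi N49397 = N51448 := rfl
theorem L702235 : sm gd N51448 = N49411 := ded_39_1 (flp_i L681242) (flp_d L681132) L702233
theorem L702237 : sm gf N51448 = N49398 := ded_48_1 (flp_i L681134) L681130 L702233
theorem L702239 : sm gh N49398 = N51449 := rfl
theorem L702241 : sm ge N51449 = N49399 := ded_43_1 (flp_h L681142) (flp_e L681138) L702239
theorem L702243 : sm gg N51449 = N49408 := ded_50_1 (flp_h L681210) (flp_g L681140) L702239
theorem L702245 : sm gi N49400 = N51450 := rfl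
theorem L702247 : sm ga N51450 = N49402 := ded_18_1 (flp_i L681158) L681148 L702245
theorem L702249 : sm gb N51450 = N50763 := ded_26_1 (flp_i L695378) L695368 L702245
theorem L702251 : sm gd N51450 = N49428 := ded_39_1 (flp_i L681426) (flp_d L681150) L702245
theorem L702253 : sm ge N51450 = N50762 := ded_44_1 (flp_i L695356) (flp_e L695362) L702245
theorem L702255 : sm gf N51450 = N50365 := ded_48_1 (flp_i L690681) (flp_f L681152) L702245
theorem L702257 : sm gi N49401 = N51451 := rfl
theorem L702259 : sm ga N51451 = N50762 := ded_18_1 (flp_i L695356) L695358 L702257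
theorem L702261 : sm gb N51451 = N49404 := ded_26_1 (flp_i L681176) (flp_b L681156) L702257
theorem L702263 : sm gd N51451 = N50761 := ded_39_1 (flp_i L700020) L700018 L702257
theorem L702265 : sm ge N51451 = N49402 := ded_44_1 (flp_i L681158) L681154 L702257
theorem L702267 : sm gh N49402 = N51452 := rfl
theorem L702269 : sm gb N51452 = N49405 := ded_25_1 (flp_h L681182) (flp_b L681160) L702267
theorem L702271 : sm gf N51452 = N50367 := ded_47_1 (flp_h L690696) (flp_f L681164) L702267
theorem L702273 : sm gg N49403 = N51453 := rfl
theorem L702275 : sm ga N51453 = N50022 := ded_15_1 L687493 (flp_a L681168) L702273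
theorem L702277 : sm gb N51453 = N49464 := ded_23_1 (flp_g L700609) L700605 L702273
theorem L702279 : sm gc N51453 = N49406 := ded_30_1 (flp_g L681188) (flp_c L681170) L702273
theorem L702281 : sm gd N51453 = N49445 := ded_36_1 (flp_g L700164) L700168 L702273
theorem L702283 : sm ge N51453 = N49454 := ded_41_1 L681743 (flp_e L681174) L702273
theorem L702285 : sm gh N51453 = N49452 := ded_50_2 L681720 (flp_h L681172) L702273
theorem L702287 : sm gj N51453 = N49446 := ded_49_2 L681653 (flp_j L679217) (flp_g L700178) L700180 L702273
theorem L702289 : sm gi N49403 = N51454 := rfl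
theorem L702291 : sm ga N51454 = N50413 := ded_18_1 (flp_i L691030) (flp_a L681168) L702289
theorem L702293 : sm gc N51454 = N49407 := ded_33_1 (flp_i L681200) (flp_c L681170) L702289
theorem L702295 : sm ge N51454 = N49457 := ded_44_1 (flp_i L681767) (flp_e L681174) L702289
theorem L702297 : sm gf N51454 = N49404 := ded_48_1 (flp_i L681176) L681166 L702289
theorem L702299 : sm gh N49404 = N51455 := rfl
theorem L702301 : sm gc N51455 = N49408 := ded_32_1 (flp_h L681210) (flp_c L681178) L702299
theorem L702303 : sm ge N51455 = N49405 := ded_43_1 (flp_h L681182) (flp_e L681180) L702299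
theorem L702305 : sm gd N49405 = N51456 := rfl
theorem L702307 : sm gf N51456 = N50369 := ded_35_2 (flp_d L690706) (flp_f L681186) L702305
theorem L702309 : sm gc N51456 = N49573 := ded_27_1 (flp_d L682833) L660200 (flp_d L658960) (flp_c L681184) L702305
theorem L702311 : sm gh N51456 = N49430 := ded_38_2 (flp_d L681453) (flp_h L659151) (flp_d L658938) L681182 L702305
theorem L702313 : sm gi N49406 = N51457 := rfl
theorem L702315 : sm ga N51457 = N50435 := ded_18_1 (flp_i L691171) (flp_a L681190) L702313
theorem L702317 : sm gb N51457 = N49487 := ded_26_1 (flp_i L682050) (flp_b L681192) L702313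
theorem L702319 : sm gd N51457 = N49413 := ded_39_1 (flp_i L681255) (flp_d L681194) L702313
theorem L702321 : sm ge N51457 = N49455 := ded_44_1 (flp_i L681748) (flp_e L681196) L702313
theorem L702323 : sm gg N51457 = N49407 := ded_51_1 (flp_i L681200) L681188 L702313
theorem L702325 : sm gj N51457 = N50437 := ded_53_1 (flp_i L691185) (flp_j L681198) L702313
theorem L702327 : sm gh N49407 = N51458 := rfl
theorem L702329 : sm gb N51458 = N49494 := ded_25_1 (flp_h L682114) (flp_b L681202) L702327
theorem L702331 : sm ge N51458 = N49458 := ded_43_1 (flp_h L681776) (flp_e L681206) L702327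
theorem L702333 : sm gf N51458 = N49408 := ded_47_1 (flp_h L681210) (flp_f L681208) L702327
theorem L702335 : sm gd N49408 = N51459 := rfl
theorem L702337 : sm ge N51459 = N49577 := ded_34_2 (flp_d L682859) L660220 (flp_d L658960) (flp_e L681212) L702335
theorem L702339 : sm gh N51459 = N49415 := ded_38_2 (flp_d L681278) (flp_h L659011) (flp_d L658952) L681210 L702335
theorem L702341 : sm gi N49410 = N51460 := rfl
theorem L702343 : sm ga N51460 = N50462 := ded_18_1 (flp_i L691358) (flp_a L681229) L702341
theorem L702345 : sm gb N51460 = N49498 := ded_26_1 (flp_i L682159) (flp_b L681231) L702341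
theorem L702347 : sm gc N51460 = N50481 := ded_33_1 (flp_i L691502) (flp_c L681233) L702341
theorem L702349 : sm ge N51460 = N49696 := ded_44_1 (flp_i L684122) (flp_e L681235) L702341
theorem L702351 : sm gf N51460 = N49413 := ded_48_1 (flp_i L681255) (flp_f L681238) L702341
theorem L702353 : sm gg N51460 = N49411 := ded_51_1 (flp_i L681242) L681227 L702341
theorem L702355 : sm gj N51460 = N50464 := ded_53_1 (flp_i L691377) L681240 L702341
theorem L702357 : sm gh N49411 = N51461 := rfl
theorem L702359 : sm ge N51461 = N49697 := ded_43_1 (flp_h L684130) (flp_e L681244) L702357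
theorem L702361 : sm gf N51461 = N49412 := ded_47_1 (flp_h L681248) (flp_f L681246) L702357
theorem L702363 : sm gi N51461 = N51461 := ded_54_2 (flp_h L702357) (flp_i L681242) L658972 L681242 L702357
theorem L702364 : sm gd N49412 = N51462 := rfl
theorem L702366 : sm gg N51462 = N49415 := ded_36_2 (flp_d L681278) (flp_g L681252) L702364
theorem L702368 : sm gi N51462 = N51462 := ded_39_2 (flp_d L702364) L681254 L702364
theorem L702369 : sm ge N51462 = N49583 := ded_34_2 (flp_d L682911) L660273 (flp_d L658987) (flp_e L681250) L702364
theorem L702371 : sm gh N49413 = N51463 := rfl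
theorem L702373 : sm ga N51463 = N50472 := ded_17_1 (flp_h L691439) (flp_a L681257) L702371
theorem L702375 : sm gb N51463 = N49499 := ded_25_1 (flp_h L682168) (flp_b L681259) L702371
theorem L702377 : sm gc N51463 = N50488 := ded_32_1 (flp_h L691574) (flp_c L681261) L702371
theorem L702379 : sm ge N51463 = N49416 := ded_43_1 (flp_h L681283) (flp_e L681263) L702371
theorem L702381 : sm gg N51463 = N49414 := ded_50_1 (flp_h L681269) (flp_g L681265) L702371
theorem L702383 : sm gj N51463 = N50474 := ded_52_1 (flp_h L691455) (flp_j L681267) L702371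
theorem L702385 : sm gi N51463 = N51463 := ded_54_2 (flp_h L702371) (flp_i L681255) L659000 L681255 L702371
theorem L702386 : sm gd N49414 = N51464 := rfl
theorem L702388 : sm gb N51464 = N49500 := ded_20_1 (flp_d L682178) (flp_b L681271) L702386
theorem L702390 : sm gf N51464 = N49415 := ded_35_2 (flp_d L681278) (flp_f L681275) L702386
theorem L702392 : sm gi N51464 = N51464 := ded_39_2 (flp_d L702386) L681277 L702386
theorem L702393 : sm gc N51464 = N50479 := ded_27_1 L691495 (flp_c L681600) (flp_d L701344) L701334 L702386
theorem L702395 : sm ge N51464 = N50478 := ded_34_2 L691488 (flp_e L675032) L675036 (flp_e L681273) L702386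
theorem L702397 : sm gc N49415 = N51465 := rfl
theorem L702399 : sm ga N51465 = N50376 := ded_11_1 (flp_c L701846) L701841 L702397
theorem L702401 : sm ge N51465 = N49587 := ded_28_2 (flp_c L682942) (flp_e L681281) L702397
theorem L702403 : sm gf N51465 = N50479 := ded_29_2 (flp_c L702393) L702390 L702397
theorem L702405 : sm gi N51465 = N51465 := ded_33_2 (flp_c L702397) L681280 L702397
theorem L702406 : sm gd N51465 = N50375 := ded_27_2 L690752 (flp_d L680167) L680163 L681278 L702397
theorem L702408 : sm gb N50480 = N51465 := ded_22_3 L702403 L691492 L691497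
theorem L702410 : sm gi N49418 = N51466 := rfl
theorem L702412 : sm ga N51466 = N49618 := ded_18_1 (flp_i L683273) (flp_a L681316) L702410
theorem L702414 : sm gb N51466 = N49431 := ded_26_1 (flp_i L681460) (flp_b L681318) L702410
theorem L702416 : sm gc N51466 = N49646 := ded_33_1 (flp_i L683608) (flp_c L681320) L702410
theorem L702418 : sm gd N51466 = N49707 := ded_39_1 (flp_i L684240) (flp_d L681327) L702410
theorem L702420 : sm ge N51466 = N49419 := ded_44_1 (flp_i L681331) L681314 L702410
theorem L702422 : sm gf N51466 = N49614 := ded_48_1 (flp_i L683219) (flp_f L681329) L702410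
theorem L702424 : sm gg N51466 = N50482 := ded_51_1 (flp_i L691511) (flp_g L681322) L702410
theorem L702426 : sm gj N51466 = N49423 := ded_53_1 (flp_i L681375) (flp_j L681324) L702410
theorem L702428 : sm gh N49419 = N51467 := rfl
theorem L702430 : sm gb N51467 = N49432 := ded_25_1 (flp_h L681475) (flp_b L681333) L702428
theorem L702432 : sm gf N51467 = N49425 := ded_47_1 (flp_h L681400) (flp_f L681337) L702428
theorem L702434 : sm gg N51467 = N50483 := ded_50_1 (flp_h L691523) (flp_g L681339) L702428
theorem L702436 : sm gj N51467 = N49424 := ded_52_1 (flp_h L681389) (flp_j L681341) L702428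
theorem L702438 : sm gd N51467 = N49591 := ded_38_1 (flp_h L682977) L660360 (flp_h L659074) (flp_d L681335) L702428
theorem L702440 : sm gi N51467 = N51467 := ded_54_2 (flp_h L702428) (flp_i L681331) L659063 L681331 L702428
theorem L702441 : sm gi N49420 = N51468 := rfl
theorem L702443 : sm gb N51468 = N49422 := ded_26_1 (flp_i L681367) L681343 L702441
theorem L702445 : sm gc N51468 = N49435 := ded_33_1 (flp_i L681514) (flp_c L681352) L702441
theorem L702447 : sm gf N51468 = N49426 := ded_48_1 (flp_i L681411) (flp_f L681345) L702441
theorem L702449 : sm gg N51468 = N49589 := ded_51_1 (flp_i L682956) (flp_g L681347) L702441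
theorem L702451 : sm gj N51468 = N50460 := ded_53_1 (flp_i L691341) (flp_j L681349) L702441
theorem L702453 : sm gd N49421 = N51469 := rfl
theorem L702455 : sm ga N51469 = N49676 := ded_12_1 L683916 (flp_a L681356) L702453
theorem L702457 : sm gf N51469 = N49638 := ded_35_2 L683529 (flp_f L681365) L702453
theorem L702459 : sm gg N51469 = N50370 := ded_36_2 (flp_d L690712) (flp_g L681360) L702453
theorem L702461 : sm gj N51469 = N49640 := ded_37_2 L683548 (flp_j L681362) L702453
theorem L702463 : sm gc N51469 = N49709 := ded_27_1 (flp_d L684276) L661664 (flp_d L659092) (flp_c L681358) L702453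
theorem L702465 : sm gh N50531 = N51469 := ded_47_0 L702457 L683527 L691892
theorem L702467 : sm gi N49421 = N51470 := rfl
theorem L702469 : sm ga N51470 = N49693 := ded_18_1 (flp_i L684091) (flp_a L681356) L702467
theorem L702471 : sm gc N51470 = N49423 := ded_33_1 (flp_i L681375) (flp_c L681358) L702467
theorem L702473 : sm ge N51470 = N49422 := ded_44_1 (flp_i L681367) L681354 L702467
theorem L702475 : sm gf N51470 = N49644 := ded_48_1 (flp_i L683587) (flp_f L681365) L702467
theorem L702477 : sm gg N51470 = N50371 := ded_51_1 (flp_i L690717) (flp_g L681360) L702467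
theorem L702479 : sm gj N51470 = N49646 := ded_53_1 (flp_i L683608) (flp_j L681362) L702467
theorem L702481 : sm gh N49422 = N51471 := rfl
theorem L702483 : sm gc N51471 = N49424 := ded_32_1 (flp_h L681389) (flp_c L681369) L702481
theorem L702485 : sm gf N51471 = N49427 := ded_47_1 (flp_h L681419) (flp_f L681371) L702481
theorem L702487 : sm gg N51471 = N50372 := ded_50_1 (flp_h L690724) (flp_g L681373) L702481
theorem L702489 : sm gi N51471 = N51471 := ded_54_2 (flp_h L702481) (flp_i L681367) L659082 L681367 L702481
theorem L702490 : sm gh N49423 = N51472 := rfl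
theorem L702492 : sm ga N51472 = N50716 := ded_17_1 (flp_h L693321) (flp_a L681377) L702490
theorem L702494 : sm gb N51472 = N49438 := ded_25_1 (flp_h L681555) (flp_b L681379) L702490
theorem L702496 : sm ge N51472 = N49424 := ded_43_1 (flp_h L681389) (flp_e L681383) L702490
theorem L702498 : sm gf N51472 = N50843 := ded_47_1 (flp_h L694367) (flp_f L681385) L702490
theorem L702500 : sm gg N51472 = N50373 := ded_50_1 (flp_h L690731) (flp_g L681387) L702490
theorem L702502 : sm gd N51472 = N50718 := ded_38_1 (flp_h L693337) L671427 (flp_h L661698) (flp_d L681381) L702490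
theorem L702504 : sm gi N51472 = N51472 := ded_54_2 (flp_h L702490) (flp_i L681375) L659091 L681375 L702490
theorem L702505 : sm gh N49426 = N51473 := rfl
theorem L702507 : sm ga N51473 = N50771 := ded_17_1 L696600 L696588 L702505
theorem L702509 : sm gb N51473 = N49427 := ded_25_1 (flp_h L681419) (flp_b L681413) L702505
theorem L702511 : sm gc N51473 = N49441 := ded_32_1 (flp_h L681584) (flp_c L681415) L702505
theorem L702513 : sm ge N51473 = N50769 := ded_43_1 L696080 L696072 L702505
theorem L702515 : sm gg N51473 = N49429 := ded_50_1 (flp_h L681440) (flp_g L681417) L702505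
theorem L702517 : sm gj N51473 = N50490 := ded_52_1 L696045 L696043 L702505
theorem L702519 : sm gi N51473 = N51473 := ded_54_2 (flp_h L702505) (flp_i L681411) L659118 L681411 L702505
theorem L702520 : sm gd N49427 = N51474 := rfl
theorem L702522 : sm gg N51474 = N49430 := ded_36_2 (flp_d L681453) (flp_g L681423) L702520
theorem L702524 : sm gi N51474 = N51474 := ded_39_2 (flp_d L702520) L681425 L702520
theorem L702525 : sm gc N51474 = N49602 := ded_27_1 (flp_d L683091) L660457 (flp_d L659133) (flp_c L681421) L702520
theorem L702527 : sm gd N49429 = N51475 := rfl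
theorem L702529 : sm ga N51475 = N50479 := ded_12_1 L691495 (flp_a L681442) L702527
theorem L702531 : sm gb N51475 = N49430 := ded_20_1 (flp_d L681453) (flp_b L681444) L702527
theorem L702533 : sm gf N51475 = N50376 := ded_35_2 (flp_d L690758) (flp_f L681450) L702527
theorem L702535 : sm gi N51475 = N51475 := ded_39_2 (flp_d L702527) L681452 L702527
theorem L702536 : sm ge N51475 = N50477 := ded_34_2 (flp_d L691480) L669383 L672048 (flp_e L681448) L702527
theorem L702538 : sm ge N49430 = N51476 := rfl
theorem L702540 : sm ga N51476 = N50404 := ded_13_1 (flp_e L701921) L701912 L702538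
theorem L702542 : sm gb N51476 = N50477 := ded_21_1 (flp_e L702536) L702531 L702538
theorem L702544 : sm gc N51476 = N49605 := ded_28_1 (flp_e L683113) (flp_c L681458) L702538
theorem L702546 : sm gi N51476 = N51476 := ded_44_2 (flp_e L702538) L681457 L702538
theorem L702547 : sm gd N51476 = N50403 := ded_34_1 L690970 (flp_d L680267) L680264 L681453 L702538
theorem L702549 : sm gi N49433 = N51477 := rfl
theorem L702551 : sm ga N51477 = N49435 := ded_18_1 (flp_i L681514) L681489 L702549
theorem L702553 : sm gb N51477 = N51477 := ded_26_1 (flp_i L702549) L681500 L702549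
theorem L702554 : sm gd N51477 = N49501 := ded_39_1 (flp_i L682183) (flp_d L681491) L702549
theorem L702556 : sm gf N51477 = N49440 := ded_48_1 (flp_i L681577) (flp_f L681493) L702549
theorem L702558 : sm gg N51477 = N49504 := ded_51_1 (flp_i L682214) (flp_g L681495) L702549
theorem L702560 : sm gj N51477 = N50398 := ded_53_1 (flp_i L690918) (flp_j L681497) L702549
theorem L702562 : sm gi N49434 = N51478 := rfl
theorem L702564 : sm gb N51478 = N49436 := ded_26_1 (flp_i L681526) (flp_b L681503) L702562
theorem L702566 : sm gd N51478 = N49893 := ded_39_1 (flp_i L685968) (flp_d L681510) L702562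
theorem L702568 : sm ge N51478 = N49435 := ded_44_1 (flp_i L681514) L681501 L702562
theorem L702570 : sm gf N51478 = N49924 := ded_48_1 L686348 (flp_f L681512) L702562
theorem L702572 : sm gg N51478 = N49590 := ded_51_1 (flp_i L682966) (flp_g L681505) L702562
theorem L702574 : sm gj N51478 = N49922 := ded_53_1 L686326 (flp_j L681507) L702562
theorem L702576 : sm gh N49435 = N51479 := rfl
theorem L702578 : sm gb N51479 = N49437 := ded_25_1 (flp_h L681541) (flp_b L681516) L702576
theorem L702580 : sm gf N51479 = N49441 := ded_47_1 (flp_h L681584) (flp_f L681520) L702576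
theorem L702582 : sm gg N51479 = N49591 := ded_50_1 (flp_h L682977) (flp_g L681522) L702576
theorem L702584 : sm gj N51479 = N50461 := ded_52_1 (flp_h L691347) (flp_j L681524) L702576
theorem L702586 : sm gd N51479 = N50483 := ded_38_1 (flp_h L691523) (flp_d L681302) L681312 (flp_d L681518) L702576
theorem L702588 : sm gi N51479 = N51479 := ded_54_2 (flp_h L702576) (flp_i L681514) L659212 L681514 L702576
theorem L702589 : sm gh N49440 = N51480 := rfl
theorem L702591 : sm ga N51480 = N49441 := ded_17_1 (flp_h L681584) (flp_a L681579) L702589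
theorem L702593 : sm gb N51480 = N51480 := ded_25_1 (flp_h L702589) L681581 L702589
theorem L702594 : sm gc N51480 = N50771 := ded_32_1 L696600 L696592 L702589
theorem L702596 : sm ge N51480 = N50770 := ded_43_1 L694508 L694500 L702589
theorem L702598 : sm gg N51480 = N49442 := ded_50_1 (flp_h L681595) (flp_g L681582) L702589
theorem L702600 : sm gj N51480 = N50489 := ded_52_1 L694490 L694488 L702589
theorem L702602 : sm gd N51480 = N50488 := ded_38_1 (flp_h L691574) (flp_d L687787) (flp_h L695819) L695810 L702589
theorem L702604 : sm gi N51480 = N51480 := ded_54_2 (flp_h L702589) (flp_i L681577) L659301 L681577 L702589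
theorem L702605 : sm gd N49444 = N51481 := rfl
theorem L702607 : sm ga N51481 = N50016 := ded_12_1 L687441 (flp_a L681624) L702605
theorem L702609 : sm gb N51481 = N49462 := ded_20_1 (flp_d L681819) (flp_b L681626) L702605
theorem L702611 : sm gf N51481 = N49446 := ded_35_2 (flp_d L681647) (flp_f L681632) L702605
theorem L702613 : sm gg N51481 = N50327 := ded_36_2 (flp_d L690382) (flp_g L681634) L702605
theorem L702615 : sm gc N51481 = N50425 := ded_27_1 L691113 L669280 (flp_d L665520) (flp_c L681628) L702605
theorem L702617 : sm gh N51481 = N49450 := ded_38_2 (flp_d L681695) (flp_h L659432) (flp_d L659374) L681622 L702605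
theorem L702619 : sm gi N49444 = N51482 := rfl
theorem L702621 : sm ga N51482 = N50045 := ded_18_1 (flp_i L687699) (flp_a L681624) L702619
theorem L702623 : sm gb N51482 = N49463 := ded_26_1 (flp_i L681829) (flp_b L681626) L702619
theorem L702625 : sm gc N51482 = N50051 := ded_33_1 (flp_i L687767) (flp_c L681628) L702619
theorem L702627 : sm ge N51482 = N50493 := ded_44_1 (flp_i L691613) (flp_e L681630) L702619
theorem L702629 : sm gf N51482 = N49447 := ded_48_1 (flp_i L681659) (flp_f L681632) L702619
theorem L702631 : sm gg N51482 = N50328 := ded_51_1 (flp_i L690394) (flp_g L681634) L702619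
theorem L702633 : sm gh N51482 = N50386 := ded_54_1 (flp_i L690828) (flp_h L668709) (flp_i L659376) L681622 L702619
theorem L702635 : sm gi N49445 = N51483 := rfl
theorem L702637 : sm ga N51483 = N50048 := ded_18_1 (flp_i L687739) (flp_a L681638) L702635
theorem L702639 : sm gb N51483 = N49465 := ded_26_1 (flp_i L681846) (flp_b L681640) L702635
theorem L702641 : sm gc N51483 = N50052 := ded_33_1 (flp_i L687782) (flp_c L681642) L702635
theorem L702643 : sm ge N51483 = N51483 := ded_44_1 (flp_i L702635) L681644 L702635
theorem L702644 : sm gj N51483 = N49447 := ded_53_1 (flp_i L681659) (flp_j L681645) L702635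
theorem L702646 : sm gi N49446 = N51484 := rfl
theorem L702648 : sm ga N51484 = N50026 := ded_18_1 (flp_i L687538) (flp_a L681649) L702646
theorem L702650 : sm gb N51484 = N49468 := ded_26_1 (flp_i L681872) (flp_b L681651) L702646
theorem L702652 : sm gc N51484 = N50437 := ded_33_1 (flp_i L691185) (flp_c L681655) L702646
theorem L702654 : sm gd N51484 = N49447 := ded_39_1 (flp_i L681659) L681647 L702646
theorem L702656 : sm gg N51484 = N49448 := ded_51_1 (flp_i L681670) (flp_g L681653) L702646
theorem L702658 : sm gh N49448 = N51485 := rfl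
theorem L702660 : sm ga N51485 = N50034 := ded_17_1 (flp_h L687615) (flp_a L681672) L702658
theorem L702662 : sm gb N51485 = N49473 := ded_25_1 (flp_h L681921) (flp_b L681674) L702658
theorem L702664 : sm gc N51485 = N50449 := ded_32_1 (flp_h L691271) (flp_c L681676) L702658
theorem L702666 : sm gf N51485 = N50351 := ded_47_1 (flp_h L690585) (flp_f L681680) L702658
theorem L702668 : sm gi N51485 = N49458 := ded_54_2 (flp_h L681776) (flp_i L659480) (flp_h L659410) L681670 L702658
theorem L702670 : sm gd N49449 = N51486 := rfl
theorem L702672 : sm ga N51486 = N50438 := ded_12_1 L691197 (flp_a L681684) L702670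
theorem L702674 : sm gb N51486 = N49475 := ded_20_1 (flp_d L681941) (flp_b L681686) L702670
theorem L702676 : sm gf N51486 = N49452 := ded_35_2 (flp_d L681714) (flp_f L681691) L702670
theorem L702678 : sm gj N51486 = N49450 := ded_37_2 (flp_d L681695) (flp_j L681693) L702670
theorem L702680 : sm gi N49449 = N51487 := rfl
theorem L702682 : sm ga N51487 = N50758 := ded_18_1 (flp_i L693677) (flp_a L681684) L702680
theorem L702684 : sm gb N51487 = N49476 := ded_26_1 (flp_i L681949) (flp_b L681686) L702680
theorem L702686 : sm gc N51487 = N51487 := ded_33_1 (flp_i L702680) L681688 L702680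
theorem L702687 : sm ge N51487 = N49720 := ded_44_1 (flp_i L684404) (flp_e L681689) L702680
theorem L702689 : sm gf N51487 = N49453 := ded_48_1 (flp_i L681726) (flp_f L681691) L702680
theorem L702691 : sm gj N51487 = N49451 := ded_53_1 (flp_i L681703) (flp_j L681693) L702680
theorem L702693 : sm gc N49450 = N51488 := rfl
theorem L702695 : sm ga N51488 = N50406 := ded_11_1 (flp_c L695851) L695839 L702693
theorem L702697 : sm gf N51488 = N49454 := ded_29_2 (flp_c L681739) (flp_f L681699) L702693
theorem L702699 : sm gg N51488 = N50360 := ded_30_2 L690647 (flp_g L681701) L702693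
theorem L702701 : sm gh N51488 = N50425 := ded_32_2 (flp_c L702615) L702617 L702693
theorem L702703 : sm gd N51488 = N51488 := ded_27_2 (flp_c L702693) (flp_d L681695) L659436 L681695 L702693
theorem L702704 : sm ge N49450 = N51489 := rfl
theorem L702706 : sm gb N51489 = N49478 := ded_21_1 (flp_e L681971) (flp_b L681697) L702704
theorem L702708 : sm gg N51489 = N50356 := ded_41_2 L690625 (flp_g L681701) L702704
theorem L702710 : sm gd N51489 = N49722 := ded_34_1 (flp_e L684420) (flp_d L661937) (flp_e L659437) L681695 L702704
theorem L702712 : sm gi N49450 = N51490 := rfl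
theorem L702714 : sm gb N51490 = N49479 := ded_26_1 (flp_i L681979) (flp_b L681697) L702712
theorem L702716 : sm gd N51490 = N49451 := ded_39_1 (flp_i L681703) L681695 L702712
theorem L702718 : sm gf N51490 = N49455 := ded_48_1 (flp_i L681748) (flp_f L681699) L702712
theorem L702720 : sm gg N51490 = N50363 := ded_51_1 (flp_i L690665) (flp_g L681701) L702712
theorem L702722 : sm gi N49452 = N51491 := rfl
theorem L702724 : sm ga N51491 = N50439 := ded_18_1 (flp_i L691199) (flp_a L681716) L702722
theorem L702726 : sm gb N51491 = N49482 := ded_26_1 (flp_i L682011) (flp_b L681718) L702722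
theorem L702728 : sm gd N51491 = N49453 := ded_39_1 (flp_i L681726) L681714 L702722
theorem L702730 : sm ge N51491 = N50437 := ded_44_1 (flp_i L691185) (flp_e L681724) L702722
theorem L702732 : sm gg N51491 = N50448 := ded_51_1 (flp_i L691263) (flp_g L681720) L702722
theorem L702734 : sm gj N51491 = N49455 := ded_53_1 (flp_i L681748) (flp_j L681722) L702722
theorem L702736 : sm gb N49454 = N51492 := rfl
theorem L702738 : sm gd N51492 = N51492 := ded_20_2 (flp_b L702736) L681747 L702736
theorem L702739 : sm ge N51492 = N49464 := ded_21_2 (flp_b L702277) L702283 L702736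
theorem L702741 : sm gg N51492 = N49456 := ded_23_2 (flp_b L681756) (flp_g L681743) L702736
theorem L702743 : sm gj N51492 = N49467 := ded_24_2 (flp_b L702077) L702086 L702736
theorem L702745 : sm gh N51492 = N49481 := ded_25_2 L682003 (flp_h L681745) L702736
theorem L702747 : sm ga N51492 = N49528 := ded_10_1 L682450 L668676 L668918 (flp_a L681741) L702736
theorem L702749 : sm gc N51492 = N49483 := ded_19_2 (flp_b L682019) (flp_c L659641) (flp_b L659458) L681739 L702736
theorem L702751 : sm gi N49454 = N51493 := rfl
theorem L702753 : sm ga N51493 = N50411 := ded_18_1 (flp_i L691015) (flp_a L681741) L702751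
theorem L702755 : sm gc N51493 = N49455 := ded_33_1 (flp_i L681748) L681739 L702751
theorem L702757 : sm gd N51493 = N51493 := ded_39_1 (flp_i L702751) L681747 L702751
theorem L702758 : sm gg N51493 = N49457 := ded_51_1 (flp_i L681767) (flp_g L681743) L702751
theorem L702760 : sm gh N49455 = N51494 := rfl
theorem L702762 : sm gb N51494 = N49488 := ded_25_1 (flp_h L682060) (flp_b L681750) L702760
theorem L702764 : sm gg N51494 = N49458 := ded_50_1 (flp_h L681776) (flp_g L681754) L702760
theorem L702766 : sm gi N49456 = N51495 := rfl
theorem L702768 : sm ga N51495 = N50383 := ded_18_1 (flp_i L690809) (flp_a L681763) L702766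
theorem L702770 : sm gb N51495 = N49457 := ded_26_1 (flp_i L681767) L681756 L702766
theorem L702772 : sm gc N51495 = N49491 := ded_33_1 (flp_i L682089) (flp_c L681765) L702766
theorem L702774 : sm gd N51495 = N51495 := ded_39_1 (flp_i L702766) L681758 L702766
theorem L702775 : sm gf N51495 = N50366 := ded_48_1 (flp_i L690687) (flp_f L681759) L702766
theorem L702777 : sm gh N49457 = N51496 := rfl
theorem L702779 : sm ga N51496 = N50414 := ded_17_1 (flp_h L691036) (flp_a L681769) L702777
theorem L702781 : sm gc N51496 = N49458 := ded_32_1 (flp_h L681776) (flp_c L681771) L702777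
theorem L702783 : sm gf N51496 = N50368 := ded_47_1 (flp_h L690700) (flp_f L681774) L702777
theorem L702785 : sm gi N51496 = N50449 := ded_54_2 (flp_h L691271) (flp_i L669133) (flp_h L659477) L681767 L702777
theorem L702787 : sm gh N49459 = N51497 := rfl
theorem L702789 : sm ga N51497 = N49518 := ded_17_1 (flp_h L682355) (flp_a L681784) L702787
theorem L702791 : sm gb N51497 = N49633 := ded_25_1 (flp_h L683461) (flp_b L681786) L702787
theorem L702793 : sm gc N51497 = N51497 := ded_32_1 (flp_h L702787) L681788 L702787
theorem L702794 : sm ge N51497 = N49461 := ded_43_1 (flp_h L681810) (flp_e L681791) L702787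
theorem L702796 : sm gf N51497 = N51497 := ded_47_1 (flp_h L702787) L681793 L702787
theorem L702797 : sm gg N51497 = N49624 := ded_50_1 (flp_h L683350) (flp_g L681796) L702787
theorem L702799 : sm gj N51497 = N49460 := ded_52_1 (flp_h L681798) L681782 L702787
theorem L702801 : sm gd N49460 = N51498 := rfl
theorem L702803 : sm ga N51498 = N49519 := ded_12_1 (flp_d L682367) (flp_a L681800) L702801
theorem L702805 : sm gb N51498 = N50492 := ded_20_1 (flp_d L691606) (flp_b L681802) L702801
theorem L702807 : sm gf N51498 = N51498 := ded_35_2 (flp_d L702801) L681807 L702801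
theorem L702808 : sm gg N51498 = N50132 := ded_36_2 L688629 (flp_g L681808) L702801
theorem L702810 : sm gh N51498 = N49730 := ded_38_2 (flp_d L684490) (flp_h L662014) (flp_d L659514) L681798 L702801
theorem L702812 : sm gi N49460 = N51499 := rfl
theorem L702814 : sm ga N51499 = N49520 := ded_18_1 (flp_i L682376) (flp_a L681800) L702812
theorem L702816 : sm gb N51499 = N50493 := ded_26_1 (flp_i L691613) (flp_b L681802) L702812
theorem L702818 : sm gc N51499 = N51499 := ded_33_1 (flp_i L702812) L681804 L702812
theorem L702819 : sm ge N51499 = N49463 := ded_44_1 (flp_i L681829) (flp_e L681805) L702812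
theorem L702821 : sm gf N51499 = N51499 := ded_48_1 (flp_i L702812) L681807 L702812
theorem L702822 : sm gg N51499 = N50144 := ded_51_1 (flp_i L688738) (flp_g L681808) L702812
theorem L702824 : sm gh N51499 = N50545 := ded_54_1 (flp_i L692002) L669968 (flp_i L659512) L681798 L702812
theorem L702826 : sm gd N49461 = N51500 := rfl
theorem L702828 : sm ga N51500 = N49522 := ded_12_1 (flp_d L682399) (flp_a L681812) L702826
theorem L702830 : sm gf N51500 = N49464 := ded_35_2 (flp_d L681838) (flp_f L681815) L702826
theorem L702832 : sm gj N51500 = N49462 := ded_37_2 (flp_d L681819) (flp_j L681817) L702826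
theorem L702834 : sm gh N51500 = N49475 := ded_38_2 (flp_d L681941) (flp_h L659593) (flp_d L659522) L681810 L702826
theorem L702836 : sm gi N49461 = N51501 := rfl
theorem L702838 : sm ga N51501 = N49523 := ded_18_1 (flp_i L682407) (flp_a L681812) L702836
theorem L702840 : sm gc N51501 = N51501 := ded_33_1 (flp_i L702836) L681814 L702836
theorem L702841 : sm gf N51501 = N49465 := ded_48_1 (flp_i L681846) (flp_f L681815) L702836
theorem L702843 : sm gj N51501 = N49463 := ded_53_1 (flp_i L681829) (flp_j L681817) L702836
theorem L702845 : sm gc N49462 = N51502 := rfl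
theorem L702847 : sm ga N51502 = N49524 := ded_11_1 (flp_c L682414) (flp_a L681821) L702845
theorem L702849 : sm gf N51502 = N49466 := ded_29_2 (flp_c L681854) (flp_f L681823) L702845
theorem L702851 : sm gg N51502 = N50378 := ded_30_2 (flp_c L690769) (flp_g L681825) L702845
theorem L702853 : sm gh N51502 = N49477 := ded_32_2 (flp_c L681961) (flp_h L681827) L702845
theorem L702855 : sm gd N51502 = N51502 := ded_27_2 (flp_c L702845) (flp_d L681819) L659530 L681819 L702845
theorem L702856 : sm ge N49462 = N51503 := rfl
theorem L702858 : sm ga N51503 = N49525 := ded_13_1 (flp_e L682423) (flp_a L681821) L702856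
theorem L702860 : sm gg N51503 = N50379 := ded_41_2 (flp_e L690778) (flp_g L681825) L702856
theorem L702862 : sm gh N51503 = N49478 := ded_43_2 (flp_e L681971) (flp_h L681827) L702856
theorem L702864 : sm gi N49462 = N51504 := rfl
theorem L702866 : sm ga N51504 = N49526 := ded_18_1 (flp_i L682429) (flp_a L681821) L702864
theorem L702868 : sm gd N51504 = N49463 := ded_39_1 (flp_i L681829) L681819 L702864
theorem L702870 : sm gf N51504 = N49468 := ded_48_1 (flp_i L681872) (flp_f L681823) L702864
theorem L702872 : sm gg N51504 = N50380 := ded_51_1 (flp_i L690784) (flp_g L681825) L702864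
theorem L702874 : sm gc N49464 = N51505 := rfl
theorem L702876 : sm ga N51505 = N49527 := ded_11_1 (flp_c L682437) (flp_a L681840) L702874
theorem L702878 : sm ge N51505 = N49483 := ded_28_2 (flp_c L702749) L702739 L702874
theorem L702880 : sm gg N51505 = N49490 := ded_30_2 (flp_c L700615) L700609 L702874
theorem L702882 : sm gj N51505 = N49466 := ded_31_2 (flp_c L681854) (flp_j L681842) L702874
theorem L702884 : sm gh N51505 = N49480 := ded_32_2 (flp_c L681989) (flp_h L681844) L702874
theorem L702886 : sm gb N51505 = N49484 := ded_19_1 L682029 (flp_b L681192) (flp_c L702279) L702277 L702874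
theorem L702888 : sm gd N51505 = N51505 := ded_27_2 (flp_c L702874) (flp_d L681838) L659539 L681838 L702874
theorem L702889 : sm gi N49464 = N51506 := rfl
theorem L702891 : sm ga N51506 = N49529 := ded_18_1 (flp_i L682459) (flp_a L681840) L702889
theorem L702893 : sm gd N51506 = N49465 := ded_39_1 (flp_i L681846) L681838 L702889
theorem L702895 : sm gj N51506 = N49468 := ded_53_1 (flp_i L681872) (flp_j L681842) L702889
theorem L702897 : sm gb N49466 = N51507 := rfl
theorem L702899 : sm gd N51507 = N51507 := ded_20_2 (flp_b L702897) L681862 L702897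
theorem L702900 : sm gg N51507 = N49469 := ded_23_2 (flp_b L681880) (flp_g L681858) L702897
theorem L702902 : sm gj N51507 = N49484 := ded_24_2 (flp_b L702886) L702882 L702897
theorem L702904 : sm gh N51507 = N49483 := ded_25_2 (flp_b L682019) (flp_h L681860) L702897
theorem L702906 : sm ga N51507 = N49553 := ded_10_1 L682658 L682476 (flp_b L682465) (flp_a L681856) L702897
theorem L702908 : sm gc N51507 = N49481 := ded_19_2 L682003 (flp_c L681655) L681651 L681854 L702897
theorem L702910 : sm ge N49480 = N51507 := ded_41_3 L702900 L681891 (flp_g L681993)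
theorem L702912 : sm ge N49466 = N51508 := rfl
theorem L702914 : sm ga N51508 = N49531 := ded_13_1 (flp_e L682480) (flp_a L681856) L702912
theorem L702916 : sm gb N51508 = N49480 := ded_21_1 L702910 (flp_b L702897) L702912
theorem L702918 : sm gc N51508 = N49467 := ded_28_1 (flp_e L681863) L681854 L702912
theorem L702920 : sm gg N51508 = N49470 := ded_41_2 (flp_e L681893) (flp_g L681858) L702912
theorem L702922 : sm gj N51508 = N49483 := ded_42_2 (flp_e L702878) L702882 L702912
theorem L702924 : sm gh N51508 = N49484 := ded_43_2 (flp_e L682025) (flp_h L681860) L702912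
theorem L702926 : sm gd N49509 = N51508 := ded_12_0 L702914 (flp_d L682490) (flp_a L682275)
theorem L702928 : sm gi N49466 = N51509 := rfl
theorem L702930 : sm ga N51509 = N49532 := ded_18_1 (flp_i L682492) (flp_a L681856) L702928
theorem L702932 : sm gc N51509 = N49468 := ded_33_1 (flp_i L681872) L681854 L702928
theorem L702934 : sm gd N51509 = N51509 := ded_39_1 (flp_i L702928) L681862 L702928
theorem L702935 : sm gg N51509 = N49471 := ded_51_1 (flp_i L681905) (flp_g L681858) L702928
theorem L702937 : sm gf N49467 = N51510 := rfl
theorem L702939 : sm ga N51510 = N49533 := ded_14_1 (flp_f L682499) (flp_a L681865) L702937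
theorem L702941 : sm gd N51510 = N51510 := ded_35_1 (flp_f L702937) L681871 L702937
theorem L702942 : sm gh N51510 = N49486 := ded_47_2 (flp_f L682044) (flp_h L681869) L702937
theorem L702944 : sm gi N49467 = N51511 := rfl
theorem L702946 : sm ga N51511 = N49534 := ded_18_1 (flp_i L682504) (flp_a L681865) L702944
theorem L702948 : sm gd N51511 = N51511 := ded_39_1 (flp_i L702944) L681871 L702944
theorem L702949 : sm ge N51511 = N49468 := ded_44_1 (flp_i L681872) L681863 L702944
theorem L702951 : sm gg N51511 = N49472 := ded_51_1 (flp_i L681914) (flp_g L681867) L702944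
theorem L702953 : sm gh N49468 = N51512 := rfl
theorem L702955 : sm ga N51512 = N49535 := ded_17_1 (flp_h L682511) (flp_a L681874) L702953
theorem L702957 : sm gg N51512 = N49473 := ded_50_1 (flp_h L681921) (flp_g L681878) L702953
theorem L702959 : sm gi N51512 = N49488 := ded_54_2 (flp_h L682060) (flp_i L659657) (flp_h L659549) L681872 L702953
theorem L702961 : sm gi N49469 = N51513 := rfl
theorem L702963 : sm ga N51513 = N50366 := ded_18_1 (flp_i L690687) (flp_a L681887) L702961
theorem L702965 : sm gb N51513 = N49471 := ded_26_1 (flp_i L681905) L681880 L702961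
theorem L702967 : sm gc N51513 = N50395 := ded_33_1 (flp_i L690900) (flp_c L681889) L702961
theorem L702969 : sm gd N51513 = N51513 := ded_39_1 (flp_i L702961) L681882 L702961
theorem L702970 : sm ge N51513 = N50365 := ded_44_1 (flp_i L690681) (flp_e L681891) L702961
theorem L702972 : sm gf N51513 = N50383 := ded_48_1 (flp_i L690809) (flp_f L681883) L702961
theorem L702974 : sm gi N49470 = N51514 := rfl
theorem L702976 : sm ga N51514 = N49537 := ded_18_1 (flp_i L682530) (flp_a L681895) L702974
theorem L702978 : sm gb N51514 = N50365 := ded_26_1 (flp_i L690681) (flp_b L681897) L702974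
theorem L702980 : sm gc N51514 = N49472 := ded_33_1 (flp_i L681914) (flp_c L681899) L702974
theorem L702982 : sm gd N51514 = N50341 := ded_39_1 (flp_i L690512) (flp_d L681903) L702974
theorem L702984 : sm ge N51514 = N49471 := ded_44_1 (flp_i L681905) L681893 L702974
theorem L702986 : sm gf N51514 = N50763 := ded_48_1 (flp_i L695378) L695382 L702974
theorem L702988 : sm gh N49471 = N51515 := rfl
theorem L702990 : sm ga N51515 = N49538 := ded_17_1 (flp_h L682540) (flp_a L681907) L702988
theorem L702992 : sm gc N51515 = N49473 := ded_32_1 (flp_h L681921) (flp_c L681909) L702988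
theorem L702994 : sm gf N51515 = N50384 := ded_47_1 (flp_h L690814) (flp_f L681912) L702988
theorem L702996 : sm gi N51515 = N49493 := ded_54_2 (flp_h L682106) (flp_i L659678) (flp_h L659565) L681905 L702988
theorem L702998 : sm gh N49472 = N51516 := rfl
theorem L703000 : sm ga N51516 = N49541 := ded_17_1 (flp_h L682562) (flp_a L681916) L702998
theorem L703002 : sm ge N51516 = N49473 := ded_43_1 (flp_h L681921) (flp_e L681919) L702998
theorem L703004 : sm gi N51516 = N49494 := ded_54_2 (flp_h L682114) (flp_i L659688) (flp_h L659572) L681914 L702998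
theorem L703006 : sm gd N49474 = N51517 := rfl
theorem L703008 : sm ga N51517 = N49542 := ded_12_1 (flp_d L682568) (flp_a L681931) L703006
theorem L703010 : sm gg N51517 = N49475 := ded_36_2 (flp_d L681941) (flp_g L681937) L703006
theorem L703012 : sm gj N51517 = N50385 := ded_37_2 (flp_d L690822) (flp_j L681939) L703006
theorem L703014 : sm gi N49474 = N51518 := rfl
theorem L703016 : sm ga N51518 = N49543 := ded_18_1 (flp_i L682574) (flp_a L681931) L703014
theorem L703018 : sm gc N51518 = N49501 := ded_33_1 (flp_i L682183) (flp_c L681933) L703014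
theorem L703020 : sm ge N51518 = N49744 := ded_44_1 (flp_i L684646) (flp_e L681935) L703014
theorem L703022 : sm gg N51518 = N49476 := ded_51_1 (flp_i L681949) (flp_g L681937) L703014
theorem L703024 : sm gj N51518 = N50386 := ded_53_1 (flp_i L690828) (flp_j L681939) L703014
theorem L703026 : sm gc N49475 = N51519 := rfl
theorem L703028 : sm ga N51519 = N49544 := ded_11_1 (flp_c L682584) (flp_a L681943) L703026
theorem L703030 : sm gf N51519 = N49480 := ded_29_2 (flp_c L681989) (flp_f L681945) L703026
theorem L703032 : sm gj N51519 = N49477 := ded_31_2 (flp_c L681961) (flp_j L681947) L703026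
theorem L703034 : sm gd N51519 = N49502 := ded_27_2 (flp_c L682194) (flp_d L659775) (flp_c L659597) L681941 L703026
theorem L703036 : sm ge N49475 = N51520 := rfl
theorem L703038 : sm ga N51520 = N49545 := ded_13_1 (flp_e L682594) (flp_a L681943) L703036
theorem L703040 : sm gj N51520 = N49478 := ded_42_2 (flp_e L681971) (flp_j L681947) L703036
theorem L703042 : sm gd N51520 = N49746 := ded_34_1 (flp_e L684671) (flp_d L662154) (flp_e L659599) L681941 L703036
theorem L703044 : sm gi N49475 = N51521 := rfl
theorem L703046 : sm ga N51521 = N49546 := ded_18_1 (flp_i L682600) (flp_a L681943) L703044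
theorem L703048 : sm gd N51521 = N49476 := ded_39_1 (flp_i L681949) L681941 L703044
theorem L703050 : sm gf N51521 = N49482 := ded_48_1 (flp_i L682011) (flp_f L681945) L703044
theorem L703052 : sm gj N51521 = N49479 := ded_53_1 (flp_i L681979) (flp_j L681947) L703044
theorem L703054 : sm gb N49477 = N51522 := rfl
theorem L703056 : sm gd N51522 = N49505 := ded_20_2 (flp_b L682225) (flp_d L681969) L703054
theorem L703058 : sm gf N51522 = N49483 := ded_22_2 (flp_b L682019) (flp_f L681965) L703054
theorem L703060 : sm gg N51522 = N49555 := ded_23_2 L682681 (flp_g L681967) L703054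
theorem L703062 : sm ge N49477 = N51523 := rfl
theorem L703064 : sm ga N51523 = N49548 := ded_13_1 (flp_e L682620) (flp_a L681963) L703062
theorem L703066 : sm gc N51523 = N49478 := ded_28_1 (flp_e L681971) L681961 L703062
theorem L703068 : sm gg N51523 = N50389 := ded_41_2 (flp_e L690856) (flp_g L681967) L703062
theorem L703070 : sm gi N49477 = N51524 := rfl
theorem L703072 : sm ga N51524 = N49549 := ded_18_1 (flp_i L682626) (flp_a L681963) L703070
theorem L703074 : sm gc N51524 = N49479 := ded_33_1 (flp_i L681979) L681961 L703070
theorem L703076 : sm gd N51524 = N49506 := ded_39_1 (flp_i L682235) (flp_d L681969) L703070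
theorem L703078 : sm gf N51524 = N49485 := ded_48_1 (flp_i L682034) (flp_f L681965) L703070
theorem L703080 : sm gg N51524 = N50390 := ded_51_1 (flp_i L690862) (flp_g L681967) L703070
theorem L703082 : sm gf N49478 = N51525 := rfl
theorem L703084 : sm ga N51525 = N49550 := ded_14_1 (flp_f L682636) (flp_a L681973) L703082
theorem L703086 : sm gd N51525 = N49751 := ded_35_1 (flp_f L684721) (flp_d L681977) L703082
theorem L703088 : sm ge N51525 = N49486 := ded_40_1 (flp_f L682044) (flp_e L659649) (flp_f L659609) L681971 L703082
theorem L703090 : sm gi N49478 = N51526 := rfl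
theorem L703092 : sm ga N51526 = N49551 := ded_18_1 (flp_i L682642) (flp_a L681973) L703090
theorem L703094 : sm gd N51526 = N49752 := ded_39_1 (flp_i L684727) (flp_d L681977) L703090
theorem L703096 : sm ge N51526 = N49479 := ded_44_1 (flp_i L681979) L681971 L703090
theorem L703098 : sm gg N51526 = N50391 := ded_51_1 (flp_i L690872) (flp_g L681975) L703090
theorem L703100 : sm gh N49479 = N51527 := rfl
theorem L703102 : sm ga N51527 = N49552 := ded_17_1 (flp_h L682650) (flp_a L681981) L703100
theorem L703104 : sm gf N51527 = N49488 := ded_47_1 (flp_h L682060) (flp_f L681985) L703100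
theorem L703106 : sm gg N51527 = N50392 := ded_50_1 (flp_h L690880) (flp_g L681987) L703100
theorem L703108 : sm gi N49480 = N51528 := rfl
theorem L703110 : sm ga N51528 = N49554 := ded_18_1 (flp_i L682667) (flp_a L681991) L703108
theorem L703112 : sm gc N51528 = N49482 := ded_33_1 (flp_i L682011) L681989 L703108
theorem L703114 : sm gd N51528 = N49510 := ded_39_1 (flp_i L682278) (flp_d L681997) L703108
theorem L703116 : sm gg N51528 = N50365 := ded_51_1 (flp_i L690681) (flp_g L681993) L703108
theorem L703118 : sm gj N51528 = N49485 := ded_53_1 (flp_i L682034) (flp_j L681995) L703108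
theorem L703120 : sm gf N49481 = N51529 := rfl
theorem L703122 : sm ga N51529 = N49555 := ded_14_1 (flp_f L682679) (flp_a L682001) L703120
theorem L703124 : sm gb N51529 = N50425 := ded_22_1 L691115 (flp_b L682003) L703120
theorem L703126 : sm gd N51529 = N49495 := ded_35_1 (flp_f L682120) (flp_d L682009) L703120
theorem L703128 : sm gj N51529 = N49486 := ded_46_2 (flp_f L682044) (flp_j L682007) L703120
theorem L703130 : sm gi N49481 = N51530 := rfl
theorem L703132 : sm ga N51530 = N49556 := ded_18_1 (flp_i L682687) (flp_a L682001) L703130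
theorem L703134 : sm gb N51530 = N50437 := ded_26_1 (flp_i L691185) (flp_b L682003) L703130
theorem L703136 : sm gd N51530 = N49496 := ded_39_1 (flp_i L682132) (flp_d L682009) L703130
theorem L703138 : sm ge N51530 = N49482 := ded_44_1 (flp_i L682011) L681999 L703130
theorem L703140 : sm gg N51530 = N50395 := ded_51_1 (flp_i L690900) (flp_g L682005) L703130
theorem L703142 : sm gj N51530 = N49487 := ded_53_1 (flp_i L682050) (flp_j L682007) L703130
theorem L703144 : sm gh N49482 = N51531 := rfl
theorem L703146 : sm ga N51531 = N49557 := ded_17_1 (flp_h L682699) (flp_a L682013) L703144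
theorem L703148 : sm gj N51531 = N49488 := ded_52_1 (flp_h L682060) (flp_j L682017) L703144
theorem L703150 : sm ga N49483 = N51532 := rfl
theorem L703152 : sm gc N51532 = N49528 := ded_11_2 (flp_a L702747) L702749 L703150
theorem L703154 : sm gd N51532 = N49512 := ded_12_2 (flp_a L682300) (flp_d L682021) L703150
theorem L703156 : sm ge N51532 = N49527 := ded_13_2 (flp_a L702876) L702878 L703150
theorem L703158 : sm gg N51532 = N49489 := ded_15_2 (flp_a L682066) (flp_g L682023) L703150
theorem L703160 : sm gj N51532 = N49531 := ded_16_2 (flp_a L702914) L702922 L703150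
theorem L703162 : sm gh N51532 = N49553 := ded_17_2 (flp_a L702906) L702904 L703150
theorem L703164 : sm gb N51532 = N49558 := ded_10_2 (flp_a L682703) (flp_b L660112) (flp_a L659643) L682019 L703150
theorem L703166 : sm gi N49483 = N51533 := rfl
theorem L703168 : sm gb N51533 = N49485 := ded_26_1 (flp_i L682034) L682019 L703166
theorem L703170 : sm gd N51533 = N49513 := ded_39_1 (flp_i L682311) (flp_d L682021) L703166
theorem L703172 : sm gg N51533 = N49491 := ded_51_1 (flp_i L682089) (flp_g L682023) L703166
theorem L703174 : sm gf N49484 = N51534 := rfl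
theorem L703176 : sm ga N51534 = N49561 := ded_14_1 (flp_f L682744) (flp_a L682027) L703174
theorem L703178 : sm gc N51534 = N49486 := ded_29_1 (flp_f L682044) (flp_c L682029) L703174
theorem L703180 : sm gd N51534 = N51534 := ded_35_1 (flp_f L703174) L682033 L703174
theorem L703181 : sm gi N49484 = N51535 := rfl
theorem L703183 : sm ga N51535 = N49562 := ded_18_1 (flp_i L682749) (flp_a L682027) L703181
theorem L703185 : sm gc N51535 = N49487 := ded_33_1 (flp_i L682050) (flp_c L682029) L703181
theorem L703187 : sm gd N51535 = N51535 := ded_39_1 (flp_i L703181) L682033 L703181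
theorem L703188 : sm ge N51535 = N49485 := ded_44_1 (flp_i L682034) L682025 L703181
theorem L703190 : sm gg N51535 = N49492 := ded_51_1 (flp_i L682097) (flp_g L682031) L703181
theorem L703192 : sm gh N49485 = N51536 := rfl
theorem L703194 : sm ga N51536 = N49563 := ded_17_1 (flp_h L682758) (flp_a L682036) L703192
theorem L703196 : sm gc N51536 = N49488 := ded_32_1 (flp_h L682060) (flp_c L682038) L703192
theorem L703198 : sm gg N51536 = N49493 := ded_50_1 (flp_h L682106) (flp_g L682042) L703192
theorem L703200 : sm gi N49486 = N51537 := rfl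
theorem L703202 : sm ga N51537 = N49565 := ded_18_1 (flp_i L682770) (flp_a L682046) L703200
theorem L703204 : sm gd N51537 = N49498 := ded_39_1 (flp_i L682159) (flp_d L682048) L703200
theorem L703206 : sm gf N51537 = N49487 := ded_48_1 (flp_i L682050) L682044 L703200
theorem L703208 : sm gh N49487 = N51538 := rfl
theorem L703210 : sm ga N51538 = N49566 := ded_17_1 (flp_h L682776) (flp_a L682052) L703208
theorem L703212 : sm ge N51538 = N49488 := ded_43_1 (flp_h L682060) (flp_e L682056) L703208
theorem L703214 : sm gg N51538 = N49494 := ded_50_1 (flp_h L682114) (flp_g L682058) L703208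
theorem L703216 : sm gi N49489 = N51539 := rfl
theorem L703218 : sm ga N51539 = N49491 := ded_18_1 (flp_i L682089) L682066 L703216
theorem L703220 : sm gb N51539 = N49567 := ded_26_1 (flp_i L682782) (flp_b L682076) L703216
theorem L703222 : sm gc N51539 = N50383 := ded_33_1 (flp_i L690809) (flp_c L682068) L703216
theorem L703224 : sm gd N51539 = N49515 := ded_39_1 (flp_i L682329) (flp_d L682070) L703216
theorem L703226 : sm ge N51539 = N50349 := ded_44_1 (flp_i L690574) L682078 L703216
theorem L703228 : sm gf N51539 = N50395 := ded_48_1 (flp_i L690900) (flp_f L682072) L703216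
theorem L703230 : sm gi N49490 = N51540 := rfl
theorem L703232 : sm ga N51540 = N50349 := ded_18_1 (flp_i L690574) (flp_a L682082) L703230
theorem L703234 : sm gb N51540 = N49492 := ded_26_1 (flp_i L682097) (flp_b L682084) L703230
theorem L703236 : sm gd N51540 = N51540 := ded_39_1 (flp_i L703230) L682088 L703230
theorem L703237 : sm ge N51540 = N49491 := ded_44_1 (flp_i L682089) L682080 L703230
theorem L703239 : sm gh N49491 = N51541 := rfl
theorem L703241 : sm gb N51541 = N49493 := ded_25_1 (flp_h L682106) (flp_b L682091) L703239
theorem L703243 : sm gf N51541 = N50396 := ded_47_1 (flp_h L690908) (flp_f L682095) L703239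
theorem L703245 : sm gh N49492 = N51542 := rfl
theorem L703247 : sm ga N51542 = N49572 := ded_17_1 (flp_h L682827) (flp_a L682099) L703245
theorem L703249 : sm gc N51542 = N49494 := ded_32_1 (flp_h L682114) (flp_c L682101) L703245
theorem L703251 : sm ge N51542 = N49493 := ded_43_1 (flp_h L682106) (flp_e L682104) L703245
theorem L703253 : sm gd N49493 = N51543 := rfl
theorem L703255 : sm ga N51543 = N49573 := ded_12_1 (flp_d L682833) (flp_a L682108) L703253
theorem L703257 : sm gf N51543 = N50397 := ded_35_2 (flp_d L690912) (flp_f L682112) L703253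
theorem L703259 : sm gh N51543 = N49517 := ded_38_2 (flp_d L682348) (flp_h L659891) (flp_d L659684) L682106 L703253
theorem L703261 : sm gd N49494 = N51544 := rfl
theorem L703263 : sm ga N51544 = N49577 := ded_12_1 (flp_d L682859) (flp_a L682116) L703261
theorem L703265 : sm gh N51544 = N49500 := ded_38_2 (flp_d L682178) (flp_h L659756) (flp_d L659692) L682114 L703261
theorem L703267 : sm gg N49495 = N51545 := rfl
theorem L703269 : sm ga N51545 = N49505 := ded_15_1 L682231 (flp_a L682122) L703267
theorem L703271 : sm gb N51545 = N49592 := ded_23_1 L682992 (flp_b L682124) L703267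
theorem L703273 : sm gc N51545 = N51545 := ded_30_1 (flp_g L703267) L682126 L703267
theorem L703274 : sm ge N51545 = N49768 := ded_41_1 (flp_g L684883) (flp_e L682130) L703267
theorem L703276 : sm gh N51545 = N51545 := ded_50_2 (flp_g L703267) L682129 L703267
theorem L703277 : sm gf N51545 = N49512 := ded_45_1 L682304 L659878 (flp_g L659709) L682120 L703267
theorem L703279 : sm gj N51545 = N50336 := ded_49_2 (flp_g L695672) L695667 L674483 (flp_j L682127) L703267
theorem L703281 : sm gi N49495 = N51546 := rfl
theorem L703283 : sm ga N51546 = N49578 := ded_18_1 (flp_i L682863) (flp_a L682122) L703281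
theorem L703285 : sm gb N51546 = N50464 := ded_26_1 (flp_i L691377) (flp_b L682124) L703281
theorem L703287 : sm gc N51546 = N51546 := ded_33_1 (flp_i L703281) L682126 L703281
theorem L703288 : sm ge N51546 = N49769 := ded_44_1 (flp_i L684890) (flp_e L682130) L703281
theorem L703290 : sm gf N51546 = N49496 := ded_48_1 (flp_i L682132) L682120 L703281
theorem L703292 : sm gj N51546 = N49498 := ded_53_1 (flp_i L682159) (flp_j L682127) L703281
theorem L703294 : sm gh N49496 = N51547 := rfl
theorem L703296 : sm ga N51547 = N49579 := ded_17_1 (flp_h L682874) (flp_a L682134) L703294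
theorem L703298 : sm gb N51547 = N50474 := ded_25_1 (flp_h L691455) (flp_b L682136) L703294
theorem L703300 : sm gc N51547 = N51547 := ded_32_1 (flp_h L703294) L682138 L703294
theorem L703301 : sm ge N51547 = N49497 := ded_43_1 (flp_h L682145) (flp_e L682139) L703294
theorem L703303 : sm gg N51547 = N50403 := ded_50_1 (flp_h L690963) (flp_g L682141) L703294
theorem L703305 : sm gj N51547 = N49499 := ded_52_1 (flp_h L682168) (flp_j L682143) L703294
theorem L703307 : sm gi N51547 = N51547 := ded_54_2 (flp_h L703294) (flp_i L682132) L659713 L682132 L703294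
theorem L703308 : sm gh N49498 = N51548 := rfl
theorem L703310 : sm ga N51548 = N49582 := ded_17_1 (flp_h L682903) (flp_a L682161) L703308
theorem L703312 : sm gc N51548 = N51548 := ded_32_1 (flp_h L703308) L682163 L703308
theorem L703313 : sm ge N51548 = N49771 := ded_43_1 (flp_h L684910) (flp_e L682164) L703308
theorem L703315 : sm gf N51548 = N49499 := ded_47_1 (flp_h L682168) (flp_f L682166) L703308
theorem L703317 : sm gi N51548 = N51548 := ded_54_2 (flp_h L703308) (flp_i L682159) L659734 L682159 L703308
theorem L703318 : sm gd N49499 = N51549 := rfl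
theorem L703320 : sm ga N51549 = N49583 := ded_12_1 (flp_d L682911) (flp_a L682170) L703318
theorem L703322 : sm gg N51549 = N49500 := ded_36_2 (flp_d L682178) (flp_g L682175) L703318
theorem L703324 : sm gi N51549 = N51549 := ded_39_2 (flp_d L703318) L682177 L703318
theorem L703325 : sm gc N49500 = N51550 := rfl
theorem L703327 : sm ga N51550 = N49587 := ded_11_1 (flp_c L682942) (flp_a L682180) L703325
theorem L703329 : sm ge N51550 = N50376 := ded_28_2 (flp_c L701846) L701848 L703325
theorem L703331 : sm gi N51550 = N51550 := ded_33_2 (flp_c L703325) L682182 L703325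
theorem L703332 : sm gb N51550 = N50377 := ded_19_1 L690765 (flp_b L691492) (flp_c L702393) L702388 L703325
theorem L703334 : sm gd N51550 = N51550 := ded_27_2 (flp_c L703325) (flp_d L682178) L659760 L682178 L703325
theorem L703335 : sm gb N49502 = N51551 := rfl
theorem L703337 : sm ge N51551 = N49878 := ded_21_2 (flp_b L699406) L699410 L703335
theorem L703339 : sm gf N51551 = N49509 := ded_22_2 (flp_b L682267) (flp_f L682198) L703335
theorem L703341 : sm gg N51551 = N49580 := ded_23_2 (flp_b L696535) L696544 L703335
theorem L703343 : sm gj N51551 = N49505 := ded_24_2 (flp_b L682225) (flp_j L682200) L703335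
theorem L703345 : sm gh N51551 = N51551 := ded_25_2 (flp_b L703335) L682202 L703335
theorem L703346 : sm ga N51551 = N50336 := ded_10_1 (flp_b L690470) L668343 (flp_b L660344) (flp_a L682196) L703335
theorem L703348 : sm gc N51551 = N51551 := ded_19_2 (flp_b L703335) (flp_c L682194) L659779 L682194 L703335
theorem L703349 : sm gi N49502 = N51552 := rfl
theorem L703351 : sm ga N51552 = N49589 := ded_18_1 (flp_i L682956) (flp_a L682196) L703349
theorem L703353 : sm gc N51552 = N49504 := ded_33_1 (flp_i L682214) L682194 L703349
theorem L703355 : sm gf N51552 = N49510 := ded_48_1 (flp_i L682278) (flp_f L682198) L703349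
theorem L703357 : sm gj N51552 = N49506 := ded_53_1 (flp_i L682235) (flp_j L682200) L703349
theorem L703359 : sm gi N49503 = N51553 := rfl
theorem L703361 : sm ga N51553 = N49590 := ded_18_1 (flp_i L682966) (flp_a L682205) L703359
theorem L703363 : sm gb N51553 = N51553 := ded_26_1 (flp_i L703359) L682207 L703359
theorem L703364 : sm gd N51553 = N49779 := ded_39_1 (flp_i L684999) (flp_d L682211) L703359
theorem L703366 : sm ge N51553 = N49504 := ded_44_1 (flp_i L682214) L682203 L703359
theorem L703368 : sm gf N51553 = N51553 := ded_48_1 (flp_i L703359) L682213 L703359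
theorem L703369 : sm gj N51553 = N49507 := ded_53_1 (flp_i L682245) (flp_j L682208) L703359
theorem L703371 : sm gh N49504 = N51554 := rfl
theorem L703373 : sm ga N51554 = N49591 := ded_17_1 (flp_h L682977) (flp_a L682216) L703371
theorem L703375 : sm gb N51554 = N51554 := ded_25_1 (flp_h L703371) L682218 L703371
theorem L703376 : sm gf N51554 = N49511 := ded_47_1 (flp_h L682289) (flp_f L682221) L703371
theorem L703378 : sm gj N51554 = N49508 := ded_52_1 (flp_h L682257) (flp_j L682223) L703371
theorem L703380 : sm gi N51554 = N51554 := ded_54_2 (flp_h L703371) (flp_i L682214) L659784 L682214 L703371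
theorem L703381 : sm gi N49505 = N51555 := rfl
theorem L703383 : sm gb N51555 = N49506 := ded_26_1 (flp_i L682235) L682225 L703381
theorem L703385 : sm gc N51555 = N51555 := ded_33_1 (flp_i L703381) L682234 L703381
theorem L703386 : sm ge N51555 = N49879 := ded_44_1 (flp_i L685852) (flp_e L682227) L703381
theorem L703388 : sm gf N51555 = N49513 := ded_48_1 (flp_i L682311) (flp_f L682229) L703381
theorem L703390 : sm gg N51555 = N49578 := ded_51_1 (flp_i L682863) (flp_g L682231) L703381
theorem L703392 : sm gh N49506 = N51556 := rfl
theorem L703394 : sm ga N51556 = N49597 := ded_17_1 (flp_h L683037) (flp_a L682237) L703392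
theorem L703396 : sm gc N51556 = N49508 := ded_32_1 (flp_h L682257) (flp_c L682239) L703392
theorem L703398 : sm gf N51556 = N49514 := ded_47_1 (flp_h L682319) (flp_f L682241) L703392
theorem L703400 : sm gg N51556 = N50400 := ded_50_1 (flp_h L690937) (flp_g L682243) L703392
theorem L703402 : sm gi N51556 = N51556 := ded_54_2 (flp_h L703392) (flp_i L682235) L659804 L682235 L703392
theorem L703403 : sm gh N49507 = N51557 := rfl
theorem L703405 : sm ga N51557 = N49598 := ded_17_1 (flp_h L683046) (flp_a L682247) L703403
theorem L703407 : sm gb N51557 = N51557 := ded_25_1 (flp_h L703403) L682249 L703403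
theorem L703408 : sm ge N51557 = N49508 := ded_43_1 (flp_h L682257) (flp_e L682252) L703403
theorem L703410 : sm gf N51557 = N51557 := ded_47_1 (flp_h L703403) L682254 L703403
theorem L703411 : sm gg N51557 = N50401 := ded_50_1 (flp_h L690946) (flp_g L682255) L703403
theorem L703413 : sm gd N51557 = N50731 := ded_38_1 (flp_h L693440) L671484 (flp_h L662474) (flp_d L682250) L703403
theorem L703415 : sm gi N51557 = N51557 := ded_54_2 (flp_h L703403) (flp_i L682245) L659812 L682245 L703403
theorem L703416 : sm gi N49509 = N51558 := rfl
theorem L703418 : sm ga N51558 = N50339 := ded_18_1 (flp_i L690494) (flp_a L682275) L703416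
theorem L703420 : sm gb N51558 = N49510 := ded_26_1 (flp_i L682278) L682267 L703416
theorem L703422 : sm gc N51558 = N51558 := ded_33_1 (flp_i L703416) L682277 L703416
theorem L703423 : sm ge N51558 = N51558 := ded_44_1 (flp_i L703416) L682269 L703416
theorem L703424 : sm gg N51558 = N50341 := ded_51_1 (flp_i L690512) (flp_g L682270) L703416
theorem L703426 : sm gj N51558 = N49513 := ded_53_1 (flp_i L682311) (flp_j L682272) L703416
theorem L703428 : sm gh N50773 = N51558 := ded_50_0 L703424 L690522 L693773
theorem L703430 : sm gh N49510 = N51559 := rfl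
theorem L703432 : sm ga N51559 = N49599 := ded_17_1 (flp_h L683056) (flp_a L682280) L703430
theorem L703434 : sm gb N51559 = N50773 := ded_25_1 L703428 L703420 L703430
theorem L703436 : sm gc N51559 = N49511 := ded_32_1 (flp_h L682289) (flp_c L682282) L703430
theorem L703438 : sm ge N51559 = N51559 := ded_43_1 (flp_h L703430) L682284 L703430
theorem L703439 : sm gg N51559 = N50375 := ded_50_1 (flp_h L690746) (flp_g L682285) L703430
theorem L703441 : sm gj N51559 = N49514 := ded_52_1 (flp_h L682319) (flp_j L682287) L703430
theorem L703443 : sm gi N51559 = N51559 := ded_54_2 (flp_h L703430) (flp_i L682278) L659836 L682278 L703430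
theorem L703444 : sm gi N49512 = N51560 := rfl
theorem L703446 : sm ga N51560 = N49513 := ded_18_1 (flp_i L682311) L682300 L703444
theorem L703448 : sm gb N51560 = N49600 := ded_26_1 (flp_i L683068) (flp_b L682309) L703444
theorem L703450 : sm gc N51560 = N51560 := ded_33_1 (flp_i L703444) L682302 L703444
theorem L703451 : sm ge N51560 = N51560 := ded_44_1 (flp_i L703444) L682303 L703444
theorem L703452 : sm gg N51560 = N49515 := ded_51_1 (flp_i L682329) (flp_g L682304) L703444
theorem L703454 : sm gj N51560 = N50339 := ded_53_1 (flp_i L690494) (flp_j L682306) L703444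
theorem L703456 : sm gh N49513 = N51561 := rfl
theorem L703458 : sm gb N51561 = N49514 := ded_25_1 (flp_h L682319) (flp_b L682313) L703456
theorem L703460 : sm gc N51561 = N51561 := ded_32_1 (flp_h L703456) L682315 L703456
theorem L703461 : sm ge N51561 = N51561 := ded_43_1 (flp_h L703456) L682316 L703456
theorem L703462 : sm gg N51561 = N49516 := ded_50_1 (flp_h L682339) (flp_g L682317) L703456
theorem L703464 : sm gj N51561 = N50773 := ded_52_1 L703428 L703426 L703456
theorem L703466 : sm gi N51561 = N51561 := ded_54_2 (flp_h L703456) (flp_i L682311) L659854 L682311 L703456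
theorem L703467 : sm gd N49514 = N51562 := rfl
theorem L703469 : sm ga N51562 = N49602 := ded_12_1 (flp_d L683091) (flp_a L682321) L703467
theorem L703471 : sm gg N51562 = N49517 := ded_36_2 (flp_d L682348) (flp_g L682326) L703467
theorem L703473 : sm gi N51562 = N51562 := ded_39_2 (flp_d L703467) L682328 L703467
theorem L703474 : sm gh N49515 = N51563 := rfl
theorem L703476 : sm ga N51563 = N49516 := ded_17_1 (flp_h L682339) (flp_a L682331) L703474
theorem L703478 : sm gb N51563 = N49603 := ded_25_1 (flp_h L683096) (flp_b L682333) L703474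
theorem L703480 : sm gc N51563 = N51563 := ded_32_1 (flp_h L703474) L682335 L703474
theorem L703481 : sm ge N51563 = N51563 := ded_43_1 (flp_h L703474) L682336 L703474
theorem L703482 : sm gf N51563 = N50403 := ded_47_1 (flp_h L690963) (flp_f L682337) L703474
theorem L703484 : sm gi N51563 = N51563 := ded_54_2 (flp_h L703474) (flp_i L682329) L659880 L682329 L703474
theorem L703485 : sm gd N49516 = N51564 := rfl
theorem L703487 : sm gb N51564 = N49517 := ded_20_1 (flp_d L682348) (flp_b L682341) L703485
theorem L703489 : sm gf N51564 = N50404 := ded_35_2 (flp_d L690973) (flp_f L682345) L703485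
theorem L703491 : sm gi N51564 = N51564 := ded_39_2 (flp_d L703485) L682347 L703485
theorem L703492 : sm ge N49517 = N51565 := rfl
theorem L703494 : sm ga N51565 = N49605 := ded_13_1 (flp_e L683113) (flp_a L682350) L703492
theorem L703496 : sm gc N51565 = N50404 := ded_28_1 (flp_e L701921) L701919 L703492
theorem L703498 : sm gi N51565 = N51565 := ded_44_2 (flp_e L703492) L682354 L703492
theorem L703499 : sm gd N51565 = N51565 := ded_34_1 (flp_e L703492) (flp_d L682348) L659897 L682348 L703492
theorem L703500 : sm gd N49518 = N51566 := rfl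
theorem L703502 : sm gb N51566 = N50681 := ded_20_1 L693065 (flp_b L682357) L703500
theorem L703504 : sm gf N51566 = N51566 := ded_35_2 (flp_d L703500) L682362 L703500
theorem L703505 : sm gg N51566 = N50236 := ded_36_2 L689614 (flp_g L682363) L703500
theorem L703507 : sm gj N51566 = N49519 := ded_37_2 (flp_d L682367) (flp_j L682365) L703500
theorem L703509 : sm gh N51566 = N49787 := ded_38_2 (flp_d L685099) (flp_h L662543) (flp_d L659906) L682355 L703500
theorem L703511 : sm gi N49518 = N51567 := rfl
theorem L703513 : sm gb N51567 = N50708 := ded_26_1 (flp_i L693261) (flp_b L682357) L703511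
theorem L703515 : sm gc N51567 = N51567 := ded_33_1 (flp_i L703511) L682359 L703511
theorem L703516 : sm ge N51567 = N49523 := ded_44_1 (flp_i L682407) (flp_e L682360) L703511
theorem L703518 : sm gf N51567 = N51567 := ded_48_1 (flp_i L703511) L682362 L703511
theorem L703519 : sm gg N51567 = N50252 := ded_51_1 (flp_i L689742) (flp_g L682363) L703511
theorem L703521 : sm gj N51567 = N49520 := ded_53_1 (flp_i L682376) (flp_j L682365) L703511
theorem L703523 : sm gc N49519 = N51568 := rfl
theorem L703525 : sm gf N51568 = N51568 := ded_29_2 (flp_c L703523) L682371 L703523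
theorem L703526 : sm gg N51568 = N50222 := ded_30_2 L689488 (flp_g L682372) L703523
theorem L703528 : sm gh N51568 = N49789 := ded_32_2 (flp_c L685113) (flp_h L682374) L703523
theorem L703530 : sm gd N51568 = N51568 := ded_27_2 (flp_c L703523) (flp_d L682367) L659917 L682367 L703523
theorem L703531 : sm ge N49519 = N51569 := rfl
theorem L703533 : sm gb N51569 = N50653 := ded_21_1 L692875 (flp_b L682369) L703531
theorem L703535 : sm gg N51569 = N50206 := ded_41_2 L689370 (flp_g L682372) L703531
theorem L703537 : sm gh N51569 = N49790 := ded_43_2 (flp_e L685120) (flp_h L682374) L703531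
theorem L703539 : sm gd N51569 = N49525 := ded_34_1 (flp_e L682423) (flp_d L659943) (flp_e L659918) L682367 L703531
theorem L703541 : sm gi N49519 = N51570 := rfl
theorem L703543 : sm gb N51570 = N50682 := ded_26_1 (flp_i L693070) (flp_b L682369) L703541
theorem L703545 : sm gd N51570 = N49520 := ded_39_1 (flp_i L682376) L682367 L703541
theorem L703547 : sm gf N51570 = N51570 := ded_48_1 (flp_i L703541) L682371 L703541
theorem L703548 : sm gg N51570 = N50225 := ded_51_1 (flp_i L689512) (flp_g L682372) L703541
theorem L703550 : sm gd N49521 = N51571 := rfl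
theorem L703552 : sm gb N51571 = N50445 := ded_20_1 L691247 (flp_b L682388) L703550
theorem L703554 : sm gf N51571 = N50039 := ded_35_2 L687651 (flp_f L682393) L703550
theorem L703556 : sm gg N51571 = N49522 := ded_36_2 (flp_d L682399) (flp_g L682395) L703550
theorem L703558 : sm gj N51571 = N50030 := ded_37_2 L687578 (flp_j L682397) L703550
theorem L703560 : sm gh N51571 = N49542 := ded_38_2 (flp_d L682568) (flp_h L660038) (flp_d L659928) L682386 L703550
theorem L703562 : sm gi N49521 = N51572 := rfl
theorem L703564 : sm gb N51572 = N50459 := ded_26_1 (flp_i L691329) (flp_b L682388) L703562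
theorem L703566 : sm gc N51572 = N51572 := ded_33_1 (flp_i L703562) L682390 L703562
theorem L703567 : sm ge N51572 = N50252 := ded_44_1 (flp_i L689742) (flp_e L682391) L703562
theorem L703569 : sm gf N51572 = N50043 := ded_48_1 (flp_i L687678) (flp_f L682393) L703562
theorem L703571 : sm gg N51572 = N49523 := ded_51_1 (flp_i L682407) (flp_g L682395) L703562
theorem L703573 : sm gj N51572 = N50042 := ded_53_1 (flp_i L687667) (flp_j L682397) L703562
theorem L703575 : sm gh N51572 = N50758 := ded_54_1 (flp_i L693677) L674735 L674731 L682386 L703562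
theorem L703577 : sm gc N49522 = N51573 := rfl
theorem L703579 : sm gf N51573 = N49527 := ded_29_2 (flp_c L682437) (flp_f L682401) L703577
theorem L703581 : sm gj N51573 = N49524 := ded_31_2 (flp_c L682414) (flp_j L682403) L703577
theorem L703583 : sm gh N51573 = N49544 := ded_32_2 (flp_c L682584) (flp_h L682405) L703577
theorem L703585 : sm gb N51573 = N50344 := ded_19_1 (flp_c L690542) (flp_b L687047) (flp_c L696113) L696105 L703577
theorem L703587 : sm gd N51573 = N51573 := ded_27_2 (flp_c L703577) (flp_d L682399) L659938 L682399 L703577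
theorem L703588 : sm ge N49522 = N51574 := rfl
theorem L703590 : sm gj N51574 = N49525 := ded_42_2 (flp_e L682423) (flp_j L682403) L703588
theorem L703592 : sm gh N51574 = N49545 := ded_43_2 (flp_e L682594) (flp_h L682405) L703588
theorem L703594 : sm gi N49522 = N51575 := rfl
theorem L703596 : sm gd N51575 = N49523 := ded_39_1 (flp_i L682407) L682399 L703594
theorem L703598 : sm gf N51575 = N49529 := ded_48_1 (flp_i L682459) (flp_f L682401) L703594
theorem L703600 : sm gj N51575 = N49526 := ded_53_1 (flp_i L682429) (flp_j L682403) L703594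
theorem L703602 : sm gb N49524 = N51576 := rfl
theorem L703604 : sm gd N51576 = N51576 := ded_20_2 (flp_b L703602) L682422 L703602
theorem L703605 : sm gf N51576 = N49530 := ded_22_2 (flp_b L682465) (flp_f L682416) L703602
theorem L703607 : sm gg N51576 = N50406 := ded_23_2 (flp_b L690985) (flp_g L682418) L703602
theorem L703609 : sm gj N51576 = N50344 := ded_24_2 (flp_b L703585) L703581 L703602
theorem L703611 : sm gh N51576 = N49547 := ded_25_2 (flp_b L682608) (flp_h L682420) L703602
theorem L703613 : sm gc N51576 = N49992 := ded_19_2 L687163 (flp_c L675065) L675059 L682414 L703602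
theorem L703615 : sm ga N50360 = N51576 := ded_14_3 L703605 (flp_a L682476) L690645
theorem L703617 : sm ge N49524 = N51577 := rfl
theorem L703619 : sm gc N51577 = N49525 := ded_28_1 (flp_e L682423) L682414 L703617
theorem L703621 : sm gg N51577 = N50407 := ded_41_2 (flp_e L690992) (flp_g L682418) L703617
theorem L703623 : sm gh N51577 = N49548 := ded_43_2 (flp_e L682620) (flp_h L682420) L703617
theorem L703625 : sm gi N49524 = N51578 := rfl
theorem L703627 : sm gc N51578 = N49526 := ded_33_1 (flp_i L682429) L682414 L703625
theorem L703629 : sm gd N51578 = N51578 := ded_39_1 (flp_i L703625) L682422 L703625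
theorem L703630 : sm gf N51578 = N49532 := ded_48_1 (flp_i L682492) (flp_f L682416) L703625
theorem L703632 : sm gg N51578 = N50408 := ded_51_1 (flp_i L690998) (flp_g L682418) L703625
theorem L703634 : sm gf N49525 = N51579 := rfl
theorem L703636 : sm gh N51579 = N49550 := ded_47_2 (flp_f L682636) (flp_h L682427) L703634
theorem L703638 : sm ge N51579 = N49533 := ded_40_1 (flp_f L682499) (flp_e L659977) (flp_f L659945) L682423 L703634
theorem L703640 : sm gi N49525 = N51580 := rfl
theorem L703642 : sm ge N51580 = N49526 := ded_44_1 (flp_i L682429) L682423 L703640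
theorem L703644 : sm gg N51580 = N50409 := ded_51_1 (flp_i L691005) (flp_g L682425) L703640
theorem L703646 : sm gh N49526 = N51581 := rfl
theorem L703648 : sm gf N51581 = N49535 := ded_47_1 (flp_h L682511) (flp_f L682433) L703646
theorem L703650 : sm gg N51581 = N50410 := ded_50_1 (flp_h L691009) (flp_g L682435) L703646
theorem L703652 : sm gi N51581 = N49552 := ded_54_2 (flp_h L682650) (flp_i L660078) (flp_h L659949) L682429 L703646
theorem L703654 : sm gi N49527 = N51582 := rfl
theorem L703656 : sm gb N51582 = N50347 := ded_26_1 (flp_i L690559) (flp_b L682445) L703654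
theorem L703658 : sm gc N51582 = N49529 := ded_33_1 (flp_i L682459) L682437 L703654
theorem L703660 : sm gd N51582 = N51582 := ded_39_1 (flp_i L703654) L682447 L703654
theorem L703661 : sm gg N51582 = N50349 := ded_51_1 (flp_i L690574) (flp_g L682439) L703654
theorem L703663 : sm gj N51582 = N49532 := ded_53_1 (flp_i L682492) (flp_j L682441) L703654
theorem L703665 : sm gf N49528 = N51583 := rfl
theorem L703667 : sm gb N51583 = N50378 := ded_22_1 L690773 (flp_b L682450) L703665
theorem L703669 : sm gd N51583 = N51583 := ded_35_1 (flp_f L703665) L682458 L703665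
theorem L703670 : sm gj N51583 = N49533 := ded_46_2 (flp_f L682499) (flp_j L682454) L703665
theorem L703672 : sm gh N51583 = N49555 := ded_47_2 (flp_f L682679) (flp_h L682456) L703665
theorem L703674 : sm gi N49528 = N51584 := rfl
theorem L703676 : sm gb N51584 = N50381 := ded_26_1 (flp_i L690792) (flp_b L682450) L703674
theorem L703678 : sm gd N51584 = N51584 := ded_39_1 (flp_i L703674) L682458 L703674
theorem L703679 : sm ge N51584 = N49529 := ded_44_1 (flp_i L682459) L682448 L703674
theorem L703681 : sm gg N51584 = N50383 := ded_51_1 (flp_i L690809) (flp_g L682452) L703674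
theorem L703683 : sm gj N51584 = N49534 := ded_53_1 (flp_i L682504) (flp_j L682454) L703674
theorem L703685 : sm gh N49529 = N51585 := rfl
theorem L703687 : sm gj N51585 = N49535 := ded_52_1 (flp_h L682511) (flp_j L682463) L703685
theorem L703689 : sm gi N51585 = N49557 := ded_54_2 (flp_h L682699) (flp_i L660106) (flp_h L659962) L682459 L703685
theorem L703691 : sm gi N49530 = N51586 := rfl
theorem L703693 : sm ga N51586 = N50361 := ded_18_1 (flp_i L690650) L682476 L703691
theorem L703695 : sm gb N51586 = N49532 := ded_26_1 (flp_i L682492) L682465 L703691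
theorem L703697 : sm gc N51586 = N49994 := ded_33_1 (flp_i L687186) (flp_c L682474) L703691
theorem L703699 : sm gd N51586 = N51586 := ded_39_1 (flp_i L703691) L682467 L703691
theorem L703700 : sm ge N51586 = N50333 := ded_44_1 (flp_i L690446) L682478 L703691
theorem L703702 : sm gg N51586 = N49536 := ded_51_1 (flp_i L682517) (flp_g L682468) L703691
theorem L703704 : sm gj N51586 = N50347 := ded_53_1 (flp_i L690559) (flp_j L682470) L703691
theorem L703706 : sm gf N49531 = N51587 := rfl
theorem L703708 : sm gb N51587 = N50329 := ded_22_1 L690414 (flp_b L682482) L703706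
theorem L703710 : sm gc N51587 = N49533 := ded_29_1 (flp_f L682499) (flp_c L682484) L703706
theorem L703712 : sm gd N51587 = N50336 := ded_35_1 L690472 L682490 L703706
theorem L703714 : sm gh N51587 = N49561 := ded_47_2 (flp_f L682744) (flp_h L682488) L703706
theorem L703716 : sm gi N49531 = N51588 := rfl
theorem L703718 : sm gb N51588 = N50333 := ded_26_1 (flp_i L690446) (flp_b L682482) L703716
theorem L703720 : sm gc N51588 = N49534 := ded_33_1 (flp_i L682504) (flp_c L682484) L703716
theorem L703722 : sm gd N51588 = N50339 := ded_39_1 (flp_i L690494) L682490 L703716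
theorem L703724 : sm ge N51588 = N49532 := ded_44_1 (flp_i L682492) L682480 L703716
theorem L703726 : sm gg N51588 = N49537 := ded_51_1 (flp_i L682530) (flp_g L682486) L703716
theorem L703728 : sm gh N49532 = N51589 := rfl
theorem L703730 : sm gc N51589 = N49535 := ded_32_1 (flp_h L682511) (flp_c L682494) L703728
theorem L703732 : sm gg N51589 = N49538 := ded_50_1 (flp_h L682540) (flp_g L682497) L703728
theorem L703734 : sm gi N51589 = N49563 := ded_54_2 (flp_h L682758) (flp_i L660129) (flp_h L659974) L682492 L703728
theorem L703736 : sm gg N49533 = N51590 := rfl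
theorem L703738 : sm gd N51590 = N51590 := ded_36_1 (flp_g L703736) L682501 L703736
theorem L703739 : sm gh N51590 = N49564 := ded_50_2 (flp_g L682764) (flp_h L682502) L703736
theorem L703741 : sm gf N51590 = N49539 := ded_45_1 (flp_g L682548) (flp_f L660020) (flp_g L659979) L682499 L703736
theorem L703743 : sm gi N49533 = N51591 := rfl
theorem L703745 : sm gd N51591 = N51591 := ded_39_1 (flp_i L703743) L682501 L703743
theorem L703746 : sm gf N51591 = N49534 := ded_48_1 (flp_i L682504) L682499 L703743
theorem L703748 : sm gh N49534 = N51592 := rfl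
theorem L703750 : sm ge N51592 = N49535 := ded_43_1 (flp_h L682511) (flp_e L682507) L703748
theorem L703752 : sm gg N51592 = N49541 := ded_50_1 (flp_h L682562) (flp_g L682509) L703748
theorem L703754 : sm gi N51592 = N49566 := ded_54_2 (flp_h L682776) (flp_i L660141) (flp_h L659981) L682504 L703748
theorem L703756 : sm gh N49536 = N51593 := rfl
theorem L703758 : sm ga N51593 = N50368 := ded_17_1 (flp_h L690700) (flp_a L682519) L703756
theorem L703760 : sm gb N51593 = N49538 := ded_25_1 (flp_h L682540) (flp_b L682521) L703756
theorem L703762 : sm gc N51593 = N49995 := ded_32_1 (flp_h L687200) (flp_c L682523) L703756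
theorem L703764 : sm ge N51593 = N50335 := ded_43_1 (flp_h L690464) (flp_e L682526) L703756
theorem L703766 : sm gf N51593 = N50414 := ded_47_1 (flp_h L691036) (flp_f L682528) L703756
theorem L703768 : sm gi N51593 = N49569 := ded_54_2 (flp_h L682805) (flp_i L660176) (flp_h L659995) L682517 L703756
theorem L703770 : sm gh N49537 = N51594 := rfl
theorem L703772 : sm gb N51594 = N50335 := ded_25_1 (flp_h L690464) (flp_b L682532) L703770
theorem L703774 : sm gc N51594 = N49541 := ded_32_1 (flp_h L682562) (flp_c L682534) L703770
theorem L703776 : sm ge N51594 = N49538 := ded_43_1 (flp_h L682540) (flp_e L682538) L703770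
theorem L703778 : sm gi N51594 = N49572 := ded_54_2 (flp_h L682827) (flp_i L660191) (flp_h L660009) L682530 L703770
theorem L703780 : sm gd N49538 = N51595 := rfl
theorem L703782 : sm gf N51595 = N50416 := ded_35_2 (flp_d L691050) (flp_f L682544) L703780
theorem L703784 : sm gi N51595 = N49573 := ded_39_2 (flp_d L682833) (flp_i L682546) L703780
theorem L703786 : sm gh N51595 = N51595 := ded_38_2 (flp_d L703780) (flp_h L682540) L660017 L682540 L703780
theorem L703787 : sm gi N49539 = N51596 := rfl
theorem L703789 : sm gd N51596 = N51596 := ded_39_1 (flp_i L703787) L682550 L703787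
theorem L703790 : sm ge N51596 = N50050 := ded_44_1 L687765 (flp_e L682551) L703787
theorem L703792 : sm gg N51596 = N49540 := ded_51_1 (flp_i L682555) L682548 L703787
theorem L703794 : sm gh N49540 = N51597 := rfl
theorem L703796 : sm ge N51597 = N50038 := ded_43_1 L687645 (flp_e L682558) L703794
theorem L703798 : sm gf N51597 = N49541 := ded_47_1 (flp_h L682562) (flp_f L682560) L703794
theorem L703800 : sm gi N51597 = N49576 := ded_54_2 (flp_h L682853) (flp_i L660210) (flp_h L660023) L682555 L703794
theorem L703802 : sm gd N49541 = N51598 := rfl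
theorem L703804 : sm gi N51598 = N49577 := ded_39_2 (flp_d L682859) (flp_i L682566) L703802
theorem L703806 : sm gh N51598 = N51598 := ded_38_2 (flp_d L703802) (flp_h L682562) L660029 L682562 L703802
theorem L703807 : sm ge N49542 = N51599 := rfl
theorem L703809 : sm gg N51599 = N49545 := ded_41_2 (flp_e L682594) (flp_g L682570) L703807
theorem L703811 : sm gj N51599 = N50418 := ded_42_2 (flp_e L691061) (flp_j L682572) L703807
theorem L703813 : sm gd N51599 = N49825 := ded_34_1 (flp_e L685438) (flp_d L662761) (flp_e L660042) L682568 L703807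
theorem L703815 : sm gi N49542 = N51600 := rfl
theorem L703817 : sm gd N51600 = N49543 := ded_39_1 (flp_i L682574) L682568 L703815
theorem L703819 : sm gg N51600 = N49546 := ded_51_1 (flp_i L682600) (flp_g L682570) L703815
theorem L703821 : sm gj N51600 = N50419 := ded_53_1 (flp_i L691067) (flp_j L682572) L703815
theorem L703823 : sm ge N49544 = N51601 := rfl
theorem L703825 : sm gb N51601 = N50354 := ded_21_1 (flp_e L690607) (flp_b L682590) L703823
theorem L703827 : sm gc N51601 = N49545 := ded_28_1 (flp_e L682594) L682584 L703823
theorem L703829 : sm gj N51601 = N49548 := ded_42_2 (flp_e L682620) (flp_j L682588) L703823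
theorem L703831 : sm gi N49544 = N51602 := rfl
theorem L703833 : sm gb N51602 = N50355 := ded_26_1 (flp_i L690611) (flp_b L682590) L703831
theorem L703835 : sm gc N51602 = N49546 := ded_33_1 (flp_i L682600) L682584 L703831
theorem L703837 : sm gd N51602 = N49589 := ded_39_1 (flp_i L682956) (flp_d L682592) L703831
theorem L703839 : sm gf N51602 = N49554 := ded_48_1 (flp_i L682667) (flp_f L682586) L703831
theorem L703841 : sm gj N51602 = N49549 := ded_53_1 (flp_i L682626) (flp_j L682588) L703831
theorem L703843 : sm gf N49545 = N51603 := rfl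
theorem L703845 : sm gb N51603 = N50389 := ded_22_1 (flp_f L696271) L696263 L703843
theorem L703847 : sm gd N51603 = N49830 := ded_35_1 (flp_f L685477) (flp_d L682598) L703843
theorem L703849 : sm gj N51603 = N49550 := ded_46_2 (flp_f L682636) (flp_j L682596) L703843
theorem L703851 : sm ge N51603 = N49555 := ded_40_1 (flp_f L682679) (flp_e L660096) (flp_f L660050) L682594 L703843
theorem L703853 : sm gi N49545 = N51604 := rfl
theorem L703855 : sm gd N51604 = N49831 := ded_39_1 (flp_i L685483) (flp_d L682598) L703853
theorem L703857 : sm ge N51604 = N49546 := ded_44_1 (flp_i L682600) L682594 L703853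
theorem L703859 : sm gj N51604 = N49551 := ded_53_1 (flp_i L682642) (flp_j L682596) L703853
theorem L703861 : sm gh N49546 = N51605 := rfl
theorem L703863 : sm gf N51605 = N49557 := ded_47_1 (flp_h L682699) (flp_f L682604) L703861
theorem L703865 : sm gj N51605 = N49552 := ded_52_1 (flp_h L682650) (flp_j L682606) L703861
theorem L703867 : sm ga N49547 = N51606 := rfl
theorem L703869 : sm gc N51606 = N50327 := ded_11_2 L690384 (flp_c L682618) L703867
theorem L703871 : sm gd N51606 = N49592 := ded_12_2 (flp_a L682986) (flp_d L682610) L703867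
theorem L703873 : sm gf N51606 = N49558 := ded_14_2 (flp_a L682703) (flp_f L682612) L703867
theorem L703875 : sm gg N51606 = N50425 := ded_15_2 (flp_a L691111) (flp_g L682614) L703867
theorem L703877 : sm gj N51606 = N50329 := ded_16_2 L690412 (flp_j L682616) L703867
theorem L703879 : sm gh N51606 = N50360 := ded_17_2 L703615 L703611 L703867
theorem L703881 : sm ge N49547 = N51607 := rfl
theorem L703883 : sm gb N51607 = N49548 := ded_21_1 (flp_e L682620) L682608 L703881
theorem L703885 : sm gc N51607 = N50352 := ded_28_1 (flp_e L690593) (flp_c L682618) L703881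
theorem L703887 : sm gg N51607 = N50426 := ded_41_2 (flp_e L691117) (flp_g L682614) L703881
theorem L703889 : sm gj N51607 = N50354 := ded_42_2 (flp_e L690607) (flp_j L682616) L703881
theorem L703891 : sm gi N49547 = N51608 := rfl
theorem L703893 : sm gb N51608 = N49549 := ded_26_1 (flp_i L682626) L682608 L703891
theorem L703895 : sm gc N51608 = N50353 := ded_33_1 (flp_i L690599) (flp_c L682618) L703891
theorem L703897 : sm gd N51608 = N49594 := ded_39_1 (flp_i L683009) (flp_d L682610) L703891
theorem L703899 : sm gf N51608 = N49560 := ded_48_1 (flp_i L682732) (flp_f L682612) L703891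
theorem L703901 : sm gg N51608 = N50427 := ded_51_1 (flp_i L691121) (flp_g L682614) L703891
theorem L703903 : sm gj N51608 = N50355 := ded_53_1 (flp_i L690611) (flp_j L682616) L703891
theorem L703905 : sm gd N49548 = N51609 := rfl
theorem L703907 : sm gg N51609 = N50428 := ded_36_2 (flp_d L691129) (flp_g L682624) L703905
theorem L703909 : sm gc N51609 = N49836 := ded_27_1 (flp_d L685519) L662807 (flp_d L660076) (flp_c L682622) L703905
theorem L703911 : sm ge N51609 = N49595 := ded_34_2 (flp_d L683021) (flp_e L660377) (flp_d L660070) L682620 L703905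
theorem L703913 : sm gf N49548 = N51610 := rfl
theorem L703915 : sm gc N51610 = N49550 := ded_29_1 (flp_f L682636) (flp_c L682622) L703913
theorem L703917 : sm ge N51610 = N49561 := ded_40_1 (flp_f L682744) (flp_e L660122) (flp_f L660066) L682620 L703913
theorem L703919 : sm gi N49548 = N51611 := rfl
theorem L703921 : sm gc N51611 = N49551 := ded_33_1 (flp_i L682642) (flp_c L682622) L703919
theorem L703923 : sm ge N51611 = N49549 := ded_44_1 (flp_i L682626) L682620 L703919
theorem L703925 : sm gg N51611 = N50430 := ded_51_1 (flp_i L691141) (flp_g L682624) L703919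
theorem L703927 : sm gh N49549 = N51612 := rfl
theorem L703929 : sm gc N51612 = N49552 := ded_32_1 (flp_h L682650) (flp_c L682628) L703927
theorem L703931 : sm gf N51612 = N49563 := ded_47_1 (flp_h L682758) (flp_f L682632) L703927
theorem L703933 : sm gg N51612 = N50431 := ded_50_1 (flp_h L691147) (flp_g L682634) L703927
theorem L703935 : sm gg N49550 = N51613 := rfl
theorem L703937 : sm gd N51613 = N49840 := ded_36_1 (flp_g L685547) (flp_d L682638) L703935
theorem L703939 : sm ge N51613 = N49564 := ded_41_1 (flp_g L682764) (flp_e L682640) L703935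
theorem L703941 : sm gf N51613 = N50432 := ded_45_1 (flp_g L691153) (flp_f L669031) (flp_g L660074) L682636 L703935
theorem L703943 : sm gi N49550 = N51614 := rfl
theorem L703945 : sm gd N51614 = N49841 := ded_39_1 (flp_i L685553) (flp_d L682638) L703943
theorem L703947 : sm ge N51614 = N49565 := ded_44_1 (flp_i L682770) (flp_e L682640) L703943
theorem L703949 : sm gf N51614 = N49551 := ded_48_1 (flp_i L682642) L682636 L703943
theorem L703951 : sm gh N49551 = N51615 := rfl
theorem L703953 : sm ge N51615 = N49552 := ded_43_1 (flp_h L682650) (flp_e L682646) L703951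
theorem L703955 : sm gg N51615 = N50434 := ded_50_1 (flp_h L691167) (flp_g L682648) L703951
theorem L703957 : sm gf N49553 = N51616 := rfl
theorem L703959 : sm gb N51616 = N50360 := ded_22_1 (flp_f L690645) (flp_b L682658) L703957
theorem L703961 : sm gc N51616 = N49555 := ded_29_1 (flp_f L682679) (flp_c L682660) L703957
theorem L703963 : sm gd N51616 = N51616 := ded_35_1 (flp_f L703957) L682666 L703957
theorem L703964 : sm gj N51616 = N49561 := ded_46_2 (flp_f L682744) (flp_j L682664) L703957
theorem L703966 : sm gi N49553 = N51617 := rfl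
theorem L703968 : sm gb N51617 = N50361 := ded_26_1 (flp_i L690650) (flp_b L682658) L703966
theorem L703970 : sm gc N51617 = N49556 := ded_33_1 (flp_i L682687) (flp_c L682660) L703966
theorem L703972 : sm gd N51617 = N51617 := ded_39_1 (flp_i L703966) L682666 L703966
theorem L703973 : sm ge N51617 = N49554 := ded_44_1 (flp_i L682667) L682656 L703966
theorem L703975 : sm gg N51617 = N50366 := ded_51_1 (flp_i L690687) (flp_g L682662) L703966
theorem L703977 : sm gj N51617 = N49562 := ded_53_1 (flp_i L682749) (flp_j L682664) L703966
theorem L703979 : sm gh N49554 = N51618 := rfl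
theorem L703981 : sm gb N51618 = N50362 := ded_25_1 (flp_h L690659) (flp_b L682669) L703979
theorem L703983 : sm gc N51618 = N49557 := ded_32_1 (flp_h L682699) (flp_c L682671) L703979
theorem L703985 : sm gg N51618 = N50367 := ded_50_1 (flp_h L690696) (flp_g L682675) L703979
theorem L703987 : sm gj N51618 = N49563 := ded_52_1 (flp_h L682758) (flp_j L682677) L703979
theorem L703989 : sm gi N49555 = N51619 := rfl
theorem L703991 : sm gb N51619 = N50390 := ded_26_1 (flp_i L690862) (flp_b L682681) L703989
theorem L703993 : sm gd N51619 = N49578 := ded_39_1 (flp_i L682863) (flp_d L682683) L703989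
theorem L703995 : sm gf N51619 = N49556 := ded_48_1 (flp_i L682687) L682679 L703989
theorem L703997 : sm gj N51619 = N49565 := ded_53_1 (flp_i L682770) (flp_j L682685) L703989
theorem L703999 : sm gh N49556 = N51620 := rfl
theorem L704001 : sm gb N51620 = N50394 := ded_25_1 (flp_h L690892) (flp_b L682689) L703999
theorem L704003 : sm ge N51620 = N49557 := ded_43_1 (flp_h L682699) (flp_e L682693) L703999
theorem L704005 : sm gg N51620 = N50396 := ded_50_1 (flp_h L690908) (flp_g L682695) L703999
theorem L704007 : sm gj N51620 = N49566 := ded_52_1 (flp_h L682776) (flp_j L682697) L703999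
theorem L704009 : sm gi N49558 = N51621 := rfl
theorem L704011 : sm ga N51621 = N49560 := ded_18_1 (flp_i L682732) L682703 L704009
theorem L704013 : sm gc N51621 = N50332 := ded_33_1 (flp_i L690432) (flp_c L682705) L704009
theorem L704015 : sm gd N51621 = N49600 := ded_39_1 (flp_i L683068) (flp_d L682707) L704009
theorem L704017 : sm ge N51621 = N50347 := ded_44_1 (flp_i L690559) L682715 L704009
theorem L704019 : sm gg N51621 = N49567 := ded_51_1 (flp_i L682782) (flp_g L682709) L704009
theorem L704021 : sm gj N51621 = N50333 := ded_53_1 (flp_i L690446) (flp_j L682711) L704009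
theorem L704023 : sm gf N49559 = N51622 := rfl
theorem L704025 : sm ga N51622 = N50344 := ded_14_1 L690544 (flp_a L682719) L704023
theorem L704027 : sm gb N51622 = N49561 := ded_22_1 (flp_f L682744) (flp_b L682721) L704023
theorem L704029 : sm gc N51622 = N50323 := ded_29_1 L690339 (flp_c L682723) L704023
theorem L704031 : sm gd N51622 = N51622 := ded_35_1 (flp_f L704023) L682731 L704023
theorem L704032 : sm gj N51622 = N50360 := ded_46_2 (flp_f L690645) (flp_j L682727) L704023
theorem L704034 : sm gh N51622 = N50329 := ded_47_2 L690414 (flp_h L682729) L704023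
theorem L704036 : sm gi N49559 = N51623 := rfl
theorem L704038 : sm ga N51623 = N50347 := ded_18_1 (flp_i L690559) (flp_a L682719) L704036
theorem L704040 : sm gb N51623 = N49562 := ded_26_1 (flp_i L682749) (flp_b L682721) L704036
theorem L704042 : sm gc N51623 = N50325 := ded_33_1 (flp_i L690360) (flp_c L682723) L704036
theorem L704044 : sm gd N51623 = N51623 := ded_39_1 (flp_i L704036) L682731 L704036
theorem L704045 : sm ge N51623 = N49560 := ded_44_1 (flp_i L682732) L682717 L704036
theorem L704047 : sm gg N51623 = N49568 := ded_51_1 (flp_i L682794) (flp_g L682725) L704036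
theorem L704049 : sm gj N51623 = N50361 := ded_53_1 (flp_i L690650) (flp_j L682727) L704036
theorem L704051 : sm gh N49560 = N51624 := rfl
theorem L704053 : sm gb N51624 = N49563 := ded_25_1 (flp_h L682758) (flp_b L682734) L704051
theorem L704055 : sm gc N51624 = N50359 := ded_32_1 (flp_h L690639) (flp_c L682736) L704051
theorem L704057 : sm gg N51624 = N49569 := ded_50_1 (flp_h L682805) (flp_g L682740) L704051
theorem L704059 : sm gj N51624 = N50362 := ded_52_1 (flp_h L690659) (flp_j L682742) L704051
theorem L704061 : sm gg N49561 = N51625 := rfl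
theorem L704063 : sm gc N51625 = N49564 := ded_30_1 (flp_g L682764) (flp_c L682746) L704061
theorem L704065 : sm gd N51625 = N51625 := ded_36_1 (flp_g L704061) L682748 L704061
theorem L704066 : sm gf N51625 = N49570 := ded_45_1 (flp_g L682811) (flp_f L660184) (flp_g L660126) L682744 L704061
theorem L704068 : sm gi N49561 = N51626 := rfl
theorem L704070 : sm gc N51626 = N49565 := ded_33_1 (flp_i L682770) (flp_c L682746) L704068
theorem L704072 : sm gd N51626 = N51626 := ded_39_1 (flp_i L704068) L682748 L704068
theorem L704073 : sm gf N51626 = N49562 := ded_48_1 (flp_i L682749) L682744 L704068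
theorem L704075 : sm gh N49562 = N51627 := rfl
theorem L704077 : sm gc N51627 = N49566 := ded_32_1 (flp_h L682776) (flp_c L682751) L704075
theorem L704079 : sm ge N51627 = N49563 := ded_43_1 (flp_h L682758) (flp_e L682754) L704075
theorem L704081 : sm gg N51627 = N49572 := ded_50_1 (flp_h L682827) (flp_g L682756) L704075
theorem L704083 : sm gd N49563 = N51628 := rfl
theorem L704085 : sm gg N51628 = N49573 := ded_36_2 (flp_d L682833) (flp_g L682762) L704083
theorem L704087 : sm gh N51628 = N49602 := ded_38_2 (flp_d L683091) (flp_h L660455) (flp_d L660133) L682758 L704083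
theorem L704089 : sm gj N49564 = N51629 := rfl
theorem L704091 : sm gd N51629 = N49580 := ded_37_1 (flp_j L682886) (flp_d L682766) L704089
theorem L704093 : sm gf N51629 = N49574 := ded_46_1 (flp_j L682839) (flp_f L682768) L704089
theorem L704095 : sm gi N49564 = N51630 := rfl
theorem L704097 : sm gd N51630 = N49581 := ded_39_1 (flp_i L682894) (flp_d L682766) L704095
theorem L704099 : sm gf N51630 = N49575 := ded_48_1 (flp_i L682845) (flp_f L682768) L704095
theorem L704101 : sm gg N51630 = N49565 := ded_51_1 (flp_i L682770) L682764 L704095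
theorem L704103 : sm gh N49565 = N51631 := rfl
theorem L704105 : sm gf N51631 = N49566 := ded_47_1 (flp_h L682776) (flp_f L682774) L704103
theorem L704107 : sm gd N49566 = N51632 := rfl
theorem L704109 : sm gg N51632 = N49577 := ded_36_2 (flp_d L682859) (flp_g L682780) L704107
theorem L704111 : sm gh N51632 = N49583 := ded_38_2 (flp_d L682911) (flp_h L660270) (flp_d L660143) L682776 L704107
theorem L704113 : sm gh N49567 = N51633 := rfl
theorem L704115 : sm ga N51633 = N49569 := ded_17_1 (flp_h L682805) (flp_a L682784) L704113
theorem L704117 : sm gc N51633 = N50351 := ded_32_1 (flp_h L690585) (flp_c L682786) L704113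
theorem L704119 : sm ge N51633 = N50350 := ded_43_1 (flp_h L690579) (flp_e L682790) L704113
theorem L704121 : sm gf N51633 = N50449 := ded_47_1 (flp_h L691271) (flp_f L682792) L704113
theorem L704123 : sm gi N51633 = N50368 := ded_54_2 (flp_h L690700) (flp_i L668549) (flp_h L660161) L682782 L704113
theorem L704125 : sm gh N49568 = N51634 := rfl
theorem L704127 : sm ga N51634 = N50350 := ded_17_1 (flp_h L690579) (flp_a L682796) L704125
theorem L704129 : sm gb N51634 = N49572 := ded_25_1 (flp_h L682827) (flp_b L682798) L704125
theorem L704131 : sm gc N51634 = N50326 := ded_32_1 (flp_h L690374) (flp_c L682800) L704125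
theorem L704133 : sm ge N51634 = N49569 := ded_43_1 (flp_h L682805) (flp_e L682803) L704125
theorem L704135 : sm gi N51634 = N50335 := ded_54_2 (flp_h L690464) (flp_i L668314) (flp_h L660173) L682794 L704125
theorem L704137 : sm gd N49569 = N51635 := rfl
theorem L704139 : sm gb N51635 = N49573 := ded_20_1 (flp_d L682833) (flp_b L682807) L704137
theorem L704141 : sm gf N51635 = N50452 := ded_35_2 (flp_d L691289) (flp_f L682809) L704137
theorem L704143 : sm gh N51635 = N49604 := ded_38_2 (flp_d L683106) (flp_h L660472) (flp_d L660180) L682805 L704137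
theorem L704145 : sm gi N49570 = N51636 := rfl
theorem L704147 : sm gc N51636 = N49575 := ded_33_1 (flp_i L682845) (flp_c L682813) L704145
theorem L704149 : sm gd N51636 = N51636 := ded_39_1 (flp_i L704145) L682815 L704145
theorem L704150 : sm ge N51636 = N50453 := ded_44_1 (flp_i L691295) (flp_e L682816) L704145
theorem L704152 : sm gg N51636 = N49571 := ded_51_1 (flp_i L682818) L682811 L704145
theorem L704154 : sm gh N49571 = N51637 := rfl
theorem L704156 : sm gc N51637 = N49576 := ded_32_1 (flp_h L682853) (flp_c L682820) L704154
theorem L704158 : sm ge N51637 = N50454 := ded_43_1 (flp_h L691303) (flp_e L682823) L704154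
theorem L704160 : sm gf N51637 = N49572 := ded_47_1 (flp_h L682827) (flp_f L682825) L704154
theorem L704162 : sm gd N49572 = N51638 := rfl
theorem L704164 : sm gh N51638 = N51638 := ded_38_2 (flp_d L704162) (flp_h L682827) L660195 L682827 L704162
theorem L704165 : sm ge N49573 = N51639 := rfl
theorem L704167 : sm gh N51639 = N49605 := ded_43_2 (flp_e L683113) (flp_h L682837) L704165
theorem L704169 : sm gi N49574 = N51640 := rfl
theorem L704171 : sm gd N51640 = N49584 := ded_39_1 (flp_i L682916) (flp_d L682841) L704169
theorem L704173 : sm ge N51640 = N50457 := ded_44_1 (flp_i L691317) (flp_e L682843) L704169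
theorem L704175 : sm gg N51640 = N50763 := ded_51_1 (flp_i L695378) L695372 L704169
theorem L704177 : sm gj N51640 = N49575 := ded_53_1 (flp_i L682845) L682839 L704169
theorem L704179 : sm gh N49575 = N51641 := rfl
theorem L704181 : sm ge N51641 = N50458 := ded_43_1 (flp_h L691325) (flp_e L682849) L704179
theorem L704183 : sm gg N51641 = N49576 := ded_50_1 (flp_h L682853) (flp_g L682851) L704179
theorem L704185 : sm gd N49576 = N51642 := rfl
theorem L704187 : sm gf N51642 = N49577 := ded_35_2 (flp_d L682859) (flp_f L682857) L704185
theorem L704189 : sm gh N51642 = N49586 := ded_38_2 (flp_d L682937) (flp_h L660291) (flp_d L660212) L682853 L704185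
theorem L704191 : sm gc N49577 = N51643 := rfl
theorem L704193 : sm gh N51643 = N49587 := ded_32_2 (flp_c L682942) (flp_h L682861) L704191
theorem L704195 : sm gh N49578 = N51644 := rfl
theorem L704197 : sm gb N51644 = N50400 := ded_25_1 (flp_h L690937) (flp_b L682865) L704195
theorem L704199 : sm gc N51644 = N51644 := ded_32_1 (flp_h L704195) L682867 L704195
theorem L704200 : sm ge N51644 = N49880 := ded_43_1 (flp_h L685858) (flp_e L682868) L704195
theorem L704202 : sm gf N51644 = N49579 := ded_47_1 (flp_h L682874) (flp_f L682870) L704195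
theorem L704204 : sm gj N51644 = N49582 := ded_52_1 (flp_h L682903) (flp_j L682872) L704195
theorem L704206 : sm gi N51644 = N51644 := ded_54_2 (flp_h L704195) (flp_i L682863) L660229 L682863 L704195
theorem L704207 : sm gd N49579 = N51645 := rfl
theorem L704209 : sm gb N51645 = N50402 := ded_20_1 (flp_d L690956) (flp_b L682876) L704207
theorem L704211 : sm gg N51645 = N50404 := ded_36_2 (flp_d L690973) (flp_g L682881) L704207
theorem L704213 : sm gj N51645 = N49583 := ded_37_2 (flp_d L682911) (flp_j L682883) L704207
theorem L704215 : sm gi N51645 = N51645 := ded_39_2 (flp_d L704207) L682885 L704207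
theorem L704216 : sm gi N49580 = N51646 := rfl
theorem L704218 : sm gc N51646 = N51646 := ded_33_1 (flp_i L704216) L682888 L704216
theorem L704219 : sm ge N51646 = N49882 := ded_44_1 (flp_i L685872) (flp_e L682889) L704216
theorem L704221 : sm gf N51646 = N49584 := ded_48_1 (flp_i L682916) (flp_f L682891) L704216
theorem L704223 : sm gj N51646 = N49581 := ded_53_1 (flp_i L682894) L682886 L704216
theorem L704225 : sm gh N50772 = N51646 := ded_47_0 L704221 (flp_h L682925) L693769
theorem L704227 : sm gh N49581 = N51647 := rfl
theorem L704229 : sm gc N51647 = N51647 := ded_32_1 (flp_h L704227) L682896 L704227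
theorem L704230 : sm ge N51647 = N49883 := ded_43_1 (flp_h L685879) (flp_e L682897) L704227
theorem L704232 : sm gf N51647 = N49585 := ded_47_1 (flp_h L682927) (flp_f L682899) L704227
theorem L704234 : sm gg N51647 = N49582 := ded_50_1 (flp_h L682903) (flp_g L682901) L704227
theorem L704236 : sm gj N51647 = N50772 := ded_52_1 L704225 L704223 L704227
theorem L704238 : sm gi N51647 = N51647 := ded_54_2 (flp_h L704227) (flp_i L682894) L660260 L682894 L704227
theorem L704239 : sm gd N49582 = N51648 := rfl
theorem L704241 : sm gf N51648 = N49583 := ded_35_2 (flp_d L682911) (flp_f L682908) L704239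
theorem L704243 : sm gi N51648 = N51648 := ded_39_2 (flp_d L704239) L682910 L704239
theorem L704244 : sm gc N49583 = N51649 := rfl
theorem L704246 : sm gg N51649 = N49587 := ded_30_2 (flp_c L682942) (flp_g L682913) L704244
theorem L704248 : sm gi N51649 = N51649 := ded_33_2 (flp_c L704244) L682915 L704244
theorem L704249 : sm gd N51649 = N51649 := ded_27_2 (flp_c L704244) (flp_d L682911) L660272 L682911 L704244
theorem L704250 : sm gd N49585 = N51650 := rfl
theorem L704252 : sm gg N51650 = N49586 := ded_36_2 (flp_d L682937) (flp_g L682932) L704250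
theorem L704254 : sm gj N51650 = N50476 := ded_37_2 L691478 (flp_j L682934) L704250
theorem L704256 : sm gi N51650 = N51650 := ded_39_2 (flp_d L704250) L682936 L704250
theorem L704257 : sm ge N51650 = N50473 := ded_34_2 (flp_d L691450) L669346 (flp_d L660324) (flp_e L682930) L704250
theorem L704259 : sm gc N49586 = N51651 := rfl
theorem L704261 : sm ge N51651 = N49604 := ded_28_2 (flp_c L696058) L696060 L704259
theorem L704263 : sm gf N51651 = N49587 := ded_29_2 (flp_c L682942) (flp_f L682939) L704259
theorem L704265 : sm gi N51651 = N51651 := ded_33_2 (flp_c L704259) L682941 L704259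
theorem L704266 : sm gb N51651 = N49605 := ded_19_1 (flp_c L702544) L702542 (flp_c L696626) L696621 L704259
theorem L704268 : sm gd N51651 = N51651 := ded_27_2 (flp_c L704259) (flp_d L682937) L660293 L682937 L704259
theorem L704269 : sm gb N49587 = N51652 := rfl
theorem L704271 : sm gd N51652 = N51652 := ded_20_2 (flp_b L704269) L682945 L704269
theorem L704272 : sm ge N51652 = N50480 := ded_21_2 L702408 L702401 L704269
theorem L704274 : sm gf N51652 = N49605 := ded_22_2 (flp_b L704266) L704263 L704269
theorem L704276 : sm gi N51652 = N51652 := ded_26_2 (flp_b L704269) L682944 L704269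
theorem L704277 : sm gd N49588 = N51653 := rfl
theorem L704279 : sm gb N51653 = N50370 := ded_20_1 (flp_d L690712) (flp_b L682948) L704277
theorem L704281 : sm gf N51653 = N51653 := ded_35_2 (flp_d L704277) L682955 L704277
theorem L704282 : sm gj N51653 = N49595 := ded_37_2 (flp_d L683021) (flp_j L682952) L704277
theorem L704284 : sm gc N51653 = N49898 := ded_27_1 (flp_d L686040) L663169 (flp_d L660353) (flp_c L682950) L704277
theorem L704286 : sm gi N49588 = N51654 := rfl
theorem L704288 : sm gb N51654 = N50371 := ded_26_1 (flp_i L690717) (flp_b L682948) L704286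
theorem L704290 : sm gc N51654 = N49590 := ded_33_1 (flp_i L682966) (flp_c L682950) L704286
theorem L704292 : sm ge N51654 = N49589 := ded_44_1 (flp_i L682956) L682946 L704286
theorem L704294 : sm gf N51654 = N51654 := ded_48_1 (flp_i L704286) L682955 L704286
theorem L704295 : sm gj N51654 = N49596 := ded_53_1 (flp_i L683028) (flp_j L682952) L704286
theorem L704297 : sm gh N49589 = N51655 := rfl
theorem L704299 : sm gb N51655 = N50372 := ded_25_1 (flp_h L690724) (flp_b L682958) L704297
theorem L704301 : sm gc N51655 = N49591 := ded_32_1 (flp_h L682977) (flp_c L682960) L704297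
theorem L704303 : sm gf N51655 = N49599 := ded_47_1 (flp_h L683056) (flp_f L682962) L704297
theorem L704305 : sm gj N51655 = N49597 := ded_52_1 (flp_h L683037) (flp_j L682964) L704297
theorem L704307 : sm gi N51655 = N51655 := ded_54_2 (flp_h L704297) (flp_i L682956) L660343 L682956 L704297
theorem L704308 : sm gh N49590 = N51656 := rfl
theorem L704310 : sm gb N51656 = N49606 := ded_25_1 (flp_h L683117) (flp_b L682968) L704308
theorem L704312 : sm ge N51656 = N49591 := ded_43_1 (flp_h L682977) (flp_e L682972) L704308
theorem L704314 : sm gf N51656 = N51656 := ded_47_1 (flp_h L704308) L682974 L704308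
theorem L704315 : sm gj N51656 = N49598 := ded_52_1 (flp_h L683046) (flp_j L682975) L704308
theorem L704317 : sm gi N51656 = N51656 := ded_54_2 (flp_h L704308) (flp_i L682966) L660352 L682966 L704308
theorem L704318 : sm ge N49592 = N51657 := rfl
theorem L704320 : sm ga N51657 = N49593 := ded_13_1 (flp_e L682997) L682986 L704318
theorem L704322 : sm gb N51657 = N49768 := ded_21_1 (flp_e L703274) L703271 L704318
theorem L704324 : sm gc N51657 = N49607 := ded_28_1 (flp_e L683128) (flp_c L682988) L704318
theorem L704326 : sm gg N51657 = N49695 := ded_41_2 L684117 (flp_g L682992) L704318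
theorem L704328 : sm gj N51657 = N49692 := ded_42_2 L684087 (flp_j L682994) L704318
theorem L704330 : sm gh N51657 = N51657 := ded_43_2 (flp_e L704318) L682996 L704318
theorem L704331 : sm gf N51657 = N51657 := ded_40_2 (flp_e L704318) L682990 L660438 (flp_f L682990) L704318
theorem L704332 : sm gi N49592 = N51658 := rfl
theorem L704334 : sm ga N51658 = N49594 := ded_18_1 (flp_i L683009) L682986 L704332
theorem L704336 : sm gc N51658 = N49608 := ded_33_1 (flp_i L683141) (flp_c L682988) L704332
theorem L704338 : sm gf N51658 = N49600 := ded_48_1 (flp_i L683068) (flp_f L682990) L704332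
theorem L704340 : sm gg N51658 = N50464 := ded_51_1 (flp_i L691377) (flp_g L682992) L704332
theorem L704342 : sm gj N51658 = N50337 := ded_53_1 (flp_i L690476) (flp_j L682994) L704332
theorem L704344 : sm gd N49593 = N51659 := rfl
theorem L704346 : sm gb N51659 = N49595 := ded_20_1 (flp_d L683021) (flp_b L682999) L704344
theorem L704348 : sm gf N51659 = N51659 := ded_35_2 (flp_d L704344) L683008 L704344
theorem L704349 : sm gg N51659 = N50465 := ded_36_2 (flp_d L691385) (flp_g L683003) L704344
theorem L704351 : sm gj N51659 = N50370 := ded_37_2 (flp_d L690712) (flp_j L683005) L704344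
theorem L704353 : sm gc N51659 = N50548 := ded_27_1 (flp_d L692027) L670008 (flp_d L660530) (flp_c L683001) L704344
theorem L704355 : sm gi N49593 = N51660 := rfl
theorem L704357 : sm gb N51660 = N49596 := ded_26_1 (flp_i L683028) (flp_b L682999) L704355
theorem L704359 : sm gc N51660 = N49609 := ded_33_1 (flp_i L683154) (flp_c L683001) L704355
theorem L704361 : sm ge N51660 = N49594 := ded_44_1 (flp_i L683009) L682997 L704355
theorem L704363 : sm gf N51660 = N51660 := ded_48_1 (flp_i L704355) L683008 L704355
theorem L704364 : sm gg N51660 = N50466 := ded_51_1 (flp_i L691391) (flp_g L683003) L704355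
theorem L704366 : sm gj N51660 = N50371 := ded_53_1 (flp_i L690717) (flp_j L683005) L704355
theorem L704368 : sm gh N49594 = N51661 := rfl
theorem L704370 : sm gb N51661 = N49597 := ded_25_1 (flp_h L683037) (flp_b L683011) L704368
theorem L704372 : sm gc N51661 = N49610 := ded_32_1 (flp_h L683167) (flp_c L683013) L704368
theorem L704374 : sm gf N51661 = N49601 := ded_47_1 (flp_h L683079) (flp_f L683015) L704368
theorem L704376 : sm gg N51661 = N50467 := ded_50_1 (flp_h L691401) (flp_g L683017) L704368
theorem L704378 : sm gj N51661 = N50372 := ded_52_1 (flp_h L690724) (flp_j L683019) L704368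
theorem L704380 : sm gi N51661 = N51661 := ded_54_2 (flp_h L704368) (flp_i L683009) L660374 L683009 L704368
theorem L704381 : sm gh N49595 = N51662 := rfl
theorem L704383 : sm gc N51662 = N49907 := ded_32_1 (flp_h L686138) (flp_c L683026) L704381
theorem L704385 : sm gf N51662 = N51662 := ded_47_1 (flp_h L704381) L683023 L704381
theorem L704386 : sm gg N51662 = N50468 := ded_50_1 (flp_h L691410) (flp_g L683024) L704381
theorem L704388 : sm gd N51662 = N51662 := ded_38_1 (flp_h L704381) (flp_d L683021) L660383 L683021 L704381
theorem L704389 : sm gi N49595 = N51663 := rfl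
theorem L704391 : sm gc N51663 = N49908 := ded_33_1 (flp_i L686145) (flp_c L683026) L704389
theorem L704393 : sm gd N51663 = N49596 := ded_39_1 (flp_i L683028) L683021 L704389
theorem L704395 : sm gf N51663 = N51663 := ded_48_1 (flp_i L704389) L683023 L704389
theorem L704396 : sm gg N51663 = N50469 := ded_51_1 (flp_i L691417) (flp_g L683024) L704389
theorem L704398 : sm gh N49596 = N51664 := rfl
theorem L704400 : sm gc N51664 = N49598 := ded_32_1 (flp_h L683046) (flp_c L683030) L704398
theorem L704402 : sm ge N51664 = N49597 := ded_43_1 (flp_h L683037) (flp_e L683032) L704398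
theorem L704404 : sm gf N51664 = N51664 := ded_47_1 (flp_h L704398) L683034 L704398
theorem L704405 : sm gg N51664 = N50470 := ded_50_1 (flp_h L691425) (flp_g L683035) L704398
theorem L704407 : sm gi N51664 = N51664 := ded_54_2 (flp_h L704398) (flp_i L683028) L660383 L683028 L704398
theorem L704408 : sm gd N49597 = N51665 := rfl
theorem L704410 : sm gf N51665 = N49602 := ded_35_2 (flp_d L683091) (flp_f L683041) L704408
theorem L704412 : sm gg N51665 = N50471 := ded_36_2 (flp_d L691434) (flp_g L683043) L704408
theorem L704414 : sm gi N51665 = N51665 := ded_39_2 (flp_d L704408) L683045 L704408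
theorem L704415 : sm gd N49598 = N51666 := rfl
theorem L704417 : sm ga N51666 = N50731 := ded_12_1 (flp_d L703413) L703405 L704415
theorem L704419 : sm gb N51666 = N49612 := ded_20_1 (flp_d L683195) (flp_b L683048) L704415
theorem L704421 : sm gf N51666 = N51666 := ded_35_2 (flp_d L704415) L683052 L704415
theorem L704422 : sm gg N51666 = N50274 := ded_36_2 L689922 (flp_g L683053) L704415
theorem L704424 : sm gi N51666 = N51666 := ded_39_2 (flp_d L704415) L683055 L704415
theorem L704425 : sm ge N51666 = N50718 := ded_34_2 (flp_d L702502) L702496 L681397 (flp_e L683050) L704415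
theorem L704427 : sm gh N51666 = N49911 := ded_38_2 (flp_d L686179) (flp_h L663264) (flp_d L660397) L683046 L704415
theorem L704429 : sm gd N49599 = N51667 := rfl
theorem L704431 : sm gb N51667 = N50374 := ded_20_1 (flp_d L690739) (flp_b L683058) L704429
theorem L704433 : sm gg N51667 = N50376 := ded_36_2 (flp_d L690758) (flp_g L683063) L704429
theorem L704435 : sm gj N51667 = N49602 := ded_37_2 (flp_d L683091) (flp_j L683065) L704429
theorem L704437 : sm gi N51667 = N51667 := ded_39_2 (flp_d L704429) L683067 L704429
theorem L704438 : sm gh N49600 = N51668 := rfl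
theorem L704440 : sm ga N51668 = N49601 := ded_17_1 (flp_h L683079) (flp_a L683070) L704438
theorem L704442 : sm gc N51668 = N49613 := ded_32_1 (flp_h L683206) (flp_c L683072) L704438
theorem L704444 : sm ge N51668 = N51668 := ded_43_1 (flp_h L704438) L683074 L704438
theorem L704445 : sm gg N51668 = N49603 := ded_50_1 (flp_h L683096) (flp_g L683075) L704438
theorem L704447 : sm gj N51668 = N50340 := ded_52_1 (flp_h L690502) (flp_j L683077) L704438
theorem L704449 : sm gi N51668 = N51668 := ded_54_2 (flp_h L704438) (flp_i L683068) L660443 L683068 L704438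
theorem L704450 : sm gd N49601 = N51669 := rfl
theorem L704452 : sm gb N51669 = N49602 := ded_20_1 (flp_d L683091) (flp_b L683081) L704450
theorem L704454 : sm gg N51669 = N49604 := ded_36_2 (flp_d L683106) (flp_g L683086) L704450
theorem L704456 : sm gj N51669 = N50374 := ded_37_2 (flp_d L690739) (flp_j L683088) L704450
theorem L704458 : sm gi N51669 = N51669 := ded_39_2 (flp_d L704450) L683090 L704450
theorem L704459 : sm gc N51669 = N50473 := ded_27_1 (flp_d L691450) L669344 (flp_d L660603) (flp_c L683083) L704450
theorem L704461 : sm ge N49602 = N51670 := rfl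
theorem L704463 : sm gg N51670 = N49605 := ded_41_2 (flp_e L683113) (flp_g L683093) L704461
theorem L704465 : sm gi N51670 = N51670 := ded_44_2 (flp_e L704461) L683095 L704461
theorem L704466 : sm gd N51670 = N51670 := ded_34_1 (flp_e L704461) (flp_d L683091) L660459 L683091 L704461
theorem L704467 : sm gi N49607 = N51671 := rfl
theorem L704469 : sm ga N51671 = N49609 := ded_18_1 (flp_i L683154) (flp_a L683130) L704467
theorem L704471 : sm gb N51671 = N51671 := ded_26_1 (flp_i L704467) L683132 L704467
theorem L704472 : sm gd N51671 = N49926 := ded_39_1 (flp_i L686365) (flp_d L683138) L704467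
theorem L704474 : sm ge N51671 = N49608 := ded_44_1 (flp_i L683141) L683128 L704467
theorem L704476 : sm gf N51671 = N51671 := ded_48_1 (flp_i L704467) L683140 L704467
theorem L704477 : sm gg N51671 = N50484 := ded_51_1 (flp_i L691532) (flp_g L683133) L704467
theorem L704479 : sm gj N51671 = N49927 := ded_53_1 (flp_i L686377) (flp_j L683135) L704467
theorem L704481 : sm gh N49608 = N51672 := rfl
theorem L704483 : sm ga N51672 = N49610 := ded_17_1 (flp_h L683167) (flp_a L683143) L704481
theorem L704485 : sm gb N51672 = N51672 := ded_25_1 (flp_h L704481) L683145 L704481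
theorem L704486 : sm gf N51672 = N49613 := ded_47_1 (flp_h L683206) (flp_f L683148) L704481
theorem L704488 : sm gg N51672 = N50485 := ded_50_1 (flp_h L691541) (flp_g L683150) L704481
theorem L704490 : sm gj N51672 = N50338 := ded_52_1 (flp_h L690484) (flp_j L683152) L704481
theorem L704492 : sm gd N51672 = N50399 := ded_38_1 (flp_h L690927) L668825 (flp_h L668339) (flp_d L683146) L704481
theorem L704494 : sm gi N51672 = N51672 := ded_54_2 (flp_h L704481) (flp_i L683141) L660519 L683141 L704481
theorem L704495 : sm gh N49609 = N51673 := rfl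
theorem L704497 : sm gb N51673 = N49611 := ded_25_1 (flp_h L683180) (flp_b L683156) L704495
theorem L704499 : sm ge N51673 = N49610 := ded_43_1 (flp_h L683167) (flp_e L683160) L704495
theorem L704501 : sm gf N51673 = N51673 := ded_47_1 (flp_h L704495) L683162 L704495
theorem L704502 : sm gg N51673 = N50487 := ded_50_1 (flp_h L691565) (flp_g L683163) L704495
theorem L704504 : sm gj N51673 = N50373 := ded_52_1 (flp_h L690731) (flp_j L683165) L704495
theorem L704506 : sm gd N51673 = N50277 := ded_38_1 (flp_h L689946) (flp_d L686409) L686418 (flp_d L683158) L704495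
theorem L704508 : sm gi N51673 = N51673 := ded_54_2 (flp_h L704495) (flp_i L683154) L660529 L683154 L704495
theorem L704509 : sm gi N49617 = N51674 := rfl
theorem L704511 : sm ga N51674 = N50482 := ded_18_1 (flp_i L691511) (flp_a L683259) L704509
theorem L704513 : sm gb N51674 = N51674 := ded_26_1 (flp_i L704509) L683261 L704509
theorem L704514 : sm gc N51674 = N49696 := ded_33_1 (flp_i L684122) (flp_c L683262) L704509
theorem L704516 : sm gd N51674 = N50555 := ded_39_1 L692107 (flp_d L683264) L704509
theorem L704518 : sm ge N51674 = N50481 := ded_44_1 (flp_i L691502) (flp_e L683266) L704509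
theorem L704520 : sm gf N51674 = N49620 := ded_48_1 (flp_i L683298) (flp_f L683269) L704509
theorem L704522 : sm gg N51674 = N49618 := ded_51_1 (flp_i L683273) L683257 L704509
theorem L704524 : sm gj N51674 = N50484 := ded_53_1 (flp_i L691532) (flp_j L683271) L704509
theorem L704526 : sm gh N49618 = N51675 := rfl
theorem L704528 : sm gb N51675 = N51675 := ded_25_1 (flp_h L704526) L683275 L704526
theorem L704529 : sm gc N51675 = N49697 := ded_32_1 (flp_h L684130) (flp_c L683276) L704526
theorem L704531 : sm gf N51675 = N49619 := ded_47_1 (flp_h L683284) (flp_f L683280) L704526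
theorem L704533 : sm gj N51675 = N50716 := ded_52_1 (flp_h L693321) (flp_j L683282) L704526
theorem L704535 : sm gd N51675 = N50724 := ded_38_1 (flp_h L693389) L671457 (flp_h L671388) (flp_d L683278) L704526
theorem L704537 : sm gi N51675 = N51675 := ded_54_2 (flp_h L704526) (flp_i L683273) L660742 L683273 L704526
theorem L704538 : sm gh N49620 = N51676 := rfl
theorem L704540 : sm ga N51676 = N50102 := ded_17_1 L688337 (flp_a L683300) L704538
theorem L704542 : sm gb N51676 = N51676 := ded_25_1 (flp_h L704538) L683302 L704538
theorem L704543 : sm gc N51676 = N49700 := ded_32_1 (flp_h L684155) (flp_c L683303) L704538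
theorem L704545 : sm ge N51676 = N49622 := ded_43_1 (flp_h L683328) (flp_e L683307) L704538
theorem L704547 : sm gg N51676 = N49621 := ded_50_1 (flp_h L683313) (flp_g L683309) L704538
theorem L704549 : sm gj N51676 = N50775 := ded_52_1 (flp_h L693788) (flp_j L683311) L704538
theorem L704551 : sm gd N51676 = N50101 := ded_38_1 (flp_h L688320) L666106 L670169 (flp_d L683305) L704538
theorem L704553 : sm gi N51676 = N51676 := ded_54_2 (flp_h L704538) (flp_i L683298) L660776 L683298 L704538
theorem L704554 : sm gd N49622 = N51677 := rfl
theorem L704556 : sm ga N51677 = N50774 := ded_12_1 (flp_d L693778) (flp_a L683330) L704554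
theorem L704558 : sm gb N51677 = N51677 := ded_20_1 (flp_d L704554) L683332 L704554
theorem L704559 : sm gf N51677 = N50779 := ded_35_2 (flp_d L693822) (flp_f L683335) L704554
theorem L704561 : sm gg N51677 = N49623 := ded_36_2 (flp_d L683342) (flp_g L683337) L704554
theorem L704563 : sm gj N51677 = N50776 := ded_37_2 (flp_d L693797) (flp_j L683339) L704554
theorem L704565 : sm gi N51677 = N51677 := ded_39_2 (flp_d L704554) L683341 L704554
theorem L704566 : sm gc N51677 = N50783 := ded_27_1 L694590 L694581 L677107 (flp_c L683333) L704554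
theorem L704568 : sm gh N51677 = N51677 := ded_38_2 (flp_d L704554) (flp_h L683328) L660809 L683328 L704554
theorem L704569 : sm gd N49624 = N51678 := rfl
theorem L704571 : sm ga N51678 = N50236 := ded_12_1 L689614 (flp_a L683352) L704569
theorem L704573 : sm gb N51678 = N49634 := ded_20_1 (flp_d L683472) (flp_b L683354) L704569
theorem L704575 : sm gf N51678 = N49627 := ded_35_2 (flp_d L683386) (flp_f L683357) L704569
theorem L704577 : sm gj N51678 = N49625 := ded_37_2 (flp_d L683361) (flp_j L683359) L704569
theorem L704579 : sm gh N51678 = N50515 := ded_38_2 L691783 L670002 (flp_d L660855) L683350 L704569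
theorem L704581 : sm gi N49624 = N51679 := rfl
theorem L704583 : sm ga N51679 = N50252 := ded_18_1 (flp_i L689742) (flp_a L683352) L704581
theorem L704585 : sm gb N51679 = N49635 := ded_26_1 (flp_i L683484) (flp_b L683354) L704581
theorem L704587 : sm gc N51679 = N51679 := ded_33_1 (flp_i L704581) L683356 L704581
theorem L704588 : sm gf N51679 = N49628 := ded_48_1 (flp_i L683397) (flp_f L683357) L704581
theorem L704590 : sm gj N51679 = N49626 := ded_53_1 (flp_i L683373) (flp_j L683359) L704581
theorem L704592 : sm gh N51679 = N49720 := ded_54_1 (flp_i L684404) (flp_h L661928) (flp_i L660859) L683350 L704581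
theorem L704594 : sm gc N49625 = N51680 := rfl
theorem L704596 : sm ga N51680 = N50232 := ded_11_1 L689584 (flp_a L683363) L704594
theorem L704598 : sm gf N51680 = N49629 := ded_29_2 (flp_c L683411) (flp_f L683367) L704594
theorem L704600 : sm gg N51680 = N50136 := ded_30_2 L688669 (flp_g L683369) L704594
theorem L704602 : sm gh N51680 = N50070 := ded_32_2 L687999 (flp_h L683371) L704594
theorem L704604 : sm gb N51680 = N49965 := ded_19_1 L686853 L665712 (flp_c L660975) (flp_b L683365) L704594
theorem L704606 : sm gd N51680 = N51680 := ded_27_2 (flp_c L704594) (flp_d L683361) L660867 L683361 L704594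
theorem L704607 : sm ge N49625 = N51681 := rfl
theorem L704609 : sm ga N51681 = N50216 := ded_13_1 L689438 (flp_a L683363) L704607
theorem L704611 : sm gb N51681 = N49636 := ded_21_1 (flp_e L683496) (flp_b L683365) L704607
theorem L704613 : sm gg N51681 = N50126 := ded_41_2 L688577 (flp_g L683369) L704607
theorem L704615 : sm gh N51681 = N50521 := ded_43_2 (flp_e L691827) (flp_h L683371) L704607
theorem L704617 : sm gi N49625 = N51682 := rfl
theorem L704619 : sm ga N51682 = N50237 := ded_18_1 (flp_i L689618) (flp_a L683363) L704617
theorem L704621 : sm gb N51682 = N49637 := ded_26_1 (flp_i L683506) (flp_b L683365) L704617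
theorem L704623 : sm gd N51682 = N49626 := ded_39_1 (flp_i L683373) L683361 L704617
theorem L704625 : sm gf N51682 = N49630 := ded_48_1 (flp_i L683424) (flp_f L683367) L704617
theorem L704627 : sm gg N51682 = N50139 := ded_51_1 (flp_i L688691) (flp_g L683369) L704617
theorem L704629 : sm gc N49627 = N51683 := rfl
theorem L704631 : sm ga N51683 = N50245 := ded_11_1 L689700 (flp_a L683388) L704629
theorem L704633 : sm ge N51683 = N49963 := ded_28_2 (flp_c L698292) L698296 L704629
theorem L704635 : sm gg N51683 = N51683 := ded_30_2 (flp_c L704629) L683392 L704629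
theorem L704636 : sm gj N51683 = N49629 := ded_31_2 (flp_c L683411) (flp_j L683393) L704629
theorem L704638 : sm gh N51683 = N50075 := ded_32_2 L688048 (flp_h L683395) L704629
theorem L704640 : sm gb N51683 = N49964 := ded_19_1 L686841 L665733 (flp_c L660998) (flp_b L683390) L704629
theorem L704642 : sm gd N51683 = N51683 := ded_27_2 (flp_c L704629) (flp_d L683386) L660878 L683386 L704629
theorem L704643 : sm gi N49627 = N51684 := rfl
theorem L704645 : sm ga N51684 = N50250 := ded_18_1 (flp_i L689727) (flp_a L683388) L704643
theorem L704647 : sm gb N51684 = N49639 := ded_26_1 (flp_i L683531) (flp_b L683390) L704643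
theorem L704649 : sm gd N51684 = N49628 := ded_39_1 (flp_i L683397) L683386 L704643
theorem L704651 : sm gg N51684 = N51684 := ded_51_1 (flp_i L704643) L683392 L704643
theorem L704652 : sm gj N51684 = N49630 := ded_53_1 (flp_i L683424) (flp_j L683393) L704643
theorem L704654 : sm gi N49629 = N51685 := rfl
theorem L704656 : sm ga N51685 = N50246 := ded_18_1 (flp_i L689704) (flp_a L683413) L704654
theorem L704658 : sm gb N51685 = N49917 := ded_26_1 L686256 (flp_b L683421) L704654
theorem L704660 : sm gc N51685 = N49630 := ded_33_1 (flp_i L683424) L683411 L704654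
theorem L704662 : sm gd N51685 = N51685 := ded_39_1 (flp_i L704654) L683423 L704654
theorem L704663 : sm ge N51685 = N49916 := ded_44_1 L686246 (flp_e L683415) L704654
theorem L704665 : sm gg N51685 = N49631 := ded_51_1 (flp_i L683434) (flp_g L683417) L704654
theorem L704667 : sm gh N49630 = N51686 := rfl
theorem L704669 : sm ga N51686 = N50251 := ded_17_1 (flp_h L689736) (flp_a L683426) L704667
theorem L704671 : sm gb N51686 = N49642 := ded_25_1 (flp_h L683564) (flp_b L683428) L704667
theorem L704673 : sm gg N51686 = N49632 := ded_50_1 (flp_h L683448) (flp_g L683432) L704667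
theorem L704675 : sm gd N51686 = N49727 := ded_38_1 (flp_h L684462) L661980 (flp_h L660905) (flp_d L683430) L704667
theorem L704677 : sm gi N51686 = N50539 := ded_54_2 (flp_h L691962) (flp_i L669897) (flp_h L660892) L683424 L704667
theorem L704679 : sm gh N49631 = N51687 := rfl
theorem L704681 : sm ga N51687 = N50247 := ded_17_1 (flp_h L689711) (flp_a L683436) L704679
theorem L704683 : sm gb N51687 = N49873 := ded_25_1 L685814 (flp_b L683438) L704679
theorem L704685 : sm gc N51687 = N49632 := ded_32_1 (flp_h L683448) (flp_c L683440) L704679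
theorem L704687 : sm ge N51687 = N49868 := ded_43_1 L685775 (flp_e L683443) L704679
theorem L704689 : sm gf N51687 = N50142 := ded_47_1 (flp_h L688720) (flp_f L683445) L704679
theorem L704691 : sm gj N51687 = N51687 := ded_52_1 (flp_h L704679) L683447 L704679
theorem L704692 : sm gi N51687 = N50082 := ded_54_2 (flp_h L688127) (flp_i L665904) (flp_h L660916) L683434 L704679
theorem L704694 : sm gd N49633 = N51688 := rfl
theorem L704696 : sm ga N51688 = N49664 := ded_12_1 (flp_d L683799) (flp_a L683463) L704694
theorem L704698 : sm gf N51688 = N51688 := ded_35_2 (flp_d L704694) L683467 L704694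
theorem L704699 : sm gg N51688 = N49634 := ded_36_2 (flp_d L683472) (flp_g L683468) L704694
theorem L704701 : sm gj N51688 = N50492 := ded_37_2 (flp_d L691606) (flp_j L683470) L704694
theorem L704703 : sm gc N51688 = N50501 := ded_27_1 (flp_d L691673) L669682 (flp_d L661120) (flp_c L683465) L704694
theorem L704705 : sm gh N51688 = N50512 := ded_38_2 L691768 L669985 (flp_d L660950) L683461 L704694
theorem L704707 : sm gi N49633 = N51689 := rfl
theorem L704709 : sm ga N51689 = N49665 := ded_18_1 (flp_i L683806) (flp_a L683463) L704707
theorem L704711 : sm gc N51689 = N49649 := ded_33_1 (flp_i L683631) (flp_c L683465) L704707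
theorem L704713 : sm gf N51689 = N51689 := ded_48_1 (flp_i L704707) L683467 L704707
theorem L704714 : sm gg N51689 = N49635 := ded_51_1 (flp_i L683484) (flp_g L683468) L704707
theorem L704716 : sm gj N51689 = N50493 := ded_53_1 (flp_i L691613) (flp_j L683470) L704707
theorem L704718 : sm gh N51689 = N49744 := ded_54_1 (flp_i L684646) (flp_h L662143) (flp_i L660952) L683461 L704707
theorem L704720 : sm ge N49634 = N51690 := rfl
theorem L704722 : sm ga N51690 = N49667 := ded_13_1 (flp_e L683831) (flp_a L683474) L704720
theorem L704724 : sm gc N51690 = N50503 := ded_28_1 (flp_e L691689) (flp_c L683480) L704720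
theorem L704726 : sm gj N51690 = N49636 := ded_42_2 (flp_e L683496) (flp_j L683478) L704720
theorem L704728 : sm gh N51690 = N50516 := ded_43_2 (flp_e L691789) (flp_h L683482) L704720
theorem L704730 : sm gi N49634 = N51691 := rfl
theorem L704732 : sm ga N51691 = N49668 := ded_18_1 (flp_i L683835) (flp_a L683474) L704730
theorem L704734 : sm gc N51691 = N50504 := ded_33_1 (flp_i L691695) (flp_c L683480) L704730
theorem L704736 : sm gd N51691 = N49635 := ded_39_1 (flp_i L683484) L683472 L704730
theorem L704738 : sm gf N51691 = N49639 := ded_48_1 (flp_i L683531) (flp_f L683476) L704730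
theorem L704740 : sm gj N51691 = N49637 := ded_53_1 (flp_i L683506) (flp_j L683478) L704730
theorem L704742 : sm gf N49636 = N51692 := rfl
theorem L704744 : sm ga N51692 = N49672 := ded_14_1 (flp_f L683879) (flp_a L683498) L704742
theorem L704746 : sm gc N51692 = N50505 := ded_29_1 (flp_f L691703) (flp_c L683500) L704742
theorem L704748 : sm gh N51692 = N50524 := ded_47_2 (flp_f L691843) (flp_h L683504) L704742
theorem L704750 : sm ge N51692 = N49640 := ded_40_1 (flp_f L683542) (flp_e L661015) (flp_f L660971) L683496 L704742
theorem L704752 : sm gi N49636 = N51693 := rfl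
theorem L704754 : sm ga N51693 = N49673 := ded_18_1 (flp_i L683883) (flp_a L683498) L704752
theorem L704756 : sm gc N51693 = N50506 := ded_33_1 (flp_i L691711) (flp_c L683500) L704752
theorem L704758 : sm ge N51693 = N49637 := ded_44_1 (flp_i L683506) L683496 L704752
theorem L704760 : sm gg N51693 = N50496 := ded_51_1 (flp_i L691640) (flp_g L683502) L704752
theorem L704762 : sm gh N49637 = N51694 := rfl
theorem L704764 : sm ga N51694 = N49674 := ded_17_1 (flp_h L683889) (flp_a L683508) L704762
theorem L704766 : sm gc N51694 = N50507 := ded_32_1 (flp_h L691715) (flp_c L683510) L704762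
theorem L704768 : sm gf N51694 = N49642 := ded_47_1 (flp_h L683564) (flp_f L683514) L704762
theorem L704770 : sm gg N51694 = N50497 := ded_50_1 (flp_h L691646) (flp_g L683516) L704762
theorem L704772 : sm gd N51694 = N49753 := ded_38_1 (flp_h L684735) L662194 (flp_h L660989) (flp_d L683512) L704762
theorem L704774 : sm gi N51694 = N50526 := ded_54_2 (flp_h L691855) (flp_i L669814) (flp_h L660977) L683506 L704762
theorem L704776 : sm gi N49638 = N51695 := rfl
theorem L704778 : sm ga N51695 = N49677 := ded_18_1 (flp_i L683920) (flp_a L683520) L704776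
theorem L704780 : sm gc N51695 = N50508 := ded_33_1 (flp_i L691723) (flp_c L683522) L704776
theorem L704782 : sm gd N51695 = N49644 := ded_39_1 (flp_i L683587) (flp_d L683529) L704776
theorem L704784 : sm ge N51695 = N49639 := ded_44_1 (flp_i L683531) L683518 L704776
theorem L704786 : sm gg N51695 = N51695 := ded_51_1 (flp_i L704776) L683524 L704776
theorem L704787 : sm gj N51695 = N49641 := ded_53_1 (flp_i L683552) (flp_j L683525) L704776
theorem L704789 : sm gh N49639 = N51696 := rfl
theorem L704791 : sm ga N51696 = N49678 := ded_17_1 (flp_h L683931) (flp_a L683533) L704789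
theorem L704793 : sm gc N51696 = N50509 := ded_32_1 (flp_h L691736) (flp_c L683535) L704789
theorem L704795 : sm gg N51696 = N51696 := ded_50_1 (flp_h L704789) L683539 L704789
theorem L704796 : sm gj N51696 = N49642 := ded_52_1 (flp_h L683564) (flp_j L683540) L704789
theorem L704798 : sm gd N51696 = N49758 := ded_38_1 (flp_h L684789) L662226 (flp_h L661013) (flp_d L683537) L704789
theorem L704800 : sm gi N51696 = N50533 := ded_54_2 (flp_h L691909) (flp_i L669853) (flp_h L661000) L683531 L704789
theorem L704802 : sm gi N49640 = N51697 := rfl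
theorem L704804 : sm ga N51697 = N49684 := ded_18_1 (flp_i L684002) (flp_a L683544) L704802
theorem L704806 : sm gc N51697 = N50510 := ded_33_1 (flp_i L691745) (flp_c L683546) L704802
theorem L704808 : sm gd N51697 = N49646 := ded_39_1 (flp_i L683608) (flp_d L683548) L704802
theorem L704810 : sm gf N51697 = N49641 := ded_48_1 (flp_i L683552) L683542 L704802
theorem L704812 : sm gh N49641 = N51698 := rfl
theorem L704814 : sm ga N51698 = N49685 := ded_17_1 (flp_h L684008) (flp_a L683554) L704812
theorem L704816 : sm gc N51698 = N50511 := ded_32_1 (flp_h L691753) (flp_c L683556) L704812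
theorem L704818 : sm ge N51698 = N49642 := ded_43_1 (flp_h L683564) (flp_e L683560) L704812
theorem L704820 : sm gg N51698 = N49643 := ded_50_1 (flp_h L683576) (flp_g L683562) L704812
theorem L704822 : sm gi N51698 = N50541 := ded_54_2 (flp_h L691975) (flp_i L669910) (flp_h L661023) L683552 L704812
theorem L704824 : sm gd N49643 = N51699 := rfl
theorem L704826 : sm ga N51699 = N49691 := ded_12_1 (flp_d L684074) (flp_a L683578) L704824
theorem L704828 : sm gj N51699 = N51699 := ded_37_2 (flp_d L704824) L683584 L704824
theorem L704829 : sm gi N51699 = N50544 := ded_39_2 (flp_d L691998) (flp_i L683585) L704824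
theorem L704831 : sm ge N51699 = N49767 := ded_34_2 (flp_d L684876) L662320 (flp_d L661057) (flp_e L683582) L704824
theorem L704833 : sm gh N51699 = N49648 := ded_38_2 (flp_d L683623) (flp_h L661102) (flp_d L661043) L683576 L704824
theorem L704835 : sm gh N49644 = N51700 := rfl
theorem L704837 : sm ga N51700 = N49694 := ded_17_1 (flp_h L684099) (flp_a L683589) L704835
theorem L704839 : sm gc N51700 = N50843 := ded_32_1 (flp_h L694367) (flp_c L683591) L704835
theorem L704841 : sm ge N51700 = N49645 := ded_43_1 (flp_h L683598) (flp_e L683593) L704835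
theorem L704843 : sm gg N51700 = N51700 := ded_50_1 (flp_h L704835) L683595 L704835
theorem L704844 : sm gj N51700 = N49647 := ded_52_1 (flp_h L683614) (flp_j L683596) L704835
theorem L704846 : sm gi N51700 = N51700 := ded_54_2 (flp_h L704835) (flp_i L683587) L661070 L683587 L704835
theorem L704847 : sm gh N49646 = N51701 := rfl
theorem L704849 : sm ga N51701 = N49697 := ded_17_1 (flp_h L684130) (flp_a L683610) L704847
theorem L704851 : sm gf N51701 = N49647 := ded_47_1 (flp_h L683614) (flp_f L683612) L704847
theorem L704853 : sm gi N51701 = N51701 := ded_54_2 (flp_h L704847) (flp_i L683608) L661084 L683608 L704847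
theorem L704854 : sm gd N49647 = N51702 := rfl
theorem L704856 : sm ga N51702 = N49698 := ded_12_1 (flp_d L684135) (flp_a L683616) L704854
theorem L704858 : sm gg N51702 = N49648 := ded_36_2 (flp_d L683623) (flp_g L683620) L704854
theorem L704860 : sm gi N51702 = N51702 := ded_39_2 (flp_d L704854) L683622 L704854
theorem L704861 : sm ge N51702 = N49772 := ded_34_2 (flp_d L684918) L662362 (flp_d L661099) (flp_e L683618) L704854
theorem L704863 : sm gd N49650 = N51703 := rfl
theorem L704865 : sm ga N51703 = N50548 := ded_12_1 (flp_d L692027) (flp_a L683647) L704863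
theorem L704867 : sm gf N51703 = N51703 := ded_35_2 (flp_d L704863) L683653 L704863
theorem L704868 : sm gj N51703 = N49651 := ded_37_2 (flp_d L683656) (flp_j L683654) L704863
theorem L704870 : sm gi N49650 = N51704 := rfl
theorem L704872 : sm ga N51704 = N50549 := ded_18_1 (flp_i L692032) (flp_a L683647) L704870
theorem L704874 : sm gc N51704 = N49926 := ded_33_1 (flp_i L686365) (flp_c L683649) L704870
theorem L704876 : sm ge N51704 = N49655 := ded_44_1 (flp_i L683699) (flp_e L683651) L704870
theorem L704878 : sm gf N51704 = N51704 := ded_48_1 (flp_i L704870) L683653 L704870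
theorem L704879 : sm gj N51704 = N49652 := ded_53_1 (flp_i L683663) (flp_j L683654) L704870
theorem L704881 : sm gh N51704 = N49788 := ded_54_1 (flp_i L685104) (flp_h L662543) (flp_i L661144) L683645 L704870
theorem L704883 : sm gc N49651 = N51705 := rfl
theorem L704885 : sm ga N51705 = N50370 := ded_11_1 L690715 (flp_a L683658) L704883
theorem L704887 : sm gf N51705 = N51705 := ded_29_2 (flp_c L704883) L683660 L704883
theorem L704888 : sm gg N51705 = N49676 := ded_30_2 L683914 (flp_g L683661) L704883
theorem L704890 : sm gd N51705 = N49692 := ded_27_2 L684085 (flp_d L663643) (flp_c L661150) L683656 L704883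
theorem L704892 : sm ge N49651 = N51706 := rfl
theorem L704894 : sm ga N51706 = N50523 := ded_13_1 L691841 (flp_a L683658) L704892
theorem L704896 : sm gg N51706 = N50499 := ded_41_2 (flp_e L691663) (flp_g L683661) L704892
theorem L704898 : sm gd N51706 = N49656 := ded_34_1 (flp_e L683711) (flp_d L661180) (flp_e L661152) L683656 L704892
theorem L704900 : sm gi N49651 = N51707 := rfl
theorem L704902 : sm ga N51707 = N50553 := ded_18_1 (flp_i L692079) (flp_a L683658) L704900
theorem L704904 : sm gd N51707 = N49652 := ded_39_1 (flp_i L683663) L683656 L704900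
theorem L704906 : sm gf N51707 = N51707 := ded_48_1 (flp_i L704900) L683660 L704900
theorem L704907 : sm gg N51707 = N50500 := ded_51_1 (flp_i L691667) (flp_g L683661) L704900
theorem L704909 : sm gd N49653 = N51708 := rfl
theorem L704911 : sm ga N51708 = N50512 := ded_12_1 L691768 (flp_a L683678) L704909
theorem L704913 : sm gf N51708 = N51708 := ded_35_2 (flp_d L704909) L683682 L704909
theorem L704914 : sm gg N51708 = N49654 := ded_36_2 (flp_d L683687) (flp_g L683683) L704909
theorem L704916 : sm gj N51708 = N50501 := ded_37_2 (flp_d L691673) (flp_j L683685) L704909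
theorem L704918 : sm gc N51708 = N50492 := ded_27_1 (flp_d L691606) L669602 (flp_d L663676) (flp_c L683680) L704909
theorem L704920 : sm gh N51708 = N49664 := ded_38_2 (flp_d L683799) (flp_h L661271) (flp_d L661163) L683676 L704909
theorem L704922 : sm gi N49653 = N51709 := rfl
theorem L704924 : sm ga N51709 = N50546 := ded_18_1 (flp_i L692010) (flp_a L683678) L704922
theorem L704926 : sm gc N51709 = N49928 := ded_33_1 (flp_i L686389) (flp_c L683680) L704922
theorem L704928 : sm gf N51709 = N51709 := ded_48_1 (flp_i L704922) L683682 L704922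
theorem L704929 : sm gg N51709 = N49655 := ded_51_1 (flp_i L683699) (flp_g L683683) L704922
theorem L704931 : sm gj N51709 = N50502 := ded_53_1 (flp_i L691680) (flp_j L683685) L704922
theorem L704933 : sm gh N51709 = N49793 := ded_54_1 (flp_i L685142) (flp_h L662566) (flp_i L661165) L683676 L704922
theorem L704935 : sm ge N49654 = N51710 := rfl
theorem L704937 : sm ga N51710 = N50516 := ded_13_1 (flp_e L691789) (flp_a L683689) L704935
theorem L704939 : sm gc N51710 = N50494 := ded_28_1 (flp_e L691624) (flp_c L683695) L704935
theorem L704941 : sm gj N51710 = N49656 := ded_42_2 (flp_e L683711) (flp_j L683693) L704935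
theorem L704943 : sm gh N51710 = N49667 := ded_43_2 (flp_e L683831) (flp_h L683697) L704935
theorem L704945 : sm gi N49654 = N51711 := rfl
theorem L704947 : sm ga N51711 = N50517 := ded_18_1 (flp_i L691795) (flp_a L683689) L704945
theorem L704949 : sm gc N51711 = N50495 := ded_33_1 (flp_i L691630) (flp_c L683695) L704945
theorem L704951 : sm gd N51711 = N49655 := ded_39_1 (flp_i L683699) L683687 L704945
theorem L704953 : sm gf N51711 = N49659 := ded_48_1 (flp_i L683745) (flp_f L683691) L704945
theorem L704955 : sm gj N51711 = N49657 := ded_53_1 (flp_i L683721) (flp_j L683693) L704945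
theorem L704957 : sm gf N49656 = N51712 := rfl
theorem L704959 : sm ga N51712 = N50524 := ded_14_1 (flp_f L691843) (flp_a L683713) L704957
theorem L704961 : sm gc N51712 = N50106 := ded_29_1 L688390 (flp_c L683715) L704957
theorem L704963 : sm gh N51712 = N49672 := ded_47_2 (flp_f L683879) (flp_h L683719) L704957
theorem L704965 : sm ge N51712 = N49660 := ded_40_1 (flp_f L683756) (flp_e L661227) (flp_f L661184) L683711 L704957
theorem L704967 : sm gi N49656 = N51713 := rfl
theorem L704969 : sm ga N51713 = N50525 := ded_18_1 (flp_i L691849) (flp_a L683713) L704967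
theorem L704971 : sm gc N51713 = N50496 := ded_33_1 (flp_i L691640) (flp_c L683715) L704967
theorem L704973 : sm ge N51713 = N49657 := ded_44_1 (flp_i L683721) L683711 L704967
theorem L704975 : sm gg N51713 = N50506 := ded_51_1 (flp_i L691711) (flp_g L683717) L704967
theorem L704977 : sm gh N49657 = N51714 := rfl
theorem L704979 : sm ga N51714 = N50526 := ded_17_1 (flp_h L691855) (flp_a L683723) L704977
theorem L704981 : sm gc N51714 = N50497 := ded_32_1 (flp_h L691646) (flp_c L683725) L704977
theorem L704983 : sm gf N51714 = N49662 := ded_47_1 (flp_h L683776) (flp_f L683729) L704977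
theorem L704985 : sm gg N51714 = N50507 := ded_50_1 (flp_h L691715) (flp_g L683731) L704977
theorem L704987 : sm gd N51714 = N49802 := ded_38_1 (flp_h L685221) L662611 (flp_h L661202) (flp_d L683727) L704977
theorem L704989 : sm gi N51714 = N49674 := ded_54_2 (flp_h L683889) (flp_i L661312) (flp_h L661190) L683721 L704977
theorem L704991 : sm gf N49658 = N51715 := rfl
theorem L704993 : sm ga N51715 = N50531 := ded_14_1 (flp_f L691892) (flp_a L683735) L704991
theorem L704995 : sm gc N51715 = N50104 := ded_29_1 L688363 (flp_c L683737) L704991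
theorem L704997 : sm gd N51715 = N51715 := ded_35_1 (flp_f L704991) L683744 L704991
theorem L704998 : sm gj N51715 = N49660 := ded_46_2 (flp_f L683756) (flp_j L683740) L704991
theorem L705000 : sm gh N51715 = N49676 := ded_47_2 (flp_f L683912) (flp_h L683742) L704991
theorem L705002 : sm gi N49658 = N51716 := rfl
theorem L705004 : sm ga N51716 = N50532 := ded_18_1 (flp_i L691899) (flp_a L683735) L705002
theorem L705006 : sm gc N51716 = N50108 := ded_33_1 (flp_i L688402) (flp_c L683737) L705002
theorem L705008 : sm gd N51716 = N51716 := ded_39_1 (flp_i L705002) L683744 L705002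
theorem L705009 : sm ge N51716 = N49659 := ded_44_1 (flp_i L683745) L683733 L705002
theorem L705011 : sm gg N51716 = N51716 := ded_51_1 (flp_i L705002) L683739 L705002
theorem L705012 : sm gj N51716 = N49661 := ded_53_1 (flp_i L683765) (flp_j L683740) L705002
theorem L705014 : sm gh N49659 = N51717 := rfl
theorem L705016 : sm ga N51717 = N50533 := ded_17_1 (flp_h L691909) (flp_a L683747) L705014
theorem L705018 : sm gc N51717 = N50498 := ded_32_1 (flp_h L691654) (flp_c L683749) L705014
theorem L705020 : sm gg N51717 = N51717 := ded_50_1 (flp_h L705014) L683753 L705014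
theorem L705021 : sm gj N51717 = N49662 := ded_52_1 (flp_h L683776) (flp_j L683754) L705014
theorem L705023 : sm gd N51717 = N49808 := ded_38_1 (flp_h L685279) L662638 (flp_h L661225) (flp_d L683751) L705014
theorem L705025 : sm gi N51717 = N49678 := ded_54_2 (flp_h L683931) (flp_i L661344) (flp_h L661213) L683745 L705014
theorem L705027 : sm gi N49660 = N51718 := rfl
theorem L705029 : sm ga N51718 = N50540 := ded_18_1 (flp_i L691968) (flp_a L683758) L705027
theorem L705031 : sm gc N51718 = N50107 := ded_33_1 (flp_i L688392) (flp_c L683760) L705027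
theorem L705033 : sm gd N51718 = N51718 := ded_39_1 (flp_i L705027) L683762 L705027
theorem L705034 : sm gf N51718 = N49661 := ded_48_1 (flp_i L683765) L683756 L705027
theorem L705036 : sm gh N49661 = N51719 := rfl
theorem L705038 : sm ga N51719 = N50541 := ded_17_1 (flp_h L691975) (flp_a L683767) L705036
theorem L705040 : sm gc N51719 = N50109 := ded_32_1 (flp_h L688415) (flp_c L683769) L705036
theorem L705042 : sm ge N51719 = N49662 := ded_43_1 (flp_h L683776) (flp_e L683772) L705036
theorem L705044 : sm gg N51719 = N49663 := ded_50_1 (flp_h L683788) (flp_g L683774) L705036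
theorem L705046 : sm gi N51719 = N49685 := ded_54_2 (flp_h L684008) (flp_i L661395) (flp_h L661235) L683765 L705036
theorem L705048 : sm gd N49663 = N51720 := rfl
theorem L705050 : sm ga N51720 = N50544 := ded_12_1 (flp_d L691998) (flp_a L683790) L705048
theorem L705052 : sm gj N51720 = N51720 := ded_37_2 (flp_d L705048) L683796 L705048
theorem L705053 : sm gi N51720 = N49691 := ded_39_2 (flp_d L684074) (flp_i L683797) L705048
theorem L705055 : sm gc N51720 = N50248 := ded_27_1 (flp_d L689718) L667238 (flp_d L666267) (flp_c L683792) L705048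
theorem L705057 : sm ge N51720 = N49823 := ded_34_2 (flp_d L685423) L662756 (flp_d L661267) (flp_e L683794) L705048
theorem L705059 : sm gh N51720 = N51720 := ded_38_2 (flp_d L705048) (flp_h L683788) L661254 L683788 L705048
theorem L705060 : sm gc N49664 = N51721 := rfl
theorem L705062 : sm ga N51721 = N50501 := ded_11_1 (flp_c L704703) L704696 L705060
theorem L705064 : sm gf N51721 = N51721 := ded_29_2 (flp_c L705060) L683801 L705060
theorem L705065 : sm gg N51721 = N49666 := ded_30_2 (flp_c L683817) (flp_g L683802) L705060
theorem L705067 : sm gj N51721 = N50512 := ded_31_2 (flp_c L691763) (flp_j L683804) L705060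
theorem L705069 : sm gh N51721 = N50492 := ded_32_2 (flp_c L704918) L704920 L705060
theorem L705071 : sm gd N51721 = N49704 := ded_27_2 (flp_c L684192) (flp_d L661572) (flp_c L661273) L683799 L705060
theorem L705073 : sm gb N49730 = N51721 := ded_10_0 L705062 (flp_b L697917) L697915 L677201 (flp_a L684492)
theorem L705075 : sm ge N49664 = N51722 := rfl
theorem L705077 : sm gg N51722 = N49667 := ded_41_2 (flp_e L683831) (flp_g L683802) L705075
theorem L705079 : sm gj N51722 = N50513 := ded_42_2 (flp_e L691770) (flp_j L683804) L705075
theorem L705081 : sm gi N49664 = N51723 := rfl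
theorem L705083 : sm gd N51723 = N49665 := ded_39_1 (flp_i L683806) L683799 L705081
theorem L705085 : sm gf N51723 = N51723 := ded_48_1 (flp_i L705081) L683801 L705081
theorem L705086 : sm gg N51723 = N49668 := ded_51_1 (flp_i L683835) (flp_g L683802) L705081
theorem L705088 : sm gj N51723 = N50514 := ded_53_1 (flp_i L691774) (flp_j L683804) L705081
theorem L705090 : sm ge N49666 = N51724 := rfl
theorem L705092 : sm ga N51724 = N50503 := ded_13_1 (flp_e L691689) (flp_a L683819) L705090
theorem L705094 : sm gb N51724 = N50558 := ded_21_1 (flp_e L692130) (flp_b L683829) L705090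
theorem L705096 : sm gc N51724 = N49667 := ded_28_1 (flp_e L683831) L683817 L705090
theorem L705098 : sm gj N51724 = N49670 := ded_42_2 (flp_e L683857) (flp_j L683823) L705090
theorem L705100 : sm gh N51724 = N50494 := ded_43_2 (flp_e L691624) (flp_h L683825) L705090
theorem L705102 : sm gd N51724 = N50505 := ded_34_1 L691709 L669739 L661610 (flp_d L683827) L705090
theorem L705104 : sm gf N51724 = N50499 := ded_40_2 (flp_e L691663) L669668 L661333 (flp_f L683821) L705090
theorem L705106 : sm gi N49666 = N51725 := rfl
theorem L705108 : sm ga N51725 = N50504 := ded_18_1 (flp_i L691695) (flp_a L683819) L705106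
theorem L705110 : sm gb N51725 = N50559 := ded_26_1 (flp_i L692136) (flp_b L683829) L705106
theorem L705112 : sm gc N51725 = N49668 := ded_33_1 (flp_i L683835) L683817 L705106
theorem L705114 : sm gd N51725 = N49706 := ded_39_1 (flp_i L684224) (flp_d L683827) L705106
theorem L705116 : sm gf N51725 = N49675 := ded_48_1 (flp_i L683897) (flp_f L683821) L705106
theorem L705118 : sm gj N51725 = N49671 := ded_53_1 (flp_i L683867) (flp_j L683823) L705106
theorem L705120 : sm gf N49667 = N51726 := rfl
theorem L705122 : sm gc N51726 = N50499 := ded_29_1 (flp_f L705104) L705096 L705120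
theorem L705124 : sm gj N51726 = N49672 := ded_46_2 (flp_f L683879) (flp_j L683833) L705120
theorem L705126 : sm ge N51726 = N49676 := ded_40_1 (flp_f L683912) (flp_e L661335) (flp_f L661282) L683831 L705120
theorem L705128 : sm gi N49667 = N51727 := rfl
theorem L705130 : sm ge N51727 = N49668 := ded_44_1 (flp_i L683835) L683831 L705128
theorem L705132 : sm gj N51727 = N49673 := ded_53_1 (flp_i L683883) (flp_j L683833) L705128
theorem L705134 : sm gh N49668 = N51728 := rfl
theorem L705136 : sm gf N51728 = N49678 := ded_47_1 (flp_h L683931) (flp_f L683839) L705134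
theorem L705138 : sm gj N51728 = N49674 := ded_52_1 (flp_h L683889) (flp_j L683841) L705134
theorem L705140 : sm gd N51728 = N49832 := ded_38_1 (flp_h L685489) L662791 (flp_h L661294) (flp_d L683837) L705134
theorem L705142 : sm ge N49669 = N51729 := rfl
theorem L705144 : sm ga N51729 = N50179 := ded_13_1 L689103 (flp_a L683855) L705142
theorem L705146 : sm gb N51729 = N49670 := ded_21_1 (flp_e L683857) L683843 L705142
theorem L705148 : sm gg N51729 = N50521 := ded_41_2 (flp_e L691827) (flp_g L683849) L705142
theorem L705150 : sm gj N51729 = N50558 := ded_42_2 (flp_e L692130) (flp_j L683851) L705142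
theorem L705152 : sm gh N51729 = N50126 := ded_43_2 L688577 (flp_h L683853) L705142
theorem L705154 : sm gd N51729 = N50560 := ded_34_1 (flp_e L692144) (flp_d L670228) L661656 (flp_d L683845) L705142
theorem L705156 : sm gf N51729 = N50111 := ded_40_2 (flp_e L688436) L666273 L661363 (flp_f L683847) L705142
theorem L705158 : sm gi N49669 = N51730 := rfl
theorem L705160 : sm ga N51730 = N50191 := ded_18_1 (flp_i L689219) (flp_a L683855) L705158
theorem L705162 : sm gb N51730 = N49671 := ded_26_1 (flp_i L683867) L683843 L705158
theorem L705164 : sm gd N51730 = N49708 := ded_39_1 (flp_i L684258) (flp_d L683845) L705158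
theorem L705166 : sm gf N51730 = N49679 := ded_48_1 (flp_i L683938) (flp_f L683847) L705158
theorem L705168 : sm gg N51730 = N50522 := ded_51_1 (flp_i L691831) (flp_g L683849) L705158
theorem L705170 : sm gj N51730 = N50559 := ded_53_1 (flp_i L692136) (flp_j L683851) L705158
theorem L705172 : sm gd N49670 = N51731 := rfl
theorem L705174 : sm ga N51731 = N50499 := ded_12_1 L691665 (flp_a L683859) L705172
theorem L705176 : sm gb N51731 = N50560 := ded_20_1 (flp_d L705154) L705146 L705172
theorem L705178 : sm gg N51731 = N50523 := ded_36_2 (flp_d L691839) (flp_g L683863) L705172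
theorem L705180 : sm gj N51731 = N50505 := ded_37_2 (flp_d L705102) L705098 L705172
theorem L705182 : sm ge N51731 = N49709 := ded_34_2 (flp_d L684276) (flp_e L661658) (flp_d L661306) L683857 L705172
theorem L705184 : sm gf N50503 = N51731 := ded_14_0 L705174 (flp_f L705104) L705092
theorem L705186 : sm gh N50518 = N51731 := ded_25_0 L705176 L692150 (flp_b L691807)
theorem L705188 : sm gf N49670 = N51732 := rfl
theorem L705190 : sm ga N51732 = N50505 := ded_14_1 (flp_f L691703) (flp_a L683859) L705188
theorem L705192 : sm gb N51732 = N50111 := ded_22_1 (flp_f L705156) L705146 L705188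
theorem L705194 : sm gc N51732 = N49672 := ded_29_1 (flp_f L683879) (flp_c L683861) L705188
theorem L705196 : sm gd N51732 = N50503 := ded_35_1 L705184 (flp_d L705172) L705188
theorem L705198 : sm gj N51732 = N50499 := ded_46_2 (flp_f L705104) L705098 L705188
theorem L705200 : sm gh N51732 = N50106 := ded_47_2 L688390 (flp_h L683865) L705188
theorem L705202 : sm ge N51732 = N49680 := ded_40_1 (flp_f L683952) (flp_e L661365) (flp_f L661300) L683857 L705188
theorem L705204 : sm gi N49670 = N51733 := rfl
theorem L705206 : sm ga N51733 = N50506 := ded_18_1 (flp_i L691711) (flp_a L683859) L705204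
theorem L705208 : sm gc N51733 = N49673 := ded_33_1 (flp_i L683883) (flp_c L683861) L705204
theorem L705210 : sm ge N51733 = N49671 := ded_44_1 (flp_i L683867) L683857 L705204
theorem L705212 : sm gg N51733 = N50525 := ded_51_1 (flp_i L691849) (flp_g L683863) L705204
theorem L705214 : sm gh N49671 = N51734 := rfl
theorem L705216 : sm ga N51734 = N50507 := ded_17_1 (flp_h L691715) (flp_a L683869) L705214
theorem L705218 : sm gc N51734 = N49674 := ded_32_1 (flp_h L683889) (flp_c L683871) L705214
theorem L705220 : sm gf N51734 = N49682 := ded_47_1 (flp_h L683982) (flp_f L683875) L705214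
theorem L705222 : sm gg N51734 = N50526 := ded_50_1 (flp_h L691855) (flp_g L683877) L705214
theorem L705224 : sm gd N51734 = N50563 := ded_38_1 (flp_h L692168) L670258 (flp_h L661684) (flp_d L683873) L705214
theorem L705226 : sm gi N51734 = N50497 := ded_54_2 (flp_h L691646) (flp_i L669631) (flp_h L661304) L683867 L705214
theorem L705228 : sm gg N49672 = N51735 := rfl
theorem L705230 : sm gb N51735 = N49751 := ded_23_1 (flp_g L696978) L696974 L705228
theorem L705232 : sm ge N51735 = N49683 := ded_41_1 (flp_g L683994) (flp_e L683881) L705228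
theorem L705234 : sm gf N51735 = N49722 := ded_45_1 L684424 (flp_f L669822) (flp_g L661310) L683879 L705228
theorem L705236 : sm gi N49672 = N51736 := rfl
theorem L705238 : sm ge N51736 = N49684 := ded_44_1 (flp_i L684002) (flp_e L683881) L705236
theorem L705240 : sm gf N51736 = N49673 := ded_48_1 (flp_i L683883) L683879 L705236
theorem L705242 : sm gh N49673 = N51737 := rfl
theorem L705244 : sm ge N51737 = N49674 := ded_43_1 (flp_h L683889) (flp_e L683885) L705242
theorem L705246 : sm gg N51737 = N50528 := ded_50_1 (flp_h L691869) (flp_g L683887) L705242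
theorem L705248 : sm gh N49675 = N51738 := rfl
theorem L705250 : sm ga N51738 = N50509 := ded_17_1 (flp_h L691736) (flp_a L683899) L705248
theorem L705252 : sm gb N51738 = N50839 := ded_25_1 (flp_h L694343) (flp_b L683901) L705248
theorem L705254 : sm gc N51738 = N49678 := ded_32_1 (flp_h L683931) (flp_c L683903) L705248
theorem L705256 : sm ge N51738 = N50837 := ded_43_1 (flp_h L694329) (flp_e L683907) L705248
theorem L705258 : sm gg N51738 = N51738 := ded_50_1 (flp_h L705248) L683909 L705248
theorem L705259 : sm gj N51738 = N49682 := ded_52_1 (flp_h L683982) (flp_j L683910) L705248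
theorem L705261 : sm gd N51738 = N50564 := ded_38_1 (flp_h L692176) L670266 (flp_h L661713) (flp_d L683905) L705248
theorem L705263 : sm gi N51738 = N50498 := ded_54_2 (flp_h L691654) (flp_i L669639) (flp_h L661327) L683897 L705248
theorem L705265 : sm gi N49676 = N51739 := rfl
theorem L705267 : sm gc N51739 = N50500 := ded_33_1 (flp_i L691667) (flp_c L683914) L705265
theorem L705269 : sm gd N51739 = N49693 := ded_39_1 (flp_i L684091) (flp_d L683916) L705265
theorem L705271 : sm gf N51739 = N49677 := ded_48_1 (flp_i L683920) L683912 L705265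
theorem L705273 : sm gj N51739 = N49684 := ded_53_1 (flp_i L684002) (flp_j L683918) L705265
theorem L705275 : sm gh N49677 = N51740 := rfl
theorem L705277 : sm gc N51740 = N50837 := ded_32_1 (flp_h L694329) (flp_c L683922) L705275
theorem L705279 : sm ge N51740 = N49678 := ded_43_1 (flp_h L683931) (flp_e L683926) L705275
theorem L705281 : sm gg N51740 = N51740 := ded_50_1 (flp_h L705275) L683928 L705275
theorem L705282 : sm gj N51740 = N49685 := ded_52_1 (flp_h L684008) (flp_j L683929) L705275
theorem L705284 : sm gh N49679 = N51741 := rfl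
theorem L705286 : sm ga N51741 = N50192 := ded_17_1 (flp_h L689229) (flp_a L683940) L705284
theorem L705288 : sm gb N51741 = N49682 := ded_25_1 (flp_h L683982) (flp_b L683942) L705284
theorem L705290 : sm ge N51741 = N50116 := ded_43_1 (flp_h L688484) (flp_e L683946) L705284
theorem L705292 : sm gg N51741 = N49686 := ded_50_1 (flp_h L684014) (flp_g L683948) L705284
theorem L705294 : sm gj N51741 = N50839 := ded_52_1 (flp_h L694343) (flp_j L683950) L705284
theorem L705296 : sm gd N51741 = N50511 := ded_38_1 (flp_h L691753) L669747 (flp_h L661729) (flp_d L683944) L705284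
theorem L705298 : sm gi N51741 = N50140 := ded_54_2 (flp_h L688701) (flp_i L666460) (flp_h L661359) L683938 L705284
theorem L705300 : sm gi N49680 = N51742 := rfl
theorem L705302 : sm ga N51742 = N50510 := ded_18_1 (flp_i L691745) (flp_a L683954) L705300
theorem L705304 : sm gb N51742 = N50112 := ded_26_1 (flp_i L688442) (flp_b L683956) L705300
theorem L705306 : sm gc N51742 = N49684 := ded_33_1 (flp_i L684002) (flp_c L683958) L705300
theorem L705308 : sm gd N51742 = N50103 := ded_39_1 (flp_i L688341) (flp_d L683960) L705300
theorem L705310 : sm gf N51742 = N49681 := ded_48_1 (flp_i L683966) L683952 L705300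
theorem L705312 : sm gj N51742 = N50500 := ded_53_1 (flp_i L691667) (flp_j L683962) L705300
theorem L705314 : sm gh N49681 = N51743 := rfl
theorem L705316 : sm ga N51743 = N50511 := ded_17_1 (flp_h L691753) (flp_a L683968) L705314
theorem L705318 : sm gb N51743 = N50116 := ded_25_1 (flp_h L688484) (flp_b L683970) L705314
theorem L705320 : sm gc N51743 = N49685 := ded_32_1 (flp_h L684008) (flp_c L683972) L705314
theorem L705322 : sm ge N51743 = N49682 := ded_43_1 (flp_h L683982) (flp_e L683976) L705314
theorem L705324 : sm gg N51743 = N49687 := ded_50_1 (flp_h L684029) (flp_g L683978) L705314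
theorem L705326 : sm gj N51743 = N50837 := ded_52_1 (flp_h L694329) (flp_j L683980) L705314
theorem L705328 : sm gd N51743 = N50192 := ded_38_1 (flp_h L689229) L666881 (flp_h L666185) (flp_d L683974) L705314
theorem L705330 : sm gi N51743 = N50109 := ded_54_2 (flp_h L688415) (flp_i L666246) (flp_h L661377) L683966 L705314
theorem L705332 : sm gj N49683 = N51744 := rfl
theorem L705334 : sm ga N51744 = N50465 := ded_16_1 (flp_j L697806) L697798 L705332
theorem L705336 : sm gb N51744 = N49756 := ded_24_1 L684776 (flp_b L683996) L705332
theorem L705338 : sm gd N51744 = N49695 := ded_37_1 (flp_j L684109) (flp_d L683998) L705332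
theorem L705340 : sm gf N51744 = N49688 := ded_46_1 (flp_j L684044) (flp_f L684000) L705332
theorem L705342 : sm gi N49683 = N51745 := rfl
theorem L705344 : sm gb N51745 = N49763 := ded_26_1 (flp_i L684838) (flp_b L683996) L705342
theorem L705346 : sm gd N51745 = N49696 := ded_39_1 (flp_i L684122) (flp_d L683998) L705342
theorem L705348 : sm gf N51745 = N49689 := ded_48_1 (flp_i L684055) (flp_f L684000) L705342
theorem L705350 : sm gg N51745 = N49684 := ded_51_1 (flp_i L684002) L683994 L705342
theorem L705352 : sm gh N49684 = N51746 := rfl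
theorem L705354 : sm gf N51746 = N49685 := ded_47_1 (flp_h L684008) (flp_f L684006) L705352
theorem L705356 : sm gd N49685 = N51747 := rfl
theorem L705358 : sm gg N51747 = N49691 := ded_36_2 (flp_d L684074) (flp_g L684012) L705356
theorem L705360 : sm ge N51747 = N49863 := ded_34_2 (flp_d L685719) L662936 (flp_d L661407) (flp_e L684010) L705356
theorem L705362 : sm gh N51747 = N49698 := ded_38_2 (flp_d L684135) (flp_h L661507) (flp_d L661397) L684008 L705356
theorem L705364 : sm gi N49688 = N51748 := rfl
theorem L705366 : sm ga N51748 = N50764 := ded_18_1 (flp_i L693715) (flp_a L684046) L705364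
theorem L705368 : sm gb N51748 = N49757 := ded_26_1 (flp_i L684778) (flp_b L684048) L705364
theorem L705370 : sm gd N51748 = N49699 := ded_39_1 (flp_i L684142) (flp_d L684050) L705364
theorem L705372 : sm ge N51748 = N49725 := ded_44_1 (flp_i L684446) (flp_e L684052) L705364
theorem L705374 : sm gg N51748 = N51748 := ded_51_1 (flp_i L705364) L684054 L705364
theorem L705375 : sm gj N51748 = N49689 := ded_53_1 (flp_i L684055) L684044 L705364
theorem L705377 : sm gh N49689 = N51749 := rfl
theorem L705379 : sm gb N51749 = N49764 := ded_25_1 (flp_h L684846) (flp_b L684057) L705377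
theorem L705381 : sm ge N51749 = N49727 := ded_43_1 (flp_h L684462) (flp_e L684061) L705377
theorem L705383 : sm gg N51749 = N49690 := ded_50_1 (flp_h L684065) (flp_g L684063) L705377
theorem L705385 : sm gd N49690 = N51750 := rfl
theorem L705387 : sm gb N51750 = N49767 := ded_20_1 (flp_d L684876) (flp_b L684067) L705385
theorem L705389 : sm gf N51750 = N49691 := ded_35_2 (flp_d L684074) (flp_f L684071) L705385
theorem L705391 : sm gj N51750 = N51750 := ded_37_2 (flp_d L705385) L684073 L705385
theorem L705392 : sm gh N51750 = N49701 := ded_38_2 (flp_d L684164) (flp_h L661534) (flp_d L661460) L684065 L705385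
theorem L705394 : sm gc N49691 = N51751 := rfl
theorem L705396 : sm ge N51751 = N49877 := ded_28_2 (flp_c L685840) (flp_e L684077) L705394
theorem L705398 : sm gj N51751 = N51751 := ded_31_2 (flp_c L705394) L684076 L705394
theorem L705399 : sm gh N51751 = N49702 := ded_32_2 (flp_c L684172) (flp_h L684079) L705394
theorem L705401 : sm gi N51751 = N50248 := ded_33_2 (flp_c L705055) L705053 L705394
theorem L705403 : sm gd N51751 = N50195 := ded_27_2 L689267 (flp_d L684040) L684035 L684074 L705394
theorem L705405 : sm gi N49692 = N51752 := rfl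
theorem L705407 : sm ga N51752 = N50371 := ded_18_1 (flp_i L690717) (flp_a L684083) L705405
theorem L705409 : sm gc N51752 = N49927 := ded_33_1 (flp_i L686377) (flp_c L684085) L705405
theorem L705411 : sm ge N51752 = N50337 := ded_44_1 (flp_i L690476) (flp_e L684087) L705405
theorem L705413 : sm gf N51752 = N51752 := ded_48_1 (flp_i L705405) L684090 L705405
theorem L705414 : sm gg N51752 = N49693 := ded_51_1 (flp_i L684091) L684081 L705405
theorem L705416 : sm gh N49693 = N51753 := rfl
theorem L705418 : sm gc N51753 = N50716 := ded_32_1 (flp_h L693321) (flp_c L684093) L705416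
theorem L705420 : sm gf N51753 = N49694 := ded_47_1 (flp_h L684099) (flp_f L684095) L705416
theorem L705422 : sm gj N51753 = N49697 := ded_52_1 (flp_h L684130) (flp_j L684097) L705416
theorem L705424 : sm gi N51753 = N51753 := ded_54_2 (flp_h L705416) (flp_i L684091) L661478 L684091 L705416
theorem L705425 : sm gd N49694 = N51754 := rfl
theorem L705427 : sm gg N51754 = N51754 := ded_36_2 (flp_d L705425) L684105 L705425
theorem L705428 : sm gj N51754 = N49698 := ded_37_2 (flp_d L684135) (flp_j L684106) L705425
theorem L705430 : sm gi N51754 = N51754 := ded_39_2 (flp_d L705425) L684108 L705425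
theorem L705431 : sm gc N51754 = N50847 := ded_27_1 (flp_d L694400) L672972 (flp_d L672931) (flp_c L684101) L705425
theorem L705433 : sm ge N51754 = N49881 := ded_34_2 (flp_d L685866) L663057 (flp_d L661493) (flp_e L684103) L705425
theorem L705435 : sm gi N49695 = N51755 := rfl
theorem L705437 : sm ga N51755 = N50466 := ded_18_1 (flp_i L691391) (flp_a L684111) L705435
theorem L705439 : sm gb N51755 = N49769 := ded_26_1 (flp_i L684890) (flp_b L684113) L705435
theorem L705441 : sm gc N51755 = N50484 := ded_33_1 (flp_i L691532) (flp_c L684115) L705435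
theorem L705443 : sm ge N51755 = N50464 := ded_44_1 (flp_i L691377) (flp_e L684117) L705435
theorem L705445 : sm gf N51755 = N49699 := ded_48_1 (flp_i L684142) (flp_f L684119) L705435
theorem L705447 : sm gj N51755 = N49696 := ded_53_1 (flp_i L684122) L684109 L705435
theorem L705449 : sm gh N49696 = N51756 := rfl
theorem L705451 : sm gb N51756 = N49771 := ded_25_1 (flp_h L684910) (flp_b L684124) L705449
theorem L705453 : sm gf N51756 = N49700 := ded_47_1 (flp_h L684155) (flp_f L684126) L705449
theorem L705455 : sm gg N51756 = N49697 := ded_50_1 (flp_h L684130) (flp_g L684128) L705449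
theorem L705457 : sm gi N51756 = N51756 := ded_54_2 (flp_h L705449) (flp_i L684122) L661500 L684122 L705449
theorem L705458 : sm gd N49697 = N51757 := rfl
theorem L705460 : sm gf N51757 = N49698 := ded_35_2 (flp_d L684135) (flp_f L684132) L705458
theorem L705462 : sm gi N51757 = N51757 := ded_39_2 (flp_d L705458) L684134 L705458
theorem L705463 : sm gc N49698 = N51758 := rfl
theorem L705465 : sm ge N51758 = N49885 := ded_28_2 (flp_c L685892) (flp_e L684140) L705463
theorem L705467 : sm gg N51758 = N49702 := ded_30_2 (flp_c L684172) (flp_g L684137) L705463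
theorem L705469 : sm gj N51758 = N50847 := ded_31_2 (flp_c L705431) L705428 L705463
theorem L705471 : sm gi N51758 = N51758 := ded_33_2 (flp_c L705463) L684139 L705463
theorem L705472 : sm gd N51758 = N50845 := ded_27_2 L694386 (flp_d L683295) L683287 L684135 L705463
theorem L705474 : sm gh N49699 = N51759 := rfl
theorem L705476 : sm ga N51759 = N50765 := ded_17_1 (flp_h L693722) (flp_a L684144) L705474
theorem L705478 : sm gb N51759 = N49770 := ded_25_1 (flp_h L684899) (flp_b L684146) L705474
theorem L705480 : sm gc N51759 = N50775 := ded_32_1 (flp_h L693788) (flp_c L684148) L705474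
theorem L705482 : sm ge N51759 = N49703 := ded_43_1 (flp_h L684178) (flp_e L684150) L705474
theorem L705484 : sm gg N51759 = N51759 := ded_50_1 (flp_h L705474) L684152 L705474
theorem L705485 : sm gj N51759 = N49700 := ded_52_1 (flp_h L684155) (flp_j L684153) L705474
theorem L705487 : sm gi N51759 = N51759 := ded_54_2 (flp_h L705474) (flp_i L684142) L661524 L684142 L705474
theorem L705488 : sm gd N49700 = N51760 := rfl
theorem L705490 : sm gb N51760 = N49772 := ded_20_1 (flp_d L684918) (flp_b L684157) L705488
theorem L705492 : sm gg N51760 = N49701 := ded_36_2 (flp_d L684164) (flp_g L684161) L705488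
theorem L705494 : sm gi N51760 = N51760 := ded_39_2 (flp_d L705488) L684163 L705488
theorem L705495 : sm gi N49704 = N51761 := rfl
theorem L705497 : sm ga N51761 = N50502 := ded_18_1 (flp_i L691680) (flp_a L684194) L705495
theorem L705499 : sm gb N51761 = N49731 := ded_26_1 (flp_i L684497) (flp_b L684205) L705495
theorem L705501 : sm gc N51761 = N49705 := ded_33_1 (flp_i L684207) L684192 L705495
theorem L705503 : sm ge N51761 = N49713 := ded_44_1 (flp_i L684332) (flp_e L684196) L705495
theorem L705505 : sm gf N51761 = N51761 := ded_48_1 (flp_i L705495) L684198 L705495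
theorem L705506 : sm gg N51761 = N49706 := ded_51_1 (flp_i L684224) (flp_g L684199) L705495
theorem L705508 : sm gj N51761 = N50546 := ded_53_1 (flp_i L692010) (flp_j L684201) L705495
theorem L705510 : sm gh N51761 = N50552 := ded_54_1 (flp_i L692066) L670056 (flp_i L661847) (flp_h L684203) L705495
theorem L705512 : sm gi N49709 = N51762 := rfl
theorem L705514 : sm ga N51762 = N50500 := ded_18_1 (flp_i L691667) (flp_a L684278) L705512
theorem L705516 : sm gb N51762 = N50561 := ded_26_1 (flp_i L692152) (flp_b L684280) L705512
theorem L705518 : sm gd N51762 = N49710 := ded_39_1 (flp_i L684290) L684276 L705512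
theorem L705520 : sm gf N51762 = N50508 := ded_48_1 (flp_i L691723) (flp_f L684282) L705512
theorem L705522 : sm gg N51762 = N50553 := ded_51_1 (flp_i L692079) (flp_g L684284) L705512
theorem L705524 : sm gj N51762 = N50510 := ded_53_1 (flp_i L691745) (flp_j L684286) L705512
theorem L705526 : sm gd N49711 = N51763 := rfl
theorem L705528 : sm gb N51763 = N49733 := ded_20_1 (flp_d L684525) (flp_b L684310) L705526
theorem L705530 : sm gf N51763 = N49714 := ded_35_2 (flp_d L684344) (flp_f L684316) L705526
theorem L705532 : sm gg N51763 = N50548 := ded_36_2 (flp_d L692027) (flp_g L684318) L705526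
theorem L705534 : sm gj N51763 = N49712 := ded_37_2 (flp_d L684322) (flp_j L684320) L705526
theorem L705536 : sm gc N51763 = N50465 := ded_27_1 (flp_d L691385) L669289 L669471 (flp_c L684312) L705526
theorem L705538 : sm gh N51763 = N49719 := ded_38_2 (flp_d L684396) (flp_h L661928) (flp_d L661860) L684308 L705526
theorem L705540 : sm gi N49711 = N51764 := rfl
theorem L705542 : sm gb N51764 = N49734 := ded_26_1 (flp_i L684537) (flp_b L684310) L705540
theorem L705544 : sm gc N51764 = N50486 := ded_33_1 (flp_i L691549) (flp_c L684312) L705540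
theorem L705546 : sm ge N51764 = N50546 := ded_44_1 (flp_i L692010) (flp_e L684314) L705540
theorem L705548 : sm gf N51764 = N49715 := ded_48_1 (flp_i L684355) (flp_f L684316) L705540
theorem L705550 : sm gg N51764 = N50549 := ded_51_1 (flp_i L692032) (flp_g L684318) L705540
theorem L705552 : sm gj N51764 = N49713 := ded_53_1 (flp_i L684332) (flp_j L684320) L705540
theorem L705554 : sm gh N51764 = N50547 := ded_54_1 (flp_i L692017) L670002 (flp_i L661866) L684308 L705540
theorem L705556 : sm ge N49712 = N51765 := rfl
theorem L705558 : sm gb N51765 = N49735 := ded_21_1 (flp_e L684549) (flp_b L684324) L705556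
theorem L705560 : sm gg N51765 = N50505 := ded_41_2 L691709 (flp_g L684328) L705556
theorem L705562 : sm gh N51765 = N49722 := ded_43_2 (flp_e L684420) (flp_h L684330) L705556
theorem L705564 : sm gi N49712 = N51766 := rfl
theorem L705566 : sm gb N51766 = N49736 := ded_26_1 (flp_i L684559) (flp_b L684324) L705564
theorem L705568 : sm gd N51766 = N49713 := ded_39_1 (flp_i L684332) L684322 L705564
theorem L705570 : sm gf N51766 = N49716 := ded_48_1 (flp_i L684367) (flp_f L684326) L705564
theorem L705572 : sm gg N51766 = N50510 := ded_51_1 (flp_i L691745) (flp_g L684328) L705564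
theorem L705574 : sm gi N49714 = N51767 := rfl
theorem L705576 : sm gb N51767 = N49738 := ded_26_1 (flp_i L684583) (flp_b L684346) L705574
theorem L705578 : sm gc N51767 = N50764 := ded_33_1 (flp_i L693715) (flp_c L684351) L705574
theorem L705580 : sm gd N51767 = N49715 := ded_39_1 (flp_i L684355) L684344 L705574
theorem L705582 : sm gg N51767 = N51767 := ded_51_1 (flp_i L705574) L684348 L705574
theorem L705583 : sm gj N51767 = N49716 := ded_53_1 (flp_i L684367) (flp_j L684349) L705574
theorem L705585 : sm gh N49716 = N51768 := rfl
theorem L705587 : sm gb N51768 = N49741 := ded_25_1 (flp_h L684614) (flp_b L684369) L705585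
theorem L705589 : sm gg N51768 = N49717 := ded_50_1 (flp_h L684375) (flp_g L684373) L705585
theorem L705591 : sm gd N51768 = N50539 := ded_38_1 (flp_h L691962) L669901 (flp_h L661907) (flp_d L684371) L705585
theorem L705593 : sm gi N51768 = N49727 := ded_54_2 (flp_h L684462) (flp_i L661976) (flp_h L661896) L684367 L705585
theorem L705595 : sm gd N49718 = N51769 := rfl
theorem L705597 : sm gb N51769 = N49743 := ded_20_1 (flp_d L684637) (flp_b L684388) L705595
theorem L705599 : sm gf N51769 = N51769 := ded_35_2 (flp_d L705595) L684391 L705595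
theorem L705600 : sm gg N51769 = N49719 := ded_36_2 (flp_d L684396) (flp_g L684392) L705595
theorem L705602 : sm gj N51769 = N50534 := ded_37_2 L691920 (flp_j L684394) L705595
theorem L705604 : sm gh N51769 = N50548 := ded_38_2 (flp_d L692027) L670012 (flp_d L661923) L684386 L705595
theorem L705606 : sm gi N49718 = N51770 := rfl
theorem L705608 : sm gb N51770 = N49744 := ded_26_1 (flp_i L684646) (flp_b L684388) L705606
theorem L705610 : sm gc N51770 = N51770 := ded_33_1 (flp_i L705606) L684390 L705606
theorem L705611 : sm gf N51770 = N51770 := ded_48_1 (flp_i L705606) L684391 L705606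
theorem L705612 : sm gg N51770 = N49720 := ded_51_1 (flp_i L684404) (flp_g L684392) L705606
theorem L705614 : sm gj N51770 = N50545 := ded_53_1 (flp_i L692002) (flp_j L684394) L705606
theorem L705616 : sm gc N49719 = N51771 := rfl
theorem L705618 : sm gf N51771 = N49724 := ded_29_2 (flp_c L684436) (flp_f L684400) L705616
theorem L705620 : sm gj N51771 = N49721 := ded_31_2 (flp_c L684413) (flp_j L684402) L705616
theorem L705622 : sm gh N51771 = N50465 := ded_32_2 (flp_c L705536) L705538 L705616
theorem L705624 : sm gb N51771 = N50468 := ded_19_1 L691412 L684669 (flp_c L684657) (flp_b L684398) L705616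
theorem L705626 : sm gd N51771 = N51771 := ded_27_2 (flp_c L705616) (flp_d L684396) L661932 L684396 L705616
theorem L705627 : sm ge N49719 = N51772 := rfl
theorem L705629 : sm gb N51772 = N49746 := ded_21_1 (flp_e L684671) (flp_b L684398) L705627
theorem L705631 : sm gj N51772 = N49722 := ded_42_2 (flp_e L684420) (flp_j L684402) L705627
theorem L705633 : sm gi N49719 = N51773 := rfl
theorem L705635 : sm gb N51773 = N49747 := ded_26_1 (flp_i L684677) (flp_b L684398) L705633
theorem L705637 : sm gd N51773 = N49720 := ded_39_1 (flp_i L684404) L684396 L705633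
theorem L705639 : sm gf N51773 = N49725 := ded_48_1 (flp_i L684446) (flp_f L684400) L705633
theorem L705641 : sm gj N51773 = N49723 := ded_53_1 (flp_i L684426) (flp_j L684402) L705633
theorem L705643 : sm ge N49721 = N51774 := rfl
theorem L705645 : sm gc N51774 = N49722 := ded_28_1 (flp_e L684420) L684413 L705643
theorem L705647 : sm gg N51774 = N50524 := ded_41_2 L691847 (flp_g L684417) L705643
theorem L705649 : sm gi N49721 = N51775 := rfl
theorem L705651 : sm gc N51775 = N49723 := ded_33_1 (flp_i L684426) L684413 L705649
theorem L705653 : sm gd N51775 = N51775 := ded_39_1 (flp_i L705649) L684419 L705649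
theorem L705654 : sm gf N51775 = N49726 := ded_48_1 (flp_i L684455) (flp_f L684415) L705649
theorem L705656 : sm gg N51775 = N50540 := ded_51_1 (flp_i L691968) (flp_g L684417) L705649
theorem L705658 : sm gi N49722 = N51776 := rfl
theorem L705660 : sm gb N51776 = N49752 := ded_26_1 (flp_i L684727) (flp_b L684422) L705658
theorem L705662 : sm ge N51776 = N49723 := ded_44_1 (flp_i L684426) L684420 L705658
theorem L705664 : sm gg N51776 = N50527 := ded_51_1 (flp_i L691861) (flp_g L684424) L705658
theorem L705666 : sm gh N49723 = N51777 := rfl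
theorem L705668 : sm gb N51777 = N49753 := ded_25_1 (flp_h L684735) (flp_b L684428) L705666
theorem L705670 : sm gf N51777 = N49727 := ded_47_1 (flp_h L684462) (flp_f L684432) L705666
theorem L705672 : sm gg N51777 = N50542 := ded_50_1 (flp_h L691983) (flp_g L684434) L705666
theorem L705674 : sm gi N49724 = N51778 := rfl
theorem L705676 : sm gb N51778 = N50766 := ded_26_1 (flp_i L693732) (flp_b L684443) L705674
theorem L705678 : sm gc N51778 = N49725 := ded_33_1 (flp_i L684446) L684436 L705674
theorem L705680 : sm gd N51778 = N51778 := ded_39_1 (flp_i L705674) L684445 L705674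
theorem L705681 : sm gg N51778 = N51778 := ded_51_1 (flp_i L705674) L684438 L705674
theorem L705682 : sm gj N51778 = N49726 := ded_53_1 (flp_i L684455) (flp_j L684439) L705674
theorem L705684 : sm gh N49725 = N51779 := rfl
theorem L705686 : sm gb N51779 = N49758 := ded_25_1 (flp_h L684789) (flp_b L684448) L705684
theorem L705688 : sm gg N51779 = N51779 := ded_50_1 (flp_h L705684) L684452 L705684
theorem L705689 : sm gj N51779 = N49727 := ded_52_1 (flp_h L684462) (flp_j L684453) L705684
theorem L705691 : sm gh N49726 = N51780 := rfl
theorem L705693 : sm gc N51780 = N49727 := ded_32_1 (flp_h L684462) (flp_c L684457) L705691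
theorem L705695 : sm gg N51780 = N49728 := ded_50_1 (flp_h L684468) (flp_g L684460) L705691
theorem L705697 : sm gd N49728 = N51781 := rfl
theorem L705699 : sm gf N51781 = N50544 := ded_35_2 (flp_d L691998) (flp_f L684472) L705697
theorem L705701 : sm gj N51781 = N51781 := ded_37_2 (flp_d L705697) L684474 L705697
theorem L705702 : sm gh N51781 = N51781 := ded_38_2 (flp_d L705697) (flp_h L684468) L661988 L684468 L705697
theorem L705703 : sm gd N49729 = N51782 := rfl
theorem L705705 : sm ga N51782 = N49787 := ded_12_1 (flp_d L685099) (flp_a L684477) L705703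
theorem L705707 : sm gb N51782 = N50512 := ded_20_1 L691768 (flp_b L684479) L705703
theorem L705709 : sm gf N51782 = N51782 := ded_35_2 (flp_d L705703) L684485 L705703
theorem L705710 : sm gg N51782 = N50515 := ded_36_2 L691783 (flp_g L684486) L705703
theorem L705712 : sm gj N51782 = N49730 := ded_37_2 (flp_d L684490) (flp_j L684488) L705703
theorem L705714 : sm gc N51782 = N50261 := ded_27_1 (flp_d L689819) L667378 L663704 (flp_c L684481) L705703
theorem L705716 : sm gi N49729 = N51783 := rfl
theorem L705718 : sm ga N51783 = N49788 := ded_18_1 (flp_i L685104) (flp_a L684477) L705716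
theorem L705720 : sm gb N51783 = N50546 := ded_26_1 (flp_i L692010) (flp_b L684479) L705716
theorem L705722 : sm gc N51783 = N49929 := ded_33_1 (flp_i L686403) (flp_c L684481) L705716
theorem L705724 : sm ge N51783 = N49734 := ded_44_1 (flp_i L684537) (flp_e L684483) L705716
theorem L705726 : sm gf N51783 = N51783 := ded_48_1 (flp_i L705716) L684485 L705716
theorem L705727 : sm gg N51783 = N50547 := ded_51_1 (flp_i L692017) (flp_g L684486) L705716
theorem L705729 : sm gj N51783 = N49731 := ded_53_1 (flp_i L684497) (flp_j L684488) L705716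
theorem L705731 : sm gh N51783 = N50549 := ded_54_1 (flp_i L692032) L670012 (flp_i L662010) L684475 L705716
theorem L705733 : sm gc N49730 = N51784 := rfl
theorem L705735 : sm ga N51784 = N49789 := ded_11_1 (flp_c L685113) (flp_a L684492) L705733
theorem L705737 : sm gf N51784 = N51784 := ded_29_2 (flp_c L705733) L684494 L705733
theorem L705738 : sm gg N51784 = N50557 := ded_30_2 (flp_c L692122) (flp_g L684495) L705733
theorem L705740 : sm gj N51784 = N50261 := ded_31_2 (flp_c L705714) L705712 L705733
theorem L705742 : sm gb N51784 = N50256 := ded_19_1 (flp_c L696881) L696874 L705060 (flp_b L705073) L705733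
theorem L705744 : sm gd N51784 = N49930 := ded_27_2 (flp_c L686420) (flp_d L663706) (flp_c L662018) L684490 L705733
theorem L705746 : sm ge N49730 = N51785 := rfl
theorem L705748 : sm ga N51785 = N49790 := ded_13_1 (flp_e L685120) (flp_a L684492) L705746
theorem L705750 : sm gg N51785 = N50558 := ded_41_2 (flp_e L692130) (flp_g L684495) L705746
theorem L705752 : sm gd N51785 = N49735 := ded_34_1 (flp_e L684549) (flp_d L662052) (flp_e L662020) L684490 L705746
theorem L705754 : sm gi N49730 = N51786 := rfl
theorem L705756 : sm ga N51786 = N49791 := ded_18_1 (flp_i L685126) (flp_a L684492) L705754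
theorem L705758 : sm gd N51786 = N49731 := ded_39_1 (flp_i L684497) L684490 L705754
theorem L705760 : sm gf N51786 = N51786 := ded_48_1 (flp_i L705754) L684494 L705754
theorem L705761 : sm gg N51786 = N50559 := ded_51_1 (flp_i L692136) (flp_g L684495) L705754
theorem L705763 : sm gd N49732 = N51787 := rfl
theorem L705765 : sm ga N51787 = N49792 := ded_12_1 (flp_d L685133) (flp_a L684512) L705763
theorem L705767 : sm gb N51787 = N50548 := ded_20_1 (flp_d L692027) (flp_b L684514) L705763
theorem L705769 : sm gf N51787 = N51787 := ded_35_2 (flp_d L705763) L684520 L705763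
theorem L705770 : sm gg N51787 = N49733 := ded_36_2 (flp_d L684525) (flp_g L684521) L705763
theorem L705772 : sm gj N51787 = N50551 := ded_37_2 (flp_d L692055) (flp_j L684523) L705763
theorem L705774 : sm gc N51787 = N49904 := ded_27_1 (flp_d L686104) L663221 L663491 (flp_c L684516) L705763
theorem L705776 : sm gh N51787 = N49743 := ded_38_2 (flp_d L684637) (flp_h L662143) (flp_d L662033) L684510 L705763
theorem L705778 : sm gi N49732 = N51788 := rfl
theorem L705780 : sm ga N51788 = N49793 := ded_18_1 (flp_i L685142) (flp_a L684512) L705778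
theorem L705782 : sm gb N51788 = N50549 := ded_26_1 (flp_i L692032) (flp_b L684514) L705778
theorem L705784 : sm gc N51788 = N49921 := ded_33_1 (flp_i L686301) (flp_c L684516) L705778
theorem L705786 : sm ge N51788 = N50547 := ded_44_1 (flp_i L692017) (flp_e L684518) L705778
theorem L705788 : sm gf N51788 = N51788 := ded_48_1 (flp_i L705778) L684520 L705778
theorem L705789 : sm gg N51788 = N49734 := ded_51_1 (flp_i L684537) (flp_g L684521) L705778
theorem L705791 : sm gj N51788 = N50552 := ded_53_1 (flp_i L692066) (flp_j L684523) L705778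
theorem L705793 : sm gh N51788 = N50546 := ded_54_1 (flp_i L692010) L669985 (flp_i L662037) L684510 L705778
theorem L705795 : sm ge N49733 = N51789 := rfl
theorem L705797 : sm ga N51789 = N49795 := ded_13_1 (flp_e L685163) (flp_a L684527) L705795
theorem L705799 : sm gc N51789 = N50658 := ded_28_1 L692909 (flp_c L684533) L705795
theorem L705801 : sm gj N51789 = N49735 := ded_42_2 (flp_e L684549) (flp_j L684531) L705795
theorem L705803 : sm gh N51789 = N49746 := ded_43_2 (flp_e L684671) (flp_h L684535) L705795
theorem L705805 : sm gi N49733 = N51790 := rfl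
theorem L705807 : sm ga N51790 = N49796 := ded_18_1 (flp_i L685169) (flp_a L684527) L705805
theorem L705809 : sm gc N51790 = N50710 := ded_33_1 L693288 (flp_c L684533) L705805
theorem L705811 : sm gd N51790 = N49734 := ded_39_1 (flp_i L684537) L684525 L705805
theorem L705813 : sm gf N51790 = N49738 := ded_48_1 (flp_i L684583) (flp_f L684529) L705805
theorem L705815 : sm gj N51790 = N49736 := ded_53_1 (flp_i L684559) (flp_j L684531) L705805
theorem L705817 : sm gf N49735 = N51791 := rfl
theorem L705819 : sm ga N51791 = N49800 := ded_14_1 (flp_f L685209) (flp_a L684551) L705817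
theorem L705821 : sm gc N51791 = N50743 := ded_29_1 (flp_f L693526) (flp_c L684553) L705817
theorem L705823 : sm gh N51791 = N49751 := ded_47_2 (flp_f L684721) (flp_h L684557) L705817
theorem L705825 : sm ge N51791 = N49739 := ded_40_1 (flp_f L684594) (flp_e L662099) (flp_f L662056) L684549 L705817
theorem L705827 : sm gi N49735 = N51792 := rfl
theorem L705829 : sm ga N51792 = N49801 := ded_18_1 (flp_i L685215) (flp_a L684551) L705827
theorem L705831 : sm gc N51792 = N50713 := ded_33_1 L693302 (flp_c L684553) L705827
theorem L705833 : sm ge N51792 = N49736 := ded_44_1 (flp_i L684559) L684549 L705827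
theorem L705835 : sm gg N51792 = N50562 := ded_51_1 (flp_i L692162) (flp_g L684555) L705827
theorem L705837 : sm gh N49736 = N51793 := rfl
theorem L705839 : sm ga N51793 = N49802 := ded_17_1 (flp_h L685221) (flp_a L684561) L705837
theorem L705841 : sm gc N51793 = N50668 := ded_32_1 L692969 (flp_c L684563) L705837
theorem L705843 : sm gf N51793 = N49741 := ded_47_1 (flp_h L684614) (flp_f L684567) L705837
theorem L705845 : sm gg N51793 = N50563 := ded_50_1 (flp_h L692168) (flp_g L684569) L705837
theorem L705847 : sm gd N51793 = N50526 := ded_38_1 (flp_h L691855) L669818 (flp_h L662074) (flp_d L684565) L705837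
theorem L705849 : sm gi N51793 = N49753 := ded_54_2 (flp_h L684735) (flp_i L662190) (flp_h L662062) L684559 L705837
theorem L705851 : sm gf N49737 = N51794 := rfl
theorem L705853 : sm ga N51794 = N49806 := ded_14_1 (flp_f L685264) (flp_a L684573) L705851
theorem L705855 : sm gc N51794 = N50744 := ded_29_1 (flp_f L693530) (flp_c L684575) L705851
theorem L705857 : sm gd N51794 = N51794 := ded_35_1 (flp_f L705851) L684582 L705851
theorem L705858 : sm gj N51794 = N49739 := ded_46_2 (flp_f L684594) (flp_j L684578) L705851
theorem L705860 : sm gh N51794 = N49756 := ded_47_2 (flp_f L684770) (flp_h L684580) L705851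
theorem L705862 : sm gi N49737 = N51795 := rfl
theorem L705864 : sm ga N51795 = N49807 := ded_18_1 (flp_i L685271) (flp_a L684573) L705862
theorem L705866 : sm gc N51795 = N50714 := ded_33_1 L693311 (flp_c L684575) L705862
theorem L705868 : sm gd N51795 = N51795 := ded_39_1 (flp_i L705862) L684582 L705862
theorem L705869 : sm ge N51795 = N49738 := ded_44_1 (flp_i L684583) L684571 L705862
theorem L705871 : sm gg N51795 = N51795 := ded_51_1 (flp_i L705862) L684577 L705862
theorem L705872 : sm gj N51795 = N49740 := ded_53_1 (flp_i L684603) (flp_j L684578) L705862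
theorem L705874 : sm gh N49738 = N51796 := rfl
theorem L705876 : sm ga N51796 = N49808 := ded_17_1 (flp_h L685279) (flp_a L684585) L705874
theorem L705878 : sm gc N51796 = N50680 := ded_32_1 L693061 (flp_c L684587) L705874
theorem L705880 : sm gg N51796 = N51796 := ded_50_1 (flp_h L705874) L684591 L705874
theorem L705881 : sm gj N51796 = N49741 := ded_52_1 (flp_h L684614) (flp_j L684592) L705874
theorem L705883 : sm gd N51796 = N50533 := ded_38_1 (flp_h L691909) L669857 (flp_h L662097) (flp_d L684589) L705874
theorem L705885 : sm gi N51796 = N49758 := ded_54_2 (flp_h L684789) (flp_i L662222) (flp_h L662085) L684583 L705874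
theorem L705887 : sm gi N49739 = N51797 := rfl
theorem L705889 : sm ga N51797 = N49814 := ded_18_1 (flp_i L685335) (flp_a L684596) L705887
theorem L705891 : sm gc N51797 = N50715 := ded_33_1 L693319 (flp_c L684598) L705887
theorem L705893 : sm gd N51797 = N51797 := ded_39_1 (flp_i L705887) L684600 L705887
theorem L705894 : sm gf N51797 = N49740 := ded_48_1 (flp_i L684603) L684594 L705887
theorem L705896 : sm gh N49740 = N51798 := rfl
theorem L705898 : sm ga N51798 = N49815 := ded_17_1 (flp_h L685340) (flp_a L684605) L705896
theorem L705900 : sm gc N51798 = N50695 := ded_32_1 L693173 (flp_c L684607) L705896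
theorem L705902 : sm ge N51798 = N49741 := ded_43_1 (flp_h L684614) (flp_e L684610) L705896
theorem L705904 : sm gg N51798 = N49742 := ded_50_1 (flp_h L684626) (flp_g L684612) L705896
theorem L705906 : sm gi N51798 = N49764 := ded_54_2 (flp_h L684846) (flp_i L662268) (flp_h L662107) L684603 L705896
theorem L705908 : sm gd N49742 = N51799 := rfl
theorem L705910 : sm ga N51799 = N49823 := ded_12_1 (flp_d L685423) (flp_a L684628) L705908
theorem L705912 : sm gj N51799 = N51799 := ded_37_2 (flp_d L705908) L684634 L705908
theorem L705913 : sm gi N51799 = N49767 := ded_39_2 (flp_d L684876) (flp_i L684635) L705908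
theorem L705915 : sm ge N51799 = N50544 := ded_34_2 (flp_d L691998) L669960 (flp_d L662139) (flp_e L684632) L705908
theorem L705917 : sm gh N51799 = N51799 := ded_38_2 (flp_d L705908) (flp_h L684626) L662126 L684626 L705908
theorem L705918 : sm gc N49743 = N51800 := rfl
theorem L705920 : sm ga N51800 = N49824 := ded_11_1 (flp_c L685429) (flp_a L684639) L705918
theorem L705922 : sm gf N51800 = N51800 := ded_29_2 (flp_c L705918) L684641 L705918
theorem L705923 : sm gg N51800 = N49745 := ded_30_2 (flp_c L684657) (flp_g L684642) L705918
theorem L705925 : sm gj N51800 = N50565 := ded_31_2 (flp_c L692185) (flp_j L684644) L705918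
theorem L705927 : sm gh N51800 = N49904 := ded_32_2 (flp_c L705774) L705776 L705918
theorem L705929 : sm gd N51800 = N49774 := ded_27_2 (flp_c L684932) (flp_d L662373) (flp_c L662147) L684637 L705918
theorem L705931 : sm gb N49907 = N51800 := ded_23_3 L705923 (flp_b L684669) (flp_g L686141)
theorem L705933 : sm ge N49743 = N51801 := rfl
theorem L705935 : sm ga N51801 = N49825 := ded_13_1 (flp_e L685438) (flp_a L684639) L705933
theorem L705937 : sm gg N51801 = N49746 := ded_41_2 (flp_e L684671) (flp_g L684642) L705933
theorem L705939 : sm gj N51801 = N50566 := ded_42_2 (flp_e L692194) (flp_j L684644) L705933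
theorem L705941 : sm gi N49743 = N51802 := rfl
theorem L705943 : sm ga N51802 = N49826 := ded_18_1 (flp_i L685444) (flp_a L684639) L705941
theorem L705945 : sm gd N51802 = N49744 := ded_39_1 (flp_i L684646) L684637 L705941
theorem L705947 : sm gf N51802 = N51802 := ded_48_1 (flp_i L705941) L684641 L705941
theorem L705948 : sm gg N51802 = N49747 := ded_51_1 (flp_i L684677) (flp_g L684642) L705941
theorem L705950 : sm gj N51802 = N50567 := ded_53_1 (flp_i L692200) (flp_j L684644) L705941
theorem L705952 : sm ge N49745 = N51803 := rfl
theorem L705954 : sm ga N51803 = N49828 := ded_13_1 (flp_e L685461) (flp_a L684659) L705952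
theorem L705956 : sm gb N51803 = N50663 := ded_21_1 L692937 L684669 L705952
theorem L705958 : sm gc N51803 = N49746 := ded_28_1 (flp_e L684671) L684657 L705952
theorem L705960 : sm gj N51803 = N49749 := ded_42_2 (flp_e L684699) (flp_j L684663) L705952
theorem L705962 : sm gh N51803 = N50658 := ded_43_2 L692909 (flp_h L684665) L705952
theorem L705964 : sm gi N49745 = N51804 := rfl
theorem L705966 : sm ga N51804 = N49829 := ded_18_1 (flp_i L685467) (flp_a L684659) L705964
theorem L705968 : sm gb N51804 = N50711 := ded_26_1 (flp_i L693290) L684669 L705964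
theorem L705970 : sm gc N51804 = N49747 := ded_33_1 (flp_i L684677) L684657 L705964
theorem L705972 : sm gd N51804 = N49778 := ded_39_1 (flp_i L684985) (flp_d L684667) L705964
theorem L705974 : sm gf N51804 = N49755 := ded_48_1 (flp_i L684757) (flp_f L684661) L705964
theorem L705976 : sm gj N51804 = N49750 := ded_53_1 (flp_i L684709) (flp_j L684663) L705964
theorem L705978 : sm gf N49746 = N51805 := rfl
theorem L705980 : sm ga N51805 = N49830 := ded_14_1 (flp_f L685477) (flp_a L684673) L705978
theorem L705982 : sm gj N51805 = N49751 := ded_46_2 (flp_f L684721) (flp_j L684675) L705978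
theorem L705984 : sm ge N51805 = N49756 := ded_40_1 (flp_f L684770) (flp_e L662213) (flp_f L662158) L684671 L705978
theorem L705986 : sm gi N49746 = N51806 := rfl
theorem L705988 : sm ga N51806 = N49831 := ded_18_1 (flp_i L685483) (flp_a L684673) L705986
theorem L705990 : sm ge N51806 = N49747 := ded_44_1 (flp_i L684677) L684671 L705986
theorem L705992 : sm gj N51806 = N49752 := ded_53_1 (flp_i L684727) (flp_j L684675) L705986
theorem L705994 : sm gh N49747 = N51807 := rfl
theorem L705996 : sm ga N51807 = N49832 := ded_17_1 (flp_h L685489) (flp_a L684679) L705994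
theorem L705998 : sm gf N51807 = N49758 := ded_47_1 (flp_h L684789) (flp_f L684683) L705994
theorem L706000 : sm gj N51807 = N49753 := ded_52_1 (flp_h L684735) (flp_j L684685) L705994
theorem L706002 : sm ge N49748 = N51808 := rfl
theorem L706004 : sm gb N51808 = N49749 := ded_21_1 (flp_e L684699) L684687 L706002
theorem L706006 : sm gg N51808 = N50574 := ded_41_2 (flp_e L692261) (flp_g L684693) L706002
theorem L706008 : sm gj N51808 = N50663 := ded_42_2 L692937 (flp_j L684695) L706002
theorem L706010 : sm gh N51808 = N50649 := ded_43_2 L692847 (flp_h L684697) L706002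
theorem L706012 : sm gi N49748 = N51809 := rfl
theorem L706014 : sm gb N51809 = N49750 := ded_26_1 (flp_i L684709) L684687 L706012
theorem L706016 : sm gd N51809 = N49782 := ded_39_1 (flp_i L685036) (flp_d L684689) L706012
theorem L706018 : sm gf N51809 = N49759 := ded_48_1 (flp_i L684796) (flp_f L684691) L706012
theorem L706020 : sm gg N51809 = N50575 := ded_51_1 (flp_i L692265) (flp_g L684693) L706012
theorem L706022 : sm gj N51809 = N50711 := ded_53_1 (flp_i L693290) (flp_j L684695) L706012
theorem L706024 : sm gd N49749 = N51810 := rfl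
theorem L706026 : sm ga N51810 = N49836 := ded_12_1 (flp_d L685519) (flp_a L684701) L706024
theorem L706028 : sm gg N51810 = N50576 := ded_36_2 (flp_d L692273) (flp_g L684705) L706024
theorem L706030 : sm ge N51810 = N49783 := ded_34_2 (flp_d L685049) (flp_e L662441) (flp_d L662182) L684699 L706024
theorem L706032 : sm gf N49749 = N51811 := rfl
theorem L706034 : sm ga N51811 = N49837 := ded_14_1 (flp_f L685525) (flp_a L684701) L706032
theorem L706036 : sm gc N51811 = N49751 := ded_29_1 (flp_f L684721) (flp_c L684703) L706032
theorem L706038 : sm gh N51811 = N50743 := ded_47_2 (flp_f L693526) (flp_h L684707) L706032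
theorem L706040 : sm ge N51811 = N49760 := ded_40_1 (flp_f L684806) (flp_e L662241) (flp_f L662176) L684699 L706032
theorem L706042 : sm gi N49749 = N51812 := rfl
theorem L706044 : sm ga N51812 = N49838 := ded_18_1 (flp_i L685531) (flp_a L684701) L706042
theorem L706046 : sm gc N51812 = N49752 := ded_33_1 (flp_i L684727) (flp_c L684703) L706042
theorem L706048 : sm ge N51812 = N49750 := ded_44_1 (flp_i L684709) L684699 L706042
theorem L706050 : sm gg N51812 = N50577 := ded_51_1 (flp_i L692279) (flp_g L684705) L706042
theorem L706052 : sm gh N49750 = N51813 := rfl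
theorem L706054 : sm ga N51813 = N49839 := ded_17_1 (flp_h L685539) (flp_a L684711) L706052
theorem L706056 : sm gc N51813 = N49753 := ded_32_1 (flp_h L684735) (flp_c L684713) L706052
theorem L706058 : sm gf N51813 = N49762 := ded_47_1 (flp_h L684826) (flp_f L684717) L706052
theorem L706060 : sm gg N51813 = N50578 := ded_50_1 (flp_h L692287) (flp_g L684719) L706052
theorem L706062 : sm gd N51813 = N50614 := ded_38_1 (flp_h L692569) L670639 (flp_h L662462) (flp_d L684715) L706052
theorem L706064 : sm gi N51813 = N50668 := ded_54_2 L692969 L671312 (flp_h L662180) L684709 L706052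
theorem L706066 : sm gi N49751 = N51814 := rfl
theorem L706068 : sm ga N51814 = N49841 := ded_18_1 (flp_i L685553) (flp_a L684723) L706066
theorem L706070 : sm ge N51814 = N49763 := ded_44_1 (flp_i L684838) (flp_e L684725) L706066
theorem L706072 : sm gf N51814 = N49752 := ded_48_1 (flp_i L684727) L684721 L706066
theorem L706074 : sm gh N49752 = N51815 := rfl
theorem L706076 : sm ga N51815 = N49842 := ded_17_1 (flp_h L685559) (flp_a L684729) L706074
theorem L706078 : sm ge N51815 = N49753 := ded_43_1 (flp_h L684735) (flp_e L684731) L706074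
theorem L706080 : sm gg N51815 = N50579 := ded_50_1 (flp_h L692295) (flp_g L684733) L706074
theorem L706082 : sm gf N49754 = N51816 := rfl
theorem L706084 : sm ga N51816 = N49846 := ded_14_1 (flp_f L685595) (flp_a L684745) L706082
theorem L706086 : sm gb N51816 = N50804 := ded_22_1 L694069 (flp_b L684747) L706082
theorem L706088 : sm gc N51816 = N49756 := ded_29_1 (flp_f L684770) (flp_c L684749) L706082
theorem L706090 : sm gd N51816 = N51816 := ded_35_1 (flp_f L706082) L684756 L706082
theorem L706091 : sm gj N51816 = N49760 := ded_46_2 (flp_f L684806) (flp_j L684752) L706082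
theorem L706093 : sm gh N51816 = N50744 := ded_47_2 (flp_f L693530) (flp_h L684754) L706082
theorem L706095 : sm gi N49754 = N51817 := rfl
theorem L706097 : sm ga N51817 = N49847 := ded_18_1 (flp_i L685602) (flp_a L684745) L706095
theorem L706099 : sm gb N51817 = N50806 := ded_26_1 (flp_i L694078) (flp_b L684747) L706095
theorem L706101 : sm gc N51817 = N49757 := ded_33_1 (flp_i L684778) (flp_c L684749) L706095
theorem L706103 : sm gd N51817 = N51817 := ded_39_1 (flp_i L706095) L684756 L706095
theorem L706104 : sm ge N51817 = N49755 := ded_44_1 (flp_i L684757) L684743 L706095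
theorem L706106 : sm gg N51817 = N51817 := ded_51_1 (flp_i L706095) L684751 L706095
theorem L706107 : sm gj N51817 = N49761 := ded_53_1 (flp_i L684815) (flp_j L684752) L706095
theorem L706109 : sm gh N49755 = N51818 := rfl
theorem L706111 : sm ga N51818 = N49848 := ded_17_1 (flp_h L685612) (flp_a L684759) L706109
theorem L706113 : sm gb N51818 = N50836 := ded_25_1 (flp_h L694324) (flp_b L684761) L706109
theorem L706115 : sm gc N51818 = N49758 := ded_32_1 (flp_h L684789) (flp_c L684763) L706109
theorem L706117 : sm gg N51818 = N51818 := ded_50_1 (flp_h L706109) L684767 L706109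
theorem L706118 : sm gj N51818 = N49762 := ded_52_1 (flp_h L684826) (flp_j L684768) L706109
theorem L706120 : sm gd N51818 = N50622 := ded_38_1 (flp_h L692635) L670682 (flp_h L662488) (flp_d L684765) L706109
theorem L706122 : sm gi N51818 = N50680 := ded_54_2 L693061 L671334 (flp_h L662207) L684757 L706109
theorem L706124 : sm gg N49756 = N51819 := rfl
theorem L706126 : sm ga N51819 = N49849 := ded_15_1 (flp_g L685619) (flp_a L684772) L706124
theorem L706128 : sm gd N51819 = N49768 := ded_36_1 (flp_g L684883) (flp_d L684774) L706124
theorem L706130 : sm gf N51819 = N51819 := ded_45_1 (flp_g L706124) (flp_f L684770) L662217 L684770 L706124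
theorem L706131 : sm gi N49756 = N51820 := rfl
theorem L706133 : sm ga N51820 = N49850 := ded_18_1 (flp_i L685624) (flp_a L684772) L706131
theorem L706135 : sm gd N51820 = N49769 := ded_39_1 (flp_i L684890) (flp_d L684774) L706131
theorem L706137 : sm gf N51820 = N49757 := ded_48_1 (flp_i L684778) L684770 L706131
theorem L706139 : sm gj N51820 = N49763 := ded_53_1 (flp_i L684838) (flp_j L684776) L706131
theorem L706141 : sm gh N49757 = N51821 := rfl
theorem L706143 : sm ga N51821 = N49851 := ded_17_1 (flp_h L685632) (flp_a L684780) L706141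
theorem L706145 : sm ge N51821 = N49758 := ded_43_1 (flp_h L684789) (flp_e L684784) L706141
theorem L706147 : sm gg N51821 = N51821 := ded_50_1 (flp_h L706141) L684786 L706141
theorem L706148 : sm gj N51821 = N49764 := ded_52_1 (flp_h L684846) (flp_j L684787) L706141
theorem L706150 : sm gh N49759 = N51822 := rfl
theorem L706152 : sm gb N51822 = N49762 := ded_25_1 (flp_h L684826) (flp_b L684798) L706150
theorem L706154 : sm gg N51822 = N49765 := ded_50_1 (flp_h L684854) (flp_g L684802) L706150
theorem L706156 : sm gj N51822 = N50836 := ded_52_1 (flp_h L694324) (flp_j L684804) L706150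
theorem L706158 : sm gd N51822 = N50627 := ded_38_1 (flp_h L692679) L670726 (flp_h L662512) (flp_d L684800) L706150
theorem L706160 : sm gi N51822 = N50690 := ded_54_2 L693137 L671358 (flp_h L662239) L684796 L706150
theorem L706162 : sm gi N49760 = N51823 := rfl
theorem L706164 : sm ga N51823 = N49857 := ded_18_1 (flp_i L685674) (flp_a L684808) L706162
theorem L706166 : sm gc N51823 = N49763 := ded_33_1 (flp_i L684838) (flp_c L684810) L706162
theorem L706168 : sm gd N51823 = N51823 := ded_39_1 (flp_i L706162) L684812 L706162
theorem L706169 : sm gf N51823 = N49761 := ded_48_1 (flp_i L684815) L684806 L706162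
theorem L706171 : sm gh N49761 = N51824 := rfl
theorem L706173 : sm ga N51824 = N49858 := ded_17_1 (flp_h L685681) (flp_a L684817) L706171
theorem L706175 : sm gc N51824 = N49764 := ded_32_1 (flp_h L684846) (flp_c L684819) L706171
theorem L706177 : sm ge N51824 = N49762 := ded_43_1 (flp_h L684826) (flp_e L684822) L706171
theorem L706179 : sm gg N51824 = N49766 := ded_50_1 (flp_h L684865) (flp_g L684824) L706171
theorem L706181 : sm gi N51824 = N50695 := ded_54_2 L693173 L671364 (flp_h L662249) L684815 L706171
theorem L706183 : sm gh N49763 = N51825 := rfl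
theorem L706185 : sm ga N51825 = N49862 := ded_17_1 (flp_h L685715) (flp_a L684840) L706183
theorem L706187 : sm gf N51825 = N49764 := ded_47_1 (flp_h L684846) (flp_f L684844) L706183
theorem L706189 : sm gd N49764 = N51826 := rfl
theorem L706191 : sm ga N51826 = N49863 := ded_12_1 (flp_d L685719) (flp_a L684848) L706189
theorem L706193 : sm gg N51826 = N49767 := ded_36_2 (flp_d L684876) (flp_g L684852) L706189
theorem L706195 : sm gh N51826 = N49772 := ded_38_2 (flp_d L684918) (flp_h L662357) (flp_d L662272) L684846 L706189
theorem L706197 : sm gd N49766 = N51827 := rfl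
theorem L706199 : sm ga N51827 = N49872 := ded_12_1 (flp_d L685803) (flp_a L684867) L706197
theorem L706201 : sm gj N51827 = N51827 := ded_37_2 (flp_d L706197) L684873 L706197
theorem L706202 : sm gi N51827 = N50706 := ded_39_2 L693254 (flp_i L684874) L706197
theorem L706204 : sm ge N51827 = N50639 := ded_34_2 (flp_d L692775) L670817 (flp_d L662312) (flp_e L684871) L706197
theorem L706206 : sm gh N51827 = N51827 := ded_38_2 (flp_d L706197) (flp_h L684865) L662299 L684865 L706197
theorem L706207 : sm gc N49767 = N51828 := rfl
theorem L706209 : sm ga N51828 = N49877 := ded_11_1 (flp_c L685840) (flp_a L684878) L706207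
theorem L706211 : sm gj N51828 = N51828 := ded_31_2 (flp_c L706207) L684880 L706207
theorem L706212 : sm gh N51828 = N49773 := ded_32_2 (flp_c L684925) (flp_h L684881) L706207
theorem L706214 : sm gi N49768 = N51829 := rfl
theorem L706216 : sm ga N51829 = N49879 := ded_18_1 (flp_i L685852) (flp_a L684885) L706214
theorem L706218 : sm gc N51829 = N51829 := ded_33_1 (flp_i L706214) L684887 L706214
theorem L706219 : sm gf N51829 = N51829 := ded_48_1 (flp_i L706214) L684889 L706214
theorem L706220 : sm gg N51829 = N49769 := ded_51_1 (flp_i L684890) L684883 L706214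
theorem L706222 : sm gh N49769 = N51830 := rfl
theorem L706224 : sm ga N51830 = N49880 := ded_17_1 (flp_h L685858) (flp_a L684892) L706222
theorem L706226 : sm gc N51830 = N51830 := ded_32_1 (flp_h L706222) L684894 L706222
theorem L706227 : sm gf N51830 = N49770 := ded_47_1 (flp_h L684899) (flp_f L684895) L706222
theorem L706229 : sm gj N51830 = N49771 := ded_52_1 (flp_h L684910) (flp_j L684897) L706222
theorem L706231 : sm gi N51830 = N51830 := ded_54_2 (flp_h L706222) (flp_i L684890) L662330 L684890 L706222
theorem L706232 : sm gd N49770 = N51831 := rfl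
theorem L706234 : sm ga N51831 = N49881 := ded_12_1 (flp_d L685866) (flp_a L684901) L706232
theorem L706236 : sm gg N51831 = N51831 := ded_36_2 (flp_d L706232) L684906 L706232
theorem L706237 : sm gj N51831 = N49772 := ded_37_2 (flp_d L684918) (flp_j L684907) L706232
theorem L706239 : sm gi N51831 = N51831 := ded_39_2 (flp_d L706232) L684909 L706232
theorem L706240 : sm gd N49771 = N51832 := rfl
theorem L706242 : sm ga N51832 = N49884 := ded_12_1 (flp_d L685887) (flp_a L684912) L706240
theorem L706244 : sm gf N51832 = N49772 := ded_35_2 (flp_d L684918) (flp_f L684915) L706240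
theorem L706246 : sm gi N51832 = N51832 := ded_39_2 (flp_d L706240) L684917 L706240
theorem L706247 : sm gc N49772 = N51833 := rfl
theorem L706249 : sm ga N51833 = N49885 := ded_11_1 (flp_c L685892) (flp_a L684920) L706247
theorem L706251 : sm gg N51833 = N49773 := ded_30_2 (flp_c L684925) (flp_g L684922) L706247
theorem L706253 : sm gi N51833 = N51833 := ded_33_2 (flp_c L706247) L684924 L706247
theorem L706254 : sm gd N51833 = N51833 := ded_27_2 (flp_c L706247) (flp_d L684918) L662361 L684918 L706247
theorem L706255 : sm ge N49774 = N51834 := rfl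
theorem L706257 : sm ga N51834 = N49891 := ded_13_1 (flp_e L685945) (flp_a L684934) L706255
theorem L706259 : sm gb N51834 = N49952 := ded_21_1 L686709 L684943 L706255
theorem L706261 : sm gc N51834 = N49775 := ded_28_1 (flp_e L684945) L684932 L706255
theorem L706263 : sm gg N51834 = N49777 := ded_41_2 (flp_e L684972) (flp_g L684937) L706255
theorem L706265 : sm gj N51834 = N49955 := ded_42_2 L686751 (flp_j L684939) L706255
theorem L706267 : sm gh N51834 = N49932 := ded_43_2 (flp_e L686449) (flp_h L684941) L706255
theorem L706269 : sm gf N49962 = N51834 := ded_14_0 L706257 (flp_f L685957) (flp_a L686818)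
theorem L706271 : sm gi N49774 = N51835 := rfl
theorem L706273 : sm ga N51835 = N49892 := ded_18_1 (flp_i L685959) (flp_a L684934) L706271
theorem L706275 : sm gb N51835 = N49957 := ded_26_1 (flp_i L686767) L684943 L706271
theorem L706277 : sm gc N51835 = N49776 := ded_33_1 (flp_i L684958) L684932 L706271
theorem L706279 : sm gf N51835 = N51835 := ded_48_1 (flp_i L706271) L684936 L706271
theorem L706280 : sm gg N51835 = N49778 := ded_51_1 (flp_i L684985) (flp_g L684937) L706271
theorem L706282 : sm gj N51835 = N50586 := ded_53_1 (flp_i L692351) (flp_j L684939) L706271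
theorem L706284 : sm gh N51835 = N50732 := ded_54_1 (flp_i L693447) L671500 (flp_i L663756) (flp_h L684941) L706271
theorem L706286 : sm gi N49775 = N51836 := rfl
theorem L706288 : sm ga N51836 = N49893 := ded_18_1 (flp_i L685968) (flp_a L684947) L706286
theorem L706290 : sm gb N51836 = N51836 := ded_26_1 (flp_i L706286) L684949 L706286
theorem L706291 : sm ge N51836 = N49776 := ded_44_1 (flp_i L684958) L684945 L706286
theorem L706293 : sm gf N51836 = N49923 := ded_48_1 L686339 L684956 L706286
theorem L706295 : sm gg N51836 = N49779 := ded_51_1 (flp_i L684999) (flp_g L684950) L706286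
theorem L706297 : sm gj N51836 = N49920 := ded_53_1 L686299 (flp_j L684952) L706286
theorem L706299 : sm gh N51836 = N49918 := ded_54_1 (flp_i L686259) L663440 (flp_i L663771) (flp_h L684954) L706286
theorem L706301 : sm gd N49777 = N51837 := rfl
theorem L706303 : sm ga N51837 = N49898 := ded_12_1 (flp_d L686040) (flp_a L684974) L706301
theorem L706305 : sm gb N51837 = N50739 := ded_20_1 L693502 (flp_b L684976) L706301
theorem L706307 : sm gf N51837 = N51837 := ded_35_2 (flp_d L706301) L684984 L706301
theorem L706308 : sm gj N51837 = N49783 := ded_37_2 (flp_d L685049) (flp_j L684980) L706301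
theorem L706310 : sm gh N51837 = N50737 := ded_38_2 (flp_d L693486) L671556 (flp_d L663788) (flp_h L684982) L706301
theorem L706312 : sm gi N49777 = N51838 := rfl
theorem L706314 : sm ga N51838 = N49899 := ded_18_1 (flp_i L686045) (flp_a L684974) L706312
theorem L706316 : sm gb N51838 = N50742 := ded_26_1 (flp_i L693520) (flp_b L684976) L706312
theorem L706318 : sm gc N51838 = N49779 := ded_33_1 (flp_i L684999) (flp_c L684978) L706312
theorem L706320 : sm ge N51838 = N49778 := ded_44_1 (flp_i L684985) L684972 L706312
theorem L706322 : sm gf N51838 = N51838 := ded_48_1 (flp_i L706312) L684984 L706312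
theorem L706323 : sm gj N51838 = N49784 := ded_53_1 (flp_i L685056) (flp_j L684980) L706312
theorem L706325 : sm gh N51838 = N50735 := ded_54_1 (flp_i L693470) L671525 (flp_i L663786) (flp_h L684982) L706312
theorem L706327 : sm ge N49780 = N51839 := rfl
theorem L706329 : sm ga N51839 = N49781 := ded_13_1 (flp_e L685024) L685011 L706327
theorem L706331 : sm gb N51839 = N49902 := ded_21_1 (flp_e L686081) (flp_b L685022) L706327
theorem L706333 : sm gc N51839 = N51839 := ded_28_1 (flp_e L706327) L685013 L706327
theorem L706334 : sm gg N51839 = N49943 := ded_41_2 L686583 (flp_g L685016) L706327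
theorem L706336 : sm gj N51839 = N49958 := ded_42_2 L686780 (flp_j L685018) L706327
theorem L706338 : sm gh N51839 = N49933 := ded_43_2 (flp_e L686467) (flp_h L685020) L706327
theorem L706340 : sm gf N51839 = N51839 := ded_40_2 (flp_e L706327) L685014 L662493 (flp_f L685014) L706327
theorem L706341 : sm gi N49780 = N51840 := rfl
theorem L706343 : sm ga N51840 = N49782 := ded_18_1 (flp_i L685036) L685011 L706341
theorem L706345 : sm gb N51840 = N49903 := ded_26_1 (flp_i L686094) (flp_b L685022) L706341
theorem L706347 : sm gc N51840 = N51840 := ded_33_1 (flp_i L706341) L685013 L706341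
theorem L706348 : sm gf N51840 = N49785 := ded_48_1 (flp_i L685069) (flp_f L685014) L706341
theorem L706350 : sm gg N51840 = N50589 := ded_51_1 (flp_i L692383) (flp_g L685016) L706341
theorem L706352 : sm gj N51840 = N50719 := ded_53_1 (flp_i L693344) (flp_j L685018) L706341
theorem L706354 : sm gh N51840 = N50736 := ded_54_1 (flp_i L693479) L671549 (flp_i L663802) (flp_h L685020) L706341
theorem L706356 : sm gd N49781 = N51841 := rfl
theorem L706358 : sm gb N51841 = N49783 := ded_20_1 (flp_d L685049) (flp_b L685026) L706356
theorem L706360 : sm gf N51841 = N51841 := ded_35_2 (flp_d L706356) L685035 L706356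
theorem L706361 : sm gg N51841 = N50590 := ded_36_2 (flp_d L692392) (flp_g L685029) L706356
theorem L706363 : sm gj N51841 = N50739 := ded_37_2 L693502 (flp_j L685031) L706356
theorem L706365 : sm gh N51841 = N50734 := ded_38_2 (flp_d L693465) L671525 (flp_d L663817) (flp_h L685033) L706356
theorem L706367 : sm gi N49781 = N51842 := rfl
theorem L706369 : sm gb N51842 = N49784 := ded_26_1 (flp_i L685056) (flp_b L685026) L706367
theorem L706371 : sm gc N51842 = N51842 := ded_33_1 (flp_i L706367) L685028 L706367
theorem L706372 : sm ge N51842 = N49782 := ded_44_1 (flp_i L685036) L685024 L706367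
theorem L706374 : sm gf N51842 = N51842 := ded_48_1 (flp_i L706367) L685035 L706367
theorem L706375 : sm gg N51842 = N50591 := ded_51_1 (flp_i L692398) (flp_g L685029) L706367
theorem L706377 : sm gj N51842 = N50742 := ded_53_1 (flp_i L693520) (flp_j L685031) L706367
theorem L706379 : sm gh N51842 = N50738 := ded_54_1 (flp_i L693491) L671556 (flp_i L663815) (flp_h L685033) L706367
theorem L706381 : sm gh N49783 = N51843 := rfl
theorem L706383 : sm ga N51843 = N49907 := ded_17_1 (flp_h L686138) (flp_a L685051) L706381
theorem L706385 : sm gb N51843 = N50734 := ded_25_1 (flp_h L706365) L706358 L706381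
theorem L706387 : sm gf N51843 = N51843 := ded_47_1 (flp_h L706381) L685053 L706381
theorem L706388 : sm gg N51843 = N50592 := ded_50_1 (flp_h L692407) (flp_g L685054) L706381
theorem L706390 : sm gj N51843 = N50737 := ded_52_1 (flp_h L706310) L706308 L706381
theorem L706392 : sm gd N51843 = N49934 := ded_38_1 (flp_h L686483) (flp_d L663820) (flp_h L662449) L685049 L706381
theorem L706394 : sm gi N49783 = N51844 := rfl
theorem L706396 : sm ga N51844 = N49908 := ded_18_1 (flp_i L686145) (flp_a L685051) L706394
theorem L706398 : sm gd N51844 = N49784 := ded_39_1 (flp_i L685056) L685049 L706394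
theorem L706400 : sm gf N51844 = N51844 := ded_48_1 (flp_i L706394) L685053 L706394
theorem L706401 : sm gg N51844 = N50593 := ded_51_1 (flp_i L692415) (flp_g L685054) L706394
theorem L706403 : sm gd N49786 = N51845 := rfl
theorem L706405 : sm ga N51845 = N50515 := ded_12_1 L691783 (flp_a L685085) L706403
theorem L706407 : sm gb N51845 = N50631 := ded_20_1 L692715 (flp_b L685087) L706403
theorem L706409 : sm gf N51845 = N50197 := ded_35_2 L689286 (flp_f L685093) L706403
theorem L706411 : sm gg N51845 = N49787 := ded_36_2 (flp_d L685099) (flp_g L685095) L706403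
theorem L706413 : sm gj N51845 = N50190 := ded_37_2 L689213 (flp_j L685097) L706403
theorem L706415 : sm gh N51845 = N50236 := ded_38_2 L689614 L667288 (flp_d L662535) L685083 L706403
theorem L706417 : sm gi N49786 = N51846 := rfl
theorem L706419 : sm ga N51846 = N50547 := ded_18_1 (flp_i L692017) (flp_a L685085) L706417
theorem L706421 : sm gb N51846 = N50842 := ded_26_1 (flp_i L694360) (flp_b L685087) L706417
theorem L706423 : sm gc N51846 = N49935 := ded_33_1 (flp_i L686497) (flp_c L685089) L706417
theorem L706425 : sm ge N51846 = N49793 := ded_44_1 (flp_i L685142) (flp_e L685091) L706417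
theorem L706427 : sm gf N51846 = N50554 := ded_48_1 (flp_i L692084) (flp_f L685093) L706417
theorem L706429 : sm gg N51846 = N49788 := ded_51_1 (flp_i L685104) (flp_g L685095) L706417
theorem L706431 : sm gj N51846 = N50550 := ded_53_1 (flp_i L692041) (flp_j L685097) L706417
theorem L706433 : sm gc N49787 = N51847 := rfl
theorem L706435 : sm ga N51847 = N50261 := ded_11_1 (flp_c L705714) L705705 L706433
theorem L706437 : sm gf N51847 = N51847 := ded_29_2 (flp_c L706433) L685101 L706433
theorem L706438 : sm gj N51847 = N49789 := ded_31_2 (flp_c L685113) (flp_j L685102) L706433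
theorem L706440 : sm gd N51847 = N49936 := ded_27_2 (flp_c L686510) (flp_d L663849) (flp_c L662545) L685099 L706433
theorem L706442 : sm ge N49787 = N51848 := rfl
theorem L706444 : sm gj N51848 = N49790 := ded_42_2 (flp_e L685120) (flp_j L685102) L706442
theorem L706446 : sm gd N51848 = N49795 := ded_34_1 (flp_e L685163) (flp_d L662575) (flp_e L662547) L685099 L706442
theorem L706448 : sm gi N49787 = N51849 := rfl
theorem L706450 : sm gd N51849 = N49788 := ded_39_1 (flp_i L685104) L685099 L706448
theorem L706452 : sm gf N51849 = N51849 := ded_48_1 (flp_i L706448) L685101 L706448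
theorem L706453 : sm gj N51849 = N49791 := ded_53_1 (flp_i L685126) (flp_j L685102) L706448
theorem L706455 : sm gb N49789 = N51850 := rfl
theorem L706457 : sm gd N51850 = N49938 := ded_20_2 (flp_b L686532) (flp_d L685118) L706455
theorem L706459 : sm gf N51850 = N51850 := ded_22_2 (flp_b L706455) L685115 L706455
theorem L706460 : sm gg N51850 = N50595 := ded_23_2 (flp_b L692437) (flp_g L685116) L706455
theorem L706462 : sm ge N49789 = N51851 := rfl
theorem L706464 : sm gc N51851 = N49790 := ded_28_1 (flp_e L685120) L685113 L706462
theorem L706466 : sm gg N51851 = N50596 := ded_41_2 (flp_e L692443) (flp_g L685116) L706462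
theorem L706468 : sm gi N49789 = N51852 := rfl
theorem L706470 : sm gc N51852 = N49791 := ded_33_1 (flp_i L685126) L685113 L706468
theorem L706472 : sm gd N51852 = N49940 := ded_39_1 (flp_i L686552) (flp_d L685118) L706468
theorem L706474 : sm gf N51852 = N51852 := ded_48_1 (flp_i L706468) L685115 L706468
theorem L706475 : sm gg N51852 = N50597 := ded_51_1 (flp_i L692447) (flp_g L685116) L706468
theorem L706477 : sm gf N49790 = N51853 := rfl
theorem L706479 : sm gd N51853 = N49800 := ded_35_1 (flp_f L685209) (flp_d L685124) L706477
theorem L706481 : sm ge N51853 = N51853 := ded_40_1 (flp_f L706477) (flp_e L685120) L662554 L685120 L706477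
theorem L706482 : sm gi N49790 = N51854 := rfl
theorem L706484 : sm gd N51854 = N49801 := ded_39_1 (flp_i L685215) (flp_d L685124) L706482
theorem L706486 : sm ge N51854 = N49791 := ded_44_1 (flp_i L685126) L685120 L706482
theorem L706488 : sm gg N51854 = N50598 := ded_51_1 (flp_i L692455) (flp_g L685122) L706482
theorem L706490 : sm gh N49791 = N51855 := rfl
theorem L706492 : sm gf N51855 = N51855 := ded_47_1 (flp_h L706490) L685130 L706490
theorem L706493 : sm gg N51855 = N50599 := ded_50_1 (flp_h L692461) (flp_g L685131) L706490
theorem L706495 : sm gc N49792 = N51856 := rfl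
theorem L706497 : sm ga N51856 = N49904 := ded_11_1 (flp_c L705774) L705765 L706495
theorem L706499 : sm gf N51856 = N51856 := ded_29_2 (flp_c L706495) L685135 L706495
theorem L706500 : sm gg N51856 = N49794 := ded_30_2 (flp_c L685151) (flp_g L685136) L706495
theorem L706502 : sm gj N51856 = N50600 := ded_31_2 (flp_c L692465) (flp_j L685138) L706495
theorem L706504 : sm gh N51856 = N49824 := ded_32_2 (flp_c L685429) (flp_h L685140) L706495
theorem L706506 : sm gd N51856 = N49902 := ded_27_2 L686085 (flp_d L663480) (flp_c L662568) L685133 L706495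
theorem L706508 : sm ge N49792 = N51857 := rfl
theorem L706510 : sm gg N51857 = N49795 := ded_41_2 (flp_e L685163) (flp_g L685136) L706508
theorem L706512 : sm gj N51857 = N50601 := ded_42_2 (flp_e L692474) (flp_j L685138) L706508
theorem L706514 : sm gh N51857 = N49825 := ded_43_2 (flp_e L685438) (flp_h L685140) L706508
theorem L706516 : sm gi N49792 = N51858 := rfl
theorem L706518 : sm gd N51858 = N49793 := ded_39_1 (flp_i L685142) L685133 L706516
theorem L706520 : sm gf N51858 = N51858 := ded_48_1 (flp_i L706516) L685135 L706516
theorem L706521 : sm gg N51858 = N49796 := ded_51_1 (flp_i L685169) (flp_g L685136) L706516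
theorem L706523 : sm gj N51858 = N50602 := ded_53_1 (flp_i L692480) (flp_j L685138) L706516
theorem L706525 : sm gb N49794 = N51859 := rfl
theorem L706527 : sm gd N51859 = N49943 := ded_20_2 (flp_b L686581) (flp_d L685161) L706525
theorem L706529 : sm gf N51859 = N49803 := ded_22_2 (flp_b L685229) (flp_f L685155) L706525
theorem L706531 : sm gj N51859 = N49797 := ded_24_2 (flp_b L685177) (flp_j L685157) L706525
theorem L706533 : sm gh N51859 = N49827 := ded_25_2 (flp_b L685453) (flp_h L685159) L706525
theorem L706535 : sm ga N51859 = N50590 := ded_10_1 L692394 L670508 (flp_b L671290) (flp_a L685153) L706525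
theorem L706537 : sm ge N49794 = N51860 := rfl
theorem L706539 : sm ga N51860 = N50658 := ded_13_1 L692909 (flp_a L685153) L706537
theorem L706541 : sm gc N51860 = N49795 := ded_28_1 (flp_e L685163) L685151 L706537
theorem L706543 : sm gj N51860 = N49798 := ded_42_2 (flp_e L685187) (flp_j L685157) L706537
theorem L706545 : sm gh N51860 = N49828 := ded_43_2 (flp_e L685461) (flp_h L685159) L706537
theorem L706547 : sm gd N51860 = N50656 := ded_34_1 (flp_e L692891) L670904 (flp_e L663908) (flp_d L685161) L706537
theorem L706549 : sm gi N49794 = N51861 := rfl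
theorem L706551 : sm ga N51861 = N50710 := ded_18_1 L693288 (flp_a L685153) L706549
theorem L706553 : sm gc N51861 = N49796 := ded_33_1 (flp_i L685169) L685151 L706549
theorem L706555 : sm gd N51861 = N49944 := ded_39_1 (flp_i L686594) (flp_d L685161) L706549
theorem L706557 : sm gf N51861 = N49805 := ded_48_1 (flp_i L685253) (flp_f L685155) L706549
theorem L706559 : sm gj N51861 = N49799 := ded_53_1 (flp_i L685197) (flp_j L685157) L706549
theorem L706561 : sm gf N49795 = N51862 := rfl
theorem L706563 : sm gj N51862 = N49800 := ded_46_2 (flp_f L685209) (flp_j L685165) L706561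
theorem L706565 : sm gh N51862 = N49830 := ded_47_2 (flp_f L685477) (flp_h L685167) L706561
theorem L706567 : sm ge N51862 = N49806 := ded_40_1 (flp_f L685264) (flp_e L662628) (flp_f L662577) L685163 L706561
theorem L706569 : sm gi N49795 = N51863 := rfl
theorem L706571 : sm ge N51863 = N49796 := ded_44_1 (flp_i L685169) L685163 L706569
theorem L706573 : sm gj N51863 = N49801 := ded_53_1 (flp_i L685215) (flp_j L685165) L706569
theorem L706575 : sm gh N49796 = N51864 := rfl
theorem L706577 : sm gf N51864 = N49808 := ded_47_1 (flp_h L685279) (flp_f L685173) L706575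
theorem L706579 : sm gj N51864 = N49802 := ded_52_1 (flp_h L685221) (flp_j L685175) L706575
theorem L706581 : sm gi N51864 = N49832 := ded_54_2 (flp_h L685489) (flp_i L662789) (flp_h L662581) L685169 L706575
theorem L706583 : sm ge N49797 = N51865 := rfl
theorem L706585 : sm gb N51865 = N49798 := ded_21_1 (flp_e L685187) L685177 L706583
theorem L706587 : sm gg N51865 = N50609 := ded_41_2 (flp_e L692537) (flp_g L685183) L706583
theorem L706589 : sm gh N51865 = N49834 := ded_43_2 (flp_e L685503) (flp_h L685185) L706583
theorem L706591 : sm gi N49797 = N51866 := rfl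
theorem L706593 : sm gb N51866 = N49799 := ded_26_1 (flp_i L685197) L685177 L706591
theorem L706595 : sm gd N51866 = N49947 := ded_39_1 (flp_i L686638) (flp_d L685179) L706591
theorem L706597 : sm gf N51866 = N49809 := ded_48_1 (flp_i L685286) (flp_f L685181) L706591
theorem L706599 : sm gg N51866 = N50610 := ded_51_1 (flp_i L692543) (flp_g L685183) L706591
theorem L706601 : sm gd N49798 = N51867 := rfl
theorem L706603 : sm ga N51867 = N50647 := ded_12_1 L692829 (flp_a L685189) L706601
theorem L706605 : sm gg N51867 = N50611 := ded_36_2 (flp_d L692551) (flp_g L685193) L706601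
theorem L706607 : sm gj N51867 = N50656 := ded_37_2 (flp_d L706547) L706543 L706601
theorem L706609 : sm ge N51867 = N49948 := ded_34_2 (flp_d L686649) (flp_e L663940) (flp_d L662601) L685187 L706601
theorem L706611 : sm gf N49798 = N51868 := rfl
theorem L706613 : sm ga N51868 = N50743 := ded_14_1 (flp_f L693526) (flp_a L685189) L706611
theorem L706615 : sm gc N51868 = N49800 := ded_29_1 (flp_f L685209) (flp_c L685191) L706611
theorem L706617 : sm gh N51868 = N49837 := ded_47_2 (flp_f L685525) (flp_h L685195) L706611
theorem L706619 : sm ge N51868 = N49810 := ded_40_1 (flp_f L685294) (flp_e L662651) (flp_f L662595) L685187 L706611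
theorem L706621 : sm gi N49798 = N51869 := rfl
theorem L706623 : sm ga N51869 = N50713 := ded_18_1 L693302 (flp_a L685189) L706621
theorem L706625 : sm gc N51869 = N49801 := ded_33_1 (flp_i L685215) (flp_c L685191) L706621
theorem L706627 : sm ge N51869 = N49799 := ded_44_1 (flp_i L685197) L685187 L706621
theorem L706629 : sm gg N51869 = N50613 := ded_51_1 (flp_i L692563) (flp_g L685193) L706621
theorem L706631 : sm gh N49799 = N51870 := rfl
theorem L706633 : sm ga N51870 = N50668 := ded_17_1 L692969 (flp_a L685199) L706631
theorem L706635 : sm gc N51870 = N49802 := ded_32_1 (flp_h L685221) (flp_c L685201) L706631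
theorem L706637 : sm gf N51870 = N49812 := ded_47_1 (flp_h L685316) (flp_f L685205) L706631
theorem L706639 : sm gg N51870 = N50614 := ded_50_1 (flp_h L692569) (flp_g L685207) L706631
theorem L706641 : sm gd N51870 = N50578 := ded_38_1 (flp_h L692287) L670339 (flp_h L663964) (flp_d L685203) L706631
theorem L706643 : sm gi N51870 = N49839 := ded_54_2 (flp_h L685539) (flp_i L662811) (flp_h L662599) L685197 L706631
theorem L706645 : sm gg N49800 = N51871 := rfl
theorem L706647 : sm ge N51871 = N49813 := ded_41_1 (flp_g L685328) (flp_e L685213) L706645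
theorem L706649 : sm gh N51871 = N49840 := ded_50_2 (flp_g L685547) (flp_h L685211) L706645
theorem L706651 : sm gf N51871 = N50615 := ded_45_1 (flp_g L692577) (flp_f L670643) (flp_g L662605) L685209 L706645
theorem L706653 : sm gi N49800 = N51872 := rfl
theorem L706655 : sm ge N51872 = N49814 := ded_44_1 (flp_i L685335) (flp_e L685213) L706653
theorem L706657 : sm gf N51872 = N49801 := ded_48_1 (flp_i L685215) L685209 L706653
theorem L706659 : sm gh N49801 = N51873 := rfl
theorem L706661 : sm ge N51873 = N49802 := ded_43_1 (flp_h L685221) (flp_e L685217) L706659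
theorem L706663 : sm gg N51873 = N50617 := ded_50_1 (flp_h L692589) (flp_g L685219) L706659
theorem L706665 : sm gi N51873 = N49842 := ded_54_2 (flp_h L685559) (flp_i L662825) (flp_h L662607) L685215 L706659
theorem L706667 : sm gi N49803 = N51874 := rfl
theorem L706669 : sm ga N51874 = N50793 := ded_18_1 (flp_i L693975) (flp_a L685238) L706667
theorem L706671 : sm gb N51874 = N49805 := ded_26_1 (flp_i L685253) L685229 L706667
theorem L706673 : sm gd N51874 = N49950 := ded_39_1 (flp_i L686675) (flp_d L685231) L706667
theorem L706675 : sm gg N51874 = N51874 := ded_51_1 (flp_i L706667) L685233 L706667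
theorem L706676 : sm gj N51874 = N49809 := ded_53_1 (flp_i L685286) (flp_j L685234) L706667
theorem L706678 : sm gf N49804 = N51875 := rfl
theorem L706680 : sm ga N51875 = N50744 := ded_14_1 (flp_f L693530) (flp_a L685242) L706678
theorem L706682 : sm gc N51875 = N49806 := ded_29_1 (flp_f L685264) (flp_c L685244) L706678
theorem L706684 : sm gd N51875 = N50799 := ded_35_1 (flp_f L694021) (flp_d L685251) L706678
theorem L706686 : sm gj N51875 = N49810 := ded_46_2 (flp_f L685294) (flp_j L685247) L706678
theorem L706688 : sm gh N51875 = N49846 := ded_47_2 (flp_f L685595) (flp_h L685249) L706678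
theorem L706690 : sm gi N49804 = N51876 := rfl
theorem L706692 : sm ga N51876 = N50714 := ded_18_1 L693311 (flp_a L685242) L706690
theorem L706694 : sm gc N51876 = N49807 := ded_33_1 (flp_i L685271) (flp_c L685244) L706690
theorem L706696 : sm gd N51876 = N50797 := ded_39_1 L694012 (flp_d L685251) L706690
theorem L706698 : sm ge N51876 = N49805 := ded_44_1 (flp_i L685253) L685240 L706690
theorem L706700 : sm gg N51876 = N51876 := ded_51_1 (flp_i L706690) L685246 L706690
theorem L706701 : sm gj N51876 = N49811 := ded_53_1 (flp_i L685304) (flp_j L685247) L706690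
theorem L706703 : sm gh N49805 = N51877 := rfl
theorem L706705 : sm ga N51877 = N50680 := ded_17_1 L693061 (flp_a L685255) L706703
theorem L706707 : sm gc N51877 = N49808 := ded_32_1 (flp_h L685279) (flp_c L685257) L706703
theorem L706709 : sm gg N51877 = N51877 := ded_50_1 (flp_h L706703) L685261 L706703
theorem L706710 : sm gj N51877 = N49812 := ded_52_1 (flp_h L685316) (flp_j L685262) L706703
theorem L706712 : sm gd N51877 = N50582 := ded_38_1 (flp_h L692319) L670368 (flp_h L664004) (flp_d L685259) L706703
theorem L706714 : sm gi N51877 = N49848 := ded_54_2 (flp_h L685612) (flp_i L662852) (flp_h L662624) L685253 L706703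
theorem L706716 : sm gg N49806 = N51878 := rfl
theorem L706718 : sm gd N51878 = N51878 := ded_36_1 (flp_g L706716) L685266 L706716
theorem L706719 : sm gh N51878 = N49849 := ded_50_2 (flp_g L685619) (flp_h L685269) L706716
theorem L706721 : sm gf N51878 = N51878 := ded_45_1 (flp_g L706716) (flp_f L685264) L662630 L685264 L706716
theorem L706722 : sm gi N49806 = N51879 := rfl
theorem L706724 : sm gd N51879 = N51879 := ded_39_1 (flp_i L706722) L685266 L706722
theorem L706725 : sm gf N51879 = N49807 := ded_48_1 (flp_i L685271) L685264 L706722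
theorem L706727 : sm gj N51879 = N49814 := ded_53_1 (flp_i L685335) (flp_j L685267) L706722
theorem L706729 : sm gh N49807 = N51880 := rfl
theorem L706731 : sm ge N51880 = N49808 := ded_43_1 (flp_h L685279) (flp_e L685274) L706729
theorem L706733 : sm gg N51880 = N51880 := ded_50_1 (flp_h L706729) L685276 L706729
theorem L706734 : sm gj N51880 = N49815 := ded_52_1 (flp_h L685340) (flp_j L685277) L706729
theorem L706736 : sm gi N51880 = N49851 := ded_54_2 (flp_h L685632) (flp_i L662867) (flp_h L662633) L685271 L706729
theorem L706738 : sm gh N49809 = N51881 := rfl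
theorem L706740 : sm gb N51881 = N49812 := ded_25_1 (flp_h L685316) (flp_b L685288) L706738
theorem L706742 : sm gg N51881 = N49816 := ded_50_1 (flp_h L685348) (flp_g L685292) L706738
theorem L706744 : sm gd N51881 = N50584 := ded_38_1 (flp_h L692338) L670392 (flp_h L664028) (flp_d L685290) L706738
theorem L706746 : sm gi N51881 = N49855 := ded_54_2 (flp_h L685661) (flp_i L662894) (flp_h L662649) L685286 L706738
theorem L706748 : sm gg N49810 = N51882 := rfl
theorem L706750 : sm ga N51882 = N50123 := ded_15_1 L688553 (flp_a L685296) L706748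
theorem L706752 : sm gb N51882 = N50209 := ded_23_1 (flp_g L698968) L698972 L706748
theorem L706754 : sm gc N51882 = N49813 := ded_30_1 (flp_g L685328) (flp_c L685298) L706748
theorem L706756 : sm gd N51882 = N50152 := ded_36_1 L688840 (flp_d L685300) L706748
theorem L706758 : sm gh N51882 = N49856 := ded_50_2 (flp_g L685667) (flp_h L685302) L706748
theorem L706760 : sm gf N51882 = N49817 := ded_45_1 (flp_g L685359) (flp_f L662700) (flp_g L662657) L685294 L706748
theorem L706762 : sm gi N49810 = N51883 := rfl
theorem L706764 : sm ga N51883 = N50715 := ded_18_1 L693319 (flp_a L685296) L706762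
theorem L706766 : sm gc N51883 = N49814 := ded_33_1 (flp_i L685335) (flp_c L685298) L706762
theorem L706768 : sm gd N51883 = N50798 := ded_39_1 L694019 (flp_d L685300) L706762
theorem L706770 : sm gf N51883 = N49811 := ded_48_1 (flp_i L685304) L685294 L706762
theorem L706772 : sm gh N49811 = N51884 := rfl
theorem L706774 : sm ga N51884 = N50695 := ded_17_1 L693173 (flp_a L685306) L706772
theorem L706776 : sm gc N51884 = N49815 := ded_32_1 (flp_h L685340) (flp_c L685308) L706772
theorem L706778 : sm ge N51884 = N49812 := ded_43_1 (flp_h L685316) (flp_e L685312) L706772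
theorem L706780 : sm gg N51884 = N49819 := ded_50_1 (flp_h L685388) (flp_g L685314) L706772
theorem L706782 : sm gi N51884 = N49858 := ded_54_2 (flp_h L685681) (flp_i L662907) (flp_h L662659) L685304 L706772
theorem L706784 : sm gj N49813 = N51885 := rfl
theorem L706786 : sm gd N51885 = N51885 := ded_37_1 (flp_j L706784) L685330 L706784
theorem L706787 : sm gf N51885 = N49820 := ded_46_1 (flp_j L685399) (flp_f L685333) L706784
theorem L706789 : sm gh N51885 = N49860 := ded_52_2 (flp_j L685701) (flp_h L685331) L706784
theorem L706791 : sm gi N49813 = N51886 := rfl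
theorem L706793 : sm gd N51886 = N51886 := ded_39_1 (flp_i L706791) L685330 L706791
theorem L706794 : sm gf N51886 = N49821 := ded_48_1 (flp_i L685407) (flp_f L685333) L706791
theorem L706796 : sm gg N51886 = N49814 := ded_51_1 (flp_i L685335) L685328 L706791
theorem L706798 : sm gh N49814 = N51887 := rfl
theorem L706800 : sm gf N51887 = N49815 := ded_47_1 (flp_h L685340) (flp_f L685338) L706798
theorem L706802 : sm gi N51887 = N49862 := ded_54_2 (flp_h L685715) (flp_i L662928) (flp_h L662676) L685335 L706798
theorem L706804 : sm gd N49815 = N51888 := rfl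
theorem L706806 : sm gg N51888 = N49823 := ded_36_2 (flp_d L685423) (flp_g L685344) L706804
theorem L706808 : sm gi N51888 = N49863 := ded_39_2 (flp_d L685719) (flp_i L685346) L706804
theorem L706810 : sm gh N51888 = N51888 := ded_38_2 (flp_d L706804) (flp_h L685340) L662680 L685340 L706804
theorem L706811 : sm gj N49817 = N51889 := rfl
theorem L706813 : sm ga N51889 = N50129 := ded_16_1 L688598 (flp_a L685361) L706811
theorem L706815 : sm gb N51889 = N50219 := ded_24_1 L689461 (flp_b L685363) L706811
theorem L706817 : sm gc N51889 = N49820 := ded_31_1 (flp_j L685399) (flp_c L685365) L706811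
theorem L706819 : sm gd N51889 = N50159 := ded_37_1 L688908 (flp_d L685367) L706811
theorem L706821 : sm ge N51889 = N50636 := ded_42_1 (flp_j L692751) (flp_e L685369) L706811
theorem L706823 : sm gh N51889 = N49869 := ded_52_2 (flp_j L685777) (flp_h L685371) L706811
theorem L706825 : sm gg N51889 = N51889 := ded_49_1 (flp_j L706811) (flp_g L685359) L662710 L685359 L706811
theorem L706826 : sm gi N49817 = N51890 := rfl
theorem L706828 : sm ga N51890 = N50135 := ded_18_1 (flp_i L688657) (flp_a L685361) L706826
theorem L706830 : sm gb N51890 = N50228 := ded_26_1 (flp_i L689546) (flp_b L685363) L706826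
theorem L706832 : sm gc N51890 = N49821 := ded_33_1 (flp_i L685407) (flp_c L685365) L706826
theorem L706834 : sm gd N51890 = N50162 := ded_39_1 (flp_i L688933) (flp_d L685367) L706826
theorem L706836 : sm ge N51890 = N50637 := ded_44_1 (flp_i L692759) (flp_e L685369) L706826
theorem L706838 : sm gg N51890 = N49818 := ded_51_1 (flp_i L685373) L685359 L706826
theorem L706840 : sm gh N49818 = N51891 := rfl
theorem L706842 : sm ga N51891 = N50141 := ded_17_1 (flp_h L688713) (flp_a L685375) L706840
theorem L706844 : sm gb N51891 = N50240 := ded_25_1 (flp_h L689648) (flp_b L685377) L706840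
theorem L706846 : sm gc N51891 = N49822 := ded_32_1 (flp_h L685414) (flp_c L685379) L706840
theorem L706848 : sm ge N51891 = N50638 := ded_43_1 (flp_h L692766) (flp_e L685383) L706840
theorem L706850 : sm gf N51891 = N49819 := ded_47_1 (flp_h L685388) (flp_f L685385) L706840
theorem L706852 : sm gj N51891 = N51891 := ded_52_1 (flp_h L706840) L685387 L706840
theorem L706853 : sm gi N51891 = N49871 := ded_54_2 (flp_h L685794) (flp_i L662985) (flp_h L662711) L685373 L706840
theorem L706855 : sm gd N49819 = N51892 := rfl
theorem L706857 : sm ga N51892 = N50706 := ded_12_1 L693254 (flp_a L685390) L706855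
theorem L706859 : sm gj N51892 = N51892 := ded_37_2 (flp_d L706855) L685396 L706855
theorem L706860 : sm gi N51892 = N49872 := ded_39_2 (flp_d L685803) (flp_i L685397) L706855
theorem L706862 : sm ge N51892 = N50083 := ded_34_2 (flp_d L688136) L665921 (flp_d L662735) (flp_e L685394) L706855
theorem L706864 : sm gh N51892 = N50095 := ded_38_2 L688266 L672334 (flp_d L662721) L685388 L706855
theorem L706866 : sm gc N50249 = N51892 := ded_28_3 L706862 L688141 L689722
theorem L706868 : sm gi N49820 = N51893 := rfl
theorem L706870 : sm gd N51893 = N51893 := ded_39_1 (flp_i L706868) L685401 L706868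
theorem L706871 : sm ge N51893 = N50640 := ded_44_1 (flp_i L692781) (flp_e L685402) L706868
theorem L706873 : sm gg N51893 = N51893 := ded_51_1 (flp_i L706868) L685406 L706868
theorem L706874 : sm gj N51893 = N49821 := ded_53_1 (flp_i L685407) L685399 L706868
theorem L706876 : sm gh N49821 = N51894 := rfl
theorem L706878 : sm ge N51894 = N50641 := ded_43_1 (flp_h L692788) (flp_e L685410) L706876
theorem L706880 : sm gg N51894 = N49822 := ded_50_1 (flp_h L685414) (flp_g L685412) L706876
theorem L706882 : sm gi N51894 = N49875 := ded_54_2 (flp_h L685827) (flp_i L663022) (flp_h L662744) L685407 L706876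
theorem L706884 : sm gd N49822 = N51895 := rfl
theorem L706886 : sm gf N51895 = N49823 := ded_35_2 (flp_d L685423) (flp_f L685418) L706884
theorem L706888 : sm gj N51895 = N51895 := ded_37_2 (flp_d L706884) L685420 L706884
theorem L706889 : sm gi N51895 = N49876 := ded_39_2 (flp_d L685833) (flp_i L685421) L706884
theorem L706891 : sm gh N51895 = N51895 := ded_38_2 (flp_d L706884) (flp_h L685414) L662748 L685414 L706884
theorem L706892 : sm gc N49823 = N51896 := rfl
theorem L706894 : sm ge N51896 = N50248 := ded_28_2 (flp_c L705055) L705057 L706892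
theorem L706896 : sm gj N51896 = N51896 := ded_31_2 (flp_c L706892) L685425 L706892
theorem L706897 : sm gh N51896 = N51896 := ded_32_2 (flp_c L706892) L685428 L706892
theorem L706898 : sm gi N51896 = N49877 := ded_33_2 (flp_c L685840) (flp_i L685426) L706892
theorem L706900 : sm gd N51896 = N50249 := ded_27_2 L706866 (flp_d L706855) L685392 L685423 L706892
theorem L706902 : sm gb N49824 = N51897 := rfl
theorem L706904 : sm gd N51897 = N49890 := ded_20_2 (flp_b L685930) (flp_d L685436) L706902
theorem L706906 : sm gf N51897 = N51897 := ded_22_2 (flp_b L706902) L685431 L706902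
theorem L706907 : sm gg N51897 = N49827 := ded_23_2 (flp_b L685453) (flp_g L685432) L706902
theorem L706909 : sm gj N51897 = N49959 := ded_24_2 L686789 (flp_j L685434) L706902
theorem L706911 : sm ga N51897 = N50734 := ded_10_1 (flp_b L706385) L706383 L705931 L705920 L706902
theorem L706913 : sm ge N49824 = N51898 := rfl
theorem L706915 : sm gc N51898 = N49825 := ded_28_1 (flp_e L685438) L685429 L706913
theorem L706917 : sm gg N51898 = N49828 := ded_41_2 (flp_e L685461) (flp_g L685432) L706913
theorem L706919 : sm gj N51898 = N50642 := ded_42_2 (flp_e L692794) (flp_j L685434) L706913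
theorem L706921 : sm gi N49824 = N51899 := rfl
theorem L706923 : sm gc N51899 = N49826 := ded_33_1 (flp_i L685444) L685429 L706921
theorem L706925 : sm gd N51899 = N49892 := ded_39_1 (flp_i L685959) (flp_d L685436) L706921
theorem L706927 : sm gf N51899 = N51899 := ded_48_1 (flp_i L706921) L685431 L706921
theorem L706928 : sm gg N51899 = N49829 := ded_51_1 (flp_i L685467) (flp_g L685432) L706921
theorem L706930 : sm gj N51899 = N50643 := ded_53_1 (flp_i L692800) (flp_j L685434) L706921
theorem L706932 : sm gf N49825 = N51900 := rfl
theorem L706934 : sm gj N51900 = N50644 := ded_46_2 (flp_f L692809) (flp_j L685442) L706932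
theorem L706936 : sm ge N51900 = N51900 := ded_40_1 (flp_f L706932) (flp_e L685438) L662763 L685438 L706932
theorem L706937 : sm gi N49825 = N51901 := rfl
theorem L706939 : sm ge N51901 = N49826 := ded_44_1 (flp_i L685444) L685438 L706937
theorem L706941 : sm gg N51901 = N49831 := ded_51_1 (flp_i L685483) (flp_g L685440) L706937
theorem L706943 : sm gj N51901 = N50645 := ded_53_1 (flp_i L692812) (flp_j L685442) L706937
theorem L706945 : sm gh N49826 = N51902 := rfl
theorem L706947 : sm gf N51902 = N51902 := ded_47_1 (flp_h L706945) L685448 L706945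
theorem L706948 : sm gg N51902 = N49832 := ded_50_1 (flp_h L685489) (flp_g L685449) L706945
theorem L706950 : sm gj N51902 = N50646 := ded_52_1 (flp_h L692818) (flp_j L685451) L706945
theorem L706952 : sm ga N49827 = N51903 := rfl
theorem L706954 : sm gd N51903 = N49895 := ded_12_2 (flp_a L685999) (flp_d L685455) L706952
theorem L706956 : sm gf N51903 = N49843 := ded_14_2 (flp_a L685565) (flp_f L685457) L706952
theorem L706958 : sm gg N51903 = N50734 := ded_15_2 (flp_a L706911) L706907 L706952
theorem L706960 : sm gj N51903 = N49833 := ded_16_2 (flp_a L685495) (flp_j L685459) L706952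
theorem L706962 : sm gh N51903 = N50590 := ded_17_2 (flp_a L706535) L706533 L706952
theorem L706964 : sm gb N51903 = N50592 := ded_10_2 L692409 L684669 L684659 L685453 L706952
theorem L706966 : sm ge N49827 = N51904 := rfl
theorem L706968 : sm gb N51904 = N49828 := ded_21_1 (flp_e L685461) L685453 L706966
theorem L706970 : sm gj N51904 = N49834 := ded_42_2 (flp_e L685503) (flp_j L685459) L706966
theorem L706972 : sm gi N49827 = N51905 := rfl
theorem L706974 : sm gb N51905 = N49829 := ded_26_1 (flp_i L685467) L685453 L706972
theorem L706976 : sm gd N51905 = N49897 := ded_39_1 (flp_i L686030) (flp_d L685455) L706972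
theorem L706978 : sm gf N51905 = N49845 := ded_48_1 (flp_i L685586) (flp_f L685457) L706972
theorem L706980 : sm gj N51905 = N49835 := ded_53_1 (flp_i L685509) (flp_j L685459) L706972
theorem L706982 : sm gd N49828 = N51906 := rfl
theorem L706984 : sm gj N51906 = N49836 := ded_37_2 (flp_d L685519) (flp_j L685465) L706982
theorem L706986 : sm ge N51906 = N49898 := ded_34_2 (flp_d L686040) (flp_e L663167) (flp_d L662783) L685461 L706982
theorem L706988 : sm gf N49828 = N51907 := rfl
theorem L706990 : sm gc N51907 = N49830 := ded_29_1 (flp_f L685477) (flp_c L685463) L706988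
theorem L706992 : sm gj N51907 = N49837 := ded_46_2 (flp_f L685525) (flp_j L685465) L706988
theorem L706994 : sm ge N51907 = N49846 := ded_40_1 (flp_f L685595) (flp_e L662844) (flp_f L662779) L685461 L706988
theorem L706996 : sm gi N49828 = N51908 := rfl
theorem L706998 : sm gc N51908 = N49831 := ded_33_1 (flp_i L685483) (flp_c L685463) L706996
theorem L707000 : sm ge N51908 = N49829 := ded_44_1 (flp_i L685467) L685461 L706996
theorem L707002 : sm gj N51908 = N49838 := ded_53_1 (flp_i L685531) (flp_j L685465) L706996
theorem L707004 : sm gh N49829 = N51909 := rfl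
theorem L707006 : sm gc N51909 = N49832 := ded_32_1 (flp_h L685489) (flp_c L685469) L707004
theorem L707008 : sm gf N51909 = N49848 := ded_47_1 (flp_h L685612) (flp_f L685473) L707004
theorem L707010 : sm gj N51909 = N49839 := ded_52_1 (flp_h L685539) (flp_j L685475) L707004
theorem L707012 : sm gg N49830 = N51910 := rfl
theorem L707014 : sm ge N51910 = N49849 := ded_41_1 (flp_g L685619) (flp_e L685481) L707012
theorem L707016 : sm gi N49830 = N51911 := rfl
theorem L707018 : sm ge N51911 = N49850 := ded_44_1 (flp_i L685624) (flp_e L685481) L707016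
theorem L707020 : sm gf N51911 = N49831 := ded_48_1 (flp_i L685483) L685477 L707016
theorem L707022 : sm gj N51911 = N49841 := ded_53_1 (flp_i L685553) (flp_j L685479) L707016
theorem L707024 : sm gh N49831 = N51912 := rfl
theorem L707026 : sm ge N51912 = N49832 := ded_43_1 (flp_h L685489) (flp_e L685485) L707024
theorem L707028 : sm gj N51912 = N49842 := ded_52_1 (flp_h L685559) (flp_j L685487) L707024
theorem L707030 : sm ge N49833 = N51913 := rfl
theorem L707032 : sm ga N51913 = N49834 := ded_13_1 (flp_e L685503) L685495 L707030
theorem L707034 : sm gg N51913 = N50656 := ded_41_2 (flp_e L692891) (flp_g L685501) L707030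
theorem L707036 : sm gi N49833 = N51914 := rfl
theorem L707038 : sm ga N51914 = N49835 := ded_18_1 (flp_i L685509) L685495 L707036
theorem L707040 : sm gd N51914 = N49903 := ded_39_1 (flp_i L686094) (flp_d L685497) L707036
theorem L707042 : sm gf N51914 = N49852 := ded_48_1 (flp_i L685639) (flp_f L685499) L707036
theorem L707044 : sm gg N51914 = N50657 := ded_51_1 (flp_i L692895) (flp_g L685501) L707036
theorem L707046 : sm gd N49834 = N51915 := rfl
theorem L707048 : sm gb N51915 = N49836 := ded_20_1 (flp_d L685519) (flp_b L685505) L707046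
theorem L707050 : sm gg N51915 = N50658 := ded_36_2 (flp_d L692903) (flp_g L685507) L707046
theorem L707052 : sm ge N51915 = N49904 := ded_34_2 (flp_d L686104) (flp_e L663217) (flp_d L662799) L685503 L707046
theorem L707054 : sm gf N49834 = N51916 := rfl
theorem L707056 : sm gb N51916 = N49837 := ded_22_1 (flp_f L685525) (flp_b L685505) L707054
theorem L707058 : sm ge N51916 = N49853 := ded_40_1 (flp_f L685647) (flp_e L662887) (flp_f L662801) L685503 L707054
theorem L707060 : sm gi N49834 = N51917 := rfl
theorem L707062 : sm gb N51917 = N49838 := ded_26_1 (flp_i L685531) (flp_b L685505) L707060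
theorem L707064 : sm ge N51917 = N49835 := ded_44_1 (flp_i L685509) L685503 L707060
theorem L707066 : sm gg N51917 = N50660 := ded_51_1 (flp_i L692917) (flp_g L685507) L707060
theorem L707068 : sm gh N49835 = N51918 := rfl
theorem L707070 : sm gb N51918 = N49839 := ded_25_1 (flp_h L685539) (flp_b L685511) L707068
theorem L707072 : sm gf N51918 = N49855 := ded_47_1 (flp_h L685661) (flp_f L685515) L707068
theorem L707074 : sm gg N51918 = N50661 := ded_50_1 (flp_h L692923) (flp_g L685517) L707068
theorem L707076 : sm gf N49836 = N51919 := rfl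
theorem L707078 : sm gd N51919 = N49837 := ded_35_1 (flp_f L685525) L685519 L707076
theorem L707080 : sm ge N51919 = N51919 := ded_40_1 (flp_f L707076) L685523 L663240 (flp_e L685523) L707076
theorem L707081 : sm gh N49836 = N51920 := rfl
theorem L707083 : sm ge N51920 = N49907 := ded_43_1 (flp_h L686138) (flp_e L685523) L707081
theorem L707085 : sm gg N51920 = N50663 := ded_50_1 (flp_h L692935) (flp_g L685521) L707081
theorem L707087 : sm gi N49836 = N51921 := rfl
theorem L707089 : sm gd N51921 = N49838 := ded_39_1 (flp_i L685531) L685519 L707087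
theorem L707091 : sm ge N51921 = N49908 := ded_44_1 (flp_i L686145) (flp_e L685523) L707087
theorem L707093 : sm gg N51921 = N50664 := ded_51_1 (flp_i L692939) (flp_g L685521) L707087
theorem L707095 : sm gg N49837 = N51922 := rfl
theorem L707097 : sm gc N51922 = N49840 := ded_30_1 (flp_g L685547) (flp_c L685527) L707095
theorem L707099 : sm ge N51922 = N49856 := ded_41_1 (flp_g L685667) (flp_e L685529) L707095
theorem L707101 : sm gf N51922 = N50665 := ded_45_1 (flp_g L692945) (flp_f L670924) (flp_g L662809) L685525 L707095
theorem L707103 : sm gi N49837 = N51923 := rfl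
theorem L707105 : sm gc N51923 = N49841 := ded_33_1 (flp_i L685553) (flp_c L685527) L707103
theorem L707107 : sm ge N51923 = N49857 := ded_44_1 (flp_i L685674) (flp_e L685529) L707103
theorem L707109 : sm gf N51923 = N49838 := ded_48_1 (flp_i L685531) L685525 L707103
theorem L707111 : sm gh N49838 = N51924 := rfl
theorem L707113 : sm gc N51924 = N49842 := ded_32_1 (flp_h L685559) (flp_c L685533) L707111
theorem L707115 : sm ge N51924 = N49839 := ded_43_1 (flp_h L685539) (flp_e L685535) L707111
theorem L707117 : sm gg N51924 = N50667 := ded_50_1 (flp_h L692959) (flp_g L685537) L707111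
theorem L707119 : sm gd N49839 = N51925 := rfl
theorem L707121 : sm ga N51925 = N50614 := ded_12_1 (flp_d L706062) L706054 L707119
theorem L707123 : sm gf N51925 = N49859 := ded_35_2 (flp_d L685689) (flp_f L685543) L707119
theorem L707125 : sm gg N51925 = N50668 := ded_36_2 (flp_d L692965) (flp_g L685545) L707119
theorem L707127 : sm gi N51925 = N50578 := ded_39_2 (flp_d L706641) L706643 L707119
theorem L707129 : sm gc N51925 = N50563 := ded_27_1 (flp_d L705224) L705218 L683895 (flp_c L685541) L707119
theorem L707131 : sm gh N51925 = N49910 := ded_38_2 (flp_d L686167) (flp_h L663252) (flp_d L662815) L685539 L707119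
theorem L707133 : sm gj N49840 = N51926 := rfl
theorem L707135 : sm ge N51926 = N49860 := ded_42_1 (flp_j L685701) (flp_e L685549) L707133
theorem L707137 : sm gf N51926 = N50669 := ded_46_1 (flp_j L692971) (flp_f L685551) L707133
theorem L707139 : sm gi N49840 = N51927 := rfl
theorem L707141 : sm ge N51927 = N49861 := ded_44_1 (flp_i L685707) (flp_e L685549) L707139
theorem L707143 : sm gf N51927 = N50670 := ded_48_1 (flp_i L692975) (flp_f L685551) L707139
theorem L707145 : sm gg N51927 = N49841 := ded_51_1 (flp_i L685553) L685547 L707139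
theorem L707147 : sm gh N49841 = N51928 := rfl
theorem L707149 : sm ge N51928 = N49862 := ded_43_1 (flp_h L685715) (flp_e L685555) L707147
theorem L707151 : sm gf N51928 = N49842 := ded_47_1 (flp_h L685559) (flp_f L685557) L707147
theorem L707153 : sm gd N49842 = N51929 := rfl
theorem L707155 : sm gg N51929 = N50672 := ded_36_2 (flp_d L692987) (flp_g L685563) L707153
theorem L707157 : sm gi N49843 = N51930 := rfl
theorem L707159 : sm ga N51930 = N49845 := ded_18_1 (flp_i L685586) L685565 L707157
theorem L707161 : sm gb N51930 = N50794 := ded_26_1 (flp_i L693982) (flp_b L685574) L707157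
theorem L707163 : sm gd N51930 = N49912 := ded_39_1 (flp_i L686192) (flp_d L685567) L707157
theorem L707165 : sm gg N51930 = N51930 := ded_51_1 (flp_i L707157) L685569 L707157
theorem L707166 : sm gj N51930 = N49852 := ded_53_1 (flp_i L685639) (flp_j L685570) L707157
theorem L707168 : sm gf N49844 = N51931 := rfl
theorem L707170 : sm gb N51931 = N49846 := ded_22_1 (flp_f L685595) (flp_b L685578) L707168
theorem L707172 : sm gc N51931 = N50590 := ded_29_1 L692396 (flp_c L685580) L707168
theorem L707174 : sm gd N51931 = N51931 := ded_35_1 (flp_f L707168) L685585 L707168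
theorem L707175 : sm gj N51931 = N49853 := ded_46_2 (flp_f L685647) (flp_j L685583) L707168
theorem L707177 : sm gi N49844 = N51932 := rfl
theorem L707179 : sm gb N51932 = N49847 := ded_26_1 (flp_i L685602) (flp_b L685578) L707177
theorem L707181 : sm gc N51932 = N50793 := ded_33_1 (flp_i L693975) (flp_c L685580) L707177
theorem L707183 : sm gd N51932 = N51932 := ded_39_1 (flp_i L707177) L685585 L707177
theorem L707184 : sm ge N51932 = N49845 := ded_44_1 (flp_i L685586) L685576 L707177
theorem L707186 : sm gg N51932 = N51932 := ded_51_1 (flp_i L707177) L685582 L707177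
theorem L707187 : sm gj N51932 = N49854 := ded_53_1 (flp_i L685652) (flp_j L685583) L707177
theorem L707189 : sm gh N49845 = N51933 := rfl
theorem L707191 : sm gb N51933 = N49848 := ded_25_1 (flp_h L685612) (flp_b L685588) L707189
theorem L707193 : sm gg N51933 = N51933 := ded_50_1 (flp_h L707189) L685592 L707189
theorem L707194 : sm gj N51933 = N49855 := ded_52_1 (flp_h L685661) (flp_j L685593) L707189
theorem L707196 : sm gg N49846 = N51934 := rfl
theorem L707198 : sm gc N51934 = N49849 := ded_30_1 (flp_g L685619) (flp_c L685597) L707196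
theorem L707200 : sm gd N51934 = N51934 := ded_36_1 (flp_g L707196) L685599 L707196
theorem L707201 : sm gf N51934 = N51934 := ded_45_1 (flp_g L707196) (flp_f L685595) L662848 L685595 L707196
theorem L707202 : sm gi N49846 = N51935 := rfl
theorem L707204 : sm gc N51935 = N49850 := ded_33_1 (flp_i L685624) (flp_c L685597) L707202
theorem L707206 : sm gd N51935 = N51935 := ded_39_1 (flp_i L707202) L685599 L707202
theorem L707207 : sm gf N51935 = N49847 := ded_48_1 (flp_i L685602) L685595 L707202
theorem L707209 : sm gj N51935 = N49857 := ded_53_1 (flp_i L685674) (flp_j L685600) L707202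
theorem L707211 : sm gh N49847 = N51936 := rfl
theorem L707213 : sm gc N51936 = N49851 := ded_32_1 (flp_h L685632) (flp_c L685604) L707211
theorem L707215 : sm ge N51936 = N49848 := ded_43_1 (flp_h L685612) (flp_e L685607) L707211
theorem L707217 : sm gg N51936 = N51936 := ded_50_1 (flp_h L707211) L685609 L707211
theorem L707218 : sm gj N51936 = N49858 := ded_52_1 (flp_h L685681) (flp_j L685610) L707211
theorem L707220 : sm gd N49848 = N51937 := rfl
theorem L707222 : sm ga N51937 = N50622 := ded_12_1 (flp_d L706120) L706111 L707220
theorem L707224 : sm gg N51937 = N51937 := ded_36_2 (flp_d L707220) L685616 L707220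
theorem L707225 : sm gj N51937 = N49859 := ded_37_2 (flp_d L685689) (flp_j L685617) L707220
theorem L707227 : sm gi N51937 = N50582 := ded_39_2 (flp_d L706712) L706714 L707220
theorem L707229 : sm gc N51937 = N50564 := ded_27_1 (flp_d L705261) L705254 L683936 (flp_c L685614) L707220
theorem L707231 : sm gh N51937 = N49914 := ded_38_2 (flp_d L686216) (flp_h L663299) (flp_d L662856) L685612 L707220
theorem L707233 : sm gj N49849 = N51938 := rfl
theorem L707235 : sm gd N51938 = N49878 := ded_37_1 (flp_j L685845) (flp_d L685621) L707233
theorem L707237 : sm gf N51938 = N51938 := ded_46_1 (flp_j L707233) L685623 L707233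
theorem L707238 : sm gg N51938 = N49860 := ded_49_1 (flp_j L685701) (flp_g L662922) (flp_j L662865) L685619 L707233
theorem L707240 : sm gi N49849 = N51939 := rfl
theorem L707242 : sm gd N51939 = N49879 := ded_39_1 (flp_i L685852) (flp_d L685621) L707240
theorem L707244 : sm gf N51939 = N51939 := ded_48_1 (flp_i L707240) L685623 L707240
theorem L707245 : sm gg N51939 = N49850 := ded_51_1 (flp_i L685624) L685619 L707240
theorem L707247 : sm gh N49850 = N51940 := rfl
theorem L707249 : sm gf N51940 = N49851 := ded_47_1 (flp_h L685632) (flp_f L685628) L707247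
theorem L707251 : sm gj N51940 = N49862 := ded_52_1 (flp_h L685715) (flp_j L685630) L707247
theorem L707253 : sm gd N49851 = N51941 := rfl
theorem L707255 : sm gg N51941 = N51941 := ded_36_2 (flp_d L707253) L685636 L707253
theorem L707256 : sm gj N51941 = N49863 := ded_37_2 (flp_d L685719) (flp_j L685637) L707253
theorem L707258 : sm gh N51941 = N49881 := ded_38_2 (flp_d L685866) (flp_h L663054) (flp_d L662869) L685632 L707253
theorem L707260 : sm gh N49852 = N51942 := rfl
theorem L707262 : sm ga N51942 = N49855 := ded_17_1 (flp_h L685661) (flp_a L685641) L707260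
theorem L707264 : sm gg N51942 = N49864 := ded_50_1 (flp_h L685725) (flp_g L685645) L707260
theorem L707266 : sm gg N49853 = N51943 := rfl
theorem L707268 : sm ga N51943 = N50176 := ded_15_1 (flp_g L698591) L698595 L707266
theorem L707270 : sm gb N51943 = N49856 := ded_23_1 (flp_g L685667) (flp_b L685649) L707266
theorem L707272 : sm gc N51943 = N50608 := ded_30_1 (flp_g L699165) L699157 L707266
theorem L707274 : sm gd N51943 = N51943 := ded_36_1 (flp_g L707266) L685651 L707266
theorem L707275 : sm gh N51943 = N50209 := ded_50_2 (flp_g L698968) L698970 L707266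
theorem L707277 : sm gf N51943 = N49865 := ded_45_1 (flp_g L685732) (flp_f L662949) (flp_g L662891) L685647 L707266
theorem L707279 : sm gi N49853 = N51944 := rfl
theorem L707281 : sm gb N51944 = N49857 := ded_26_1 (flp_i L685674) (flp_b L685649) L707279
theorem L707283 : sm gd N51944 = N51944 := ded_39_1 (flp_i L707279) L685651 L707279
theorem L707284 : sm gf N51944 = N49854 := ded_48_1 (flp_i L685652) L685647 L707279
theorem L707286 : sm gh N49854 = N51945 := rfl
theorem L707288 : sm gb N51945 = N49858 := ded_25_1 (flp_h L685681) (flp_b L685654) L707286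
theorem L707290 : sm ge N51945 = N49855 := ded_43_1 (flp_h L685661) (flp_e L685657) L707286
theorem L707292 : sm gg N51945 = N49867 := ded_50_1 (flp_h L685759) (flp_g L685659) L707286
theorem L707294 : sm gd N49855 = N51946 := rfl
theorem L707296 : sm gb N51946 = N49859 := ded_20_1 (flp_d L685689) (flp_b L685663) L707294
theorem L707298 : sm gg N51946 = N49868 := ded_36_2 (flp_d L685766) (flp_g L685665) L707294
theorem L707300 : sm gi N51946 = N50584 := ded_39_2 (flp_d L706744) L706746 L707294
theorem L707302 : sm gh N51946 = N49916 := ded_38_2 (flp_d L686240) (flp_h L663320) (flp_d L662898) L685661 L707294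
theorem L707304 : sm gj N49856 = N51947 := rfl
theorem L707306 : sm gc N51947 = N49860 := ded_31_1 (flp_j L685701) (flp_c L685669) L707304
theorem L707308 : sm gd N51947 = N51947 := ded_37_1 (flp_j L707304) L685671 L707304
theorem L707309 : sm gf N51947 = N49869 := ded_46_1 (flp_j L685777) (flp_f L685672) L707304
theorem L707311 : sm gi N49856 = N51948 := rfl
theorem L707313 : sm gc N51948 = N49861 := ded_33_1 (flp_i L685707) (flp_c L685669) L707311
theorem L707315 : sm gd N51948 = N51948 := ded_39_1 (flp_i L707311) L685671 L707311
theorem L707316 : sm gf N51948 = N49870 := ded_48_1 (flp_i L685785) (flp_f L685672) L707311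
theorem L707318 : sm gg N51948 = N49857 := ded_51_1 (flp_i L685674) L685667 L707311
theorem L707320 : sm gh N49857 = N51949 := rfl
theorem L707322 : sm gc N51949 = N49862 := ded_32_1 (flp_h L685715) (flp_c L685676) L707320
theorem L707324 : sm gf N51949 = N49858 := ded_47_1 (flp_h L685681) (flp_f L685679) L707320
theorem L707326 : sm gd N49858 = N51950 := rfl
theorem L707328 : sm gg N51950 = N49872 := ded_36_2 (flp_d L685803) (flp_g L685687) L707326
theorem L707330 : sm gh N51950 = N51950 := ded_38_2 (flp_d L707326) (flp_h L685681) L662911 L685681 L707326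
theorem L707331 : sm ge N49859 = N51951 := rfl
theorem L707333 : sm ga N51951 = N50630 := ded_13_1 L692707 (flp_a L685691) L707331
theorem L707335 : sm gc N51951 = N50067 := ded_28_1 L687963 (flp_c L685697) L707331
theorem L707337 : sm gg N51951 = N49873 := ded_41_2 (flp_e L685807) (flp_g L685693) L707331
theorem L707339 : sm gh N51951 = N49917 := ded_43_2 (flp_e L686248) (flp_h L685699) L707331
theorem L707341 : sm gi N51951 = N50080 := ded_44_2 L688108 (flp_i L685695) L707331
theorem L707343 : sm gi N49860 = N51952 := rfl
theorem L707345 : sm gd N51952 = N49882 := ded_39_1 (flp_i L685872) (flp_d L685703) L707343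
theorem L707347 : sm gf N51952 = N49874 := ded_48_1 (flp_i L685818) (flp_f L685705) L707343
theorem L707349 : sm gj N51952 = N49861 := ded_53_1 (flp_i L685707) L685701 L707343
theorem L707351 : sm gh N49861 = N51953 := rfl
theorem L707353 : sm gf N51953 = N49875 := ded_47_1 (flp_h L685827) (flp_f L685711) L707351
theorem L707355 : sm gg N51953 = N49862 := ded_50_1 (flp_h L685715) (flp_g L685713) L707351
theorem L707357 : sm gd N49862 = N51954 := rfl
theorem L707359 : sm gf N51954 = N49863 := ded_35_2 (flp_d L685719) (flp_f L685717) L707357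
theorem L707361 : sm gh N51954 = N49884 := ded_38_2 (flp_d L685887) (flp_h L663076) (flp_d L662930) L685715 L707357
theorem L707363 : sm gc N49863 = N51955 := rfl
theorem L707365 : sm gg N51955 = N49877 := ded_30_2 (flp_c L685840) (flp_g L685721) L707363
theorem L707367 : sm gh N51955 = N49885 := ded_32_2 (flp_c L685892) (flp_h L685723) L707363
theorem L707369 : sm gj N49865 = N51956 := rfl
theorem L707371 : sm ga N51956 = N50182 := ded_16_1 L689125 (flp_a L685734) L707369
theorem L707373 : sm gb N51956 = N49869 := ded_24_1 (flp_j L685777) (flp_b L685736) L707369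
theorem L707375 : sm gc N51956 = N50618 := ded_31_1 L692600 (flp_c L685738) L707369
theorem L707377 : sm gd N51956 = N51956 := ded_37_1 (flp_j L707369) L685740 L707369
theorem L707378 : sm ge N51956 = N50699 := ded_42_1 (flp_j L693196) (flp_e L685741) L707369
theorem L707380 : sm gh N51956 = N50219 := ded_52_2 L689461 (flp_h L685743) L707369
theorem L707382 : sm gg N51956 = N51956 := ded_49_1 (flp_j L707369) (flp_g L685732) L662958 L685732 L707369
theorem L707383 : sm gi N49865 = N51957 := rfl
theorem L707385 : sm ga N51957 = N50186 := ded_18_1 (flp_i L689168) (flp_a L685734) L707383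
theorem L707387 : sm gb N51957 = N49870 := ded_26_1 (flp_i L685785) (flp_b L685736) L707383
theorem L707389 : sm gc N51957 = N50624 := ded_33_1 (flp_i L692655) (flp_c L685738) L707383
theorem L707391 : sm gd N51957 = N51957 := ded_39_1 (flp_i L707383) L685740 L707383
theorem L707392 : sm ge N51957 = N50700 := ded_44_1 (flp_i L693205) (flp_e L685741) L707383
theorem L707394 : sm gg N51957 = N49866 := ded_51_1 (flp_i L685745) L685732 L707383
theorem L707396 : sm gh N49866 = N51958 := rfl
theorem L707398 : sm ga N51958 = N50194 := ded_17_1 (flp_h L689256) (flp_a L685747) L707396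
theorem L707400 : sm gb N51958 = N49871 := ded_25_1 (flp_h L685794) (flp_b L685749) L707396
theorem L707402 : sm gc N51958 = N50634 := ded_32_1 (flp_h L692735) (flp_c L685751) L707396
theorem L707404 : sm ge N51958 = N50701 := ded_43_1 (flp_h L693213) (flp_e L685754) L707396
theorem L707406 : sm gf N51958 = N49867 := ded_47_1 (flp_h L685759) (flp_f L685756) L707396
theorem L707408 : sm gj N51958 = N51958 := ded_52_1 (flp_h L707396) L685758 L707396
theorem L707409 : sm gi N51958 = N50240 := ded_54_2 (flp_h L689648) (flp_i L667183) (flp_h L662959) L685745 L707396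
theorem L707411 : sm gd N49867 = N51959 := rfl
theorem L707413 : sm gb N51959 = N49872 := ded_20_1 (flp_d L685803) (flp_b L685761) L707411
theorem L707415 : sm gj N51959 = N51959 := ded_37_2 (flp_d L707411) L685765 L707411
theorem L707416 : sm gh N51959 = N51959 := ded_38_2 (flp_d L707411) (flp_h L685759) L662967 L685759 L707411
theorem L707417 : sm gi N49869 = N51960 := rfl
theorem L707419 : sm gc N51960 = N49874 := ded_33_1 (flp_i L685818) (flp_c L685779) L707417
theorem L707421 : sm gd N51960 = N51960 := ded_39_1 (flp_i L707417) L685781 L707417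
theorem L707422 : sm ge N51960 = N50703 := ded_44_1 (flp_i L693227) (flp_e L685782) L707417
theorem L707424 : sm gg N51960 = N51960 := ded_51_1 (flp_i L707417) L685784 L707417
theorem L707425 : sm gj N51960 = N49870 := ded_53_1 (flp_i L685785) L685777 L707417
theorem L707427 : sm gh N49870 = N51961 := rfl
theorem L707429 : sm gc N51961 = N49875 := ded_32_1 (flp_h L685827) (flp_c L685787) L707427
theorem L707431 : sm ge N51961 = N50704 := ded_43_1 (flp_h L693236) (flp_e L685790) L707427
theorem L707433 : sm gg N51961 = N49871 := ded_50_1 (flp_h L685794) (flp_g L685792) L707427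
theorem L707435 : sm gd N49871 = N51962 := rfl
theorem L707437 : sm gf N51962 = N49872 := ded_35_2 (flp_d L685803) (flp_f L685800) L707435
theorem L707439 : sm gj N51962 = N51962 := ded_37_2 (flp_d L707435) L685802 L707435
theorem L707440 : sm gh N51962 = N51962 := ded_38_2 (flp_d L707435) (flp_h L685794) L662989 L685794 L707435
theorem L707441 : sm gc N49872 = N51963 := rfl
theorem L707443 : sm gj N51963 = N51963 := ded_31_2 (flp_c L707441) L685805 L707441
theorem L707444 : sm gh N51963 = N51963 := ded_32_2 (flp_c L707441) L685806 L707441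
theorem L707445 : sm gi N51963 = N50249 := ded_33_2 L706866 L706860 L707441
theorem L707447 : sm gd N51963 = N49877 := ded_27_2 (flp_c L685840) (flp_d L663037) (flp_c L662997) L685803 L707441
theorem L707449 : sm ge N50196 = N51963 := ded_44_3 L707445 (flp_e L689722) (flp_i L689277)
theorem L707451 : sm ge N49872 = N51964 := rfl
theorem L707453 : sm ga N51964 = N50639 := ded_13_1 (flp_e L706204) L706199 L707451
theorem L707455 : sm gc N51964 = N50196 := ded_28_1 L707449 (flp_c L707441) L707451
theorem L707457 : sm gj N51964 = N51964 := ded_42_2 (flp_e L707451) L685805 L707451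
theorem L707458 : sm gh N51964 = N51964 := ded_43_2 (flp_e L707451) L685806 L707451
theorem L707459 : sm gi N51964 = N50083 := ded_44_2 (flp_e L706862) L706860 L707451
theorem L707461 : sm gd N51964 = N49873 := ded_34_1 (flp_e L685807) (flp_d L663002) (flp_e L662999) L685803 L707451
theorem L707463 : sm gh N49874 = N51965 := rfl
theorem L707465 : sm ge N51965 = N50707 := ded_43_1 (flp_h L693256) (flp_e L685822) L707463
theorem L707467 : sm gg N51965 = N51965 := ded_50_1 (flp_h L707463) L685824 L707463
theorem L707468 : sm gj N51965 = N49875 := ded_52_1 (flp_h L685827) (flp_j L685825) L707463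
theorem L707470 : sm gd N49875 = N51966 := rfl
theorem L707472 : sm gg N51966 = N49876 := ded_36_2 (flp_d L685833) (flp_g L685831) L707470
theorem L707474 : sm gh N51966 = N49887 := ded_38_2 (flp_d L685907) (flp_h L663095) (flp_d L663024) L685827 L707470
theorem L707476 : sm gc N49876 = N51967 := rfl
theorem L707478 : sm ge N51967 = N50244 := ded_28_2 (flp_c L698335) L698337 L707476
theorem L707480 : sm gf N51967 = N49877 := ded_29_2 (flp_c L685840) (flp_f L685835) L707476
theorem L707482 : sm gj N51967 = N51967 := ded_31_2 (flp_c L707476) L685837 L707476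
theorem L707483 : sm gh N51967 = N49888 := ded_32_2 (flp_c L685912) (flp_h L685838) L707476
theorem L707485 : sm gb N50249 = N51967 := ded_21_3 L707478 L689693 L689722
theorem L707487 : sm gb N49877 = N51968 := rfl
theorem L707489 : sm gf N51968 = N50249 := ded_22_2 L707485 L707480 L707487
theorem L707491 : sm gj N51968 = N51968 := ded_24_2 (flp_b L707487) L685842 L707487
theorem L707492 : sm gh N51968 = N49889 := ded_25_2 (flp_b L685923) (flp_h L685843) L707487
theorem L707494 : sm gi N49878 = N51969 := rfl
theorem L707496 : sm gc N51969 = N51969 := ded_33_1 (flp_i L707494) L685847 L707494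
theorem L707497 : sm gf N51969 = N51969 := ded_48_1 (flp_i L707494) L685848 L707494
theorem L707498 : sm gg N51969 = N49882 := ded_51_1 (flp_i L685872) (flp_g L685850) L707494
theorem L707500 : sm gj N51969 = N49879 := ded_53_1 (flp_i L685852) L685845 L707494
theorem L707502 : sm gh N49879 = N51970 := rfl
theorem L707504 : sm gc N51970 = N51970 := ded_32_1 (flp_h L707502) L685854 L707502
theorem L707505 : sm gf N51970 = N51970 := ded_47_1 (flp_h L707502) L685855 L707502
theorem L707506 : sm gg N51970 = N49880 := ded_50_1 (flp_h L685858) (flp_g L685856) L707502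
theorem L707508 : sm gi N51970 = N51970 := ded_54_2 (flp_h L707502) (flp_i L685852) L663045 L685852 L707502
theorem L707509 : sm gd N49880 = N51971 := rfl
theorem L707511 : sm gf N51971 = N49881 := ded_35_2 (flp_d L685866) (flp_f L685861) L707509
theorem L707513 : sm gj N51971 = N49884 := ded_37_2 (flp_d L685887) (flp_j L685863) L707509
theorem L707515 : sm gi N51971 = N51971 := ded_39_2 (flp_d L707509) L685865 L707509
theorem L707516 : sm gc N49881 = N51972 := rfl
theorem L707518 : sm ge N51972 = N50847 := ded_28_2 (flp_c L705431) L705433 L707516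
theorem L707520 : sm gg N51972 = N51972 := ded_30_2 (flp_c L707516) L685868 L707516
theorem L707521 : sm gj N51972 = N49885 := ded_31_2 (flp_c L685892) (flp_j L685869) L707516
theorem L707523 : sm gi N51972 = N51972 := ded_33_2 (flp_c L707516) L685871 L707516
theorem L707524 : sm gd N51972 = N51972 := ded_27_2 (flp_c L707516) (flp_d L685866) L663056 L685866 L707516
theorem L707525 : sm gh N49882 = N51973 := rfl
theorem L707527 : sm gc N51973 = N51973 := ded_32_1 (flp_h L707525) L685874 L707525
theorem L707528 : sm ge N51973 = N50772 := ded_43_1 L704225 L704219 L707525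
theorem L707530 : sm gf N51973 = N49886 := ded_47_1 (flp_h L685898) (flp_f L685875) L707525
theorem L707532 : sm gj N51973 = N49883 := ded_52_1 (flp_h L685879) (flp_j L685877) L707525
theorem L707534 : sm gi N51973 = N51973 := ded_54_2 (flp_h L707525) (flp_i L685872) L663068 L685872 L707525
theorem L707535 : sm gd N49883 = N51974 := rfl
theorem L707537 : sm gf N51974 = N49887 := ded_35_2 (flp_d L685907) (flp_f L685882) L707535
theorem L707539 : sm gg N51974 = N49884 := ded_36_2 (flp_d L685887) (flp_g L685884) L707535
theorem L707541 : sm gi N51974 = N51974 := ded_39_2 (flp_d L707535) L685886 L707535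
theorem L707542 : sm gc N49884 = N51975 := rfl
theorem L707544 : sm gf N51975 = N49885 := ded_29_2 (flp_c L685892) (flp_f L685889) L707542
theorem L707546 : sm gi N51975 = N51975 := ded_33_2 (flp_c L707542) L685891 L707542
theorem L707547 : sm gd N51975 = N51975 := ded_27_2 (flp_c L707542) (flp_d L685887) L663078 L685887 L707542
theorem L707548 : sm ge N49884 = N51976 := rfl
theorem L707550 : sm gi N51976 = N51976 := ded_44_2 (flp_e L707548) L685891 L707548
theorem L707551 : sm gb N49885 = N51977 := rfl
theorem L707553 : sm gd N51977 = N51977 := ded_20_2 (flp_b L707551) L685897 L707551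
theorem L707554 : sm gg N51977 = N49889 := ded_23_2 (flp_b L685923) (flp_g L685894) L707551
theorem L707556 : sm gi N51977 = N51977 := ded_26_2 (flp_b L707551) L685896 L707551
theorem L707557 : sm gd N49886 = N51978 := rfl
theorem L707559 : sm gg N51978 = N51978 := ded_36_2 (flp_d L707557) L685903 L707557
theorem L707560 : sm gj N51978 = N49887 := ded_37_2 (flp_d L685907) (flp_j L685904) L707557
theorem L707562 : sm gi N51978 = N51978 := ded_39_2 (flp_d L707557) L685906 L707557
theorem L707563 : sm ge N51978 = N50768 := ded_34_2 (flp_d L693743) L672013 (flp_d L663122) (flp_e L685901) L707557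
theorem L707565 : sm gc N49887 = N51979 := rfl
theorem L707567 : sm ge N51979 = N50272 := ded_28_2 (flp_c L698392) L698394 L707565
theorem L707569 : sm gg N51979 = N49888 := ded_30_2 (flp_c L685912) (flp_g L685909) L707565
theorem L707571 : sm gi N51979 = N51979 := ded_33_2 (flp_c L707565) L685911 L707565
theorem L707572 : sm gd N51979 = N51979 := ded_27_2 (flp_c L707565) (flp_d L685907) L663097 L685907 L707565
theorem L707573 : sm gb N50273 = N51979 := ded_21_3 L707567 L689903 L689908
theorem L707575 : sm ga N49889 = N51980 := rfl
theorem L707577 : sm gc N51980 = N50166 := ded_11_2 (flp_a L699526) L699528 L707575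
theorem L707579 : sm gd N51980 = N51980 := ded_12_2 (flp_a L707575) L685925 L707575
theorem L707580 : sm ge N51980 = N50833 := ded_13_2 (flp_a L699761) L699769 L707575
theorem L707582 : sm gf N51980 = N50167 := ded_14_2 L688983 (flp_f L685926) L707575
theorem L707584 : sm gj N51980 = N51980 := ded_16_2 (flp_a L707575) L685928 L707575
theorem L707585 : sm gi N51980 = N51980 := ded_18_2 (flp_a L707575) L685929 L707575
theorem L707586 : sm gb N51980 = N50834 := ded_10_2 (flp_a L697441) L697443 L684927 L685923 L707575
theorem L707588 : sm gi N49890 = N51981 := rfl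
theorem L707590 : sm ga N51981 = N50735 := ded_18_1 (flp_i L693470) (flp_a L685941) L707588
theorem L707592 : sm gb N51981 = N49892 := ded_26_1 (flp_i L685959) L685930 L707588
theorem L707594 : sm gc N51981 = N49901 := ded_33_1 L686079 (flp_c L685939) L707588
theorem L707596 : sm ge N51981 = N49900 := ded_44_1 L686064 L685943 L707588
theorem L707598 : sm gf N51981 = N51981 := ded_48_1 (flp_i L707588) L685932 L707588
theorem L707599 : sm gg N51981 = N49897 := ded_51_1 (flp_i L686030) (flp_g L685933) L707588
theorem L707601 : sm gj N51981 = N49909 := ded_53_1 L686165 (flp_j L685935) L707588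
theorem L707603 : sm gh N51981 = N49899 := ded_54_1 (flp_i L686045) L663173 L664134 (flp_h L685937) L707588
theorem L707605 : sm gd N49891 = N51982 := rfl
theorem L707607 : sm gb N51982 = N49954 := ded_20_1 (flp_d L686731) (flp_b L685947) L707605
theorem L707609 : sm gf N51982 = N49963 := ded_35_2 (flp_d L686828) L685957 L707605
theorem L707611 : sm gg N51982 = N49898 := ded_36_2 (flp_d L686040) (flp_g L685951) L707605
theorem L707613 : sm gj N51982 = N49956 := ded_37_2 (flp_d L686757) (flp_j L685953) L707605
theorem L707615 : sm gh N51982 = N50568 := ded_38_2 L692211 L670443 (flp_d L664146) (flp_h L685955) L707605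
theorem L707617 : sm gi N49891 = N51983 := rfl
theorem L707619 : sm gb N51983 = N49900 := ded_26_1 L686064 (flp_b L685947) L707617
theorem L707621 : sm gc N51983 = N49893 := ded_33_1 (flp_i L685968) (flp_c L685949) L707617
theorem L707623 : sm ge N51983 = N49892 := ded_44_1 (flp_i L685959) L685945 L707617
theorem L707625 : sm gf N51983 = N49913 := ded_48_1 L686214 L685957 L707617
theorem L707627 : sm gg N51983 = N49899 := ded_51_1 (flp_i L686045) (flp_g L685951) L707617
theorem L707629 : sm gj N51983 = N49906 := ded_53_1 L686136 (flp_j L685953) L707617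
theorem L707631 : sm gh N51983 = N49897 := ded_54_1 (flp_i L686030) L663163 L664150 (flp_h L685955) L707617
theorem L707633 : sm gh N49892 = N51984 := rfl
theorem L707635 : sm ga N51984 = N50732 := ded_17_1 (flp_h L706284) L706273 L707633
theorem L707637 : sm gb N51984 = N49899 := ded_25_1 (flp_h L707603) L707592 L707633
theorem L707639 : sm gc N51984 = N49894 := ded_32_1 (flp_h L685982) (flp_c L685961) L707633
theorem L707641 : sm ge N51984 = N49897 := ded_43_1 (flp_h L707631) L707623 L707633
theorem L707643 : sm gf N51984 = N51984 := ded_47_1 (flp_h L707633) L685963 L707633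
theorem L707644 : sm gg N51984 = N49900 := ded_50_1 (flp_h L686054) (flp_g L685964) L707633
theorem L707646 : sm gj N51984 = N49905 := ded_52_1 L686122 (flp_j L685966) L707633
theorem L707648 : sm gi N51984 = N49896 := ded_54_2 L686027 (flp_i L664152) (flp_h L663132) L685959 L707633
theorem L707650 : sm gi N49895 = N51985 := rfl
theorem L707652 : sm ga N51985 = N49897 := ded_18_1 (flp_i L686030) L685999 L707650
theorem L707654 : sm gb N51985 = N50719 := ded_26_1 (flp_i L693344) (flp_b L686011) L707650
theorem L707656 : sm gc N51985 = N49918 := ded_33_1 (flp_i L686259) (flp_c L686001) L707650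
theorem L707658 : sm ge N51985 = N50732 := ded_44_1 (flp_i L693447) L686013 L707650
theorem L707660 : sm gf N51985 = N49912 := ded_48_1 (flp_i L686192) (flp_f L686003) L707650
theorem L707662 : sm gg N51985 = N50735 := ded_51_1 (flp_i L693470) (flp_g L686005) L707650
theorem L707664 : sm gj N51985 = N49903 := ded_53_1 (flp_i L686094) (flp_j L686007) L707650
theorem L707666 : sm gd N49896 = N51986 := rfl
theorem L707668 : sm ga N51986 = N50600 := ded_12_1 L692472 (flp_a L686017) L707666
theorem L707670 : sm gb N51986 = N49898 := ded_20_1 (flp_d L686040) (flp_b L686019) L707666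
theorem L707672 : sm gf N51986 = N51986 := ded_35_2 (flp_d L707666) L686029 L707666
theorem L707673 : sm gg N51986 = N49954 := ded_36_2 (flp_d L686731) (flp_g L686023) L707666
theorem L707675 : sm gj N51986 = N49904 := ded_37_2 (flp_d L686104) (flp_j L686025) L707666
theorem L707677 : sm gc N51986 = N50551 := ded_27_1 (flp_d L692055) L670052 (flp_d L663457) (flp_c L686021) L707666
theorem L707679 : sm gh N51986 = N50565 := ded_38_2 L692192 L670425 (flp_d L664160) (flp_h L686027) L707666
theorem L707681 : sm gh N49898 = N51987 := rfl
theorem L707683 : sm ga N51987 = N50737 := ded_17_1 (flp_h L706310) L706303 L707681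
theorem L707685 : sm gb N51987 = N50565 := ded_25_1 (flp_h L707679) L707670 L707681
theorem L707687 : sm gf N51987 = N51987 := ded_47_1 (flp_h L707681) L686042 L707681
theorem L707688 : sm gg N51987 = N50568 := ded_50_1 (flp_h L707615) L707611 L707681
theorem L707690 : sm gj N51987 = N49907 := ded_52_1 (flp_h L686138) (flp_j L686043) L707681
theorem L707692 : sm gd N51987 = N49953 := ded_38_1 (flp_h L686717) (flp_d L664185) (flp_h L663173) L686040 L707681
theorem L707694 : sm gi N49898 = N51988 := rfl
theorem L707696 : sm gd N51988 = N49899 := ded_39_1 (flp_i L686045) L686040 L707694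
theorem L707698 : sm gf N51988 = N51988 := ded_48_1 (flp_i L707694) L686042 L707694
theorem L707699 : sm gj N51988 = N49908 := ded_53_1 (flp_i L686145) (flp_j L686043) L707694
theorem L707701 : sm gd N49900 = N51989 := rfl
theorem L707703 : sm ga N51989 = N50605 := ded_12_1 L692509 (flp_a L686056) L707701
theorem L707705 : sm gf N51989 = N49914 := ded_35_2 (flp_d L686216) (flp_f L686060) L707701
theorem L707707 : sm gj N51989 = N49910 := ded_37_2 (flp_d L686167) (flp_j L686062) L707701
theorem L707709 : sm gi N51989 = N49954 := ded_39_2 (flp_d L686731) (flp_i L686064) L707701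
theorem L707711 : sm gc N51989 = N50561 := ded_27_1 L692156 L670242 (flp_d L663203) (flp_c L686058) L707701
theorem L707713 : sm gi N49902 = N51990 := rfl
theorem L707715 : sm ga N51990 = N49905 := ded_18_1 (flp_i L686111) (flp_a L686083) L707713
theorem L707717 : sm gc N51990 = N49919 := ded_33_1 (flp_i L686272) (flp_c L686085) L707713
theorem L707719 : sm ge N51990 = N49903 := ded_44_1 (flp_i L686094) L686081 L707713
theorem L707721 : sm gf N51990 = N51990 := ded_48_1 (flp_i L707713) L686093 L707713
theorem L707722 : sm gg N51990 = N49944 := ded_51_1 (flp_i L686594) (flp_g L686087) L707713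
theorem L707724 : sm gj N51990 = N50732 := ded_53_1 (flp_i L693447) (flp_j L686089) L707713
theorem L707726 : sm gh N51990 = N50586 := ded_54_1 (flp_i L692351) L670425 (flp_i L664055) (flp_h L686091) L707713
theorem L707728 : sm gh N49903 = N51991 := rfl
theorem L707730 : sm ga N51991 = N49906 := ded_17_1 (flp_h L686124) (flp_a L686096) L707728
theorem L707732 : sm gb N51991 = N50736 := ded_25_1 (flp_h L706354) L706345 L707728
theorem L707734 : sm gc N51991 = N49920 := ded_32_1 (flp_h L686288) (flp_c L686098) L707728
theorem L707736 : sm ge N51991 = N50586 := ded_43_1 (flp_h L707726) L707719 L707728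
theorem L707738 : sm gf N51991 = N49915 := ded_47_1 (flp_h L686227) (flp_f L686100) L707728
theorem L707740 : sm gg N51991 = N50588 := ded_50_1 L692381 (flp_g L686102) L707728
theorem L707742 : sm gi N51991 = N49955 := ded_54_2 (flp_h L686743) (flp_i L664209) (flp_h L663215) L686094 L707728
theorem L707744 : sm gi N49904 = N51992 := rfl
theorem L707746 : sm gb N51992 = N49908 := ded_26_1 (flp_i L686145) (flp_b L686106) L707744
theorem L707748 : sm gd N51992 = N49905 := ded_39_1 (flp_i L686111) L686104 L707744
theorem L707750 : sm gf N51992 = N51992 := ded_48_1 (flp_i L707744) L686108 L707744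
theorem L707751 : sm gg N51992 = N50710 := ded_51_1 L693288 (flp_g L686109) L707744
theorem L707753 : sm gd N49906 = N51993 := rfl
theorem L707755 : sm gb N51993 = N49910 := ded_20_1 (flp_d L686167) (flp_b L686126) L707753
theorem L707757 : sm gf N51993 = N49916 := ded_35_2 (flp_d L686240) (flp_f L686132) L707753
theorem L707759 : sm gg N51993 = N50709 := ded_36_2 L693274 (flp_g L686134) L707753
theorem L707761 : sm gi N51993 = N49956 := ded_39_2 (flp_d L686757) (flp_i L686136) L707753
theorem L707763 : sm gi N49907 = N51994 := rfl
theorem L707765 : sm gd N51994 = N49957 := ded_39_1 (flp_i L686767) (flp_d L686143) L707763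
theorem L707767 : sm gf N51994 = N51994 := ded_48_1 (flp_i L707763) L686140 L707763
theorem L707768 : sm gg N51994 = N50711 := ded_51_1 (flp_i L693290) (flp_g L686141) L707763
theorem L707770 : sm gh N49908 = N51995 := rfl
theorem L707772 : sm gf N51995 = N51995 := ded_47_1 (flp_h L707770) L686149 L707770
theorem L707773 : sm gg N51995 = N50712 := ded_50_1 (flp_h L693296) (flp_g L686150) L707770
theorem L707775 : sm gd N49909 = N51996 := rfl
theorem L707777 : sm ga N51996 = N50740 := ded_12_1 L693506 (flp_a L686154) L707775
theorem L707779 : sm gb N51996 = N50643 := ded_20_1 L692804 (flp_b L686156) L707775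
theorem L707781 : sm gf N51996 = N51996 := ded_35_2 (flp_d L707775) L686162 L707775
theorem L707782 : sm gg N51996 = N50648 := ded_36_2 L692835 (flp_g L686163) L707775
theorem L707784 : sm gi N51996 = N49959 := ded_39_2 (flp_d L686785) (flp_i L686165) L707775
theorem L707786 : sm ge N49910 = N51997 := rfl
theorem L707788 : sm ga N51997 = N50613 := ded_13_1 L692567 (flp_a L686169) L707786
theorem L707790 : sm gc N51997 = N50562 := ded_28_1 L692166 (flp_c L686177) L707786
theorem L707792 : sm gg N51997 = N50713 := ded_41_2 (flp_e L693300) (flp_g L686173) L707786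
theorem L707794 : sm gi N51997 = N49960 := ded_44_2 (flp_e L686794) (flp_i L686175) L707786
theorem L707796 : sm gc N49911 = N51998 := rfl
theorem L707798 : sm ga N51998 = N50729 := ded_11_1 L693428 (flp_a L686181) L707796
theorem L707800 : sm ge N51998 = N50717 := ded_28_2 L693333 (flp_e L686190) L707796
theorem L707802 : sm gf N51998 = N51998 := ded_29_2 (flp_c L707796) L686185 L707796
theorem L707803 : sm gg N51998 = N50255 := ded_30_2 L689772 (flp_g L686186) L707796
theorem L707805 : sm gi N51998 = N49961 := ded_33_2 (flp_c L686804) (flp_i L686188) L707796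
theorem L707807 : sm gb N51998 = N50253 := ded_19_1 L689753 L667317 (flp_c L663564) (flp_b L686183) L707796
theorem L707809 : sm gh N49912 = N51999 := rfl
theorem L707811 : sm ga N51999 = N49913 := ded_17_1 (flp_h L686204) (flp_a L686194) L707809
theorem L707813 : sm gb N51999 = N50741 := ded_25_1 L693518 (flp_b L686196) L707809
theorem L707815 : sm gc N51999 = N49923 := ded_32_1 (flp_h L686330) (flp_c L686198) L707809
theorem L707817 : sm ge N51999 = N51999 := ded_43_1 (flp_h L707809) L686200 L707809
theorem L707818 : sm gg N51999 = N51999 := ded_50_1 (flp_h L707809) L686201 L707809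
theorem L707819 : sm gj N51999 = N49915 := ded_52_1 (flp_h L686227) (flp_j L686202) L707809
theorem L707821 : sm gi N51999 = N49962 := ded_54_2 (flp_h L686816) (flp_i L664294) (flp_h L663285) L686192 L707809
theorem L707823 : sm gd N49913 = N52000 := rfl
theorem L707825 : sm gb N52000 = N49914 := ded_20_1 (flp_d L686216) (flp_b L686206) L707823
theorem L707827 : sm gg N52000 = N52000 := ded_36_2 (flp_d L707823) L686211 L707823
theorem L707828 : sm gj N52000 = N49916 := ded_37_2 (flp_d L686240) (flp_j L686212) L707823
theorem L707830 : sm gi N52000 = N49963 := ded_39_2 (flp_d L686828) (flp_i L686214) L707823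
theorem L707832 : sm ge N49914 = N52001 := rfl
theorem L707834 : sm ga N52001 = N50621 := ded_13_1 L692630 (flp_a L686218) L707832
theorem L707836 : sm gc N52001 = N50066 := ded_28_1 L687952 (flp_c L686225) L707832
theorem L707838 : sm gg N52001 = N52001 := ded_41_2 (flp_e L707832) L686220 L707832
theorem L707839 : sm gj N52001 = N49917 := ded_42_2 (flp_e L686248) (flp_j L686221) L707832
theorem L707841 : sm gi N52001 = N49964 := ded_44_2 (flp_e L686837) (flp_i L686223) L707832
theorem L707843 : sm gd N52001 = N52001 := ded_34_1 (flp_e L707832) (flp_d L686216) L663305 L686216 L707832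
theorem L707844 : sm gf N49917 = N52002 := rfl
theorem L707846 : sm ga N52002 = N50629 := ded_14_1 L692701 (flp_a L686250) L707844
theorem L707848 : sm gc N52002 = N50065 := ded_29_1 L687942 (flp_c L686252) L707844
theorem L707850 : sm gd N52002 = N52002 := ded_35_1 (flp_f L707844) L686258 L707844
theorem L707851 : sm gi N52002 = N49965 := ded_48_2 (flp_f L686849) (flp_i L686256) L707844
theorem L707853 : sm gi N49925 = N52003 := rfl
theorem L707855 : sm ga N52003 = N50486 := ded_18_1 (flp_i L691549) (flp_a L686352) L707853
theorem L707857 : sm gb N52003 = N52003 := ded_26_1 (flp_i L707853) L686354 L707853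
theorem L707858 : sm gd N52003 = N50484 := ded_39_1 (flp_i L691532) L686363 L707853
theorem L707860 : sm ge N52003 = N49928 := ded_44_1 (flp_i L686389) (flp_e L686355) L707853
theorem L707862 : sm gf N52003 = N50556 := ded_48_1 L692118 (flp_f L686357) L707853
theorem L707864 : sm gg N52003 = N49926 := ded_51_1 (flp_i L686365) (flp_g L686359) L707853
theorem L707866 : sm gj N52003 = N50555 := ded_53_1 L692107 (flp_j L686361) L707853
theorem L707868 : sm gh N52003 = N49935 := ded_54_1 (flp_i L686497) (flp_h L663836) (flp_i L663627) L686350 L707853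
theorem L707870 : sm gh N49927 = N52004 := rfl
theorem L707872 : sm ga N52004 = N50373 := ded_17_1 (flp_h L690731) (flp_a L686379) L707870
theorem L707874 : sm gb N52004 = N52004 := ded_25_1 (flp_h L707870) L686381 L707870
theorem L707875 : sm ge N52004 = N50338 := ded_43_1 (flp_h L690484) (flp_e L686384) L707870
theorem L707877 : sm gf N52004 = N52004 := ded_47_1 (flp_h L707870) L686386 L707870
theorem L707878 : sm gg N52004 = N50716 := ded_50_1 (flp_h L693321) (flp_g L686387) L707870
theorem L707880 : sm gd N52004 = N49942 := ded_38_1 (flp_h L686574) L663891 (flp_h L663664) (flp_d L686382) L707870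
theorem L707882 : sm gi N52004 = N52004 := ded_54_2 (flp_h L707870) (flp_i L686377) L663653 L686377 L707870
theorem L707883 : sm gi N49930 = N52005 := rfl
theorem L707885 : sm ga N52005 = N49940 := ded_18_1 (flp_i L686552) (flp_a L686422) L707883
theorem L707887 : sm gb N52005 = N50257 := ded_26_1 (flp_i L689783) (flp_b L686432) L707883
theorem L707889 : sm gc N52005 = N49931 := ded_33_1 (flp_i L686434) L686420 L707883
theorem L707891 : sm ge N52005 = N50255 := ded_44_1 (flp_i L689768) (flp_e L686424) L707883
theorem L707893 : sm gf N52005 = N52005 := ded_48_1 (flp_i L707883) L686426 L707883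
theorem L707894 : sm gg N52005 = N50717 := ded_51_1 (flp_i L693329) (flp_g L686427) L707883
theorem L707896 : sm gj N52005 = N50262 := ded_53_1 (flp_i L689824) (flp_j L686429) L707883
theorem L707898 : sm gh N49931 = N52006 := rfl
theorem L707900 : sm ga N52006 = N49942 := ded_17_1 (flp_h L686574) (flp_a L686436) L707898
theorem L707902 : sm gb N52006 = N50275 := ded_25_1 (flp_h L689925) (flp_b L686438) L707898
theorem L707904 : sm ge N52006 = N50274 := ded_43_1 (flp_h L689914) (flp_e L686442) L707898
theorem L707906 : sm gf N52006 = N52006 := ded_47_1 (flp_h L707898) L686444 L707898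
theorem L707907 : sm gg N52006 = N50718 := ded_50_1 (flp_h L693337) (flp_g L686445) L707898
theorem L707909 : sm gj N52006 = N50277 := ded_52_1 (flp_h L689946) (flp_j L686447) L707898
theorem L707911 : sm gd N52006 = N50373 := ded_38_1 (flp_h L690731) L668591 (flp_h L663731) (flp_d L686440) L707898
theorem L707913 : sm gi N52006 = N52006 := ded_54_2 (flp_h L707898) (flp_i L686434) L663719 L686434 L707898
theorem L707914 : sm gi N49934 = N52007 := rfl
theorem L707916 : sm ga N52007 = N49957 := ded_18_1 (flp_i L686767) (flp_a L686485) L707914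
theorem L707918 : sm gb N52007 = N50735 := ded_26_1 (flp_i L693470) (flp_b L686487) L707914
theorem L707920 : sm gc N52007 = N52007 := ded_33_1 (flp_i L707914) L686489 L707914
theorem L707921 : sm ge N52007 = N50733 := ded_44_1 (flp_i L693454) (flp_e L686490) L707914
theorem L707923 : sm gf N52007 = N52007 := ded_48_1 (flp_i L707914) L686492 L707914
theorem L707924 : sm gg N52007 = N50719 := ded_51_1 (flp_i L693344) (flp_g L686493) L707914
theorem L707926 : sm gj N52007 = N50738 := ded_53_1 (flp_i L693491) (flp_j L686495) L707914
theorem L707928 : sm gh N52007 = N50742 := ded_54_1 (flp_i L693520) (flp_h L671604) (flp_i L663831) L686483 L707914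
theorem L707930 : sm gb N49936 = N52008 := rfl
theorem L707932 : sm ge N52008 = N50152 := ded_21_2 L688843 (flp_e L686514) L707930
theorem L707934 : sm gf N52008 = N52008 := ded_22_2 (flp_b L707930) L686516 L707930
theorem L707935 : sm gg N52008 = N50815 := ded_23_2 (flp_b L699574) L699578 L707930
theorem L707937 : sm gj N52008 = N49938 := ded_24_2 (flp_b L686532) (flp_j L686517) L707930
theorem L707939 : sm gh N52008 = N52008 := ded_25_2 (flp_b L707930) L686519 L707930
theorem L707940 : sm ga N52008 = N50153 := ded_10_1 L688847 L666621 (flp_b L667376) (flp_a L686512) L707930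
theorem L707942 : sm gc N52008 = N52008 := ded_19_2 (flp_b L707930) (flp_c L686510) L663853 L686510 L707930
theorem L707943 : sm gi N49936 = N52009 := rfl
theorem L707945 : sm ga N52009 = N50262 := ded_18_1 (flp_i L689824) (flp_a L686512) L707943
theorem L707947 : sm gc N52009 = N49937 := ded_33_1 (flp_i L686520) L686510 L707943
theorem L707949 : sm ge N52009 = N50260 := ded_44_1 (flp_i L689811) (flp_e L686514) L707943
theorem L707951 : sm gf N52009 = N52009 := ded_48_1 (flp_i L707943) L686516 L707943
theorem L707952 : sm gj N52009 = N49940 := ded_53_1 (flp_i L686552) (flp_j L686517) L707943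
theorem L707954 : sm gh N49937 = N52010 := rfl
theorem L707956 : sm ga N52010 = N50277 := ded_17_1 (flp_h L689946) (flp_a L686522) L707954
theorem L707958 : sm gb N52010 = N52010 := ded_25_1 (flp_h L707954) L686524 L707954
theorem L707959 : sm ge N52010 = N50276 := ded_43_1 (flp_h L689938) (flp_e L686527) L707954
theorem L707961 : sm gf N52010 = N52010 := ded_47_1 (flp_h L707954) L686529 L707954
theorem L707962 : sm gj N52010 = N49942 := ded_52_1 (flp_h L686574) (flp_j L686530) L707954
theorem L707964 : sm gi N52010 = N52010 := ded_54_2 (flp_h L707954) (flp_i L686520) L663859 L686520 L707954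
theorem L707965 : sm ga N49938 = N52011 := rfl
theorem L707967 : sm gc N52011 = N52011 := ded_11_2 (flp_a L707965) L686538 L707965
theorem L707968 : sm gf N52011 = N52011 := ded_14_2 (flp_a L707965) L686534 L707965
theorem L707969 : sm gg N52011 = N50725 := ded_15_2 (flp_a L693397) (flp_g L686535) L707965
theorem L707971 : sm gj N52011 = N50153 := ded_16_2 (flp_a L707940) L707937 L707965
theorem L707973 : sm gh N52011 = N52011 := ded_17_2 (flp_a L707965) L686537 L707965
theorem L707974 : sm gb N52011 = N50148 := ded_10_2 L688789 (flp_b L686432) L686422 L686532 L707965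
theorem L707976 : sm ge N50147 = N52011 := ded_42_3 L707971 (flp_e L688845) (flp_j L688783)
theorem L707978 : sm ge N49938 = N52012 := rfl
theorem L707980 : sm ga N52012 = N50147 := ded_13_1 L707976 (flp_a L707965) L707978
theorem L707982 : sm gb N52012 = N49939 := ded_21_1 (flp_e L686539) L686532 L707978
theorem L707984 : sm gc N52012 = N52012 := ded_28_1 (flp_e L707978) L686538 L707978
theorem L707985 : sm gg N52012 = N50726 := ded_41_2 (flp_e L693407) (flp_g L686535) L707978
theorem L707987 : sm gj N52012 = N50152 := ded_42_2 (flp_e L707932) L707937 L707978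
theorem L707989 : sm gh N52012 = N52012 := ded_43_2 (flp_e L707978) L686537 L707978
theorem L707990 : sm gf N50159 = N52012 := ded_14_0 L707980 L688781 L688903
theorem L707992 : sm gi N49938 = N52013 := rfl
theorem L707994 : sm gb N52013 = N49940 := ded_26_1 (flp_i L686552) L686532 L707992
theorem L707996 : sm gc N52013 = N52013 := ded_33_1 (flp_i L707992) L686538 L707992
theorem L707997 : sm gf N52013 = N52013 := ded_48_1 (flp_i L707992) L686534 L707992
theorem L707998 : sm gg N52013 = N50727 := ded_51_1 (flp_i L693414) (flp_g L686535) L707992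
theorem L708000 : sm gd N49939 = N52014 := rfl
theorem L708002 : sm ga N52014 = N50203 := ded_12_1 L689336 (flp_a L686541) L708000
theorem L708004 : sm gf N52014 = N50219 := ded_35_2 L689458 L686550 L708000
theorem L708006 : sm gg N52014 = N50728 := ded_36_2 (flp_d L693421) (flp_g L686545) L708000
theorem L708008 : sm gj N52014 = N50209 := ded_37_2 L689392 (flp_j L686547) L708000
theorem L708010 : sm gc N52014 = N49948 := ded_27_1 (flp_d L686649) L663944 (flp_d L663884) (flp_c L686543) L708000
theorem L708012 : sm gi N49939 = N52015 := rfl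
theorem L708014 : sm ga N52015 = N50255 := ded_18_1 (flp_i L689768) (flp_a L686541) L708012
theorem L708016 : sm gc N52015 = N49941 := ded_33_1 (flp_i L686559) (flp_c L686543) L708012
theorem L708018 : sm ge N52015 = N49940 := ded_44_1 (flp_i L686552) L686539 L708012
theorem L708020 : sm gf N52015 = N50268 := ded_48_1 (flp_i L689864) L686550 L708012
theorem L708022 : sm gg N52015 = N50729 := ded_51_1 (flp_i L693426) (flp_g L686545) L708012
theorem L708024 : sm gj N52015 = N50260 := ded_53_1 (flp_i L689811) (flp_j L686547) L708012
theorem L708026 : sm gh N49940 = N52016 := rfl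
theorem L708028 : sm gc N52016 = N49942 := ded_32_1 (flp_h L686574) (flp_c L686554) L708026
theorem L708030 : sm gf N52016 = N52016 := ded_47_1 (flp_h L708026) L686556 L708026
theorem L708031 : sm gg N52016 = N50730 := ded_50_1 (flp_h L693433) (flp_g L686557) L708026
theorem L708033 : sm gi N52016 = N52016 := ded_54_2 (flp_h L708026) (flp_i L686552) L663873 L686552 L708026
theorem L708034 : sm gh N49941 = N52017 := rfl
theorem L708036 : sm ga N52017 = N50274 := ded_17_1 (flp_h L689914) (flp_a L686561) L708034
theorem L708038 : sm gb N52017 = N52017 := ded_25_1 (flp_h L708034) L686563 L708034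
theorem L708039 : sm ge N52017 = N49942 := ded_43_1 (flp_h L686574) (flp_e L686566) L708034
theorem L708041 : sm gf N52017 = N50279 := ded_47_1 (flp_h L689967) (flp_f L686568) L708034
theorem L708043 : sm gg N52017 = N50731 := ded_50_1 (flp_h L693440) (flp_g L686570) L708034
theorem L708045 : sm gj N52017 = N50276 := ded_52_1 (flp_h L689938) (flp_j L686572) L708034
theorem L708047 : sm gd N52017 = N50401 := ded_38_1 (flp_h L690946) L668844 (flp_h L663979) (flp_d L686564) L708034
theorem L708049 : sm gi N52017 = N52017 := ded_54_2 (flp_h L708034) (flp_i L686559) L663883 L686559 L708034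
theorem L708050 : sm gi N49943 = N52018 := rfl
theorem L708052 : sm ga N52018 = N50591 := ded_18_1 (flp_i L692398) (flp_a L686591) L708050
theorem L708054 : sm gb N52018 = N49944 := ded_26_1 (flp_i L686594) L686581 L708050
theorem L708056 : sm gc N52018 = N52018 := ded_33_1 (flp_i L708050) L686593 L708050
theorem L708057 : sm ge N52018 = N50589 := ded_44_1 (flp_i L692383) (flp_e L686583) L708050
theorem L708059 : sm gf N52018 = N49950 := ded_48_1 (flp_i L686675) (flp_f L686585) L708050
theorem L708061 : sm gj N52018 = N49947 := ded_53_1 (flp_i L686638) (flp_j L686587) L708050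
theorem L708063 : sm gh N52018 = N50587 := ded_54_1 (flp_i L692360) L670443 (flp_i L664069) (flp_h L686589) L708050
theorem L708065 : sm gi N49945 = N52019 := rfl
theorem L708067 : sm ga N52019 = N49947 := ded_18_1 (flp_i L686638) L686608 L708065
theorem L708069 : sm gb N52019 = N50588 := ded_26_1 (flp_i L692369) (flp_b L686619) L708065
theorem L708071 : sm gc N52019 = N52019 := ded_33_1 (flp_i L708065) L686610 L708065
theorem L708072 : sm ge N52019 = N50587 := ded_44_1 (flp_i L692360) L686621 L708065
theorem L708074 : sm gf N52019 = N49951 := ded_48_1 (flp_i L686689) (flp_f L686611) L708065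
theorem L708076 : sm gg N52019 = N50736 := ded_51_1 (flp_i L693479) (flp_g L686613) L708065
theorem L708078 : sm gj N52019 = N50591 := ded_53_1 (flp_i L692398) (flp_j L686615) L708065
theorem L708080 : sm gh N52019 = N50589 := ded_54_1 (flp_i L692383) L670486 (flp_i L664085) (flp_h L686617) L708065
theorem L708082 : sm gd N49946 = N52020 := rfl
theorem L708084 : sm ga N52020 = N50568 := ded_12_1 L692211 (flp_a L686625) L708082
theorem L708086 : sm gb N52020 = N49948 := ded_20_1 (flp_d L686649) (flp_b L686627) L708082
theorem L708088 : sm gf N52020 = N50580 := ded_35_2 L692303 (flp_f L686636) L708082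
theorem L708090 : sm gg N52020 = N50737 := ded_36_2 (flp_d L693486) (flp_g L686630) L708082
theorem L708092 : sm gj N52020 = N50573 := ded_37_2 L692255 (flp_j L686632) L708082
theorem L708094 : sm gi N49946 = N52021 := rfl
theorem L708096 : sm ga N52021 = N50587 := ded_18_1 (flp_i L692360) (flp_a L686625) L708094
theorem L708098 : sm gb N52021 = N49949 := ded_26_1 (flp_i L686659) (flp_b L686627) L708094
theorem L708100 : sm gc N52021 = N52021 := ded_33_1 (flp_i L708094) L686629 L708094
theorem L708101 : sm ge N52021 = N49947 := ded_44_1 (flp_i L686638) L686623 L708094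
theorem L708103 : sm gf N52021 = N50594 := ded_48_1 (flp_i L692423) (flp_f L686636) L708094
theorem L708105 : sm gg N52021 = N50738 := ded_51_1 (flp_i L693491) (flp_g L686630) L708094
theorem L708107 : sm gj N52021 = N50589 := ded_53_1 (flp_i L692383) (flp_j L686632) L708094
theorem L708109 : sm gh N52021 = N50591 := ded_54_1 (flp_i L692398) L670495 (flp_i L664102) (flp_h L686634) L708094
theorem L708111 : sm gh N49948 = N52022 := rfl
theorem L708113 : sm ga N52022 = N50603 := ded_17_1 L692495 (flp_a L686651) L708111
theorem L708115 : sm gf N52022 = N50618 := ded_47_1 L692602 (flp_f L686653) L708111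
theorem L708117 : sm gg N52022 = N50739 := ded_50_1 (flp_h L693499) (flp_g L686655) L708111
theorem L708119 : sm gj N52022 = N50608 := ded_52_1 L692535 (flp_j L686657) L708111
theorem L708121 : sm gd N52022 = N49952 := ded_38_1 (flp_h L686704) (flp_d L664106) (flp_h L663950) L686649 L708111
theorem L708123 : sm gi N49948 = N52023 := rfl
theorem L708125 : sm ga N52023 = N50648 := ded_18_1 (flp_i L692831) (flp_a L686651) L708123
theorem L708127 : sm gd N52023 = N49949 := ded_39_1 (flp_i L686659) L686649 L708123
theorem L708129 : sm gf N52023 = N50674 := ded_48_1 (flp_i L692998) (flp_f L686653) L708123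
theorem L708131 : sm gg N52023 = N50740 := ded_51_1 (flp_i L693504) (flp_g L686655) L708123
theorem L708133 : sm gj N52023 = N50657 := ded_53_1 (flp_i L692895) (flp_j L686657) L708123
theorem L708135 : sm gi N49952 = N52024 := rfl
theorem L708137 : sm ga N52024 = N50733 := ded_18_1 (flp_i L693454) (flp_a L686706) L708135
theorem L708139 : sm gc N52024 = N52024 := ded_33_1 (flp_i L708135) L686708 L708135
theorem L708140 : sm ge N52024 = N49957 := ded_44_1 (flp_i L686767) (flp_e L686709) L708135
theorem L708142 : sm gf N52024 = N50741 := ded_48_1 (flp_i L693509) (flp_f L686711) L708135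
theorem L708144 : sm gg N52024 = N50742 := ded_51_1 (flp_i L693520) (flp_g L686713) L708135
theorem L708146 : sm gj N52024 = N50736 := ded_53_1 (flp_i L693479) (flp_j L686715) L708135
theorem L708148 : sm gh N52024 = N50719 := ded_54_1 (flp_i L693344) (flp_h L671431) (flp_i L664116) L686704 L708135
theorem L708150 : sm gi N49953 = N52025 := rfl
theorem L708152 : sm ga N52025 = N50738 := ded_18_1 (flp_i L693491) (flp_a L686719) L708150
theorem L708154 : sm gb N52025 = N50586 := ded_26_1 (flp_i L692351) (flp_b L686721) L708150
theorem L708156 : sm gc N52025 = N52025 := ded_33_1 (flp_i L708150) L686723 L708150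
theorem L708157 : sm ge N52025 = N50736 := ded_44_1 (flp_i L693479) (flp_e L686724) L708150
theorem L708159 : sm gf N52025 = N52025 := ded_48_1 (flp_i L708150) L686726 L708150
theorem L708160 : sm gg N52025 = N50587 := ded_51_1 (flp_i L692360) (flp_g L686727) L708150
theorem L708162 : sm gj N52025 = N49957 := ded_53_1 (flp_i L686767) (flp_j L686729) L708150
theorem L708164 : sm ge N49954 = N52026 := rfl
theorem L708166 : sm ga N52026 = N50604 := ded_13_1 (flp_e L692497) (flp_a L686733) L708164
theorem L708168 : sm gc N52026 = N50560 := ded_28_1 (flp_e L692144) (flp_c L686739) L708164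
theorem L708170 : sm gj N52026 = N49960 := ded_42_2 (flp_e L686794) (flp_j L686737) L708164
theorem L708172 : sm gh N52026 = N50569 := ded_43_2 (flp_e L692217) (flp_h L686741) L708164
theorem L708174 : sm ge N49956 = N52027 := rfl
theorem L708176 : sm gb N52027 = N49960 := ded_21_1 (flp_e L686794) (flp_b L686759) L708174
theorem L708178 : sm gg N52027 = N50649 := ded_41_2 L692847 (flp_g L686763) L708174
theorem L708180 : sm gh N52027 = N50574 := ded_43_2 (flp_e L692261) (flp_h L686765) L708174
theorem L708182 : sm gd N52027 = N50642 := ded_34_1 (flp_e L692794) L670847 (flp_e L664231) L686757 L708174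
theorem L708184 : sm gh N49957 = N52028 := rfl
theorem L708186 : sm ga N52028 = N50742 := ded_17_1 (flp_h L707928) L707916 L708184
theorem L708188 : sm gb N52028 = N50732 := ded_25_1 (flp_h L706284) L706275 L708184
theorem L708190 : sm gc N52028 = N52028 := ded_32_1 (flp_h L708184) L686769 L708184
theorem L708191 : sm ge N52028 = N50719 := ded_43_1 (flp_h L708148) L708140 L708184
theorem L708193 : sm gf N52028 = N52028 := ded_47_1 (flp_h L708184) L686770 L708184
theorem L708194 : sm gg N52028 = N50733 := ded_50_1 L693463 (flp_g L686771) L708184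
theorem L708196 : sm gi N52028 = N49958 := ded_54_2 (flp_h L686773) (flp_i L664243) L664237 L686767 L708184
theorem L708198 : sm gd N49958 = N52029 := rfl
theorem L708200 : sm ga N52029 = N50739 := ded_12_1 L693502 (flp_a L686775) L708198
theorem L708202 : sm gb N52029 = N50600 := ded_20_1 L692472 (flp_b L686777) L708198
theorem L708204 : sm gf N52029 = N52029 := ded_35_2 (flp_d L708198) L686782 L708198
theorem L708205 : sm gg N52029 = N50603 := ded_36_2 L692489 (flp_g L686783) L708198
theorem L708207 : sm gh N52029 = N49959 := ded_38_2 (flp_d L686785) (flp_h L664257) (flp_d L664250) L686773 L708198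
theorem L708209 : sm gc N49959 = N52030 := rfl
theorem L708211 : sm ga N52030 = N50728 := ded_11_1 L693424 (flp_a L686787) L708209
theorem L708213 : sm gf N52030 = N52030 := ded_29_2 (flp_c L708209) L686791 L708209
theorem L708214 : sm gg N52030 = N50203 := ded_30_2 L689342 (flp_g L686792) L708209
theorem L708216 : sm gb N52030 = N50200 := ded_19_1 (flp_c L689312) L666966 L670842 (flp_b L686789) L708209
theorem L708218 : sm gd N52030 = N49961 := ded_27_2 (flp_c L686804) (flp_d L664282) (flp_c L664263) L686785 L708209
theorem L708220 : sm ge N49959 = N52031 := rfl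
theorem L708222 : sm ga N52031 = N50611 := ded_13_1 L692553 (flp_a L686787) L708220
theorem L708224 : sm gb N52031 = N50642 := ded_21_1 (flp_e L692794) (flp_b L686789) L708220
theorem L708226 : sm gg N52031 = N50647 := ded_41_2 (flp_e L692823) (flp_g L686792) L708220
theorem L708228 : sm gd N52031 = N49960 := ded_34_1 (flp_e L686794) (flp_d L664270) (flp_e L664265) L686785 L708220
theorem L708230 : sm gf N49960 = N52032 := rfl
theorem L708232 : sm ga N52032 = N50612 := ded_14_1 (flp_f L692555) (flp_a L686796) L708230
theorem L708234 : sm gc N52032 = N50064 := ded_29_1 L687932 (flp_c L686798) L708230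
theorem L708236 : sm gh N52032 = N50071 := ded_47_2 L688007 (flp_h L686802) L708230
theorem L708238 : sm ge N52032 = N49965 := ded_40_1 (flp_f L686849) (flp_e L664348) (flp_f L664274) L686794 L708230
theorem L708240 : sm gh N49966 = N52033 := rfl
theorem L708242 : sm ga N52033 = N49974 := ded_17_1 (flp_h L686954) (flp_a L686860) L708240
theorem L708244 : sm gb N52033 = N50287 := ded_25_1 (flp_h L690050) (flp_b L686862) L708240
theorem L708246 : sm ge N52033 = N50294 := ded_43_1 (flp_h L690103) (flp_e L686866) L708240
theorem L708248 : sm gg N52033 = N49970 := ded_50_1 (flp_h L686912) (flp_g L686868) L708240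
theorem L708250 : sm gj N52033 = N49986 := ded_52_1 (flp_h L687097) (flp_j L686870) L708240
theorem L708252 : sm gd N52033 = N49971 := ded_38_1 (flp_h L686920) L664558 (flp_h L664442) (flp_d L686864) L708240
theorem L708254 : sm gi N52033 = N49967 := ded_54_2 (flp_h L686872) (flp_i L664444) (flp_h L664426) L686858 L708240
theorem L708256 : sm gh N49968 = N52034 := rfl
theorem L708258 : sm ga N52034 = N50291 := ded_17_1 (flp_h L690079) (flp_a L686886) L708256
theorem L708260 : sm gb N52034 = N49970 := ded_25_1 (flp_h L686912) (flp_b L686888) L708256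
theorem L708262 : sm ge N52034 = N50283 := ded_43_1 (flp_h L690017) (flp_e L686892) L708256
theorem L708264 : sm gg N52034 = N50287 := ded_50_1 (flp_h L690050) (flp_g L686894) L708256
theorem L708266 : sm gj N52034 = N49995 := ded_52_1 (flp_h L687200) (flp_j L686896) L708256
theorem L708268 : sm gd N52034 = N49981 := ded_38_1 (flp_h L687031) L664656 (flp_h L664483) (flp_d L686890) L708256
theorem L708270 : sm gi N52034 = N50288 := ded_54_2 (flp_h L690058) (flp_i L667758) (flp_h L664468) L686884 L708256
theorem L708272 : sm gh N49969 = N52035 := rfl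
theorem L708274 : sm ga N52035 = N49981 := ded_17_1 (flp_h L687031) (flp_a L686900) L708272
theorem L708276 : sm gb N52035 = N50283 := ded_25_1 (flp_h L690017) (flp_b L686902) L708272
theorem L708278 : sm ge N52035 = N49970 := ded_43_1 (flp_h L686912) (flp_e L686906) L708272
theorem L708280 : sm gg N52035 = N50294 := ded_50_1 (flp_h L690103) (flp_g L686908) L708272
theorem L708282 : sm gj N52035 = N50001 := ded_52_1 (flp_h L687258) (flp_j L686910) L708272
theorem L708284 : sm gd N52035 = N50291 := ded_38_1 (flp_h L690079) L667783 (flp_h L664520) (flp_d L686904) L708272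
theorem L708286 : sm gi N52035 = N50296 := ded_54_2 (flp_h L690119) (flp_i L667851) (flp_h L664495) L686898 L708272
theorem L708288 : sm gh N49972 = N52036 := rfl
theorem L708290 : sm gb N52036 = N50304 := ded_25_1 (flp_h L690180) (flp_b L686934) L708288
theorem L708292 : sm gf N52036 = N49974 := ded_47_1 (flp_h L686954) (flp_f L686938) L708288
theorem L708294 : sm gj N52036 = N50038 := ded_52_1 L687645 (flp_j L686940) L708288
theorem L708296 : sm gd N52036 = N49979 := ded_38_1 (flp_h L687015) L664638 (flp_h L664587) (flp_d L686936) L708288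
theorem L708298 : sm gi N52036 = N50314 := ded_54_2 (flp_h L690254) (flp_i L668029) (flp_h L664574) L686932 L708288
theorem L708300 : sm gh N49973 = N52037 := rfl
theorem L708302 : sm gc N52037 = N49974 := ded_32_1 (flp_h L686954) (flp_c L686944) L708300
theorem L708304 : sm ge N52037 = N50301 := ded_43_1 (flp_h L690159) (flp_e L686948) L708300
theorem L708306 : sm gg N52037 = N49979 := ded_50_1 (flp_h L687015) (flp_g L686950) L708300
theorem L708308 : sm gj N52037 = N50415 := ded_52_1 (flp_h L691042) (flp_j L686952) L708300
theorem L708310 : sm gi N52037 = N50311 := ded_54_2 (flp_h L690232) (flp_i L668009) (flp_h L664597) L686942 L708300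
theorem L708312 : sm gi N49975 = N52038 := rfl
theorem L708314 : sm gb N52038 = N49978 := ded_26_1 (flp_i L687004) (flp_b L686968) L708312
theorem L708316 : sm gc N52038 = N50308 := ded_33_1 (flp_i L690206) (flp_c L686970) L708312
theorem L708318 : sm gd N52038 = N52038 := ded_39_1 (flp_i L708312) L686978 L708312
theorem L708319 : sm ge N52038 = N49976 := ded_44_1 (flp_i L686979) L686966 L708312
theorem L708321 : sm gg N52038 = N50300 := ded_51_1 (flp_i L690152) (flp_g L686972) L708312
theorem L708323 : sm gj N52038 = N50033 := ded_53_1 (flp_i L687606) (flp_j L686974) L708312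
theorem L708325 : sm gh N49976 = N52039 := rfl
theorem L708327 : sm gb N52039 = N49979 := ded_25_1 (flp_h L687015) (flp_b L686981) L708325
theorem L708329 : sm gc N52039 = N50309 := ded_32_1 (flp_h L690216) (flp_c L686983) L708325
theorem L708331 : sm gf N52039 = N50288 := ded_47_1 (flp_h L690058) (flp_f L686987) L708325
theorem L708333 : sm gj N52039 = N50034 := ded_52_1 (flp_h L687615) (flp_j L686989) L708325
theorem L708335 : sm gd N52039 = N50304 := ded_38_1 (flp_h L690180) L667957 (flp_h L664734) (flp_d L686985) L708325
theorem L708337 : sm gi N49977 = N52040 := rfl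
theorem L708339 : sm ga N52040 = N50303 := ded_18_1 (flp_i L690175) (flp_a L686993) L708337
theorem L708341 : sm gc N52040 = N49980 := ded_33_1 (flp_i L687021) (flp_c L686995) L708337
theorem L708343 : sm gd N52040 = N52040 := ded_39_1 (flp_i L708337) L686997 L708337
theorem L708344 : sm ge N52040 = N50295 := ded_44_1 (flp_i L690111) (flp_e L687002) L708337
theorem L708346 : sm gf N52040 = N49978 := ded_48_1 (flp_i L687004) L686991 L708337
theorem L708348 : sm gj N52040 = N50036 := ded_53_1 (flp_i L687626) (flp_j L686998) L708337
theorem L708350 : sm gh N49978 = N52041 := rfl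
theorem L708352 : sm gc N52041 = N49981 := ded_32_1 (flp_h L687031) (flp_c L687006) L708350
theorem L708354 : sm ge N52041 = N49979 := ded_43_1 (flp_h L687015) (flp_e L687009) L708350
theorem L708356 : sm gg N52041 = N50301 := ded_50_1 (flp_h L690159) (flp_g L687011) L708350
theorem L708358 : sm gj N52041 = N50037 := ded_52_1 (flp_h L687633) (flp_j L687013) L708350
theorem L708360 : sm gi N52041 = N50306 := ded_54_2 (flp_h L690192) (flp_i L667967) (flp_h L664631) L687004 L708350
theorem L708362 : sm gh N49980 = N52042 := rfl
theorem L708364 : sm gb N52042 = N50314 := ded_25_1 (flp_h L690254) (flp_b L687023) L708362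
theorem L708366 : sm gf N52042 = N49981 := ded_47_1 (flp_h L687031) (flp_f L687027) L708362
theorem L708368 : sm gj N52042 = N50041 := ded_52_1 (flp_h L687661) (flp_j L687029) L708362
theorem L708370 : sm gi N52042 = N50304 := ded_54_2 (flp_h L690180) (flp_i L667955) (flp_h L664650) L687021 L708362
theorem L708372 : sm ge N49982 = N52043 := rfl
theorem L708374 : sm ga N52043 = N50014 := ded_13_1 (flp_e L687417) (flp_a L687045) L708372
theorem L708376 : sm gb N52043 = N50345 := ded_21_1 (flp_e L690549) (flp_b L687047) L708372
theorem L708378 : sm gj N52043 = N49996 := ded_42_2 (flp_e L687210) (flp_j L687051) L708372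
theorem L708380 : sm gh N52043 = N49987 := ded_43_2 (flp_e L687109) (flp_h L687053) L708372
theorem L708382 : sm gd N52043 = N50121 := ded_34_1 (flp_e L688531) (flp_d L666356) (flp_e L664758) L687043 L708372
theorem L708384 : sm gf N52043 = N50379 := ded_40_2 (flp_e L690778) L668663 (flp_e L664774) (flp_f L687049) L708372
theorem L708386 : sm gi N49982 = N52044 := rfl
theorem L708388 : sm ga N52044 = N50015 := ded_18_1 (flp_i L687429) (flp_a L687045) L708386
theorem L708390 : sm gb N52044 = N50346 := ded_26_1 (flp_i L690553) (flp_b L687047) L708386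
theorem L708392 : sm gd N52044 = N49983 := ded_39_1 (flp_i L687055) L687043 L708386
theorem L708394 : sm gf N52044 = N49984 := ded_48_1 (flp_i L687071) (flp_f L687049) L708386
theorem L708396 : sm gj N52044 = N49997 := ded_53_1 (flp_i L687216) (flp_j L687051) L708386
theorem L708398 : sm gh N49984 = N52045 := rfl
theorem L708400 : sm ga N52045 = N50024 := ded_17_1 (flp_h L687513) (flp_a L687073) L708398
theorem L708402 : sm gb N52045 = N50348 := ded_25_1 (flp_h L690566) (flp_b L687075) L708398
theorem L708404 : sm ge N52045 = N50382 := ded_43_1 (flp_h L690801) (flp_e L687079) L708398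
theorem L708406 : sm gg N52045 = N49986 := ded_50_1 (flp_h L687097) (flp_g L687081) L708398
theorem L708408 : sm gj N52045 = N50000 := ded_52_1 (flp_h L687250) (flp_j L687083) L708398
theorem L708410 : sm gd N52045 = N50007 := ded_38_1 (flp_h L687339) L665120 (flp_h L664792) (flp_d L687077) L708398
theorem L708412 : sm gi N52045 = N49989 := ded_54_2 (flp_h L687129) (flp_i L664834) (flp_h L664776) L687071 L708398
theorem L708414 : sm gh N49985 = N52046 := rfl
theorem L708416 : sm ga N52046 = N50415 := ded_17_1 (flp_h L691042) (flp_a L687087) L708414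
theorem L708418 : sm gc N52046 = N49986 := ded_32_1 (flp_h L687097) (flp_c L687089) L708414
theorem L708420 : sm ge N52046 = N50384 := ded_43_1 (flp_h L690814) (flp_e L687093) L708414
theorem L708422 : sm gf N52046 = N50455 := ded_47_1 L691311 (flp_f L687095) L708414
theorem L708424 : sm gd N52046 = N50454 := ded_38_1 (flp_h L691303) L669167 L671958 (flp_d L687091) L708414
theorem L708426 : sm gi N52046 = N49990 := ded_54_2 (flp_h L687141) (flp_i L664846) (flp_h L664800) L687085 L708414
theorem L708428 : sm gi N49987 = N52047 := rfl
theorem L708430 : sm ga N52047 = N50433 := ded_18_1 (flp_i L691159) (flp_a L687111) L708428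
theorem L708432 : sm gb N52047 = N50357 := ded_26_1 (flp_i L690627) (flp_b L687113) L708428
theorem L708434 : sm gd N52047 = N50073 := ded_39_1 (flp_i L688019) (flp_d L687115) L708428
theorem L708436 : sm ge N52047 = N49988 := ded_44_1 (flp_i L687119) L687109 L708428
theorem L708438 : sm gf N52047 = N50391 := ded_48_1 (flp_i L690872) (flp_f L687117) L708428
theorem L708440 : sm gh N49988 = N52048 := rfl
theorem L708442 : sm ga N52048 = N50447 := ded_17_1 (flp_h L691259) (flp_a L687121) L708440
theorem L708444 : sm gb N52048 = N50358 := ded_25_1 (flp_h L690633) (flp_b L687123) L708440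
theorem L708446 : sm gf N52048 = N49989 := ded_47_1 (flp_h L687129) (flp_f L687127) L708440
theorem L708448 : sm gd N52048 = N50021 := ded_38_1 (flp_h L687481) L665206 (flp_h L664832) (flp_d L687125) L708440
theorem L708450 : sm gd N49990 = N52049 := rfl
theorem L708452 : sm ga N52049 = N50455 := ded_12_1 (flp_d L691309) (flp_a L687143) L708450
theorem L708454 : sm gf N52049 = N50415 := ded_35_2 (flp_d L695646) L695644 L708450
theorem L708456 : sm gi N52049 = N50454 := ded_39_2 (flp_d L708424) L708426 L708450
theorem L708458 : sm gc N52049 = N50038 := ded_27_1 (flp_d L687639) L665318 (flp_d L664864) (flp_c L687145) L708450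
theorem L708460 : sm gh N52049 = N49991 := ded_38_2 (flp_d L687149) (flp_h L664866) (flp_d L664852) L687141 L708450
theorem L708462 : sm ge N49992 = N52050 := rfl
theorem L708464 : sm ga N52050 = N50356 := ded_13_1 L690625 (flp_a L687161) L708462
theorem L708466 : sm gb N52050 = N49996 := ded_21_1 (flp_e L687210) (flp_b L687163) L708462
theorem L708468 : sm gj N52050 = N50345 := ded_42_2 (flp_e L690549) (flp_j L687167) L708462
theorem L708470 : sm gh N52050 = N50352 := ded_43_2 (flp_e L690593) (flp_h L687169) L708462
theorem L708472 : sm gd N52050 = N50106 := ded_34_1 (flp_e L688384) (flp_d L666200) (flp_e L664881) L687159 L708462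
theorem L708474 : sm gf N52050 = N50330 := ded_40_2 (flp_e L690418) L668254 (flp_e L664897) (flp_f L687165) L708462
theorem L708476 : sm gi N49992 = N52051 := rfl
theorem L708478 : sm ga N52051 = N50363 := ded_18_1 (flp_i L690665) (flp_a L687161) L708476
theorem L708480 : sm gb N52051 = N49997 := ded_26_1 (flp_i L687216) (flp_b L687163) L708476
theorem L708482 : sm gd N52051 = N49993 := ded_39_1 (flp_i L687171) L687159 L708476
theorem L708484 : sm gf N52051 = N49994 := ded_48_1 (flp_i L687186) (flp_f L687165) L708476
theorem L708486 : sm gj N52051 = N50346 := ded_53_1 (flp_i L690553) (flp_j L687167) L708476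
theorem L708488 : sm gh N49994 = N52052 := rfl
theorem L708490 : sm ga N52052 = N50364 := ded_17_1 (flp_h L690673) (flp_a L687188) L708488
theorem L708492 : sm gb N52052 = N50000 := ded_25_1 (flp_h L687250) (flp_b L687190) L708488
theorem L708494 : sm ge N52052 = N50334 := ded_43_1 (flp_h L690456) (flp_e L687194) L708488
theorem L708496 : sm gg N52052 = N49995 := ded_50_1 (flp_h L687200) (flp_g L687196) L708488
theorem L708498 : sm gj N52052 = N50348 := ded_52_1 (flp_h L690566) (flp_j L687198) L708488
theorem L708500 : sm gd N52052 = N50032 := ded_38_1 (flp_h L687594) L665275 (flp_h L664914) (flp_d L687192) L708488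
theorem L708502 : sm gi N52052 = N50359 := ded_54_2 (flp_h L690639) (flp_i L668489) (flp_h L664899) L687186 L708488
theorem L708504 : sm gf N49996 = N52053 := rfl
theorem L708506 : sm ga N52053 = N50019 := ded_14_1 (flp_f L687461) (flp_a L687212) L708504
theorem L708508 : sm gb N52053 = N50330 := ded_22_1 (flp_f L708474) L708466 L708504
theorem L708510 : sm gd N52053 = N50126 := ded_35_1 (flp_f L688571) (flp_d L687214) L708504
theorem L708512 : sm gj N52053 = N50379 := ded_46_2 (flp_f L708384) L708378 L708504
theorem L708514 : sm gh N52053 = N50387 := ded_47_2 (flp_f L696303) L696299 L708504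
theorem L708516 : sm ge N52053 = N49998 := ded_40_1 (flp_f L687224) (flp_e L664944) (flp_f L664930) L687210 L708504
theorem L708518 : sm gi N49996 = N52054 := rfl
theorem L708520 : sm ga N52054 = N50020 := ded_18_1 (flp_i L687473) (flp_a L687212) L708518
theorem L708522 : sm gd N52054 = N50127 := ded_39_1 (flp_i L688579) (flp_d L687214) L708518
theorem L708524 : sm ge N52054 = N49997 := ded_44_1 (flp_i L687216) L687210 L708518
theorem L708526 : sm gh N49997 = N52055 := rfl
theorem L708528 : sm ga N52055 = N50021 := ded_17_1 (flp_h L687481) (flp_a L687218) L708526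
theorem L708530 : sm gf N52055 = N50000 := ded_47_1 (flp_h L687250) (flp_f L687222) L708526
theorem L708532 : sm gd N52055 = N50447 := ded_38_1 (flp_h L691259) L669117 (flp_h L664942) (flp_d L687220) L708526
theorem L708534 : sm gi N49998 = N52056 := rfl
theorem L708536 : sm ga N52056 = N50031 := ded_18_1 (flp_i L687584) (flp_a L687226) L708534
theorem L708538 : sm gb N52056 = N50331 := ded_26_1 (flp_i L690424) (flp_b L687228) L708534
theorem L708540 : sm gd N52056 = N50002 := ded_39_1 (flp_i L687268) (flp_d L687230) L708534
theorem L708542 : sm gf N52056 = N49999 := ded_48_1 (flp_i L687236) L687224 L708534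
theorem L708544 : sm gj N52056 = N50380 := ded_53_1 (flp_i L690784) (flp_j L687232) L708534
theorem L708546 : sm gh N49999 = N52057 := rfl
theorem L708548 : sm ga N52057 = N50032 := ded_17_1 (flp_h L687594) (flp_a L687238) L708546
theorem L708550 : sm gb N52057 = N50334 := ded_25_1 (flp_h L690456) (flp_b L687240) L708546
theorem L708552 : sm ge N52057 = N50000 := ded_43_1 (flp_h L687250) (flp_e L687244) L708546
theorem L708554 : sm gg N52057 = N50001 := ded_50_1 (flp_h L687258) (flp_g L687246) L708546
theorem L708556 : sm gj N52057 = N50382 := ded_52_1 (flp_h L690801) (flp_j L687248) L708546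
theorem L708558 : sm gd N52057 = N50364 := ded_38_1 (flp_h L690673) L668520 (flp_h L665008) (flp_d L687242) L708546
theorem L708560 : sm gi N52057 = N50393 := ded_54_2 (flp_h L690886) (flp_i L668761) (flp_h L664954) L687236 L708546
theorem L708562 : sm gi N50005 = N52058 := rfl
theorem L708564 : sm gb N52058 = N50409 := ded_26_1 (flp_i L691005) (flp_b L687319) L708562
theorem L708566 : sm gd N52058 = N50654 := ded_39_1 (flp_i L692877) (flp_d L687325) L708562
theorem L708568 : sm ge N52058 = N50006 := ded_44_1 (flp_i L687329) L687317 L708562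
theorem L708570 : sm gf N52058 = N50423 := ded_48_1 (flp_i L691097) (flp_f L687327) L708562
theorem L708572 : sm gj N52058 = N50433 := ded_53_1 (flp_i L691159) (flp_j L687321) L708562
theorem L708574 : sm gh N50006 = N52059 := rfl
theorem L708576 : sm gb N52059 = N50410 := ded_25_1 (flp_h L691009) (flp_b L687331) L708574
theorem L708578 : sm gf N52059 = N50007 := ded_47_1 (flp_h L687339) (flp_f L687335) L708574
theorem L708580 : sm gj N52059 = N50447 := ded_52_1 (flp_h L691259) (flp_j L687337) L708574
theorem L708582 : sm gi N52059 = N50021 := ded_54_2 (flp_h L687481) (flp_i L665202) (flp_h L665102) L687329 L708574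
theorem L708584 : sm gi N50008 = N52060 := rfl
theorem L708586 : sm gb N52060 = N50050 := ded_26_1 L687765 (flp_b L687353) L708584
theorem L708588 : sm gd N52060 = N50049 := ded_39_1 L687759 (flp_d L687355) L708584
theorem L708590 : sm gf N52060 = N50419 := ded_48_1 (flp_i L691067) (flp_f L687359) L708584
theorem L708592 : sm gg N52060 = N50009 := ded_51_1 (flp_i L687361) L687351 L708584
theorem L708594 : sm gh N50009 = N52061 := rfl
theorem L708596 : sm gb N52061 = N50038 := ded_25_1 L687645 (flp_b L687363) L708594
theorem L708598 : sm gf N52061 = N50010 := ded_47_1 (flp_h L687371) (flp_f L687367) L708594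
theorem L708600 : sm gj N52061 = N50304 := ded_52_1 (flp_h L690180) (flp_j L687369) L708594
theorem L708602 : sm gd N52061 = N50034 := ded_38_1 (flp_h L687615) L665302 L665499 (flp_d L687365) L708594
theorem L708604 : sm gi N52061 = N50041 := ded_54_2 (flp_h L687661) (flp_i L665326) (flp_h L665136) L687361 L708594
theorem L708606 : sm ge N50011 = N52062 := rfl
theorem L708608 : sm gb N52062 = N50418 := ded_21_1 (flp_e L691061) (flp_b L687385) L708606
theorem L708610 : sm gg N52062 = N50014 := ded_41_2 (flp_e L687417) (flp_g L687389) L708606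
theorem L708612 : sm gh N52062 = N50432 := ded_43_2 L691157 (flp_h L687391) L708606
theorem L708614 : sm gd N52062 = N50201 := ded_34_1 (flp_e L689319) (flp_d L666964) (flp_e L665162) L687383 L708606
theorem L708616 : sm gi N50011 = N52063 := rfl
theorem L708618 : sm gb N52063 = N50419 := ded_26_1 (flp_i L691067) (flp_b L687385) L708616
theorem L708620 : sm gd N52063 = N50012 := ded_39_1 (flp_i L687393) L687383 L708616
theorem L708622 : sm gf N52063 = N50050 := ded_48_1 L687765 (flp_f L687387) L708616
theorem L708624 : sm gg N52063 = N50015 := ded_51_1 (flp_i L687429) (flp_g L687389) L708616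
theorem L708626 : sm ge N50013 = N52064 := rfl
theorem L708628 : sm gc N52064 = N50014 := ded_28_1 (flp_e L687417) L687407 L708626
theorem L708630 : sm gj N52064 = N50017 := ded_42_2 (flp_e L687449) (flp_j L687411) L708626
theorem L708632 : sm gh N52064 = N50429 := ded_43_2 L691139 (flp_h L687413) L708626
theorem L708634 : sm gf N52064 = N50407 := ded_40_2 (flp_e L690992) L668903 (flp_e L665212) (flp_f L687409) L708626
theorem L708636 : sm gi N50013 = N52065 := rfl
theorem L708638 : sm gc N52065 = N50015 := ded_33_1 (flp_i L687429) L687407 L708636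
theorem L708640 : sm gd N52065 = N50044 := ded_39_1 (flp_i L687691) (flp_d L687415) L708636
theorem L708642 : sm gf N52065 = N50023 := ded_48_1 (flp_i L687501) (flp_f L687409) L708636
theorem L708644 : sm gj N52065 = N50018 := ded_53_1 (flp_i L687453) (flp_j L687411) L708636
theorem L708646 : sm gi N50014 = N52066 := rfl
theorem L708648 : sm gb N52066 = N50423 := ded_26_1 (flp_i L691097) (flp_b L687419) L708646
theorem L708650 : sm gd N52066 = N50207 := ded_39_1 (flp_i L689372) (flp_d L687425) L708646
theorem L708652 : sm ge N52066 = N50015 := ded_44_1 (flp_i L687429) L687417 L708646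
theorem L708654 : sm gf N52066 = N50409 := ded_48_1 (flp_i L691005) (flp_f L687427) L708646
theorem L708656 : sm gj N52066 = N50020 := ded_53_1 (flp_i L687473) (flp_j L687421) L708646
theorem L708658 : sm gh N50015 = N52067 := rfl
theorem L708660 : sm gb N52067 = N50424 := ded_25_1 (flp_h L691105) (flp_b L687431) L708658
theorem L708662 : sm gf N52067 = N50024 := ded_47_1 (flp_h L687513) (flp_f L687435) L708658
theorem L708664 : sm gj N52067 = N50021 := ded_52_1 (flp_h L687481) (flp_j L687437) L708658
theorem L708666 : sm gi N52067 = N50447 := ded_54_2 (flp_h L691259) (flp_i L669115) (flp_h L665176) L687429 L708658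
theorem L708668 : sm ge N50016 = N52068 := rfl
theorem L708670 : sm gb N52068 = N50017 := ded_21_1 (flp_e L687449) L687439 L708668
theorem L708672 : sm gc N52068 = N50426 := ded_28_1 (flp_e L691117) (flp_c L687447) L708668
theorem L708674 : sm gg N52068 = N50352 := ded_41_2 (flp_e L690593) (flp_g L687445) L708668
theorem L708676 : sm gd N52068 = N50513 := ded_34_1 (flp_e L691770) (flp_d L669770) L665431 (flp_d L687441) L708668
theorem L708678 : sm gi N50016 = N52069 := rfl
theorem L708680 : sm gb N52069 = N50018 := ded_26_1 (flp_i L687453) L687439 L708678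
theorem L708682 : sm gc N52069 = N50427 := ded_33_1 (flp_i L691121) (flp_c L687447) L708678
theorem L708684 : sm gd N52069 = N50045 := ded_39_1 (flp_i L687699) (flp_d L687441) L708678
theorem L708686 : sm gf N52069 = N50026 := ded_48_1 (flp_i L687538) (flp_f L687443) L708678
theorem L708688 : sm gg N52069 = N50353 := ded_51_1 (flp_i L690599) (flp_g L687445) L708678
theorem L708690 : sm gd N50017 = N52070 := rfl
theorem L708692 : sm ga N52070 = N50653 := ded_12_1 (flp_d L696147) L696137 L708690
theorem L708694 : sm gb N52070 = N50513 := ded_20_1 (flp_d L708676) L708670 L708690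
theorem L708696 : sm gg N52070 = N50068 := ded_36_2 (flp_d L696301) L696295 L708690
theorem L708698 : sm gc N52070 = N50212 := ded_27_1 (flp_d L689412) L667014 (flp_d L665200) (flp_c L687451) L708690
theorem L708700 : sm ge N52070 = N50046 := ded_34_2 (flp_d L687713) (flp_e L665433) (flp_d L665194) L687449 L708690
theorem L708702 : sm gf N50017 = N52071 := rfl
theorem L708704 : sm gc N52071 = N50019 := ded_29_1 (flp_f L687461) (flp_c L687451) L708702
theorem L708706 : sm gj N52071 = N50407 := ded_46_2 (flp_f L708634) L708630 L708702
theorem L708708 : sm gh N52071 = N50421 := ded_47_2 (flp_f L695949) L695945 L708702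
theorem L708710 : sm ge N52071 = N50027 := ded_40_1 (flp_f L687548) (flp_e L665242) (flp_f L665192) L687449 L708702
theorem L708712 : sm gi N50017 = N52072 := rfl
theorem L708714 : sm gc N52072 = N50020 := ded_33_1 (flp_i L687473) (flp_c L687451) L708712
theorem L708716 : sm ge N52072 = N50018 := ded_44_1 (flp_i L687453) L687449 L708712
theorem L708718 : sm gh N50018 = N52073 := rfl
theorem L708720 : sm gc N52073 = N50021 := ded_32_1 (flp_h L687481) (flp_c L687455) L708718
theorem L708722 : sm gf N52073 = N50029 := ded_47_1 (flp_h L687568) (flp_f L687459) L708718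
theorem L708724 : sm gg N50019 = N52074 := rfl
theorem L708726 : sm gb N52074 = N50432 := ded_23_1 (flp_g L691153) (flp_b L687463) L708724
theorem L708728 : sm gd N52074 = N50216 := ded_36_1 (flp_g L689434) (flp_d L687465) L708724
theorem L708730 : sm ge N52074 = N50030 := ded_41_1 (flp_g L687574) (flp_e L687471) L708724
theorem L708732 : sm gh N52074 = N50418 := ded_50_2 L691063 (flp_h L687469) L708724
theorem L708734 : sm gi N50019 = N52075 := rfl
theorem L708736 : sm gb N52075 = N50433 := ded_26_1 (flp_i L691159) (flp_b L687463) L708734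
theorem L708738 : sm gd N52075 = N50217 := ded_39_1 (flp_i L689440) (flp_d L687465) L708734
theorem L708740 : sm ge N52075 = N50031 := ded_44_1 (flp_i L687584) (flp_e L687471) L708734
theorem L708742 : sm gf N52075 = N50020 := ded_48_1 (flp_i L687473) L687461 L708734
theorem L708744 : sm gj N52075 = N50409 := ded_53_1 (flp_i L691005) (flp_j L687467) L708734
theorem L708746 : sm gh N50020 = N52076 := rfl
theorem L708748 : sm gb N52076 = N50434 := ded_25_1 (flp_h L691167) (flp_b L687475) L708746
theorem L708750 : sm ge N52076 = N50021 := ded_43_1 (flp_h L687481) (flp_e L687479) L708746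
theorem L708752 : sm gi N50022 = N52077 := rfl
theorem L708754 : sm gb N52077 = N50023 := ded_26_1 (flp_i L687501) L687487 L708752
theorem L708756 : sm gc N52077 = N50435 := ded_33_1 (flp_i L691171) (flp_c L687499) L708752
theorem L708758 : sm gd N52077 = N50048 := ded_39_1 (flp_i L687739) (flp_d L687489) L708752
theorem L708760 : sm ge N52077 = N50411 := ded_44_1 (flp_i L691015) (flp_e L687491) L708752
theorem L708762 : sm gg N52077 = N50413 := ded_51_1 (flp_i L691030) (flp_g L687493) L708752
theorem L708764 : sm gj N52077 = N50026 := ded_53_1 (flp_i L687538) (flp_j L687495) L708752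
theorem L708766 : sm gh N50023 = N52078 := rfl
theorem L708768 : sm gc N52078 = N50024 := ded_32_1 (flp_h L687513) (flp_c L687503) L708766
theorem L708770 : sm ge N52078 = N50412 := ded_43_1 (flp_h L691022) (flp_e L687507) L708766
theorem L708772 : sm gg N52078 = N50415 := ded_50_1 (flp_h L691042) (flp_g L687509) L708766
theorem L708774 : sm gj N52078 = N50029 := ded_52_1 (flp_h L687568) (flp_j L687511) L708766
theorem L708776 : sm gi N52078 = N50443 := ded_54_2 (flp_h L691231) (flp_i L669093) (flp_h L665218) L687501 L708766
theorem L708778 : sm gf N50025 = N52079 := rfl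
theorem L708780 : sm gb N52079 = N50027 := ded_22_1 (flp_f L687548) (flp_b L687527) L708778
theorem L708782 : sm gc N52079 = N50438 := ded_29_1 (flp_f L691193) (flp_c L687529) L708778
theorem L708784 : sm gd N52079 = N52079 := ded_35_1 (flp_f L708778) L687537 L708778
theorem L708785 : sm gj N52079 = N50406 := ded_46_2 L690988 (flp_j L687533) L708778
theorem L708787 : sm gh N52079 = N50420 := ded_47_2 L691077 (flp_h L687535) L708778
theorem L708789 : sm gi N50025 = N52080 := rfl
theorem L708791 : sm gb N52080 = N50028 := ded_26_1 (flp_i L687557) (flp_b L687527) L708789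
theorem L708793 : sm gc N52080 = N50439 := ded_33_1 (flp_i L691199) (flp_c L687529) L708789
theorem L708795 : sm gd N52080 = N52080 := ded_39_1 (flp_i L708789) L687537 L708789
theorem L708796 : sm ge N52080 = N50026 := ded_44_1 (flp_i L687538) L687525 L708789
theorem L708798 : sm gg N52080 = N50033 := ded_51_1 (flp_i L687606) (flp_g L687531) L708789
theorem L708800 : sm gj N52080 = N50411 := ded_53_1 (flp_i L691015) (flp_j L687533) L708789
theorem L708802 : sm gh N50026 = N52081 := rfl
theorem L708804 : sm gb N52081 = N50029 := ded_25_1 (flp_h L687568) (flp_b L687540) L708802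
theorem L708806 : sm gc N52081 = N50440 := ded_32_1 (flp_h L691209) (flp_c L687542) L708802
theorem L708808 : sm gg N52081 = N50034 := ded_50_1 (flp_h L687615) (flp_g L687546) L708802
theorem L708810 : sm gg N50027 = N52082 := rfl
theorem L708812 : sm gc N52082 = N50030 := ded_30_1 (flp_g L687574) (flp_c L687550) L708810
theorem L708814 : sm gd N52082 = N52082 := ded_36_1 (flp_g L708810) L687552 L708810
theorem L708815 : sm gh N52082 = N50417 := ded_50_2 L691057 (flp_h L687555) L708810
theorem L708817 : sm gf N52082 = N50035 := ded_45_1 (flp_g L687621) (flp_f L665304) (flp_g L665246) L687548 L708810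
theorem L708819 : sm gi N50027 = N52083 := rfl
theorem L708821 : sm gc N52083 = N50031 := ded_33_1 (flp_i L687584) (flp_c L687550) L708819
theorem L708823 : sm gd N52083 = N52083 := ded_39_1 (flp_i L708819) L687552 L708819
theorem L708824 : sm gf N52083 = N50028 := ded_48_1 (flp_i L687557) L687548 L708819
theorem L708826 : sm gj N52083 = N50408 := ded_53_1 (flp_i L690998) (flp_j L687553) L708819
theorem L708828 : sm gh N50028 = N52084 := rfl
theorem L708830 : sm gc N52084 = N50032 := ded_32_1 (flp_h L687594) (flp_c L687559) L708828
theorem L708832 : sm ge N52084 = N50029 := ded_43_1 (flp_h L687568) (flp_e L687562) L708828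
theorem L708834 : sm gg N52084 = N50037 := ded_50_1 (flp_h L687633) (flp_g L687564) L708828
theorem L708836 : sm gj N52084 = N50412 := ded_52_1 (flp_h L691022) (flp_j L687566) L708828
theorem L708838 : sm gi N52084 = N50436 := ded_54_2 (flp_h L691179) (flp_i L669053) (flp_h L665250) L687557 L708828
theorem L708840 : sm gd N50029 = N52085 := rfl
theorem L708842 : sm gg N52085 = N50038 := ded_36_2 (flp_d L687639) (flp_g L687572) L708840
theorem L708844 : sm gi N52085 = N50458 := ded_39_2 (flp_d L695977) L695979 L708840
theorem L708846 : sm gh N52085 = N50050 := ded_38_2 (flp_d L687761) (flp_h L665490) (flp_d L665257) L687568 L708840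
theorem L708848 : sm gi N50030 = N52086 := rfl
theorem L708850 : sm gb N52086 = N50446 := ded_26_1 (flp_i L691251) (flp_b L687576) L708848
theorem L708852 : sm gd N52086 = N50042 := ded_39_1 (flp_i L687667) (flp_d L687578) L708848
theorem L708854 : sm gf N52086 = N50040 := ded_48_1 (flp_i L687653) (flp_f L687582) L708848
theorem L708856 : sm gg N52086 = N50031 := ded_51_1 (flp_i L687584) L687574 L708848
theorem L708858 : sm gh N50031 = N52087 := rfl
theorem L708860 : sm gb N52087 = N50447 := ded_25_1 (flp_h L691259) (flp_b L687586) L708858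
theorem L708862 : sm gf N52087 = N50032 := ded_47_1 (flp_h L687594) (flp_f L687590) L708858
theorem L708864 : sm gj N52087 = N50410 := ded_52_1 (flp_h L691009) (flp_j L687592) L708858
theorem L708866 : sm gi N52087 = N50424 := ded_54_2 (flp_h L691105) (flp_i L669005) (flp_h L665269) L687584 L708858
theorem L708868 : sm gh N50033 = N52088 := rfl
theorem L708870 : sm gb N52088 = N50037 := ded_25_1 (flp_h L687633) (flp_b L687608) L708868
theorem L708872 : sm gc N52088 = N50451 := ded_32_1 (flp_h L691283) (flp_c L687610) L708868
theorem L708874 : sm ge N52088 = N50034 := ded_43_1 (flp_h L687615) (flp_e L687613) L708868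
theorem L708876 : sm gi N50035 = N52089 := rfl
theorem L708878 : sm gc N52089 = N50040 := ded_33_1 (flp_i L687653) (flp_c L687623) L708876
theorem L708880 : sm gd N52089 = N52089 := ded_39_1 (flp_i L708876) L687625 L708876
theorem L708881 : sm gg N52089 = N50036 := ded_51_1 (flp_i L687626) L687621 L708876
theorem L708883 : sm gh N50036 = N52090 := rfl
theorem L708885 : sm gc N52090 = N50041 := ded_32_1 (flp_h L687661) (flp_c L687628) L708883
theorem L708887 : sm gf N52090 = N50037 := ded_47_1 (flp_h L687633) (flp_f L687631) L708883
theorem L708889 : sm gd N50037 = N52091 := rfl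
theorem L708891 : sm gh N52091 = N52091 := ded_38_2 (flp_d L708889) (flp_h L687633) L665313 L687633 L708889
theorem L708892 : sm gi N50039 = N52092 := rfl
theorem L708894 : sm gb N52092 = N50457 := ded_26_1 (flp_i L691317) (flp_b L687649) L708892
theorem L708896 : sm gd N52092 = N50043 := ded_39_1 (flp_i L687678) (flp_d L687651) L708892
theorem L708898 : sm gg N52092 = N50762 := ded_51_1 (flp_i L695356) L695350 L708892
theorem L708900 : sm gj N52092 = N50040 := ded_53_1 (flp_i L687653) L687647 L708892
theorem L708902 : sm gh N50040 = N52093 := rfl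
theorem L708904 : sm gb N52093 = N50458 := ded_25_1 (flp_h L691325) (flp_b L687655) L708902
theorem L708906 : sm gg N52093 = N50041 := ded_50_1 (flp_h L687661) (flp_g L687659) L708902
theorem L708908 : sm gi N50046 = N52094 := rfl
theorem L708910 : sm ga N52094 = N50682 := ded_18_1 (flp_i L693070) (flp_a L687715) L708908
theorem L708912 : sm gb N52094 = N50514 := ded_26_1 (flp_i L691774) (flp_b L687717) L708908
theorem L708914 : sm gc N52094 = N50265 := ded_33_1 (flp_i L689846) (flp_c L687722) L708908
theorem L708916 : sm gd N52094 = N50047 := ded_39_1 (flp_i L687724) L687713 L708908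
theorem L708918 : sm gf N52094 = N52094 := ded_48_1 (flp_i L708908) L687719 L708908
theorem L708919 : sm gg N52094 = N50069 := ded_51_1 (flp_i L687981) (flp_g L687720) L708908
theorem L708921 : sm gh N50054 = N52095 := rfl
theorem L708923 : sm ga N52095 = N50055 := ded_17_1 (flp_h L687816) (flp_a L687806) L708921
theorem L708925 : sm gb N52095 = N52095 := ded_25_1 (flp_h L708921) L687808 L708921
theorem L708926 : sm gc N52095 = N50790 := ded_32_1 (flp_h L693947) (flp_c L687809) L708921
theorem L708928 : sm ge N52095 = N50101 := ded_43_1 (flp_h L688320) (flp_e L687812) L708921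
theorem L708930 : sm gg N52095 = N50057 := ded_50_1 (flp_h L687839) (flp_g L687814) L708921
theorem L708932 : sm gi N52095 = N52095 := ded_54_2 (flp_h L708921) (flp_i L687804) L665628 L687804 L708921
theorem L708933 : sm gd N50055 = N52096 := rfl
theorem L708935 : sm gb N52096 = N50056 := ded_20_1 (flp_d L687827) (flp_b L687818) L708933
theorem L708937 : sm gg N52096 = N50058 := ded_36_2 (flp_d L687851) (flp_g L687824) L708933
theorem L708939 : sm gj N52096 = N50778 := ded_37_2 L694790 L694787 L708933
theorem L708941 : sm gi N52096 = N52096 := ded_39_2 (flp_d L708933) L687826 L708933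
theorem L708942 : sm ge N52096 = N50774 := ded_34_2 (flp_d L693778) L688339 (flp_d L688328) (flp_e L687822) L708933
theorem L708944 : sm gh N52096 = N52096 := ded_38_2 (flp_d L708933) (flp_h L687816) L665636 L687816 L708933
theorem L708945 : sm gc N50060 = N52097 := rfl
theorem L708947 : sm ga N52097 = N50173 := ded_11_1 (flp_c L689040) (flp_a L687872) L708945
theorem L708949 : sm gf N52097 = N50113 := ded_29_2 (flp_c L688450) (flp_f L687876) L708945
theorem L708951 : sm gj N52097 = N50110 := ded_31_2 (flp_c L688427) (flp_j L687878) L708945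
theorem L708953 : sm gh N52097 = N50120 := ded_32_2 (flp_c L688521) (flp_h L687880) L708945
theorem L708955 : sm gd N52097 = N52097 := ded_27_2 (flp_c L708945) (flp_d L687870) L665688 L687870 L708945
theorem L708956 : sm ge N50060 = N52098 := rfl
theorem L708958 : sm ga N52098 = N50174 := ded_13_1 (flp_e L689049) (flp_a L687872) L708956
theorem L708960 : sm gb N52098 = N50499 := ded_21_1 (flp_e L691663) (flp_b L687874) L708956
theorem L708962 : sm gj N52098 = N50111 := ded_42_2 (flp_e L688436) (flp_j L687878) L708956
theorem L708964 : sm gh N52098 = N50121 := ded_43_2 (flp_e L688531) (flp_h L687880) L708956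
theorem L708966 : sm gd N52098 = N50064 := ded_34_1 (flp_e L687924) (flp_d L665708) (flp_e L665689) L687870 L708956
theorem L708968 : sm gf N52098 = N50558 := ded_40_2 (flp_e L692130) L670216 (flp_e L666295) (flp_f L687876) L708956
theorem L708970 : sm gi N50060 = N52099 := rfl
theorem L708972 : sm ga N52099 = N50175 := ded_18_1 (flp_i L689061) (flp_a L687872) L708970
theorem L708974 : sm gb N52099 = N50500 := ded_26_1 (flp_i L691667) (flp_b L687874) L708970
theorem L708976 : sm gd N52099 = N50061 := ded_39_1 (flp_i L687882) L687870 L708970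
theorem L708978 : sm gf N52099 = N50114 := ded_48_1 (flp_i L688462) (flp_f L687876) L708970
theorem L708980 : sm gj N52099 = N50112 := ded_53_1 (flp_i L688442) (flp_j L687878) L708970
theorem L708982 : sm ge N50062 = N52100 := rfl
theorem L708984 : sm ga N52100 = N50169 := ded_13_1 (flp_e L688999) (flp_a L687899) L708982
theorem L708986 : sm gb N52100 = N50503 := ded_21_1 (flp_e L691689) (flp_b L687901) L708982
theorem L708988 : sm gj N52100 = N50064 := ded_42_2 (flp_e L687924) (flp_j L687905) L708982
theorem L708990 : sm gh N52100 = N50068 := ded_43_2 (flp_e L687971) (flp_h L687907) L708982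
theorem L708992 : sm gd N52100 = N50111 := ded_34_1 (flp_e L688436) (flp_d L666269) (flp_e L665702) L687897 L708982
theorem L708994 : sm gf N52100 = N50560 := ded_40_2 (flp_e L692144) L670232 (flp_e L665738) (flp_f L687903) L708982
theorem L708996 : sm gi N50062 = N52101 := rfl
theorem L708998 : sm ga N52101 = N50170 := ded_18_1 (flp_i L689011) (flp_a L687899) L708996
theorem L709000 : sm gb N52101 = N50504 := ded_26_1 (flp_i L691695) (flp_b L687901) L708996
theorem L709002 : sm gd N52101 = N50063 := ded_39_1 (flp_i L687909) L687897 L708996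
theorem L709004 : sm gf N52101 = N50066 := ded_48_1 (flp_i L687944) (flp_f L687903) L708996
theorem L709006 : sm gj N52101 = N50065 := ded_53_1 (flp_i L687934) (flp_j L687905) L708996
theorem L709008 : sm gi N50064 = N52102 := rfl
theorem L709010 : sm ga N52102 = N50616 := ded_18_1 (flp_i L692583) (flp_a L687926) L709008
theorem L709012 : sm gb N52102 = N50506 := ded_26_1 (flp_i L691711) (flp_b L687928) L709008
theorem L709014 : sm ge N52102 = N50065 := ded_44_1 (flp_i L687934) L687924 L709008
theorem L709016 : sm gf N52102 = N50562 := ded_48_1 (flp_i L692162) (flp_f L687932) L709008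
theorem L709018 : sm gh N50065 = N52103 := rfl
theorem L709020 : sm ga N52103 = N50633 := ded_17_1 (flp_h L692729) (flp_a L687936) L709018
theorem L709022 : sm gb N52103 = N50507 := ded_25_1 (flp_h L691715) (flp_b L687938) L709018
theorem L709024 : sm gf N52103 = N50067 := ded_47_1 (flp_h L687957) (flp_f L687942) L709018
theorem L709026 : sm gd N52103 = N50181 := ded_38_1 (flp_h L689111) L666814 (flp_h L665727) (flp_d L687940) L709018
theorem L709028 : sm gi N52103 = N50074 := ded_54_2 (flp_h L688029) (flp_i L665821) (flp_h L665716) L687934 L709018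
theorem L709030 : sm gh N50066 = N52104 := rfl
theorem L709032 : sm ga N52104 = N50623 := ded_17_1 (flp_h L692644) (flp_a L687946) L709030
theorem L709034 : sm gb N52104 = N50509 := ded_25_1 (flp_h L691736) (flp_b L687948) L709030
theorem L709036 : sm ge N52104 = N50564 := ded_43_1 (flp_h L692176) (flp_e L687952) L709030
theorem L709038 : sm gg N52104 = N52104 := ded_50_1 (flp_h L709030) L687954 L709030
theorem L709039 : sm gj N52104 = N50067 := ded_52_1 (flp_h L687957) (flp_j L687955) L709030
theorem L709041 : sm gd N52104 = N50184 := ded_38_1 (flp_h L689141) L666832 (flp_h L665754) (flp_d L687950) L709030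
theorem L709043 : sm gi N52104 = N50077 := ded_54_2 (flp_h L688063) (flp_i L665842) (flp_h L665740) L687944 L709030
theorem L709045 : sm gi N50068 = N52105 := rfl
theorem L709047 : sm ga N52105 = N50654 := ded_18_1 (flp_i L692877) (flp_a L687973) L709045
theorem L709049 : sm gb N52105 = N50519 := ded_26_1 (flp_i L691813) (flp_b L687975) L709045
theorem L709051 : sm ge N52105 = N50069 := ded_44_1 (flp_i L687981) L687971 L709045
theorem L709053 : sm gf N52105 = N50571 := ded_48_1 (flp_i L692237) (flp_f L687979) L709045
theorem L709055 : sm gj N52105 = N50073 := ded_53_1 (flp_i L688019) (flp_j L687977) L709045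
theorem L709057 : sm gh N50069 = N52106 := rfl
theorem L709059 : sm ga N52106 = N50683 := ded_17_1 (flp_h L693077) (flp_a L687983) L709057
theorem L709061 : sm gb N52106 = N50520 := ded_25_1 (flp_h L691819) (flp_b L687985) L709057
theorem L709063 : sm gf N52106 = N50077 := ded_47_1 (flp_h L688063) (flp_f L687989) L709057
theorem L709065 : sm gj N52106 = N50074 := ded_52_1 (flp_h L688029) (flp_j L687991) L709057
theorem L709067 : sm gd N52106 = N50208 := ded_38_1 (flp_h L689380) L666998 (flp_h L665803) (flp_d L687987) L709057
theorem L709069 : sm ga N50070 = N52107 := rfl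
theorem L709071 : sm gc N52107 = N50190 := ded_11_2 L689209 (flp_c L687999) L709069
theorem L709073 : sm gd N52107 = N50084 := ded_12_2 (flp_a L688145) (flp_d L687995) L709069
theorem L709075 : sm gf N52107 = N50078 := ded_14_2 (flp_a L688076) (flp_f L687997) L709069
theorem L709077 : sm gg N52107 = N50187 := ded_15_2 L696948 L696940 L709069
theorem L709079 : sm gh N52107 = N50232 := ded_17_2 (flp_a L704596) L704602 L709069
theorem L709081 : sm gb N52107 = N50684 := ded_10_2 L693085 L671045 (flp_a L665807) L687993 L709069
theorem L709083 : sm ge N50070 = N52108 := rfl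
theorem L709085 : sm gb N52108 = N50071 := ded_21_1 (flp_e L688001) L687993 L709083
theorem L709087 : sm gc N52108 = N50521 := ded_28_1 (flp_e L691827) (flp_c L687999) L709083
theorem L709089 : sm gf N52108 = N50574 := ded_40_2 (flp_e L692261) L670325 (flp_e L665859) (flp_f L687997) L709083
theorem L709091 : sm gi N50070 = N52109 := rfl
theorem L709093 : sm gb N52109 = N50072 := ded_26_1 (flp_i L688009) L687993 L709091
theorem L709095 : sm gc N52109 = N50522 := ded_33_1 (flp_i L691831) (flp_c L687999) L709091
theorem L709097 : sm gd N52109 = N50085 := ded_39_1 (flp_i L688156) (flp_d L687995) L709091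
theorem L709099 : sm gf N52109 = N50079 := ded_48_1 (flp_i L688090) (flp_f L687997) L709091
theorem L709101 : sm gi N50071 = N52110 := rfl
theorem L709103 : sm ga N52110 = N50666 := ded_18_1 (flp_i L692951) (flp_a L688003) L709101
theorem L709105 : sm gc N52110 = N50073 := ded_33_1 (flp_i L688019) (flp_c L688005) L709101
theorem L709107 : sm ge N52110 = N50072 := ded_44_1 (flp_i L688009) L688001 L709101
theorem L709109 : sm gf N52110 = N50577 := ded_48_1 (flp_i L692279) (flp_f L688007) L709101
theorem L709111 : sm gh N50072 = N52111 := rfl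
theorem L709113 : sm ga N52111 = N50693 := ded_17_1 (flp_h L693157) (flp_a L688011) L709111
theorem L709115 : sm gc N52111 = N50074 := ded_32_1 (flp_h L688029) (flp_c L688013) L709111
theorem L709117 : sm gf N52111 = N50080 := ded_47_1 (flp_h L688102) (flp_f L688017) L709111
theorem L709119 : sm gh N50073 = N52112 := rfl
theorem L709121 : sm ga N52112 = N50671 := ded_17_1 (flp_h L692981) (flp_a L688021) L709119
theorem L709123 : sm gb N52112 = N50528 := ded_25_1 (flp_h L691869) (flp_b L688023) L709119
theorem L709125 : sm ge N52112 = N50074 := ded_43_1 (flp_h L688029) (flp_e L688025) L709119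
theorem L709127 : sm gf N52112 = N50579 := ded_47_1 (flp_h L692295) (flp_f L688027) L709119
theorem L709129 : sm ga N50075 = N52113 := rfl
theorem L709131 : sm gc N52113 = N50197 := ded_11_2 L689282 (flp_c L688048) L709129
theorem L709133 : sm gd N52113 = N50087 := ded_12_2 (flp_a L688173) (flp_d L688041) L709129
theorem L709135 : sm ge N52113 = N50580 := ded_13_2 (flp_a L692301) (flp_e L688043) L709129
theorem L709137 : sm gg N52113 = N52113 := ded_15_2 (flp_a L709129) L688045 L709129
theorem L709138 : sm gj N52113 = N50078 := ded_16_2 (flp_a L688076) (flp_j L688046) L709129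
theorem L709140 : sm gh N52113 = N50245 := ded_17_2 (flp_a L704631) L704638 L709129
theorem L709142 : sm gb N52113 = N50673 := ded_10_2 L692991 L670965 (flp_a L665833) L688039 L709129
theorem L709144 : sm gi N50075 = N52114 := rfl
theorem L709146 : sm gb N52114 = N50076 := ded_26_1 (flp_i L688050) L688039 L709144
theorem L709148 : sm gc N52114 = N50530 := ded_33_1 (flp_i L691883) (flp_c L688048) L709144
theorem L709150 : sm gd N52114 = N50088 := ded_39_1 (flp_i L688185) (flp_d L688041) L709144
theorem L709152 : sm ge N52114 = N50581 := ded_44_1 (flp_i L692310) (flp_e L688043) L709144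
theorem L709154 : sm gg N52114 = N52114 := ded_51_1 (flp_i L709144) L688045 L709144
theorem L709155 : sm gj N52114 = N50079 := ded_53_1 (flp_i L688090) (flp_j L688046) L709144
theorem L709157 : sm gh N50076 = N52115 := rfl
theorem L709159 : sm ga N52115 = N50679 := ded_17_1 (flp_h L693045) (flp_a L688052) L709157
theorem L709161 : sm gc N52115 = N50077 := ded_32_1 (flp_h L688063) (flp_c L688054) L709157
theorem L709163 : sm ge N52115 = N50582 := ded_43_1 (flp_h L692319) (flp_e L688058) L709157
theorem L709165 : sm gg N52115 = N52115 := ded_50_1 (flp_h L709157) L688060 L709157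
theorem L709166 : sm gj N52115 = N50080 := ded_52_1 (flp_h L688102) (flp_j L688061) L709157
theorem L709168 : sm gi N50078 = N52116 := rfl
theorem L709170 : sm ga N52116 = N50079 := ded_18_1 (flp_i L688090) L688076 L709168
theorem L709172 : sm gb N52116 = N50685 := ded_26_1 (flp_i L693089) (flp_b L688088) L709168
theorem L709174 : sm gc N52116 = N50198 := ded_33_1 (flp_i L689291) (flp_c L688078) L709168
theorem L709176 : sm gd N52116 = N50090 := ded_39_1 (flp_i L688208) (flp_d L688080) L709168
theorem L709178 : sm ge N52116 = N50583 := ded_44_1 (flp_i L692328) (flp_e L688082) L709168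
theorem L709180 : sm gg N52116 = N50081 := ded_51_1 (flp_i L688112) (flp_g L688084) L709168
theorem L709182 : sm gh N50079 = N52117 := rfl
theorem L709184 : sm gb N52117 = N50080 := ded_25_1 (flp_h L688102) (flp_b L688092) L709182
theorem L709186 : sm gc N52117 = N50539 := ded_32_1 (flp_h L691962) (flp_c L688094) L709182
theorem L709188 : sm ge N52117 = N50584 := ded_43_1 (flp_h L692338) (flp_e L688098) L709182
theorem L709190 : sm gg N52117 = N50082 := ded_50_1 (flp_h L688127) (flp_g L688100) L709182
theorem L709192 : sm gd N50080 = N52118 := rfl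
theorem L709194 : sm ga N52118 = N50694 := ded_12_1 (flp_d L693163) (flp_a L688104) L709192
theorem L709196 : sm gg N52118 = N50083 := ded_36_2 (flp_d L688136) (flp_g L688110) L709192
theorem L709198 : sm gc N52118 = N50235 := ded_27_1 (flp_d L689604) L667141 (flp_d L665887) (flp_c L688106) L709192
theorem L709200 : sm gh N52118 = N50092 := ded_38_2 (flp_d L688231) (flp_h L666006) (flp_d L665871) L688102 L709192
theorem L709202 : sm gh N50081 = N52119 := rfl
theorem L709204 : sm ga N52119 = N50082 := ded_17_1 (flp_h L688127) (flp_a L688114) L709202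
theorem L709206 : sm gb N52119 = N50698 := ded_25_1 (flp_h L693189) (flp_b L688116) L709202
theorem L709208 : sm gc N52119 = N50199 := ded_32_1 (flp_h L689301) (flp_c L688118) L709202
theorem L709210 : sm ge N52119 = N50585 := ded_43_1 (flp_h L692344) (flp_e L688122) L709202
theorem L709212 : sm gf N52119 = N50195 := ded_47_1 (flp_h L689265) (flp_f L688124) L709202
theorem L709214 : sm gj N52119 = N52119 := ded_52_1 (flp_h L709202) L688126 L709202
theorem L709215 : sm gi N52119 = N50247 := ded_54_2 (flp_h L689711) (flp_i L667228) (flp_h L665900) L688112 L709202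
theorem L709217 : sm gd N50082 = N52120 := rfl
theorem L709219 : sm gb N52120 = N50083 := ded_20_1 (flp_d L688136) (flp_b L688129) L709217
theorem L709221 : sm gj N52120 = N52120 := ded_37_2 (flp_d L709217) L688135 L709217
theorem L709222 : sm gh N52120 = N50094 := ded_38_2 (flp_d L688252) (flp_h L666028) (flp_d L665910) L688127 L709217
theorem L709224 : sm gi N50084 = N52121 := rfl
theorem L709226 : sm ga N52121 = N50085 := ded_18_1 (flp_i L688156) L688145 L709224
theorem L709228 : sm gb N52121 = N50819 := ded_26_1 (flp_i L694186) (flp_b L688154) L709224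
theorem L709230 : sm gc N52121 = N50096 := ded_33_1 (flp_i L688268) (flp_c L688147) L709224
theorem L709232 : sm gf N52121 = N50090 := ded_48_1 (flp_i L688208) (flp_f L688149) L709224
theorem L709234 : sm gg N52121 = N50722 := ded_51_1 (flp_i L693371) (flp_g L688151) L709224
theorem L709236 : sm gh N50085 = N52122 := rfl
theorem L709238 : sm gb N52122 = N50086 := ded_25_1 (flp_h L688164) (flp_b L688158) L709236
theorem L709240 : sm gc N52122 = N50097 := ded_32_1 (flp_h L688279) (flp_c L688160) L709236
theorem L709242 : sm gf N52122 = N50091 := ded_47_1 (flp_h L688220) (flp_f L688162) L709236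
theorem L709244 : sm gi N52122 = N52122 := ded_54_2 (flp_h L709236) (flp_i L688156) L665928 L688156 L709236
theorem L709245 : sm gd N50086 = N52123 := rfl
theorem L709247 : sm ga N52123 = N50826 := ded_12_1 (flp_d L694244) (flp_a L688166) L709245
theorem L709249 : sm gf N52123 = N50092 := ded_35_2 (flp_d L688231) (flp_f L688170) L709245
theorem L709251 : sm gi N52123 = N52123 := ded_39_2 (flp_d L709245) L688172 L709245
theorem L709252 : sm gc N52123 = N50267 := ded_27_1 (flp_d L689859) L667402 (flp_d L665947) (flp_c L688168) L709245
theorem L709254 : sm gi N50087 = N52124 := rfl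
theorem L709256 : sm ga N52124 = N50088 := ded_18_1 (flp_i L688185) L688173 L709254
theorem L709258 : sm gb N52124 = N50796 := ded_26_1 L694002 (flp_b L688183) L709254
theorem L709260 : sm gc N52124 = N50099 := ded_33_1 (flp_i L688300) (flp_c L688175) L709254
theorem L709262 : sm ge N52124 = N50787 := ded_44_1 (flp_i L693913) (flp_e L688177) L709254
theorem L709264 : sm gg N52124 = N52124 := ded_51_1 (flp_i L709254) L688179 L709254
theorem L709265 : sm gj N52124 = N50090 := ded_53_1 (flp_i L688208) (flp_j L688180) L709254
theorem L709267 : sm gh N50088 = N52125 := rfl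
theorem L709269 : sm gb N52125 = N50089 := ded_25_1 (flp_h L688196) (flp_b L688187) L709267
theorem L709271 : sm gc N52125 = N50100 := ded_32_1 (flp_h L688310) (flp_c L688189) L709267
theorem L709273 : sm ge N52125 = N50788 := ded_43_1 (flp_h L693926) (flp_e L688191) L709267
theorem L709275 : sm gg N52125 = N52125 := ded_50_1 (flp_h L709267) L688193 L709267
theorem L709276 : sm gj N52125 = N50091 := ded_52_1 (flp_h L688220) (flp_j L688194) L709267
theorem L709278 : sm gi N52125 = N52125 := ded_54_2 (flp_h L709267) (flp_i L688185) L665957 L688185 L709267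
theorem L709279 : sm gd N50089 = N52126 := rfl
theorem L709281 : sm ga N52126 = N50818 := ded_12_1 (flp_d L694180) (flp_a L688198) L709279
theorem L709283 : sm gg N52126 = N52126 := ded_36_2 (flp_d L709279) L688204 L709279
theorem L709284 : sm gj N52126 = N50092 := ded_37_2 (flp_d L688231) (flp_j L688205) L709279
theorem L709286 : sm gi N52126 = N52126 := ded_39_2 (flp_d L709279) L688207 L709279
theorem L709287 : sm gc N52126 = N50270 := ded_27_1 (flp_d L689885) L667436 (flp_d L665982) (flp_c L688200) L709279
theorem L709289 : sm gh N50090 = N52127 := rfl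
theorem L709291 : sm ga N52127 = N50091 := ded_17_1 (flp_h L688220) (flp_a L688210) L709289
theorem L709293 : sm gb N52127 = N50820 := ded_25_1 (flp_h L694193) (flp_b L688212) L709289
theorem L709295 : sm gc N52127 = N50101 := ded_32_1 (flp_h L688320) (flp_c L688214) L709289
theorem L709297 : sm ge N52127 = N50790 := ded_43_1 (flp_h L693947) (flp_e L688216) L709289
theorem L709299 : sm gg N52127 = N50093 := ded_50_1 (flp_h L688240) (flp_g L688218) L709289
theorem L709301 : sm gi N52127 = N52127 := ded_54_2 (flp_h L709289) (flp_i L688208) L665993 L688208 L709289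
theorem L709302 : sm gd N50091 = N52128 := rfl
theorem L709304 : sm gb N52128 = N50092 := ded_20_1 (flp_d L688231) (flp_b L688222) L709302
theorem L709306 : sm gg N52128 = N50094 := ded_36_2 (flp_d L688252) (flp_g L688228) L709302
theorem L709308 : sm gi N52128 = N52128 := ded_39_2 (flp_d L709302) L688230 L709302
theorem L709309 : sm ge N50092 = N52129 := rfl
theorem L709311 : sm ga N52129 = N50827 := ded_13_1 (flp_e L694249) (flp_a L688233) L709309
theorem L709313 : sm gc N52129 = N50273 := ded_28_1 (flp_e L689908) (flp_c L688238) L709309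
theorem L709315 : sm gg N52129 = N50095 := ded_41_2 (flp_e L688258) (flp_g L688235) L709309
theorem L709317 : sm gi N52129 = N52129 := ded_44_2 (flp_e L709309) L688237 L709309
theorem L709318 : sm gd N52129 = N50792 := ded_34_1 (flp_e L693965) (flp_d L672300) (flp_e L666012) L688231 L709309
theorem L709320 : sm gh N50096 = N52130 := rfl
theorem L709322 : sm ga N52130 = N50097 := ded_17_1 (flp_h L688279) (flp_a L688270) L709320
theorem L709324 : sm gb N52130 = N52130 := ded_25_1 (flp_h L709320) L688272 L709320
theorem L709325 : sm gf N52130 = N50101 := ded_47_1 (flp_h L688320) (flp_f L688275) L709320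
theorem L709327 : sm gg N52130 = N50724 := ded_50_1 (flp_h L693389) (flp_g L688277) L709320
theorem L709329 : sm gi N52130 = N52130 := ded_54_2 (flp_h L709320) (flp_i L688268) L666054 L688268 L709320
theorem L709330 : sm gd N50097 = N52131 := rfl
theorem L709332 : sm gb N52131 = N50098 := ded_20_1 (flp_d L688286) (flp_b L688281) L709330
theorem L709334 : sm gf N52131 = N50102 := ded_35_2 (flp_d L688328) (flp_f L688283) L709330
theorem L709336 : sm gj N52131 = N50487 := ded_37_2 (flp_d L699850) L699848 L709330
theorem L709338 : sm gi N52131 = N52131 := ded_39_2 (flp_d L709330) L688285 L709330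
theorem L709339 : sm gh N52131 = N50482 := ded_38_2 L691515 (flp_h L670140) (flp_d L666060) L688279 L709330
theorem L709341 : sm ge N50483 = N52131 := ded_21_0 L709332 (flp_e L688298) (flp_b L691525)
theorem L709343 : sm gh N50099 = N52132 := rfl
theorem L709345 : sm ga N52132 = N50100 := ded_17_1 (flp_h L688310) (flp_a L688302) L709343
theorem L709347 : sm gb N52132 = N52132 := ded_25_1 (flp_h L709343) L688304 L709343
theorem L709348 : sm gg N52132 = N52132 := ded_50_1 (flp_h L709343) L688307 L709343
theorem L709349 : sm gj N52132 = N50101 := ded_52_1 (flp_h L688320) (flp_j L688308) L709343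
theorem L709351 : sm gd N52132 = N50775 := ded_38_1 (flp_h L693788) L692120 (flp_h L692109) (flp_d L688305) L709343
theorem L709353 : sm gi N52132 = N52132 := ded_54_2 (flp_h L709343) (flp_i L688300) L666079 L688300 L709343
theorem L709354 : sm ge N50104 = N52133 := rfl
theorem L709356 : sm ga N52133 = N50518 := ded_13_1 L691811 (flp_a L688359) L709354
theorem L709358 : sm gb N52133 = N50121 := ded_21_1 (flp_e L688531) (flp_b L688361) L709354
theorem L709360 : sm gj N52133 = N50106 := ded_42_2 (flp_e L688384) (flp_j L688365) L709354
theorem L709362 : sm gh N52133 = N50499 := ded_43_2 (flp_e L691663) (flp_h L688367) L709354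
theorem L709364 : sm gd N52133 = N50345 := ded_34_1 (flp_e L690549) (flp_d L668405) (flp_e L666194) L688357 L709354
theorem L709366 : sm gf N52133 = N50494 := ded_40_2 (flp_e L691624) L669611 (flp_e L666228) (flp_f L688363) L709354
theorem L709368 : sm gi N50104 = N52134 := rfl
theorem L709370 : sm ga N52134 = N50535 := ded_18_1 (flp_i L691925) (flp_a L688359) L709368
theorem L709372 : sm gb N52134 = N50122 := ded_26_1 (flp_i L688537) (flp_b L688361) L709368
theorem L709374 : sm gd N52134 = N50105 := ded_39_1 (flp_i L688369) L688357 L709368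
theorem L709376 : sm gf N52134 = N50108 := ded_48_1 (flp_i L688402) (flp_f L688363) L709368
theorem L709378 : sm gj N52134 = N50107 := ded_53_1 (flp_i L688392) (flp_j L688365) L709368
theorem L709380 : sm gi N50106 = N52135 := rfl
theorem L709382 : sm ga N52135 = N50527 := ded_18_1 (flp_i L691861) (flp_a L688386) L709380
theorem L709384 : sm gb N52135 = N50127 := ded_26_1 (flp_i L688579) (flp_b L688388) L709380
theorem L709386 : sm ge N52135 = N50107 := ded_44_1 (flp_i L688392) L688384 L709380
theorem L709388 : sm gf N52135 = N50496 := ded_48_1 (flp_i L691640) (flp_f L688390) L709380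
theorem L709390 : sm gh N50107 = N52136 := rfl
theorem L709392 : sm ga N52136 = N50542 := ded_17_1 (flp_h L691983) (flp_a L688394) L709390
theorem L709394 : sm gb N52136 = N50128 := ded_25_1 (flp_h L688585) (flp_b L688396) L709390
theorem L709396 : sm gf N52136 = N50109 := ded_47_1 (flp_h L688415) (flp_f L688400) L709390
theorem L709398 : sm gd N52136 = N50238 := ded_38_1 (flp_h L689628) L667157 (flp_h L666217) (flp_d L688398) L709390
theorem L709400 : sm gh N50108 = N52137 := rfl
theorem L709402 : sm ga N52137 = N50536 := ded_17_1 (flp_h L691935) (flp_a L688404) L709400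
theorem L709404 : sm gb N52137 = N50134 := ded_25_1 (flp_h L688648) (flp_b L688406) L709400
theorem L709406 : sm ge N52137 = N50498 := ded_43_1 (flp_h L691654) (flp_e L688410) L709400
theorem L709408 : sm gg N52137 = N52137 := ded_50_1 (flp_h L709400) L688412 L709400
theorem L709409 : sm gj N52137 = N50109 := ded_52_1 (flp_h L688415) (flp_j L688413) L709400
theorem L709411 : sm gd N52137 = N50226 := ded_38_1 (flp_h L689522) L667084 (flp_h L666244) (flp_d L688408) L709400
theorem L709413 : sm gi N52137 = N50837 := ded_54_2 (flp_h L694329) (flp_i L672865) (flp_h L666230) L688402 L709400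
theorem L709415 : sm ge N50110 = N52138 := rfl
theorem L709417 : sm ga N52138 = N50177 := ded_13_1 (flp_e L689080) (flp_a L688429) L709415
theorem L709419 : sm gc N52138 = N50111 := ded_28_1 (flp_e L688436) L688427 L709415
theorem L709421 : sm gh N52138 = N50124 := ded_43_2 (flp_e L688555) (flp_h L688433) L709415
theorem L709423 : sm gi N50110 = N52139 := rfl
theorem L709425 : sm ga N52139 = N50178 := ded_18_1 (flp_i L689086) (flp_a L688429) L709423
theorem L709427 : sm gc N52139 = N50112 := ded_33_1 (flp_i L688442) L688427 L709423
theorem L709429 : sm gd N52139 = N52139 := ded_39_1 (flp_i L709423) L688435 L709423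
theorem L709430 : sm gf N52139 = N50115 := ded_48_1 (flp_i L688475) (flp_f L688431) L709423
theorem L709432 : sm gi N50111 = N52140 := rfl
theorem L709434 : sm ga N52140 = N50180 := ded_18_1 (flp_i L689105) (flp_a L688438) L709432
theorem L709436 : sm ge N52140 = N50112 := ded_44_1 (flp_i L688442) L688436 L709432
theorem L709438 : sm gh N50112 = N52141 := rfl
theorem L709440 : sm ga N52141 = N50181 := ded_17_1 (flp_h L689111) (flp_a L688444) L709438
theorem L709442 : sm gf N52141 = N50116 := ded_47_1 (flp_h L688484) (flp_f L688448) L709438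
theorem L709444 : sm gd N52141 = N50633 := ded_38_1 (flp_h L692729) L670764 (flp_h L666284) (flp_d L688446) L709438
theorem L709446 : sm gi N52141 = N50128 := ded_54_2 (flp_h L688585) (flp_i L666388) (flp_h L666275) L688442 L709438
theorem L709448 : sm gi N50113 = N52142 := rfl
theorem L709450 : sm ga N52142 = N50183 := ded_18_1 (flp_i L689131) (flp_a L688452) L709448
theorem L709452 : sm gc N52142 = N50114 := ded_33_1 (flp_i L688462) L688450 L709448
theorem L709454 : sm gd N52142 = N52142 := ded_39_1 (flp_i L709448) L688461 L709448
theorem L709455 : sm ge N52142 = N50838 := ded_44_1 (flp_i L694334) (flp_e L688454) L709448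
theorem L709457 : sm gg N52142 = N52142 := ded_51_1 (flp_i L709448) L688456 L709448
theorem L709458 : sm gj N52142 = N50115 := ded_53_1 (flp_i L688475) (flp_j L688457) L709448
theorem L709460 : sm gh N50114 = N52143 := rfl
theorem L709462 : sm ga N52143 = N50184 := ded_17_1 (flp_h L689141) (flp_a L688464) L709460
theorem L709464 : sm gb N52143 = N50837 := ded_25_1 (flp_h L694329) (flp_b L688466) L709460
theorem L709466 : sm ge N52143 = N50839 := ded_43_1 (flp_h L694343) (flp_e L688470) L709460
theorem L709468 : sm gg N52143 = N52143 := ded_50_1 (flp_h L709460) L688472 L709460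
theorem L709469 : sm gj N52143 = N50116 := ded_52_1 (flp_h L688484) (flp_j L688473) L709460
theorem L709471 : sm gd N52143 = N50623 := ded_38_1 (flp_h L692644) L670691 (flp_h L666311) (flp_d L688468) L709460
theorem L709473 : sm gi N52143 = N50134 := ded_54_2 (flp_h L688648) (flp_i L666418) (flp_h L666297) L688462 L709460
theorem L709475 : sm gh N50115 = N52144 := rfl
theorem L709477 : sm ga N52144 = N50189 := ded_17_1 (flp_h L689199) (flp_a L688477) L709475
theorem L709479 : sm gc N52144 = N50116 := ded_32_1 (flp_h L688484) (flp_c L688479) L709475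
theorem L709481 : sm gg N52144 = N50117 := ded_50_1 (flp_h L688494) (flp_g L688482) L709475
theorem L709483 : sm gi N52144 = N50138 := ded_54_2 (flp_h L688683) (flp_i L666442) (flp_h L666319) L688475 L709475
theorem L709485 : sm gd N50117 = N52145 := rfl
theorem L709487 : sm ga N52145 = N50196 := ded_12_1 (flp_d L689274) (flp_a L688496) L709485
theorem L709489 : sm gj N52145 = N52145 := ded_37_2 (flp_d L709485) L688500 L709485
theorem L709490 : sm gi N52145 = N50143 := ded_39_2 (flp_d L688729) (flp_i L688501) L709485
theorem L709492 : sm gc N52145 = N50639 := ded_27_1 (flp_d L692775) L670815 (flp_d L666343) (flp_c L688498) L709485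
theorem L709494 : sm gh N52145 = N52145 := ded_38_2 (flp_d L709485) (flp_h L688494) L666336 L688494 L709485
theorem L709495 : sm gc N50118 = N52146 := rfl
theorem L709497 : sm ga N52146 = N50200 := ded_11_1 (flp_c L689312) (flp_a L688505) L709495
theorem L709499 : sm gf N52146 = N52146 := ded_29_2 (flp_c L709495) L688507 L709495
theorem L709500 : sm gg N52146 = N50120 := ded_30_2 (flp_c L688521) (flp_g L688508) L709495
theorem L709502 : sm gj N52146 = N50803 := ded_31_2 (flp_c L698103) L698101 L709495
theorem L709504 : sm gd N52146 = N50145 := ded_27_2 (flp_c L688753) (flp_d L666555) (flp_c L666351) L688503 L709495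
theorem L709506 : sm ge N50118 = N52147 := rfl
theorem L709508 : sm ga N52147 = N50201 := ded_13_1 (flp_e L689319) (flp_a L688505) L709506
theorem L709510 : sm gg N52147 = N50121 := ded_41_2 (flp_e L688531) (flp_g L688508) L709506
theorem L709512 : sm gi N50118 = N52148 := rfl
theorem L709514 : sm ga N52148 = N50202 := ded_18_1 (flp_i L689325) (flp_a L688505) L709512
theorem L709516 : sm gd N52148 = N50119 := ded_39_1 (flp_i L688510) L688503 L709512
theorem L709518 : sm gf N52148 = N52148 := ded_48_1 (flp_i L709512) L688507 L709512
theorem L709519 : sm gg N52148 = N50122 := ded_51_1 (flp_i L688537) (flp_g L688508) L709512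
theorem L709521 : sm gb N50120 = N52149 := rfl
theorem L709523 : sm gd N52149 = N50147 := ded_20_2 (flp_b L688779) (flp_d L688529) L709521
theorem L709525 : sm gf N52149 = N50129 := ded_22_2 (flp_b L688593) (flp_f L688525) L709521
theorem L709527 : sm gj N52149 = N50123 := ded_24_2 (flp_b L688547) (flp_j L688527) L709521
theorem L709529 : sm ge N50120 = N52150 := rfl
theorem L709531 : sm ga N52150 = N50204 := ded_13_1 (flp_e L689344) (flp_a L688523) L709529
theorem L709533 : sm gc N52150 = N50121 := ded_28_1 (flp_e L688531) L688521 L709529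
theorem L709535 : sm gj N52150 = N50124 := ded_42_2 (flp_e L688555) (flp_j L688527) L709529
theorem L709537 : sm gi N50120 = N52151 := rfl
theorem L709539 : sm ga N52151 = N50205 := ded_18_1 (flp_i L689350) (flp_a L688523) L709537
theorem L709541 : sm gc N52151 = N50122 := ded_33_1 (flp_i L688537) L688521 L709537
theorem L709543 : sm gd N52151 = N50149 := ded_39_1 (flp_i L688799) (flp_d L688529) L709537
theorem L709545 : sm gf N52151 = N50131 := ded_48_1 (flp_i L688612) (flp_f L688525) L709537
theorem L709547 : sm gj N52151 = N50125 := ded_53_1 (flp_i L688561) (flp_j L688527) L709537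
theorem L709549 : sm gf N50121 = N52152 := rfl
theorem L709551 : sm ga N52152 = N50206 := ded_14_1 (flp_f L689360) (flp_a L688533) L709549
theorem L709553 : sm gb N52152 = N50494 := ded_22_1 (flp_f L709366) L709358 L709549
theorem L709555 : sm gd N52152 = N50379 := ded_35_1 (flp_f L708384) L708382 L709549
theorem L709557 : sm gj N52152 = N50126 := ded_46_2 (flp_f L688571) (flp_j L688535) L709549
theorem L709559 : sm gh N52152 = N50558 := ded_47_2 (flp_f L708968) L708964 L709549
theorem L709561 : sm ge N52152 = N50132 := ded_40_1 (flp_f L688623) (flp_e L666405) (flp_f L666360) L688531 L709549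
theorem L709563 : sm gi N50121 = N52153 := rfl
theorem L709565 : sm ga N52153 = N50207 := ded_18_1 (flp_i L689372) (flp_a L688533) L709563
theorem L709567 : sm ge N52153 = N50122 := ded_44_1 (flp_i L688537) L688531 L709563
theorem L709569 : sm gj N52153 = N50127 := ded_53_1 (flp_i L688579) (flp_j L688535) L709563
theorem L709571 : sm gh N50122 = N52154 := rfl
theorem L709573 : sm ga N52154 = N50208 := ded_17_1 (flp_h L689380) (flp_a L688539) L709571
theorem L709575 : sm gf N52154 = N50134 := ded_47_1 (flp_h L688648) (flp_f L688543) L709571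
theorem L709577 : sm gj N52154 = N50128 := ded_52_1 (flp_h L688585) (flp_j L688545) L709571
theorem L709579 : sm gd N52154 = N50683 := ded_38_1 (flp_h L693077) L671014 (flp_h L666374) (flp_d L688541) L709571
theorem L709581 : sm ge N50123 = N52155 := rfl
theorem L709583 : sm gb N52155 = N50124 := ded_21_1 (flp_e L688555) L688547 L709581
theorem L709585 : sm gg N52155 = N50743 := ded_41_2 L693528 (flp_g L688553) L709581
theorem L709587 : sm gi N50123 = N52156 := rfl
theorem L709589 : sm gb N52156 = N50125 := ded_26_1 (flp_i L688561) L688547 L709587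
theorem L709591 : sm gd N52156 = N50154 := ded_39_1 (flp_i L688854) (flp_d L688549) L709587
theorem L709593 : sm gf N52156 = N50135 := ded_48_1 (flp_i L688657) (flp_f L688551) L709587
theorem L709595 : sm gg N52156 = N50715 := ded_51_1 L693319 (flp_g L688553) L709587
theorem L709597 : sm gd N50124 = N52157 := rfl
theorem L709599 : sm ga N52157 = N50212 := ded_12_1 (flp_d L689412) (flp_a L688557) L709597
theorem L709601 : sm gg N52157 = N50650 := ded_36_2 (flp_d L698156) L698152 L709597
theorem L709603 : sm gc N52157 = N50653 := ded_27_1 (flp_d L696147) L696141 L687214 (flp_c L688559) L709597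
theorem L709605 : sm ge N52157 = N50155 := ded_34_2 (flp_d L688863) (flp_e L666619) (flp_d L666382) L688555 L709597
theorem L709607 : sm gf N50124 = N52158 := rfl
theorem L709609 : sm ga N52158 = N50213 := ded_14_1 (flp_f L689416) (flp_a L688557) L709607
theorem L709611 : sm gc N52158 = N50126 := ded_29_1 (flp_f L688571) (flp_c L688559) L709607
theorem L709613 : sm ge N52158 = N50136 := ded_40_1 (flp_f L688665) (flp_e L666433) (flp_f L666380) L688555 L709607
theorem L709615 : sm gi N50124 = N52159 := rfl
theorem L709617 : sm ga N52159 = N50214 := ded_18_1 (flp_i L689422) (flp_a L688557) L709615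
theorem L709619 : sm gc N52159 = N50127 := ded_33_1 (flp_i L688579) (flp_c L688559) L709615
theorem L709621 : sm ge N52159 = N50125 := ded_44_1 (flp_i L688561) L688555 L709615
theorem L709623 : sm gh N50125 = N52160 := rfl
theorem L709625 : sm ga N52160 = N50215 := ded_17_1 (flp_h L689428) (flp_a L688563) L709623
theorem L709627 : sm gc N52160 = N50128 := ded_32_1 (flp_h L688585) (flp_c L688565) L709623
theorem L709629 : sm gf N52160 = N50138 := ded_47_1 (flp_h L688683) (flp_f L688569) L709623
theorem L709631 : sm gi N50126 = N52161 := rfl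
theorem L709633 : sm ga N52161 = N50217 := ded_18_1 (flp_i L689440) (flp_a L688573) L709631
theorem L709635 : sm gb N52161 = N50496 := ded_26_1 (flp_i L691640) (flp_b L688575) L709631
theorem L709637 : sm ge N52161 = N50139 := ded_44_1 (flp_i L688691) (flp_e L688577) L709631
theorem L709639 : sm gf N52161 = N50127 := ded_48_1 (flp_i L688579) L688571 L709631
theorem L709641 : sm gh N50127 = N52162 := rfl
theorem L709643 : sm ga N52162 = N50218 := ded_17_1 (flp_h L689448) (flp_a L688581) L709641
theorem L709645 : sm ge N52162 = N50128 := ded_43_1 (flp_h L688585) (flp_e L688583) L709641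
theorem L709647 : sm gi N50129 = N52163 := rfl
theorem L709649 : sm gb N52163 = N50131 := ded_26_1 (flp_i L688612) L688593 L709647
theorem L709651 : sm gd N52163 = N50160 := ded_39_1 (flp_i L688913) (flp_d L688595) L709647
theorem L709653 : sm gg N52163 = N52163 := ded_51_1 (flp_i L709647) L688597 L709647
theorem L709654 : sm gj N52163 = N50135 := ded_53_1 (flp_i L688657) (flp_j L688598) L709647
theorem L709656 : sm gf N50130 = N52164 := rfl
theorem L709658 : sm ga N52164 = N50222 := ded_14_1 (flp_f L689486) (flp_a L688602) L709656
theorem L709660 : sm gc N52164 = N50132 := ded_29_1 (flp_f L688623) (flp_c L688604) L709656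
theorem L709662 : sm gd N52164 = N52164 := ded_35_1 (flp_f L709656) L688611 L709656
theorem L709663 : sm gj N52164 = N50136 := ded_46_2 (flp_f L688665) (flp_j L688607) L709656
theorem L709665 : sm gh N52164 = N50557 := ded_47_2 L692126 (flp_h L688609) L709656
theorem L709667 : sm gi N50130 = N52165 := rfl
theorem L709669 : sm ga N52165 = N50223 := ded_18_1 (flp_i L689495) (flp_a L688602) L709667
theorem L709671 : sm gc N52165 = N50133 := ded_33_1 (flp_i L688635) (flp_c L688604) L709667
theorem L709673 : sm gd N52165 = N52165 := ded_39_1 (flp_i L709667) L688611 L709667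
theorem L709674 : sm ge N52165 = N50131 := ded_44_1 (flp_i L688612) L688600 L709667
theorem L709676 : sm gg N52165 = N52165 := ded_51_1 (flp_i L709667) L688606 L709667
theorem L709677 : sm gj N52165 = N50137 := ded_53_1 (flp_i L688672) (flp_j L688607) L709667
theorem L709679 : sm gh N50131 = N52166 := rfl
theorem L709681 : sm ga N52166 = N50224 := ded_17_1 (flp_h L689505) (flp_a L688614) L709679
theorem L709683 : sm gc N52166 = N50134 := ded_32_1 (flp_h L688648) (flp_c L688616) L709679
theorem L709685 : sm gg N52166 = N52166 := ded_50_1 (flp_h L709679) L688620 L709679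
theorem L709686 : sm gj N52166 = N50138 := ded_52_1 (flp_h L688683) (flp_j L688621) L709679
theorem L709688 : sm gi N50132 = N52167 := rfl
theorem L709690 : sm ga N52167 = N50225 := ded_18_1 (flp_i L689512) (flp_a L688625) L709688
theorem L709692 : sm gb N52167 = N50495 := ded_26_1 (flp_i L691630) (flp_b L688627) L709688
theorem L709694 : sm gd N52167 = N50144 := ded_39_1 (flp_i L688738) (flp_d L688629) L709688
theorem L709696 : sm gf N52167 = N50133 := ded_48_1 (flp_i L688635) L688623 L709688
theorem L709698 : sm gj N52167 = N50139 := ded_53_1 (flp_i L688691) (flp_j L688631) L709688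
theorem L709700 : sm gh N50133 = N52168 := rfl
theorem L709702 : sm ga N52168 = N50226 := ded_17_1 (flp_h L689522) (flp_a L688637) L709700
theorem L709704 : sm gb N52168 = N50498 := ded_25_1 (flp_h L691654) (flp_b L688639) L709700
theorem L709706 : sm ge N52168 = N50134 := ded_43_1 (flp_h L688648) (flp_e L688643) L709700
theorem L709708 : sm gg N52168 = N52168 := ded_50_1 (flp_h L709700) L688645 L709700
theorem L709709 : sm gj N52168 = N50140 := ded_52_1 (flp_h L688701) (flp_j L688646) L709700
theorem L709711 : sm gd N52168 = N50536 := ded_38_1 (flp_h L691935) L669874 (flp_h L666542) (flp_d L688641) L709700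
theorem L709713 : sm gi N52168 = N50839 := ded_54_2 (flp_h L694343) (flp_i L672877) (flp_h L666414) L688635 L709700
theorem L709715 : sm gh N50135 = N52169 := rfl
theorem L709717 : sm gb N52169 = N50138 := ded_25_1 (flp_h L688683) (flp_b L688659) L709715
theorem L709719 : sm gg N52169 = N50141 := ded_50_1 (flp_h L688713) (flp_g L688663) L709715
theorem L709721 : sm gi N50136 = N52170 := rfl
theorem L709723 : sm ga N52170 = N50233 := ded_18_1 (flp_i L689589) (flp_a L688667) L709721
theorem L709725 : sm gc N52170 = N50139 := ded_33_1 (flp_i L688691) (flp_c L688669) L709721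
theorem L709727 : sm gd N52170 = N52170 := ded_39_1 (flp_i L709721) L688671 L709721
theorem L709728 : sm gf N52170 = N50137 := ded_48_1 (flp_i L688672) L688665 L709721
theorem L709730 : sm gh N50137 = N52171 := rfl
theorem L709732 : sm ga N52171 = N50234 := ded_17_1 (flp_h L689596) (flp_a L688674) L709730
theorem L709734 : sm gc N52171 = N50140 := ded_32_1 (flp_h L688701) (flp_c L688676) L709730
theorem L709736 : sm ge N52171 = N50138 := ded_43_1 (flp_h L688683) (flp_e L688679) L709730
theorem L709738 : sm gg N52171 = N50142 := ded_50_1 (flp_h L688720) (flp_g L688681) L709730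
theorem L709740 : sm gd N50138 = N52172 := rfl
theorem L709742 : sm ga N52172 = N50235 := ded_12_1 (flp_d L689604) (flp_a L688685) L709740
theorem L709744 : sm gg N52172 = N50143 := ded_36_2 (flp_d L688729) (flp_g L688689) L709740
theorem L709746 : sm gc N52172 = N50694 := ded_27_1 (flp_d L693163) L671083 (flp_d L666478) (flp_c L688687) L709740
theorem L709748 : sm gh N52172 = N50164 := ded_38_2 (flp_d L688952) (flp_h L666706) (flp_d L666448) L688683 L709740
theorem L709750 : sm gh N50139 = N52173 := rfl
theorem L709752 : sm ga N52173 = N50238 := ded_17_1 (flp_h L689628) (flp_a L688693) L709750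
theorem L709754 : sm gb N52173 = N50497 := ded_25_1 (flp_h L691646) (flp_b L688695) L709750
theorem L709756 : sm gf N52173 = N50140 := ded_47_1 (flp_h L688701) (flp_f L688699) L709750
theorem L709758 : sm gd N52173 = N50542 := ded_38_1 (flp_h L691983) L669929 (flp_h L666553) (flp_d L688697) L709750
theorem L709760 : sm gd N50141 = N52174 := rfl
theorem L709762 : sm gb N52174 = N50143 := ded_20_1 (flp_d L688729) (flp_b L688715) L709760
theorem L709764 : sm gf N52174 = N50706 := ded_35_2 L693254 (flp_f L688717) L709760
theorem L709766 : sm gj N52174 = N52174 := ded_37_2 (flp_d L709760) L688719 L709760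
theorem L709767 : sm gh N52174 = N50166 := ded_38_2 (flp_d L688973) (flp_h L666727) (flp_d L666484) L688713 L709760
theorem L709769 : sm gd N50142 = N52175 := rfl
theorem L709771 : sm ga N52175 = N50248 := ded_12_1 (flp_d L689718) (flp_a L688722) L709769
theorem L709773 : sm gj N52175 = N52175 := ded_37_2 (flp_d L709769) L688728 L709769
theorem L709774 : sm gc N52175 = N50544 := ded_27_1 (flp_d L691998) L669958 (flp_d L666515) (flp_c L688724) L709769
theorem L709776 : sm gh N52175 = N52175 := ded_38_2 (flp_d L709769) (flp_h L688720) L666495 L688720 L709769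
theorem L709777 : sm ge N50143 = N52176 := rfl
theorem L709779 : sm ga N52176 = N50249 := ded_13_1 (flp_e L689722) (flp_a L688731) L709777
theorem L709781 : sm gc N52176 = N50706 := ded_28_1 (flp_e L693249) (flp_c L688734) L709777
theorem L709783 : sm gj N52176 = N52176 := ded_42_2 (flp_e L709777) L688733 L709777
theorem L709784 : sm gh N52176 = N50167 := ded_43_2 (flp_e L688981) (flp_h L688736) L709777
theorem L709786 : sm gb N50145 = N52177 := rfl
theorem L709788 : sm ge N52177 = N50725 := ded_21_2 L693405 (flp_e L688757) L709786
theorem L709790 : sm gf N52177 = N52177 := ded_22_2 (flp_b L709786) L688759 L709786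
theorem L709791 : sm gg N52177 = N50147 := ded_23_2 (flp_b L688779) (flp_g L688760) L709786
theorem L709793 : sm gj N52177 = N50800 := ded_24_2 L694033 (flp_j L688762) L709786
theorem L709795 : sm gh N52177 = N52177 := ded_25_2 (flp_b L709786) L688764 L709786
theorem L709796 : sm ga N52177 = N50726 := ded_10_1 L693409 (flp_a L686806) L686814 (flp_a L688755) L709786
theorem L709798 : sm gc N52177 = N52177 := ded_19_2 (flp_b L709786) (flp_c L688753) L666559 L688753 L709786
theorem L709799 : sm gi N50145 = N52178 := rfl
theorem L709801 : sm ga N52178 = N50253 := ded_18_1 (flp_i L689751) (flp_a L688755) L709799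
theorem L709803 : sm gc N52178 = N50146 := ded_33_1 (flp_i L688765) L688753 L709799
theorem L709805 : sm ge N52178 = N50824 := ded_44_1 (flp_i L694227) (flp_e L688757) L709799
theorem L709807 : sm gf N52178 = N52178 := ded_48_1 (flp_i L709799) L688759 L709799
theorem L709808 : sm gg N52178 = N50149 := ded_51_1 (flp_i L688799) (flp_g L688760) L709799
theorem L709810 : sm gj N52178 = N50808 := ded_53_1 (flp_i L694089) (flp_j L688762) L709799
theorem L709812 : sm gh N50146 = N52179 := rfl
theorem L709814 : sm ga N52179 = N50254 := ded_17_1 (flp_h L689758) (flp_a L688767) L709812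
theorem L709816 : sm gb N52179 = N52179 := ded_25_1 (flp_h L709812) L688769 L709812
theorem L709817 : sm ge N52179 = N50813 := ded_43_1 L694139 (flp_e L688772) L709812
theorem L709819 : sm gf N52179 = N52179 := ded_47_1 (flp_h L709812) L688774 L709812
theorem L709820 : sm gg N52179 = N50151 := ded_50_1 (flp_h L688823) (flp_g L688775) L709812
theorem L709822 : sm gj N52179 = N50812 := ded_52_1 (flp_h L694122) (flp_j L688777) L709812
theorem L709824 : sm gd N52179 = N50158 := ded_38_1 (flp_h L688892) L666642 (flp_h L666576) (flp_d L688770) L709812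
theorem L709826 : sm gi N52179 = N52179 := ded_54_2 (flp_h L709812) (flp_i L688765) L666567 L688765 L709812
theorem L709827 : sm gi N50147 = N52180 := rfl
theorem L709829 : sm gb N52180 = N50149 := ded_26_1 (flp_i L688799) L688779 L709827
theorem L709831 : sm gc N52180 = N52180 := ded_33_1 (flp_i L709827) L688786 L709827
theorem L709832 : sm gf N52180 = N50160 := ded_48_1 (flp_i L688913) (flp_f L688781) L709827
theorem L709834 : sm gj N52180 = N50154 := ded_53_1 (flp_i L688854) (flp_j L688783) L709827
theorem L709836 : sm gd N50148 = N52181 := rfl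
theorem L709838 : sm ga N52181 = N50256 := ded_12_1 (flp_d L689778) (flp_a L688789) L709836
theorem L709840 : sm gf N52181 = N52181 := ded_35_2 (flp_d L709836) L688798 L709836
theorem L709841 : sm gg N52181 = N50691 := ded_36_2 L693143 (flp_g L688793) L709836
theorem L709843 : sm gj N52181 = N50155 := ded_37_2 (flp_d L688863) (flp_j L688795) L709836
theorem L709845 : sm gc N52181 = N50681 := ded_27_1 L693065 L671201 (flp_d L666597) (flp_c L688791) L709836
theorem L709847 : sm gi N50148 = N52182 := rfl
theorem L709849 : sm ga N52182 = N50257 := ded_18_1 (flp_i L689783) (flp_a L688789) L709847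
theorem L709851 : sm gc N52182 = N50150 := ded_33_1 (flp_i L688809) (flp_c L688791) L709847
theorem L709853 : sm ge N52182 = N50149 := ded_44_1 (flp_i L688799) L688787 L709847
theorem L709855 : sm gf N52182 = N52182 := ded_48_1 (flp_i L709847) L688798 L709847
theorem L709856 : sm gg N52182 = N50824 := ded_51_1 (flp_i L694227) (flp_g L688793) L709847
theorem L709858 : sm gj N52182 = N50156 := ded_53_1 (flp_i L688872) (flp_j L688795) L709847
theorem L709860 : sm gh N50149 = N52183 := rfl
theorem L709862 : sm ga N52183 = N50258 := ded_17_1 (flp_h L689792) (flp_a L688801) L709860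
theorem L709864 : sm gc N52183 = N50151 := ded_32_1 (flp_h L688823) (flp_c L688803) L709860
theorem L709866 : sm gf N52183 = N50161 := ded_47_1 (flp_h L688922) (flp_f L688805) L709860
theorem L709868 : sm gj N52183 = N50157 := ded_52_1 (flp_h L688883) (flp_j L688807) L709860
theorem L709870 : sm gi N52183 = N52183 := ded_54_2 (flp_h L709860) (flp_i L688799) L666586 L688799 L709860
theorem L709871 : sm gh N50150 = N52184 := rfl
theorem L709873 : sm ga N52184 = N50259 := ded_17_1 (flp_h L689801) (flp_a L688811) L709871
theorem L709875 : sm gb N52184 = N52184 := ded_25_1 (flp_h L709871) L688813 L709871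
theorem L709876 : sm ge N52184 = N50151 := ded_43_1 (flp_h L688823) (flp_e L688816) L709871
theorem L709878 : sm gf N52184 = N52184 := ded_47_1 (flp_h L709871) L688818 L709871
theorem L709879 : sm gg N52184 = N50813 := ded_50_1 L694139 (flp_g L688819) L709871
theorem L709881 : sm gj N52184 = N50158 := ded_52_1 (flp_h L688892) (flp_j L688821) L709871
theorem L709883 : sm gd N52184 = N50812 := ded_38_1 (flp_h L694122) (flp_d L677115) L677124 (flp_d L688814) L709871
theorem L709885 : sm gi N52184 = N52184 := ded_54_2 (flp_h L709871) (flp_i L688809) L666596 L688809 L709871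
theorem L709886 : sm gi N50152 = N52185 := rfl
theorem L709888 : sm ga N52185 = N50154 := ded_18_1 (flp_i L688854) L688835 L709886
theorem L709890 : sm gb N52185 = N50260 := ded_26_1 (flp_i L689811) (flp_b L688843) L709886
theorem L709892 : sm gc N52185 = N52185 := ded_33_1 (flp_i L709886) L688837 L709886
theorem L709893 : sm gf N52185 = N50162 := ded_48_1 (flp_i L688933) (flp_f L688838) L709886
theorem L709895 : sm gg N52185 = N50798 := ded_51_1 L694019 (flp_g L688840) L709886
theorem L709897 : sm gd N50153 = N52186 := rfl
theorem L709899 : sm gb N52186 = N50155 := ded_20_1 (flp_d L688863) (flp_b L688847) L709897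
theorem L709901 : sm gf N52186 = N52186 := ded_35_2 (flp_d L709897) L688853 L709897
theorem L709902 : sm gg N52186 = N50675 := ded_36_2 L693011 (flp_g L688850) L709897
theorem L709904 : sm gi N50153 = N52187 := rfl
theorem L709906 : sm gb N52187 = N50156 := ded_26_1 (flp_i L688872) (flp_b L688847) L709904
theorem L709908 : sm gc N52187 = N52187 := ded_33_1 (flp_i L709904) L688849 L709904
theorem L709909 : sm ge N52187 = N50154 := ded_44_1 (flp_i L688854) L688845 L709904
theorem L709911 : sm gf N52187 = N52187 := ded_48_1 (flp_i L709904) L688853 L709904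
theorem L709912 : sm gg N52187 = N50816 := ded_51_1 (flp_i L694160) (flp_g L688850) L709904
theorem L709914 : sm gh N50154 = N52188 := rfl
theorem L709916 : sm gb N52188 = N50157 := ded_25_1 (flp_h L688883) (flp_b L688856) L709914
theorem L709918 : sm gc N52188 = N52188 := ded_32_1 (flp_h L709914) L688858 L709914
theorem L709919 : sm gf N52188 = N50163 := ded_47_1 (flp_h L688943) (flp_f L688859) L709914
theorem L709921 : sm gg N52188 = N50828 := ded_50_1 L694259 (flp_g L688861) L709914
theorem L709923 : sm gi N52188 = N52188 := ded_54_2 (flp_h L709914) (flp_i L688854) L666617 L688854 L709914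
theorem L709924 : sm gi N50155 = N52189 := rfl
theorem L709926 : sm ga N52189 = N50265 := ded_18_1 (flp_i L689846) (flp_a L688865) L709924
theorem L709928 : sm gc N52189 = N50682 := ded_33_1 (flp_i L693070) (flp_c L688870) L709924
theorem L709930 : sm gd N52189 = N50156 := ded_39_1 (flp_i L688872) L688863 L709924
theorem L709932 : sm gf N52189 = N52189 := ded_48_1 (flp_i L709924) L688867 L709924
theorem L709933 : sm gg N52189 = N50678 := ded_51_1 (flp_i L693035) (flp_g L688868) L709924
theorem L709935 : sm gh N50156 = N52190 := rfl
theorem L709937 : sm ga N52190 = N50266 := ded_17_1 (flp_h L689851) (flp_a L688874) L709935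
theorem L709939 : sm gc N52190 = N50158 := ded_32_1 (flp_h L688892) (flp_c L688876) L709935
theorem L709941 : sm ge N52190 = N50157 := ded_43_1 (flp_h L688883) (flp_e L688878) L709935
theorem L709943 : sm gf N52190 = N52190 := ded_47_1 (flp_h L709935) L688880 L709935
theorem L709944 : sm gg N52190 = N50817 := ded_50_1 (flp_h L694171) (flp_g L688881) L709935
theorem L709946 : sm gi N52190 = N52190 := ded_54_2 (flp_h L709935) (flp_i L688872) L666627 L688872 L709935
theorem L709947 : sm gd N50157 = N52191 := rfl
theorem L709949 : sm ga N52191 = N50267 := ded_12_1 (flp_d L689859) (flp_a L688885) L709947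
theorem L709951 : sm gf N52191 = N50164 := ded_35_2 (flp_d L688952) (flp_f L688889) L709947
theorem L709953 : sm gi N52191 = N52191 := ded_39_2 (flp_d L709947) L688891 L709947
theorem L709954 : sm gc N52191 = N50826 := ded_27_1 (flp_d L694244) L672705 (flp_d L666656) (flp_c L688887) L709947
theorem L709956 : sm gi N50159 = N52192 := rfl
theorem L709958 : sm ga N52192 = N50160 := ded_18_1 (flp_i L688913) L688903 L709956
theorem L709960 : sm gb N52192 = N50268 := ded_26_1 (flp_i L689864) (flp_b L688911) L709956
theorem L709962 : sm gc N52192 = N52192 := ded_33_1 (flp_i L709956) L688905 L709956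
theorem L709963 : sm ge N52192 = N52192 := ded_44_1 (flp_i L709956) L688906 L709956
theorem L709964 : sm gg N52192 = N52192 := ded_51_1 (flp_i L709956) L688907 L709956
theorem L709965 : sm gj N52192 = N50162 := ded_53_1 (flp_i L688933) (flp_j L688908) L709956
theorem L709967 : sm gh N50160 = N52193 := rfl
theorem L709969 : sm gb N52193 = N50161 := ded_25_1 (flp_h L688922) (flp_b L688915) L709967
theorem L709971 : sm gc N52193 = N52193 := ded_32_1 (flp_h L709967) L688917 L709967
theorem L709972 : sm ge N52193 = N52193 := ded_43_1 (flp_h L709967) L688918 L709967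
theorem L709973 : sm gg N52193 = N52193 := ded_50_1 (flp_h L709967) L688919 L709967
theorem L709974 : sm gj N52193 = N50163 := ded_52_1 (flp_h L688943) (flp_j L688920) L709967
theorem L709976 : sm gi N52193 = N52193 := ded_54_2 (flp_h L709967) (flp_i L688913) L666665 L688913 L709967
theorem L709977 : sm gd N50161 = N52194 := rfl
theorem L709979 : sm ga N52194 = N50270 := ded_12_1 (flp_d L689885) (flp_a L688924) L709977
theorem L709981 : sm gg N52194 = N52194 := ded_36_2 (flp_d L709977) L688929 L709977
theorem L709982 : sm gj N52194 = N50164 := ded_37_2 (flp_d L688952) (flp_j L688930) L709977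
theorem L709984 : sm gi N52194 = N52194 := ded_39_2 (flp_d L709977) L688932 L709977
theorem L709985 : sm gc N52194 = N50818 := ded_27_1 (flp_d L694180) L672624 (flp_d L666686) (flp_c L688926) L709977
theorem L709987 : sm gh N50162 = N52195 := rfl
theorem L709989 : sm ga N52195 = N50163 := ded_17_1 (flp_h L688943) (flp_a L688935) L709987
theorem L709991 : sm gb N52195 = N50271 := ded_25_1 (flp_h L689891) (flp_b L688937) L709987
theorem L709993 : sm gc N52195 = N52195 := ded_32_1 (flp_h L709987) L688939 L709987
theorem L709994 : sm ge N52195 = N52195 := ded_43_1 (flp_h L709987) L688940 L709987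
theorem L709995 : sm gg N52195 = N50165 := ded_50_1 (flp_h L688961) (flp_g L688941) L709987
theorem L709997 : sm gi N52195 = N52195 := ded_54_2 (flp_h L709987) (flp_i L688933) L666695 L688933 L709987
theorem L709998 : sm gd N50163 = N52196 := rfl
theorem L710000 : sm gb N52196 = N50164 := ded_20_1 (flp_d L688952) (flp_b L688945) L709998
theorem L710002 : sm gg N52196 = N50166 := ded_36_2 (flp_d L688973) (flp_g L688949) L709998
theorem L710004 : sm gi N52196 = N52196 := ded_39_2 (flp_d L709998) L688951 L709998
theorem L710005 : sm ge N50164 = N52197 := rfl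
theorem L710007 : sm ga N52197 = N50273 := ded_13_1 (flp_e L689908) (flp_a L688954) L710005
theorem L710009 : sm gc N52197 = N50827 := ded_28_1 (flp_e L694249) (flp_c L688959) L710005
theorem L710011 : sm gg N52197 = N50167 := ded_41_2 (flp_e L688981) (flp_g L688956) L710005
theorem L710013 : sm gi N52197 = N52197 := ded_44_2 (flp_e L710005) L688958 L710005
theorem L710014 : sm gd N52197 = N52197 := ded_34_1 (flp_e L710005) (flp_d L688952) L666712 L688952 L710005
theorem L710015 : sm ge N50166 = N52198 := rfl
theorem L710017 : sm gb N52198 = N50167 := ded_21_1 (flp_e L688981) (flp_b L688975) L710015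
theorem L710019 : sm gc N52198 = N50833 := ded_28_1 (flp_e L707580) L707577 L710015
theorem L710021 : sm gj N52198 = N52198 := ded_42_2 (flp_e L710015) L688979 L710015
theorem L710022 : sm gi N52198 = N52198 := ded_44_2 (flp_e L710015) L688980 L710015
theorem L710023 : sm gd N52198 = N52198 := ded_34_1 (flp_e L710015) (flp_d L688973) L666732 L688973 L710015
theorem L710024 : sm gf N52198 = N50834 := ded_40_2 L694314 L672821 L672825 (flp_f L688977) L710015
theorem L710026 : sm gb N50168 = N52199 := rfl
theorem L710028 : sm gd N52199 = N52199 := ded_20_2 (flp_b L710026) L688998 L710026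
theorem L710029 : sm gf N52199 = N50619 := ded_22_2 L692606 (flp_f L688992) L710026
theorem L710031 : sm gj N52199 = N50625 := ded_24_2 L692665 (flp_j L688994) L710026
theorem L710033 : sm gh N52199 = N50675 := ded_25_2 L693009 (flp_h L688996) L710026
theorem L710035 : sm gc N52199 = N50595 := ded_19_2 (flp_b L692437) (flp_c L670567) (flp_b L666747) L688990 L710026
theorem L710037 : sm ge N50168 = N52200 := rfl
theorem L710039 : sm gc N52200 = N50169 := ded_28_1 (flp_e L688999) L688990 L710037
theorem L710041 : sm gj N52200 = N50612 := ded_42_2 L692561 (flp_j L688994) L710037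
theorem L710043 : sm gh N52200 = N50650 := ded_43_2 L692855 (flp_h L688996) L710037
theorem L710045 : sm gf N52200 = N50604 := ded_40_2 (flp_e L692497) L670599 L670668 (flp_f L688992) L710037
theorem L710047 : sm gi N50168 = N52201 := rfl
theorem L710049 : sm gc N52201 = N50170 := ded_33_1 (flp_i L689011) L688990 L710047
theorem L710051 : sm gd N52201 = N52201 := ded_39_1 (flp_i L710047) L688998 L710047
theorem L710052 : sm gf N52201 = N50621 := ded_48_1 (flp_i L692625) (flp_f L688992) L710047
theorem L710054 : sm gj N52201 = N50629 := ded_53_1 (flp_i L692696) (flp_j L688994) L710047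
theorem L710056 : sm gi N50169 = N52202 := rfl
theorem L710058 : sm gb N52202 = N50598 := ded_26_1 (flp_i L692455) (flp_b L689001) L710056
theorem L710060 : sm gd N52202 = N50180 := ded_39_1 (flp_i L689105) (flp_d L689007) L710056
theorem L710062 : sm ge N52202 = N50170 := ded_44_1 (flp_i L689011) L688999 L710056
theorem L710064 : sm gf N52202 = N50606 := ded_48_1 (flp_i L692515) (flp_f L689009) L710056
theorem L710066 : sm gj N52202 = N50616 := ded_53_1 (flp_i L692583) (flp_j L689003) L710056
theorem L710068 : sm gh N50170 = N52203 := rfl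
theorem L710070 : sm gb N52203 = N50599 := ded_25_1 (flp_h L692461) (flp_b L689013) L710068
theorem L710072 : sm gf N52203 = N50623 := ded_47_1 (flp_h L692644) (flp_f L689017) L710068
theorem L710074 : sm gj N52203 = N50633 := ded_52_1 (flp_h L692729) (flp_j L689019) L710068
theorem L710076 : sm gi N52203 = N50683 := ded_54_2 (flp_h L693077) (flp_i L671012) (flp_h L666753) L689011 L710068
theorem L710078 : sm gc N50171 = N52204 := rfl
theorem L710080 : sm gf N52204 = N52204 := ded_29_2 (flp_c L710078) L689025 L710078
theorem L710081 : sm gg N52204 = N50173 := ded_30_2 (flp_c L689040) (flp_g L689026) L710078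
theorem L710083 : sm gh N52204 = N50200 := ded_32_2 (flp_c L689312) (flp_h L689028) L710078
theorem L710085 : sm gd N52204 = N52204 := ded_27_2 (flp_c L710078) (flp_d L689021) L666770 L689021 L710078
theorem L710086 : sm ge N50171 = N52205 := rfl
theorem L710088 : sm gb N52205 = N50601 := ded_21_1 (flp_e L692474) (flp_b L689023) L710086
theorem L710090 : sm gg N52205 = N50174 := ded_41_2 (flp_e L689049) (flp_g L689026) L710086
theorem L710092 : sm gh N52205 = N50201 := ded_43_2 (flp_e L689319) (flp_h L689028) L710086
theorem L710094 : sm gd N52205 = N50615 := ded_34_1 L692579 L670756 (flp_e L666771) L689021 L710086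
theorem L710096 : sm gi N50171 = N52206 := rfl
theorem L710098 : sm gb N52206 = N50602 := ded_26_1 (flp_i L692480) (flp_b L689023) L710096
theorem L710100 : sm gd N52206 = N50172 := ded_39_1 (flp_i L689030) L689021 L710096
theorem L710102 : sm gf N52206 = N52206 := ded_48_1 (flp_i L710096) L689025 L710096
theorem L710103 : sm gg N52206 = N50175 := ded_51_1 (flp_i L689061) (flp_g L689026) L710096
theorem L710105 : sm gb N50173 = N52207 := rfl
theorem L710107 : sm gd N52207 = N52207 := ded_20_2 (flp_b L710105) L689048 L710105
theorem L710108 : sm gf N52207 = N50182 := ded_22_2 (flp_b L689119) (flp_f L689042) L710105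
theorem L710110 : sm gj N52207 = N50176 := ded_24_2 (flp_b L689071) (flp_j L689044) L710105
theorem L710112 : sm gh N52207 = N50203 := ded_25_2 (flp_b L689334) (flp_h L689046) L710105
theorem L710114 : sm gc N52207 = N50603 := ded_19_2 (flp_b L692487) (flp_c L670597) (flp_b L666778) L689040 L710105
theorem L710116 : sm ge N50173 = N52208 := rfl
theorem L710118 : sm gc N52208 = N50174 := ded_28_1 (flp_e L689049) L689040 L710116
theorem L710120 : sm gj N52208 = N50177 := ded_42_2 (flp_e L689080) (flp_j L689044) L710116
theorem L710122 : sm gh N52208 = N50204 := ded_43_2 (flp_e L689344) (flp_h L689046) L710116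
theorem L710124 : sm gf N52208 = N50596 := ded_40_2 (flp_e L692443) L670569 (flp_e L666820) (flp_f L689042) L710116
theorem L710126 : sm gi N50173 = N52209 := rfl
theorem L710128 : sm gc N52209 = N50175 := ded_33_1 (flp_i L689061) L689040 L710126
theorem L710130 : sm gd N52209 = N52209 := ded_39_1 (flp_i L710126) L689048 L710126
theorem L710131 : sm gf N52209 = N50183 := ded_48_1 (flp_i L689131) (flp_f L689042) L710126
theorem L710133 : sm gj N52209 = N50178 := ded_53_1 (flp_i L689086) (flp_j L689044) L710126
theorem L710135 : sm gi N50174 = N52210 := rfl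
theorem L710137 : sm gb N52210 = N50606 := ded_26_1 (flp_i L692515) (flp_b L689051) L710135
theorem L710139 : sm gd N52210 = N50616 := ded_39_1 (flp_i L692583) (flp_d L689057) L710135
theorem L710141 : sm ge N52210 = N50175 := ded_44_1 (flp_i L689061) L689049 L710135
theorem L710143 : sm gf N52210 = N50598 := ded_48_1 (flp_i L692455) (flp_f L689059) L710135
theorem L710145 : sm gj N52210 = N50180 := ded_53_1 (flp_i L689105) (flp_j L689053) L710135
theorem L710147 : sm gh N50175 = N52211 := rfl
theorem L710149 : sm gb N52211 = N50607 := ded_25_1 (flp_h L692521) (flp_b L689063) L710147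
theorem L710151 : sm gf N52211 = N50184 := ded_47_1 (flp_h L689141) (flp_f L689067) L710147
theorem L710153 : sm gj N52211 = N50181 := ded_52_1 (flp_h L689111) (flp_j L689069) L710147
theorem L710155 : sm gi N52211 = N50208 := ded_54_2 (flp_h L689380) (flp_i L666994) (flp_h L666784) L689061 L710147
theorem L710157 : sm ge N50176 = N52212 := rfl
theorem L710159 : sm gb N52212 = N50177 := ded_21_1 (flp_e L689080) L689071 L710157
theorem L710161 : sm gc N52212 = N50609 := ded_28_1 (flp_e L692537) (flp_c L689078) L710157
theorem L710163 : sm gh N52212 = N50210 := ded_43_2 (flp_e L689396) (flp_h L689076) L710157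
theorem L710165 : sm gi N50176 = N52213 := rfl
theorem L710167 : sm gb N52213 = N50178 := ded_26_1 (flp_i L689086) L689071 L710165
theorem L710169 : sm gc N52213 = N50610 := ded_33_1 (flp_i L692543) (flp_c L689078) L710165
theorem L710171 : sm gd N52213 = N52213 := ded_39_1 (flp_i L710165) L689073 L710165
theorem L710172 : sm gf N52213 = N50186 := ded_48_1 (flp_i L689168) (flp_f L689074) L710165
theorem L710174 : sm gd N50177 = N52214 := rfl
theorem L710176 : sm ge N52214 = N52214 := ded_34_2 (flp_d L710174) (flp_e L689080) L666803 L689080 L710174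
theorem L710177 : sm gf N50177 = N52215 := rfl
theorem L710179 : sm gc N52215 = N50179 := ded_29_1 (flp_f L689093) (flp_c L689082) L710177
theorem L710181 : sm gj N52215 = N50596 := ded_46_2 (flp_f L710124) L710120 L710177
theorem L710183 : sm gh N52215 = N50213 := ded_47_2 (flp_f L689416) (flp_h L689084) L710177
theorem L710185 : sm ge N52215 = N50187 := ded_40_1 (flp_f L689177) (flp_e L666848) (flp_f L666799) L689080 L710177
theorem L710187 : sm gi N50177 = N52216 := rfl
theorem L710189 : sm gc N52216 = N50180 := ded_33_1 (flp_i L689105) (flp_c L689082) L710187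
theorem L710191 : sm ge N52216 = N50178 := ded_44_1 (flp_i L689086) L689080 L710187
theorem L710193 : sm gh N50178 = N52217 := rfl
theorem L710195 : sm gc N52217 = N50181 := ded_32_1 (flp_h L689111) (flp_c L689088) L710193
theorem L710197 : sm gf N52217 = N50189 := ded_47_1 (flp_h L689199) (flp_f L689091) L710193
theorem L710199 : sm gi N52217 = N50215 := ded_54_2 (flp_h L689428) (flp_i L667016) (flp_h L666801) L689086 L710193
theorem L710201 : sm gg N50179 = N52218 := rfl
theorem L710203 : sm ga N52218 = N50521 := ded_15_1 (flp_g L705148) L705144 L710201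
theorem L710205 : sm gb N52218 = N50615 := ded_23_1 (flp_g L692577) (flp_b L689095) L710201
theorem L710207 : sm gd N52218 = N50601 := ded_36_1 L692476 (flp_d L689097) L710201
theorem L710209 : sm ge N52218 = N50190 := ded_41_1 (flp_g L689207) (flp_e L689103) L710201
theorem L710211 : sm gh N52218 = N50216 := ded_50_2 (flp_g L689434) (flp_h L689101) L710201
theorem L710213 : sm gi N50179 = N52219 := rfl
theorem L710215 : sm gb N52219 = N50616 := ded_26_1 (flp_i L692583) (flp_b L689095) L710213
theorem L710217 : sm gd N52219 = N50606 := ded_39_1 (flp_i L692515) (flp_d L689097) L710213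
theorem L710219 : sm ge N52219 = N50191 := ded_44_1 (flp_i L689219) (flp_e L689103) L710213
theorem L710221 : sm gf N52219 = N50180 := ded_48_1 (flp_i L689105) L689093 L710213
theorem L710223 : sm gj N52219 = N50598 := ded_53_1 (flp_i L692455) (flp_j L689099) L710213
theorem L710225 : sm gh N50180 = N52220 := rfl
theorem L710227 : sm gb N52220 = N50617 := ded_25_1 (flp_h L692589) (flp_b L689107) L710225
theorem L710229 : sm ge N52220 = N50181 := ded_43_1 (flp_h L689111) (flp_e L689109) L710225
theorem L710231 : sm gi N52220 = N50218 := ded_54_2 (flp_h L689448) (flp_i L667030) (flp_h L666808) L689105 L710225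
theorem L710233 : sm gi N50182 = N52221 := rfl
theorem L710235 : sm gb N52221 = N50183 := ded_26_1 (flp_i L689131) L689119 L710233
theorem L710237 : sm gc N52221 = N50620 := ded_33_1 (flp_i L692616) (flp_c L689129) L710233
theorem L710239 : sm gd N52221 = N52221 := ded_39_1 (flp_i L710233) L689121 L710233
theorem L710240 : sm ge N52221 = N50840 := ded_44_1 (flp_i L694348) (flp_e L689122) L710233
theorem L710242 : sm gg N52221 = N52221 := ded_51_1 (flp_i L710233) L689124 L710233
theorem L710243 : sm gj N52221 = N50186 := ded_53_1 (flp_i L689168) (flp_j L689125) L710233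
theorem L710245 : sm gh N50183 = N52222 := rfl
theorem L710247 : sm gc N52222 = N50184 := ded_32_1 (flp_h L689141) (flp_c L689133) L710245
theorem L710249 : sm ge N52222 = N50841 := ded_43_1 (flp_h L694355) (flp_e L689136) L710245
theorem L710251 : sm gg N52222 = N52222 := ded_50_1 (flp_h L710245) L689138 L710245
theorem L710252 : sm gj N52222 = N50189 := ded_52_1 (flp_h L689199) (flp_j L689139) L710245
theorem L710254 : sm gi N52222 = N50224 := ded_54_2 (flp_h L689505) (flp_i L667061) (flp_h L666825) L689131 L710245
theorem L710256 : sm gf N50185 = N52223 := rfl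
theorem L710258 : sm ga N52223 = N50687 := ded_14_1 L693111 (flp_a L689154) L710256
theorem L710260 : sm gb N52223 = N50187 := ded_22_1 (flp_f L689177) (flp_b L689156) L710256
theorem L710262 : sm gc N52223 = N50625 := ded_29_1 (flp_f L692663) (flp_c L689158) L710256
theorem L710264 : sm gd N52223 = N50720 := ded_35_1 L693353 L689166 L710256
theorem L710266 : sm gj N52223 = N50595 := ded_46_2 L692441 (flp_j L689162) L710256
theorem L710268 : sm gh N52223 = N50229 := ded_47_2 (flp_f L689556) (flp_h L689164) L710256
theorem L710270 : sm gg N52223 = N50684 := ded_45_2 (flp_f L693083) L671031 (flp_f L666908) (flp_g L689160) L710256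
theorem L710272 : sm gi N50185 = N52224 := rfl
theorem L710274 : sm ga N52224 = N50700 := ded_18_1 (flp_i L693205) (flp_a L689154) L710272
theorem L710276 : sm gb N52224 = N50188 := ded_26_1 (flp_i L689187) (flp_b L689156) L710272
theorem L710278 : sm gc N52224 = N50626 := ded_33_1 (flp_i L692670) (flp_c L689158) L710272
theorem L710280 : sm gd N52224 = N50829 := ded_39_1 (flp_i L694262) L689166 L710272
theorem L710282 : sm ge N52224 = N50186 := ded_44_1 (flp_i L689168) L689152 L710272
theorem L710284 : sm gg N52224 = N50193 := ded_51_1 (flp_i L689241) (flp_g L689160) L710272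
theorem L710286 : sm gj N52224 = N50840 := ded_53_1 (flp_i L694348) (flp_j L689162) L710272
theorem L710288 : sm gh N50186 = N52225 := rfl
theorem L710290 : sm gb N52225 = N50189 := ded_25_1 (flp_h L689199) (flp_b L689170) L710288
theorem L710292 : sm gc N52225 = N50627 := ded_32_1 (flp_h L692679) (flp_c L689172) L710288
theorem L710294 : sm gg N52225 = N50194 := ded_50_1 (flp_h L689256) (flp_g L689175) L710288
theorem L710296 : sm gi N52225 = N50231 := ded_54_2 (flp_h L689574) (flp_i L667115) (flp_h L666844) L689168 L710288
theorem L710298 : sm gi N50187 = N52226 := rfl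
theorem L710300 : sm gc N52226 = N50191 := ded_33_1 (flp_i L689219) (flp_c L689179) L710298
theorem L710302 : sm gd N52226 = N50722 := ded_39_1 (flp_i L693371) (flp_d L689181) L710298
theorem L710304 : sm gf N52226 = N50188 := ded_48_1 (flp_i L689187) L689177 L710298
theorem L710306 : sm gj N52226 = N50597 := ded_53_1 (flp_i L692447) (flp_j L689183) L710298
theorem L710308 : sm gh N50188 = N52227 := rfl
theorem L710310 : sm gc N52227 = N50192 := ded_32_1 (flp_h L689229) (flp_c L689189) L710308
theorem L710312 : sm ge N52227 = N50189 := ded_43_1 (flp_h L689199) (flp_e L689193) L710308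
theorem L710314 : sm gg N52227 = N50195 := ded_50_1 (flp_h L689265) (flp_g L689195) L710308
theorem L710316 : sm gj N52227 = N50841 := ded_52_1 (flp_h L694355) (flp_j L689197) L710308
theorem L710318 : sm gi N52227 = N50234 := ded_54_2 (flp_h L689596) (flp_i L667130) (flp_h L666856) L689187 L710308
theorem L710320 : sm gd N50189 = N52228 := rfl
theorem L710322 : sm gg N52228 = N50196 := ded_36_2 (flp_d L689274) (flp_g L689203) L710320
theorem L710324 : sm gi N52228 = N50235 := ded_39_2 (flp_d L689604) (flp_i L689205) L710320
theorem L710326 : sm gh N52228 = N52228 := ded_38_2 (flp_d L710320) (flp_h L689199) L666864 L689199 L710320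
theorem L710327 : sm gi N50190 = N52229 := rfl
theorem L710329 : sm ga N52229 = N50522 := ded_18_1 (flp_i L691831) (flp_a L689209) L710327
theorem L710331 : sm gb N52229 = N50632 := ded_26_1 (flp_i L692721) (flp_b L689211) L710327
theorem L710333 : sm gd N52229 = N50550 := ded_39_1 (flp_i L692041) (flp_d L689213) L710327
theorem L710335 : sm gf N52229 = N50198 := ded_48_1 (flp_i L689291) (flp_f L689217) L710327
theorem L710337 : sm gg N52229 = N50191 := ded_51_1 (flp_i L689219) L689207 L710327
theorem L710339 : sm gh N50191 = N52230 := rfl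
theorem L710341 : sm gb N52230 = N50633 := ded_25_1 (flp_h L692729) (flp_b L689221) L710339
theorem L710343 : sm gf N52230 = N50192 := ded_47_1 (flp_h L689229) (flp_f L689225) L710339
theorem L710345 : sm gj N52230 = N50599 := ded_52_1 (flp_h L692461) (flp_j L689227) L710339
theorem L710347 : sm gi N52230 = N50238 := ded_54_2 (flp_h L689628) (flp_i L667153) (flp_h L666875) L689219 L710339
theorem L710349 : sm gh N50193 = N52231 := rfl
theorem L710351 : sm ga N52231 = N50701 := ded_17_1 (flp_h L693213) (flp_a L689243) L710349
theorem L710353 : sm gb N52231 = N50195 := ded_25_1 (flp_h L689265) (flp_b L689245) L710349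
theorem L710355 : sm gc N52231 = N50635 := ded_32_1 (flp_h L692742) (flp_c L689247) L710349
theorem L710357 : sm ge N52231 = N50194 := ded_43_1 (flp_h L689256) (flp_e L689251) L710349
theorem L710359 : sm gf N52231 = N50698 := ded_47_1 (flp_h L693189) (flp_f L689253) L710349
theorem L710361 : sm gj N52231 = N52231 := ded_52_1 (flp_h L710349) L689255 L710349
theorem L710362 : sm gi N52231 = N50243 := ded_54_2 (flp_h L689682) (flp_i L667206) (flp_h L666906) L689241 L710349
theorem L710364 : sm gd N50194 = N52232 := rfl
theorem L710366 : sm gb N52232 = N50196 := ded_20_1 (flp_d L689274) (flp_b L689258) L710364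
theorem L710368 : sm gj N52232 = N52232 := ded_37_2 (flp_d L710364) L689262 L710364
theorem L710369 : sm gi N52232 = N50244 := ded_39_2 (flp_d L689691) (flp_i L689263) L710364
theorem L710371 : sm gh N52232 = N52232 := ded_38_2 (flp_d L710364) (flp_h L689256) L666918 L689256 L710364
theorem L710372 : sm gi N50197 = N52233 := rfl
theorem L710374 : sm ga N52233 = N50530 := ded_18_1 (flp_i L691883) (flp_a L689282) L710372
theorem L710376 : sm gb N52233 = N50640 := ded_26_1 (flp_i L692781) (flp_b L689284) L710372
theorem L710378 : sm gd N52233 = N50554 := ded_39_1 (flp_i L692084) (flp_d L689286) L710372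
theorem L710380 : sm gg N52233 = N52233 := ded_51_1 (flp_i L710372) L689290 L710372
theorem L710381 : sm gj N52233 = N50198 := ded_53_1 (flp_i L689291) L689280 L710372
theorem L710383 : sm gh N50198 = N52234 := rfl
theorem L710385 : sm ga N52234 = N50539 := ded_17_1 (flp_h L691962) (flp_a L689293) L710383
theorem L710387 : sm gb N52234 = N50641 := ded_25_1 (flp_h L692788) (flp_b L689295) L710383
theorem L710389 : sm gg N52234 = N50199 := ded_50_1 (flp_h L689301) (flp_g L689299) L710383
theorem L710391 : sm gi N52234 = N50251 := ded_54_2 (flp_h L689736) (flp_i L667255) (flp_h L666942) L689291 L710383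
theorem L710393 : sm ge N50200 = N52235 := rfl
theorem L710395 : sm gc N52235 = N50201 := ded_28_1 (flp_e L689319) L689312 L710393
theorem L710397 : sm gg N52235 = N50204 := ded_41_2 (flp_e L689344) (flp_g L689315) L710393
theorem L710399 : sm gi N50200 = N52236 := rfl
theorem L710401 : sm gc N52236 = N50202 := ded_33_1 (flp_i L689325) L689312 L710399
theorem L710403 : sm gd N52236 = N50253 := ded_39_1 (flp_i L689751) (flp_d L689317) L710399
theorem L710405 : sm gf N52236 = N52236 := ded_48_1 (flp_i L710399) L689314 L710399
theorem L710406 : sm gg N52236 = N50205 := ded_51_1 (flp_i L689350) (flp_g L689315) L710399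
theorem L710408 : sm gf N50201 = N52237 := rfl
theorem L710410 : sm gb N52237 = N50644 := ded_22_1 (flp_f L692809) (flp_b L689321) L710408
theorem L710412 : sm ge N52237 = N52237 := ded_40_1 (flp_f L710408) (flp_e L689319) L666968 L689319 L710408
theorem L710413 : sm gi N50201 = N52238 := rfl
theorem L710415 : sm gb N52238 = N50645 := ded_26_1 (flp_i L692812) (flp_b L689321) L710413
theorem L710417 : sm ge N52238 = N50202 := ded_44_1 (flp_i L689325) L689319 L710413
theorem L710419 : sm gg N52238 = N50207 := ded_51_1 (flp_i L689372) (flp_g L689323) L710413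
theorem L710421 : sm gh N50202 = N52239 := rfl
theorem L710423 : sm gb N52239 = N50646 := ded_25_1 (flp_h L692818) (flp_b L689327) L710421
theorem L710425 : sm gf N52239 = N52239 := ded_47_1 (flp_h L710421) L689331 L710421
theorem L710426 : sm gg N52239 = N50208 := ded_50_1 (flp_h L689380) (flp_g L689332) L710421
theorem L710428 : sm ge N50203 = N52240 := rfl
theorem L710430 : sm gb N52240 = N50204 := ded_21_1 (flp_e L689344) L689334 L710428
theorem L710432 : sm gc N52240 = N50647 := ded_28_1 (flp_e L692823) (flp_c L689342) L710428
theorem L710434 : sm gj N52240 = N50210 := ded_42_2 (flp_e L689396) (flp_j L689340) L710428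
theorem L710436 : sm gi N50203 = N52241 := rfl
theorem L710438 : sm gb N52241 = N50205 := ded_26_1 (flp_i L689350) L689334 L710436
theorem L710440 : sm gc N52241 = N50648 := ded_33_1 (flp_i L692831) (flp_c L689342) L710436
theorem L710442 : sm gd N52241 = N50255 := ded_39_1 (flp_i L689768) (flp_d L689336) L710436
theorem L710444 : sm gf N52241 = N50221 := ded_48_1 (flp_i L689475) (flp_f L689338) L710436
theorem L710446 : sm gj N52241 = N50211 := ded_53_1 (flp_i L689402) (flp_j L689340) L710436
theorem L710448 : sm gd N50204 = N52242 := rfl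
theorem L710450 : sm gj N52242 = N50212 := ded_37_2 (flp_d L689412) (flp_j L689348) L710448
theorem L710452 : sm ge N52242 = N50256 := ded_34_2 (flp_d L689778) (flp_e L667333) (flp_d L666986) L689344 L710448
theorem L710454 : sm gf N50204 = N52243 := rfl
theorem L710456 : sm gc N52243 = N50206 := ded_29_1 (flp_f L689360) (flp_c L689346) L710454
theorem L710458 : sm gj N52243 = N50213 := ded_46_2 (flp_f L689416) (flp_j L689348) L710454
theorem L710460 : sm gh N52243 = N50596 := ded_47_2 (flp_f L710124) L710122 L710454
theorem L710462 : sm ge N52243 = N50222 := ded_40_1 (flp_f L689486) (flp_e L667051) (flp_f L666982) L689344 L710454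
theorem L710464 : sm gi N50204 = N52244 := rfl
theorem L710466 : sm gc N52244 = N50207 := ded_33_1 (flp_i L689372) (flp_c L689346) L710464
theorem L710468 : sm ge N52244 = N50205 := ded_44_1 (flp_i L689350) L689344 L710464
theorem L710470 : sm gj N52244 = N50214 := ded_53_1 (flp_i L689422) (flp_j L689348) L710464
theorem L710472 : sm gh N50205 = N52245 := rfl
theorem L710474 : sm gc N52245 = N50208 := ded_32_1 (flp_h L689380) (flp_c L689352) L710472
theorem L710476 : sm gf N52245 = N50224 := ded_47_1 (flp_h L689505) (flp_f L689356) L710472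
theorem L710478 : sm gj N52245 = N50215 := ded_52_1 (flp_h L689428) (flp_j L689358) L710472
theorem L710480 : sm gi N50206 = N52246 := rfl
theorem L710482 : sm gb N52246 = N50654 := ded_26_1 (flp_i L692877) (flp_b L689362) L710480
theorem L710484 : sm gd N52246 = N50409 := ded_39_1 (flp_i L691005) (flp_d L689364) L710480
theorem L710486 : sm ge N52246 = N50225 := ded_44_1 (flp_i L689512) (flp_e L689370) L710480
theorem L710488 : sm gf N52246 = N50207 := ded_48_1 (flp_i L689372) L689360 L710480
theorem L710490 : sm gj N52246 = N50217 := ded_53_1 (flp_i L689440) (flp_j L689366) L710480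
theorem L710492 : sm gh N50207 = N52247 := rfl
theorem L710494 : sm gb N52247 = N50655 := ded_25_1 (flp_h L692885) (flp_b L689374) L710492
theorem L710496 : sm ge N52247 = N50208 := ded_43_1 (flp_h L689380) (flp_e L689376) L710492
theorem L710498 : sm gj N52247 = N50218 := ded_52_1 (flp_h L689448) (flp_j L689378) L710492
theorem L710500 : sm ge N50209 = N52248 := rfl
theorem L710502 : sm ga N52248 = N50210 := ded_13_1 (flp_e L689396) L689388 L710500
theorem L710504 : sm gc N52248 = N50656 := ded_28_1 (flp_e L692891) (flp_c L689390) L710500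
theorem L710506 : sm gi N50209 = N52249 := rfl
theorem L710508 : sm ga N52249 = N50211 := ded_18_1 (flp_i L689402) L689388 L710506
theorem L710510 : sm gc N52249 = N50657 := ded_33_1 (flp_i L692895) (flp_c L689390) L710506
theorem L710512 : sm gd N52249 = N50260 := ded_39_1 (flp_i L689811) (flp_d L689392) L710506
theorem L710514 : sm gf N52249 = N50228 := ded_48_1 (flp_i L689546) (flp_f L689394) L710506
theorem L710516 : sm gd N50210 = N52250 := rfl
theorem L710518 : sm gb N52250 = N50212 := ded_20_1 (flp_d L689412) (flp_b L689398) L710516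
theorem L710520 : sm ge N52250 = N50261 := ded_34_2 (flp_d L689819) (flp_e L667374) (flp_d L667006) L689396 L710516
theorem L710522 : sm gf N50210 = N52251 := rfl
theorem L710524 : sm gb N52251 = N50213 := ded_22_1 (flp_f L689416) (flp_b L689398) L710522
theorem L710526 : sm gc N52251 = N50659 := ded_29_1 (flp_f L692911) (flp_c L689400) L710522
theorem L710528 : sm ge N52251 = N50229 := ded_40_1 (flp_f L689556) (flp_e L667106) (flp_f L667008) L689396 L710522
theorem L710530 : sm gi N50210 = N52252 := rfl
theorem L710532 : sm gb N52252 = N50214 := ded_26_1 (flp_i L689422) (flp_b L689398) L710530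
theorem L710534 : sm gc N52252 = N50660 := ded_33_1 (flp_i L692917) (flp_c L689400) L710530
theorem L710536 : sm ge N52252 = N50211 := ded_44_1 (flp_i L689402) L689396 L710530
theorem L710538 : sm gh N50211 = N52253 := rfl
theorem L710540 : sm gb N52253 = N50215 := ded_25_1 (flp_h L689428) (flp_b L689404) L710538
theorem L710542 : sm gc N52253 = N50661 := ded_32_1 (flp_h L692923) (flp_c L689406) L710538
theorem L710544 : sm gf N52253 = N50231 := ded_47_1 (flp_h L689574) (flp_f L689410) L710538
theorem L710546 : sm gf N50212 = N52254 := rfl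
theorem L710548 : sm gd N52254 = N50213 := ded_35_1 (flp_f L689416) L689412 L710546
theorem L710550 : sm ge N52254 = N52254 := ded_40_1 (flp_f L710546) L689414 L667392 (flp_e L689414) L710546
theorem L710551 : sm gh N50212 = N52255 := rfl
theorem L710553 : sm ge N52255 = N50264 := ded_43_1 (flp_h L689842) (flp_e L689414) L710551
theorem L710555 : sm gi N50212 = N52256 := rfl
theorem L710557 : sm gd N52256 = N50214 := ded_39_1 (flp_i L689422) L689412 L710555
theorem L710559 : sm ge N52256 = N50265 := ded_44_1 (flp_i L689846) (flp_e L689414) L710555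
theorem L710561 : sm gg N50213 = N52257 := rfl
theorem L710563 : sm gc N52257 = N50216 := ded_30_1 (flp_g L689434) (flp_c L689418) L710561
theorem L710565 : sm ge N52257 = N50232 := ded_41_1 (flp_g L689582) (flp_e L689420) L710561
theorem L710567 : sm gi N50213 = N52258 := rfl
theorem L710569 : sm gc N52258 = N50217 := ded_33_1 (flp_i L689440) (flp_c L689418) L710567
theorem L710571 : sm ge N52258 = N50233 := ded_44_1 (flp_i L689589) (flp_e L689420) L710567
theorem L710573 : sm gf N52258 = N50214 := ded_48_1 (flp_i L689422) L689416 L710567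
theorem L710575 : sm gh N50214 = N52259 := rfl
theorem L710577 : sm gc N52259 = N50218 := ded_32_1 (flp_h L689448) (flp_c L689424) L710575
theorem L710579 : sm ge N52259 = N50215 := ded_43_1 (flp_h L689428) (flp_e L689426) L710575
theorem L710581 : sm gd N50215 = N52260 := rfl
theorem L710583 : sm gf N52260 = N50235 := ded_35_2 (flp_d L689604) (flp_f L689432) L710581
theorem L710585 : sm gh N52260 = N50267 := ded_38_2 (flp_d L689859) (flp_h L667400) (flp_d L667020) L689428 L710581
theorem L710587 : sm gj N50216 = N52261 := rfl
theorem L710589 : sm gb N52261 = N50669 := ded_24_1 (flp_j L692971) (flp_b L689436) L710587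
theorem L710591 : sm ge N52261 = N50236 := ded_42_1 (flp_j L689610) (flp_e L689438) L710587
theorem L710593 : sm gi N50216 = N52262 := rfl
theorem L710595 : sm gb N52262 = N50670 := ded_26_1 (flp_i L692975) (flp_b L689436) L710593
theorem L710597 : sm ge N52262 = N50237 := ded_44_1 (flp_i L689618) (flp_e L689438) L710593
theorem L710599 : sm gg N52262 = N50217 := ded_51_1 (flp_i L689440) L689434 L710593
theorem L710601 : sm gh N50217 = N52263 := rfl
theorem L710603 : sm gb N52263 = N50671 := ded_25_1 (flp_h L692981) (flp_b L689442) L710601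
theorem L710605 : sm ge N52263 = N50238 := ded_43_1 (flp_h L689628) (flp_e L689444) L710601
theorem L710607 : sm gf N52263 = N50218 := ded_47_1 (flp_h L689448) (flp_f L689446) L710601
theorem L710609 : sm gd N50218 = N52264 := rfl
theorem L710611 : sm gb N52264 = N50672 := ded_20_1 (flp_d L692987) (flp_b L689450) L710609
theorem L710613 : sm ge N50219 = N52265 := rfl
theorem L710615 : sm ga N52265 = N50220 := ded_13_1 (flp_e L689463) L689454 L710613
theorem L710617 : sm gb N52265 = N50636 := ded_21_1 (flp_e L706821) L706815 L710613
theorem L710619 : sm gc N52265 = N50673 := ded_28_1 (flp_e L692989) (flp_c L689456) L710613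
theorem L710621 : sm gg N52265 = N52265 := ded_41_2 (flp_e L710613) L689460 L710613
theorem L710622 : sm gj N52265 = N50227 := ded_42_2 (flp_e L689533) (flp_j L689461) L710613
theorem L710624 : sm gh N52265 = N50699 := ded_43_2 (flp_e L707378) L707380 L710613
theorem L710626 : sm gd N52265 = N52265 := ded_34_1 (flp_e L710613) L689458 L667419 (flp_d L689458) L710613
theorem L710627 : sm gi N50219 = N52266 := rfl
theorem L710629 : sm ga N52266 = N50221 := ded_18_1 (flp_i L689475) L689454 L710627
theorem L710631 : sm gc N52266 = N50674 := ded_33_1 (flp_i L692998) (flp_c L689456) L710627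
theorem L710633 : sm gd N52266 = N50268 := ded_39_1 (flp_i L689864) (flp_d L689458) L710627
theorem L710635 : sm gg N52266 = N52266 := ded_51_1 (flp_i L710627) L689460 L710627
theorem L710636 : sm gj N52266 = N50228 := ded_53_1 (flp_i L689546) (flp_j L689461) L710627
theorem L710638 : sm gf N50220 = N52267 := rfl
theorem L710640 : sm gb N52267 = N50222 := ded_22_1 (flp_f L689486) (flp_b L689465) L710638
theorem L710642 : sm gc N52267 = N50675 := ded_29_1 (flp_f L693007) (flp_c L689467) L710638
theorem L710644 : sm gd N52267 = N52267 := ded_35_1 (flp_f L710638) L689474 L710638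
theorem L710645 : sm gj N52267 = N50229 := ded_46_2 (flp_f L689556) (flp_j L689470) L710638
theorem L710647 : sm gh N52267 = N50595 := ded_47_2 L692441 (flp_h L689472) L710638
theorem L710649 : sm gi N50220 = N52268 := rfl
theorem L710651 : sm gb N52268 = N50223 := ded_26_1 (flp_i L689495) (flp_b L689465) L710649
theorem L710653 : sm gc N52268 = N50676 := ded_33_1 (flp_i L693015) (flp_c L689467) L710649
theorem L710655 : sm gd N52268 = N52268 := ded_39_1 (flp_i L710649) L689474 L710649
theorem L710656 : sm ge N52268 = N50221 := ded_44_1 (flp_i L689475) L689463 L710649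
theorem L710658 : sm gg N52268 = N52268 := ded_51_1 (flp_i L710649) L689469 L710649
theorem L710659 : sm gj N52268 = N50230 := ded_53_1 (flp_i L689563) (flp_j L689470) L710649
theorem L710661 : sm gh N50221 = N52269 := rfl
theorem L710663 : sm gb N52269 = N50224 := ded_25_1 (flp_h L689505) (flp_b L689477) L710661
theorem L710665 : sm gc N52269 = N50677 := ded_32_1 (flp_h L693026) (flp_c L689479) L710661
theorem L710667 : sm gg N52269 = N52269 := ded_50_1 (flp_h L710661) L689483 L710661
theorem L710668 : sm gj N52269 = N50231 := ded_52_1 (flp_h L689574) (flp_j L689484) L710661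
theorem L710670 : sm gi N50222 = N52270 := rfl
theorem L710672 : sm gc N52270 = N50225 := ded_33_1 (flp_i L689512) (flp_c L689488) L710670
theorem L710674 : sm gd N52270 = N52270 := ded_39_1 (flp_i L710670) L689490 L710670
theorem L710675 : sm gf N52270 = N50223 := ded_48_1 (flp_i L689495) L689486 L710670
theorem L710677 : sm gj N52270 = N50233 := ded_53_1 (flp_i L689589) (flp_j L689491) L710670
theorem L710679 : sm gh N50223 = N52271 := rfl
theorem L710681 : sm gc N52271 = N50226 := ded_32_1 (flp_h L689522) (flp_c L689497) L710679
theorem L710683 : sm ge N52271 = N50224 := ded_43_1 (flp_h L689505) (flp_e L689500) L710679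
theorem L710685 : sm gg N52271 = N52271 := ded_50_1 (flp_h L710679) L689502 L710679
theorem L710686 : sm gj N52271 = N50234 := ded_52_1 (flp_h L689596) (flp_j L689503) L710679
theorem L710688 : sm gi N52271 = N50841 := ded_54_2 (flp_h L694355) (flp_i L672889) (flp_h L667058) L689495 L710679
theorem L710690 : sm gd N50224 = N52272 := rfl
theorem L710692 : sm gg N52272 = N52272 := ded_36_2 (flp_d L710690) L689509 L710690
theorem L710693 : sm gj N52272 = N50235 := ded_37_2 (flp_d L689604) (flp_j L689510) L710690
theorem L710695 : sm gh N52272 = N50270 := ded_38_2 (flp_d L689885) (flp_h L667434) (flp_d L667065) L689505 L710690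
theorem L710697 : sm gh N50225 = N52273 := rfl
theorem L710699 : sm gb N52273 = N50683 := ded_25_1 (flp_h L693077) (flp_b L689514) L710697
theorem L710701 : sm gf N52273 = N50226 := ded_47_1 (flp_h L689522) (flp_f L689518) L710697
theorem L710703 : sm gj N52273 = N50238 := ded_52_1 (flp_h L689628) (flp_j L689520) L710697
theorem L710705 : sm gi N52273 = N50599 := ded_54_2 (flp_h L692461) (flp_i L670577) (flp_h L667078) L689512 L710697
theorem L710707 : sm gf N50227 = N52274 := rfl
theorem L710709 : sm ga N52274 = N50229 := ded_14_1 (flp_f L689556) (flp_a L689535) L710707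
theorem L710711 : sm gb N52274 = N50628 := ded_22_1 L692694 (flp_b L689537) L710707
theorem L710713 : sm gc N52274 = N50684 := ded_29_1 (flp_f L693083) (flp_c L689539) L710707
theorem L710715 : sm gd N52274 = N52274 := ded_35_1 (flp_f L710707) L689545 L710707
theorem L710716 : sm gh N52274 = N50687 := ded_47_2 L693111 (flp_h L689543) L710707
theorem L710718 : sm gg N52274 = N50625 := ded_45_2 (flp_f L692663) L670717 (flp_f L667181) (flp_g L689541) L710707
theorem L710720 : sm gi N50227 = N52275 := rfl
theorem L710722 : sm ga N52275 = N50230 := ded_18_1 (flp_i L689563) (flp_a L689535) L710720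
theorem L710724 : sm gb N52275 = N50637 := ded_26_1 (flp_i L692759) (flp_b L689537) L710720
theorem L710726 : sm gc N52275 = N50685 := ded_33_1 (flp_i L693089) (flp_c L689539) L710720
theorem L710728 : sm gd N52275 = N52275 := ded_39_1 (flp_i L710720) L689545 L710720
theorem L710729 : sm ge N52275 = N50228 := ded_44_1 (flp_i L689546) L689533 L710720
theorem L710731 : sm gg N52275 = N50239 := ded_51_1 (flp_i L689634) (flp_g L689541) L710720
theorem L710733 : sm gh N50228 = N52276 := rfl
theorem L710735 : sm ga N52276 = N50231 := ded_17_1 (flp_h L689574) (flp_a L689548) L710733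
theorem L710737 : sm gc N52276 = N50686 := ded_32_1 (flp_h L693099) (flp_c L689550) L710733
theorem L710739 : sm gg N52276 = N50240 := ded_50_1 (flp_h L689648) (flp_g L689554) L710733
theorem L710741 : sm gg N50229 = N52277 := rfl
theorem L710743 : sm ga N52277 = N50625 := ded_15_1 (flp_g L710718) L710709 L710741
theorem L710745 : sm gb N52277 = N50232 := ded_23_1 (flp_g L689582) (flp_b L689558) L710741
theorem L710747 : sm gc N52277 = N50687 := ded_30_1 (flp_g L693105) (flp_c L689560) L710741
theorem L710749 : sm gd N52277 = N52277 := ded_36_1 (flp_g L710741) L689562 L710741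
theorem L710750 : sm gh N52277 = N50684 := ded_50_2 (flp_g L710270) L710268 L710741
theorem L710752 : sm gf N52277 = N50241 := ded_45_1 (flp_g L689655) (flp_f L667192) (flp_g L667112) L689556 L710741
theorem L710754 : sm gi N50229 = N52278 := rfl
theorem L710756 : sm gb N52278 = N50233 := ded_26_1 (flp_i L689589) (flp_b L689558) L710754
theorem L710758 : sm gc N52278 = N50688 := ded_33_1 (flp_i L693113) (flp_c L689560) L710754
theorem L710760 : sm gd N52278 = N52278 := ded_39_1 (flp_i L710754) L689562 L710754
theorem L710761 : sm gf N52278 = N50230 := ded_48_1 (flp_i L689563) L689556 L710754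
theorem L710763 : sm gh N50230 = N52279 := rfl
theorem L710765 : sm gb N52279 = N50234 := ded_25_1 (flp_h L689596) (flp_b L689565) L710763
theorem L710767 : sm gc N52279 = N50689 := ded_32_1 (flp_h L693121) (flp_c L689567) L710763
theorem L710769 : sm ge N52279 = N50231 := ded_43_1 (flp_h L689574) (flp_e L689570) L710763
theorem L710771 : sm gg N52279 = N50243 := ded_50_1 (flp_h L689682) (flp_g L689572) L710763
theorem L710773 : sm gd N50231 = N52280 := rfl
theorem L710775 : sm gb N52280 = N50235 := ded_20_1 (flp_d L689604) (flp_b L689576) L710773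
theorem L710777 : sm gg N52280 = N50244 := ded_36_2 (flp_d L689691) (flp_g L689580) L710773
theorem L710779 : sm gh N52280 = N50272 := ded_38_2 (flp_d L689901) (flp_h L667452) (flp_d L667121) L689574 L710773
theorem L710781 : sm gj N50232 = N52281 := rfl
theorem L710783 : sm gc N52281 = N50236 := ded_31_1 (flp_j L689610) (flp_c L689584) L710781
theorem L710785 : sm gd N52281 = N52281 := ded_37_1 (flp_j L710781) L689586 L710781
theorem L710786 : sm gf N52281 = N50245 := ded_46_1 (flp_j L689698) (flp_f L689587) L710781
theorem L710788 : sm gi N50232 = N52282 := rfl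
theorem L710790 : sm gc N52282 = N50237 := ded_33_1 (flp_i L689618) (flp_c L689584) L710788
theorem L710792 : sm gd N52282 = N52282 := ded_39_1 (flp_i L710788) L689586 L710788
theorem L710793 : sm gf N52282 = N50246 := ded_48_1 (flp_i L689704) (flp_f L689587) L710788
theorem L710795 : sm gg N52282 = N50233 := ded_51_1 (flp_i L689589) L689582 L710788
theorem L710797 : sm gh N50233 = N52283 := rfl
theorem L710799 : sm gc N52283 = N50238 := ded_32_1 (flp_h L689628) (flp_c L689591) L710797
theorem L710801 : sm gf N52283 = N50234 := ded_47_1 (flp_h L689596) (flp_f L689594) L710797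
theorem L710803 : sm gd N50234 = N52284 := rfl
theorem L710805 : sm gg N52284 = N50248 := ded_36_2 (flp_d L689718) (flp_g L689602) L710803
theorem L710807 : sm gh N52284 = N52284 := ded_38_2 (flp_d L710803) (flp_h L689596) L667134 L689596 L710803
theorem L710808 : sm ge N50235 = N52285 := rfl
theorem L710810 : sm gg N52285 = N50249 := ded_41_2 (flp_e L689722) (flp_g L689606) L710808
theorem L710812 : sm gh N52285 = N50273 := ded_43_2 (flp_e L689908) (flp_h L689608) L710808
theorem L710814 : sm gi N50236 = N52286 := rfl
theorem L710816 : sm gb N52286 = N50696 := ded_26_1 (flp_i L693175) (flp_b L689612) L710814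
theorem L710818 : sm gd N52286 = N50252 := ded_39_1 (flp_i L689742) (flp_d L689614) L710814
theorem L710820 : sm gf N52286 = N50250 := ded_48_1 (flp_i L689727) (flp_f L689616) L710814
theorem L710822 : sm gj N52286 = N50237 := ded_53_1 (flp_i L689618) L689610 L710814
theorem L710824 : sm gh N50237 = N52287 := rfl
theorem L710826 : sm gb N52287 = N50697 := ded_25_1 (flp_h L693183) (flp_b L689620) L710824
theorem L710828 : sm gf N52287 = N50251 := ded_47_1 (flp_h L689736) (flp_f L689624) L710824
theorem L710830 : sm gg N52287 = N50238 := ded_50_1 (flp_h L689628) (flp_g L689626) L710824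
theorem L710832 : sm gh N50239 = N52288 := rfl
theorem L710834 : sm ga N52288 = N50243 := ded_17_1 (flp_h L689682) (flp_a L689636) L710832
theorem L710836 : sm gb N52288 = N50638 := ded_25_1 (flp_h L692766) (flp_b L689638) L710832
theorem L710838 : sm gc N52288 = N50698 := ded_32_1 (flp_h L693189) (flp_c L689640) L710832
theorem L710840 : sm ge N52288 = N50240 := ded_43_1 (flp_h L689648) (flp_e L689643) L710832
theorem L710842 : sm gf N52288 = N50635 := ded_47_1 (flp_h L692742) (flp_f L689645) L710832
theorem L710844 : sm gj N52288 = N52288 := ded_52_1 (flp_h L710832) L689647 L710832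
theorem L710845 : sm gi N52288 = N50701 := ded_54_2 (flp_h L693213) (flp_i L671133) (flp_h L667178) L689634 L710832
theorem L710847 : sm gj N50241 = N52289 := rfl
theorem L710849 : sm ga N52289 = N50619 := ded_16_1 L692611 (flp_a L689657) L710847
theorem L710851 : sm gb N52289 = N50245 := ded_24_1 (flp_j L689698) (flp_b L689659) L710847
theorem L710853 : sm gc N52289 = N50699 := ded_31_1 (flp_j L693196) (flp_c L689661) L710847
theorem L710855 : sm gd N52289 = N52289 := ded_37_1 (flp_j L710847) L689663 L710847
theorem L710856 : sm ge N52289 = N50618 := ded_42_1 L692600 (flp_e L689664) L710847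
theorem L710858 : sm gh N52289 = N50673 := ded_52_2 L692994 (flp_h L689666) L710847
theorem L710860 : sm gg N52289 = N52289 := ded_49_1 (flp_j L710847) (flp_g L689655) L667201 L689655 L710847
theorem L710861 : sm gi N50241 = N52290 := rfl
theorem L710863 : sm ga N52290 = N50626 := ded_18_1 (flp_i L692670) (flp_a L689657) L710861
theorem L710865 : sm gb N52290 = N50246 := ded_26_1 (flp_i L689704) (flp_b L689659) L710861
theorem L710867 : sm gc N52290 = N50700 := ded_33_1 (flp_i L693205) (flp_c L689661) L710861
theorem L710869 : sm gd N52290 = N52290 := ded_39_1 (flp_i L710861) L689663 L710861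
theorem L710870 : sm ge N52290 = N50624 := ded_44_1 (flp_i L692655) (flp_e L689664) L710861
theorem L710872 : sm gg N52290 = N50242 := ded_51_1 (flp_i L689668) L689655 L710861
theorem L710874 : sm gh N50242 = N52291 := rfl
theorem L710876 : sm ga N52291 = N50635 := ded_17_1 (flp_h L692742) (flp_a L689670) L710874
theorem L710878 : sm gb N52291 = N50247 := ded_25_1 (flp_h L689711) (flp_b L689672) L710874
theorem L710880 : sm gc N52291 = N50701 := ded_32_1 (flp_h L693213) (flp_c L689674) L710874
theorem L710882 : sm ge N52291 = N50634 := ded_43_1 (flp_h L692735) (flp_e L689677) L710874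
theorem L710884 : sm gf N52291 = N50243 := ded_47_1 (flp_h L689682) (flp_f L689679) L710874
theorem L710886 : sm gj N52291 = N52291 := ded_52_1 (flp_h L710874) L689681 L710874
theorem L710887 : sm gi N52291 = N50698 := ded_54_2 (flp_h L693189) (flp_i L671113) (flp_h L667202) L689668 L710874
theorem L710889 : sm gd N50243 = N52292 := rfl
theorem L710891 : sm gb N52292 = N50248 := ded_20_1 (flp_d L689718) (flp_b L689684) L710889
theorem L710893 : sm gj N52292 = N52292 := ded_37_2 (flp_d L710889) L689690 L710889
theorem L710894 : sm gh N52292 = N52292 := ded_38_2 (flp_d L710889) (flp_h L689682) L667212 L689682 L710889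

end Cfsg.Agent.Helper28.FicA
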