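import Cfsg.Agent.Helper28.FicB38

/-! # The Fi₂₃ presentation, cosets of the subgroup generated by a, …, i: the coset enumeration, part 39 (helper28; generated) -/

set_option autoImplicit false

noncomputable section

namespace Cfsg.Agent.Helper28.FicA

open Cfsg.Agent.Helper28.CosetTable

theorem L710895 : sm gi N50245 = N52293 := rfl
theorem L710897 : sm gc N52293 = N50250 := ded_33_1 (flp_i L689727) (flp_c L689700) L710895
theorem L710899 : sm gd N52293 = N52293 := ded_39_1 (flp_i L710895) L689702 L710895
theorem L710900 : sm gg N52293 = N52293 := ded_51_1 (flp_i L710895) L689703 L710895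
theorem L710901 : sm gj N52293 = N50246 := ded_53_1 (flp_i L689704) L689698 L710895
theorem L710903 : sm gh N50246 = N52294 := rfl
theorem L710905 : sm gc N52294 = N50251 := ded_32_1 (flp_h L689736) (flp_c L689706) L710903
theorem L710907 : sm gg N52294 = N50247 := ded_50_1 (flp_h L689711) (flp_g L689709) L710903
theorem L710909 : sm gd N50247 = N52295 := rfl
theorem L710911 : sm gf N52295 = N50248 := ded_35_2 (flp_d L689718) (flp_f L689715) L710909
theorem L710913 : sm gj N52295 = N52295 := ded_37_2 (flp_d L710909) L689717 L710909
theorem L710914 : sm gh N52295 = N52295 := ded_38_2 (flp_d L710909) (flp_h L689711) L667232 L689711 L710909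
theorem L710915 : sm gh N50250 = N52296 := rfl
theorem L710917 : sm gb N52296 = N50707 := ded_25_1 (flp_h L693256) (flp_b L689729) L710915
theorem L710919 : sm gg N52296 = N52296 := ded_50_1 (flp_h L710915) L689733 L710915
theorem L710920 : sm gj N52296 = N50251 := ded_52_1 (flp_h L689736) (flp_j L689734) L710915
theorem L710922 : sm gh N50253 = N52297 := rfl
theorem L710924 : sm gc N52297 = N50254 := ded_32_1 (flp_h L689758) (flp_c L689753) L710922
theorem L710926 : sm gf N52297 = N52297 := ded_47_1 (flp_h L710922) L689755 L710922
theorem L710927 : sm gg N52297 = N50258 := ded_50_1 (flp_h L689792) (flp_g L689756) L710922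
theorem L710929 : sm gi N52297 = N52297 := ded_54_2 (flp_h L710922) (flp_i L689751) L667314 L689751 L710922
theorem L710930 : sm gh N50255 = N52298 := rfl
theorem L710932 : sm gb N52298 = N50258 := ded_25_1 (flp_h L689792) (flp_b L689770) L710930
theorem L710934 : sm gc N52298 = N50274 := ded_32_1 (flp_h L689914) (flp_c L689772) L710930
theorem L710936 : sm gf N52298 = N50269 := ded_47_1 (flp_h L689874) (flp_f L689774) L710930
theorem L710938 : sm gj N52298 = N50263 := ded_52_1 (flp_h L689833) (flp_j L689776) L710930
theorem L710940 : sm gi N52298 = N52298 := ded_54_2 (flp_h L710930) (flp_i L689768) L667330 L689768 L710930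
theorem L710941 : sm gh N50256 = N52299 := rfl
theorem L710943 : sm gf N52299 = N52299 := ded_47_1 (flp_h L710941) L689780 L710941
theorem L710944 : sm gj N52299 = N50264 := ded_52_1 (flp_h L689842) (flp_j L689781) L710941
theorem L710946 : sm gd N52299 = N52299 := ded_38_1 (flp_h L710941) (flp_d L689778) L667339 L689778 L710941
theorem L710947 : sm gi N50256 = N52300 := rfl
theorem L710949 : sm gd N52300 = N50257 := ded_39_1 (flp_i L689783) L689778 L710947
theorem L710951 : sm gf N52300 = N52300 := ded_48_1 (flp_i L710947) L689780 L710947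
theorem L710952 : sm gj N52300 = N50265 := ded_53_1 (flp_i L689846) (flp_j L689781) L710947
theorem L710954 : sm gh N50257 = N52301 := rfl
theorem L710956 : sm gc N52301 = N50259 := ded_32_1 (flp_h L689801) (flp_c L689785) L710954
theorem L710958 : sm ge N52301 = N50258 := ded_43_1 (flp_h L689792) (flp_e L689787) L710954
theorem L710960 : sm gf N52301 = N52301 := ded_47_1 (flp_h L710954) L689789 L710954
theorem L710961 : sm gj N52301 = N50266 := ded_52_1 (flp_h L689851) (flp_j L689790) L710954
theorem L710963 : sm gi N52301 = N52301 := ded_54_2 (flp_h L710954) (flp_i L689783) L667339 L689783 L710954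
theorem L710964 : sm gd N50258 = N52302 := rfl
theorem L710966 : sm gf N52302 = N50270 := ded_35_2 (flp_d L689885) (flp_f L689796) L710964
theorem L710968 : sm gj N52302 = N50267 := ded_37_2 (flp_d L689859) (flp_j L689798) L710964
theorem L710970 : sm gi N52302 = N52302 := ded_39_2 (flp_d L710964) L689800 L710964
theorem L710971 : sm gh N50260 = N52303 := rfl
theorem L710973 : sm ga N52303 = N50263 := ded_17_1 (flp_h L689833) (flp_a L689813) L710971
theorem L710975 : sm gc N52303 = N50276 := ded_32_1 (flp_h L689938) (flp_c L689815) L710971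
theorem L710977 : sm gf N52303 = N50271 := ded_47_1 (flp_h L689891) (flp_f L689817) L710971
theorem L710979 : sm gi N52303 = N52303 := ded_54_2 (flp_h L710971) (flp_i L689811) L667373 L689811 L710971
theorem L710980 : sm gh N50261 = N52304 := rfl
theorem L710982 : sm gb N52304 = N50264 := ded_25_1 (flp_h L689842) (flp_b L689821) L710980
theorem L710984 : sm gf N52304 = N52304 := ded_47_1 (flp_h L710980) L689823 L710980
theorem L710985 : sm gd N52304 = N52304 := ded_38_1 (flp_h L710980) (flp_d L689819) L667380 L689819 L710980
theorem L710986 : sm gi N50261 = N52305 := rfl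
theorem L710988 : sm gb N52305 = N50265 := ded_26_1 (flp_i L689846) (flp_b L689821) L710986
theorem L710990 : sm gd N52305 = N50262 := ded_39_1 (flp_i L689824) L689819 L710986
theorem L710992 : sm gf N52305 = N52305 := ded_48_1 (flp_i L710986) L689823 L710986
theorem L710993 : sm gh N50262 = N52306 := rfl
theorem L710995 : sm gb N52306 = N50266 := ded_25_1 (flp_h L689851) (flp_b L689826) L710993
theorem L710997 : sm gc N52306 = N50277 := ded_32_1 (flp_h L689946) (flp_c L689828) L710993
theorem L710999 : sm ge N52306 = N50263 := ded_43_1 (flp_h L689833) (flp_e L689830) L710993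
theorem L711001 : sm gf N52306 = N52306 := ded_47_1 (flp_h L710993) L689832 L710993
theorem L711002 : sm gi N52306 = N52306 := ded_54_2 (flp_h L710993) (flp_i L689824) L667380 L689824 L710993
theorem L711003 : sm gd N50263 = N52307 := rfl
theorem L711005 : sm gb N52307 = N50267 := ded_20_1 (flp_d L689859) (flp_b L689835) L711003
theorem L711007 : sm gf N52307 = N50272 := ded_35_2 (flp_d L689901) (flp_f L689839) L711003
theorem L711009 : sm gi N52307 = N52307 := ded_39_2 (flp_d L711003) L689841 L711003
theorem L711010 : sm gi N50264 = N52308 := rfl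
theorem L711012 : sm gd N52308 = N52308 := ded_39_1 (flp_i L711010) L689845 L711010
theorem L711013 : sm gf N52308 = N52308 := ded_48_1 (flp_i L711010) L689844 L711010
theorem L711014 : sm gh N50265 = N52309 := rfl
theorem L711016 : sm gf N52309 = N52309 := ded_47_1 (flp_h L711014) L689850 L711014
theorem L711017 : sm gd N50266 = N52310 := rfl
theorem L711019 : sm gf N52310 = N52310 := ded_35_2 (flp_d L711017) L689857 L711017
theorem L711020 : sm gi N52310 = N52310 := ded_39_2 (flp_d L711017) L689858 L711017
theorem L711021 : sm ge N50267 = N52311 := rfl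
theorem L711023 : sm gi N52311 = N52311 := ded_44_2 (flp_e L711021) L689863 L711021
theorem L711024 : sm gh N50268 = N52312 := rfl
theorem L711026 : sm ga N52312 = N50269 := ded_17_1 (flp_h L689874) (flp_a L689866) L711024
theorem L711028 : sm gc N52312 = N50279 := ded_32_1 (flp_h L689967) (flp_c L689868) L711024
theorem L711030 : sm ge N52312 = N52312 := ded_43_1 (flp_h L711024) L689870 L711024
theorem L711031 : sm gg N52312 = N52312 := ded_50_1 (flp_h L711024) L689871 L711024
theorem L711032 : sm gj N52312 = N50271 := ded_52_1 (flp_h L689891) (flp_j L689872) L711024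
theorem L711034 : sm gi N52312 = N52312 := ded_54_2 (flp_h L711024) (flp_i L689864) L667423 L689864 L711024
theorem L711035 : sm gd N50269 = N52313 := rfl
theorem L711037 : sm gb N52313 = N50270 := ded_20_1 (flp_d L689885) (flp_b L689876) L711035
theorem L711039 : sm gg N52313 = N52313 := ded_36_2 (flp_d L711035) L689881 L711035
theorem L711040 : sm gj N52313 = N50272 := ded_37_2 (flp_d L689901) (flp_j L689882) L711035
theorem L711042 : sm gi N52313 = N52313 := ded_39_2 (flp_d L711035) L689884 L711035
theorem L711043 : sm gc N52313 = N50768 := ded_27_1 (flp_d L693743) L672011 (flp_d L667618) (flp_c L689878) L711035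
theorem L711045 : sm ge N50270 = N52314 := rfl
theorem L711047 : sm gg N52314 = N52314 := ded_41_2 (flp_e L711045) L689887 L711045
theorem L711048 : sm gj N52314 = N50273 := ded_42_2 (flp_e L689908) (flp_j L689888) L711045
theorem L711050 : sm gi N52314 = N52314 := ded_44_2 (flp_e L711045) L689890 L711045
theorem L711051 : sm gd N52314 = N52314 := ded_34_1 (flp_e L711045) (flp_d L689885) L667438 L689885 L711045
theorem L711052 : sm gf N50273 = N52315 := rfl
theorem L711054 : sm gd N52315 = N52315 := ded_35_1 (flp_f L711052) L689913 L711052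
theorem L711055 : sm gi N52315 = N52315 := ded_48_2 (flp_f L711052) L689912 L711052
theorem L711056 : sm gh N50280 = N52316 := rfl
theorem L711058 : sm ga N52316 = N50287 := ded_17_1 (flp_h L690050) (flp_a L689981) L711056
theorem L711060 : sm gb N52316 = N50296 := ded_25_1 (flp_h L690119) (flp_b L689983) L711056
theorem L711062 : sm ge N52316 = N50288 := ded_43_1 (flp_h L690058) (flp_e L689987) L711056
theorem L711064 : sm gg N52316 = N50291 := ded_50_1 (flp_h L690079) (flp_g L689989) L711056
theorem L711066 : sm gj N52316 = N50326 := ded_52_1 (flp_h L690374) (flp_j L689991) L711056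
theorem L711068 : sm gd N52316 = N50294 := ded_38_1 (flp_h L690103) L667816 (flp_h L667670) (flp_d L689985) L711056
theorem L711070 : sm gi N52316 = N50283 := ded_54_2 (flp_h L690017) (flp_i L667710) (flp_h L667655) L689979 L711056
theorem L711072 : sm gh N50281 = N52317 := rfl
theorem L711074 : sm ga N52317 = N50288 := ded_17_1 (flp_h L690058) (flp_a L689995) L711072
theorem L711076 : sm gb N52317 = N50294 := ded_25_1 (flp_h L690103) (flp_b L689997) L711072
theorem L711078 : sm ge N52317 = N50287 := ded_43_1 (flp_h L690050) (flp_e L690001) L711072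
theorem L711080 : sm gg N52317 = N50283 := ded_50_1 (flp_h L690017) (flp_g L690003) L711072
theorem L711082 : sm gj N52317 = N50351 := ded_52_1 (flp_h L690585) (flp_j L690005) L711072
theorem L711084 : sm gd N52317 = N50296 := ded_38_1 (flp_h L690119) L667855 (flp_h L667700) (flp_d L689999) L711072
theorem L711086 : sm gi N52317 = N50291 := ded_54_2 (flp_h L690079) (flp_i L667779) (flp_h L667684) L689993 L711072
theorem L711088 : sm gh N50282 = N52318 := rfl
theorem L711090 : sm ga N52318 = N50290 := ded_17_1 (flp_h L690073) (flp_a L690009) L711088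
theorem L711092 : sm gc N52318 = N50283 := ded_32_1 (flp_h L690017) (flp_c L690011) L711088
theorem L711094 : sm gj N52318 = N50335 := ded_52_1 (flp_h L690464) (flp_j L690015) L711088
theorem L711096 : sm gh N50284 = N52319 := rfl
theorem L711098 : sm ga N52319 = N50750 := ded_17_1 (flp_h L700887) L700875 L711096
theorem L711100 : sm gb N52319 = N50285 := ded_25_1 (flp_h L690033) (flp_b L690027) L711096
theorem L711102 : sm gc N52319 = N52319 := ded_32_1 (flp_h L711096) L690029 L711096
theorem L711103 : sm ge N52319 = N52319 := ded_43_1 (flp_h L711096) L690030 L711096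
theorem L711104 : sm gf N52319 = N50745 := ded_47_1 L695012 L695006 L711096
theorem L711106 : sm gj N52319 = N50342 := ded_52_1 (flp_h L690524) (flp_j L690031) L711096
theorem L711108 : sm gi N52319 = N52319 := ded_54_2 (flp_h L711096) (flp_i L690025) L667723 L690025 L711096
theorem L711109 : sm gd N50285 = N52320 := rfl
theorem L711111 : sm ga N52320 = N50292 := ded_12_1 (flp_d L690087) (flp_a L690035) L711109
theorem L711113 : sm gj N52320 = N50343 := ded_37_2 (flp_d L690535) (flp_j L690040) L711109
theorem L711115 : sm gi N52320 = N52320 := ded_39_2 (flp_d L711109) L690042 L711109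
theorem L711116 : sm gc N52320 = N50299 := ded_27_1 (flp_d L690145) L667908 (flp_d L667742) (flp_c L690037) L711109
theorem L711118 : sm gh N50286 = N52321 := rfl
theorem L711120 : sm gc N52321 = N50287 := ded_32_1 (flp_h L690050) (flp_c L690045) L711118
theorem L711122 : sm gj N52321 = N50350 := ded_52_1 (flp_h L690579) (flp_j L690048) L711118
theorem L711124 : sm gi N52321 = N50290 := ded_54_2 (flp_h L690073) (flp_i L667771) (flp_h L667749) L690043 L711118
theorem L711126 : sm gh N50289 = N52322 := rfl
theorem L711128 : sm gc N52322 = N50291 := ded_32_1 (flp_h L690079) (flp_c L690066) L711126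
theorem L711130 : sm ge N52322 = N50290 := ded_43_1 (flp_h L690073) (flp_e L690069) L711126
theorem L711132 : sm gj N52322 = N50368 := ded_52_1 (flp_h L690700) (flp_j L690071) L711126
theorem L711134 : sm gd N50290 = N52323 := rfl
theorem L711136 : sm gj N52323 = N50369 := ded_37_2 (flp_d L690706) (flp_j L690077) L711134
theorem L711138 : sm gc N52323 = N50312 := ded_27_1 (flp_d L690240) L668021 (flp_d L667793) (flp_c L690075) L711134
theorem L711140 : sm gh N52323 = N50292 := ded_38_2 (flp_d L690087) (flp_h L667795) (flp_d L667775) L690073 L711134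
theorem L711142 : sm ge N50292 = N52324 := rfl
theorem L711144 : sm gc N52324 = N50321 := ded_28_1 (flp_e L690316) (flp_c L690092) L711142
theorem L711146 : sm gj N52324 = N50377 := ded_42_2 (flp_e L690763) (flp_j L690089) L711142
theorem L711148 : sm gi N52324 = N52324 := ded_44_2 (flp_e L711142) L690091 L711142
theorem L711149 : sm gd N52324 = N52324 := ded_34_1 (flp_e L711142) (flp_d L690087) L667799 L690087 L711142
theorem L711150 : sm gh N50293 = N52325 := rfl
theorem L711152 : sm ga N52325 = N50301 := ded_17_1 (flp_h L690159) (flp_a L690096) L711150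
theorem L711154 : sm gc N52325 = N50294 := ded_32_1 (flp_h L690103) (flp_c L690098) L711150
theorem L711156 : sm gj N52325 = N50384 := ded_52_1 (flp_h L690814) (flp_j L690101) L711150
theorem L711158 : sm gi N52325 = N50297 := ded_54_2 (flp_h L690125) (flp_i L667859) (flp_h L667809) L690094 L711150
theorem L711160 : sm gh N50295 = N52326 := rfl
theorem L711162 : sm ga N52326 = N50304 := ded_17_1 (flp_h L690180) (flp_a L690113) L711160
theorem L711164 : sm gf N52326 = N50296 := ded_47_1 (flp_h L690119) (flp_f L690117) L711160
theorem L711166 : sm gd N50297 = N52327 := rfl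
theorem L711168 : sm ga N52327 = N50312 := ded_12_1 (flp_d L690240) (flp_a L690127) L711166
theorem L711170 : sm gj N52327 = N50397 := ded_37_2 (flp_d L690912) (flp_j L690131) L711166
theorem L711172 : sm gh N52327 = N50299 := ded_38_2 (flp_d L690145) (flp_h L667904) (flp_d L667865) L690125 L711166
theorem L711174 : sm ge N50299 = N52328 := rfl
theorem L711176 : sm ga N52328 = N50321 := ded_13_1 (flp_e L690316) (flp_a L690147) L711174
theorem L711178 : sm gj N52328 = N50405 := ded_42_2 (flp_e L690978) (flp_j L690149) L711174
theorem L711180 : sm gi N52328 = N52328 := ded_44_2 (flp_e L711174) L690151 L711174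
theorem L711181 : sm gd N52328 = N50745 := ded_34_1 (flp_e L693538) (flp_d L671630) (flp_e L667910) L690145 L711174
theorem L711183 : sm gh N50300 = N52329 := rfl
theorem L711185 : sm gb N52329 = N50301 := ded_25_1 (flp_h L690159) (flp_b L690154) L711183
theorem L711187 : sm gj N52329 = N50414 := ded_52_1 (flp_h L691036) (flp_j L690157) L711183
theorem L711189 : sm gi N52329 = N50309 := ded_54_2 (flp_h L690216) (flp_i L667993) (flp_h L667920) L690152 L711183
theorem L711191 : sm gd N50301 = N52330 := rfl
theorem L711193 : sm gj N52330 = N50416 := ded_37_2 (flp_d L691050) (flp_j L690163) L711191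
theorem L711195 : sm gi N52330 = N50312 := ded_39_2 (flp_d L690240) (flp_i L690165) L711191
theorem L711197 : sm gh N52330 = N52330 := ded_38_2 (flp_d L711191) (flp_h L690159) L667926 L690159 L711191
theorem L711198 : sm gh N50302 = N52331 := rfl
theorem L711200 : sm gc N52331 = N50304 := ded_32_1 (flp_h L690180) (flp_c L690169) L711198
theorem L711202 : sm gf N52331 = N50306 := ded_47_1 (flp_h L690192) (flp_f L690173) L711198
theorem L711204 : sm gh N50303 = N52332 := rfl
theorem L711206 : sm ge N52332 = N50304 := ded_43_1 (flp_h L690180) (flp_e L690178) L711204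
theorem L711208 : sm gh N50305 = N52333 := rfl
theorem L711210 : sm gb N52333 = N50306 := ded_25_1 (flp_h L690192) (flp_b L690186) L711208
theorem L711212 : sm gg N52333 = N50309 := ded_50_1 (flp_h L690216) (flp_g L690190) L711208
theorem L711214 : sm gd N50306 = N52334 := rfl
theorem L711216 : sm gg N52334 = N50312 := ded_36_2 (flp_d L690240) (flp_g L690196) L711214
theorem L711218 : sm gh N52334 = N50318 := ded_38_2 (flp_d L690293) (flp_h L668103) (flp_d L667971) L690192 L711214
theorem L711220 : sm gh N50307 = N52335 := rfl
theorem L711222 : sm ga N52335 = N50309 := ded_17_1 (flp_h L690216) (flp_a L690200) L711220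
theorem L711224 : sm gj N52335 = N50449 := ded_52_1 (flp_h L691271) (flp_j L690204) L711220
theorem L711226 : sm gh N50308 = N52336 := rfl
theorem L711228 : sm gb N52336 = N50311 := ded_25_1 (flp_h L690232) (flp_b L690208) L711226
theorem L711230 : sm ge N52336 = N50309 := ded_43_1 (flp_h L690216) (flp_e L690212) L711226
theorem L711232 : sm gj N52336 = N50451 := ded_52_1 (flp_h L691283) (flp_j L690214) L711226
theorem L711234 : sm gd N50309 = N52337 := rfl
theorem L711236 : sm gb N52337 = N50312 := ded_20_1 (flp_d L690240) (flp_b L690218) L711234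
theorem L711238 : sm gj N52337 = N50452 := ded_37_2 (flp_d L691289) (flp_j L690220) L711234
theorem L711240 : sm gh N52337 = N50320 := ded_38_2 (flp_d L690309) (flp_h L668122) (flp_d L667997) L690216 L711234
theorem L711242 : sm gh N50310 = N52338 := rfl
theorem L711244 : sm gc N52338 = N50314 := ded_32_1 (flp_h L690254) (flp_c L690224) L711242
theorem L711246 : sm gf N52338 = N50311 := ded_47_1 (flp_h L690232) (flp_f L690228) L711242
theorem L711248 : sm gj N52338 = N50454 := ded_52_1 (flp_h L691303) (flp_j L690230) L711242
theorem L711250 : sm gd N50311 = N52339 := rfl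
theorem L711252 : sm gg N52339 = N50314 := ded_36_2 (flp_d L695062) L695058 L711250
theorem L711254 : sm gj N52339 = N50455 := ded_37_2 (flp_d L691309) (flp_j L690238) L711250
theorem L711256 : sm gh N52339 = N50313 := ded_38_2 L690248 L668065 (flp_d L668013) L690232 L711250
theorem L711258 : sm ge N50312 = N52340 := rfl
theorem L711260 : sm gj N52340 = N50456 := ded_42_2 (flp_e L691313) (flp_j L690242) L711258
theorem L711262 : sm gh N52340 = N50321 := ded_43_2 (flp_e L690316) (flp_h L690244) L711258
theorem L711264 : sm gd N50315 = N52341 := rfl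
theorem L711266 : sm gf N52341 = N50318 := ded_35_2 (flp_d L690293) (flp_f L690264) L711264
theorem L711268 : sm gj N52341 = N50478 := ded_37_2 L691488 (flp_j L690266) L711264
theorem L711270 : sm gi N52341 = N52341 := ded_39_2 (flp_d L711264) L690268 L711264
theorem L711271 : sm gc N52341 = N50320 := ded_27_1 (flp_d L690309) L668126 (flp_d L668090) (flp_c L690262) L711264
theorem L711273 : sm gd N50317 = N52342 := rfl
theorem L711275 : sm gb N52342 = N50318 := ded_20_1 (flp_d L690293) (flp_b L690284) L711273
theorem L711277 : sm gg N52342 = N50320 := ded_36_2 (flp_d L690309) (flp_g L690290) L711273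
theorem L711279 : sm gi N52342 = N52342 := ded_39_2 (flp_d L711273) L690292 L711273
theorem L711280 : sm gd N50319 = N52343 := rfl
theorem L711282 : sm ga N52343 = N50320 := ded_12_1 (flp_d L690309) (flp_a L690300) L711280
theorem L711284 : sm gj N52343 = N50477 := ded_37_2 (flp_d L691480) (flp_j L690306) L711280
theorem L711286 : sm gi N52343 = N52343 := ded_39_2 (flp_d L711280) L690308 L711280
theorem L711287 : sm ge N50320 = N52344 := rfl
theorem L711289 : sm gb N52344 = N50321 := ded_21_1 (flp_e L690316) (flp_b L690311) L711287
theorem L711291 : sm gj N52344 = N50479 := ded_42_2 (flp_e L691490) (flp_j L690313) L711287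
theorem L711293 : sm gi N52344 = N52344 := ded_44_2 (flp_e L711287) L690315 L711287
theorem L711294 : sm gd N52344 = N50749 := ded_34_1 (flp_e L693575) (flp_d L671684) (flp_e L668128) L690309 L711287
theorem L711296 : sm gf N50321 = N52345 := rfl
theorem L711298 : sm gd N52345 = N50750 := ded_35_1 (flp_f L693582) (flp_d L690321) L711296
theorem L711300 : sm gj N52345 = N50480 := ded_46_2 (flp_f L691497) (flp_j L690318) L711296
theorem L711302 : sm gi N52345 = N52345 := ded_48_2 (flp_f L711296) L690320 L711296
theorem L711303 : sm ge N50323 = N52346 := rfl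
theorem L711305 : sm ga N52346 = N50345 := ded_13_1 (flp_e L690549) (flp_a L690335) L711303
theorem L711307 : sm gb N52346 = N50387 := ded_21_1 (flp_e L690838) (flp_b L690337) L711303
theorem L711309 : sm gj N52346 = N50356 := ded_42_2 L690625 (flp_j L690341) L711303
theorem L711311 : sm gh N52346 = N50330 := ded_43_2 (flp_e L690418) (flp_h L690343) L711303
theorem L711313 : sm gd N52346 = N50518 := ded_34_1 L691811 L669866 (flp_e L668195) L690333 L711303
theorem L711315 : sm gf N52346 = N50352 := ded_40_2 (flp_e L690593) L668457 (flp_e L668211) (flp_f L690339) L711303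
theorem L711317 : sm gi N50323 = N52347 := rfl
theorem L711319 : sm ga N52347 = N50346 := ded_18_1 (flp_i L690553) (flp_a L690335) L711317
theorem L711321 : sm gb N52347 = N50388 := ded_26_1 (flp_i L690846) (flp_b L690337) L711317
theorem L711323 : sm gd N52347 = N50324 := ded_39_1 (flp_i L690345) L690333 L711317
theorem L711325 : sm gf N52347 = N50325 := ded_48_1 (flp_i L690360) (flp_f L690339) L711317
theorem L711327 : sm gj N52347 = N50363 := ded_53_1 (flp_i L690665) (flp_j L690341) L711317
theorem L711329 : sm gh N50325 = N52348 := rfl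
theorem L711331 : sm ga N52348 = N50348 := ded_17_1 (flp_h L690566) (flp_a L690362) L711329
theorem L711333 : sm gb N52348 = N50393 := ded_25_1 (flp_h L690886) (flp_b L690364) L711329
theorem L711335 : sm ge N52348 = N50359 := ded_43_1 (flp_h L690639) (flp_e L690368) L711329
theorem L711337 : sm gg N52348 = N50326 := ded_50_1 (flp_h L690374) (flp_g L690370) L711329
theorem L711339 : sm gj N52348 = N50364 := ded_52_1 (flp_h L690673) (flp_j L690372) L711329
theorem L711341 : sm gd N52348 = N50382 := ded_38_1 (flp_h L690801) L668687 (flp_h L668228) (flp_d L690366) L711329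
theorem L711343 : sm gi N52348 = N50334 := ded_54_2 (flp_h L690456) (flp_i L668306) (flp_h L668213) L690360 L711329
theorem L711345 : sm ge N50327 = N52349 := rfl
theorem L711347 : sm ga N52349 = N50352 := ded_13_1 (flp_e L690593) (flp_a L690384) L711345
theorem L711349 : sm gb N52349 = N50379 := ded_21_1 (flp_e L690778) (flp_b L690386) L711345
theorem L711351 : sm gj N52349 = N50330 := ded_42_2 (flp_e L690418) (flp_j L690390) L711345
theorem L711353 : sm gh N52349 = N50356 := ded_43_2 L690625 (flp_h L690392) L711345
theorem L711355 : sm gd N52349 = N50494 := ded_34_1 (flp_e L691624) (flp_d L669607) (flp_e L668244) L690382 L711345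
theorem L711357 : sm gf N52349 = N50345 := ded_40_2 (flp_e L690549) L668407 (flp_e L668278) (flp_f L690388) L711345
theorem L711359 : sm gi N50327 = N52350 := rfl
theorem L711361 : sm ga N52350 = N50353 := ded_18_1 (flp_i L690599) (flp_a L690384) L711359
theorem L711363 : sm gb N52350 = N50380 := ded_26_1 (flp_i L690784) (flp_b L690386) L711359
theorem L711365 : sm gd N52350 = N50328 := ded_39_1 (flp_i L690394) L690382 L711359
theorem L711367 : sm gf N52350 = N50332 := ded_48_1 (flp_i L690432) (flp_f L690388) L711359
theorem L711369 : sm gj N52350 = N50331 := ded_53_1 (flp_i L690424) (flp_j L690390) L711359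
theorem L711371 : sm ge N50329 = N52351 := rfl
theorem L711373 : sm ga N52351 = N50354 := ded_13_1 (flp_e L690607) (flp_a L690412) L711371
theorem L711375 : sm gc N52351 = N50330 := ded_28_1 (flp_e L690418) L690410 L711371
theorem L711377 : sm gi N50329 = N52352 := rfl
theorem L711379 : sm ga N52352 = N50355 := ded_18_1 (flp_i L690611) (flp_a L690412) L711377
theorem L711381 : sm gc N52352 = N50331 := ded_33_1 (flp_i L690424) L690410 L711377
theorem L711383 : sm gd N52352 = N50337 := ded_39_1 (flp_i L690476) (flp_d L690416) L711377
theorem L711385 : sm gf N52352 = N50333 := ded_48_1 (flp_i L690446) (flp_f L690414) L711377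
theorem L711387 : sm gi N50330 = N52353 := rfl
theorem L711389 : sm ga N52353 = N50357 := ded_18_1 (flp_i L690627) (flp_a L690420) L711387
theorem L711391 : sm gd N52353 = N50496 := ded_39_1 (flp_i L691640) (flp_d L690422) L711387
theorem L711393 : sm ge N52353 = N50331 := ded_44_1 (flp_i L690424) L690418 L711387
theorem L711395 : sm gh N50331 = N52354 := rfl
theorem L711397 : sm ga N52354 = N50358 := ded_17_1 (flp_h L690633) (flp_a L690426) L711395
theorem L711399 : sm gf N52354 = N50334 := ded_47_1 (flp_h L690456) (flp_f L690430) L711395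
theorem L711401 : sm gd N52354 = N50392 := ded_38_1 (flp_h L690880) L668757 (flp_h L668266) (flp_d L690428) L711395
theorem L711403 : sm gh N50332 = N52355 := rfl
theorem L711405 : sm ga N52355 = N50359 := ded_17_1 (flp_h L690639) (flp_a L690434) L711403
theorem L711407 : sm gb N52355 = N50382 := ded_25_1 (flp_h L690801) (flp_b L690436) L711403
theorem L711409 : sm ge N52355 = N50348 := ded_43_1 (flp_h L690566) (flp_e L690440) L711403
theorem L711411 : sm gg N52355 = N50351 := ded_50_1 (flp_h L690585) (flp_g L690442) L711403
theorem L711413 : sm gj N52355 = N50334 := ded_52_1 (flp_h L690456) (flp_j L690444) L711403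
theorem L711415 : sm gd N52355 = N50393 := ded_38_1 (flp_h L690886) L668765 (flp_h L668296) (flp_d L690438) L711403
theorem L711417 : sm gi N52355 = N50364 := ded_54_2 (flp_h L690673) (flp_i L668516) (flp_h L668280) L690432 L711403
theorem L711419 : sm gh N50333 = N52356 := rfl
theorem L711421 : sm ga N52356 = N50362 := ded_17_1 (flp_h L690659) (flp_a L690448) L711419
theorem L711423 : sm gc N52356 = N50334 := ded_32_1 (flp_h L690456) (flp_c L690450) L711419
theorem L711425 : sm gg N52356 = N50335 := ded_50_1 (flp_h L690464) (flp_g L690454) L711419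
theorem L711427 : sm gd N50335 = N52357 := rfl
theorem L711429 : sm ga N52357 = N50369 := ded_12_1 (flp_d L690706) (flp_a L690466) L711427
theorem L711431 : sm gc N52357 = N50397 := ded_27_1 (flp_d L690912) L668801 (flp_d L668326) (flp_c L690468) L711427
theorem L711433 : sm gh N52357 = N50343 := ded_38_2 (flp_d L690535) (flp_h L668397) (flp_d L668320) L690464 L711427
theorem L711435 : sm gi N50336 = N52358 := rfl
theorem L711437 : sm gb N52358 = N50337 := ded_26_1 (flp_i L690476) L690470 L711435
theorem L711439 : sm gc N52358 = N52358 := ded_33_1 (flp_i L711435) L690475 L711435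
theorem L711440 : sm gf N52358 = N50339 := ded_48_1 (flp_i L690494) (flp_f L690472) L711435
theorem L711442 : sm gh N50337 = N52359 := rfl
theorem L711444 : sm ga N52359 = N50372 := ded_17_1 (flp_h L690724) (flp_a L690478) L711442
theorem L711446 : sm gc N52359 = N50338 := ded_32_1 (flp_h L690484) (flp_c L690480) L711442
theorem L711448 : sm gf N52359 = N50340 := ded_47_1 (flp_h L690502) (flp_f L690482) L711442
theorem L711450 : sm gi N52359 = N52359 := ded_54_2 (flp_h L711442) (flp_i L690476) L668347 L690476 L711442
theorem L711451 : sm gh N50339 = N52360 := rfl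
theorem L711453 : sm ga N52360 = N50773 := ded_17_1 L703428 L703418 L711451
theorem L711455 : sm gb N52360 = N50340 := ded_25_1 (flp_h L690502) (flp_b L690496) L711451
theorem L711457 : sm gc N52360 = N52360 := ded_32_1 (flp_h L711451) L690498 L711451
theorem L711458 : sm ge N52360 = N52360 := ded_43_1 (flp_h L711451) L690499 L711451
theorem L711459 : sm gg N52360 = N50342 := ded_50_1 (flp_h L690524) (flp_g L690500) L711451
theorem L711461 : sm gi N52360 = N52360 := ded_54_2 (flp_h L711451) (flp_i L690494) L668362 L690494 L711451
theorem L711462 : sm gd N50340 = N52361 := rfl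
theorem L711464 : sm ga N52361 = N50374 := ded_12_1 (flp_d L690739) (flp_a L690504) L711462
theorem L711466 : sm gg N52361 = N50343 := ded_36_2 (flp_d L690535) (flp_g L690509) L711462
theorem L711468 : sm gi N52361 = N52361 := ded_39_2 (flp_d L711462) L690511 L711462
theorem L711469 : sm gc N52361 = N50402 := ded_27_1 (flp_d L690956) L668872 (flp_d L668381) (flp_c L690506) L711462
theorem L711471 : sm gd N50342 = N52362 := rfl
theorem L711473 : sm ga N52362 = N50480 := ded_12_1 L691499 (flp_a L690526) L711471
theorem L711475 : sm gb N52362 = N50343 := ded_20_1 (flp_d L690535) (flp_b L690528) L711471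
theorem L711477 : sm gf N52362 = N50405 := ded_35_2 L690983 (flp_f L690532) L711471
theorem L711479 : sm gi N52362 = N52362 := ded_39_2 (flp_d L711471) L690534 L711471
theorem L711480 : sm ge N50343 = N52363 := rfl
theorem L711482 : sm ga N52363 = N50377 := ded_13_1 (flp_e L690763) (flp_a L690537) L711480
theorem L711484 : sm gc N52363 = N50405 := ded_28_1 (flp_e L690978) (flp_c L690540) L711480
theorem L711486 : sm gi N52363 = N52363 := ded_44_2 (flp_e L711480) L690539 L711480
theorem L711487 : sm gd N52363 = N52363 := ded_34_1 (flp_e L711480) (flp_d L690535) L668403 L690535 L711480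
theorem L711488 : sm ge N50344 = N52364 := rfl
theorem L711490 : sm gc N52364 = N50345 := ded_28_1 (flp_e L690549) L690542 L711488
theorem L711492 : sm gh N52364 = N50354 := ded_43_2 (flp_e L690607) (flp_h L690546) L711488
theorem L711494 : sm gi N50344 = N52365 := rfl
theorem L711496 : sm gc N52365 = N50346 := ded_33_1 (flp_i L690553) L690542 L711494
theorem L711498 : sm gd N52365 = N52365 := ded_39_1 (flp_i L711494) L690548 L711494
theorem L711499 : sm gf N52365 = N50347 := ded_48_1 (flp_i L690559) (flp_f L690544) L711494
theorem L711501 : sm gi N50345 = N52366 := rfl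
theorem L711503 : sm ge N52366 = N50346 := ded_44_1 (flp_i L690553) L690549 L711501
theorem L711505 : sm gh N50346 = N52367 := rfl
theorem L711507 : sm gf N52367 = N50348 := ded_47_1 (flp_h L690566) (flp_f L690557) L711505
theorem L711509 : sm gd N52367 = N50410 := ded_38_1 (flp_h L691009) L668914 (flp_h L668416) (flp_d L690555) L711505
theorem L711511 : sm gi N52367 = N50358 := ded_54_2 (flp_h L690633) (flp_i L668483) (flp_h L668409) L690553 L711505
theorem L711513 : sm gh N50347 = N52368 := rfl
theorem L711515 : sm gc N52368 = N50348 := ded_32_1 (flp_h L690566) (flp_c L690561) L711513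
theorem L711517 : sm gg N52368 = N50350 := ded_50_1 (flp_h L690579) (flp_g L690564) L711513
theorem L711519 : sm gi N52368 = N50362 := ded_54_2 (flp_h L690659) (flp_i L668502) (flp_h L668422) L690559 L711513
theorem L711521 : sm gh N50349 = N52369 := rfl
theorem L711523 : sm gb N52369 = N50350 := ded_25_1 (flp_h L690579) (flp_b L690576) L711521
theorem L711525 : sm gi N52369 = N50367 := ded_54_2 (flp_h L690696) (flp_i L668543) (flp_h L668434) L690574 L711521
theorem L711527 : sm gd N50350 = N52370 := rfl
theorem L711529 : sm gi N52370 = N50369 := ded_39_2 (flp_d L690706) (flp_i L690583) L711527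
theorem L711531 : sm gc N52370 = N50416 := ded_27_1 (flp_d L691050) L668963 (flp_d L668451) (flp_c L690581) L711527
theorem L711533 : sm gh N52370 = N52370 := ded_38_2 (flp_d L711527) (flp_h L690579) L668440 L690579 L711527
theorem L711534 : sm gi N50352 = N52371 := rfl
theorem L711536 : sm gd N52371 = N50519 := ded_39_1 (flp_i L691813) (flp_d L690597) L711534
theorem L711538 : sm ge N52371 = N50353 := ded_44_1 (flp_i L690599) L690593 L711534
theorem L711540 : sm gj N52371 = N50357 := ded_53_1 (flp_i L690627) (flp_j L690595) L711534
theorem L711542 : sm gh N50353 = N52372 := rfl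
theorem L711544 : sm gf N52372 = N50359 := ded_47_1 (flp_h L690639) (flp_f L690603) L711542
theorem L711546 : sm gj N52372 = N50358 := ded_52_1 (flp_h L690633) (flp_j L690605) L711542
theorem L711548 : sm gd N52372 = N50424 := ded_38_1 (flp_h L691105) L669007 (flp_h L668471) (flp_d L690601) L711542
theorem L711550 : sm gd N50354 = N52373 := rfl
theorem L711552 : sm gc N52373 = N50523 := ded_27_1 (flp_d L691839) L669812 (flp_d L668481) (flp_c L690609) L711550
theorem L711554 : sm ge N52373 = N50370 := ded_34_2 (flp_d L690712) (flp_e L668575) (flp_d L668477) L690607 L711550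
theorem L711556 : sm gf N50354 = N52374 := rfl
theorem L711558 : sm gc N52374 = N50356 := ded_29_1 (flp_f L690619) (flp_c L690609) L711556
theorem L711560 : sm ge N52374 = N50360 := ded_40_1 (flp_f L690645) (flp_e L668495) (flp_f L668475) L690607 L711556
theorem L711562 : sm gi N50354 = N52375 := rfl
theorem L711564 : sm gc N52375 = N50357 := ded_33_1 (flp_i L690627) (flp_c L690609) L711562
theorem L711566 : sm ge N52375 = N50355 := ded_44_1 (flp_i L690611) L690607 L711562
theorem L711568 : sm gh N50355 = N52376 := rfl
theorem L711570 : sm gc N52376 = N50358 := ded_32_1 (flp_h L690633) (flp_c L690613) L711568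
theorem L711572 : sm gf N52376 = N50362 := ded_47_1 (flp_h L690659) (flp_f L690617) L711568
theorem L711574 : sm gi N50356 = N52377 := rfl
theorem L711576 : sm gb N52377 = N50391 := ded_26_1 (flp_i L690872) (flp_b L690621) L711574
theorem L711578 : sm gd N52377 = N50527 := ded_39_1 (flp_i L691861) (flp_d L690623) L711574
theorem L711580 : sm ge N52377 = N50363 := ded_44_1 (flp_i L690665) (flp_e L690625) L711574
theorem L711582 : sm gf N52377 = N50357 := ded_48_1 (flp_i L690627) L690619 L711574
theorem L711584 : sm gh N50357 = N52378 := rfl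
theorem L711586 : sm ge N52378 = N50358 := ded_43_1 (flp_h L690633) (flp_e L690631) L711584
theorem L711588 : sm gi N50360 = N52379 := rfl
theorem L711590 : sm gc N52379 = N50363 := ded_33_1 (flp_i L690665) (flp_c L690647) L711588
theorem L711592 : sm gd N52379 = N52379 := ded_39_1 (flp_i L711588) L690649 L711588
theorem L711593 : sm gf N52379 = N50361 := ded_48_1 (flp_i L690650) L690645 L711588
theorem L711595 : sm gh N50361 = N52380 := rfl
theorem L711597 : sm gc N52380 = N50364 := ded_32_1 (flp_h L690673) (flp_c L690652) L711595
theorem L711599 : sm ge N52380 = N50362 := ded_43_1 (flp_h L690659) (flp_e L690655) L711595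
theorem L711601 : sm gg N52380 = N50368 := ded_50_1 (flp_h L690700) (flp_g L690657) L711595
theorem L711603 : sm gd N50362 = N52381 := rfl
theorem L711605 : sm gg N52381 = N50369 := ded_36_2 (flp_d L690706) (flp_g L690663) L711603
theorem L711607 : sm gc N52381 = N50444 := ded_27_1 (flp_d L691239) L669105 (flp_d L668530) (flp_c L690661) L711603
theorem L711609 : sm gh N52381 = N50374 := ded_38_2 (flp_d L690739) (flp_h L668605) (flp_d L668506) L690659 L711603
theorem L711611 : sm gh N50363 = N52382 := rfl
theorem L711613 : sm gb N52382 = N50392 := ded_25_1 (flp_h L690880) (flp_b L690667) L711611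
theorem L711615 : sm gf N52382 = N50364 := ded_47_1 (flp_h L690673) (flp_f L690671) L711611
theorem L711617 : sm gh N50365 = N52383 := rfl
theorem L711619 : sm ga N52383 = N50367 := ded_17_1 (flp_h L690696) (flp_a L690683) L711617
theorem L711621 : sm gh N50366 = N52384 := rfl
theorem L711623 : sm gb N52384 = N50368 := ded_25_1 (flp_h L690700) (flp_b L690689) L711621
theorem L711625 : sm gc N52384 = N50396 := ded_32_1 (flp_h L690908) (flp_c L690691) L711621
theorem L711627 : sm ge N52384 = N50367 := ded_43_1 (flp_h L690696) (flp_e L690694) L711621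
theorem L711629 : sm gd N50367 = N52385 := rfl
theorem L711631 : sm gb N52385 = N50369 := ded_20_1 (flp_d L690706) (flp_b L690698) L711629
theorem L711633 : sm gh N52385 = N50376 := ded_38_2 (flp_d L690758) (flp_h L668620) (flp_d L668547) L690696 L711629
theorem L711635 : sm gd N50368 = N52386 := rfl
theorem L711637 : sm gh N52386 = N52386 := ded_38_2 (flp_d L711635) (flp_h L690700) L668553 L690700 L711635
theorem L711638 : sm ge N50369 = N52387 := rfl
theorem L711640 : sm gc N52387 = N50456 := ded_28_1 (flp_e L691313) (flp_c L690708) L711638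
theorem L711642 : sm gh N52387 = N50377 := ded_43_2 (flp_e L690763) (flp_h L690710) L711638
theorem L711644 : sm gh N50370 = N52388 := rfl
theorem L711646 : sm gc N52388 = N50534 := ded_32_1 L691922 (flp_c L690715) L711644
theorem L711648 : sm gf N52388 = N52388 := ded_47_1 (flp_h L711644) L690714 L711644
theorem L711649 : sm gg N52388 = N50531 := ded_50_1 L702465 L702459 L711644
theorem L711651 : sm gd N52388 = N52388 := ded_38_1 (flp_h L711644) (flp_d L690712) L668579 L690712 L711644
theorem L711652 : sm gi N50370 = N52389 := rfl
theorem L711654 : sm gc N52389 = N50553 := ded_33_1 (flp_i L692079) (flp_c L690715) L711652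
theorem L711656 : sm gd N52389 = N50371 := ded_39_1 (flp_i L690717) L690712 L711652
theorem L711658 : sm gf N52389 = N52389 := ded_48_1 (flp_i L711652) L690714 L711652
theorem L711659 : sm gh N50371 = N52390 := rfl
theorem L711661 : sm gc N52390 = N50373 := ded_32_1 (flp_h L690731) (flp_c L690719) L711659
theorem L711663 : sm ge N52390 = N50372 := ded_43_1 (flp_h L690724) (flp_e L690721) L711659
theorem L711665 : sm gf N52390 = N52390 := ded_47_1 (flp_h L711659) L690723 L711659
theorem L711666 : sm gi N52390 = N52390 := ded_54_2 (flp_h L711659) (flp_i L690717) L668579 L690717 L711659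
theorem L711667 : sm gd N50372 = N52391 := rfl
theorem L711669 : sm gf N52391 = N50374 := ded_35_2 (flp_d L690739) (flp_f L690728) L711667
theorem L711671 : sm gi N52391 = N52391 := ded_39_2 (flp_d L711667) L690730 L711667
theorem L711672 : sm gc N52391 = N50471 := ded_27_1 (flp_d L691434) L669318 (flp_d L668602) (flp_c L690726) L711667
theorem L711674 : sm ge N50374 = N52392 := rfl
theorem L711676 : sm gc N52392 = N50476 := ded_28_1 (flp_e L691473) (flp_c L690744) L711674
theorem L711678 : sm gg N52392 = N50377 := ded_41_2 (flp_e L690763) (flp_g L690741) L711674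
theorem L711680 : sm gi N52392 = N52392 := ded_44_2 (flp_e L711674) L690743 L711674
theorem L711681 : sm gd N52392 = N52392 := ded_34_1 (flp_e L711674) (flp_d L690739) L668609 L690739 L711674
theorem L711682 : sm gf N50377 = N52393 := rfl
theorem L711684 : sm gc N52393 = N50480 := ded_29_1 (flp_f L691497) (flp_c L690765) L711682
theorem L711686 : sm gd N52393 = N52393 := ded_35_1 (flp_f L711682) L690768 L711682
theorem L711687 : sm gi N52393 = N52393 := ded_48_2 (flp_f L711682) L690767 L711682
theorem L711688 : sm ge N50378 = N52394 := rfl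
theorem L711690 : sm ga N52394 = N50407 := ded_13_1 (flp_e L690992) (flp_a L690771) L711688
theorem L711692 : sm gc N52394 = N50379 := ded_28_1 (flp_e L690778) L690769 L711688
theorem L711694 : sm gh N52394 = N50389 := ded_43_2 (flp_e L690856) (flp_h L690775) L711688
theorem L711696 : sm gi N50378 = N52395 := rfl
theorem L711698 : sm ga N52395 = N50408 := ded_18_1 (flp_i L690998) (flp_a L690771) L711696
theorem L711700 : sm gc N52395 = N50380 := ded_33_1 (flp_i L690784) L690769 L711696
theorem L711702 : sm gd N52395 = N52395 := ded_39_1 (flp_i L711696) L690777 L711696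
theorem L711703 : sm gf N52395 = N50381 := ded_48_1 (flp_i L690792) (flp_f L690773) L711696
theorem L711705 : sm gi N50379 = N52396 := rfl
theorem L711707 : sm ga N52396 = N50409 := ded_18_1 (flp_i L691005) (flp_a L690780) L711705
theorem L711709 : sm ge N52396 = N50380 := ded_44_1 (flp_i L690784) L690778 L711705
theorem L711711 : sm gh N50380 = N52397 := rfl
theorem L711713 : sm ga N52397 = N50410 := ded_17_1 (flp_h L691009) (flp_a L690786) L711711
theorem L711715 : sm gf N52397 = N50382 := ded_47_1 (flp_h L690801) (flp_f L690790) L711711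
theorem L711717 : sm gi N52397 = N50392 := ded_54_2 (flp_h L690880) (flp_i L668753) (flp_h L668665) L690784 L711711
theorem L711719 : sm gh N50381 = N52398 := rfl
theorem L711721 : sm ga N52398 = N50412 := ded_17_1 (flp_h L691022) (flp_a L690794) L711719
theorem L711723 : sm gc N52398 = N50382 := ded_32_1 (flp_h L690801) (flp_c L690796) L711719
theorem L711725 : sm gg N52398 = N50384 := ded_50_1 (flp_h L690814) (flp_g L690799) L711719
theorem L711727 : sm gi N52398 = N50394 := ded_54_2 (flp_h L690892) (flp_i L668769) (flp_h L668680) L690792 L711719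
theorem L711729 : sm gh N50383 = N52399 := rfl
theorem L711731 : sm gb N52399 = N50384 := ded_25_1 (flp_h L690814) (flp_b L690811) L711729
theorem L711733 : sm gi N52399 = N50396 := ded_54_2 (flp_h L690908) (flp_i L668791) (flp_h L668694) L690809 L711729
theorem L711735 : sm gd N50384 = N52400 := rfl
theorem L711737 : sm ga N52400 = N50416 := ded_12_1 (flp_d L691050) (flp_a L690816) L711735
theorem L711739 : sm gi N52400 = N50397 := ded_39_2 (flp_d L690912) (flp_i L690820) L711735
theorem L711741 : sm gh N52400 = N52400 := ded_38_2 (flp_d L711735) (flp_h L690814) L668702 L690814 L711735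
theorem L711742 : sm ge N50385 = N52401 := rfl
theorem L711744 : sm ga N52401 = N50418 := ded_13_1 (flp_e L691061) (flp_a L690824) L711742
theorem L711746 : sm gg N52401 = N50387 := ded_41_2 (flp_e L690838) (flp_g L690826) L711742
theorem L711748 : sm gd N52401 = N50566 := ded_34_1 (flp_e L692194) (flp_d L670279) (flp_e L668715) L690822 L711742
theorem L711750 : sm gi N50385 = N52402 := rfl
theorem L711752 : sm ga N52402 = N50419 := ded_18_1 (flp_i L691067) (flp_a L690824) L711750
theorem L711754 : sm gd N52402 = N50386 := ded_39_1 (flp_i L690828) L690822 L711750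
theorem L711756 : sm gg N52402 = N50388 := ded_51_1 (flp_i L690846) (flp_g L690826) L711750
theorem L711758 : sm gi N50387 = N52403 := rfl
theorem L711760 : sm ga N52403 = N50423 := ded_18_1 (flp_i L691097) (flp_a L690840) L711758
theorem L711762 : sm gd N52403 = N50571 := ded_39_1 (flp_i L692237) (flp_d L690844) L711758
theorem L711764 : sm ge N52403 = N50388 := ded_44_1 (flp_i L690846) L690838 L711758
theorem L711766 : sm gj N52403 = N50391 := ded_53_1 (flp_i L690872) (flp_j L690842) L711758
theorem L711768 : sm gh N50388 = N52404 := rfl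
theorem L711770 : sm ga N52404 = N50424 := ded_17_1 (flp_h L691105) (flp_a L690848) L711768
theorem L711772 : sm gf N52404 = N50393 := ded_47_1 (flp_h L690886) (flp_f L690852) L711768
theorem L711774 : sm gj N52404 = N50392 := ded_52_1 (flp_h L690880) (flp_j L690854) L711768
theorem L711776 : sm gi N50389 = N52405 := rfl
theorem L711778 : sm ga N52405 = N50430 := ded_18_1 (flp_i L691141) (flp_a L690858) L711776
theorem L711780 : sm gc N52405 = N50391 := ded_33_1 (flp_i L690872) (flp_c L690860) L711776
theorem L711782 : sm ge N52405 = N50390 := ded_44_1 (flp_i L690862) L690856 L711776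
theorem L711784 : sm gh N50390 = N52406 := rfl
theorem L711786 : sm ga N52406 = N50431 := ded_17_1 (flp_h L691147) (flp_a L690864) L711784
theorem L711788 : sm gc N52406 = N50392 := ded_32_1 (flp_h L690880) (flp_c L690866) L711784
theorem L711790 : sm gf N52406 = N50394 := ded_47_1 (flp_h L690892) (flp_f L690870) L711784
theorem L711792 : sm gh N50391 = N52407 := rfl
theorem L711794 : sm ga N52407 = N50434 := ded_17_1 (flp_h L691167) (flp_a L690874) L711792
theorem L711796 : sm ge N52407 = N50392 := ded_43_1 (flp_h L690880) (flp_e L690878) L711792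
theorem L711798 : sm gd N50394 = N52408 := rfl
theorem L711800 : sm ga N52408 = N50444 := ded_12_1 (flp_d L691239) (flp_a L690894) L711798
theorem L711802 : sm gg N52408 = N50397 := ded_36_2 (flp_d L690912) (flp_g L690898) L711798
theorem L711804 : sm gh N52408 = N50402 := ded_38_2 (flp_d L690956) (flp_h L668868) (flp_d L668775) L690892 L711798
theorem L711806 : sm gh N50395 = N52409 := rfl
theorem L711808 : sm ga N52409 = N50396 := ded_17_1 (flp_h L690908) (flp_a L690902) L711806
theorem L711810 : sm gb N52409 = N50449 := ded_25_1 (flp_h L691271) (flp_b L690904) L711806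
theorem L711812 : sm gd N50396 = N52410 := rfl
theorem L711814 : sm gb N52410 = N50397 := ded_20_1 (flp_d L690912) (flp_b L690910) L711812
theorem L711816 : sm gh N52410 = N50404 := ded_38_2 (flp_d L690973) (flp_h L668888) (flp_d L668795) L690908 L711812
theorem L711818 : sm ge N50397 = N52411 := rfl
theorem L711820 : sm ga N52411 = N50456 := ded_13_1 (flp_e L691313) (flp_a L690914) L711818
theorem L711822 : sm gh N52411 = N50405 := ded_43_2 (flp_e L690978) (flp_h L690916) L711818
theorem L711824 : sm gh N50398 = N52412 := rfl
theorem L711826 : sm ga N52412 = N50461 := ded_17_1 (flp_h L691347) (flp_a L690920) L711824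
theorem L711828 : sm gb N52412 = N52412 := ded_25_1 (flp_h L711824) L690922 L711824
theorem L711829 : sm gf N52412 = N50489 := ded_47_1 L694490 L694484 L711824
theorem L711831 : sm gg N52412 = N50399 := ded_50_1 (flp_h L690927) (flp_g L690925) L711824
theorem L711833 : sm gd N52412 = N50485 := ded_38_1 (flp_h L691541) (flp_d L687772) L687780 (flp_d L690923) L711824
theorem L711835 : sm gi N52412 = N52412 := ded_54_2 (flp_h L711824) (flp_i L690918) L668810 L690918 L711824
theorem L711836 : sm gd N50400 = N52413 := rfl
theorem L711838 : sm ga N52413 = N50471 := ded_12_1 (flp_d L691434) (flp_a L690939) L711836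
theorem L711840 : sm gf N52413 = N50402 := ded_35_2 (flp_d L690956) (flp_f L690943) L711836
theorem L711842 : sm gi N52413 = N52413 := ded_39_2 (flp_d L711836) L690945 L711836
theorem L711843 : sm ge N50402 = N52414 := rfl
theorem L711845 : sm ga N52414 = N50476 := ded_13_1 (flp_e L691473) (flp_a L690958) L711843
theorem L711847 : sm gg N52414 = N50405 := ded_41_2 (flp_e L690978) (flp_g L690960) L711843
theorem L711849 : sm gi N52414 = N52414 := ded_44_2 (flp_e L711843) L690962 L711843
theorem L711850 : sm gd N52414 = N50757 := ded_34_1 (flp_e L693669) (flp_d L671835) (flp_e L668874) L690956 L711843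
theorem L711852 : sm ge N50406 = N52415 := rfl
theorem L711854 : sm gb N52415 = N50407 := ded_21_1 (flp_e L690992) L690985 L711852
theorem L711856 : sm gh N52415 = N50426 := ded_43_2 (flp_e L691117) (flp_h L690990) L711852
theorem L711858 : sm gi N50406 = N52416 := rfl
theorem L711860 : sm gb N52416 = N50408 := ded_26_1 (flp_i L690998) L690985 L711858
theorem L711862 : sm gd N52416 = N52416 := ded_39_1 (flp_i L711858) L690987 L711858
theorem L711863 : sm gf N52416 = N50411 := ded_48_1 (flp_i L691015) (flp_f L690988) L711858
theorem L711865 : sm gd N50407 = N52417 := rfl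
theorem L711867 : sm ge N52417 = N52417 := ded_34_2 (flp_d L711865) (flp_e L690992) L668907 L690992 L711865
theorem L711868 : sm gi N50407 = N52418 := rfl
theorem L711870 : sm gc N52418 = N50409 := ded_33_1 (flp_i L691005) (flp_c L690994) L711868
theorem L711872 : sm ge N52418 = N50408 := ded_44_1 (flp_i L690998) L690992 L711868
theorem L711874 : sm gh N50408 = N52419 := rfl
theorem L711876 : sm gc N52419 = N50410 := ded_32_1 (flp_h L691009) (flp_c L691000) L711874
theorem L711878 : sm gf N52419 = N50412 := ded_47_1 (flp_h L691022) (flp_f L691003) L711874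
theorem L711880 : sm gi N52419 = N50431 := ded_54_2 (flp_h L691147) (flp_i L669023) (flp_h L668905) L690998 L711874
theorem L711882 : sm gh N50409 = N52420 := rfl
theorem L711884 : sm ge N52420 = N50410 := ded_43_1 (flp_h L691009) (flp_e L691007) L711882
theorem L711886 : sm gi N52420 = N50434 := ded_54_2 (flp_h L691167) (flp_i L669037) (flp_h L668910) L691005 L711882
theorem L711888 : sm gh N50411 = N52421 := rfl
theorem L711890 : sm gb N52421 = N50412 := ded_25_1 (flp_h L691022) (flp_b L691017) L711888
theorem L711892 : sm gg N52421 = N50414 := ded_50_1 (flp_h L691036) (flp_g L691020) L711888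
theorem L711894 : sm gi N52421 = N50440 := ded_54_2 (flp_h L691209) (flp_i L669079) (flp_h L668923) L691015 L711888
theorem L711896 : sm gd N50412 = N52422 := rfl
theorem L711898 : sm gg N52422 = N50416 := ded_36_2 (flp_d L691050) (flp_g L691026) L711896
theorem L711900 : sm gi N52422 = N50444 := ded_39_2 (flp_d L691239) (flp_i L691028) L711896
theorem L711902 : sm gh N52422 = N52422 := ded_38_2 (flp_d L711896) (flp_h L691022) L668929 L691022 L711896
theorem L711903 : sm gh N50413 = N52423 := rfl
theorem L711905 : sm gb N52423 = N50415 := ded_25_1 (flp_h L691042) (flp_b L691032) L711903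
theorem L711907 : sm ge N52423 = N50414 := ded_43_1 (flp_h L691036) (flp_e L691034) L711903
theorem L711909 : sm gi N52423 = N50451 := ded_54_2 (flp_h L691283) (flp_i L669145) (flp_h L668942) L691030 L711903
theorem L711911 : sm gd N50414 = N52424 := rfl
theorem L711913 : sm gb N52424 = N50416 := ded_20_1 (flp_d L691050) (flp_b L691038) L711911
theorem L711915 : sm gi N52424 = N50452 := ded_39_2 (flp_d L691289) (flp_i L691040) L711911
theorem L711917 : sm gh N52424 = N52424 := ded_38_2 (flp_d L711911) (flp_h L691036) L668948 L691036 L711911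
theorem L711918 : sm ge N50416 = N52425 := rfl
theorem L711920 : sm gh N52425 = N52425 := ded_43_2 (flp_e L711918) L691054 L711918
theorem L711921 : sm gi N52425 = N50456 := ded_44_2 (flp_e L691313) (flp_i L691052) L711918
theorem L711923 : sm ge N50417 = N52426 := rfl
theorem L711925 : sm gc N52426 = N50418 := ded_28_1 (flp_e L691061) L691055 L711923
theorem L711927 : sm gg N52426 = N50421 := ded_41_2 (flp_e L691081) (flp_g L691057) L711923
theorem L711929 : sm gi N50417 = N52427 := rfl
theorem L711931 : sm gc N52427 = N50419 := ded_33_1 (flp_i L691067) L691055 L711929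
theorem L711933 : sm gd N52427 = N50460 := ded_39_1 (flp_i L691341) (flp_d L691059) L711929
theorem L711935 : sm gg N52427 = N50422 := ded_51_1 (flp_i L691087) (flp_g L691057) L711929
theorem L711937 : sm gf N50418 = N52428 := rfl
theorem L711939 : sm gd N52428 = N50644 := ded_35_1 (flp_f L692809) (flp_d L691065) L711937
theorem L711941 : sm gi N50418 = N52429 := rfl
theorem L711943 : sm gd N52429 = N50645 := ded_39_1 (flp_i L692812) (flp_d L691065) L711941
theorem L711945 : sm ge N52429 = N50419 := ded_44_1 (flp_i L691067) L691061 L711941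
theorem L711947 : sm gg N52429 = N50423 := ded_51_1 (flp_i L691097) (flp_g L691063) L711941
theorem L711949 : sm gh N50419 = N52430 := rfl
theorem L711951 : sm gg N52430 = N50424 := ded_50_1 (flp_h L691105) (flp_g L691071) L711949
theorem L711953 : sm ge N50420 = N52431 := rfl
theorem L711955 : sm gb N52431 = N50421 := ded_21_1 (flp_e L691081) L691073 L711953
theorem L711957 : sm gj N52431 = N50426 := ded_42_2 (flp_e L691117) (flp_j L691079) L711953
theorem L711959 : sm gi N50420 = N52432 := rfl
theorem L711961 : sm gb N52432 = N50422 := ded_26_1 (flp_i L691087) L691073 L711959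
theorem L711963 : sm gd N52432 = N50462 := ded_39_1 (flp_i L691358) (flp_d L691075) L711959
theorem L711965 : sm gf N52432 = N50435 := ded_48_1 (flp_i L691171) (flp_f L691077) L711959
theorem L711967 : sm gj N52432 = N50427 := ded_53_1 (flp_i L691121) (flp_j L691079) L711959
theorem L711969 : sm gi N50421 = N52433 := rfl
theorem L711971 : sm gc N52433 = N50423 := ded_33_1 (flp_i L691097) (flp_c L691083) L711969
theorem L711973 : sm ge N52433 = N50422 := ded_44_1 (flp_i L691087) L691081 L711969
theorem L711975 : sm gj N52433 = N50430 := ded_53_1 (flp_i L691141) (flp_j L691085) L711969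
theorem L711977 : sm gh N50422 = N52434 := rfl
theorem L711979 : sm gc N52434 = N50424 := ded_32_1 (flp_h L691105) (flp_c L691089) L711977
theorem L711981 : sm gf N52434 = N50436 := ded_47_1 (flp_h L691179) (flp_f L691093) L711977
theorem L711983 : sm gj N52434 = N50431 := ded_52_1 (flp_h L691147) (flp_j L691095) L711977
theorem L711985 : sm gh N50423 = N52435 := rfl
theorem L711987 : sm ge N52435 = N50424 := ded_43_1 (flp_h L691105) (flp_e L691101) L711985
theorem L711989 : sm gj N52435 = N50434 := ded_52_1 (flp_h L691167) (flp_j L691103) L711985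
theorem L711991 : sm ge N50425 = N52436 := rfl
theorem L711993 : sm ga N52436 = N50426 := ded_13_1 (flp_e L691117) L691111 L711991
theorem L711995 : sm gi N50425 = N52437 := rfl
theorem L711997 : sm ga N52437 = N50427 := ded_18_1 (flp_i L691121) L691111 L711995
theorem L711999 : sm gd N52437 = N50464 := ded_39_1 (flp_i L691377) (flp_d L691113) L711995
theorem L712001 : sm gf N52437 = N50437 := ded_48_1 (flp_i L691185) (flp_f L691115) L711995
theorem L712003 : sm gd N50426 = N52438 := rfl
theorem L712005 : sm gb N52438 = N50428 := ded_20_1 (flp_d L691129) (flp_b L691119) L712003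
theorem L712007 : sm ge N52438 = N50465 := ded_34_2 (flp_d L691385) (flp_e L669285) (flp_d L669015) L691117 L712003
theorem L712009 : sm gf N50426 = N52439 := rfl
theorem L712011 : sm gb N52439 = N50429 := ded_22_1 (flp_f L691135) (flp_b L691119) L712009
theorem L712013 : sm ge N52439 = N50438 := ded_40_1 (flp_f L691193) (flp_e L669071) (flp_f L669017) L691117 L712009
theorem L712015 : sm gi N50426 = N52440 := rfl
theorem L712017 : sm gb N52440 = N50430 := ded_26_1 (flp_i L691141) (flp_b L691119) L712015
theorem L712019 : sm ge N52440 = N50427 := ded_44_1 (flp_i L691121) L691117 L712015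
theorem L712021 : sm gh N50427 = N52441 := rfl
theorem L712023 : sm gb N52441 = N50431 := ded_25_1 (flp_h L691147) (flp_b L691123) L712021
theorem L712025 : sm gf N52441 = N50440 := ded_47_1 (flp_h L691209) (flp_f L691127) L712021
theorem L712027 : sm gh N50428 = N52442 := rfl
theorem L712029 : sm gc N52442 = N50663 := ded_32_1 (flp_h L692935) (flp_c L691131) L712027
theorem L712031 : sm ge N52442 = N50468 := ded_43_1 (flp_h L691410) (flp_e L691133) L712027
theorem L712033 : sm gi N50428 = N52443 := rfl
theorem L712035 : sm gc N52443 = N50664 := ded_33_1 (flp_i L692939) (flp_c L691131) L712033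
theorem L712037 : sm gd N52443 = N50430 := ded_39_1 (flp_i L691141) L691129 L712033
theorem L712039 : sm ge N52443 = N50469 := ded_44_1 (flp_i L691417) (flp_e L691133) L712033
theorem L712041 : sm gg N50429 = N52444 := rfl
theorem L712043 : sm gc N52444 = N50432 := ded_30_1 (flp_g L691153) (flp_c L691137) L712041
theorem L712045 : sm ge N52444 = N50441 := ded_41_1 (flp_g L691215) (flp_e L691139) L712041
theorem L712047 : sm gi N50429 = N52445 := rfl
theorem L712049 : sm gc N52445 = N50433 := ded_33_1 (flp_i L691159) (flp_c L691137) L712047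
theorem L712051 : sm ge N52445 = N50442 := ded_44_1 (flp_i L691223) (flp_e L691139) L712047
theorem L712053 : sm gf N52445 = N50430 := ded_48_1 (flp_i L691141) L691135 L712047
theorem L712055 : sm gh N50430 = N52446 := rfl
theorem L712057 : sm gc N52446 = N50434 := ded_32_1 (flp_h L691167) (flp_c L691143) L712055
theorem L712059 : sm ge N52446 = N50431 := ded_43_1 (flp_h L691147) (flp_e L691145) L712055
theorem L712061 : sm gd N50431 = N52447 := rfl
theorem L712063 : sm gf N52447 = N50444 := ded_35_2 (flp_d L691239) (flp_f L691151) L712061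
theorem L712065 : sm gh N52447 = N50471 := ded_38_2 (flp_d L691434) (flp_h L669316) (flp_d L669027) L691147 L712061
theorem L712067 : sm gj N50432 = N52448 := rfl
theorem L712069 : sm gd N52448 = N50669 := ded_37_1 (flp_j L692971) (flp_d L691155) L712067
theorem L712071 : sm ge N52448 = N50445 := ded_42_1 (flp_j L691245) (flp_e L691157) L712067
theorem L712073 : sm gi N50432 = N52449 := rfl
theorem L712075 : sm gd N52449 = N50670 := ded_39_1 (flp_i L692975) (flp_d L691155) L712073
theorem L712077 : sm ge N52449 = N50446 := ded_44_1 (flp_i L691251) (flp_e L691157) L712073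
theorem L712079 : sm gg N52449 = N50433 := ded_51_1 (flp_i L691159) L691153 L712073
theorem L712081 : sm gh N50433 = N52450 := rfl
theorem L712083 : sm ge N52450 = N50447 := ded_43_1 (flp_h L691259) (flp_e L691163) L712081
theorem L712085 : sm gf N52450 = N50434 := ded_47_1 (flp_h L691167) (flp_f L691165) L712081
theorem L712087 : sm gd N50434 = N52451 := rfl
theorem L712089 : sm gh N52451 = N50672 := ded_38_2 (flp_d L692987) (flp_h L670952) (flp_d L669039) L691167 L712087
theorem L712091 : sm gh N50435 = N52452 := rfl
theorem L712093 : sm gb N52452 = N50436 := ded_25_1 (flp_h L691179) (flp_b L691173) L712091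
theorem L712095 : sm gj N52452 = N50440 := ded_52_1 (flp_h L691209) (flp_j L691177) L712091
theorem L712097 : sm gd N50436 = N52453 := rfl
theorem L712099 : sm gj N52453 = N50444 := ded_37_2 (flp_d L691239) (flp_j L691183) L712097
theorem L712101 : sm gh N52453 = N50473 := ded_38_2 (flp_d L691450) (flp_h L669342) (flp_d L669057) L691179 L712097
theorem L712103 : sm gh N50437 = N52454 := rfl
theorem L712105 : sm ga N52454 = N50440 := ded_17_1 (flp_h L691209) (flp_a L691187) L712103
theorem L712107 : sm gg N52454 = N50449 := ded_50_1 (flp_h L691271) (flp_g L691191) L712103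
theorem L712109 : sm gi N50438 = N52455 := rfl
theorem L712111 : sm gb N52455 = N50442 := ded_26_1 (flp_i L691223) (flp_b L691195) L712109
theorem L712113 : sm gd N52455 = N50758 := ded_39_1 (flp_i L693677) (flp_d L691197) L712109
theorem L712115 : sm gf N52455 = N50439 := ded_48_1 (flp_i L691199) L691193 L712109
theorem L712117 : sm gh N50439 = N52456 := rfl
theorem L712119 : sm gb N52456 = N50443 := ded_25_1 (flp_h L691231) (flp_b L691201) L712117
theorem L712121 : sm ge N52456 = N50440 := ded_43_1 (flp_h L691209) (flp_e L691205) L712117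
theorem L712123 : sm gg N52456 = N50451 := ded_50_1 (flp_h L691283) (flp_g L691207) L712117
theorem L712125 : sm gd N50440 = N52457 := rfl
theorem L712127 : sm gb N52457 = N50444 := ded_20_1 (flp_d L691239) (flp_b L691211) L712125
theorem L712129 : sm gg N52457 = N50452 := ded_36_2 (flp_d L691289) (flp_g L691213) L712125
theorem L712131 : sm gh N52457 = N50475 := ded_38_2 (flp_d L691466) (flp_h L669361) (flp_d L669083) L691209 L712125
theorem L712133 : sm gi N50441 = N52458 := rfl
theorem L712135 : sm gc N52458 = N50446 := ded_33_1 (flp_i L691251) (flp_c L691217) L712133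
theorem L712137 : sm gd N52458 = N50759 := ded_39_1 (flp_i L693684) (flp_d L691219) L712133
theorem L712139 : sm gf N52458 = N50453 := ded_48_1 (flp_i L691295) (flp_f L691221) L712133
theorem L712141 : sm gg N52458 = N50442 := ded_51_1 (flp_i L691223) L691215 L712133
theorem L712143 : sm gh N50442 = N52459 := rfl
theorem L712145 : sm gc N52459 = N50447 := ded_32_1 (flp_h L691259) (flp_c L691225) L712143
theorem L712147 : sm gf N52459 = N50443 := ded_47_1 (flp_h L691231) (flp_f L691229) L712143
theorem L712149 : sm gd N50443 = N52460 := rfl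
theorem L712151 : sm gg N52460 = N50455 := ded_36_2 (flp_d L691309) (flp_g L691237) L712149
theorem L712153 : sm gj N52460 = N50458 := ded_37_2 (flp_d L695977) L695975 L712149
theorem L712155 : sm gh N52460 = N50457 := ded_38_2 L691319 L669225 (flp_d L669097) L691231 L712149
theorem L712157 : sm ge N50444 = N52461 := rfl
theorem L712159 : sm gg N52461 = N50456 := ded_41_2 (flp_e L691313) (flp_g L691241) L712157
theorem L712161 : sm gh N52461 = N50476 := ded_43_2 (flp_e L691473) (flp_h L691243) L712157
theorem L712163 : sm gi N50445 = N52462 := rfl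
theorem L712165 : sm gd N52462 = N50459 := ded_39_1 (flp_i L691329) (flp_d L691247) L712163
theorem L712167 : sm gf N52462 = N50457 := ded_48_1 (flp_i L691317) (flp_f L691249) L712163
theorem L712169 : sm gj N52462 = N50446 := ded_53_1 (flp_i L691251) L691245 L712163
theorem L712171 : sm gh N50446 = N52463 := rfl
theorem L712173 : sm gf N52463 = N50458 := ded_47_1 (flp_h L691325) (flp_f L691255) L712171
theorem L712175 : sm gg N52463 = N50447 := ded_50_1 (flp_h L691259) (flp_g L691257) L712171
theorem L712177 : sm gh N50448 = N52464 := rfl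
theorem L712179 : sm ga N52464 = N50451 := ded_17_1 (flp_h L691283) (flp_a L691265) L712177
theorem L712181 : sm ge N52464 = N50449 := ded_43_1 (flp_h L691271) (flp_e L691269) L712177
theorem L712183 : sm gd N50449 = N52465 := rfl
theorem L712185 : sm ga N52465 = N50452 := ded_12_1 (flp_d L691289) (flp_a L691273) L712183
theorem L712187 : sm gh N52465 = N50477 := ded_38_2 (flp_d L691480) (flp_h L669377) (flp_d L669137) L691271 L712183
theorem L712189 : sm gh N50450 = N52466 := rfl
theorem L712191 : sm gb N52466 = N50454 := ded_25_1 (flp_h L691303) (flp_b L691277) L712189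
theorem L712193 : sm gf N52466 = N50451 := ded_47_1 (flp_h L691283) (flp_f L691281) L712189
theorem L712195 : sm gd N50451 = N52467 := rfl
theorem L712197 : sm gb N52467 = N50455 := ded_20_1 (flp_d L691309) (flp_b L691285) L712195
theorem L712199 : sm gh N52467 = N50762 := ded_38_2 (flp_d L693707) (flp_h L671937) (flp_d L669149) L691283 L712195
theorem L712201 : sm gc N50452 = N52468 := rfl
theorem L712203 : sm gh N52468 = N50478 := ded_32_2 (flp_c L691485) (flp_h L691293) L712201
theorem L712205 : sm ge N50452 = N52469 := rfl
theorem L712207 : sm gb N52469 = N50456 := ded_21_1 (flp_e L691313) (flp_b L691291) L712205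
theorem L712209 : sm gh N52469 = N50479 := ded_43_2 (flp_e L691490) (flp_h L691293) L712205
theorem L712211 : sm gh N50453 = N52470 := rfl
theorem L712213 : sm gc N52470 = N50458 := ded_32_1 (flp_h L691325) (flp_c L691297) L712211
theorem L712215 : sm gg N52470 = N50454 := ded_50_1 (flp_h L691303) (flp_g L691301) L712211
theorem L712217 : sm ge N50455 = N52471 := rfl
theorem L712219 : sm gh N52471 = N50763 := ded_43_2 (flp_e L693711) (flp_h L691311) L712217
theorem L712221 : sm gd N52471 = N50456 := ded_34_1 (flp_e L691313) (flp_d L669177) (flp_e L669175) L691309 L712217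
theorem L712223 : sm gf N50456 = N52472 := rfl
theorem L712225 : sm gh N52472 = N50480 := ded_47_2 (flp_f L691497) (flp_h L691315) L712223
theorem L712227 : sm gh N50460 = N52473 := rfl
theorem L712229 : sm gc N52473 = N50461 := ded_32_1 (flp_h L691347) (flp_c L691343) L712227
theorem L712231 : sm gf N52473 = N50490 := ded_47_1 L696045 L696039 L712227
theorem L712233 : sm gg N52473 = N50463 := ded_50_1 (flp_h L691368) (flp_g L691345) L712227
theorem L712235 : sm gi N52473 = N52473 := ded_54_2 (flp_h L712227) (flp_i L691341) L669231 L691341 L712227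
theorem L712236 : sm gh N50462 = N52474 := rfl
theorem L712238 : sm gb N52474 = N50463 := ded_25_1 (flp_h L691368) (flp_b L691360) L712236
theorem L712240 : sm gc N52474 = N50483 := ded_32_1 (flp_h L691523) (flp_c L691362) L712236
theorem L712242 : sm gf N52474 = N50472 := ded_47_1 (flp_h L691439) (flp_f L691364) L712236
theorem L712244 : sm gj N52474 = N50467 := ded_52_1 (flp_h L691401) (flp_j L691366) L712236
theorem L712246 : sm gi N52474 = N52474 := ded_54_2 (flp_h L712236) (flp_i L691358) L669246 L691358 L712236
theorem L712247 : sm gd N50463 = N52475 := rfl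
theorem L712249 : sm gf N52475 = N50473 := ded_35_2 (flp_d L691450) (flp_f L691372) L712247
theorem L712251 : sm gj N52475 = N50471 := ded_37_2 (flp_d L691434) (flp_j L691374) L712247
theorem L712253 : sm gi N52475 = N52475 := ded_39_2 (flp_d L712247) L691376 L712247
theorem L712254 : sm gh N50464 = N52476 := rfl
theorem L712256 : sm ga N52476 = N50467 := ded_17_1 (flp_h L691401) (flp_a L691379) L712254
theorem L712258 : sm gc N52476 = N50485 := ded_32_1 (flp_h L691541) (flp_c L691381) L712254
theorem L712260 : sm gf N52476 = N50474 := ded_47_1 (flp_h L691455) (flp_f L691383) L712254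
theorem L712262 : sm gi N52476 = N52476 := ded_54_2 (flp_h L712254) (flp_i L691377) L669284 L691377 L712254
theorem L712263 : sm gi N50465 = N52477 := rfl
theorem L712265 : sm gb N52477 = N50469 := ded_26_1 (flp_i L691417) (flp_b L691387) L712263
theorem L712267 : sm gd N52477 = N50466 := ded_39_1 (flp_i L691391) L691385 L712263
theorem L712269 : sm gf N52477 = N50764 := ded_48_1 (flp_i L693715) (flp_f L691389) L712263
theorem L712271 : sm gh N50466 = N52478 := rfl
theorem L712273 : sm gb N52478 = N50470 := ded_25_1 (flp_h L691425) (flp_b L691393) L712271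
theorem L712275 : sm gc N52478 = N50487 := ded_32_1 (flp_h L691565) (flp_c L691395) L712271
theorem L712277 : sm ge N52478 = N50467 := ded_43_1 (flp_h L691401) (flp_e L691397) L712271
theorem L712279 : sm gf N52478 = N50765 := ded_47_1 (flp_h L693722) (flp_f L691399) L712271
theorem L712281 : sm gi N52478 = N52478 := ded_54_2 (flp_h L712271) (flp_i L691391) L669291 L691391 L712271
theorem L712282 : sm gd N50467 = N52479 := rfl
theorem L712284 : sm gb N52479 = N50471 := ded_20_1 (flp_d L691434) (flp_b L691403) L712282
theorem L712286 : sm gf N52479 = N50475 := ded_35_2 (flp_d L691466) (flp_f L691407) L712282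
theorem L712288 : sm gi N52479 = N52479 := ded_39_2 (flp_d L712282) L691409 L712282
theorem L712289 : sm gi N50468 = N52480 := rfl
theorem L712291 : sm gc N52480 = N50711 := ded_33_1 (flp_i L693290) (flp_c L691412) L712289
theorem L712293 : sm gd N52480 = N52480 := ded_39_1 (flp_i L712289) L691416 L712289
theorem L712294 : sm gf N52480 = N50766 := ded_48_1 (flp_i L693732) (flp_f L691414) L712289
theorem L712296 : sm gh N50469 = N52481 := rfl
theorem L712298 : sm gc N52481 = N50712 := ded_32_1 (flp_h L693296) (flp_c L691419) L712296
theorem L712300 : sm gf N52481 = N50767 := ded_47_1 (flp_h L693738) (flp_f L691423) L712296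
theorem L712302 : sm gd N50470 = N52482 := rfl
theorem L712304 : sm gf N52482 = N50768 := ded_35_2 (flp_d L693743) (flp_f L691431) L712302
theorem L712306 : sm gi N52482 = N52482 := ded_39_2 (flp_d L712302) L691433 L712302
theorem L712307 : sm ge N50471 = N52483 := rfl
theorem L712309 : sm gi N52483 = N52483 := ded_44_2 (flp_e L712307) L691438 L712307
theorem L712310 : sm gd N50472 = N52484 := rfl
theorem L712312 : sm gb N52484 = N50473 := ded_20_1 (flp_d L691450) (flp_b L691441) L712310
theorem L712314 : sm gj N52484 = N50475 := ded_37_2 (flp_d L691466) (flp_j L691447) L712310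
theorem L712316 : sm gi N52484 = N52484 := ded_39_2 (flp_d L712310) L691449 L712310
theorem L712317 : sm gd N50474 = N52485 := rfl
theorem L712319 : sm ga N52485 = N50475 := ded_12_1 (flp_d L691466) (flp_a L691457) L712317
theorem L712321 : sm gg N52485 = N50477 := ded_36_2 (flp_d L691480) (flp_g L691463) L712317
theorem L712323 : sm gi N52485 = N52485 := ded_39_2 (flp_d L712317) L691465 L712317
theorem L712324 : sm gc N50475 = N52486 := rfl
theorem L712326 : sm gg N52486 = N50478 := ded_30_2 (flp_c L691485) (flp_g L691470) L712324
theorem L712328 : sm gi N52486 = N52486 := ded_33_2 (flp_c L712324) L691472 L712324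
theorem L712329 : sm gd N52486 = N50490 := ded_27_2 (flp_c L691592) (flp_d L669555) (flp_c L669365) L691466 L712324
theorem L712331 : sm ge N50475 = N52487 := rfl
theorem L712333 : sm gb N52487 = N50476 := ded_21_1 (flp_e L691473) (flp_b L691468) L712331
theorem L712335 : sm gg N52487 = N50479 := ded_41_2 (flp_e L691490) (flp_g L691470) L712331
theorem L712337 : sm gi N52487 = N52487 := ded_44_2 (flp_e L712331) L691472 L712331
theorem L712338 : sm gd N52487 = N50771 := ded_34_1 (flp_e L693762) (flp_d L672035) (flp_e L669367) L691466 L712331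
theorem L712340 : sm gf N50476 = N52488 := rfl
theorem L712342 : sm gd N52488 = N50772 := ded_35_1 (flp_f L693769) (flp_d L691478) L712340
theorem L712344 : sm gi N52488 = N52488 := ded_48_2 (flp_f L712340) L691477 L712340
theorem L712345 : sm gg N50480 = N52489 := rfl
theorem L712347 : sm gd N52489 = N50773 := ded_36_1 (flp_g L693773) (flp_d L691499) L712345
theorem L712349 : sm gi N52489 = N52489 := ded_51_2 (flp_g L712345) L691501 L712345
theorem L712350 : sm gh N50481 = N52490 := rfl
theorem L712352 : sm ga N52490 = N50483 := ded_17_1 (flp_h L691523) (flp_a L691504) L712350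
theorem L712354 : sm gb N52490 = N52490 := ded_25_1 (flp_h L712350) L691506 L712350
theorem L712355 : sm gf N52490 = N50488 := ded_47_1 (flp_h L691574) (flp_f L691507) L712350
theorem L712357 : sm gj N52490 = N50485 := ded_52_1 (flp_h L691541) (flp_j L691509) L712350
theorem L712359 : sm gi N52490 = N52490 := ded_54_2 (flp_h L712350) (flp_i L691502) L669412 L691502 L712350
theorem L712360 : sm gh N50484 = N52491 := rfl
theorem L712362 : sm ga N52491 = N50487 := ded_17_1 (flp_h L691565) (flp_a L691534) L712360
theorem L712364 : sm gb N52491 = N52491 := ded_25_1 (flp_h L712360) L691536 L712360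
theorem L712365 : sm ge N52491 = N50485 := ded_43_1 (flp_h L691541) (flp_e L691537) L712360
theorem L712367 : sm gf N52491 = N50775 := ded_47_1 (flp_h L693788) (flp_f L691539) L712360
theorem L712369 : sm gi N52491 = N52491 := ded_54_2 (flp_h L712360) (flp_i L691532) L669461 L691532 L712360
theorem L712370 : sm ge N50492 = N52492 := rfl
theorem L712372 : sm ga N52492 = N50513 := ded_13_1 (flp_e L691770) (flp_a L691608) L712370
theorem L712374 : sm gg N52492 = N50494 := ded_41_2 (flp_e L691624) (flp_g L691611) L712370
theorem L712376 : sm gi N50492 = N52493 := rfl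
theorem L712378 : sm ga N52493 = N50514 := ded_18_1 (flp_i L691774) (flp_a L691608) L712376
theorem L712380 : sm gd N52493 = N50493 := ded_39_1 (flp_i L691613) L691606 L712376
theorem L712382 : sm gf N52493 = N52493 := ded_48_1 (flp_i L712376) L691610 L712376
theorem L712383 : sm gg N52493 = N50495 := ded_51_1 (flp_i L691630) (flp_g L691611) L712376
theorem L712385 : sm gi N50494 = N52494 := rfl
theorem L712387 : sm ga N52494 = N50519 := ded_18_1 (flp_i L691813) (flp_a L691626) L712385
theorem L712389 : sm ge N52494 = N50495 := ded_44_1 (flp_i L691630) L691624 L712385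
theorem L712391 : sm gj N52494 = N50496 := ded_53_1 (flp_i L691640) (flp_j L691628) L712385
theorem L712393 : sm gh N50495 = N52495 := rfl
theorem L712395 : sm ga N52495 = N50520 := ded_17_1 (flp_h L691819) (flp_a L691632) L712393
theorem L712397 : sm gf N52495 = N50498 := ded_47_1 (flp_h L691654) (flp_f L691636) L712393
theorem L712399 : sm gj N52495 = N50497 := ded_52_1 (flp_h L691646) (flp_j L691638) L712393
theorem L712401 : sm gd N52495 = N50572 := ded_38_1 (flp_h L692245) L670315 (flp_h L669625) (flp_d L691634) L712393
theorem L712403 : sm gh N50496 = N52496 := rfl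
theorem L712405 : sm ga N52496 = N50528 := ded_17_1 (flp_h L691869) (flp_a L691642) L712403
theorem L712407 : sm ge N52496 = N50497 := ded_43_1 (flp_h L691646) (flp_e L691644) L712403
theorem L712409 : sm gi N50499 = N52497 := rfl
theorem L712411 : sm gd N52497 = N50506 := ded_39_1 (flp_i L691711) (flp_d L691665) L712409
theorem L712413 : sm ge N52497 = N50500 := ded_44_1 (flp_i L691667) L691663 L712409
theorem L712415 : sm gh N50500 = N52498 := rfl
theorem L712417 : sm gf N52498 = N50837 := ded_47_1 (flp_h L694329) (flp_f L691671) L712415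
theorem L712419 : sm gd N52498 = N50599 := ded_38_1 (flp_h L692461) L670579 (flp_h L669678) (flp_d L691669) L712415
theorem L712421 : sm ge N50501 = N52499 := rfl
theorem L712423 : sm gg N52499 = N50503 := ded_41_2 (flp_e L691689) (flp_g L691676) L712421
theorem L712425 : sm gh N52499 = N50513 := ded_43_2 (flp_e L691770) (flp_h L691678) L712421
theorem L712427 : sm gi N50501 = N52500 := rfl
theorem L712429 : sm gd N52500 = N50502 := ded_39_1 (flp_i L691680) L691673 L712427
theorem L712431 : sm gf N52500 = N52500 := ded_48_1 (flp_i L712427) L691675 L712427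
theorem L712432 : sm gg N52500 = N50504 := ded_51_1 (flp_i L691695) (flp_g L691676) L712427
theorem L712434 : sm gi N50503 = N52501 := rfl
theorem L712436 : sm ge N52501 = N50504 := ded_44_1 (flp_i L691695) L691689 L712434
theorem L712438 : sm gj N52501 = N50506 := ded_53_1 (flp_i L691711) (flp_j L691691) L712434
theorem L712440 : sm gh N50504 = N52502 := rfl
theorem L712442 : sm gf N52502 = N50509 := ded_47_1 (flp_h L691736) (flp_f L691699) L712440
theorem L712444 : sm gj N52502 = N50507 := ded_52_1 (flp_h L691715) (flp_j L691701) L712440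
theorem L712446 : sm gd N52502 = N50607 := ded_38_1 (flp_h L692521) L670615 (flp_h L669703) (flp_d L691697) L712440
theorem L712448 : sm gi N52502 = N50520 := ded_54_2 (flp_h L691819) (flp_i L669796) (flp_h L669693) L691695 L712440
theorem L712450 : sm gi N50505 = N52503 := rfl
theorem L712452 : sm gb N52503 = N50562 := ded_26_1 (flp_i L692162) (flp_b L691705) L712450
theorem L712454 : sm ge N52503 = N50510 := ded_44_1 (flp_i L691745) (flp_e L691709) L712450
theorem L712456 : sm gf N52503 = N50506 := ded_48_1 (flp_i L691711) L691703 L712450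
theorem L712458 : sm gh N50506 = N52504 := rfl
theorem L712460 : sm ge N52504 = N50507 := ded_43_1 (flp_h L691715) (flp_e L691713) L712458
theorem L712462 : sm gi N52504 = N50528 := ded_54_2 (flp_h L691869) (flp_i L669828) (flp_h L669707) L691711 L712458
theorem L712464 : sm gh N50508 = N52505 := rfl
theorem L712466 : sm ga N52505 = N50837 := ded_17_1 (flp_h L694329) (flp_a L691725) L712464
theorem L712468 : sm gb N52505 = N50564 := ded_25_1 (flp_h L692176) (flp_b L691727) L712464
theorem L712470 : sm ge N52505 = N50509 := ded_43_1 (flp_h L691736) (flp_e L691731) L712464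
theorem L712472 : sm gg N52505 = N52505 := ded_50_1 (flp_h L712464) L691733 L712464
theorem L712473 : sm gj N52505 = N50511 := ded_52_1 (flp_h L691753) (flp_j L691734) L712464
theorem L712475 : sm gd N52505 = N50839 := ded_38_1 (flp_h L694343) L672881 (flp_h L670210) (flp_d L691729) L712464
theorem L712477 : sm gi N52505 = N50536 := ded_54_2 (flp_h L691935) (flp_i L669870) (flp_h L669724) L691723 L712464
theorem L712479 : sm gh N50510 = N52506 := rfl
theorem L712481 : sm gb N52506 = N50563 := ded_25_1 (flp_h L692168) (flp_b L691747) L712479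
theorem L712483 : sm gf N52506 = N50511 := ded_47_1 (flp_h L691753) (flp_f L691751) L712479
theorem L712485 : sm gi N52506 = N50542 := ded_54_2 (flp_h L691983) (flp_i L669925) (flp_h L669741) L691745 L712479
theorem L712487 : sm ge N50512 = N52507 := rfl
theorem L712489 : sm gc N52507 = N50513 := ded_28_1 (flp_e L691770) L691763 L712487
theorem L712491 : sm gg N52507 = N50516 := ded_41_2 (flp_e L691789) (flp_g L691766) L712487
theorem L712493 : sm gi N50512 = N52508 := rfl
theorem L712495 : sm gc N52508 = N50514 := ded_33_1 (flp_i L691774) L691763 L712493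
theorem L712497 : sm gd N52508 = N50546 := ded_39_1 (flp_i L692010) (flp_d L691768) L712493
theorem L712499 : sm gf N52508 = N52508 := ded_48_1 (flp_i L712493) L691765 L712493
theorem L712500 : sm gg N52508 = N50517 := ded_51_1 (flp_i L691795) (flp_g L691766) L712493
theorem L712502 : sm gf N50513 = N52509 := rfl
theorem L712504 : sm ge N52509 = N52509 := ded_40_1 (flp_f L712502) (flp_e L691770) L669772 L691770 L712502
theorem L712505 : sm gi N50513 = N52510 := rfl
theorem L712507 : sm ge N52510 = N50514 := ded_44_1 (flp_i L691774) L691770 L712505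
theorem L712509 : sm gg N52510 = N50519 := ded_51_1 (flp_i L691813) (flp_g L691772) L712505
theorem L712511 : sm gh N50514 = N52511 := rfl
theorem L712513 : sm gf N52511 = N52511 := ded_47_1 (flp_h L712511) L691778 L712511
theorem L712514 : sm gg N52511 = N50520 := ded_50_1 (flp_h L691819) (flp_g L691779) L712511
theorem L712516 : sm gd N52511 = N50646 := ded_38_1 (flp_h L692818) L670855 (flp_h L669782) (flp_d L691776) L712511
theorem L712518 : sm ge N50515 = N52512 := rfl
theorem L712520 : sm gb N52512 = N50516 := ded_21_1 (flp_e L691789) L691781 L712518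
theorem L712522 : sm gj N52512 = N50521 := ded_42_2 (flp_e L691827) (flp_j L691787) L712518
theorem L712524 : sm gi N50515 = N52513 := rfl
theorem L712526 : sm gb N52513 = N50517 := ded_26_1 (flp_i L691795) L691781 L712524
theorem L712528 : sm gd N52513 = N50547 := ded_39_1 (flp_i L692017) (flp_d L691783) L712524
theorem L712530 : sm gf N52513 = N50530 := ded_48_1 (flp_i L691883) (flp_f L691785) L712524
theorem L712532 : sm gj N52513 = N50522 := ded_53_1 (flp_i L691831) (flp_j L691787) L712524
theorem L712534 : sm gd N50516 = N52514 := rfl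
theorem L712536 : sm gj N52514 = N50523 := ded_37_2 (flp_d L691839) (flp_j L691793) L712534
theorem L712538 : sm ge N52514 = N50548 := ded_34_2 (flp_d L692027) (flp_e L670006) (flp_d L669790) L691789 L712534
theorem L712540 : sm gf N50516 = N52515 := rfl
theorem L712542 : sm gc N52515 = N50518 := ded_29_1 (flp_f L691805) (flp_c L691791) L712540
theorem L712544 : sm gj N52515 = N50524 := ded_46_2 (flp_f L691843) (flp_j L691793) L712540
theorem L712546 : sm ge N52515 = N50531 := ded_40_1 (flp_f L691892) (flp_e L669845) (flp_f L669786) L691789 L712540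
theorem L712548 : sm gi N50516 = N52516 := rfl
theorem L712550 : sm gc N52516 = N50519 := ded_33_1 (flp_i L691813) (flp_c L691791) L712548
theorem L712552 : sm ge N52516 = N50517 := ded_44_1 (flp_i L691795) L691789 L712548
theorem L712554 : sm gj N52516 = N50525 := ded_53_1 (flp_i L691849) (flp_j L691793) L712548
theorem L712556 : sm gh N50517 = N52517 := rfl
theorem L712558 : sm gc N52517 = N50520 := ded_32_1 (flp_h L691819) (flp_c L691797) L712556
theorem L712560 : sm gf N52517 = N50533 := ded_47_1 (flp_h L691909) (flp_f L691801) L712556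
theorem L712562 : sm gj N52517 = N50526 := ded_52_1 (flp_h L691855) (flp_j L691803) L712556
theorem L712564 : sm gg N50518 = N52518 := rfl
theorem L712566 : sm gb N52518 = N50566 := ded_23_1 L692198 (flp_b L691807) L712564
theorem L712568 : sm ge N52518 = N50534 := ded_41_1 (flp_g L691916) (flp_e L691811) L712564
theorem L712570 : sm gh N52518 = N50523 := ded_50_2 (flp_g L705178) (flp_h L705186) L712564
theorem L712572 : sm gi N50518 = N52519 := rfl
theorem L712574 : sm gb N52519 = N50571 := ded_26_1 (flp_i L692237) (flp_b L691807) L712572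
theorem L712576 : sm ge N52519 = N50535 := ded_44_1 (flp_i L691925) (flp_e L691811) L712572
theorem L712578 : sm gf N52519 = N50519 := ded_48_1 (flp_i L691813) L691805 L712572
theorem L712580 : sm gj N52519 = N50527 := ded_53_1 (flp_i L691861) (flp_j L691809) L712572
theorem L712582 : sm gh N50519 = N52520 := rfl
theorem L712584 : sm ge N52520 = N50520 := ded_43_1 (flp_h L691819) (flp_e L691815) L712582
theorem L712586 : sm gj N52520 = N50528 := ded_52_1 (flp_h L691869) (flp_j L691817) L712582
theorem L712588 : sm gd N50521 = N52521 := rfl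
theorem L712590 : sm ga N52521 = N50601 := ded_12_1 (flp_d L710207) L710203 L712588
theorem L712592 : sm gb N52521 = N50523 := ded_20_1 (flp_d L691839) (flp_b L691829) L712588
theorem L712594 : sm gg N52521 = N50560 := ded_36_2 (flp_d L705154) L705148 L712588
theorem L712596 : sm ge N52521 = N50551 := ded_34_2 (flp_d L692055) (flp_e L670046) (flp_d L669806) L691827 L712588
theorem L712598 : sm gh N50566 = N52521 := ded_17_0 L712590 L692478 (flp_a L692196)
theorem L712600 : sm gf N50521 = N52522 := rfl
theorem L712602 : sm gb N52522 = N50524 := ded_22_1 (flp_f L691843) (flp_b L691829) L712600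
theorem L712604 : sm gc N52522 = N50574 := ded_29_1 (flp_f L709089) L709087 L712600
theorem L712606 : sm ge N52522 = N50537 := ded_40_1 (flp_f L691944) (flp_e L669888) (flp_f L669808) L691827 L712600
theorem L712608 : sm gi N50521 = N52523 := rfl
theorem L712610 : sm gb N52523 = N50525 := ded_26_1 (flp_i L691849) (flp_b L691829) L712608
theorem L712612 : sm ge N52523 = N50522 := ded_44_1 (flp_i L691831) L691827 L712608
theorem L712614 : sm gh N50522 = N52524 := rfl
theorem L712616 : sm gb N52524 = N50526 := ded_25_1 (flp_h L691855) (flp_b L691833) L712614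
theorem L712618 : sm gf N52524 = N50539 := ded_47_1 (flp_h L691962) (flp_f L691837) L712614
theorem L712620 : sm gf N50523 = N52525 := rfl
theorem L712622 : sm gd N52525 = N50524 := ded_35_1 (flp_f L691843) L691839 L712620
theorem L712624 : sm ge N52525 = N52525 := ded_40_1 (flp_f L712620) L691841 L670069 (flp_e L691841) L712620
theorem L712625 : sm gi N50523 = N52526 := rfl
theorem L712627 : sm gd N52526 = N50525 := ded_39_1 (flp_i L691849) L691839 L712625
theorem L712629 : sm ge N52526 = N50553 := ded_44_1 (flp_i L692079) (flp_e L691841) L712625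
theorem L712631 : sm gi N50524 = N52527 := rfl
theorem L712633 : sm gc N52527 = N50527 := ded_33_1 (flp_i L691861) (flp_c L691845) L712631
theorem L712635 : sm ge N52527 = N50540 := ded_44_1 (flp_i L691968) (flp_e L691847) L712631
theorem L712637 : sm gf N52527 = N50525 := ded_48_1 (flp_i L691849) L691843 L712631
theorem L712639 : sm gh N50525 = N52528 := rfl
theorem L712641 : sm gc N52528 = N50528 := ded_32_1 (flp_h L691869) (flp_c L691851) L712639
theorem L712643 : sm ge N52528 = N50526 := ded_43_1 (flp_h L691855) (flp_e L691853) L712639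
theorem L712645 : sm gh N50527 = N52529 := rfl
theorem L712647 : sm gb N52529 = N50579 := ded_25_1 (flp_h L692295) (flp_b L691863) L712645
theorem L712649 : sm ge N52529 = N50542 := ded_43_1 (flp_h L691983) (flp_e L691865) L712645
theorem L712651 : sm gf N52529 = N50528 := ded_47_1 (flp_h L691869) (flp_f L691867) L712645
theorem L712653 : sm gd N50528 = N52530 := rfl
theorem L712655 : sm ge N52530 = N50672 := ded_34_2 (flp_d L692987) L670954 (flp_d L669836) (flp_e L691871) L712653
theorem L712657 : sm gf N50529 = N52531 := rfl
theorem L712659 : sm gb N52531 = N50531 := ded_22_1 (flp_f L691892) (flp_b L691875) L712657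
theorem L712661 : sm gc N52531 = N50568 := ded_29_1 L692213 (flp_c L691877) L712657
theorem L712663 : sm gd N52531 = N52531 := ded_35_1 (flp_f L712657) L691882 L712657
theorem L712664 : sm gj N52531 = N50537 := ded_46_2 (flp_f L691944) (flp_j L691880) L712657
theorem L712666 : sm gi N50529 = N52532 := rfl
theorem L712668 : sm gb N52532 = N50532 := ded_26_1 (flp_i L691899) (flp_b L691875) L712666
theorem L712670 : sm gc N52532 = N50581 := ded_33_1 (flp_i L692310) (flp_c L691877) L712666
theorem L712672 : sm gd N52532 = N52532 := ded_39_1 (flp_i L712666) L691882 L712666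
theorem L712673 : sm ge N52532 = N50530 := ded_44_1 (flp_i L691883) L691873 L712666
theorem L712675 : sm gg N52532 = N52532 := ded_51_1 (flp_i L712666) L691879 L712666
theorem L712676 : sm gj N52532 = N50538 := ded_53_1 (flp_i L691951) (flp_j L691880) L712666
theorem L712678 : sm gh N50530 = N52533 := rfl
theorem L712680 : sm gb N52533 = N50533 := ded_25_1 (flp_h L691909) (flp_b L691885) L712678
theorem L712682 : sm gg N52533 = N52533 := ded_50_1 (flp_h L712678) L691889 L712678
theorem L712683 : sm gj N52533 = N50539 := ded_52_1 (flp_h L691962) (flp_j L691890) L712678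
theorem L712685 : sm gi N50531 = N52534 := rfl
theorem L712687 : sm gc N52534 = N50535 := ded_33_1 (flp_i L691925) (flp_c L691894) L712685
theorem L712689 : sm gd N52534 = N52534 := ded_39_1 (flp_i L712685) L691896 L712685
theorem L712690 : sm gf N52534 = N50532 := ded_48_1 (flp_i L691899) L691892 L712685
theorem L712692 : sm gj N52534 = N50540 := ded_53_1 (flp_i L691968) (flp_j L691897) L712685
theorem L712694 : sm gh N50532 = N52535 := rfl
theorem L712696 : sm gc N52535 = N50536 := ded_32_1 (flp_h L691935) (flp_c L691901) L712694
theorem L712698 : sm ge N52535 = N50533 := ded_43_1 (flp_h L691909) (flp_e L691904) L712694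
theorem L712700 : sm gg N52535 = N52535 := ded_50_1 (flp_h L712694) L691906 L712694
theorem L712701 : sm gj N52535 = N50541 := ded_52_1 (flp_h L691975) (flp_j L691907) L712694
theorem L712703 : sm gi N50534 = N52536 := rfl
theorem L712705 : sm gb N52536 = N50567 := ded_26_1 (flp_i L692200) (flp_b L691918) L712703
theorem L712707 : sm gd N52536 = N50545 := ded_39_1 (flp_i L692002) (flp_d L691920) L712703
theorem L712709 : sm gf N52536 = N52536 := ded_48_1 (flp_i L712703) L691924 L712703
theorem L712710 : sm gg N52536 = N50535 := ded_51_1 (flp_i L691925) L691916 L712703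
theorem L712712 : sm gh N50535 = N52537 := rfl
theorem L712714 : sm gb N52537 = N50572 := ded_25_1 (flp_h L692245) (flp_b L691927) L712712
theorem L712716 : sm gf N52537 = N50536 := ded_47_1 (flp_h L691935) (flp_f L691931) L712712
theorem L712718 : sm gj N52537 = N50542 := ded_52_1 (flp_h L691983) (flp_j L691933) L712712
theorem L712720 : sm gi N50537 = N52538 := rfl
theorem L712722 : sm gb N52538 = N50540 := ded_26_1 (flp_i L691968) (flp_b L691946) L712720
theorem L712724 : sm gc N52538 = N50575 := ded_33_1 (flp_i L692265) (flp_c L691948) L712720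
theorem L712726 : sm gd N52538 = N52538 := ded_39_1 (flp_i L712720) L691950 L712720
theorem L712727 : sm gf N52538 = N50538 := ded_48_1 (flp_i L691951) L691944 L712720
theorem L712729 : sm gh N50538 = N52539 := rfl
theorem L712731 : sm gb N52539 = N50541 := ded_25_1 (flp_h L691975) (flp_b L691953) L712729
theorem L712733 : sm gc N52539 = N50584 := ded_32_1 (flp_h L692338) (flp_c L691955) L712729
theorem L712735 : sm ge N52539 = N50539 := ded_43_1 (flp_h L691962) (flp_e L691958) L712729
theorem L712737 : sm gg N52539 = N50543 := ded_50_1 (flp_h L691989) (flp_g L691960) L712729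
theorem L712739 : sm gh N50540 = N52540 := rfl
theorem L712741 : sm gc N52540 = N50542 := ded_32_1 (flp_h L691983) (flp_c L691970) L712739
theorem L712743 : sm gf N52540 = N50541 := ded_47_1 (flp_h L691975) (flp_f L691973) L712739
theorem L712745 : sm gd N50541 = N52541 := rfl
theorem L712747 : sm gg N52541 = N50544 := ded_36_2 (flp_d L691998) (flp_g L691981) L712745
theorem L712749 : sm gh N52541 = N52541 := ded_38_2 (flp_d L712745) (flp_h L691975) L669914 L691975 L712745
theorem L712750 : sm gd N50543 = N52542 := rfl
theorem L712752 : sm gb N52542 = N50544 := ded_20_1 (flp_d L691998) (flp_b L691991) L712750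
theorem L712754 : sm gj N52542 = N52542 := ded_37_2 (flp_d L712750) L691997 L712750
theorem L712755 : sm gh N52542 = N52542 := ded_38_2 (flp_d L712750) (flp_h L691989) L669947 L691989 L712750
theorem L712756 : sm gi N50548 = N52543 := rfl
theorem L712758 : sm gd N52543 = N50549 := ded_39_1 (flp_i L692032) L692027 L712756
theorem L712760 : sm gf N52543 = N52543 := ded_48_1 (flp_i L712756) L692029 L712756
theorem L712761 : sm gj N52543 = N50553 := ded_53_1 (flp_i L692079) (flp_j L692030) L712756
theorem L712763 : sm gi N50551 = N52544 := rfl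
theorem L712765 : sm ga N52544 = N50602 := ded_18_1 (flp_i L692480) (flp_a L692057) L712763
theorem L712767 : sm gb N52544 = N50553 := ded_26_1 (flp_i L692079) (flp_b L692059) L712763
theorem L712769 : sm gd N52544 = N50552 := ded_39_1 (flp_i L692066) L692055 L712763
theorem L712771 : sm gf N52544 = N52544 := ded_48_1 (flp_i L712763) L692061 L712763
theorem L712772 : sm gg N52544 = N50561 := ded_51_1 (flp_i L692152) (flp_g L692062) L712763
theorem L712774 : sm gh N50553 = N52545 := rfl
theorem L712776 : sm gf N52545 = N52545 := ded_47_1 (flp_h L712774) L692083 L712774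
theorem L712777 : sm ge N50557 = N52546 := rfl
theorem L712779 : sm ga N52546 = N50596 := ded_13_1 (flp_e L692443) (flp_a L692124) L712777
theorem L712781 : sm gc N52546 = N50558 := ded_28_1 (flp_e L692130) L692122 L712777
theorem L712783 : sm gi N50557 = N52547 := rfl
theorem L712785 : sm ga N52547 = N50597 := ded_18_1 (flp_i L692447) (flp_a L692124) L712783
theorem L712787 : sm gc N52547 = N50559 := ded_33_1 (flp_i L692136) L692122 L712783
theorem L712789 : sm gd N52547 = N50717 := ded_39_1 (flp_i L693329) (flp_d L692128) L712783
theorem L712791 : sm gf N52547 = N50838 := ded_48_1 (flp_i L694334) (flp_f L692126) L712783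
theorem L712793 : sm gi N50558 = N52548 := rfl
theorem L712795 : sm ga N52548 = N50598 := ded_18_1 (flp_i L692455) (flp_a L692132) L712793
theorem L712797 : sm gd N52548 = N50562 := ded_39_1 (flp_i L692162) (flp_d L692134) L712793
theorem L712799 : sm ge N52548 = N50559 := ded_44_1 (flp_i L692136) L692130 L712793
theorem L712801 : sm gh N50559 = N52549 := rfl
theorem L712803 : sm ga N52549 = N50599 := ded_17_1 (flp_h L692461) (flp_a L692138) L712801
theorem L712805 : sm gf N52549 = N50839 := ded_47_1 (flp_h L694343) (flp_f L692142) L712801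
theorem L712807 : sm gi N50560 = N52550 := rfl
theorem L712809 : sm ga N52550 = N50606 := ded_18_1 (flp_i L692515) (flp_a L692146) L712807
theorem L712811 : sm ge N52550 = N50561 := ded_44_1 (flp_i L692152) L692144 L712807
theorem L712813 : sm gj N52550 = N50562 := ded_53_1 (flp_i L692162) (flp_j L692148) L712807
theorem L712815 : sm gh N50561 = N52551 := rfl
theorem L712817 : sm ga N52551 = N50607 := ded_17_1 (flp_h L692521) (flp_a L692154) L712815
theorem L712819 : sm gf N52551 = N50564 := ded_47_1 (flp_h L692176) (flp_f L692158) L712815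
theorem L712821 : sm gj N52551 = N50563 := ded_52_1 (flp_h L692168) (flp_j L692160) L712815
theorem L712823 : sm gi N52551 = N50572 := ded_54_2 (flp_h L692245) (flp_i L670311) (flp_h L670236) L692152 L712815
theorem L712825 : sm gh N50562 = N52552 := rfl
theorem L712827 : sm ga N52552 = N50617 := ded_17_1 (flp_h L692589) (flp_a L692164) L712825
theorem L712829 : sm ge N52552 = N50563 := ded_43_1 (flp_h L692168) (flp_e L692166) L712825
theorem L712831 : sm gi N52552 = N50579 := ded_54_2 (flp_h L692295) (flp_i L670343) (flp_h L670252) L692162 L712825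
theorem L712833 : sm ge N50565 = N52553 := rfl
theorem L712835 : sm ga N52553 = N50642 := ded_13_1 (flp_e L692794) (flp_a L692187) L712833
theorem L712837 : sm gc N52553 = N50566 := ded_28_1 (flp_e L692194) L692185 L712833
theorem L712839 : sm gg N52553 = N50569 := ded_41_2 (flp_e L692217) (flp_g L692190) L712833
theorem L712841 : sm gi N50565 = N52554 := rfl
theorem L712843 : sm ga N52554 = N50643 := ded_18_1 (flp_i L692800) (flp_a L692187) L712841
theorem L712845 : sm gc N52554 = N50567 := ded_33_1 (flp_i L692200) L692185 L712841
theorem L712847 : sm gd N52554 = N50586 := ded_39_1 (flp_i L692351) (flp_d L692192) L712841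
theorem L712849 : sm gf N52554 = N52554 := ded_48_1 (flp_i L712841) L692189 L712841
theorem L712850 : sm gg N52554 = N50570 := ded_51_1 (flp_i L692225) (flp_g L692190) L712841
theorem L712852 : sm gf N50566 = N52555 := rfl
theorem L712854 : sm ga N52555 = N50644 := ded_14_1 (flp_f L692809) (flp_a L692196) L712852
theorem L712856 : sm ge N52555 = N52555 := ded_40_1 (flp_f L712852) (flp_e L692194) L670283 L692194 L712852
theorem L712857 : sm gi N50566 = N52556 := rfl
theorem L712859 : sm ga N52556 = N50645 := ded_18_1 (flp_i L692812) (flp_a L692196) L712857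
theorem L712861 : sm ge N52556 = N50567 := ded_44_1 (flp_i L692200) L692194 L712857
theorem L712863 : sm gg N52556 = N50571 := ded_51_1 (flp_i L692237) (flp_g L692198) L712857
theorem L712865 : sm gh N50567 = N52557 := rfl
theorem L712867 : sm ga N52557 = N50646 := ded_17_1 (flp_h L692818) (flp_a L692202) L712865
theorem L712869 : sm gf N52557 = N52557 := ded_47_1 (flp_h L712865) L692206 L712865
theorem L712870 : sm gg N52557 = N50572 := ded_50_1 (flp_h L692245) (flp_g L692207) L712865
theorem L712872 : sm ge N50568 = N52558 := rfl
theorem L712874 : sm gb N52558 = N50569 := ded_21_1 (flp_e L692217) L692209 L712872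
theorem L712876 : sm gj N52558 = N50574 := ded_42_2 (flp_e L692261) (flp_j L692215) L712872
theorem L712878 : sm gi N50568 = N52559 := rfl
theorem L712880 : sm gb N52559 = N50570 := ded_26_1 (flp_i L692225) L692209 L712878
theorem L712882 : sm gd N52559 = N50587 := ded_39_1 (flp_i L692360) (flp_d L692211) L712878
theorem L712884 : sm gf N52559 = N50581 := ded_48_1 (flp_i L692310) (flp_f L692213) L712878
theorem L712886 : sm gj N52559 = N50575 := ded_53_1 (flp_i L692265) (flp_j L692215) L712878
theorem L712888 : sm gi N50569 = N52560 := rfl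
theorem L712890 : sm ga N52560 = N50651 := ded_18_1 (flp_i L692857) (flp_a L692219) L712888
theorem L712892 : sm gc N52560 = N50571 := ded_33_1 (flp_i L692237) (flp_c L692221) L712888
theorem L712894 : sm ge N52560 = N50570 := ded_44_1 (flp_i L692225) L692217 L712888
theorem L712896 : sm gj N52560 = N50577 := ded_53_1 (flp_i L692279) (flp_j L692223) L712888
theorem L712898 : sm gh N50570 = N52561 := rfl
theorem L712900 : sm ga N52561 = N50652 := ded_17_1 (flp_h L692865) (flp_a L692227) L712898
theorem L712902 : sm gc N52561 = N50572 := ded_32_1 (flp_h L692245) (flp_c L692229) L712898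
theorem L712904 : sm gf N52561 = N50582 := ded_47_1 (flp_h L692319) (flp_f L692233) L712898
theorem L712906 : sm gj N52561 = N50578 := ded_52_1 (flp_h L692287) (flp_j L692235) L712898
theorem L712908 : sm gh N50571 = N52562 := rfl
theorem L712910 : sm ga N52562 = N50655 := ded_17_1 (flp_h L692885) (flp_a L692239) L712908
theorem L712912 : sm ge N52562 = N50572 := ded_43_1 (flp_h L692245) (flp_e L692241) L712908
theorem L712914 : sm gj N52562 = N50579 := ded_52_1 (flp_h L692295) (flp_j L692243) L712908
theorem L712916 : sm ge N50573 = N52563 := rfl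
theorem L712918 : sm ga N52563 = N50574 := ded_13_1 (flp_e L692261) L692253 L712916
theorem L712920 : sm gb N52563 = N50656 := ded_21_1 (flp_e L692891) (flp_b L692259) L712916
theorem L712922 : sm gi N50573 = N52564 := rfl
theorem L712924 : sm ga N52564 = N50575 := ded_18_1 (flp_i L692265) L692253 L712922
theorem L712926 : sm gb N52564 = N50657 := ded_26_1 (flp_i L692895) (flp_b L692259) L712922
theorem L712928 : sm gd N52564 = N50589 := ded_39_1 (flp_i L692383) (flp_d L692255) L712922
theorem L712930 : sm gf N52564 = N50583 := ded_48_1 (flp_i L692328) (flp_f L692257) L712922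
theorem L712932 : sm gd N50574 = N52565 := rfl
theorem L712934 : sm gb N52565 = N50576 := ded_20_1 (flp_d L692273) (flp_b L692263) L712932
theorem L712936 : sm ge N52565 = N50590 := ded_34_2 (flp_d L692392) (flp_e L670490) (flp_d L670323) L692261 L712932
theorem L712938 : sm gi N50574 = N52566 := rfl
theorem L712940 : sm gb N52566 = N50577 := ded_26_1 (flp_i L692279) (flp_b L692263) L712938
theorem L712942 : sm ge N52566 = N50575 := ded_44_1 (flp_i L692265) L692261 L712938
theorem L712944 : sm gh N50575 = N52567 := rfl
theorem L712946 : sm gb N52567 = N50578 := ded_25_1 (flp_h L692287) (flp_b L692267) L712944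
theorem L712948 : sm gf N52567 = N50584 := ded_47_1 (flp_h L692338) (flp_f L692271) L712944
theorem L712950 : sm gh N50576 = N52568 := rfl
theorem L712952 : sm ga N52568 = N50663 := ded_17_1 (flp_h L692935) (flp_a L692275) L712950
theorem L712954 : sm ge N52568 = N50592 := ded_43_1 (flp_h L692407) (flp_e L692277) L712950
theorem L712956 : sm gi N50576 = N52569 := rfl
theorem L712958 : sm ga N52569 = N50664 := ded_18_1 (flp_i L692939) (flp_a L692275) L712956
theorem L712960 : sm gd N52569 = N50577 := ded_39_1 (flp_i L692279) L692273 L712956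
theorem L712962 : sm ge N52569 = N50593 := ded_44_1 (flp_i L692415) (flp_e L692277) L712956
theorem L712964 : sm gh N50577 = N52570 := rfl
theorem L712966 : sm ga N52570 = N50667 := ded_17_1 (flp_h L692959) (flp_a L692281) L712964
theorem L712968 : sm gc N52570 = N50579 := ded_32_1 (flp_h L692295) (flp_c L692283) L712964
theorem L712970 : sm ge N52570 = N50578 := ded_43_1 (flp_h L692287) (flp_e L692285) L712964
theorem L712972 : sm gd N50579 = N52571 := rfl
theorem L712974 : sm ga N52571 = N50672 := ded_12_1 (flp_d L692987) (flp_a L692297) L712972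
theorem L712976 : sm gi N50580 = N52572 := rfl
theorem L712978 : sm ga N52572 = N50581 := ded_18_1 (flp_i L692310) L692301 L712976
theorem L712980 : sm gb N52572 = N50674 := ded_26_1 (flp_i L692998) (flp_b L692308) L712976
theorem L712982 : sm gd N52572 = N50594 := ded_39_1 (flp_i L692423) (flp_d L692303) L712976
theorem L712984 : sm gg N52572 = N52572 := ded_51_1 (flp_i L712976) L692305 L712976
theorem L712985 : sm gj N52572 = N50583 := ded_53_1 (flp_i L692328) (flp_j L692306) L712976
theorem L712987 : sm gh N50581 = N52573 := rfl
theorem L712989 : sm gb N52573 = N50582 := ded_25_1 (flp_h L692319) (flp_b L692312) L712987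
theorem L712991 : sm gg N52573 = N52573 := ded_50_1 (flp_h L712987) L692316 L712987
theorem L712992 : sm gj N52573 = N50584 := ded_52_1 (flp_h L692338) (flp_j L692317) L712987
theorem L712994 : sm gh N50583 = N52574 := rfl
theorem L712996 : sm ga N52574 = N50584 := ded_17_1 (flp_h L692338) (flp_a L692330) L712994
theorem L712998 : sm gb N52574 = N50686 := ded_25_1 (flp_h L693099) (flp_b L692332) L712994
theorem L713000 : sm gg N52574 = N50585 := ded_50_1 (flp_h L692344) (flp_g L692336) L712994
theorem L713002 : sm gi N50590 = N52575 := rfl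
theorem L713004 : sm gb N52575 = N50593 := ded_26_1 (flp_i L692415) (flp_b L692394) L713002
theorem L713006 : sm gd N52575 = N50591 := ded_39_1 (flp_i L692398) L692392 L713002
theorem L713008 : sm gf N52575 = N50793 := ded_48_1 (flp_i L693975) (flp_f L692396) L713002
theorem L713010 : sm gi N50592 = N52576 := rfl
theorem L713012 : sm ga N52576 = N50711 := ded_18_1 (flp_i L693290) (flp_a L692409) L713010
theorem L713014 : sm gd N52576 = N50719 := ded_39_1 (flp_i L693344) (flp_d L692413) L713010
theorem L713016 : sm gf N52576 = N50794 := ded_48_1 (flp_i L693982) (flp_f L692411) L713010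
theorem L713018 : sm gh N50593 = N52577 := rfl
theorem L713020 : sm ga N52577 = N50712 := ded_17_1 (flp_h L693296) (flp_a L692417) L713018
theorem L713022 : sm gf N52577 = N50795 := ded_47_1 (flp_h L693989) (flp_f L692421) L713018
theorem L713024 : sm ga N50595 = N52578 := rfl
theorem L713026 : sm gd N52578 = N50725 := ded_12_2 (flp_a L693397) (flp_d L692439) L713024
theorem L713028 : sm gf N52578 = N50699 := ded_14_2 L693198 (flp_f L692441) L713024
theorem L713030 : sm gj N52578 = N50687 := ded_16_2 (flp_a L710258) L710266 L713024
theorem L713032 : sm gb N52578 = N50691 := ded_10_2 (flp_a L696902) L696910 L692124 L692437 L713024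
theorem L713034 : sm ge N50595 = N52579 := rfl
theorem L713036 : sm gb N52579 = N50596 := ded_21_1 (flp_e L692443) L692437 L713034
theorem L713038 : sm gi N50595 = N52580 := rfl
theorem L713040 : sm gb N52580 = N50597 := ded_26_1 (flp_i L692447) L692437 L713038
theorem L713042 : sm gd N52580 = N50727 := ded_39_1 (flp_i L693414) (flp_d L692439) L713038
theorem L713044 : sm gf N52580 = N50840 := ded_48_1 (flp_i L694348) (flp_f L692441) L713038
theorem L713046 : sm gd N50596 = N52581 := rfl
theorem L713048 : sm gc N52581 = N50611 := ded_27_1 (flp_d L692551) L670631 (flp_d L670575) (flp_c L692445) L713046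
theorem L713050 : sm ge N52581 = N50728 := ded_34_2 (flp_d L693421) (flp_e L671469) (flp_d L670571) L692443 L713046
theorem L713052 : sm gi N50596 = N52582 := rfl
theorem L713054 : sm gc N52582 = N50598 := ded_33_1 (flp_i L692455) (flp_c L692445) L713052
theorem L713056 : sm ge N52582 = N50597 := ded_44_1 (flp_i L692447) L692443 L713052
theorem L713058 : sm gh N50597 = N52583 := rfl
theorem L713060 : sm gc N52583 = N50599 := ded_32_1 (flp_h L692461) (flp_c L692449) L713058
theorem L713062 : sm gf N52583 = N50841 := ded_47_1 (flp_h L694355) (flp_f L692453) L713058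
theorem L713064 : sm gh N50598 = N52584 := rfl
theorem L713066 : sm ge N52584 = N50599 := ded_43_1 (flp_h L692461) (flp_e L692459) L713064
theorem L713068 : sm ge N50600 = N52585 := rfl
theorem L713070 : sm gc N52585 = N50601 := ded_28_1 (flp_e L692474) L692465 L713068
theorem L713072 : sm gg N52585 = N50604 := ded_41_2 (flp_e L692497) (flp_g L692468) L713068
theorem L713074 : sm gh N52585 = N50642 := ded_43_2 (flp_e L692794) (flp_h L692470) L713068
theorem L713076 : sm gi N50600 = N52586 := rfl
theorem L713078 : sm gc N52586 = N50602 := ded_33_1 (flp_i L692480) L692465 L713076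
theorem L713080 : sm gd N52586 = N50732 := ded_39_1 (flp_i L693447) (flp_d L692472) L713076
theorem L713082 : sm gf N52586 = N52586 := ded_48_1 (flp_i L713076) L692467 L713076
theorem L713083 : sm gg N52586 = N50605 := ded_51_1 (flp_i L692505) (flp_g L692468) L713076
theorem L713085 : sm gf N50601 = N52587 := rfl
theorem L713087 : sm gh N52587 = N50644 := ded_47_2 (flp_f L692809) (flp_h L692478) L713085
theorem L713089 : sm ge N52587 = N52587 := ded_40_1 (flp_f L713085) (flp_e L692474) L670585 L692474 L713085
theorem L713090 : sm gi N50601 = N52588 := rfl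
theorem L713092 : sm ge N52588 = N50602 := ded_44_1 (flp_i L692480) L692474 L713090
theorem L713094 : sm gg N52588 = N50606 := ded_51_1 (flp_i L692515) (flp_g L692476) L713090
theorem L713096 : sm gh N50602 = N52589 := rfl
theorem L713098 : sm gf N52589 = N52589 := ded_47_1 (flp_h L713096) L692484 L713096
theorem L713099 : sm gg N52589 = N50607 := ded_50_1 (flp_h L692521) (flp_g L692485) L713096
theorem L713101 : sm gi N52589 = N50646 := ded_54_2 (flp_h L692818) (flp_i L670853) (flp_h L670588) L692480 L713096
theorem L713103 : sm ge N50603 = N52590 := rfl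
theorem L713105 : sm gb N52590 = N50604 := ded_21_1 (flp_e L692497) L692487 L713103
theorem L713107 : sm gj N52590 = N50609 := ded_42_2 (flp_e L692537) (flp_j L692493) L713103
theorem L713109 : sm gh N52590 = N50647 := ded_43_2 (flp_e L692823) (flp_h L692495) L713103
theorem L713111 : sm gi N50603 = N52591 := rfl
theorem L713113 : sm gb N52591 = N50605 := ded_26_1 (flp_i L692505) L692487 L713111
theorem L713115 : sm gd N52591 = N50733 := ded_39_1 (flp_i L693454) (flp_d L692489) L713111
theorem L713117 : sm gf N52591 = N50620 := ded_48_1 (flp_i L692616) (flp_f L692491) L713111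
theorem L713119 : sm gj N52591 = N50610 := ded_53_1 (flp_i L692543) (flp_j L692493) L713111
theorem L713121 : sm gd N50604 = N52592 := rfl
theorem L713123 : sm gj N52592 = N50611 := ded_37_2 (flp_d L692551) (flp_j L692501) L713121
theorem L713125 : sm ge N52592 = N50734 := ded_34_2 (flp_d L693465) (flp_e L671519) (flp_d L670605) L692497 L713121
theorem L713127 : sm gi N50604 = N52593 := rfl
theorem L713129 : sm gc N52593 = N50606 := ded_33_1 (flp_i L692515) (flp_c L692499) L713127
theorem L713131 : sm ge N52593 = N50605 := ded_44_1 (flp_i L692505) L692497 L713127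
theorem L713133 : sm gj N52593 = N50613 := ded_53_1 (flp_i L692563) (flp_j L692501) L713127
theorem L713135 : sm gh N50605 = N52594 := rfl
theorem L713137 : sm gc N52594 = N50607 := ded_32_1 (flp_h L692521) (flp_c L692507) L713135
theorem L713139 : sm gf N52594 = N50622 := ded_47_1 (flp_h L692635) (flp_f L692511) L713135
theorem L713141 : sm gj N52594 = N50614 := ded_52_1 (flp_h L692569) (flp_j L692513) L713135
theorem L713143 : sm gi N52594 = N50652 := ded_54_2 (flp_h L692865) (flp_i L670874) (flp_h L670603) L692505 L713135
theorem L713145 : sm gh N50606 = N52595 := rfl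
theorem L713147 : sm ge N52595 = N50607 := ded_43_1 (flp_h L692521) (flp_e L692517) L713145
theorem L713149 : sm gj N52595 = N50617 := ded_52_1 (flp_h L692589) (flp_j L692519) L713145
theorem L713151 : sm gi N52595 = N50655 := ded_54_2 (flp_h L692885) (flp_i L670890) (flp_h L670611) L692515 L713145
theorem L713153 : sm ge N50608 = N52596 := rfl
theorem L713155 : sm ga N52596 = N50609 := ded_13_1 (flp_e L692537) L692529 L713153
theorem L713157 : sm gh N52596 = N50656 := ded_43_2 (flp_e L692891) (flp_h L692535) L713153
theorem L713159 : sm gi N50608 = N52597 := rfl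
theorem L713161 : sm ga N52597 = N50610 := ded_18_1 (flp_i L692543) L692529 L713159
theorem L713163 : sm gd N52597 = N50736 := ded_39_1 (flp_i L693479) (flp_d L692531) L713159
theorem L713165 : sm gf N52597 = N50624 := ded_48_1 (flp_i L692655) (flp_f L692533) L713159
theorem L713167 : sm gd N50609 = N52598 := rfl
theorem L713169 : sm gb N52598 = N50611 := ded_20_1 (flp_d L692551) (flp_b L692539) L713167
theorem L713171 : sm ge N52598 = N50737 := ded_34_2 (flp_d L693486) (flp_e L671551) (flp_d L670623) L692537 L713167
theorem L713173 : sm gf N50609 = N52599 := rfl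
theorem L713175 : sm gb N52599 = N50612 := ded_22_1 (flp_f L692555) (flp_b L692539) L713173
theorem L713177 : sm gh N52599 = N50659 := ded_47_2 (flp_f L692911) (flp_h L692541) L713173
theorem L713179 : sm ge N52599 = N50625 := ded_40_1 (flp_f L692663) (flp_e L670713) (flp_f L670625) L692537 L713173
theorem L713181 : sm gi N50609 = N52600 := rfl
theorem L713183 : sm gb N52600 = N50613 := ded_26_1 (flp_i L692563) (flp_b L692539) L713181
theorem L713185 : sm ge N52600 = N50610 := ded_44_1 (flp_i L692543) L692537 L713181
theorem L713187 : sm gh N50610 = N52601 := rfl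
theorem L713189 : sm gb N52601 = N50614 := ded_25_1 (flp_h L692569) (flp_b L692545) L713187
theorem L713191 : sm gf N52601 = N50627 := ded_47_1 (flp_h L692679) (flp_f L692549) L713187
theorem L713193 : sm gi N52601 = N50661 := ded_54_2 (flp_h L692923) (flp_i L670912) (flp_h L670627) L692543 L713187
theorem L713195 : sm gf N50611 = N52602 := rfl
theorem L713197 : sm gd N52602 = N50612 := ded_35_1 (flp_f L692555) L692551 L713195
theorem L713199 : sm ge N52602 = N52602 := ded_40_1 (flp_f L713195) L692553 L671568 (flp_e L692553) L713195
theorem L713200 : sm gh N50611 = N52603 := rfl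
theorem L713202 : sm ge N52603 = N50739 := ded_43_1 (flp_h L693499) (flp_e L692553) L713200
theorem L713204 : sm gd N52603 = N50663 := ded_38_1 (flp_h L692935) (flp_d L670920) (flp_h L670633) L692551 L713200
theorem L713206 : sm gi N50611 = N52604 := rfl
theorem L713208 : sm gd N52604 = N50613 := ded_39_1 (flp_i L692563) L692551 L713206
theorem L713210 : sm ge N52604 = N50740 := ded_44_1 (flp_i L693504) (flp_e L692553) L713206
theorem L713212 : sm gg N50612 = N52605 := rfl
theorem L713214 : sm gc N52605 = N50615 := ded_30_1 (flp_g L692577) (flp_c L692557) L713212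
theorem L713216 : sm ge N52605 = N50628 := ded_41_1 (flp_g L692687) (flp_e L692561) L713212
theorem L713218 : sm gh N52605 = N50665 := ded_50_2 (flp_g L692945) (flp_h L692559) L713212
theorem L713220 : sm gi N50612 = N52606 := rfl
theorem L713222 : sm gc N52606 = N50616 := ded_33_1 (flp_i L692583) (flp_c L692557) L713220
theorem L713224 : sm ge N52606 = N50629 := ded_44_1 (flp_i L692696) (flp_e L692561) L713220
theorem L713226 : sm gf N52606 = N50613 := ded_48_1 (flp_i L692563) L692555 L713220
theorem L713228 : sm gh N50613 = N52607 := rfl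
theorem L713230 : sm gc N52607 = N50617 := ded_32_1 (flp_h L692589) (flp_c L692565) L713228
theorem L713232 : sm ge N52607 = N50614 := ded_43_1 (flp_h L692569) (flp_e L692567) L713228
theorem L713234 : sm gi N52607 = N50667 := ded_54_2 (flp_h L692959) (flp_i L670930) (flp_h L670633) L692563 L713228
theorem L713236 : sm gj N50615 = N52608 := rfl
theorem L713238 : sm ge N52608 = N50631 := ded_42_1 (flp_j L692713) (flp_e L692579) L713236
theorem L713240 : sm gh N52608 = N50669 := ded_52_2 (flp_j L692971) (flp_h L692581) L713236
theorem L713242 : sm gi N50615 = N52609 := rfl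
theorem L713244 : sm ge N52609 = N50632 := ded_44_1 (flp_i L692721) (flp_e L692579) L713242
theorem L713246 : sm gg N52609 = N50616 := ded_51_1 (flp_i L692583) L692577 L713242
theorem L713248 : sm gh N50616 = N52610 := rfl
theorem L713250 : sm ge N52610 = N50633 := ded_43_1 (flp_h L692729) (flp_e L692585) L713248
theorem L713252 : sm gf N52610 = N50617 := ded_47_1 (flp_h L692589) (flp_f L692587) L713248
theorem L713254 : sm gi N52610 = N50671 := ded_54_2 (flp_h L692981) (flp_i L670946) (flp_h L670645) L692583 L713248
theorem L713256 : sm gd N50617 = N52611 := rfl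
theorem L713258 : sm gi N52611 = N50672 := ded_39_2 (flp_d L692987) (flp_i L692593) L713256
theorem L713260 : sm gi N50618 = N52612 := rfl
theorem L713262 : sm ga N52612 = N50620 := ded_18_1 (flp_i L692616) L692595 L713260
theorem L713264 : sm gd N52612 = N50741 := ded_39_1 (flp_i L693509) (flp_d L692597) L713260
theorem L713266 : sm gg N52612 = N52612 := ded_51_1 (flp_i L713260) L692599 L713260
theorem L713267 : sm gj N52612 = N50624 := ded_53_1 (flp_i L692655) (flp_j L692600) L713260
theorem L713269 : sm gi N50619 = N52613 := rfl
theorem L713271 : sm gb N52613 = N50621 := ded_26_1 (flp_i L692625) (flp_b L692606) L713269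
theorem L713273 : sm gc N52613 = N50840 := ded_33_1 (flp_i L694348) (flp_c L692608) L713269
theorem L713275 : sm gd N52613 = N52613 := ded_39_1 (flp_i L713269) L692615 L713269
theorem L713276 : sm ge N52613 = N50620 := ded_44_1 (flp_i L692616) L692604 L713269
theorem L713278 : sm gg N52613 = N52613 := ded_51_1 (flp_i L713269) L692610 L713269
theorem L713279 : sm gj N52613 = N50626 := ded_53_1 (flp_i L692670) (flp_j L692611) L713269
theorem L713281 : sm gh N50620 = N52614 := rfl
theorem L713283 : sm gb N52614 = N50622 := ded_25_1 (flp_h L692635) (flp_b L692618) L713281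
theorem L713285 : sm gg N52614 = N52614 := ded_50_1 (flp_h L713281) L692622 L713281
theorem L713286 : sm gj N52614 = N50627 := ded_52_1 (flp_h L692679) (flp_j L692623) L713281
theorem L713288 : sm gd N52614 = N50836 := ded_38_1 (flp_h L694324) L672841 (flp_h L671594) (flp_d L692620) L713281
theorem L713290 : sm gi N52614 = N50677 := ded_54_2 (flp_h L693026) (flp_i L670972) (flp_h L670666) L692616 L713281
theorem L713292 : sm gh N50621 = N52615 := rfl
theorem L713294 : sm gc N52615 = N50623 := ded_32_1 (flp_h L692644) (flp_c L692627) L713292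
theorem L713296 : sm ge N52615 = N50622 := ded_43_1 (flp_h L692635) (flp_e L692630) L713292
theorem L713298 : sm gg N52615 = N52615 := ded_50_1 (flp_h L713292) L692632 L713292
theorem L713299 : sm gj N52615 = N50630 := ded_52_1 (flp_h L692703) (flp_j L692633) L713292
theorem L713301 : sm gi N52615 = N50679 := ded_54_2 (flp_h L693045) (flp_i L670989) (flp_h L670675) L692625 L713292
theorem L713303 : sm gh N50624 = N52616 := rfl
theorem L713305 : sm ga N52616 = N50627 := ded_17_1 (flp_h L692679) (flp_a L692657) L713303
theorem L713307 : sm gg N52616 = N50634 := ded_50_1 (flp_h L692735) (flp_g L692661) L713303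
theorem L713309 : sm gi N52616 = N50686 := ded_54_2 (flp_h L693099) (flp_i L671035) (flp_h L670711) L692655 L713303
theorem L713311 : sm gi N50625 = N52617 := rfl
theorem L713313 : sm gb N52617 = N50629 := ded_26_1 (flp_i L692696) (flp_b L692665) L713311
theorem L713315 : sm gd N52617 = N52617 := ded_39_1 (flp_i L713311) L692667 L713311
theorem L713316 : sm gf N52617 = N50626 := ded_48_1 (flp_i L692670) L692663 L713311
theorem L713318 : sm gh N50626 = N52618 := rfl
theorem L713320 : sm gb N52618 = N50630 := ded_25_1 (flp_h L692703) (flp_b L692672) L713318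
theorem L713322 : sm ge N52618 = N50627 := ded_43_1 (flp_h L692679) (flp_e L692675) L713318
theorem L713324 : sm gg N52618 = N50635 := ded_50_1 (flp_h L692742) (flp_g L692677) L713318
theorem L713326 : sm gi N52618 = N50689 := ded_54_2 (flp_h L693121) (flp_i L671049) (flp_h L670719) L692670 L713318
theorem L713328 : sm gj N50628 = N52619 := rfl
theorem L713330 : sm gc N52619 = N50631 := ded_31_1 (flp_j L692713) (flp_c L692689) L713328
theorem L713332 : sm gd N52619 = N52619 := ded_37_1 (flp_j L713328) L692691 L713328
theorem L713333 : sm gf N52619 = N50636 := ded_46_1 (flp_j L692751) (flp_f L692694) L713328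
theorem L713335 : sm gh N52619 = N50691 := ded_52_2 (flp_j L693139) (flp_h L692692) L713328
theorem L713337 : sm gi N50628 = N52620 := rfl
theorem L713339 : sm gc N52620 = N50632 := ded_33_1 (flp_i L692721) (flp_c L692689) L713337
theorem L713341 : sm gd N52620 = N52620 := ded_39_1 (flp_i L713337) L692691 L713337
theorem L713342 : sm gf N52620 = N50637 := ded_48_1 (flp_i L692759) (flp_f L692694) L713337
theorem L713344 : sm gg N52620 = N50629 := ded_51_1 (flp_i L692696) L692687 L713337
theorem L713346 : sm gh N50629 = N52621 := rfl
theorem L713348 : sm gc N52621 = N50633 := ded_32_1 (flp_h L692729) (flp_c L692698) L713346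
theorem L713350 : sm gf N52621 = N50630 := ded_47_1 (flp_h L692703) (flp_f L692701) L713346
theorem L713352 : sm gi N52621 = N50693 := ded_54_2 (flp_h L693157) (flp_i L671073) (flp_h L670735) L692696 L713346
theorem L713354 : sm gd N50630 = N52622 := rfl
theorem L713356 : sm gg N52622 = N50639 := ded_36_2 (flp_d L692775) (flp_g L692709) L713354
theorem L713358 : sm gi N52622 = N50694 := ded_39_2 (flp_d L693163) (flp_i L692711) L713354
theorem L713360 : sm gh N52622 = N52622 := ded_38_2 (flp_d L713354) (flp_h L692703) L670741 L692703 L713354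
theorem L713361 : sm gi N50631 = N52623 := rfl
theorem L713363 : sm gd N52623 = N50842 := ded_39_1 (flp_i L694360) (flp_d L692715) L713361
theorem L713365 : sm gf N52623 = N50640 := ded_48_1 (flp_i L692781) (flp_f L692717) L713361
theorem L713367 : sm gj N52623 = N50632 := ded_53_1 (flp_i L692721) L692713 L713361
theorem L713369 : sm gh N50632 = N52624 := rfl
theorem L713371 : sm gf N52624 = N50641 := ded_47_1 (flp_h L692788) (flp_f L692725) L713369
theorem L713373 : sm gg N52624 = N50633 := ded_50_1 (flp_h L692729) (flp_g L692727) L713369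
theorem L713375 : sm gi N52624 = N50697 := ded_54_2 (flp_h L693183) (flp_i L671101) (flp_h L670758) L692721 L713369
theorem L713377 : sm gd N50635 = N52625 := rfl
theorem L713379 : sm gb N52625 = N50639 := ded_20_1 (flp_d L692775) (flp_b L692744) L713377
theorem L713381 : sm gj N52625 = N52625 := ded_37_2 (flp_d L713377) L692748 L713377
theorem L713382 : sm gi N52625 = N50702 := ded_39_2 (flp_d L693220) (flp_i L692749) L713377
theorem L713384 : sm gh N52625 = N52625 := ded_38_2 (flp_d L713377) (flp_h L692742) L670787 L692742 L713377
theorem L713385 : sm gi N50636 = N52626 := rfl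
theorem L713387 : sm gc N52626 = N50640 := ded_33_1 (flp_i L692781) (flp_c L692753) L713385
theorem L713389 : sm gd N52626 = N52626 := ded_39_1 (flp_i L713385) L692755 L713385
theorem L713390 : sm gg N52626 = N52626 := ded_51_1 (flp_i L713385) L692758 L713385
theorem L713391 : sm gj N52626 = N50637 := ded_53_1 (flp_i L692759) L692751 L713385
theorem L713393 : sm gh N50637 = N52627 := rfl
theorem L713395 : sm gc N52627 = N50641 := ded_32_1 (flp_h L692788) (flp_c L692761) L713393
theorem L713397 : sm gg N52627 = N50638 := ded_50_1 (flp_h L692766) (flp_g L692764) L713393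
theorem L713399 : sm gi N52627 = N50704 := ded_54_2 (flp_h L693236) (flp_i L671163) (flp_h L670803) L692759 L713393
theorem L713401 : sm gd N50638 = N52628 := rfl
theorem L713403 : sm gf N52628 = N50639 := ded_35_2 (flp_d L692775) (flp_f L692770) L713401
theorem L713405 : sm gj N52628 = N52628 := ded_37_2 (flp_d L713401) L692772 L713401
theorem L713406 : sm gi N52628 = N50705 := ded_39_2 (flp_d L693242) (flp_i L692773) L713401
theorem L713408 : sm gh N52628 = N52628 := ded_38_2 (flp_d L713401) (flp_h L692766) L670809 L692766 L713401
theorem L713409 : sm gh N50640 = N52629 := rfl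
theorem L713411 : sm gg N52629 = N52629 := ded_50_1 (flp_h L713409) L692785 L713409
theorem L713412 : sm gj N52629 = N50641 := ded_52_1 (flp_h L692788) (flp_j L692786) L713409
theorem L713414 : sm gi N52629 = N50707 := ded_54_2 (flp_h L693256) (flp_i L671188) (flp_h L670826) L692781 L713409
theorem L713416 : sm gf N50642 = N52630 := rfl
theorem L713418 : sm gc N52630 = N50644 := ded_29_1 (flp_f L692809) (flp_c L692796) L713416
theorem L713420 : sm ge N52630 = N52630 := ded_40_1 (flp_f L713416) (flp_e L692794) L670844 L692794 L713416
theorem L713421 : sm gi N50642 = N52631 := rfl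
theorem L713423 : sm gc N52631 = N50645 := ded_33_1 (flp_i L692812) (flp_c L692796) L713421
theorem L713425 : sm ge N52631 = N50643 := ded_44_1 (flp_i L692800) L692794 L713421
theorem L713427 : sm gg N52631 = N50651 := ded_51_1 (flp_i L692857) (flp_g L692798) L713421
theorem L713429 : sm gh N50643 = N52632 := rfl
theorem L713431 : sm gc N52632 = N50646 := ded_32_1 (flp_h L692818) (flp_c L692802) L713429
theorem L713433 : sm gf N52632 = N52632 := ded_47_1 (flp_h L713429) L692806 L713429
theorem L713434 : sm gg N52632 = N50652 := ded_50_1 (flp_h L692865) (flp_g L692807) L713429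
theorem L713436 : sm gg N50644 = N52633 := rfl
theorem L713438 : sm ge N52633 = N52633 := ded_41_1 (flp_g L713436) L692811 L713436
theorem L713439 : sm gf N52633 = N50653 := ded_45_1 (flp_g L692873) (flp_f L670884) (flp_g L670851) L692809 L713436
theorem L713441 : sm gi N50644 = N52634 := rfl
theorem L713443 : sm ge N52634 = N52634 := ded_44_1 (flp_i L713441) L692811 L713441
theorem L713444 : sm gf N52634 = N50645 := ded_48_1 (flp_i L692812) L692809 L713441
theorem L713446 : sm gh N50645 = N52635 := rfl
theorem L713448 : sm ge N52635 = N50646 := ded_43_1 (flp_h L692818) (flp_e L692814) L713446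
theorem L713450 : sm gg N52635 = N50655 := ded_50_1 (flp_h L692885) (flp_g L692816) L713446
theorem L713452 : sm gf N50647 = N52636 := rfl
theorem L713454 : sm gb N52636 = N50650 := ded_22_1 (flp_f L692849) (flp_b L692825) L713452
theorem L713456 : sm gd N52636 = N50743 := ded_35_1 (flp_f L693526) (flp_d L692829) L713452
theorem L713458 : sm gj N52636 = N50659 := ded_46_2 (flp_f L692911) (flp_j L692827) L713452
theorem L713460 : sm ge N52636 = N50675 := ded_40_1 (flp_f L693007) (flp_e L670963) (flp_f L670864) L692823 L713452
theorem L713462 : sm gi N50647 = N52637 := rfl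
theorem L713464 : sm gb N52637 = N50651 := ded_26_1 (flp_i L692857) (flp_b L692825) L713462
theorem L713466 : sm gd N52637 = N50713 := ded_39_1 L693302 (flp_d L692829) L713462
theorem L713468 : sm ge N52637 = N50648 := ded_44_1 (flp_i L692831) L692823 L713462
theorem L713470 : sm gj N52637 = N50660 := ded_53_1 (flp_i L692917) (flp_j L692827) L713462
theorem L713472 : sm gh N50648 = N52638 := rfl
theorem L713474 : sm gb N52638 = N50652 := ded_25_1 (flp_h L692865) (flp_b L692833) L713472
theorem L713476 : sm gf N52638 = N50677 := ded_47_1 (flp_h L693026) (flp_f L692837) L713472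
theorem L713478 : sm gj N52638 = N50661 := ded_52_1 (flp_h L692923) (flp_j L692839) L713472
theorem L713480 : sm gd N52638 = N50712 := ded_38_1 (flp_h L693296) L671304 (flp_h L671242) (flp_d L692835) L713472
theorem L713482 : sm gi N50649 = N52639 := rfl
theorem L713484 : sm gb N52639 = N50713 := ded_26_1 L693302 (flp_b L692843) L713482
theorem L713486 : sm gd N52639 = N50651 := ded_39_1 (flp_i L692857) L692841 L713482
theorem L713488 : sm ge N52639 = N50709 := ded_44_1 (flp_i L693270) (flp_e L692847) L713482
theorem L713490 : sm gj N52639 = N50664 := ded_53_1 (flp_i L692939) (flp_j L692845) L713482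
theorem L713492 : sm gi N50650 = N52640 := rfl
theorem L713494 : sm gc N52640 = N50654 := ded_33_1 (flp_i L692877) (flp_c L692851) L713492
theorem L713496 : sm ge N52640 = N50678 := ded_44_1 (flp_i L693035) (flp_e L692855) L713492
theorem L713498 : sm gf N52640 = N50651 := ded_48_1 (flp_i L692857) L692849 L713492
theorem L713500 : sm gj N52640 = N50666 := ded_53_1 (flp_i L692951) (flp_j L692853) L713492
theorem L713502 : sm gh N50651 = N52641 := rfl
theorem L713504 : sm gc N52641 = N50655 := ded_32_1 (flp_h L692885) (flp_c L692859) L713502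
theorem L713506 : sm ge N52641 = N50652 := ded_43_1 (flp_h L692865) (flp_e L692861) L713502
theorem L713508 : sm gj N52641 = N50667 := ded_52_1 (flp_h L692959) (flp_j L692863) L713502
theorem L713510 : sm gd N50652 = N52642 := rfl
theorem L713512 : sm gb N52642 = N50712 := ded_20_1 (flp_d L713480) L713474 L713510
theorem L713514 : sm gf N52642 = N50680 := ded_35_2 (flp_d L693054) (flp_f L692869) L713510
theorem L713516 : sm gj N52642 = N50668 := ded_37_2 (flp_d L692965) (flp_j L692871) L713510
theorem L713518 : sm gh N52642 = N50710 := ded_38_2 (flp_d L693280) (flp_h L671266) (flp_d L670878) L692865 L713510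
theorem L713520 : sm gj N50653 = N52643 := rfl
theorem L713522 : sm ge N52643 = N50681 := ded_42_1 (flp_j L693063) (flp_e L692875) L713520
theorem L713524 : sm gg N52643 = N50669 := ded_49_1 (flp_j L692971) (flp_g L670942) (flp_j L670886) L692873 L713520
theorem L713526 : sm gi N50653 = N52644 := rfl
theorem L713528 : sm ge N52644 = N50682 := ded_44_1 (flp_i L693070) (flp_e L692875) L713526
theorem L713530 : sm gg N52644 = N50654 := ded_51_1 (flp_i L692877) L692873 L713526
theorem L713532 : sm gh N50654 = N52645 := rfl
theorem L713534 : sm ge N52645 = N50683 := ded_43_1 (flp_h L693077) (flp_e L692879) L713532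
theorem L713536 : sm gf N52645 = N50655 := ded_47_1 (flp_h L692885) (flp_f L692881) L713532
theorem L713538 : sm gj N52645 = N50671 := ded_52_1 (flp_h L692981) (flp_j L692883) L713532
theorem L713540 : sm gd N50655 = N52646 := rfl
theorem L713542 : sm gj N52646 = N50672 := ded_37_2 (flp_d L692987) (flp_j L692889) L713540
theorem L713544 : sm gf N50656 = N52647 := rfl
theorem L713546 : sm ga N52647 = N50659 := ded_14_1 (flp_f L692911) (flp_a L692893) L713544
theorem L713548 : sm ge N52647 = N50684 := ded_40_1 (flp_f L693083) (flp_e L671027) (flp_f L670906) L692891 L713544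
theorem L713550 : sm gi N50656 = N52648 := rfl
theorem L713552 : sm ga N52648 = N50660 := ded_18_1 (flp_i L692917) (flp_a L692893) L713550
theorem L713554 : sm ge N52648 = N50657 := ded_44_1 (flp_i L692895) L692891 L713550
theorem L713556 : sm gh N50657 = N52649 := rfl
theorem L713558 : sm ga N52649 = N50661 := ded_17_1 (flp_h L692923) (flp_a L692897) L713556
theorem L713560 : sm gf N52649 = N50686 := ded_47_1 (flp_h L693099) (flp_f L692901) L713556
theorem L713562 : sm gf N50658 = N52650 := rfl
theorem L713564 : sm gb N52650 = N50662 := ded_22_1 (flp_f L692929) (flp_b L692905) L713562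
theorem L713566 : sm gd N52650 = N50659 := ded_35_1 (flp_f L692911) L692903 L713562
theorem L713568 : sm gj N52650 = N50743 := ded_46_2 (flp_f L693526) (flp_j L692907) L713562
theorem L713570 : sm ge N52650 = N50744 := ded_40_1 (flp_f L693530) (flp_e L671617) (flp_f L671292) (flp_e L692909) L713562
theorem L713572 : sm gi N50658 = N52651 := rfl
theorem L713574 : sm gb N52651 = N50664 := ded_26_1 (flp_i L692939) (flp_b L692905) L713572
theorem L713576 : sm gd N52651 = N50660 := ded_39_1 (flp_i L692917) L692903 L713572
theorem L713578 : sm ge N52651 = N50710 := ded_44_1 L693288 (flp_e L692909) L713572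
theorem L713580 : sm gj N52651 = N50713 := ded_53_1 L693302 (flp_j L692907) L713572
theorem L713582 : sm gg N50659 = N52652 := rfl
theorem L713584 : sm gb N52652 = N50665 := ded_23_1 (flp_g L692945) (flp_b L692913) L713582
theorem L713586 : sm ge N52652 = N50687 := ded_41_1 (flp_g L693105) (flp_e L692915) L713582
theorem L713588 : sm gi N50659 = N52653 := rfl
theorem L713590 : sm gb N52653 = N50666 := ded_26_1 (flp_i L692951) (flp_b L692913) L713588
theorem L713592 : sm ge N52653 = N50688 := ded_44_1 (flp_i L693113) (flp_e L692915) L713588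
theorem L713594 : sm gf N52653 = N50660 := ded_48_1 (flp_i L692917) L692911 L713588
theorem L713596 : sm gh N50660 = N52654 := rfl
theorem L713598 : sm gb N52654 = N50667 := ded_25_1 (flp_h L692959) (flp_b L692919) L713596
theorem L713600 : sm ge N52654 = N50661 := ded_43_1 (flp_h L692923) (flp_e L692921) L713596
theorem L713602 : sm gd N50661 = N52655 := rfl
theorem L713604 : sm gb N52655 = N50668 := ded_20_1 (flp_d L692965) (flp_b L692925) L713602
theorem L713606 : sm gf N52655 = N50690 := ded_35_2 (flp_d L693129) (flp_f L692927) L713602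
theorem L713608 : sm gj N52655 = N50712 := ded_37_2 (flp_d L713480) L713478 L713602
theorem L713610 : sm gh N52655 = N50709 := ded_38_2 L693274 L671264 (flp_d L670916) L692923 L713602
theorem L713612 : sm gg N50662 = N52656 := rfl
theorem L713614 : sm gd N52656 = N50665 := ded_36_1 (flp_g L692945) (flp_d L692931) L713612
theorem L713616 : sm ge N52656 = N50803 := ded_41_1 (flp_g L694062) (flp_e L692933) L713612
theorem L713618 : sm gh N50662 = N52657 := rfl
theorem L713620 : sm ge N52657 = N50804 := ded_43_1 (flp_h L694067) (flp_e L692933) L713618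
theorem L713622 : sm gf N52657 = N50663 := ded_47_1 (flp_h L692935) L692929 L713618
theorem L713624 : sm gi N50662 = N52658 := rfl
theorem L713626 : sm gd N52658 = N50666 := ded_39_1 (flp_i L692951) (flp_d L692931) L713624
theorem L713628 : sm ge N52658 = N50805 := ded_44_1 (flp_i L694072) (flp_e L692933) L713624
theorem L713630 : sm gf N52658 = N50664 := ded_48_1 (flp_i L692939) L692929 L713624
theorem L713632 : sm gi N50663 = N52659 := rfl
theorem L713634 : sm ge N52659 = N50711 := ded_44_1 (flp_i L693290) (flp_e L692937) L713632
theorem L713636 : sm gh N50664 = N52660 := rfl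
theorem L713638 : sm ge N52660 = N50712 := ded_43_1 (flp_h L693296) (flp_e L692943) L713636
theorem L713640 : sm gj N50665 = N52661 := rfl
theorem L713642 : sm gc N52661 = N50669 := ded_31_1 (flp_j L692971) (flp_c L692947) L713640
theorem L713644 : sm ge N52661 = N50691 := ded_42_1 (flp_j L693139) (flp_e L692949) L713640
theorem L713646 : sm gi N50665 = N52662 := rfl
theorem L713648 : sm gc N52662 = N50670 := ded_33_1 (flp_i L692975) (flp_c L692947) L713646
theorem L713650 : sm ge N52662 = N50692 := ded_44_1 (flp_i L693147) (flp_e L692949) L713646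
theorem L713652 : sm gg N52662 = N50666 := ded_51_1 (flp_i L692951) L692945 L713646
theorem L713654 : sm gh N50666 = N52663 := rfl
theorem L713656 : sm gc N52663 = N50671 := ded_32_1 (flp_h L692981) (flp_c L692953) L713654
theorem L713658 : sm ge N52663 = N50693 := ded_43_1 (flp_h L693157) (flp_e L692955) L713654
theorem L713660 : sm gf N52663 = N50667 := ded_47_1 (flp_h L692959) (flp_f L692957) L713654
theorem L713662 : sm gd N50667 = N52664 := rfl
theorem L713664 : sm ge N50668 = N52665 := rfl
theorem L713666 : sm gh N52665 = N50713 := ded_43_2 (flp_e L693300) (flp_h L692969) L713664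
theorem L713668 : sm gi N50669 = N52666 := rfl
theorem L713670 : sm ge N52666 = N50696 := ded_44_1 (flp_i L693175) (flp_e L692973) L713668
theorem L713672 : sm gj N52666 = N50670 := ded_53_1 (flp_i L692975) L692971 L713668
theorem L713674 : sm gh N50670 = N52667 := rfl
theorem L713676 : sm ge N52667 = N50697 := ded_43_1 (flp_h L693183) (flp_e L692977) L713674
theorem L713678 : sm gg N52667 = N50671 := ded_50_1 (flp_h L692981) (flp_g L692979) L713674
theorem L713680 : sm gd N50671 = N52668 := rfl
theorem L713682 : sm gf N52668 = N50672 := ded_35_2 (flp_d L692987) (flp_f L692985) L713680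
theorem L713684 : sm gc N50672 = N52669 := rfl
theorem L713686 : sm gf N50673 = N52670 := rfl
theorem L713688 : sm ga N52670 = N50675 := ded_14_1 (flp_f L693007) (flp_a L692991) L713686
theorem L713690 : sm gd N52670 = N50815 := ded_35_1 (flp_f L694150) (flp_d L692996) L713686
theorem L713692 : sm gj N52670 = N50684 := ded_46_2 (flp_f L693083) (flp_j L692994) L713686
theorem L713694 : sm gi N50673 = N52671 := rfl
theorem L713696 : sm ga N52671 = N50676 := ded_18_1 (flp_i L693015) (flp_a L692991) L713694
theorem L713698 : sm gd N52671 = N50796 := ded_39_1 L694002 (flp_d L692996) L713694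
theorem L713700 : sm ge N52671 = N50674 := ded_44_1 (flp_i L692998) L692989 L713694
theorem L713702 : sm gg N52671 = N52671 := ded_51_1 (flp_i L713694) L692993 L713694
theorem L713703 : sm gj N52671 = N50685 := ded_53_1 (flp_i L693089) (flp_j L692994) L713694
theorem L713705 : sm gh N50674 = N52672 := rfl
theorem L713707 : sm ga N52672 = N50677 := ded_17_1 (flp_h L693026) (flp_a L693000) L713705
theorem L713709 : sm gg N52672 = N52672 := ded_50_1 (flp_h L713705) L693004 L713705
theorem L713710 : sm gj N52672 = N50686 := ded_52_1 (flp_h L693099) (flp_j L693005) L713705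
theorem L713712 : sm gd N52672 = N50795 := ded_38_1 (flp_h L693989) L672404 (flp_h L671325) (flp_d L693002) L713705
theorem L713714 : sm gi N50675 = N52673 := rfl
theorem L713716 : sm gb N52673 = N50678 := ded_26_1 (flp_i L693035) (flp_b L693009) L713714
theorem L713718 : sm gd N52673 = N50816 := ded_39_1 (flp_i L694160) (flp_d L693011) L713714
theorem L713720 : sm gf N52673 = N50676 := ded_48_1 (flp_i L693015) L693007 L713714
theorem L713722 : sm gj N52673 = N50688 := ded_53_1 (flp_i L693113) (flp_j L693013) L713714
theorem L713724 : sm gh N50676 = N52674 := rfl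
theorem L713726 : sm gb N52674 = N50679 := ded_25_1 (flp_h L693045) (flp_b L693017) L713724
theorem L713728 : sm ge N52674 = N50677 := ded_43_1 (flp_h L693026) (flp_e L693021) L713724
theorem L713730 : sm gg N52674 = N52674 := ded_50_1 (flp_h L713724) L693023 L713724
theorem L713731 : sm gj N52674 = N50689 := ded_52_1 (flp_h L693121) (flp_j L693024) L713724
theorem L713733 : sm gh N50678 = N52675 := rfl
theorem L713735 : sm gc N52675 = N50683 := ded_32_1 (flp_h L693077) (flp_c L693037) L713733
theorem L713737 : sm gf N52675 = N50679 := ded_47_1 (flp_h L693045) (flp_f L693041) L713733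
theorem L713739 : sm gj N52675 = N50693 := ded_52_1 (flp_h L693157) (flp_j L693043) L713733
theorem L713741 : sm gd N50679 = N52676 := rfl
theorem L713743 : sm gg N52676 = N52676 := ded_36_2 (flp_d L713741) L693051 L713741
theorem L713744 : sm gj N52676 = N50694 := ded_37_2 (flp_d L693163) (flp_j L693052) L713741
theorem L713746 : sm gh N52676 = N50818 := ded_38_2 (flp_d L694180) (flp_h L672622) (flp_d L670993) L693045 L713741
theorem L713748 : sm ge N50680 = N52677 := rfl
theorem L713750 : sm gb N52677 = N50807 := ded_21_1 L694086 (flp_b L693056) L713748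
theorem L713752 : sm gg N52677 = N52677 := ded_41_2 (flp_e L713748) L693058 L713748
theorem L713753 : sm gj N52677 = N50695 := ded_42_2 (flp_e L693169) (flp_j L693059) L713748
theorem L713755 : sm gh N52677 = N50714 := ded_43_2 (flp_e L693304) (flp_h L693061) L713748
theorem L713757 : sm gi N50681 = N52678 := rfl
theorem L713759 : sm gd N52678 = N50708 := ded_39_1 (flp_i L693261) (flp_d L693065) L713757
theorem L713761 : sm gf N52678 = N52678 := ded_48_1 (flp_i L713757) L693067 L713757
theorem L713762 : sm gg N52678 = N50696 := ded_51_1 (flp_i L693175) (flp_g L693068) L713757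
theorem L713764 : sm gj N52678 = N50682 := ded_53_1 (flp_i L693070) L693063 L713757
theorem L713766 : sm gh N50682 = N52679 := rfl
theorem L713768 : sm gf N52679 = N52679 := ded_47_1 (flp_h L713766) L693074 L713766
theorem L713769 : sm gg N52679 = N50683 := ded_50_1 (flp_h L693077) (flp_g L693075) L713766
theorem L713771 : sm gi N50684 = N52680 := rfl
theorem L713773 : sm ga N52680 = N50688 := ded_18_1 (flp_i L693113) (flp_a L693085) L713771
theorem L713775 : sm gd N52680 = N50819 := ded_39_1 (flp_i L694186) (flp_d L693087) L713771
theorem L713777 : sm gf N52680 = N50685 := ded_48_1 (flp_i L693089) L693083 L713771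
theorem L713779 : sm gh N50685 = N52681 := rfl
theorem L713781 : sm ga N52681 = N50689 := ded_17_1 (flp_h L693121) (flp_a L693091) L713779
theorem L713783 : sm ge N52681 = N50686 := ded_43_1 (flp_h L693099) (flp_e L693095) L713779
theorem L713785 : sm gg N52681 = N50698 := ded_50_1 (flp_h L693189) (flp_g L693097) L713779
theorem L713787 : sm gi N50687 = N52682 := rfl
theorem L713789 : sm gb N52682 = N50692 := ded_26_1 (flp_i L693147) (flp_b L693107) L713787
theorem L713791 : sm gd N52682 = N50821 := ded_39_1 (flp_i L694203) (flp_d L693109) L713787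
theorem L713793 : sm gf N52682 = N50700 := ded_48_1 (flp_i L693205) (flp_f L693111) L713787
theorem L713795 : sm gg N52682 = N50688 := ded_51_1 (flp_i L693113) L693105 L713787
theorem L713797 : sm gh N50688 = N52683 := rfl
theorem L713799 : sm gb N52683 = N50693 := ded_25_1 (flp_h L693157) (flp_b L693115) L713797
theorem L713801 : sm gf N52683 = N50689 := ded_47_1 (flp_h L693121) (flp_f L693119) L713797
theorem L713803 : sm gd N50689 = N52684 := rfl
theorem L713805 : sm gb N52684 = N50694 := ded_20_1 (flp_d L693163) (flp_b L693123) L713803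
theorem L713807 : sm gg N52684 = N50702 := ded_36_2 (flp_d L693220) (flp_g L693127) L713803
theorem L713809 : sm gh N52684 = N50823 := ded_38_2 (flp_d L694220) (flp_h L672678) (flp_d L671053) L693121 L713803
theorem L713811 : sm gi N50691 = N52685 := rfl
theorem L713813 : sm gc N52685 = N50696 := ded_33_1 (flp_i L693175) (flp_c L693141) L713811
theorem L713815 : sm gd N52685 = N50824 := ded_39_1 (flp_i L694227) (flp_d L693143) L713811
theorem L713817 : sm gf N52685 = N50703 := ded_48_1 (flp_i L693227) (flp_f L693145) L713811
theorem L713819 : sm gj N52685 = N50692 := ded_53_1 (flp_i L693147) L693139 L713811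
theorem L713821 : sm gh N50692 = N52686 := rfl
theorem L713823 : sm gc N52686 = N50697 := ded_32_1 (flp_h L693183) (flp_c L693149) L713821
theorem L713825 : sm gf N52686 = N50704 := ded_47_1 (flp_h L693236) (flp_f L693153) L713821
theorem L713827 : sm gg N52686 = N50693 := ded_50_1 (flp_h L693157) (flp_g L693155) L713821
theorem L713829 : sm gd N50693 = N52687 := rfl
theorem L713831 : sm gf N52687 = N50694 := ded_35_2 (flp_d L693163) (flp_f L693161) L713829
theorem L713833 : sm gh N52687 = N50826 := ded_38_2 (flp_d L694244) (flp_h L672703) (flp_d L671077) L693157 L713829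
theorem L713835 : sm ge N50694 = N52688 := rfl
theorem L713837 : sm gg N52688 = N50706 := ded_41_2 (flp_e L693249) (flp_g L693165) L713835
theorem L713839 : sm gh N52688 = N50827 := ded_43_2 (flp_e L694249) (flp_h L693167) L713835
theorem L713841 : sm gd N52688 = N50695 := ded_34_1 (flp_e L693169) (flp_d L671089) (flp_e L671085) L693163 L713835
theorem L713843 : sm gf N50695 = N52689 := rfl
theorem L713845 : sm gh N52689 = N50715 := ded_47_2 (flp_f L693315) (flp_h L693173) L713843
theorem L713847 : sm gh N50696 = N52690 := rfl
theorem L713849 : sm gf N52690 = N50707 := ded_47_1 (flp_h L693256) (flp_f L693179) L713847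
theorem L713851 : sm gj N52690 = N50697 := ded_52_1 (flp_h L693183) (flp_j L693181) L713847
theorem L713853 : sm gi N50699 = N52691 := rfl
theorem L713855 : sm ga N52691 = N50840 := ded_18_1 (flp_i L694348) (flp_a L693198) L713853
theorem L713857 : sm gb N52691 = N50703 := ded_26_1 (flp_i L693227) (flp_b L693200) L713853
theorem L713859 : sm gd N52691 = N50831 := ded_39_1 (flp_i L694284) (flp_d L693202) L713853
theorem L713861 : sm gg N52691 = N52691 := ded_51_1 (flp_i L713853) L693204 L713853
theorem L713862 : sm gj N52691 = N50700 := ded_53_1 (flp_i L693205) L693196 L713853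
theorem L713864 : sm gh N50700 = N52692 := rfl
theorem L713866 : sm gb N52692 = N50704 := ded_25_1 (flp_h L693236) (flp_b L693207) L713864
theorem L713868 : sm gg N52692 = N50701 := ded_50_1 (flp_h L693213) (flp_g L693211) L713864
theorem L713870 : sm gd N50701 = N52693 := rfl
theorem L713872 : sm gb N52693 = N50705 := ded_20_1 (flp_d L693242) (flp_b L693215) L713870
theorem L713874 : sm gf N52693 = N50702 := ded_35_2 (flp_d L693220) (flp_f L693217) L713870
theorem L713876 : sm gj N52693 = N52693 := ded_37_2 (flp_d L713870) L693219 L713870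
theorem L713877 : sm gh N52693 = N50833 := ded_38_2 (flp_d L694304) (flp_h L672787) (flp_d L671137) L693213 L713870
theorem L713879 : sm gc N50702 = N52694 := rfl
theorem L713881 : sm ge N52694 = N50705 := ded_28_2 (flp_c L698280) L698282 L713879
theorem L713883 : sm gj N52694 = N52694 := ded_31_2 (flp_c L713879) L693224 L713879
theorem L713884 : sm gh N52694 = N50834 := ded_32_2 (flp_c L694312) (flp_h L693225) L713879
theorem L713886 : sm gh N50703 = N52695 := rfl
theorem L713888 : sm gc N52695 = N50707 := ded_32_1 (flp_h L693256) (flp_c L693229) L713886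
theorem L713890 : sm gg N52695 = N52695 := ded_50_1 (flp_h L713886) L693233 L713886
theorem L713891 : sm gj N52695 = N50704 := ded_52_1 (flp_h L693236) (flp_j L693234) L713886
theorem L713893 : sm gd N50704 = N52696 := rfl
theorem L713895 : sm gg N52696 = N50705 := ded_36_2 (flp_d L693242) (flp_g L693240) L713893
theorem L713897 : sm gh N52696 = N50835 := ded_38_2 (flp_d L694319) (flp_h L672811) (flp_d L671167) L693236 L713893
theorem L713899 : sm gh N50711 = N52697 := rfl
theorem L713901 : sm gf N52697 = N50836 := ded_47_1 (flp_h L694324) (flp_f L693294) L713899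
theorem L713903 : sm gi N52697 = N50712 := ded_54_2 (flp_h L693296) (flp_i L671302) L671296 L693290 L713899
theorem L713905 : sm gf N50713 = N52698 := rfl
theorem L713907 : sm gi N52698 = N50743 := ded_48_2 (flp_f L693526) (flp_i L693302) L713905
theorem L713909 : sm ge N52698 = N50715 := ded_40_1 (flp_f L693315) (flp_e L671360) (flp_f L671310) L693300 L713905
theorem L713911 : sm gf N50714 = N52699 := rfl
theorem L713913 : sm gb N52699 = N50805 := ded_22_1 L694076 (flp_b L693306) L713911
theorem L713915 : sm gd N52699 = N50801 := ded_35_1 L694047 (flp_d L693313) L713911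
theorem L713917 : sm gj N52699 = N50715 := ded_46_2 (flp_f L693315) (flp_j L693309) L713911
theorem L713919 : sm gi N52699 = N50744 := ded_48_2 (flp_f L693530) (flp_i L693311) L713911
theorem L713921 : sm gh N50717 = N52700 := rfl
theorem L713923 : sm ga N52700 = N50730 := ded_17_1 (flp_h L693433) (flp_a L693331) L713921
theorem L713925 : sm gc N52700 = N50718 := ded_32_1 (flp_h L693337) (flp_c L693333) L713921
theorem L713927 : sm gf N52700 = N50844 := ded_47_1 (flp_h L694375) (flp_f L693335) L713921
theorem L713929 : sm gi N52700 = N52700 := ded_54_2 (flp_h L713921) (flp_i L693329) L671422 L693329 L713921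
theorem L713930 : sm ge N50720 = N52701 := rfl
theorem L713932 : sm ga N52701 = N50800 := ded_13_1 L694036 (flp_a L693360) L713930
theorem L713934 : sm gb N52701 = N50721 := ded_21_1 (flp_e L693363) L693351 L713930
theorem L713936 : sm gc N52701 = N52701 := ded_28_1 (flp_e L713930) L693362 L713930
theorem L713937 : sm gg N52701 = N50799 := ded_41_2 L694029 (flp_g L693355) L713930
theorem L713939 : sm gj N52701 = N50726 := ded_42_2 (flp_e L693407) (flp_j L693357) L713930
theorem L713941 : sm gh N52701 = N52701 := ded_43_2 (flp_e L713930) L693359 L713930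
theorem L713942 : sm gf N52701 = N52701 := ded_40_2 (flp_e L713930) L693353 L672747 (flp_f L693353) L713930
theorem L713943 : sm gi N50720 = N52702 := rfl
theorem L713945 : sm ga N52702 = N50821 := ded_18_1 (flp_i L694203) (flp_a L693360) L713943
theorem L713947 : sm gb N52702 = N50722 := ded_26_1 (flp_i L693371) L693351 L713943
theorem L713949 : sm gc N52702 = N52702 := ded_33_1 (flp_i L713943) L693362 L713943
theorem L713950 : sm gf N52702 = N50829 := ded_48_1 (flp_i L694262) (flp_f L693353) L713943
theorem L713952 : sm gg N52702 = N50819 := ded_51_1 (flp_i L694186) (flp_g L693355) L713943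
theorem L713954 : sm gj N52702 = N50727 := ded_53_1 (flp_i L693414) (flp_j L693357) L713943
theorem L713956 : sm gd N50721 = N52703 := rfl
theorem L713958 : sm gf N52703 = N52703 := ded_35_2 (flp_d L713956) L693370 L713956
theorem L713959 : sm gj N52703 = N50728 := ded_37_2 (flp_d L693421) (flp_j L693367) L713956
theorem L713961 : sm gc N52703 = N50734 := ded_27_1 (flp_d L693465) L671521 (flp_d L671451) (flp_c L693365) L713956
theorem L713963 : sm gi N50721 = N52704 := rfl
theorem L713965 : sm gc N52704 = N50723 := ded_33_1 (flp_i L693379) (flp_c L693365) L713963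
theorem L713967 : sm ge N52704 = N50722 := ded_44_1 (flp_i L693371) L693363 L713963
theorem L713969 : sm gf N52704 = N52704 := ded_48_1 (flp_i L713963) L693370 L713963
theorem L713970 : sm gj N52704 = N50729 := ded_53_1 (flp_i L693426) (flp_j L693367) L713963
theorem L713972 : sm gh N50722 = N52705 := rfl
theorem L713974 : sm gc N52705 = N50724 := ded_32_1 (flp_h L693389) (flp_c L693373) L713972
theorem L713976 : sm gf N52705 = N50845 := ded_47_1 (flp_h L694384) (flp_f L693375) L713972
theorem L713978 : sm gj N52705 = N50730 := ded_52_1 (flp_h L693433) (flp_j L693377) L713972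
theorem L713980 : sm gi N52705 = N52705 := ded_54_2 (flp_h L713972) (flp_i L693371) L671444 L693371 L713972
theorem L713981 : sm gh N50723 = N52706 := rfl
theorem L713983 : sm gb N52706 = N52706 := ded_25_1 (flp_h L713981) L693381 L713981
theorem L713984 : sm ge N52706 = N50724 := ded_43_1 (flp_h L693389) (flp_e L693384) L713981
theorem L713986 : sm gf N52706 = N52706 := ded_47_1 (flp_h L713981) L693386 L713981
theorem L713987 : sm gj N52706 = N50731 := ded_52_1 (flp_h L693440) (flp_j L693387) L713981
theorem L713989 : sm gi N52706 = N52706 := ded_54_2 (flp_h L713981) (flp_i L693379) L671450 L693379 L713981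
theorem L713990 : sm gi N50725 = N52707 := rfl
theorem L713992 : sm ga N52707 = N50727 := ded_18_1 (flp_i L693414) L693397 L713990
theorem L713994 : sm gb N52707 = N50824 := ded_26_1 (flp_i L694227) (flp_b L693405) L713990
theorem L713996 : sm gc N52707 = N52707 := ded_33_1 (flp_i L713990) L693399 L713990
theorem L713997 : sm gf N52707 = N50831 := ded_48_1 (flp_i L694284) (flp_f L693400) L713990
theorem L713999 : sm gj N52707 = N50821 := ded_53_1 (flp_i L694203) (flp_j L693402) L713990
theorem L714001 : sm gd N50726 = N52708 := rfl
theorem L714003 : sm gb N52708 = N50728 := ded_20_1 (flp_d L693421) (flp_b L693409) L714001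
theorem L714005 : sm gf N52708 = N52708 := ded_35_2 (flp_d L714001) L693413 L714001
theorem L714006 : sm gi N50726 = N52709 := rfl
theorem L714008 : sm gb N52709 = N50729 := ded_26_1 (flp_i L693426) (flp_b L693409) L714006
theorem L714010 : sm gc N52709 = N52709 := ded_33_1 (flp_i L714006) L693411 L714006
theorem L714011 : sm ge N52709 = N50727 := ded_44_1 (flp_i L693414) L693407 L714006
theorem L714013 : sm gf N52709 = N52709 := ded_48_1 (flp_i L714006) L693413 L714006
theorem L714014 : sm gh N50727 = N52710 := rfl
theorem L714016 : sm gb N52710 = N50730 := ded_25_1 (flp_h L693433) (flp_b L693416) L714014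
theorem L714018 : sm gc N52710 = N52710 := ded_32_1 (flp_h L714014) L693418 L714014
theorem L714019 : sm gf N52710 = N50846 := ded_47_1 (flp_h L694392) (flp_f L693419) L714014
theorem L714021 : sm gi N52710 = N52710 := ded_54_2 (flp_h L714014) (flp_i L693414) L671467 L693414 L714014
theorem L714022 : sm gh N50728 = N52711 := rfl
theorem L714024 : sm gc N52711 = N50739 := ded_32_1 (flp_h L693499) (flp_c L693424) L714022
theorem L714026 : sm gf N52711 = N52711 := ded_47_1 (flp_h L714022) L693423 L714022
theorem L714027 : sm gd N52711 = N52711 := ded_38_1 (flp_h L714022) (flp_d L693421) L671473 L693421 L714022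
theorem L714028 : sm gi N50728 = N52712 := rfl
theorem L714030 : sm gc N52712 = N50740 := ded_33_1 (flp_i L693504) (flp_c L693424) L714028
theorem L714032 : sm gd N52712 = N50729 := ded_39_1 (flp_i L693426) L693421 L714028
theorem L714034 : sm gf N52712 = N52712 := ded_48_1 (flp_i L714028) L693423 L714028
theorem L714035 : sm gh N50729 = N52713 := rfl
theorem L714037 : sm gc N52713 = N50731 := ded_32_1 (flp_h L693440) (flp_c L693428) L714035
theorem L714039 : sm ge N52713 = N50730 := ded_43_1 (flp_h L693433) (flp_e L693430) L714035
theorem L714041 : sm gf N52713 = N52713 := ded_47_1 (flp_h L714035) L693432 L714035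
theorem L714042 : sm gi N52713 = N52713 := ded_54_2 (flp_h L714035) (flp_i L693426) L671473 L693426 L714035
theorem L714043 : sm gd N50730 = N52714 := rfl
theorem L714045 : sm gf N52714 = N50847 := ded_35_2 (flp_d L694400) (flp_f L693437) L714043
theorem L714047 : sm gi N52714 = N52714 := ded_39_2 (flp_d L714043) L693439 L714043
theorem L714048 : sm gi N50734 = N52715 := rfl
theorem L714050 : sm gd N52715 = N50735 := ded_39_1 (flp_i L693470) L693465 L714048
theorem L714052 : sm gf N52715 = N52715 := ded_48_1 (flp_i L714048) L693467 L714048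
theorem L714053 : sm gj N52715 = N50740 := ded_53_1 (flp_i L693504) (flp_j L693468) L714048
theorem L714055 : sm gc N50737 = N52716 := rfl
theorem L714057 : sm gf N52716 = N52716 := ded_29_2 (flp_c L714055) L693490 L714055
theorem L714058 : sm gd N52716 = N52716 := ded_27_2 (flp_c L714055) (flp_d L693486) L671555 L693486 L714055
theorem L714059 : sm gi N50737 = N52717 := rfl
theorem L714061 : sm gb N52717 = N50740 := ded_26_1 (flp_i L693504) (flp_b L693488) L714059
theorem L714063 : sm gd N52717 = N50738 := ded_39_1 (flp_i L693491) L693486 L714059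
theorem L714065 : sm gf N52717 = N52717 := ded_48_1 (flp_i L714059) L693490 L714059
theorem L714066 : sm gi N50739 = N52718 := rfl
theorem L714068 : sm gd N52718 = N50742 := ded_39_1 (flp_i L693520) (flp_d L693502) L714066
theorem L714070 : sm gf N52718 = N52718 := ded_48_1 (flp_i L714066) L693501 L714066
theorem L714071 : sm gh N50740 = N52719 := rfl
theorem L714073 : sm gf N52719 = N52719 := ded_47_1 (flp_h L714071) L693508 L714071
theorem L714074 : sm gg N50744 = N52720 := rfl
theorem L714076 : sm gb N52720 = N50803 := ded_23_1 (flp_g L694062) (flp_b L693532) L714074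
theorem L714078 : sm gd N52720 = N50800 := ded_36_1 (flp_g L694031) (flp_d L693534) L714074
theorem L714080 : sm gf N52720 = N52720 := ded_45_1 (flp_g L714074) (flp_f L693530) L671621 L693530 L714074
theorem L714081 : sm gf N50757 = N52721 := rfl
theorem L714083 : sm ga N52721 = N50772 := ded_14_1 (flp_f L693769) (flp_a L693671) L714081
theorem L714085 : sm gc N52721 = N52721 := ded_29_1 (flp_f L714081) L693673 L714081
theorem L714086 : sm gi N52721 = N52721 := ded_48_2 (flp_f L714081) L693676 L714081
theorem L714087 : sm gh N50764 = N52722 := rfl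
theorem L714089 : sm gb N52722 = N50767 := ded_25_1 (flp_h L693738) (flp_b L693717) L714087
theorem L714091 : sm gg N52722 = N52722 := ded_50_1 (flp_h L714087) L693721 L714087
theorem L714092 : sm gd N50765 = N52723 := rfl
theorem L714094 : sm gb N52723 = N50768 := ded_20_1 (flp_d L693743) (flp_b L693724) L714092
theorem L714096 : sm gg N52723 = N52723 := ded_36_2 (flp_d L714092) L693730 L714092
theorem L714097 : sm gi N52723 = N52723 := ded_39_2 (flp_d L714092) L693731 L714092
theorem L714098 : sm gh N50766 = N52724 := rfl
theorem L714100 : sm gc N52724 = N50836 := ded_32_1 (flp_h L694324) (flp_c L693734) L714098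
theorem L714102 : sm gg N52724 = N52724 := ded_50_1 (flp_h L714098) L693737 L714098
theorem L714103 : sm gi N52724 = N50767 := ded_54_2 (flp_h L693738) (flp_i L672002) L671996 L693732 L714098
theorem L714105 : sm gd N50767 = N52725 := rfl
theorem L714107 : sm gg N52725 = N52725 := ded_36_2 (flp_d L714105) L693742 L714105
theorem L714108 : sm gh N52725 = N50768 := ded_38_2 (flp_d L693743) (flp_h L672009) (flp_d L672006) L693738 L714105
theorem L714110 : sm gf N50771 = N52726 := rfl
theorem L714112 : sm gb N52726 = N50772 := ded_22_1 (flp_f L693769) (flp_b L693764) L714110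
theorem L714114 : sm gi N52726 = N52726 := ded_48_2 (flp_f L714110) L693768 L714110
theorem L714115 : sm gg N50772 = N52727 := rfl
theorem L714117 : sm gc N52727 = N52727 := ded_30_1 (flp_g L714115) L693771 L714115
theorem L714118 : sm gi N52727 = N52727 := ded_51_2 (flp_g L714115) L693772 L714115
theorem L714119 : sm gf N52727 = N50773 := ded_45_1 (flp_g L693773) (flp_f L672066) (flp_g L672045) L693769 L714115
theorem L714121 : sm gc N50776 = N52728 := rfl
theorem L714123 : sm ga N52728 = N50777 := ded_11_1 (flp_c L693807) (flp_a L693799) L714121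
theorem L714125 : sm gf N52728 = N50781 := ded_29_2 L693856 (flp_f L693802) L714121
theorem L714127 : sm gg N52728 = N52728 := ded_30_2 (flp_c L714121) L693804 L714121
theorem L714128 : sm gj N52728 = N50783 := ded_31_2 (flp_c L704566) L704563 L714121
theorem L714130 : sm gh N52728 = N52728 := ded_32_2 (flp_c L714121) L693806 L714121
theorem L714131 : sm gi N52728 = N52728 := ded_33_2 (flp_c L714121) L693805 L714121
theorem L714132 : sm gb N50782 = N52728 := ded_22_3 L714125 L693854 L693864
theorem L714134 : sm ge N50776 = N52729 := rfl
theorem L714136 : sm ga N52729 = N50778 := ded_13_1 (flp_e L693815) (flp_a L693799) L714134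
theorem L714138 : sm gb N52729 = N52729 := ded_21_1 (flp_e L714134) L693801 L714134
theorem L714139 : sm gg N52729 = N52729 := ded_41_2 (flp_e L714134) L693804 L714134
theorem L714140 : sm gh N52729 = N52729 := ded_43_2 (flp_e L714134) L693806 L714134
theorem L714141 : sm gi N52729 = N52729 := ded_44_2 (flp_e L714134) L693805 L714134
theorem L714142 : sm ge N50777 = N52730 := rfl
theorem L714144 : sm gb N52730 = N52730 := ded_21_1 (flp_e L714142) L693814 L714142
theorem L714145 : sm gc N52730 = N50778 := ded_28_1 (flp_e L693815) L693807 L714142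
theorem L714147 : sm gg N52730 = N52730 := ded_41_2 (flp_e L714142) L693811 L714142
theorem L714148 : sm gh N52730 = N52730 := ded_43_2 (flp_e L714142) L693812 L714142
theorem L714149 : sm gi N52730 = N52730 := ded_44_2 (flp_e L714142) L693813 L714142
theorem L714150 : sm gh N50784 = N52731 := rfl
theorem L714152 : sm ga N52731 = N50785 := ded_17_1 (flp_h L693892) (flp_a L693881) L714150
theorem L714154 : sm gb N52731 = N50789 := ded_25_1 L693945 (flp_b L693883) L714150
theorem L714156 : sm gf N52731 = N50790 := ded_47_1 (flp_h L693947) (flp_f L693887) L714150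
theorem L714158 : sm gg N52731 = N52731 := ded_50_1 (flp_h L714150) L693889 L714150
theorem L714159 : sm gj N52731 = N50791 := ded_52_1 L693963 (flp_j L693890) L714150
theorem L714161 : sm gd N52731 = N50788 := ded_38_1 (flp_h L693926) L672268 (flp_h L672364) (flp_d L693885) L714150
theorem L714163 : sm gi N52731 = N52731 := ded_54_2 (flp_h L714150) (flp_i L693879) L672230 L693879 L714150
theorem L714164 : sm gd N50785 = N52732 := rfl
theorem L714166 : sm ga N52732 = N50788 := ded_12_1 (flp_d L714161) L714152 L714164
theorem L714168 : sm gb N52732 = N50786 := ded_20_1 (flp_d L693900) (flp_b L693894) L714164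
theorem L714170 : sm gf N52732 = N50791 := ded_35_2 (flp_d L693956) (flp_f L693896) L714164
theorem L714172 : sm gg N52732 = N52732 := ded_36_2 (flp_d L714164) L693898 L714164
theorem L714173 : sm gj N52732 = N50790 := ded_37_2 (flp_d L694758) L694756 L714164
theorem L714175 : sm gi N52732 = N52732 := ded_39_2 (flp_d L714164) L693899 L714164
theorem L714176 : sm gh N52732 = N50787 := ded_38_2 L693919 (flp_h L672379) (flp_d L672237) L693892 L714164
theorem L714178 : sm ge N50786 = N52733 := rfl
theorem L714180 : sm ga N52733 = N50811 := ded_13_1 (flp_e L694111) (flp_a L693902) L714178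
theorem L714182 : sm gc N52733 = N52733 := ded_28_1 (flp_e L714178) L693910 L714178
theorem L714183 : sm gg N52733 = N52733 := ded_41_2 (flp_e L714178) L693906 L714178
theorem L714184 : sm gj N52733 = N50820 := ded_42_2 L694198 (flp_j L693907) L714178
theorem L714186 : sm gh N52733 = N50796 := ded_43_2 (flp_e L693994) (flp_h L693911) L714178
theorem L714188 : sm gi N52733 = N52733 := ded_44_2 (flp_e L714178) L693909 L714178
theorem L714189 : sm ge N50789 = N52734 := rfl
theorem L714191 : sm ga N52734 = N50802 := ded_13_1 L694056 (flp_a L693936) L714189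
theorem L714193 : sm gc N52734 = N52734 := ded_28_1 (flp_e L714189) L693944 L714189
theorem L714194 : sm gg N52734 = N52734 := ded_41_2 (flp_e L714189) L693940 L714189
theorem L714195 : sm gj N52734 = N50792 := ded_42_2 (flp_e L693965) (flp_j L693941) L714189
theorem L714197 : sm gh N52734 = N50797 := ded_43_2 (flp_e L694004) (flp_h L693945) L714189
theorem L714199 : sm gi N52734 = N52734 := ded_44_2 (flp_e L714189) L693943 L714189
theorem L714200 : sm gf N50792 = N52735 := rfl
theorem L714202 : sm ga N52735 = N50828 := ded_14_1 (flp_f L694256) (flp_a L693967) L714200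
theorem L714204 : sm gc N52735 = N52735 := ded_29_1 (flp_f L714200) L693969 L714200
theorem L714205 : sm gh N52735 = N50798 := ded_47_2 (flp_f L694014) (flp_h L693972) L714200
theorem L714207 : sm gi N52735 = N52735 := ded_48_2 (flp_f L714200) L693974 L714200
theorem L714208 : sm gh N50793 = N52736 := rfl
theorem L714210 : sm gb N52736 = N50795 := ded_25_1 (flp_h L693989) (flp_b L693977) L714208
theorem L714212 : sm gg N52736 = N52736 := ded_50_1 (flp_h L714208) L693981 L714208
theorem L714213 : sm gh N50794 = N52737 := rfl
theorem L714215 : sm ga N52737 = N50836 := ded_17_1 (flp_h L694324) (flp_a L693984) L714213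
theorem L714217 : sm gg N52737 = N52737 := ded_50_1 (flp_h L714213) L693988 L714213
theorem L714218 : sm gi N52737 = N50795 := ded_54_2 (flp_h L693989) (flp_i L672400) L672393 L693982 L714213
theorem L714220 : sm gf N50796 = N52738 := rfl
theorem L714222 : sm ga N52738 = N50816 := ded_14_1 L694167 (flp_a L693996) L714220
theorem L714224 : sm gc N52738 = N52738 := ded_29_1 (flp_f L714220) L693998 L714220
theorem L714225 : sm gj N52738 = N50819 := ded_46_2 L694191 (flp_j L694000) L714220
theorem L714227 : sm gi N52738 = N50815 := ded_48_2 (flp_f L694150) (flp_i L694002) L714220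
theorem L714229 : sm ge N52738 = N50798 := ded_40_1 (flp_f L694014) (flp_e L672439) (flp_f L672411) L693994 L714220
theorem L714231 : sm gf N50797 = N52739 := rfl
theorem L714233 : sm ga N52739 = N50801 := ded_14_1 L694047 (flp_a L694006) L714231
theorem L714235 : sm gc N52739 = N52739 := ded_29_1 (flp_f L714231) L694008 L714231
theorem L714236 : sm gj N52739 = N50798 := ded_46_2 (flp_f L694014) (flp_j L694010) L714231
theorem L714238 : sm gi N52739 = N50799 := ded_48_2 (flp_f L694021) (flp_i L694012) L714231
theorem L714240 : sm ge N52739 = N50819 := ded_40_1 L694191 L672651 (flp_f L672423) L694004 L714231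
theorem L714242 : sm gi N50800 = N52740 := rfl
theorem L714244 : sm gb N52740 = N50808 := ded_26_1 (flp_i L694089) (flp_b L694033) L714242
theorem L714246 : sm gc N52740 = N52740 := ded_33_1 (flp_i L714242) L694035 L714242
theorem L714247 : sm ge N52740 = N50821 := ded_44_1 (flp_i L694203) (flp_e L694036) L714242
theorem L714249 : sm gf N52740 = N52740 := ded_48_1 (flp_i L714242) L694039 L714242
theorem L714250 : sm gg N52740 = N50801 := ded_51_1 (flp_i L694040) L694031 L714242
theorem L714252 : sm gh N50801 = N52741 := rfl
theorem L714254 : sm gb N52741 = N50809 := ded_25_1 (flp_h L694098) (flp_b L694042) L714252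
theorem L714256 : sm gc N52741 = N52741 := ded_32_1 (flp_h L714252) L694044 L714252
theorem L714257 : sm ge N52741 = N50822 := ded_43_1 (flp_h L694212) (flp_e L694045) L714252
theorem L714259 : sm gf N52741 = N50802 := ded_47_1 (flp_h L694051) (flp_f L694047) L714252
theorem L714261 : sm gj N52741 = N50828 := ded_52_1 L694259 (flp_j L694049) L714252
theorem L714263 : sm gi N52741 = N52741 := ded_54_2 (flp_h L714252) (flp_i L694040) L672479 L694040 L714252
theorem L714264 : sm gd N50802 = N52742 := rfl
theorem L714266 : sm gb N52742 = N50810 := ded_20_1 (flp_d L694107) (flp_b L694053) L714264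
theorem L714268 : sm gg N52742 = N52742 := ded_36_2 (flp_d L714264) L694058 L714264
theorem L714269 : sm gj N52742 = N50827 := ded_37_2 L694254 (flp_j L694059) L714264
theorem L714271 : sm gi N52742 = N52742 := ded_39_2 (flp_d L714264) L694061 L714264
theorem L714272 : sm ge N52742 = N50818 := ded_34_2 (flp_d L694180) L672626 (flp_d L672502) (flp_e L694056) L714264
theorem L714274 : sm gh N50803 = N52743 := rfl
theorem L714276 : sm gf N52743 = N52743 := ded_47_1 (flp_h L714274) L694066 L714274
theorem L714277 : sm gg N52743 = N50804 := ded_50_1 (flp_h L694067) L694062 L714274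
theorem L714279 : sm gd N52743 = N52743 := ded_38_1 (flp_h L714274) L694064 L672528 (flp_d L694064) L714274
theorem L714280 : sm gi N50803 = N52744 := rfl
theorem L714282 : sm gd N52744 = N50808 := ded_39_1 (flp_i L694089) (flp_d L694064) L714280
theorem L714284 : sm gf N52744 = N52744 := ded_48_1 (flp_i L714280) L694066 L714280
theorem L714285 : sm gg N52744 = N50805 := ded_51_1 (flp_i L694072) L694062 L714280
theorem L714287 : sm gi N50804 = N52745 := rfl
theorem L714289 : sm gd N52745 = N52745 := ded_39_1 (flp_i L714287) L694071 L714287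
theorem L714290 : sm gf N52745 = N50806 := ded_48_1 (flp_i L694078) (flp_f L694069) L714287
theorem L714292 : sm gh N50805 = N52746 := rfl
theorem L714294 : sm gf N52746 = N50807 := ded_47_1 (flp_h L694084) (flp_f L694076) L714292
theorem L714296 : sm gh N50806 = N52747 := rfl
theorem L714298 : sm ge N52747 = N50836 := ded_43_1 (flp_h L694324) (flp_e L694081) L714296
theorem L714300 : sm gg N52747 = N52747 := ded_50_1 (flp_h L714296) L694083 L714296
theorem L714301 : sm gi N52747 = N50807 := ded_54_2 (flp_h L694084) (flp_i L672515) L672509 L694078 L714296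
theorem L714303 : sm gd N50807 = N52748 := rfl
theorem L714305 : sm gg N52748 = N52748 := ded_36_2 (flp_d L714303) L694088 L714303
theorem L714306 : sm gh N52748 = N50810 := ded_38_2 (flp_d L694107) (flp_h L672538) (flp_d L672517) L694084 L714303
theorem L714308 : sm gh N50808 = N52749 := rfl
theorem L714310 : sm gc N52749 = N50812 := ded_32_1 (flp_h L694122) (flp_c L694091) L714308
theorem L714312 : sm ge N52749 = N50825 := ded_43_1 (flp_h L694235) (flp_e L694093) L714308
theorem L714314 : sm gf N52749 = N52749 := ded_47_1 (flp_h L714308) L694095 L714308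
theorem L714315 : sm gg N52749 = N50809 := ded_50_1 (flp_h L694098) (flp_g L694096) L714308
theorem L714317 : sm gi N52749 = N52749 := ded_54_2 (flp_h L714308) (flp_i L694089) L672528 L694089 L714308
theorem L714318 : sm gd N50809 = N52750 := rfl
theorem L714320 : sm gf N52750 = N50810 := ded_35_2 (flp_d L694107) (flp_f L694104) L714318
theorem L714322 : sm gi N52750 = N52750 := ded_39_2 (flp_d L714318) L694106 L714318
theorem L714323 : sm gc N50810 = N52751 := rfl
theorem L714325 : sm gg N52751 = N52751 := ded_30_2 (flp_c L714323) L694109 L714323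
theorem L714326 : sm gj N52751 = N50835 := ded_31_2 (flp_c L698478) L698475 L714323
theorem L714328 : sm gi N52751 = N52751 := ded_33_2 (flp_c L714323) L694110 L714323
theorem L714329 : sm gd N52751 = N50814 := ded_27_2 (flp_c L694141) (flp_d L672575) (flp_c L672540) L694107 L714323
theorem L714331 : sm ge N50810 = N52752 := rfl
theorem L714333 : sm gb N52752 = N50818 := ded_21_1 (flp_e L714272) L714266 L714331
theorem L714335 : sm gg N52752 = N52752 := ded_41_2 (flp_e L714331) L694109 L714331
theorem L714336 : sm gj N52752 = N50823 := ded_42_2 (flp_e L698480) L698475 L714331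
theorem L714338 : sm gi N52752 = N52752 := ded_44_2 (flp_e L714331) L694110 L714331
theorem L714339 : sm gd N52752 = N50811 := ded_34_1 (flp_e L694111) (flp_d L672546) (flp_e L672542) L694107 L714331
theorem L714341 : sm gf N50811 = N52753 := rfl
theorem L714343 : sm gb N52753 = N50817 := ded_22_1 L694175 (flp_b L694113) L714341
theorem L714345 : sm gc N52753 = N52753 := ded_29_1 (flp_f L714341) L694115 L714341
theorem L714346 : sm gj N52753 = N50822 := ded_46_2 L694217 (flp_j L694117) L714341
theorem L714348 : sm gh N52753 = N50816 := ded_47_2 L694167 (flp_h L694119) L714341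
theorem L714350 : sm gi N52753 = N52753 := ded_48_2 (flp_f L714341) L694121 L714341
theorem L714351 : sm ge N52753 = N50828 := ded_40_1 (flp_f L694256) (flp_e L672715) (flp_f L672550) L694111 L714341
theorem L714353 : sm gc N50813 = N52754 := rfl
theorem L714355 : sm gf N52754 = N50814 := ded_29_2 (flp_c L694141) (flp_f L694134) L714353
theorem L714357 : sm gj N52754 = N50825 := ded_31_2 L694237 (flp_j L694136) L714353
theorem L714359 : sm gh N52754 = N50824 := ded_32_2 L694229 (flp_h L694139) L714353
theorem L714361 : sm gi N52754 = N52754 := ded_33_2 (flp_c L714353) L694138 L714353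
theorem L714362 : sm gb N50814 = N52755 := rfl
theorem L714364 : sm ge N52755 = N52755 := ded_21_2 (flp_b L714362) L694143 L714362
theorem L714365 : sm gg N52755 = N52755 := ded_23_2 (flp_b L714362) L694144 L714362
theorem L714366 : sm gj N52755 = N50832 := ded_24_2 L694297 (flp_j L694145) L714362
theorem L714368 : sm gh N52755 = N50831 := ded_25_2 L694288 (flp_h L694147) L714362
theorem L714370 : sm gi N52755 = N52755 := ded_26_2 (flp_b L714362) L694149 L714362
theorem L714371 : sm ga N52755 = N50846 := ded_10_1 L694394 (flp_a L694377) (flp_b L697376) L697374 L714362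
theorem L714373 : sm gc N52755 = N52755 := ded_19_2 (flp_b L714362) (flp_c L694141) L672577 L694141 L714362
theorem L714374 : sm gd N50817 = N52756 := rfl
theorem L714376 : sm gf N52756 = N50818 := ded_35_2 (flp_d L694180) (flp_f L694175) L714374
theorem L714378 : sm gj N52756 = N50826 := ded_37_2 (flp_d L694244) (flp_j L694177) L714374
theorem L714380 : sm gi N52756 = N52756 := ded_39_2 (flp_d L714374) L694179 L714374
theorem L714381 : sm gh N50819 = N52757 := rfl
theorem L714383 : sm ga N52757 = N50822 := ded_17_1 (flp_h L694212) (flp_a L694188) L714381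
theorem L714385 : sm gc N52757 = N52757 := ded_32_1 (flp_h L714381) L694190 L714381
theorem L714386 : sm gf N52757 = N50820 := ded_47_1 (flp_h L694193) (flp_f L694191) L714381
theorem L714388 : sm gi N52757 = N52757 := ded_54_2 (flp_h L714381) (flp_i L694186) L672645 L694186 L714381
theorem L714389 : sm gh N50821 = N52758 := rfl
theorem L714391 : sm gb N52758 = N50825 := ded_25_1 (flp_h L694235) (flp_b L694205) L714389
theorem L714393 : sm gc N52758 = N52758 := ded_32_1 (flp_h L714389) L694207 L714389
theorem L714394 : sm gf N52758 = N50832 := ded_47_1 (flp_h L694295) (flp_f L694208) L714389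
theorem L714396 : sm gg N52758 = N50822 := ded_50_1 (flp_h L694212) (flp_g L694210) L714389
theorem L714398 : sm gi N52758 = N52758 := ded_54_2 (flp_h L714389) (flp_i L694203) L672668 L694203 L714389
theorem L714399 : sm gd N50822 = N52759 := rfl
theorem L714401 : sm gb N52759 = N50826 := ded_20_1 (flp_d L694244) (flp_b L694214) L714399
theorem L714403 : sm gf N52759 = N50823 := ded_35_2 (flp_d L694220) (flp_f L694217) L714399
theorem L714405 : sm gi N52759 = N52759 := ded_39_2 (flp_d L714399) L694219 L714399
theorem L714406 : sm gc N50823 = N52760 := rfl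
theorem L714408 : sm ge N52760 = N50835 := ded_28_2 (flp_c L698478) L698480 L714406
theorem L714410 : sm gg N52760 = N50834 := ded_30_2 (flp_c L694312) (flp_g L694224) L714406
theorem L714412 : sm gi N52760 = N52760 := ded_33_2 (flp_c L714406) L694226 L714406
theorem L714413 : sm gd N52760 = N52760 := ded_27_2 (flp_c L714406) (flp_d L694220) L672682 L694220 L714406
theorem L714414 : sm gd N50825 = N52761 := rfl
theorem L714416 : sm gf N52761 = N50835 := ded_35_2 (flp_d L694319) (flp_f L694239) L714414
theorem L714418 : sm gg N52761 = N50826 := ded_36_2 (flp_d L694244) (flp_g L694241) L714414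
theorem L714420 : sm gi N52761 = N52761 := ded_39_2 (flp_d L714414) L694243 L714414
theorem L714421 : sm ge N50826 = N52762 := rfl
theorem L714423 : sm gi N52762 = N52762 := ded_44_2 (flp_e L714421) L694248 L714421
theorem L714424 : sm gf N50827 = N52763 := rfl
theorem L714426 : sm gd N52763 = N50828 := ded_35_1 (flp_f L694256) (flp_d L694254) L714424
theorem L714428 : sm gi N52763 = N52763 := ded_48_2 (flp_f L714424) L694253 L714424
theorem L714429 : sm gh N50829 = N52764 := rfl
theorem L714431 : sm ga N52764 = N50832 := ded_17_1 (flp_h L694295) (flp_a L694264) L714429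
theorem L714433 : sm gb N52764 = N50845 := ded_25_1 (flp_h L694384) (flp_b L694266) L714429
theorem L714435 : sm gc N52764 = N52764 := ded_32_1 (flp_h L714429) L694268 L714429
theorem L714436 : sm ge N52764 = N52764 := ded_43_1 (flp_h L714429) L694269 L714429
theorem L714437 : sm gg N52764 = N50830 := ded_50_1 (flp_h L694274) (flp_g L694270) L714429
theorem L714439 : sm gj N52764 = N50846 := ded_52_1 (flp_h L694392) (flp_j L694272) L714429
theorem L714441 : sm gi N52764 = N52764 := ded_54_2 (flp_h L714429) (flp_i L694262) L672748 L694262 L714429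
theorem L714442 : sm gd N50832 = N52765 := rfl
theorem L714444 : sm gb N52765 = N50835 := ded_20_1 (flp_d L694319) (flp_b L694297) L714442
theorem L714446 : sm gg N52765 = N50833 := ded_36_2 (flp_d L694304) (flp_g L694301) L714442
theorem L714448 : sm gi N52765 = N52765 := ded_39_2 (flp_d L714442) L694303 L714442
theorem L714449 : sm gh N50838 = N52766 := rfl
theorem L714451 : sm ga N52766 = N50841 := ded_17_1 (flp_h L694355) (flp_a L694336) L714449
theorem L714453 : sm gc N52766 = N50839 := ded_32_1 (flp_h L694343) (flp_c L694338) L714449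
theorem L714455 : sm gg N52766 = N52766 := ded_50_1 (flp_h L714449) L694342 L714449
theorem L714456 : sm gh N50840 = N52767 := rfl
theorem L714458 : sm gb N52767 = N50841 := ded_25_1 (flp_h L694355) (flp_b L694350) L714456
theorem L714460 : sm gg N52767 = N52767 := ded_50_1 (flp_h L714456) L694354 L714456
theorem L714461 : sm gd N50841 = N52768 := rfl
theorem L714463 : sm gg N52768 = N52768 := ded_36_2 (flp_d L714461) L694359 L714461
theorem L714464 : sm gh N52768 = N50847 := ded_38_2 (flp_d L694400) (flp_h L672970) (flp_d L672893) L694355 L714461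
theorem L714466 : sm gd N50844 = N52769 := rfl
theorem L714468 : sm ga N52769 = N50847 := ded_12_1 (flp_d L694400) (flp_a L694377) L714466
theorem L714470 : sm gg N52769 = N52769 := ded_36_2 (flp_d L714466) L694382 L714466
theorem L714471 : sm gi N52769 = N52769 := ded_39_2 (flp_d L714466) L694383 L714466
theorem L714472 : sm gd N50846 = N52770 := rfl
theorem L714474 : sm gb N52770 = N50847 := ded_20_1 (flp_d L694400) (flp_b L694394) L714472
theorem L714476 : sm gg N52770 = N52770 := ded_36_2 (flp_d L714472) L694398 L714472
theorem L714477 : sm gi N52770 = N52770 := ded_39_2 (flp_d L714472) L694399 L714472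
theorem L714478 : sm gh N50857 = N52771 := rfl
theorem L714480 : sm ga N52771 = N50865 := ded_17_1 (flp_h L694684) (flp_a L694561) L714478
theorem L714482 : sm gb N52771 = N51259 := ded_25_1 L699893 (flp_b L694563) L714478
theorem L714484 : sm gc N52771 = N51133 := ded_32_1 (flp_h L698436) (flp_c L694565) L714478
theorem L714486 : sm ge N52771 = N51258 := ded_43_1 L699883 (flp_e L694568) L714478
theorem L714488 : sm gf N52771 = N51373 := ded_47_1 (flp_h L701383) (flp_f L694570) L714478
theorem L714490 : sm gg N52771 = N52771 := ded_50_1 (flp_h L714478) L694572 L714478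
theorem L714491 : sm gj N52771 = N50858 := ded_52_1 (flp_h L694575) (flp_j L694573) L714478
theorem L714493 : sm gi N52771 = N52771 := ded_54_2 (flp_h L714478) (flp_i L694559) L673217 L694559 L714478
theorem L714494 : sm gd N52728 = N52771 := ded_12_0 L714480 (flp_d L694695) (flp_a L714123)
theorem L714496 : sm gi N50860 = N52772 := rfl
theorem L714498 : sm ga N52772 = N51478 := ded_18_1 (flp_i L702562) (flp_a L694611) L714496
theorem L714500 : sm gb N52772 = N52772 := ded_26_1 (flp_i L714496) L694613 L714496
theorem L714501 : sm gc N52772 = N51222 := ded_33_1 (flp_i L699454) (flp_c L694614) L714496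
theorem L714503 : sm gd N52772 = N51836 := ded_39_1 (flp_i L706286) (flp_d L694616) L714496
theorem L714505 : sm ge N52772 = N51477 := ded_44_1 (flp_i L702549) (flp_e L694618) L714496
theorem L714507 : sm gf N52772 = N50863 := ded_48_1 (flp_i L694656) (flp_f L694620) L714496
theorem L714509 : sm gg N52772 = N51553 := ded_51_1 (flp_i L703359) (flp_g L694623) L714496
theorem L714511 : sm gj N52772 = N50861 := ded_53_1 (flp_i L694625) L694609 L714496
theorem L714513 : sm gh N50861 = N52773 := rfl
theorem L714515 : sm ga N52773 = N51256 := ded_17_1 L699864 (flp_a L694627) L714513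
theorem L714517 : sm gb N52773 = N52773 := ded_25_1 (flp_h L714513) L694629 L714513
theorem L714518 : sm gc N52773 = N51223 := ded_32_1 (flp_h L699462) (flp_c L694630) L714513
theorem L714520 : sm ge N52773 = N52412 := ded_43_1 (flp_h L711824) (flp_e L694634) L714513
theorem L714522 : sm gf N52773 = N50864 := ded_47_1 (flp_h L694670) (flp_f L694636) L714513
theorem L714524 : sm gg N52773 = N50862 := ded_50_1 (flp_h L694640) (flp_g L694638) L714513
theorem L714526 : sm gd N52773 = N51254 := ded_38_1 (flp_h L699828) L678197 L686288 (flp_d L694632) L714513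
theorem L714528 : sm gi N52773 = N52773 := ded_54_2 (flp_h L714513) (flp_i L694625) L673271 L694625 L714513
theorem L714529 : sm gh N50863 = N52774 := rfl
theorem L714531 : sm ga N52774 = N51258 := ded_17_1 L699883 (flp_a L694658) L714529
theorem L714533 : sm gb N52774 = N52774 := ded_25_1 (flp_h L714529) L694660 L714529
theorem L714534 : sm gc N52774 = N51226 := ded_32_1 (flp_h L699487) (flp_c L694661) L714529
theorem L714536 : sm ge N52774 = N50865 := ded_43_1 (flp_h L694684) (flp_e L694665) L714529
theorem L714538 : sm gg N52774 = N52774 := ded_50_1 (flp_h L714529) L694667 L714529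
theorem L714539 : sm gj N52774 = N50864 := ded_52_1 (flp_h L694670) (flp_j L694668) L714529
theorem L714541 : sm gd N52774 = N51257 := ded_38_1 (flp_h L699866) L678259 L686330 (flp_d L694663) L714529
theorem L714543 : sm gi N52774 = N52774 := ded_54_2 (flp_h L714529) (flp_i L694656) L673316 L694656 L714529
theorem L714544 : sm ge N50866 = N52775 := rfl
theorem L714546 : sm ga N52775 = N50876 := ded_13_1 L694855 (flp_a L694699) L714544
theorem L714548 : sm gb N52775 = N52775 := ded_21_1 (flp_e L714544) L694701 L714544
theorem L714549 : sm gc N52775 = N52096 := ded_28_1 L708942 (flp_c L694709) L714544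
theorem L714551 : sm gg N52775 = N50868 := ded_41_2 (flp_e L694729) (flp_g L694704) L714544
theorem L714553 : sm gj N52775 = N52730 := ded_42_2 (flp_e L714142) (flp_j L694706) L714544
theorem L714555 : sm gh N52775 = N52775 := ded_43_2 (flp_e L714544) L694711 L714544
theorem L714556 : sm gi N52775 = N52775 := ded_44_2 (flp_e L714544) L694708 L714544
theorem L714557 : sm gd N52775 = N50875 := ded_34_1 L694841 (flp_d L694681) L694677 L694697 L714544
theorem L714559 : sm gf N52775 = N52729 := ded_40_2 (flp_e L714134) L693802 L693848 (flp_f L694702) L714544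
theorem L714561 : sm gh N50870 = N52776 := rfl
theorem L714563 : sm ga N52776 = N50871 := ded_17_1 (flp_h L694776) (flp_a L694763) L714561
theorem L714565 : sm gb N52776 = N52776 := ded_25_1 (flp_h L714561) L694765 L714561
theorem L714566 : sm gc N52776 = N52732 := ded_32_1 L714176 (flp_c L694766) L714561
theorem L714568 : sm ge N52776 = N52132 := ded_43_1 (flp_h L709343) (flp_e L694769) L714561
theorem L714570 : sm gf N52776 = N50875 := ded_47_1 (flp_h L694834) (flp_f L694771) L714561
theorem L714572 : sm gg N52776 = N52776 := ded_50_1 (flp_h L714561) L694773 L714561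
theorem L714573 : sm gj N52776 = N52095 := ded_52_1 (flp_h L708921) (flp_j L694774) L714561
theorem L714575 : sm gi N52776 = N52776 := ded_54_2 (flp_h L714561) (flp_i L694761) L673443 L694761 L714561
theorem L714576 : sm gd N52729 = N52776 := ded_12_0 L714563 (flp_d L694790) (flp_a L714136)
theorem L714578 : sm gh N50872 = N52777 := rfl
theorem L714580 : sm ga N52777 = N50873 := ded_17_1 (flp_h L694807) (flp_a L694794) L714578
theorem L714582 : sm gb N52777 = N52777 := ded_25_1 (flp_h L714578) L694796 L714578
theorem L714583 : sm gc N52777 = N52731 := ded_32_1 (flp_h L714150) (flp_c L694797) L714578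
theorem L714585 : sm ge N52777 = N51257 := ded_43_1 (flp_h L699866) (flp_e L694800) L714578
theorem L714587 : sm gf N52777 = N52095 := ded_47_1 (flp_h L708921) (flp_f L694802) L714578
theorem L714589 : sm gg N52777 = N52777 := ded_50_1 (flp_h L714578) L694804 L714578
theorem L714590 : sm gj N52777 = N50875 := ded_52_1 (flp_h L694834) (flp_j L694805) L714578
theorem L714592 : sm gi N52777 = N52777 := ded_54_2 (flp_h L714578) (flp_i L694792) L673486 L694792 L714578
theorem L714593 : sm gd N52730 = N52777 := ded_27_0 L714583 L714161 (flp_c L694780) (flp_d L694790) (flp_c L714145)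
theorem L714595 : sm gd N50873 = N52778 := rfl
theorem L714597 : sm ga N52778 = N52730 := ded_12_1 L714593 L714580 L714595
theorem L714599 : sm gb N52778 = N50874 := ded_20_1 (flp_d L694821) (flp_b L694809) L714595
theorem L714601 : sm gf N52778 = N52096 := ded_35_2 (flp_d L708933) (flp_f L694815) L714595
theorem L714603 : sm gg N52778 = N52778 := ded_36_2 (flp_d L714595) L694817 L714595
theorem L714604 : sm gj N52778 = N50876 := ded_37_2 (flp_d L694846) (flp_j L694818) L714595
theorem L714606 : sm gi N52778 = N52778 := ded_39_2 (flp_d L714595) L694820 L714595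
theorem L714607 : sm gc N52778 = N52729 := ded_27_1 L714576 L714566 (flp_d L714164) (flp_c L694811) L714595
theorem L714609 : sm ge N52778 = N52728 := ded_34_2 L714494 L714486 (flp_d L699875) (flp_e L694813) L714595
theorem L714611 : sm gh N52778 = N52778 := ded_38_2 (flp_d L714595) (flp_h L694807) L673494 L694807 L714595
theorem L714612 : sm gc N50876 = N52779 := rfl
theorem L714614 : sm ga N52779 = N52096 := ded_11_1 (flp_c L714549) L714546 L714612
theorem L714616 : sm ge N52779 = N51677 := ded_28_2 L704566 (flp_e L694855) L714612
theorem L714618 : sm gf N52779 = N52730 := ded_29_2 L714145 (flp_f L694850) L714612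
theorem L714620 : sm gg N52779 = N50877 := ded_30_2 (flp_c L694858) (flp_g L694852) L714612
theorem L714622 : sm gj N52779 = N52729 := ded_31_2 (flp_c L714607) L714604 L714612
theorem L714624 : sm gh N52779 = N52779 := ded_32_2 (flp_c L714612) L694857 L714612
theorem L714625 : sm gi N52779 = N52779 := ded_33_2 (flp_c L714612) L694854 L714612
theorem L714626 : sm gb N52779 = N52779 := ded_19_1 (flp_c L714612) L694848 L673544 (flp_b L694848) L714612
theorem L714627 : sm gd N52779 = N52095 := ded_27_2 L708926 (flp_d L694758) L694748 L694846 L714612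
theorem L714629 : sm gi N50878 = N52780 := rfl
theorem L714631 : sm ga N52780 = N51342 := ded_18_1 (flp_i L701022) (flp_a L694873) L714629
theorem L714633 : sm gb N52780 = N51289 := ded_26_1 (flp_i L700368) (flp_b L694875) L714629
theorem L714635 : sm gc N52780 = N51356 := ded_33_1 (flp_i L701169) (flp_c L694877) L714629
theorem L714637 : sm gd N52780 = N52780 := ded_39_1 (flp_i L714629) L694885 L714629
theorem L714638 : sm ge N52780 = N50879 := ded_44_1 (flp_i L694888) L694871 L714629
theorem L714640 : sm gf N52780 = N51315 := ded_48_1 (flp_i L700704) (flp_f L694886) L714629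
theorem L714642 : sm gg N52780 = N51353 := ded_51_1 (flp_i L701142) (flp_g L694879) L714629
theorem L714644 : sm gj N52780 = N50909 := ded_53_1 (flp_i L695384) (flp_j L694881) L714629
theorem L714646 : sm gh N50879 = N52781 := rfl
theorem L714648 : sm ga N52781 = N52036 := ded_17_1 (flp_h L708288) (flp_a L694890) L714646
theorem L714650 : sm gb N52781 = N51290 := ded_25_1 (flp_h L700375) (flp_b L694892) L714646
theorem L714652 : sm gc N52781 = N52339 := ded_32_1 L711256 (flp_c L694894) L714646
theorem L714654 : sm gf N52781 = N52033 := ded_47_1 (flp_h L708240) (flp_f L694898) L714646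
theorem L714656 : sm gg N52781 = N52338 := ded_50_1 (flp_h L711242) (flp_g L694900) L714646
theorem L714658 : sm gj N52781 = N50910 := ded_52_1 (flp_h L695397) (flp_j L694902) L714646
theorem L714660 : sm gd N52781 = N50894 := ded_38_1 (flp_h L695139) L673997 (flp_h L673612) (flp_d L694896) L714646
theorem L714662 : sm gi N52781 = N50885 := ded_54_2 (flp_h L694985) (flp_i L673696) (flp_h L673595) L694888 L714646
theorem L714664 : sm gi N50880 = N52782 := rfl
theorem L714666 : sm ga N52782 = N51356 := ded_18_1 (flp_i L701169) (flp_a L694906) L714664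
theorem L714668 : sm gb N52782 = N51280 := ded_26_1 (flp_i L700235) (flp_b L694908) L714664
theorem L714670 : sm gc N52782 = N51342 := ded_33_1 (flp_i L701022) (flp_c L694910) L714664
theorem L714672 : sm gd N52782 = N50886 := ded_39_1 (flp_i L694997) (flp_d L694918) L714664
theorem L714674 : sm ge N52782 = N50881 := ded_44_1 (flp_i L694922) L694904 L714664
theorem L714676 : sm gf N52782 = N51340 := ded_48_1 (flp_i L701000) (flp_f L694920) L714664
theorem L714678 : sm gg N52782 = N50884 := ded_51_1 (flp_i L694971) (flp_g L694912) L714664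
theorem L714680 : sm gj N52782 = N51404 := ded_53_1 (flp_i L701780) (flp_j L694914) L714664
theorem L714682 : sm gh N50881 = N52783 := rfl
theorem L714684 : sm ga N52783 = N52339 := ded_17_1 L711256 (flp_a L694924) L714682
theorem L714686 : sm gb N52783 = N51293 := ded_25_1 (flp_h L700419) (flp_b L694926) L714682
theorem L714688 : sm gc N52783 = N52036 := ded_32_1 (flp_h L708288) (flp_c L694928) L714682
theorem L714690 : sm gf N52783 = N52037 := ded_47_1 (flp_h L708300) (flp_f L694932) L714682
theorem L714692 : sm gg N52783 = N50885 := ded_50_1 (flp_h L694985) (flp_g L694934) L714682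
theorem L714694 : sm gj N52783 = N52049 := ded_52_1 L708460 (flp_j L694936) L714682
theorem L714696 : sm gd N52783 = N50895 := ded_38_1 (flp_h L695153) L674011 (flp_h L673666) (flp_d L694930) L714682
theorem L714698 : sm gi N52783 = N52338 := ded_54_2 (flp_h L711242) (flp_i L690222) (flp_h L673648) L694922 L714682
theorem L714700 : sm gi N50882 = N52784 := rfl
theorem L714702 : sm ga N52784 = N51353 := ded_18_1 (flp_i L701142) (flp_a L694940) L714700
theorem L714704 : sm gb N52784 = N51344 := ded_26_1 (flp_i L701041) (flp_b L694942) L714700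
theorem L714706 : sm gc N52784 = N50884 := ded_33_1 (flp_i L694971) (flp_c L694944) L714700
theorem L714708 : sm gd N52784 = N52784 := ded_39_1 (flp_i L714700) L694952 L714700
theorem L714709 : sm ge N52784 = N50883 := ded_44_1 (flp_i L694955) L694938 L714700
theorem L714711 : sm gf N52784 = N51324 := ded_48_1 (flp_i L700809) (flp_f L694953) L714700
theorem L714713 : sm gg N52784 = N51342 := ded_51_1 (flp_i L701022) (flp_g L694946) L714700
theorem L714715 : sm gj N52784 = N50927 := ded_53_1 (flp_i L695627) (flp_j L694948) L714700
theorem L714717 : sm gh N50883 = N52785 := rfl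
theorem L714719 : sm ga N52785 = N52338 := ded_17_1 (flp_h L711242) (flp_a L694957) L714717
theorem L714721 : sm gb N52785 = N51345 := ded_25_1 (flp_h L701048) (flp_b L694959) L714717
theorem L714723 : sm gc N52785 = N50885 := ded_32_1 (flp_h L694985) (flp_c L694961) L714717
theorem L714725 : sm gf N52785 = N50895 := ded_47_1 (flp_h L695153) (flp_f L694965) L714717
theorem L714727 : sm gg N52785 = N52036 := ded_50_1 (flp_h L708288) (flp_g L694967) L714717
theorem L714729 : sm gj N52785 = N50928 := ded_52_1 (flp_h L695638) (flp_j L694969) L714717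
theorem L714731 : sm gd N52785 = N52037 := ded_38_1 (flp_h L708300) L686946 (flp_h L673799) (flp_d L694963) L714717
theorem L714733 : sm gi N52785 = N52339 := ded_54_2 L711256 (flp_i L690246) (flp_h L673678) L694955 L714717
theorem L714735 : sm gh N50884 = N52786 := rfl
theorem L714737 : sm ga N52786 = N51357 := ded_17_1 (flp_h L701179) (flp_a L694973) L714735
theorem L714739 : sm gb N52786 = N51297 := ded_25_1 (flp_h L700463) (flp_b L694975) L714735
theorem L714741 : sm ge N52786 = N50885 := ded_43_1 (flp_h L694985) (flp_e L694979) L714735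
theorem L714743 : sm gf N52786 = N51326 := ded_47_1 (flp_h L700830) (flp_f L694981) L714735
theorem L714745 : sm gj N52786 = N50929 := ded_52_1 (flp_h L695650) (flp_j L694983) L714735
theorem L714747 : sm gd N50887 = N52787 := rfl
theorem L714749 : sm ga N52787 = N51360 := ded_12_1 (flp_d L701202) (flp_a L695016) L714747
theorem L714751 : sm gb N52787 = N51299 := ded_20_1 (flp_d L700486) (flp_b L695018) L714747
theorem L714753 : sm gf N52787 = N51329 := ded_35_2 (flp_d L700866) (flp_f L695023) L714747
theorem L714755 : sm gg N52787 = N52328 := ded_36_2 L711181 (flp_g L695025) L714747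
theorem L714757 : sm gj N52787 = N50934 := ded_37_2 (flp_d L695716) (flp_j L695027) L714747
theorem L714759 : sm gi N52787 = N52787 := ded_39_2 (flp_d L714747) L695029 L714747
theorem L714760 : sm ge N52787 = N50902 := ded_34_2 (flp_d L695270) L674114 (flp_d L673781) (flp_e L695021) L714747
theorem L714762 : sm gh N50888 = N52788 := rfl
theorem L714764 : sm ga N52788 = N51307 := ded_17_1 (flp_h L700593) (flp_a L695032) L714762
theorem L714766 : sm gb N52788 = N50889 := ded_25_1 (flp_h L695048) (flp_b L695034) L714762
theorem L714768 : sm gc N52788 = N52329 := ded_32_1 (flp_h L711183) (flp_c L695036) L714762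
theorem L714770 : sm ge N52788 = N52333 := ded_43_1 (flp_h L711208) (flp_e L695040) L714762
theorem L714772 : sm gf N52788 = N52034 := ded_47_1 (flp_h L708256) (flp_f L695042) L714762
theorem L714774 : sm gg N52788 = N52336 := ded_50_1 (flp_h L711226) (flp_g L695044) L714762
theorem L714776 : sm gj N52788 = N50946 := ded_52_1 (flp_h L695904) (flp_j L695046) L714762
theorem L714778 : sm gd N52788 = N52042 := ded_38_1 (flp_h L708362) L687025 (flp_h L673834) (flp_d L695038) L714762
theorem L714780 : sm gi N52788 = N52039 := ded_54_2 (flp_h L708325) (flp_i L686979) (flp_h L673815) L695030 L714762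
theorem L714782 : sm gh N50892 = N52789 := rfl
theorem L714784 : sm ga N52789 = N52037 := ded_17_1 (flp_h L708300) (flp_a L695106) L714782
theorem L714786 : sm gb N52789 = N51338 := ded_25_1 (flp_h L700977) (flp_b L695108) L714782
theorem L714788 : sm gc N52789 = N52033 := ded_32_1 (flp_h L708240) (flp_c L695110) L714782
theorem L714790 : sm ge N52789 = N52325 := ded_43_1 (flp_h L711150) (flp_e L695114) L714782
theorem L714792 : sm gf N52789 = N52339 := ded_47_1 L711256 (flp_f L695116) L714782
theorem L714794 : sm gg N52789 = N50894 := ded_50_1 (flp_h L695139) (flp_g L695118) L714782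
theorem L714796 : sm gj N52789 = N52046 := ded_52_1 (flp_h L708414) (flp_j L695120) L714782
theorem L714798 : sm gd N52789 = N52338 := ded_38_1 (flp_h L711242) L690226 (flp_h L673970) (flp_d L695112) L714782
theorem L714800 : sm gi N52789 = N50895 := ded_54_2 (flp_h L695153) (flp_i L674003) (flp_h L673951) L695104 L714782
theorem L714802 : sm gh N50893 = N52790 := rfl
theorem L714804 : sm ga N52790 = N52041 := ded_17_1 (flp_h L708350) (flp_a L695124) L714802
theorem L714806 : sm gb N52790 = N51343 := ded_25_1 (flp_h L701033) (flp_b L695126) L714802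
theorem L714808 : sm gc N52790 = N52035 := ded_32_1 (flp_h L708272) (flp_c L695128) L714802
theorem L714810 : sm ge N52790 = N50894 := ded_43_1 (flp_h L695139) (flp_e L695131) L714802
theorem L714812 : sm gf N52790 = N52332 := ded_47_1 (flp_h L711204) (flp_f L695133) L714802
theorem L714814 : sm gg N52790 = N52325 := ded_50_1 (flp_h L711150) (flp_g L695135) L714802
theorem L714816 : sm gj N52790 = N50968 := ded_52_1 (flp_h L696247) (flp_j L695137) L714802
theorem L714818 : sm gi N52790 = N50899 := ded_54_2 (flp_h L695221) (flp_i L674053) (flp_h L673984) L695122 L714802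
theorem L714820 : sm gi N50897 = N52791 := rfl
theorem L714822 : sm ga N52791 = N51294 := ded_18_1 (flp_i L700425) (flp_a L695189) L714820
theorem L714824 : sm gb N52791 = N51356 := ded_26_1 (flp_i L701169) (flp_b L695191) L714820
theorem L714826 : sm gc N52791 = N51317 := ded_33_1 (flp_i L700723) (flp_c L695193) L714820
theorem L714828 : sm gd N52791 = N50900 := ded_39_1 (flp_i L695235) (flp_d L695195) L714820
theorem L714830 : sm ge N52791 = N51334 := ded_44_1 (flp_i L700927) (flp_e L695197) L714820
theorem L714832 : sm gf N52791 = N51319 := ded_48_1 (flp_i L700749) (flp_f L695201) L714820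
theorem L714834 : sm gg N52791 = N50898 := ded_51_1 (flp_i L695205) L695187 L714820
theorem L714836 : sm gj N52791 = N51450 := ded_53_1 (flp_i L702245) L695203 L714820
theorem L714838 : sm gh N50898 = N52792 := rfl
theorem L714840 : sm ga N52792 = N52331 := ded_17_1 (flp_h L711198) (flp_a L695207) L714838
theorem L714842 : sm gb N52792 = N51357 := ded_25_1 (flp_h L701179) (flp_b L695209) L714838
theorem L714844 : sm gc N52792 = N52326 := ded_32_1 (flp_h L711160) (flp_c L695211) L714838
theorem L714846 : sm ge N52792 = N52042 := ded_43_1 (flp_h L708362) (flp_e L695215) L714838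
theorem L714848 : sm gf N52792 = N50899 := ded_47_1 (flp_h L695221) (flp_f L695217) L714838
theorem L714850 : sm gj N52792 = N50987 := ded_52_1 (flp_h L696517) (flp_j L695219) L714838
theorem L714852 : sm gi N52792 = N52332 := ded_54_2 (flp_h L711204) (flp_i L690175) (flp_h L674049) L695205 L714838
theorem L714854 : sm gd N50899 = N52793 := rfl
theorem L714856 : sm ga N52793 = N52334 := ded_12_1 (flp_d L711214) (flp_a L695223) L714854
theorem L714858 : sm gb N52793 = N51358 := ded_20_1 (flp_d L701187) (flp_b L695225) L714854
theorem L714860 : sm gg N52793 = N52327 := ded_36_2 (flp_d L711166) (flp_g L695231) L714854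
theorem L714862 : sm gj N52793 = N50988 := ded_37_2 (flp_d L696525) (flp_j L695233) L714854
theorem L714864 : sm gh N52793 = N50902 := ded_38_2 (flp_d L695270) (flp_h L674106) (flp_d L674061) L695221 L714854
theorem L714866 : sm gd N50901 = N52794 := rfl
theorem L714868 : sm ga N52794 = N52341 := ded_12_1 (flp_d L711264) (flp_a L695255) L714866
theorem L714870 : sm gb N52794 = N51360 := ded_20_1 (flp_d L701202) (flp_b L695257) L714866
theorem L714872 : sm gf N52794 = N50902 := ded_35_2 (flp_d L695270) (flp_f L695263) L714866
theorem L714874 : sm gg N52794 = N52344 := ded_36_2 L711294 (flp_g L695265) L714866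
theorem L714876 : sm gj N52794 = N50995 := ded_37_2 (flp_d L696617) (flp_j L695267) L714866
theorem L714878 : sm gi N52794 = N52794 := ded_39_2 (flp_d L714866) L695269 L714866
theorem L714879 : sm gc N52794 = N52343 := ded_27_1 (flp_d L711280) L690302 (flp_d L690142) (flp_c L695259) L714866
theorem L714881 : sm ge N52794 = N52342 := ded_34_2 (flp_d L711273) L690288 (flp_d L674162) (flp_e L695261) L714866
theorem L714883 : sm gc N50902 = N52795 := rfl
theorem L714885 : sm ga N52795 = N51364 := ded_11_1 L701253 (flp_a L695272) L714883
theorem L714887 : sm gf N52795 = N52343 := ded_29_2 (flp_c L714879) L714872 L714883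
theorem L714889 : sm gg N52795 = N52320 := ded_30_2 L711116 (flp_g L695276) L714883
theorem L714891 : sm gj N52795 = N50996 := ded_31_2 (flp_c L696628) (flp_j L695278) L714883
theorem L714893 : sm gi N52795 = N52795 := ded_33_2 (flp_c L714883) L695280 L714883
theorem L714894 : sm gd N52795 = N51363 := ded_27_2 L701232 L680020 (flp_c L674112) L695270 L714883
theorem L714896 : sm ge N50903 = N52796 := rfl
theorem L714898 : sm ga N52796 = N52062 := ded_13_1 (flp_e L708606) (flp_a L695283) L714896
theorem L714900 : sm gb N52796 = N51420 := ded_21_1 (flp_e L701982) (flp_b L695285) L714896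
theorem L714902 : sm gc N52796 = N52448 := ded_28_1 L712071 (flp_c L695293) L714896
theorem L714904 : sm gg N52796 = N52043 := ded_41_2 (flp_e L708372) (flp_g L695289) L714896
theorem L714906 : sm gj N52796 = N52444 := ded_42_2 L712045 (flp_j L695291) L714896
theorem L714908 : sm gh N52796 = N50914 := ded_43_2 (flp_e L695461) (flp_h L695295) L714896
theorem L714910 : sm gd N52796 = N52147 := ded_34_1 (flp_e L709506) (flp_d L688503) (flp_e L674193) L695281 L714896
theorem L714912 : sm gi N50903 = N52797 := rfl
theorem L714914 : sm ga N52797 = N52063 := ded_18_1 (flp_i L708616) (flp_a L695283) L714912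
theorem L714916 : sm gb N52797 = N51421 := ded_26_1 (flp_i L701988) (flp_b L695285) L714912
theorem L714918 : sm gc N52797 = N52462 := ded_33_1 (flp_i L712163) (flp_c L695293) L714912
theorem L714920 : sm gd N52797 = N50904 := ded_39_1 (flp_i L695297) L695281 L714912
theorem L714922 : sm gf N52797 = N50906 := ded_48_1 (flp_i L695330) (flp_f L695287) L714912
theorem L714924 : sm gg N52797 = N52044 := ded_51_1 (flp_i L708386) (flp_g L695289) L714912
theorem L714926 : sm gj N52797 = N52458 := ded_53_1 (flp_i L712133) (flp_j L695291) L714912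
theorem L714928 : sm gf N50905 = N52798 := rfl
theorem L714930 : sm ga N52798 = N51590 := ded_14_1 L703741 (flp_a L695317) L714928
theorem L714932 : sm gb N52798 = N51425 := ded_22_1 (flp_f L702024) (flp_b L695319) L714928
theorem L714934 : sm gc N52798 = N51629 := ded_29_1 L704093 (flp_c L695321) L714928
theorem L714936 : sm gd N52798 = N52798 := ded_35_1 (flp_f L714928) L695329 L714928
theorem L714937 : sm gj N52798 = N51625 := ded_46_2 L704066 (flp_j L695325) L714928
theorem L714939 : sm gh N52798 = N50921 := ded_47_2 (flp_f L695552) (flp_h L695327) L714928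
theorem L714941 : sm gg N52798 = N51510 := ded_45_2 (flp_f L702937) L681867 (flp_f L674255) (flp_g L695323) L714928
theorem L714943 : sm gi N50905 = N52799 := rfl
theorem L714945 : sm ga N52799 = N51596 := ded_18_1 (flp_i L703787) (flp_a L695317) L714943
theorem L714947 : sm gb N52799 = N51426 := ded_26_1 (flp_i L702029) (flp_b L695319) L714943
theorem L714949 : sm gc N52799 = N51640 := ded_33_1 (flp_i L704169) (flp_c L695321) L714943
theorem L714951 : sm gd N52799 = N52799 := ded_39_1 (flp_i L714943) L695329 L714943
theorem L714952 : sm ge N52799 = N50906 := ded_44_1 (flp_i L695330) L695315 L714943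
theorem L714954 : sm gg N52799 = N50909 := ded_51_1 (flp_i L695384) (flp_g L695323) L714943
theorem L714956 : sm gj N52799 = N51636 := ded_53_1 (flp_i L704145) (flp_j L695325) L714943
theorem L714958 : sm gh N50906 = N52800 := rfl
theorem L714960 : sm ga N52800 = N52085 := ded_17_1 L708846 (flp_a L695332) L714958
theorem L714962 : sm gb N52800 = N51427 := ded_25_1 (flp_h L702036) (flp_b L695334) L714958
theorem L714964 : sm gc N52800 = N52460 := ded_32_1 L712155 (flp_c L695336) L714958
theorem L714966 : sm gg N52800 = N50910 := ded_50_1 (flp_h L695397) (flp_g L695340) L714958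
theorem L714968 : sm gj N52800 = N52470 := ded_52_1 (flp_h L712211) (flp_j L695342) L714958
theorem L714970 : sm gd N52800 = N50965 := ded_38_1 (flp_h L696207) L675137 (flp_h L674228) (flp_d L695338) L714958
theorem L714972 : sm gi N52800 = N50923 := ded_54_2 (flp_h L695574) (flp_i L674383) (flp_h L674213) L695330 L714958
theorem L714974 : sm gh N50909 = N52801 := rfl
theorem L714976 : sm ga N52801 = N51597 := ded_17_1 (flp_h L703794) (flp_a L695386) L714974
theorem L714978 : sm gb N52801 = N51433 := ded_25_1 (flp_h L702101) (flp_b L695388) L714974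
theorem L714980 : sm gc N52801 = N52471 := ded_32_1 L712219 (flp_c L695390) L714974
theorem L714982 : sm ge N52801 = N50910 := ded_43_1 (flp_h L695397) (flp_e L695393) L714974
theorem L714984 : sm gf N52801 = N51516 := ded_47_1 (flp_h L702998) (flp_f L695395) L714974
theorem L714986 : sm gi N52801 = N50929 := ded_54_2 (flp_h L695650) (flp_i L674422) (flp_h L674252) L695384 L714974
theorem L714988 : sm ge N50911 = N52802 := rfl
theorem L714990 : sm ga N52802 = N52448 := ded_13_1 L712071 (flp_a L695413) L714988
theorem L714992 : sm gb N52802 = N51436 := ded_21_1 (flp_e L702137) (flp_b L695415) L714988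
theorem L714994 : sm gc N52802 = N52062 := ded_28_1 (flp_e L708606) (flp_c L695423) L714988
theorem L714996 : sm gg N52802 = N52064 := ded_41_2 (flp_e L708626) (flp_g L695419) L714988
theorem L714998 : sm gj N52802 = N50914 := ded_42_2 (flp_e L695461) (flp_j L695421) L714988
theorem L715000 : sm gh N52802 = N52444 := ded_43_2 L712045 (flp_h L695425) L714988
theorem L715002 : sm gd N52802 = N51018 := ded_34_1 (flp_e L696914) (flp_d L675713) (flp_e L674297) L695411 L714988
theorem L715004 : sm gi N50911 = N52803 := rfl
theorem L715006 : sm ga N52803 = N52462 := ded_18_1 (flp_i L712163) (flp_a L695413) L715004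
theorem L715008 : sm gb N52803 = N51437 := ded_26_1 (flp_i L702143) (flp_b L695415) L715004
theorem L715010 : sm gc N52803 = N52063 := ded_33_1 (flp_i L708616) (flp_c L695423) L715004
theorem L715012 : sm gd N52803 = N50912 := ded_39_1 (flp_i L695427) L695411 L715004
theorem L715014 : sm gf N52803 = N50917 := ded_48_1 (flp_i L695499) (flp_f L695417) L715004
theorem L715016 : sm gg N52803 = N52065 := ded_51_1 (flp_i L708636) (flp_g L695419) L715004
theorem L715018 : sm gj N52803 = N50915 := ded_53_1 (flp_i L695471) (flp_j L695421) L715004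
theorem L715020 : sm ge N50913 = N52804 := rfl
theorem L715022 : sm ga N52804 = N52444 := ded_13_1 L712045 (flp_a L695447) L715020
theorem L715024 : sm gb N52804 = N51599 := ded_21_1 (flp_e L703807) L695459 L715020
theorem L715026 : sm gc N52804 = N50914 := ded_28_1 (flp_e L695461) L695445 L715020
theorem L715028 : sm gg N52804 = N50969 := ded_41_2 (flp_e L696259) (flp_g L695451) L715020
theorem L715030 : sm gj N52804 = N52062 := ded_42_2 (flp_e L708606) (flp_j L695453) L715020
theorem L715032 : sm gh N52804 = N52448 := ded_43_2 L712071 (flp_h L695455) L715020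
theorem L715034 : sm gd N52804 = N51171 := ded_34_1 (flp_e L698877) (flp_d L677445) (flp_e L674546) (flp_d L695457) L715020
theorem L715036 : sm gi N50913 = N52805 := rfl
theorem L715038 : sm ga N52805 = N52458 := ded_18_1 (flp_i L712133) (flp_a L695447) L715036
theorem L715040 : sm gb N52805 = N51600 := ded_26_1 (flp_i L703815) L695459 L715036
theorem L715042 : sm gc N52805 = N50915 := ded_33_1 (flp_i L695471) L695445 L715036
theorem L715044 : sm gd N52805 = N50935 := ded_39_1 (flp_i L695727) (flp_d L695457) L715036
theorem L715046 : sm gf N52805 = N50920 := ded_48_1 (flp_i L695540) (flp_f L695449) L715036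
theorem L715048 : sm gg N52805 = N50970 := ded_51_1 (flp_i L696273) (flp_g L695451) L715036
theorem L715050 : sm gj N52805 = N52063 := ded_53_1 (flp_i L708616) (flp_j L695453) L715036
theorem L715052 : sm gf N50914 = N52806 := rfl
theorem L715054 : sm ga N52806 = N51613 := ded_14_1 L703941 (flp_a L695463) L715052
theorem L715056 : sm gb N52806 = N51441 := ded_22_1 (flp_f L702179) (flp_b L695465) L715052
theorem L715058 : sm gd N52806 = N51023 := ded_35_1 (flp_f L696970) (flp_d L695469) L715052
theorem L715060 : sm ge N52806 = N50921 := ded_40_1 (flp_f L695552) (flp_e L674373) (flp_f L674311) L695461 L715052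
theorem L715062 : sm gg N52806 = N51525 := ded_45_2 (flp_f L703082) L681975 (flp_f L687117) (flp_g L695467) L715052
theorem L715064 : sm gi N50914 = N52807 := rfl
theorem L715066 : sm ga N52807 = N52449 := ded_18_1 (flp_i L712073) (flp_a L695463) L715064
theorem L715068 : sm gb N52807 = N51442 := ded_26_1 (flp_i L702185) (flp_b L695465) L715064
theorem L715070 : sm gd N52807 = N51024 := ded_39_1 (flp_i L696980) (flp_d L695469) L715064
theorem L715072 : sm ge N52807 = N50915 := ded_44_1 (flp_i L695471) L695461 L715064
theorem L715074 : sm gg N52807 = N52047 := ded_51_1 (flp_i L708428) (flp_g L695467) L715064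
theorem L715076 : sm gh N50915 = N52808 := rfl
theorem L715078 : sm ga N52808 = N52463 := ded_17_1 (flp_h L712171) (flp_a L695473) L715076
theorem L715080 : sm gb N52808 = N51443 := ded_25_1 (flp_h L702193) (flp_b L695475) L715076
theorem L715082 : sm gf N52808 = N50923 := ded_47_1 (flp_h L695574) (flp_f L695479) L715076
theorem L715084 : sm gg N52808 = N52048 := ded_50_1 (flp_h L708440) (flp_g L695481) L715076
theorem L715086 : sm gd N52808 = N50975 := ded_38_1 (flp_h L696345) L675233 (flp_h L674329) (flp_d L695477) L715076
theorem L715088 : sm gf N50916 = N52809 := rfl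
theorem L715090 : sm ga N52809 = N51629 := ded_14_1 L704093 (flp_a L695485) L715088
theorem L715092 : sm gb N52809 = N51396 := ded_22_1 L701690 (flp_b L695487) L715088
theorem L715094 : sm gc N52809 = N51590 := ded_29_1 L703741 (flp_c L695489) L715088
theorem L715096 : sm gd N52809 = N50930 := ded_35_1 (flp_f L695660) (flp_d L695497) L715088
theorem L715098 : sm gj N52809 = N50921 := ded_46_2 (flp_f L695552) (flp_j L695493) L715088
theorem L715100 : sm gh N52809 = N51625 := ded_47_2 L704066 (flp_h L695495) L715088
theorem L715102 : sm gg N52809 = N51587 := ded_45_2 (flp_f L703706) L682486 (flp_f L680739) (flp_g L695491) L715088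
theorem L715104 : sm gi N50916 = N52810 := rfl
theorem L715106 : sm ga N52810 = N51640 := ded_18_1 (flp_i L704169) (flp_a L695485) L715104
theorem L715108 : sm gb N52810 = N51400 := ded_26_1 (flp_i L701730) (flp_b L695487) L715104
theorem L715110 : sm gc N52810 = N51596 := ded_33_1 (flp_i L703787) (flp_c L695489) L715104
theorem L715112 : sm gd N52810 = N50931 := ded_39_1 (flp_i L695674) (flp_d L695497) L715104
theorem L715114 : sm ge N52810 = N50917 := ded_44_1 (flp_i L695499) L695483 L715104
theorem L715116 : sm gg N52810 = N51404 := ded_51_1 (flp_i L701780) (flp_g L695491) L715104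
theorem L715118 : sm gj N52810 = N50922 := ded_53_1 (flp_i L695562) (flp_j L695493) L715104
theorem L715120 : sm gh N50917 = N52811 := rfl
theorem L715122 : sm ga N52811 = N52460 := ded_17_1 L712155 (flp_a L695501) L715120
theorem L715124 : sm gb N52811 = N51444 := ded_25_1 (flp_h L702201) (flp_b L695503) L715120
theorem L715126 : sm gc N52811 = N52085 := ded_32_1 L708846 (flp_c L695505) L715120
theorem L715128 : sm gg N52811 = N52049 := ded_50_1 L708460 (flp_g L695509) L715120
theorem L715130 : sm gj N52811 = N50923 := ded_52_1 (flp_h L695574) (flp_j L695511) L715120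
theorem L715132 : sm gd N52811 = N50976 := ded_38_1 (flp_h L696353) L675247 (flp_h L674359) (flp_d L695507) L715120
theorem L715134 : sm gi N52811 = N52470 := ded_54_2 (flp_h L712211) (flp_i L691295) (flp_h L674343) L695499 L715120
theorem L715136 : sm ga N50918 = N52812 := rfl
theorem L715138 : sm gc N52812 = N50985 := ded_11_2 L696497 (flp_c L695525) L715136
theorem L715140 : sm gd N52812 = N50936 := ded_12_2 (flp_a L695745) (flp_d L695515) L715136
theorem L715142 : sm gf N52812 = N51517 := ded_14_2 L703008 (flp_f L695517) L715136
theorem L715144 : sm gg N52812 = N50924 := ded_15_2 (flp_a L695584) (flp_g L695519) L715136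
theorem L715146 : sm gj N52812 = N50982 := ded_16_2 L696447 (flp_j L695521) L715136
theorem L715148 : sm gh N52812 = N51378 := ded_17_2 L701459 (flp_h L695523) L715136
theorem L715150 : sm gb N52812 = N51385 := ded_10_2 L701548 L680964 (flp_a L674363) L695513 L715136
theorem L715152 : sm ge N51423 = N52812 := ded_28_0 L715138 L696503 (flp_c L702015)
theorem L715154 : sm ge N50918 = N52813 := rfl
theorem L715156 : sm ga N52813 = N51423 := ded_13_1 L715152 (flp_a L715136) L715154
theorem L715158 : sm gb N52813 = N50919 := ded_21_1 (flp_e L695527) L695513 L715154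
theorem L715160 : sm gc N52813 = N51378 := ded_28_1 L701467 (flp_c L695525) L715154
theorem L715162 : sm gg N52813 = N50925 := ded_41_2 (flp_e L695600) (flp_g L695519) L715154
theorem L715164 : sm gj N52813 = N50966 := ded_42_2 L696228 (flp_j L695521) L715154
theorem L715166 : sm gh N52813 = N50985 := ded_43_2 L696503 (flp_h L695523) L715154
theorem L715168 : sm gd N52813 = N52813 := ded_34_1 (flp_e L715154) L695515 L674578 (flp_d L695515) L715154
theorem L715169 : sm gi N50918 = N52814 := rfl
theorem L715171 : sm gb N52814 = N50920 := ded_26_1 (flp_i L695540) L695513 L715169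
theorem L715173 : sm gc N52814 = N51445 := ded_33_1 (flp_i L702207) (flp_c L695525) L715169
theorem L715175 : sm gd N52814 = N50937 := ded_39_1 (flp_i L695760) (flp_d L695515) L715169
theorem L715177 : sm gf N52814 = N51600 := ded_48_1 (flp_i L703815) (flp_f L695517) L715169
theorem L715179 : sm gg N52814 = N50926 := ded_51_1 (flp_i L695615) (flp_g L695519) L715169
theorem L715181 : sm gj N52814 = N52060 := ded_53_1 (flp_i L708584) (flp_j L695521) L715169
theorem L715183 : sm gf N50919 = N52815 := rfl
theorem L715185 : sm ga N52815 = N51625 := ded_14_1 L704066 (flp_a L695529) L715183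
theorem L715187 : sm gc N52815 = N50921 := ded_29_1 (flp_f L695552) (flp_c L695531) L715183
theorem L715189 : sm gd N52815 = N52815 := ded_35_1 (flp_f L715183) L695539 L715183
theorem L715190 : sm gj N52815 = N51590 := ded_46_2 L703741 (flp_j L695535) L715183
theorem L715192 : sm gh N52815 = N51629 := ded_47_2 L704093 (flp_h L695537) L715183
theorem L715194 : sm gg N52815 = N51534 := ded_45_2 (flp_f L703174) L682031 (flp_f L674410) (flp_g L695533) L715183
theorem L715196 : sm gi N50919 = N52816 := rfl
theorem L715198 : sm ga N52816 = N51636 := ded_18_1 (flp_i L704145) (flp_a L695529) L715196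
theorem L715200 : sm gc N52816 = N50922 := ded_33_1 (flp_i L695562) (flp_c L695531) L715196
theorem L715202 : sm gd N52816 = N52816 := ded_39_1 (flp_i L715196) L695539 L715196
theorem L715203 : sm ge N52816 = N50920 := ded_44_1 (flp_i L695540) L695527 L715196
theorem L715205 : sm gg N52816 = N50927 := ded_51_1 (flp_i L695627) (flp_g L695533) L715196
theorem L715207 : sm gj N52816 = N51596 := ded_53_1 (flp_i L703787) (flp_j L695535) L715196
theorem L715209 : sm gh N50920 = N52817 := rfl
theorem L715211 : sm ga N52817 = N52470 := ded_17_1 (flp_h L712211) (flp_a L695542) L715209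
theorem L715213 : sm gc N52817 = N50923 := ded_32_1 (flp_h L695574) (flp_c L695544) L715209
theorem L715215 : sm gg N52817 = N50928 := ded_50_1 (flp_h L695638) (flp_g L695548) L715209
theorem L715217 : sm gj N52817 = N52085 := ded_52_1 L708846 (flp_j L695550) L715209
theorem L715219 : sm gd N52817 = N52078 := ded_38_1 (flp_h L708766) L687505 (flp_h L674600) (flp_d L695546) L715209
theorem L715221 : sm gi N52817 = N52460 := ded_54_2 L712155 (flp_i L691317) (flp_h L674369) L695540 L715209
theorem L715223 : sm gi N50921 = N52818 := rfl
theorem L715225 : sm ga N52818 = N51630 := ded_18_1 (flp_i L704095) (flp_a L695554) L715223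
theorem L715227 : sm gb N52818 = N51448 := ded_26_1 (flp_i L702233) (flp_b L695556) L715223
theorem L715229 : sm gd N52818 = N50932 := ded_39_1 (flp_i L695689) (flp_d L695558) L715223
theorem L715231 : sm gf N52818 = N50922 := ded_48_1 (flp_i L695562) L695552 L715223
theorem L715233 : sm gg N52818 = N51537 := ded_51_1 (flp_i L703200) (flp_g L695560) L715223
theorem L715235 : sm gh N50922 = N52819 := rfl
theorem L715237 : sm ga N52819 = N51641 := ded_17_1 (flp_h L704179) (flp_a L695564) L715235
theorem L715239 : sm gb N52819 = N51449 := ded_25_1 (flp_h L702239) (flp_b L695566) L715235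
theorem L715241 : sm ge N52819 = N50923 := ded_43_1 (flp_h L695574) (flp_e L695570) L715235
theorem L715243 : sm gg N52819 = N50929 := ded_50_1 (flp_h L695650) (flp_g L695572) L715235
theorem L715245 : sm gi N50924 = N52820 := rfl
theorem L715247 : sm ga N52820 = N50926 := ded_18_1 (flp_i L695615) L695584 L715245
theorem L715249 : sm gb N52820 = N51429 := ded_26_1 (flp_i L702053) (flp_b L695596) L715245
theorem L715251 : sm gc N52820 = N51450 := ded_33_1 (flp_i L702245) (flp_c L695586) L715245
theorem L715253 : sm gd N52820 = N50938 := ded_39_1 (flp_i L695775) (flp_d L695588) L715245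
theorem L715255 : sm ge N52820 = N51428 := ded_44_1 (flp_i L702044) L695598 L715245
theorem L715257 : sm gf N52820 = N51318 := ded_48_1 (flp_i L700733) (flp_f L695590) L715245
theorem L715259 : sm gj N52820 = N51317 := ded_53_1 (flp_i L700723) (flp_j L695592) L715245
theorem L715261 : sm gi N50925 = N52821 := rfl
theorem L715263 : sm ga N52821 = N51428 := ded_18_1 (flp_i L702044) (flp_a L695602) L715261
theorem L715265 : sm gb N52821 = N50927 := ded_26_1 (flp_i L695627) (flp_b L695604) L715261
theorem L715267 : sm gc N52821 = N51451 := ded_33_1 (flp_i L702257) (flp_c L695606) L715261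
theorem L715269 : sm gd N52821 = N52821 := ded_39_1 (flp_i L715261) L695612 L715261
theorem L715270 : sm ge N52821 = N50926 := ded_44_1 (flp_i L695615) L695600 L715261
theorem L715272 : sm gf N52821 = N51540 := ded_48_1 (flp_i L703230) (flp_f L695613) L715261
theorem L715274 : sm gj N52821 = N51344 := ded_53_1 (flp_i L701041) (flp_j L695608) L715261
theorem L715276 : sm gh N50926 = N52822 := rfl
theorem L715278 : sm gb N52822 = N50928 := ded_25_1 (flp_h L695638) (flp_b L695617) L715276
theorem L715280 : sm gc N52822 = N51452 := ded_32_1 (flp_h L702267) (flp_c L695619) L715276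
theorem L715282 : sm gf N52822 = N51346 := ded_47_1 (flp_h L701054) (flp_f L695623) L715276
theorem L715284 : sm gj N52822 = N51345 := ded_52_1 (flp_h L701048) (flp_j L695625) L715276
theorem L715286 : sm gd N52822 = N52423 := ded_38_1 (flp_h L711903) L695803 (flp_h L695788) (flp_d L695621) L715276
theorem L715288 : sm gi N52822 = N52467 := ded_54_2 L712199 (flp_i L695356) L695354 L695615 L715276
theorem L715290 : sm gh N50927 = N52823 := rfl
theorem L715292 : sm ga N52823 = N51637 := ded_17_1 (flp_h L704154) (flp_a L695629) L715290
theorem L715294 : sm gc N52823 = N50929 := ded_32_1 (flp_h L695650) (flp_c L695631) L715290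
theorem L715296 : sm ge N52823 = N50928 := ded_43_1 (flp_h L695638) (flp_e L695634) L715290
theorem L715298 : sm gf N52823 = N51542 := ded_47_1 (flp_h L703245) (flp_f L695636) L715290
theorem L715300 : sm gi N52823 = N52471 := ded_54_2 L712219 (flp_i L695378) L695376 L695627 L715290
theorem L715302 : sm gd N52823 = N52425 := ded_55_8 L711921 L691315 L669394 L672066 L672070 (flp_d L691499) L702408 (flp_c L702397) (flp_d L681278) L659015 (flp_h L659011) (flp_d L658952) (flp_f L681208) L681206 L659484 L360496 L248137 (flp_d L248276) (flp_i L248271) L171031 (flp_d L171023) L117961 L86249 L59666 L42483 (flp_c L61244) (flp_d L592212) L122645 L122651 L84904 L84905 (flp_e L80568) (flp_d L115126) L115124 L79728 L79729 (flp_i L55882) (flp_h L38841) (flp_d L27053) L27062 (flp_e L38678) (flp_d L55606) (flp_b L80160) (flp_c L115814) L115816 (flp_i L167613) L645114 L141516 L97720 L68553 (flp_d L98995) L98994 (flp_c L644730) L115720 L644735 L98982 L68559 (flp_f L67713) (flp_e L619768) (flp_d L122270) L122268 L84501 L59462 (flp_i L59343) L59342 (flp_d L85736) L85738 (flp_e L124165) L124164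 (flp_b L180152) (flp_c L611217) (flp_d L258626) (flp_i L591830) (flp_h L178304) (flp_d L259002) L376774 (flp_e L653815) L653813 L355677 L248409 (flp_d L361038) L660210 L682853 L704185 L704187 (flp_e L702337) (flp_d L702335) (flp_b L695654) (flp_c L715294)
theorem L715304 : sm gd N50929 = N52824 := rfl
theorem L715306 : sm ga N52824 = N51642 := ded_12_1 (flp_d L704185) (flp_a L695652) L715304
theorem L715308 : sm gb N52824 = N51459 := ded_20_1 (flp_d L702335) (flp_b L695654) L715304
theorem L715310 : sm gf N52824 = N51544 := ded_35_2 (flp_d L703261) (flp_f L695658) L715304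
theorem L715312 : sm ge N52824 = N50988 := ded_34_2 (flp_d L696525) L675389 (flp_d L674442) (flp_e L695656) L715304
theorem L715314 : sm gh N52824 = N50934 := ded_38_2 (flp_d L695716) (flp_h L674512) (flp_d L674428) L695650 L715304
theorem L715316 : sm gi N50930 = N52825 := rfl
theorem L715318 : sm ga N52825 = N51646 := ded_18_1 (flp_i L704216) (flp_a L695662) L715316
theorem L715320 : sm gb N52825 = N51411 := ded_26_1 (flp_i L701867) (flp_b L695664) L715316
theorem L715322 : sm gc N52825 = N52825 := ded_33_1 (flp_i L715316) L695666 L715316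
theorem L715323 : sm ge N52825 = N51042 := ded_44_1 (flp_i L697202) (flp_e L695670) L715316
theorem L715325 : sm gf N52825 = N50931 := ded_48_1 (flp_i L695674) L695660 L715316
theorem L715327 : sm gg N52825 = N52358 := ded_51_1 (flp_i L711435) (flp_g L695672) L715316
theorem L715329 : sm gj N52825 = N50932 := ded_53_1 (flp_i L695689) (flp_j L695667) L715316
theorem L715331 : sm gh N52721 = N52825 := ded_17_0 L715318 (flp_h L704225) (flp_a L714083)
theorem L715333 : sm gh N50932 = N52826 := rfl
theorem L715335 : sm ga N52826 = N51647 := ded_17_1 (flp_h L704227) (flp_a L695691) L715333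
theorem L715337 : sm gb N52826 = N51461 := ded_25_1 (flp_h L702357) (flp_b L695693) L715333
theorem L715339 : sm gc N52826 = N52826 := ded_32_1 (flp_h L715333) L695695 L715333
theorem L715340 : sm ge N52826 = N51044 := ded_43_1 (flp_h L697226) (flp_e L695696) L715333
theorem L715342 : sm gf N52826 = N50933 := ded_47_1 (flp_h L695702) (flp_f L695698) L715333
theorem L715344 : sm gg N52826 = N51548 := ded_50_1 (flp_h L703308) (flp_g L695700) L715333
theorem L715346 : sm gj N52826 = N52721 := ded_52_1 L715331 L715329 L715333
theorem L715348 : sm gi N52826 = N52826 := ded_54_2 (flp_h L715333) (flp_i L695689) L674480 L695689 L715333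
theorem L715349 : sm gd N50933 = N52827 := rfl
theorem L715351 : sm ga N52827 = N51650 := ded_12_1 (flp_d L704250) (flp_a L695704) L715349
theorem L715353 : sm gb N52827 = N51462 := ded_20_1 (flp_d L702364) (flp_b L695706) L715349
theorem L715355 : sm gg N52827 = N50934 := ded_36_2 (flp_d L695716) (flp_g L695711) L715349
theorem L715357 : sm gj N52827 = N52414 := ded_37_2 L711850 (flp_j L695713) L715349
theorem L715359 : sm gi N52827 = N52827 := ded_39_2 (flp_d L715349) L695715 L715349
theorem L715360 : sm ge N52827 = N50992 := ded_34_2 (flp_d L696575) L675426 (flp_d L674509) (flp_e L695709) L715349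
theorem L715362 : sm gc N50934 = N52828 := rfl
theorem L715364 : sm ga N52828 = N51651 := ded_11_1 (flp_c L704259) (flp_a L695718) L715362
theorem L715366 : sm ge N52828 = N50996 := ded_28_2 (flp_c L696628) (flp_e L695725) L715362
theorem L715368 : sm gf N52828 = N51550 := ded_29_2 (flp_c L703325) (flp_f L695722) L715362
theorem L715370 : sm gi N52828 = N52828 := ded_33_2 (flp_c L715362) L695724 L715362
theorem L715371 : sm gb N52828 = N52393 := ded_19_1 L711684 L702408 (flp_c L702397) (flp_b L695720) L715362
theorem L715373 : sm gd N52828 = N52828 := ded_27_2 (flp_c L715362) (flp_d L695716) L674518 L695716 L715362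
theorem L715374 : sm gi N50936 = N52829 := rfl
theorem L715376 : sm ga N52829 = N50937 := ded_18_1 (flp_i L695760) L695745 L715374
theorem L715378 : sm gb N52829 = N51386 := ded_26_1 (flp_i L701560) (flp_b L695758) L715374
theorem L715380 : sm gc N52829 = N50940 := ded_33_1 (flp_i L695805) (flp_c L695747) L715374
theorem L715382 : sm ge N52829 = N52829 := ded_44_1 (flp_i L715374) L695749 L715374
theorem L715383 : sm gf N52829 = N51518 := ded_48_1 (flp_i L703014) (flp_f L695750) L715374
theorem L715385 : sm gg N52829 = N50938 := ded_51_1 (flp_i L695775) (flp_g L695752) L715374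
theorem L715387 : sm gj N52829 = N51374 := ded_53_1 (flp_i L701400) (flp_j L695754) L715374
theorem L715389 : sm gh N52829 = N51483 := ded_54_1 (flp_i L702635) (flp_h L681636) (flp_i L679351) (flp_h L695756) L715374
theorem L715391 : sm gh N50938 = N52830 := rfl
theorem L715393 : sm ga N52830 = N50939 := ded_17_1 (flp_h L695788) (flp_a L695777) L715391
theorem L715395 : sm gb N52830 = N51309 := ded_25_1 L700631 (flp_b L695779) L715391
theorem L715397 : sm gc N52830 = N50941 := ded_32_1 (flp_h L695821) (flp_c L695781) L715391
theorem L715399 : sm ge N52830 = N52830 := ded_43_1 (flp_h L715391) L695783 L715391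
theorem L715400 : sm gf N52830 = N51278 := ded_47_1 L700219 (flp_f L695784) L715391
theorem L715402 : sm gg N52830 = N51483 := ded_50_1 (flp_h L715389) L715385 L715391
theorem L715404 : sm gj N52830 = N51277 := ded_52_1 L700201 (flp_j L695786) L715391
theorem L715406 : sm gi N52830 = N51275 := ded_54_2 (flp_h L700153) L678651 (flp_h L674611) L695775 L715391
theorem L715408 : sm gd N52830 = N51454 := ded_55_2 L702297 L681180 L658938 (flp_b L659145) L659147 (flp_d L653140) (flp_i L653136) L644095 L247064 L247066 L170236 L117452 L81245 L56338 (flp_d L55740) (flp_i L80287) L80286 L80283 L56245 L56244 (flp_d L80283) L80282 (flp_c L116008) (flp_d L168045) L168048 L168280 L644036 L122464 L122462 L84603 (flp_b L84698) (flp_c L122591) (flp_d L576376) L124910 (flp_h L180853) (flp_d L576560) L258691 (flp_e L244538) (flp_d L355337) L355335 (flp_c L351082) L351084 (flp_i L241686) (flp_h L166645) L115054 (flp_f L647891) L88363 L61121 L42381 L29485 L20540 L20543 (flp_h L28690) (flp_d L40618) L40620 (flp_e L58088) L58087 L58085 L627189 (flp_d L32636) L32643 L32652 (flp_d L47006) L47008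 L33174 L33172 L597562 (flp_c L40429) L58230 (flp_i L593788) (flp_h L68547) (flp_d L68543) (flp_f L67592) (flp_e L88683) L128523 L128525 L186617 L186622 L271267 L642550 (flp_d L657851) L657853 (flp_e L679925) (flp_d L695380) L695368 (flp_c L695586) L695588 L695775 L715391
theorem L715410 : sm ge N50942 = N52831 := rfl
theorem L715412 : sm ga N52831 = N51489 := ded_13_1 (flp_e L702704) (flp_a L695839) L715410
theorem L715414 : sm gb N52831 = N50948 := ded_21_1 (flp_e L695935) (flp_b L695841) L715410
theorem L715416 : sm gc N52831 = N52415 := ded_28_1 (flp_e L711852) (flp_c L695851) L715410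
theorem L715418 : sm gg N52831 = N52050 := ded_41_2 (flp_e L708462) (flp_g L695845) L715410
theorem L715420 : sm gj N52831 = N52439 := ded_42_2 L712013 (flp_j L695847) L715410
theorem L715422 : sm gh N52831 = N52068 := ded_43_2 (flp_e L708668) (flp_h L695849) L715410
theorem L715424 : sm gd N52831 = N51080 := ded_34_1 (flp_e L697736) (flp_d L676477) (flp_e L674744) L695837 L715410
theorem L715426 : sm gf N52831 = N52431 := ded_40_2 (flp_e L711953) L691077 (flp_e L674762) (flp_f L695843) L715410
theorem L715428 : sm gi N50942 = N52832 := rfl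
theorem L715430 : sm ga N52832 = N51490 := ded_18_1 (flp_i L702712) (flp_a L695839) L715428
theorem L715432 : sm gb N52832 = N50949 := ded_26_1 (flp_i L695951) (flp_b L695841) L715428
theorem L715434 : sm gc N52832 = N52416 := ded_33_1 (flp_i L711858) (flp_c L695851) L715428
theorem L715436 : sm gd N52832 = N50943 := ded_39_1 (flp_i L695853) L695837 L715428
theorem L715438 : sm gf N52832 = N50944 := ded_48_1 (flp_i L695870) (flp_f L695843) L715428
theorem L715440 : sm gg N52832 = N52051 := ded_51_1 (flp_i L708476) (flp_g L695845) L715428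
theorem L715442 : sm gj N52832 = N52455 := ded_53_1 (flp_i L712109) (flp_j L695847) L715428
theorem L715444 : sm gh N50944 = N52833 := rfl
theorem L715446 : sm ga N52833 = N51494 := ded_17_1 (flp_h L702760) (flp_a L695872) L715444
theorem L715448 : sm gb N52833 = N50950 := ded_25_1 (flp_h L695965) (flp_b L695874) L715444
theorem L715450 : sm gc N52833 = N52421 := ded_32_1 (flp_h L711888) (flp_c L695876) L715444
theorem L715452 : sm ge N52833 = N52452 := ded_43_1 (flp_h L712091) (flp_e L695880) L715444
theorem L715454 : sm gg N52833 = N50946 := ded_50_1 (flp_h L695904) (flp_g L695882) L715444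
theorem L715456 : sm gj N52833 = N52456 := ded_52_1 (flp_h L712117) (flp_j L695884) L715444
theorem L715458 : sm gd N52833 = N52093 := ded_38_1 (flp_h L708902) L687657 (flp_h L674781) (flp_d L695878) L715444
theorem L715460 : sm gi N52833 = N52081 := ded_54_2 (flp_h L708802) (flp_i L687538) (flp_h L674764) L695870 L715444
theorem L715462 : sm gh N50945 = N52834 := rfl
theorem L715464 : sm ga N52834 = N51458 := ded_17_1 (flp_h L702327) (flp_a L695888) L715462
theorem L715466 : sm gb N52834 = N50953 := ded_25_1 (flp_h L696015) (flp_b L695890) L715462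
theorem L715468 : sm gc N52834 = N52423 := ded_32_1 (flp_h L711903) (flp_c L695892) L715462
theorem L715470 : sm ge N52834 = N50946 := ded_43_1 (flp_h L695904) (flp_e L695896) L715462
theorem L715472 : sm gf N52834 = N51406 := ded_47_1 (flp_h L701802) (flp_f L695898) L715462
theorem L715474 : sm gg N52834 = N52452 := ded_50_1 (flp_h L712091) (flp_g L695900) L715462
theorem L715476 : sm gj N52834 = N52333 := ded_52_1 (flp_h L711208) (flp_j L695902) L715462
theorem L715478 : sm gi N52834 = N52088 := ded_54_2 (flp_h L708868) (flp_i L687606) (flp_h L674795) L695886 L715462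
theorem L715480 : sm gd N50947 = N52835 := rfl
theorem L715482 : sm ga N52835 = N51464 := ded_12_1 (flp_d L702386) (flp_a L695920) L715480
theorem L715484 : sm gb N52835 = N50955 := ded_20_1 (flp_d L696047) (flp_b L695922) L715480
theorem L715486 : sm gf N52835 = N51409 := ded_35_2 (flp_d L701839) (flp_f L695928) L715480
theorem L715488 : sm gg N52835 = N52484 := ded_36_2 (flp_d L712310) (flp_g L695930) L715480
theorem L715490 : sm gj N52835 = N52342 := ded_37_2 (flp_d L711273) (flp_j L695932) L715480
theorem L715492 : sm gi N52835 = N52835 := ded_39_2 (flp_d L715480) L695934 L715480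
theorem L715493 : sm gc N52835 = N51475 := ded_27_1 (flp_d L702527) L681446 L681607 (flp_c L695924) L715480
theorem L715495 : sm ge N52835 = N50995 := ded_34_2 (flp_d L696617) L675462 (flp_d L674843) (flp_e L695926) L715480
theorem L715497 : sm gi N50948 = N52836 := rfl
theorem L715499 : sm ga N52836 = N50974 := ded_18_1 (flp_i L696335) (flp_a L695937) L715497
theorem L715501 : sm gc N52836 = N52058 := ded_33_1 (flp_i L708562) (flp_c L695939) L715497
theorem L715503 : sm gd N52836 = N51114 := ded_39_1 (flp_i L698188) (flp_d L695947) L715497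
theorem L715505 : sm ge N52836 = N50949 := ded_44_1 (flp_i L695951) L695935 L715497
theorem L715507 : sm gf N52836 = N52433 := ded_48_1 (flp_i L711969) (flp_f L695949) L715497
theorem L715509 : sm gg N52836 = N52054 := ded_51_1 (flp_i L708518) (flp_g L695941) L715497
theorem L715511 : sm gj N52836 = N52445 := ded_53_1 (flp_i L712047) (flp_j L695943) L715497
theorem L715513 : sm gh N50949 = N52837 := rfl
theorem L715515 : sm ga N52837 = N50975 := ded_17_1 (flp_h L696345) (flp_a L695953) L715513
theorem L715517 : sm gc N52837 = N52059 := ded_32_1 (flp_h L708574) (flp_c L695955) L715513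
theorem L715519 : sm gf N52837 = N50950 := ded_47_1 (flp_h L695965) (flp_f L695959) L715513
theorem L715521 : sm gg N52837 = N52055 := ded_50_1 (flp_h L708526) (flp_g L695961) L715513
theorem L715523 : sm gj N52837 = N52459 := ded_52_1 (flp_h L712143) (flp_j L695963) L715513
theorem L715525 : sm gd N52837 = N52463 := ded_38_1 (flp_h L712171) L691253 (flp_h L674891) (flp_d L695957) L715513
theorem L715527 : sm gi N52837 = N52073 := ded_54_2 (flp_h L708718) (flp_i L687453) (flp_h L674875) L695951 L715513
theorem L715529 : sm gi N50951 = N52838 := rfl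
theorem L715531 : sm ga N52838 = N50986 := ded_18_1 (flp_i L696507) (flp_a L695983) L715529
theorem L715533 : sm gb N52838 = N51402 := ded_26_1 (flp_i L701758) (flp_b L695985) L715529
theorem L715535 : sm gc N52838 = N52060 := ded_33_1 (flp_i L708584) (flp_c L695987) L715529
theorem L715537 : sm gd N52838 = N50954 := ded_39_1 (flp_i L696029) (flp_d L695989) L715529
theorem L715539 : sm ge N52838 = N51380 := ded_44_1 (flp_i L701484) (flp_e L695991) L715529
theorem L715541 : sm gf N52838 = N52427 := ded_48_1 (flp_i L711929) (flp_f L695995) L715529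
theorem L715543 : sm gg N52838 = N50952 := ded_51_1 (flp_i L695999) L695981 L715529
theorem L715545 : sm gj N52838 = N51445 := ded_53_1 (flp_i L702207) (flp_j L695997) L715529
theorem L715547 : sm gh N50952 = N52839 := rfl
theorem L715549 : sm ga N52839 = N50987 := ded_17_1 (flp_h L696517) (flp_a L696001) L715547
theorem L715551 : sm gb N52839 = N51406 := ded_25_1 (flp_h L701802) (flp_b L696003) L715547
theorem L715553 : sm gc N52839 = N52061 := ded_32_1 (flp_h L708594) (flp_c L696005) L715547
theorem L715555 : sm ge N52839 = N51381 := ded_43_1 (flp_h L701494) (flp_e L696009) L715547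
theorem L715557 : sm gf N52839 = N50953 := ded_47_1 (flp_h L696015) (flp_f L696011) L715547
theorem L715559 : sm gj N52839 = N52331 := ded_52_1 (flp_h L711198) (flp_j L696013) L715547
theorem L715561 : sm gd N52839 = N52468 := ded_38_1 L712203 L691488 L674978 (flp_d L696007) L715547
theorem L715563 : sm gi N52839 = N52090 := ded_54_2 (flp_h L708883) (flp_i L687626) (flp_h L674919) L695999 L715547
theorem L715565 : sm gd N50953 = N52840 := rfl
theorem L715567 : sm ga N52840 = N50988 := ded_12_1 (flp_d L696525) (flp_a L696017) L715565
theorem L715569 : sm gf N52840 = N52468 := ded_35_2 (flp_d L715561) L715557 L715565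
theorem L715571 : sm gg N52840 = N52453 := ded_36_2 (flp_d L712097) (flp_g L696023) L715565
theorem L715573 : sm gj N52840 = N52334 := ded_37_2 (flp_d L711214) (flp_j L696025) L715565
theorem L715575 : sm gi N52840 = N52091 := ded_39_2 (flp_d L708889) (flp_i L696027) L715565
theorem L715577 : sm gc N52840 = N51635 := ded_27_1 (flp_d L704137) (flp_c L696431) L696441 (flp_c L696019) L715565
theorem L715579 : sm ge N52840 = N51642 := ded_34_2 (flp_d L704185) L682855 (flp_d L674945) (flp_e L696021) L715565
theorem L715581 : sm gh N52840 = N50955 := ded_38_2 (flp_d L696047) (flp_h L674980) (flp_d L674929) L696015 L715565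
theorem L715583 : sm ge N50958 = N52841 := rfl
theorem L715585 : sm ga N52841 = N52064 := ded_13_1 (flp_e L708626) (flp_a L696103) L715583
theorem L715587 : sm gb N52841 = N51574 := ded_21_1 (flp_e L703588) (flp_b L696105) L715583
theorem L715589 : sm gc N52841 = N52043 := ded_28_1 (flp_e L708372) (flp_c L696113) L715583
theorem L715591 : sm gg N52841 = N52448 := ded_41_2 L712071 (flp_g L696109) L715583
theorem L715593 : sm gj N52841 = N50960 := ded_42_2 (flp_e L696135) (flp_j L696111) L715583
theorem L715595 : sm gh N52841 = N50969 := ded_43_2 (flp_e L696259) (flp_h L696115) L715583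
theorem L715597 : sm gd N52841 = N52643 := ded_34_1 L713522 L693065 (flp_e L675047) L696101 L715583
theorem L715599 : sm gf N52841 = N52394 := ded_40_2 (flp_e L711688) L690773 L675097 (flp_f L696107) L715583
theorem L715601 : sm gi N50958 = N52842 := rfl
theorem L715603 : sm ga N52842 = N52065 := ded_18_1 (flp_i L708636) (flp_a L696103) L715601
theorem L715605 : sm gb N52842 = N51575 := ded_26_1 (flp_i L703594) (flp_b L696105) L715601
theorem L715607 : sm gc N52842 = N52044 := ded_33_1 (flp_i L708386) (flp_c L696113) L715601
theorem L715609 : sm gd N52842 = N50959 := ded_39_1 (flp_i L696117) L696101 L715601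
theorem L715611 : sm gf N52842 = N50962 := ded_48_1 (flp_i L696163) (flp_f L696107) L715601
theorem L715613 : sm gg N52842 = N52462 := ded_51_1 (flp_i L712163) (flp_g L696109) L715601
theorem L715615 : sm gj N52842 = N50961 := ded_53_1 (flp_i L696149) (flp_j L696111) L715601
theorem L715617 : sm gf N50960 = N52843 := rfl
theorem L715619 : sm ga N52843 = N52071 := ded_14_1 (flp_f L708702) (flp_a L696137) L715617
theorem L715621 : sm gb N52843 = N51579 := ded_22_1 (flp_f L703634) (flp_b L696139) L715617
theorem L715623 : sm gc N52843 = N52053 := ded_29_1 (flp_f L708504) (flp_c L696141) L715617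
theorem L715625 : sm gd N52843 = N52633 := ded_35_1 L713439 (flp_d L696147) L715617
theorem L715627 : sm gj N52843 = N52394 := ded_46_2 (flp_f L715599) L715593 L715617
theorem L715629 : sm gh N52843 = N50973 := ded_47_2 (flp_f L696321) (flp_h L696145) L715617
theorem L715631 : sm ge N52843 = N50963 := ded_40_1 (flp_f L696179) (flp_e L675114) (flp_f L675061) L696135 L715617
theorem L715633 : sm gg N52843 = N52428 := ded_45_2 (flp_f L711937) L691063 (flp_f L687327) (flp_g L696143) L715617
theorem L715635 : sm gi N50960 = N52844 := rfl
theorem L715637 : sm ga N52844 = N52072 := ded_18_1 (flp_i L708712) (flp_a L696137) L715635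
theorem L715639 : sm gb N52844 = N51580 := ded_26_1 (flp_i L703640) (flp_b L696139) L715635
theorem L715641 : sm gc N52844 = N52054 := ded_33_1 (flp_i L708518) (flp_c L696141) L715635
theorem L715643 : sm gd N52844 = N52644 := ded_39_1 (flp_i L713526) (flp_d L696147) L715635
theorem L715645 : sm ge N52844 = N50961 := ded_44_1 (flp_i L696149) L696135 L715635
theorem L715647 : sm gg N52844 = N52058 := ded_51_1 (flp_i L708562) (flp_g L696143) L715635
theorem L715649 : sm gh N50961 = N52845 := rfl
theorem L715651 : sm ga N52845 = N52073 := ded_17_1 (flp_h L708718) (flp_a L696151) L715649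
theorem L715653 : sm gb N52845 = N51581 := ded_25_1 (flp_h L703646) (flp_b L696153) L715649
theorem L715655 : sm gc N52845 = N52055 := ded_32_1 (flp_h L708526) (flp_c L696155) L715649
theorem L715657 : sm gf N52845 = N50965 := ded_47_1 (flp_h L696207) (flp_f L696159) L715649
theorem L715659 : sm gg N52845 = N52059 := ded_50_1 (flp_h L708574) (flp_g L696161) L715649
theorem L715661 : sm gi N52845 = N50975 := ded_54_2 (flp_h L696345) (flp_i L675229) (flp_h L675067) L696149 L715649
theorem L715663 : sm gh N50962 = N52846 := rfl
theorem L715665 : sm ga N52846 = N52078 := ded_17_1 (flp_h L708766) (flp_a L696165) L715663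
theorem L715667 : sm gb N52846 = N51585 := ded_25_1 (flp_h L703685) (flp_b L696167) L715663
theorem L715669 : sm gc N52846 = N52045 := ded_32_1 (flp_h L708398) (flp_c L696169) L715663
theorem L715671 : sm ge N52846 = N52398 := ded_43_1 (flp_h L711719) (flp_e L696173) L715663
theorem L715673 : sm gg N52846 = N52046 := ded_50_1 (flp_h L708414) (flp_g L696175) L715663
theorem L715675 : sm gj N52846 = N50965 := ded_52_1 (flp_h L696207) (flp_j L696177) L715663
theorem L715677 : sm gd N52846 = N52470 := ded_38_1 (flp_h L712211) L691299 (flp_h L675112) (flp_d L696171) L715663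
theorem L715679 : sm gi N52846 = N50976 := ded_54_2 (flp_h L696353) (flp_i L675239) (flp_h L675095) L696163 L715663
theorem L715681 : sm gg N50963 = N52847 := rfl
theorem L715683 : sm ga N52847 = N52082 := ded_15_1 (flp_g L708810) (flp_a L696181) L715681
theorem L715685 : sm gb N52847 = N51590 := ded_23_1 (flp_g L703736) (flp_b L696183) L715681
theorem L715687 : sm gc N52847 = N51376 := ded_30_1 L701438 (flp_c L696185) L715681
theorem L715689 : sm gd N52847 = N52847 := ded_36_1 (flp_g L715681) L696187 L715681
theorem L715690 : sm ge N52847 = N52428 := ded_41_1 (flp_g L715633) L715631 L715681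
theorem L715692 : sm gh N52847 = N50978 := ded_50_2 (flp_g L696385) (flp_h L696190) L715681
theorem L715694 : sm gf N52847 = N50966 := ded_45_1 (flp_g L696219) (flp_f L675141) (flp_g L675122) L696179 L715681
theorem L715696 : sm gi N50963 = N52848 := rfl
theorem L715698 : sm ga N52848 = N52083 := ded_18_1 (flp_i L708819) (flp_a L696181) L715696
theorem L715700 : sm gb N52848 = N51591 := ded_26_1 (flp_i L703743) (flp_b L696183) L715696
theorem L715702 : sm gc N52848 = N52056 := ded_33_1 (flp_i L708534) (flp_c L696185) L715696
theorem L715704 : sm gd N52848 = N52848 := ded_39_1 (flp_i L715696) L696187 L715696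
theorem L715705 : sm gf N52848 = N50964 := ded_48_1 (flp_i L696192) L696179 L715696
theorem L715707 : sm gj N52848 = N52395 := ded_53_1 (flp_i L711696) (flp_j L696188) L715696
theorem L715709 : sm gh N50964 = N52849 := rfl
theorem L715711 : sm ga N52849 = N52084 := ded_17_1 (flp_h L708828) (flp_a L696194) L715709
theorem L715713 : sm gb N52849 = N51592 := ded_25_1 (flp_h L703748) (flp_b L696196) L715709
theorem L715715 : sm gc N52849 = N52057 := ded_32_1 (flp_h L708546) (flp_c L696198) L715709
theorem L715717 : sm ge N52849 = N50965 := ded_43_1 (flp_h L696207) (flp_e L696201) L715709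
theorem L715719 : sm gg N52849 = N50968 := ded_50_1 (flp_h L696247) (flp_g L696203) L715709
theorem L715721 : sm gj N52849 = N52398 := ded_52_1 (flp_h L711719) (flp_j L696205) L715709
theorem L715723 : sm gi N52849 = N50980 := ded_54_2 (flp_h L696411) (flp_i L675283) (flp_h L675126) L696192 L715709
theorem L715725 : sm gi N50966 = N52850 := rfl
theorem L715727 : sm ga N52850 = N52089 := ded_18_1 (flp_i L708876) (flp_a L696221) L715725
theorem L715729 : sm gb N52850 = N51596 := ded_26_1 (flp_i L703787) (flp_b L696223) L715725
theorem L715731 : sm gc N52850 = N51380 := ded_33_1 (flp_i L701484) (flp_c L696225) L715725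
theorem L715733 : sm gd N52850 = N52850 := ded_39_1 (flp_i L715725) L696227 L715725
theorem L715734 : sm ge N52850 = N52060 := ded_44_1 (flp_i L708584) (flp_e L696228) L715725
theorem L715736 : sm gg N52850 = N50967 := ded_51_1 (flp_i L696232) L696219 L715725
theorem L715738 : sm gh N50967 = N52851 := rfl
theorem L715740 : sm ga N52851 = N52090 := ded_17_1 (flp_h L708883) (flp_a L696234) L715738
theorem L715742 : sm gb N52851 = N51597 := ded_25_1 (flp_h L703794) (flp_b L696236) L715738
theorem L715744 : sm gc N52851 = N51381 := ded_32_1 (flp_h L701494) (flp_c L696238) L715738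
theorem L715746 : sm ge N52851 = N52061 := ded_43_1 (flp_h L708594) (flp_e L696241) L715738
theorem L715748 : sm gf N52851 = N50968 := ded_47_1 (flp_h L696247) (flp_f L696243) L715738
theorem L715750 : sm gj N52851 = N52332 := ded_52_1 (flp_h L711204) (flp_j L696245) L715738
theorem L715752 : sm gi N52851 = N50987 := ded_54_2 (flp_h L696517) (flp_i L675375) (flp_h L675152) L696232 L715738
theorem L715754 : sm gd N50968 = N52852 := rfl
theorem L715756 : sm ga N52852 = N52091 := ded_12_1 (flp_d L708889) (flp_a L696249) L715754
theorem L715758 : sm gb N52852 = N51598 := ded_20_1 (flp_d L703802) (flp_b L696251) L715754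
theorem L715760 : sm gi N52852 = N50988 := ded_39_2 (flp_d L696525) (flp_i L696257) L715754
theorem L715762 : sm gc N52852 = N52386 := ded_27_1 (flp_d L711635) L690702 (flp_d L687266) (flp_c L696253) L715754
theorem L715764 : sm gh N52852 = N52852 := ded_38_2 (flp_d L715754) (flp_h L696247) L675164 L696247 L715754
theorem L715765 : sm gi N50969 = N52853 := rfl
theorem L715767 : sm ga N52853 = N52445 := ded_18_1 (flp_i L712047) (flp_a L696261) L715765
theorem L715769 : sm gb N52853 = N51604 := ded_26_1 (flp_i L703853) (flp_b L696263) L715765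
theorem L715771 : sm gc N52853 = N52047 := ded_33_1 (flp_i L708428) (flp_c L696265) L715765
theorem L715773 : sm gd N52853 = N51177 := ded_39_1 (flp_i L698944) (flp_d L696269) L715765
theorem L715775 : sm ge N52853 = N50970 := ded_44_1 (flp_i L696273) L696259 L715765
theorem L715777 : sm gf N52853 = N52405 := ded_48_1 (flp_i L711776) (flp_f L696271) L715765
theorem L715779 : sm gj N52853 = N50974 := ded_53_1 (flp_i L696335) (flp_j L696267) L715765
theorem L715781 : sm gh N50970 = N52854 := rfl
theorem L715783 : sm ga N52854 = N52459 := ded_17_1 (flp_h L712143) (flp_a L696275) L715781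
theorem L715785 : sm gb N52854 = N51605 := ded_25_1 (flp_h L703861) (flp_b L696277) L715781
theorem L715787 : sm gc N52854 = N52048 := ded_32_1 (flp_h L708440) (flp_c L696279) L715781
theorem L715789 : sm gf N52854 = N50976 := ded_47_1 (flp_h L696353) (flp_f L696283) L715781
theorem L715791 : sm gj N52854 = N50975 := ded_52_1 (flp_h L696345) (flp_j L696285) L715781
theorem L715793 : sm gi N50971 = N52855 := rfl
theorem L715795 : sm ga N52855 = N52058 := ded_18_1 (flp_i L708562) (flp_a L696289) L715793
theorem L715797 : sm gb N52855 = N52371 := ded_26_1 (flp_i L711534) (flp_b L696291) L715793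
theorem L715799 : sm gc N52855 = N50974 := ded_33_1 (flp_i L696335) (flp_c L696293) L715793
theorem L715801 : sm gd N52855 = N52105 := ded_39_1 (flp_i L709045) (flp_d L696301) L715793
theorem L715803 : sm ge N52855 = N50972 := ded_44_1 (flp_i L696305) L696287 L715793
theorem L715805 : sm gf N52855 = N52403 := ded_48_1 (flp_i L711758) (flp_f L696303) L715793
theorem L715807 : sm gg N52855 = N52072 := ded_51_1 (flp_i L708712) (flp_g L696295) L715793
theorem L715809 : sm gj N52855 = N52047 := ded_53_1 (flp_i L708428) (flp_j L696297) L715793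
theorem L715811 : sm gh N50972 = N52856 := rfl
theorem L715813 : sm ga N52856 = N52059 := ded_17_1 (flp_h L708574) (flp_a L696307) L715811
theorem L715815 : sm gb N52856 = N52372 := ded_25_1 (flp_h L711542) (flp_b L696309) L715811
theorem L715817 : sm gc N52856 = N50975 := ded_32_1 (flp_h L696345) (flp_c L696311) L715811
theorem L715819 : sm gf N52856 = N50977 := ded_47_1 (flp_h L696367) (flp_f L696315) L715811
theorem L715821 : sm gg N52856 = N52073 := ded_50_1 (flp_h L708718) (flp_g L696317) L715811
theorem L715823 : sm gj N52856 = N52048 := ded_52_1 (flp_h L708440) (flp_j L696319) L715811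
theorem L715825 : sm gd N52856 = N52067 := ded_38_1 (flp_h L708658) L687433 (flp_h L675515) (flp_d L696313) L715811
theorem L715827 : sm gi N52856 = N52055 := ded_54_2 (flp_h L708526) (flp_i L687216) (flp_h L675215) L696305 L715811
theorem L715829 : sm gg N50973 = N52857 := rfl
theorem L715831 : sm ga N52857 = N52426 := ded_15_1 L711927 (flp_a L696323) L715829
theorem L715833 : sm gb N52857 = N51613 := ded_23_1 (flp_g L703935) (flp_b L696325) L715829
theorem L715835 : sm gc N52857 = N52401 := ded_30_1 L711746 (flp_c L696327) L715829
theorem L715837 : sm gd N52857 = N51186 := ded_36_1 (flp_g L699036) (flp_d L696329) L715829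
theorem L715839 : sm ge N52857 = N50978 := ded_41_1 (flp_g L696385) (flp_e L696333) L715829
theorem L715841 : sm gh N52857 = N52428 := ded_50_2 (flp_g L715633) L715629 L715829
theorem L715843 : sm gf N52857 = N52074 := ded_45_1 (flp_g L708724) (flp_f L687461) (flp_g L675225) L696321 L715829
theorem L715845 : sm gi N50973 = N52858 := rfl
theorem L715847 : sm ga N52858 = N52433 := ded_18_1 (flp_i L711969) (flp_a L696323) L715845
theorem L715849 : sm gb N52858 = N51614 := ded_26_1 (flp_i L703943) (flp_b L696325) L715845
theorem L715851 : sm gc N52858 = N52403 := ded_33_1 (flp_i L711758) (flp_c L696327) L715845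
theorem L715853 : sm gd N52858 = N51187 := ded_39_1 (flp_i L699044) (flp_d L696329) L715845
theorem L715855 : sm ge N52858 = N50979 := ded_44_1 (flp_i L696397) (flp_e L696333) L715845
theorem L715857 : sm gf N52858 = N50974 := ded_48_1 (flp_i L696335) L696321 L715845
theorem L715859 : sm gj N52858 = N52405 := ded_53_1 (flp_i L711776) (flp_j L696331) L715845
theorem L715861 : sm gh N50974 = N52859 := rfl
theorem L715863 : sm gb N52859 = N51615 := ded_25_1 (flp_h L703951) (flp_b L696337) L715861
theorem L715865 : sm ge N52859 = N50975 := ded_43_1 (flp_h L696345) (flp_e L696341) L715861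
theorem L715867 : sm gg N52859 = N52076 := ded_50_1 (flp_h L708746) (flp_g L696343) L715861
theorem L715869 : sm gj N50978 = N52860 := rfl
theorem L715871 : sm ga N52860 = N51438 := ded_16_1 L702159 (flp_a L696387) L715869
theorem L715873 : sm gb N52860 = N51629 := ded_24_1 (flp_j L704089) (flp_b L696389) L715869
theorem L715875 : sm gc N52860 = N51517 := ded_31_1 L703012 (flp_c L696391) L715869
theorem L715877 : sm gd N52860 = N50989 := ded_37_1 (flp_j L696531) (flp_d L696393) L715869
theorem L715879 : sm gf N52860 = N50985 := ded_46_1 (flp_j L696495) (flp_f L696395) L715869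
theorem L715881 : sm gg N52860 = N51519 := ded_49_1 L703032 L681967 (flp_j L675281) L696385 L715869
theorem L715883 : sm gi N50978 = N52861 := rfl
theorem L715885 : sm ga N52861 = N52427 := ded_18_1 (flp_i L711929) (flp_a L696387) L715883
theorem L715887 : sm gb N52861 = N51630 := ded_26_1 (flp_i L704095) (flp_b L696389) L715883
theorem L715889 : sm gc N52861 = N52402 := ded_33_1 (flp_i L711750) (flp_c L696391) L715883
theorem L715891 : sm gd N52861 = N50990 := ded_39_1 (flp_i L696546) (flp_d L696393) L715883
theorem L715893 : sm gf N52861 = N50986 := ded_48_1 (flp_i L696507) (flp_f L696395) L715883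
theorem L715895 : sm gg N52861 = N50979 := ded_51_1 (flp_i L696397) L696385 L715883
theorem L715897 : sm gh N50979 = N52862 := rfl
theorem L715899 : sm ga N52862 = N52434 := ded_17_1 (flp_h L711977) (flp_a L696399) L715897
theorem L715901 : sm gb N52862 = N51631 := ded_25_1 (flp_h L704103) (flp_b L696401) L715897
theorem L715903 : sm gc N52862 = N52404 := ded_32_1 (flp_h L711768) (flp_c L696403) L715897
theorem L715905 : sm gf N52862 = N50980 := ded_47_1 (flp_h L696411) (flp_f L696407) L715897
theorem L715907 : sm gj N52862 = N52406 := ded_52_1 (flp_h L711784) (flp_j L696409) L715897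
theorem L715909 : sm gd N50980 = N52863 := rfl
theorem L715911 : sm ga N52863 = N52453 := ded_12_1 (flp_d L712097) (flp_a L696413) L715909
theorem L715913 : sm gb N52863 = N51632 := ded_20_1 (flp_d L704107) (flp_b L696415) L715909
theorem L715915 : sm gg N52863 = N50988 := ded_36_2 (flp_d L696525) (flp_g L696421) L715909
theorem L715917 : sm gj N52863 = N52408 := ded_37_2 (flp_d L711798) (flp_j L696423) L715909
theorem L715919 : sm gh N52863 = N50992 := ded_38_2 (flp_d L696575) (flp_h L675418) (flp_d L675291) L696411 L715909
theorem L715921 : sm gi N50982 = N52864 := rfl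
theorem L715923 : sm ga N52864 = N52060 := ded_18_1 (flp_i L708584) (flp_a L696447) L715921
theorem L715925 : sm gb N52864 = N51389 := ded_26_1 (flp_i L701602) (flp_b L696449) L715921
theorem L715927 : sm gc N52864 = N50986 := ded_33_1 (flp_i L696507) (flp_c L696451) L715921
theorem L715929 : sm gd N52864 = N51374 := ded_39_1 (flp_i L701400) (flp_d L696453) L715921
theorem L715931 : sm ge N52864 = N52089 := ded_44_1 (flp_i L708876) (flp_e L696455) L715921
theorem L715933 : sm gf N52864 = N52402 := ded_48_1 (flp_i L711750) (flp_f L696459) L715921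
theorem L715935 : sm gg N52864 = N50983 := ded_51_1 (flp_i L696461) L696445 L715921
theorem L715937 : sm gh N50983 = N52865 := rfl
theorem L715939 : sm ga N52865 = N52061 := ded_17_1 (flp_h L708594) (flp_a L696463) L715937
theorem L715941 : sm gb N52865 = N51392 := ded_25_1 (flp_h L701636) (flp_b L696465) L715937
theorem L715943 : sm gc N52865 = N50987 := ded_32_1 (flp_h L696517) (flp_c L696467) L715937
theorem L715945 : sm ge N52865 = N52090 := ded_43_1 (flp_h L708883) (flp_e L696471) L715937
theorem L715947 : sm gf N52865 = N50984 := ded_47_1 (flp_h L696477) (flp_f L696473) L715937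
theorem L715949 : sm gj N52865 = N52326 := ded_52_1 (flp_h L711160) (flp_j L696475) L715937
theorem L715951 : sm gd N52865 = N51485 := ded_38_1 (flp_h L702658) L681678 (flp_h L680444) (flp_d L696469) L715937
theorem L715953 : sm gi N52865 = N51381 := ded_54_2 (flp_h L701494) (flp_i L680508) (flp_h L675335) L696461 L715937
theorem L715955 : sm gi N50985 = N52866 := rfl
theorem L715957 : sm ga N52866 = N51445 := ded_18_1 (flp_i L702207) (flp_a L696497) L715955
theorem L715959 : sm gb N52866 = N51640 := ded_26_1 (flp_i L704169) (flp_b L696499) L715955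
theorem L715961 : sm gd N52866 = N50993 := ded_39_1 (flp_i L696586) (flp_d L696501) L715955
theorem L715963 : sm ge N52866 = N52092 := ded_44_1 (flp_i L708892) (flp_e L696503) L715955
theorem L715965 : sm gg N52866 = N51450 := ded_51_1 (flp_i L702245) (flp_g L696505) L715955
theorem L715967 : sm gj N52866 = N50986 := ded_53_1 (flp_i L696507) L696495 L715955
theorem L715969 : sm gh N50986 = N52867 := rfl
theorem L715971 : sm gb N52867 = N51641 := ded_25_1 (flp_h L704179) (flp_b L696509) L715969
theorem L715973 : sm ge N52867 = N52093 := ded_43_1 (flp_h L708902) (flp_e L696513) L715969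
theorem L715975 : sm gg N52867 = N50987 := ded_50_1 (flp_h L696517) (flp_g L696515) L715969
theorem L715977 : sm gd N50987 = N52868 := rfl
theorem L715979 : sm ga N52868 = N52468 := ded_12_1 (flp_d L715561) L715549 L715977
theorem L715981 : sm gb N52868 = N51642 := ded_20_1 (flp_d L704185) (flp_b L696519) L715977
theorem L715983 : sm gf N52868 = N50988 := ded_35_2 (flp_d L696525) (flp_f L696523) L715977
theorem L715985 : sm gc N52868 = N52465 := ded_27_1 (flp_d L712183) (flp_c L702664) (flp_d L715951) L715943 L715977
theorem L715987 : sm gh N52868 = N50995 := ded_38_2 (flp_d L696617) (flp_h L675454) (flp_d L675379) L696517 L715977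
theorem L715989 : sm gc N50988 = N52869 := rfl
theorem L715991 : sm ga N52869 = N51635 := ded_11_1 (flp_c L715577) L715567 L715989
theorem L715993 : sm gf N52869 = N52465 := ded_29_2 (flp_c L715985) L715983 L715989
theorem L715995 : sm gh N52869 = N50996 := ded_32_2 (flp_c L696628) (flp_h L696529) L715989
theorem L715997 : sm gi N52869 = N52386 := ded_33_2 (flp_c L715762) L715760 L715989
theorem L715999 : sm gd N52869 = N51633 := ded_27_2 L704117 (flp_d L696491) L696483 L696525 L715989
theorem L716001 : sm gi N50989 = N52870 := rfl
theorem L716003 : sm ga N52870 = N51468 := ded_18_1 (flp_i L702441) (flp_a L696533) L716001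
theorem L716005 : sm gb N52870 = N51646 := ded_26_1 (flp_i L704216) (flp_b L696535) L716001
theorem L716007 : sm gc N52870 = N51477 := ded_33_1 (flp_i L702549) (flp_c L696537) L716001
theorem L716009 : sm ge N52870 = N51222 := ded_44_1 (flp_i L699454) (flp_e L696539) L716001
theorem L716011 : sm gf N52870 = N50993 := ded_48_1 (flp_i L696586) (flp_f L696541) L716001
theorem L716013 : sm gg N52870 = N51552 := ded_51_1 (flp_i L703349) (flp_g L696544) L716001
theorem L716015 : sm gj N52870 = N50990 := ded_53_1 (flp_i L696546) L696531 L716001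
theorem L716017 : sm gh N52726 = N52870 := ded_25_0 L716005 (flp_h L704225) (flp_b L714112)
theorem L716019 : sm gh N50990 = N52871 := rfl
theorem L716021 : sm ga N52871 = N52473 := ded_17_1 (flp_h L712227) (flp_a L696548) L716019
theorem L716023 : sm gb N52871 = N51647 := ded_25_1 (flp_h L704227) (flp_b L696550) L716019
theorem L716025 : sm gc N52871 = N52412 := ded_32_1 (flp_h L711824) (flp_c L696552) L716019
theorem L716027 : sm ge N52871 = N51223 := ded_43_1 (flp_h L699462) (flp_e L696554) L716019
theorem L716029 : sm gf N52871 = N50994 := ded_47_1 (flp_h L696602) (flp_f L696556) L716019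
theorem L716031 : sm gg N52871 = N50991 := ded_50_1 (flp_h L696560) (flp_g L696558) L716019
theorem L716033 : sm gj N52871 = N52726 := ded_52_1 L716017 L716015 L716019
theorem L716035 : sm gi N52871 = N52871 := ded_54_2 (flp_h L716019) (flp_i L696546) L675401 L696546 L716019
theorem L716036 : sm gd N50991 = N52872 := rfl
theorem L716038 : sm ga N52872 = N52475 := ded_12_1 (flp_d L712247) (flp_a L696562) L716036
theorem L716040 : sm gb N52872 = N51648 := ded_20_1 (flp_d L704239) (flp_b L696564) L716036
theorem L716042 : sm gf N52872 = N50992 := ded_35_2 (flp_d L696575) (flp_f L696570) L716036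
theorem L716044 : sm gj N52872 = N52413 := ded_37_2 (flp_d L711836) (flp_j L696572) L716036
theorem L716046 : sm gi N52872 = N52872 := ded_39_2 (flp_d L716036) L696574 L716036
theorem L716047 : sm gc N50992 = N52873 := rfl
theorem L716049 : sm ga N52873 = N51669 := ded_11_1 L704459 (flp_a L696577) L716047
theorem L716051 : sm gg N52873 = N50996 := ded_30_2 (flp_c L696628) (flp_g L696581) L716047
theorem L716053 : sm gj N52873 = N52361 := ded_31_2 L711469 (flp_j L696583) L716047
theorem L716055 : sm gi N52873 = N52873 := ded_33_2 (flp_c L716047) L696585 L716047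
theorem L716056 : sm gd N52873 = N51668 := ded_27_2 L704442 L683216 (flp_c L675424) L696575 L716047
theorem L716058 : sm gd N50994 = N52874 := rfl
theorem L716060 : sm ga N52874 = N52486 := ded_12_1 L712329 (flp_a L696604) L716058
theorem L716062 : sm gb N52874 = N51650 := ded_20_1 (flp_d L704250) (flp_b L696606) L716058
theorem L716064 : sm gg N52874 = N50995 := ded_36_2 (flp_d L696617) (flp_g L696612) L716058
theorem L716066 : sm gj N52874 = N52487 := ded_37_2 L712338 (flp_j L696614) L716058
theorem L716068 : sm gi N52874 = N52874 := ded_39_2 (flp_d L716058) L696616 L716058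
theorem L716069 : sm gc N52874 = N52485 := ded_27_1 (flp_d L712317) L691459 L691584 (flp_c L696608) L716058
theorem L716071 : sm ge N52874 = N52484 := ded_34_2 (flp_d L712310) L691445 (flp_d L675496) (flp_e L696610) L716058
theorem L716073 : sm gb N50996 = N52875 := rfl
theorem L716075 : sm gd N52875 = N51563 := ded_20_2 L703478 (flp_d L696635) L716073
theorem L716077 : sm ge N52875 = N52393 := ded_21_2 (flp_b L715371) L715366 L716073
theorem L716079 : sm gf N52875 = N51476 := ded_22_2 L702542 (flp_f L696632) L716073
theorem L716081 : sm gi N52875 = N52875 := ded_26_2 (flp_b L716073) L696634 L716073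
theorem L716082 : sm ga N52875 = N51564 := ded_10_1 L703487 L682350 (flp_b L683108) (flp_a L696630) L716073
theorem L716084 : sm gc N52875 = N51652 := ded_19_2 (flp_b L704269) (flp_c L682942) (flp_b L675469) L696628 L716073
theorem L716086 : sm gd N50997 = N52876 := rfl
theorem L716088 : sm ga N52876 = N51141 := ded_12_1 (flp_d L698534) (flp_a L696639) L716086
theorem L716090 : sm gb N52876 = N51703 := ded_20_1 (flp_d L704863) (flp_b L696641) L716086
theorem L716092 : sm gf N52876 = N52876 := ded_35_2 (flp_d L716086) L696646 L716086
theorem L716093 : sm gg N52876 = N51095 := ded_36_2 (flp_d L697940) (flp_g L696647) L716086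
theorem L716095 : sm gj N52876 = N50998 := ded_37_2 (flp_d L696651) (flp_j L696649) L716086
theorem L716097 : sm gh N52876 = N51107 := ded_38_2 (flp_d L698094) (flp_h L676823) (flp_d L675524) L696637 L716086
theorem L716099 : sm gc N52743 = N52876 := ded_30_3 L716093 (flp_c L697950) (flp_g L714277)
theorem L716101 : sm gi N50997 = N52877 := rfl
theorem L716103 : sm ga N52877 = N51142 := ded_18_1 (flp_i L698545) (flp_a L696639) L716101
theorem L716105 : sm gb N52877 = N51704 := ded_26_1 (flp_i L704870) (flp_b L696641) L716101
theorem L716107 : sm gc N52877 = N52877 := ded_33_1 (flp_i L716101) L696643 L716101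
theorem L716108 : sm ge N52877 = N51002 := ded_44_1 (flp_i L696702) (flp_e L696644) L716101
theorem L716110 : sm gf N52877 = N52877 := ded_48_1 (flp_i L716101) L696646 L716101
theorem L716111 : sm gg N52877 = N51096 := ded_51_1 (flp_i L697952) (flp_g L696647) L716101
theorem L716113 : sm gj N52877 = N50999 := ded_53_1 (flp_i L696662) (flp_j L696649) L716101
theorem L716115 : sm gh N52877 = N51137 := ded_54_1 (flp_i L698493) (flp_h L677187) (flp_i L675529) L696637 L716101
theorem L716117 : sm gc N50998 = N52878 := rfl
theorem L716119 : sm ga N52878 = N52204 := ded_11_1 (flp_c L710078) (flp_a L696653) L716117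
theorem L716121 : sm gf N52878 = N52878 := ded_29_2 (flp_c L716117) L696657 L716117
theorem L716122 : sm gg N52878 = N52097 := ded_30_2 (flp_c L708945) (flp_g L696658) L716117
theorem L716124 : sm gj N52878 = N52743 := ded_31_2 L716099 L716095 L716117
theorem L716126 : sm gh N52878 = N52146 := ded_32_2 (flp_c L709495) (flp_h L696660) L716117
theorem L716128 : sm gd N52878 = N52878 := ded_27_2 (flp_c L716117) (flp_d L696651) L675539 L696651 L716117
theorem L716129 : sm ge N50998 = N52879 := rfl
theorem L716131 : sm ga N52879 = N52205 := ded_13_1 (flp_e L710086) (flp_a L696653) L716129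
theorem L716133 : sm gb N52879 = N51706 := ded_21_1 (flp_e L704892) (flp_b L696655) L716129
theorem L716135 : sm gg N52879 = N52098 := ded_41_2 (flp_e L708956) (flp_g L696658) L716129
theorem L716137 : sm gh N52879 = N52147 := ded_43_2 (flp_e L709506) (flp_h L696660) L716129
theorem L716139 : sm gd N52879 = N51004 := ded_34_1 (flp_e L696728) (flp_d L675572) (flp_e L675540) L696651 L716129
theorem L716141 : sm gi N50998 = N52880 := rfl
theorem L716143 : sm ga N52880 = N52206 := ded_18_1 (flp_i L710096) (flp_a L696653) L716141
theorem L716145 : sm gb N52880 = N51707 := ded_26_1 (flp_i L704900) (flp_b L696655) L716141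
theorem L716147 : sm gd N52880 = N50999 := ded_39_1 (flp_i L696662) L696651 L716141
theorem L716149 : sm gf N52880 = N52880 := ded_48_1 (flp_i L716141) L696657 L716141
theorem L716150 : sm gg N52880 = N52099 := ded_51_1 (flp_i L708970) (flp_g L696658) L716141
theorem L716152 : sm gd N51000 = N52881 := rfl
theorem L716154 : sm ga N52881 = N51136 := ded_12_1 (flp_d L698482) (flp_a L696678) L716152
theorem L716156 : sm gb N52881 = N51708 := ded_20_1 (flp_d L704909) (flp_b L696680) L716152
theorem L716158 : sm gf N52881 = N52881 := ded_35_2 (flp_d L716152) L696685 L716152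
theorem L716159 : sm gg N52881 = N51001 := ded_36_2 (flp_d L696690) (flp_g L696686) L716152
theorem L716161 : sm gj N52881 = N51093 := ded_37_2 (flp_d L697913) (flp_j L696688) L716152
theorem L716163 : sm gh N52881 = N51015 := ded_38_2 (flp_d L696870) (flp_h L675698) (flp_d L675552) L696676 L716152
theorem L716165 : sm gc N52299 = N52881 := ded_31_3 L716161 (flp_c L697924) (flp_j L710944)
theorem L716167 : sm gi N51000 = N52882 := rfl
theorem L716169 : sm ga N52882 = N51137 := ded_18_1 (flp_i L698493) (flp_a L696678) L716167
theorem L716171 : sm gb N52882 = N51709 := ded_26_1 (flp_i L704922) (flp_b L696680) L716167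
theorem L716173 : sm gc N52882 = N52882 := ded_33_1 (flp_i L716167) L696682 L716167
theorem L716174 : sm ge N52882 = N51096 := ded_44_1 (flp_i L697952) (flp_e L696683) L716167
theorem L716176 : sm gf N52882 = N52882 := ded_48_1 (flp_i L716167) L696685 L716167
theorem L716177 : sm gg N52882 = N51002 := ded_51_1 (flp_i L696702) (flp_g L696686) L716167
theorem L716179 : sm gj N52882 = N51094 := ded_53_1 (flp_i L697926) (flp_j L696688) L716167
theorem L716181 : sm gh N52882 = N51142 := ded_54_1 (flp_i L698545) (flp_h L677218) (flp_i L675556) L696676 L716167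
theorem L716183 : sm gc N51001 = N52883 := rfl
theorem L716185 : sm ga N52883 = N52619 := ded_11_1 L713330 (flp_a L696692) L716183
theorem L716187 : sm gf N52883 = N51006 := ded_29_2 (flp_c L696750) (flp_f L696696) L716183
theorem L716189 : sm gg N52883 = N52299 := ded_30_2 L716165 L716159 L716183
theorem L716191 : sm gj N52883 = N51003 := ded_31_2 (flp_c L696715) (flp_j L696698) L716183
theorem L716193 : sm gh N52883 = N51017 := ded_32_2 (flp_c L696900) (flp_h L696700) L716183
theorem L716195 : sm gb N52883 = N52164 := ded_19_1 L709660 L688627 (flp_c L683695) (flp_b L696694) L716183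
theorem L716197 : sm gd N52883 = N52883 := ded_27_2 (flp_c L716183) (flp_d L696690) L675567 L696690 L716183
theorem L716198 : sm ge N51001 = N52884 := rfl
theorem L716200 : sm ga N52884 = N52608 := ded_13_1 L713238 (flp_a L696692) L716198
theorem L716202 : sm gb N52884 = N51710 := ded_21_1 (flp_e L704935) (flp_b L696694) L716198
theorem L716204 : sm gj N52884 = N51004 := ded_42_2 (flp_e L696728) (flp_j L696698) L716198
theorem L716206 : sm gh N52884 = N51018 := ded_43_2 (flp_e L696914) (flp_h L696700) L716198
theorem L716208 : sm gi N51001 = N52885 := rfl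
theorem L716210 : sm ga N52885 = N52623 := ded_18_1 (flp_i L713361) (flp_a L696692) L716208
theorem L716212 : sm gb N52885 = N51711 := ded_26_1 (flp_i L704945) (flp_b L696694) L716208
theorem L716214 : sm gd N52885 = N51002 := ded_39_1 (flp_i L696702) L696690 L716208
theorem L716216 : sm gf N52885 = N51008 := ded_48_1 (flp_i L696778) (flp_f L696696) L716208
theorem L716218 : sm gj N52885 = N51005 := ded_53_1 (flp_i L696738) (flp_j L696698) L716208
theorem L716220 : sm ge N51003 = N52886 := rfl
theorem L716222 : sm ga N52886 = N52605 := ded_13_1 L713216 (flp_a L696717) L716220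
theorem L716224 : sm gb N52886 = N52158 := ded_21_1 L709613 (flp_b L696725) L716220
theorem L716226 : sm gc N52886 = N51004 := ded_28_1 (flp_e L696728) L696715 L716220
theorem L716228 : sm gg N52886 = N52032 := ded_41_2 L708238 (flp_g L696721) L716220
theorem L716230 : sm gh N52886 = N51021 := ded_43_2 (flp_e L696950) (flp_h L696723) L716220
theorem L716232 : sm gf N52886 = N52155 := ded_40_2 (flp_e L709581) L688551 L675632 (flp_f L696719) L716220
theorem L716234 : sm gi N51003 = N52887 := rfl
theorem L716236 : sm ga N52887 = N52620 := ded_18_1 (flp_i L713337) (flp_a L696717) L716234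
theorem L716238 : sm gb N52887 = N52170 := ded_26_1 (flp_i L709721) (flp_b L696725) L716234
theorem L716240 : sm gc N52887 = N51005 := ded_33_1 (flp_i L696738) L696715 L716234
theorem L716242 : sm gd N52887 = N52887 := ded_39_1 (flp_i L716234) L696727 L716234
theorem L716243 : sm gf N52887 = N51009 := ded_48_1 (flp_i L696789) (flp_f L696719) L716234
theorem L716245 : sm gg N52887 = N52002 := ded_51_1 L707851 (flp_g L696721) L716234
theorem L716247 : sm gf N51004 = N52888 := rfl
theorem L716249 : sm ga N52888 = N51871 := ded_14_1 L706651 (flp_a L696730) L716247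
theorem L716251 : sm gb N52888 = N51712 := ded_22_1 (flp_f L704957) (flp_b L696732) L716247
theorem L716253 : sm gc N52888 = N52155 := ded_29_1 (flp_f L716232) L716226 L716247
theorem L716255 : sm gh N52888 = N51023 := ded_47_2 (flp_f L696970) (flp_h L696736) L716247
theorem L716257 : sm ge N52888 = N51010 := ded_40_1 (flp_f L696802) (flp_e L675634) (flp_f L675578) L696728 L716247
theorem L716259 : sm gg N52888 = N51791 := ded_45_2 (flp_f L705817) L684555 (flp_f L687932) (flp_g L696734) L716247
theorem L716261 : sm gi N51004 = N52889 := rfl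
theorem L716263 : sm ga N52889 = N52609 := ded_18_1 (flp_i L713242) (flp_a L696730) L716261
theorem L716265 : sm gb N52889 = N51713 := ded_26_1 (flp_i L704967) (flp_b L696732) L716261
theorem L716267 : sm ge N52889 = N51005 := ded_44_1 (flp_i L696738) L696728 L716261
theorem L716269 : sm gg N52889 = N52102 := ded_51_1 (flp_i L709008) (flp_g L696734) L716261
theorem L716271 : sm gh N51005 = N52890 := rfl
theorem L716273 : sm ga N52890 = N52624 := ded_17_1 (flp_h L713369) (flp_a L696740) L716271
theorem L716275 : sm gb N52890 = N51714 := ded_25_1 (flp_h L704977) (flp_b L696742) L716271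
theorem L716277 : sm gf N52890 = N51012 := ded_47_1 (flp_h L696828) (flp_f L696746) L716271
theorem L716279 : sm gg N52890 = N52103 := ded_50_1 (flp_h L709018) (flp_g L696748) L716271
theorem L716281 : sm gd N52890 = N51151 := ded_38_1 (flp_h L698632) L677270 (flp_h L675595) (flp_d L696744) L716271
theorem L716283 : sm gi N52890 = N51025 := ded_54_2 (flp_h L696990) (flp_i L675755) (flp_h L675582) L696738 L716271
theorem L716285 : sm gi N51006 = N52891 := rfl
theorem L716287 : sm ga N52891 = N52626 := ded_18_1 (flp_i L713385) (flp_a L696752) L716285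
theorem L716289 : sm gb N52891 = N52165 := ded_26_1 (flp_i L709667) (flp_b L696759) L716285
theorem L716291 : sm gc N52891 = N51008 := ded_33_1 (flp_i L696778) L696750 L716285
theorem L716293 : sm gd N52891 = N52891 := ded_39_1 (flp_i L716285) L696761 L716285
theorem L716294 : sm ge N52891 = N52163 := ded_44_1 (flp_i L709647) L696762 L716285
theorem L716296 : sm gg N52891 = N52891 := ded_51_1 (flp_i L716285) L696754 L716285
theorem L716297 : sm gj N52891 = N51009 := ded_53_1 (flp_i L696789) (flp_j L696755) L716285
theorem L716299 : sm gf N51007 = N52892 := rfl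
theorem L716301 : sm ga N52892 = N51885 := ded_14_1 L706787 (flp_a L696766) L716299
theorem L716303 : sm gb N52892 = N51715 := ded_22_1 (flp_f L704991) (flp_b L696768) L716299
theorem L716305 : sm gc N52892 = N52149 := ded_29_1 L709525 (flp_c L696770) L716299
theorem L716307 : sm gd N52892 = N52892 := ded_35_1 (flp_f L716299) L696777 L716299
theorem L716308 : sm gj N52892 = N51010 := ded_46_2 (flp_f L696802) (flp_j L696773) L716299
theorem L716310 : sm gh N52892 = N51028 := ded_47_2 (flp_f L697029) (flp_h L696775) L716299
theorem L716312 : sm gi N51007 = N52893 := rfl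
theorem L716314 : sm ga N52893 = N51893 := ded_18_1 (flp_i L706868) (flp_a L696766) L716312
theorem L716316 : sm gb N52893 = N51716 := ded_26_1 (flp_i L705002) (flp_b L696768) L716312
theorem L716318 : sm gc N52893 = N52163 := ded_33_1 (flp_i L709647) (flp_c L696770) L716312
theorem L716320 : sm gd N52893 = N52893 := ded_39_1 (flp_i L716312) L696777 L716312
theorem L716321 : sm ge N52893 = N51008 := ded_44_1 (flp_i L696778) L696764 L716312
theorem L716323 : sm gg N52893 = N52893 := ded_51_1 (flp_i L716312) L696772 L716312
theorem L716324 : sm gj N52893 = N51011 := ded_53_1 (flp_i L696815) (flp_j L696773) L716312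
theorem L716326 : sm gh N51008 = N52894 := rfl
theorem L716328 : sm ga N52894 = N52629 := ded_17_1 (flp_h L713409) (flp_a L696780) L716326
theorem L716330 : sm gb N52894 = N51717 := ded_25_1 (flp_h L705014) (flp_b L696782) L716326
theorem L716332 : sm gg N52894 = N52894 := ded_50_1 (flp_h L716326) L696786 L716326
theorem L716333 : sm gj N52894 = N51012 := ded_52_1 (flp_h L696828) (flp_j L696787) L716326
theorem L716335 : sm gd N52894 = N51156 := ded_38_1 (flp_h L698695) L677306 (flp_h L675619) (flp_d L696784) L716326
theorem L716337 : sm gi N52894 = N51030 := ded_54_2 (flp_h L697052) (flp_i L675789) (flp_h L675606) L696778 L716326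
theorem L716339 : sm gh N51009 = N52895 := rfl
theorem L716341 : sm ga N52895 = N52627 := ded_17_1 (flp_h L713393) (flp_a L696791) L716339
theorem L716343 : sm gb N52895 = N52171 := ded_25_1 (flp_h L709730) (flp_b L696793) L716339
theorem L716345 : sm gc N52895 = N51012 := ded_32_1 (flp_h L696828) (flp_c L696795) L716339
theorem L716347 : sm ge N52895 = N52169 := ded_43_1 (flp_h L709715) (flp_e L696798) L716339
theorem L716349 : sm gg N52895 = N51013 := ded_50_1 (flp_h L696840) (flp_g L696800) L716339
theorem L716351 : sm gi N52895 = N51034 := ded_54_2 (flp_h L697105) (flp_i L675829) (flp_h L675627) L696789 L716339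
theorem L716353 : sm gi N51010 = N52896 := rfl
theorem L716355 : sm ga N52896 = N51886 := ded_18_1 (flp_i L706791) (flp_a L696804) L716353
theorem L716357 : sm gb N52896 = N51718 := ded_26_1 (flp_i L705027) (flp_b L696806) L716353
theorem L716359 : sm gc N52896 = N52156 := ded_33_1 (flp_i L709587) (flp_c L696808) L716353
theorem L716361 : sm gd N52896 = N52896 := ded_39_1 (flp_i L716353) L696810 L716353
theorem L716362 : sm gf N52896 = N51011 := ded_48_1 (flp_i L696815) L696802 L716353
theorem L716364 : sm gg N52896 = N51797 := ded_51_1 (flp_i L705887) (flp_g L696813) L716353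
theorem L716366 : sm gh N51011 = N52897 := rfl
theorem L716368 : sm ga N52897 = N51894 := ded_17_1 (flp_h L706876) (flp_a L696817) L716366
theorem L716370 : sm gb N52897 = N51719 := ded_25_1 (flp_h L705036) (flp_b L696819) L716366
theorem L716372 : sm gc N52897 = N52169 := ded_32_1 (flp_h L709715) (flp_c L696821) L716366
theorem L716374 : sm ge N52897 = N51012 := ded_43_1 (flp_h L696828) (flp_e L696824) L716366
theorem L716376 : sm gg N52897 = N51014 := ded_50_1 (flp_h L696855) (flp_g L696826) L716366
theorem L716378 : sm gi N52897 = N51036 := ded_54_2 (flp_h L697125) (flp_i L675849) (flp_h L675644) L696815 L716366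
theorem L716380 : sm gd N51013 = N52898 := rfl
theorem L716382 : sm ga N52898 = N52628 := ded_12_1 (flp_d L713401) (flp_a L696842) L716380
theorem L716384 : sm gb N52898 = N52175 := ded_20_1 (flp_d L709769) (flp_b L696844) L716380
theorem L716386 : sm gf N52898 = N51964 := ded_35_2 L707461 (flp_f L696850) L716380
theorem L716388 : sm gj N52898 = N52898 := ded_37_2 (flp_d L716380) L696852 L716380
theorem L716389 : sm gi N52898 = N51039 := ded_39_2 (flp_d L697165) (flp_i L696853) L716380
theorem L716391 : sm gc N52898 = N51166 := ded_27_1 (flp_d L698819) L677402 (flp_d L675694) (flp_c L696846) L716380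
theorem L716393 : sm gh N52898 = N52898 := ded_38_2 (flp_d L716380) (flp_h L696840) L675665 L696840 L716380
theorem L716394 : sm gd N51014 = N52899 := rfl
theorem L716396 : sm ga N52899 = N51895 := ded_12_1 (flp_d L706884) (flp_a L696857) L716394
theorem L716398 : sm gb N52899 = N51720 := ded_20_1 (flp_d L705048) (flp_b L696859) L716394
theorem L716400 : sm gf N52899 = N51799 := ded_35_2 (flp_d L705908) (flp_f L696865) L716394
theorem L716402 : sm gj N52899 = N52899 := ded_37_2 (flp_d L716394) L696867 L716394
theorem L716403 : sm gi N52899 = N51040 := ded_39_2 (flp_d L697176) (flp_i L696868) L716394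
theorem L716405 : sm ge N52899 = N51170 := ded_34_2 (flp_d L698869) L677440 (flp_d L675694) (flp_e L696863) L716394
theorem L716407 : sm gh N52899 = N52899 := ded_38_2 (flp_d L716394) (flp_h L696855) L675679 L696855 L716394
theorem L716408 : sm ge N51015 = N52900 := rfl
theorem L716410 : sm ga N52900 = N52643 := ded_13_1 L713522 (flp_a L696872) L716408
theorem L716412 : sm gb N52900 = N51722 := ded_21_1 (flp_e L705075) (flp_b L696874) L716408
theorem L716414 : sm gc N52900 = N52242 := ded_28_1 L710452 (flp_c L696881) L716408
theorem L716416 : sm gg N52900 = N51018 := ded_41_2 (flp_e L696914) (flp_g L696877) L716408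
theorem L716418 : sm gj N52900 = N52070 := ded_42_2 L708700 (flp_j L696879) L716408
theorem L716420 : sm gd N52900 = N52064 := ded_34_1 (flp_e L708626) L687415 (flp_e L675706) L696870 L716408
theorem L716422 : sm gf N52417 = N52900 := ded_35_0 L716420 L708634 L711865
theorem L716424 : sm gi N51015 = N52901 := rfl
theorem L716426 : sm ga N52901 = N52678 := ded_18_1 (flp_i L713757) (flp_a L696872) L716424
theorem L716428 : sm gb N52901 = N51723 := ded_26_1 (flp_i L705081) (flp_b L696874) L716424
theorem L716430 : sm gc N52901 = N52300 := ded_33_1 (flp_i L710947) (flp_c L696881) L716424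
theorem L716432 : sm gd N52901 = N51016 := ded_39_1 (flp_i L696883) L696870 L716424
theorem L716434 : sm gf N52901 = N52901 := ded_48_1 (flp_i L716424) L696876 L716424
theorem L716435 : sm gg N52901 = N51019 := ded_51_1 (flp_i L696922) (flp_g L696877) L716424
theorem L716437 : sm gj N52901 = N52094 := ded_53_1 (flp_i L708908) (flp_j L696879) L716424
theorem L716439 : sm ge N51017 = N52902 := rfl
theorem L716441 : sm ga N52902 = N52661 := ded_13_1 L713644 (flp_a L696902) L716439
theorem L716443 : sm gb N52902 = N52546 := ded_21_1 (flp_e L712777) (flp_b L696910) L716439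
theorem L716445 : sm gc N52902 = N51018 := ded_28_1 (flp_e L696914) L696900 L716439
theorem L716447 : sm gg N52902 = N52242 := ded_41_2 L710452 (flp_g L696906) L716439
theorem L716449 : sm gj N52902 = N51021 := ded_42_2 (flp_e L696950) (flp_j L696908) L716439
theorem L716451 : sm gd N52902 = N52235 := ded_34_1 (flp_e L710393) L689317 (flp_e L676013) (flp_d L696912) L716439
theorem L716453 : sm gi N51017 = N52903 := rfl
theorem L716455 : sm ga N52903 = N52685 := ded_18_1 (flp_i L713811) (flp_a L696902) L716453
theorem L716457 : sm gb N52903 = N52547 := ded_26_1 (flp_i L712783) (flp_b L696910) L716453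
theorem L716459 : sm gc N52903 = N51019 := ded_33_1 (flp_i L696922) L696900 L716453
theorem L716461 : sm gd N52903 = N51047 := ded_39_1 (flp_i L697260) (flp_d L696912) L716453
theorem L716463 : sm gf N52903 = N51027 := ded_48_1 (flp_i L697016) (flp_f L696904) L716453
theorem L716465 : sm gg N52903 = N52300 := ded_51_1 (flp_i L710947) (flp_g L696906) L716453
theorem L716467 : sm gj N52903 = N51022 := ded_53_1 (flp_i L696958) (flp_j L696908) L716453
theorem L716469 : sm gf N51018 = N52904 := rfl
theorem L716471 : sm ga N52904 = N51926 := ded_14_1 L707137 (flp_a L696916) L716469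
theorem L716473 : sm gb N52904 = N51726 := ded_22_1 (flp_f L705120) (flp_b L696918) L716469
theorem L716475 : sm gj N52904 = N51023 := ded_46_2 (flp_f L696970) (flp_j L696920) L716469
theorem L716477 : sm ge N52904 = N51028 := ded_40_1 (flp_f L697029) (flp_e L675778) (flp_f L675719) L696914 L716469
theorem L716479 : sm gi N51018 = N52905 := rfl
theorem L716481 : sm ga N52905 = N52666 := ded_18_1 (flp_i L713668) (flp_a L696916) L716479
theorem L716483 : sm gb N52905 = N51727 := ded_26_1 (flp_i L705128) (flp_b L696918) L716479
theorem L716485 : sm ge N52905 = N51019 := ded_44_1 (flp_i L696922) L696914 L716479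
theorem L716487 : sm gj N52905 = N51024 := ded_53_1 (flp_i L696980) (flp_j L696920) L716479
theorem L716489 : sm gh N51019 = N52906 := rfl
theorem L716491 : sm ga N52906 = N52690 := ded_17_1 (flp_h L713847) (flp_a L696924) L716489
theorem L716493 : sm gb N52906 = N51728 := ded_25_1 (flp_h L705134) (flp_b L696926) L716489
theorem L716495 : sm gf N52906 = N51030 := ded_47_1 (flp_h L697052) (flp_f L696930) L716489
theorem L716497 : sm gj N52906 = N51025 := ded_52_1 (flp_h L696990) (flp_j L696932) L716489
theorem L716499 : sm gd N52906 = N51178 := ded_38_1 (flp_h L698952) L677485 (flp_h L675735) (flp_d L696928) L716489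
theorem L716501 : sm ge N51020 = N52907 := rfl
theorem L716503 : sm ga N52907 = N52215 := ded_13_1 L710185 L696948 L716501
theorem L716505 : sm gb N52907 = N51021 := ded_21_1 (flp_e L696950) L696934 L716501
theorem L716507 : sm gc N52907 = N51729 := ded_28_1 (flp_e L705142) (flp_c L696946) L716501
theorem L716509 : sm gg N52907 = N52108 := ded_41_2 (flp_e L709083) (flp_g L696940) L716501
theorem L716511 : sm gj N52907 = N52546 := ded_42_2 (flp_e L712777) (flp_j L696942) L716501
theorem L716513 : sm gh N52907 = N52158 := ded_43_2 L709613 (flp_h L696944) L716501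
theorem L716515 : sm gf N52907 = N52138 := ded_40_2 (flp_e L709415) L688431 L675814 (flp_f L696938) L716501
theorem L716517 : sm gi N51020 = N52908 := rfl
theorem L716519 : sm ga N52908 = N52226 := ded_18_1 (flp_i L710298) L696948 L716517
theorem L716521 : sm gb N52908 = N51022 := ded_26_1 (flp_i L696958) L696934 L716517
theorem L716523 : sm gc N52908 = N51730 := ded_33_1 (flp_i L705158) (flp_c L696946) L716517
theorem L716525 : sm gd N52908 = N51050 := ded_39_1 (flp_i L697307) (flp_d L696936) L716517
theorem L716527 : sm gf N52908 = N51031 := ded_48_1 (flp_i L697063) (flp_f L696938) L716517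
theorem L716529 : sm gg N52908 = N52109 := ded_51_1 (flp_i L709091) (flp_g L696940) L716517
theorem L716531 : sm gj N52908 = N52547 := ded_53_1 (flp_i L712783) (flp_j L696942) L716517
theorem L716533 : sm gd N51021 = N52909 := rfl
theorem L716535 : sm ga N52909 = N52656 := ded_12_1 L713614 (flp_a L696952) L716533
theorem L716537 : sm gg N52909 = N51174 := ded_36_2 L698914 (flp_g L696956) L716533
theorem L716539 : sm gj N52909 = N52235 := ded_37_2 (flp_d L716451) L716449 L716533
theorem L716541 : sm gc N52909 = N51171 := ded_27_1 (flp_d L715034) L715026 L695469 (flp_c L696954) L716533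
theorem L716543 : sm ge N52909 = N51051 := ded_34_2 (flp_d L697321) (flp_e L676053) (flp_d L675745) L696950 L716533
theorem L716545 : sm gf N51021 = N52910 := rfl
theorem L716547 : sm ga N52910 = N51922 := ded_14_1 L707101 (flp_a L696952) L716545
theorem L716549 : sm gb N52910 = N52138 := ded_22_1 (flp_f L716515) L716505 L716545
theorem L716551 : sm gc N52910 = N51023 := ded_29_1 (flp_f L696970) (flp_c L696954) L716545
theorem L716553 : sm gh N52910 = N52155 := ded_47_2 (flp_f L716232) L716230 L716545
theorem L716555 : sm ge N52910 = N51032 := ded_40_1 (flp_f L697079) (flp_e L675816) (flp_f L675741) L696950 L716545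
theorem L716557 : sm gg N52910 = N51811 := ded_45_2 (flp_f L706032) L684705 (flp_f L688007) (flp_g L696956) L716545
theorem L716559 : sm gi N51021 = N52911 := rfl
theorem L716561 : sm ga N52911 = N52662 := ded_18_1 (flp_i L713646) (flp_a L696952) L716559
theorem L716563 : sm gc N52911 = N51024 := ded_33_1 (flp_i L696980) (flp_c L696954) L716559
theorem L716565 : sm ge N52911 = N51022 := ded_44_1 (flp_i L696958) L696950 L716559
theorem L716567 : sm gg N52911 = N52110 := ded_51_1 (flp_i L709101) (flp_g L696956) L716559
theorem L716569 : sm gh N51022 = N52912 := rfl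
theorem L716571 : sm ga N52912 = N52686 := ded_17_1 (flp_h L713821) (flp_a L696960) L716569
theorem L716573 : sm gc N52912 = N51025 := ded_32_1 (flp_h L696990) (flp_c L696962) L716569
theorem L716575 : sm gf N52912 = N51034 := ded_47_1 (flp_h L697105) (flp_f L696966) L716569
theorem L716577 : sm gg N52912 = N52111 := ded_50_1 (flp_h L709111) (flp_g L696968) L716569
theorem L716579 : sm gi N51023 = N52913 := rfl
theorem L716581 : sm ga N52913 = N51927 := ded_18_1 (flp_i L707139) (flp_a L696972) L716579
theorem L716583 : sm gb N52913 = N51736 := ded_26_1 (flp_i L705236) (flp_b L696974) L716579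
theorem L716585 : sm ge N52913 = N51035 := ded_44_1 (flp_i L697113) (flp_e L696976) L716579
theorem L716587 : sm gf N52913 = N51024 := ded_48_1 (flp_i L696980) L696970 L716579
theorem L716589 : sm gg N52913 = N51814 := ded_51_1 (flp_i L706066) (flp_g L696978) L716579
theorem L716591 : sm gh N51024 = N52914 := rfl
theorem L716593 : sm ga N52914 = N52667 := ded_17_1 (flp_h L713674) (flp_a L696982) L716591
theorem L716595 : sm gb N52914 = N51737 := ded_25_1 (flp_h L705242) (flp_b L696984) L716591
theorem L716597 : sm ge N52914 = N51025 := ded_43_1 (flp_h L696990) (flp_e L696986) L716591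
theorem L716599 : sm gg N52914 = N52112 := ded_50_1 (flp_h L709119) (flp_g L696988) L716591
theorem L716601 : sm gf N51026 = N52915 := rfl
theorem L716603 : sm ga N52915 = N51947 := ded_14_1 L707309 (flp_a L697004) L716601
theorem L716605 : sm gb N52915 = N52097 := ded_22_1 L708949 (flp_b L697006) L716601
theorem L716607 : sm gc N52915 = N51028 := ded_29_1 (flp_f L697029) (flp_c L697008) L716601
theorem L716609 : sm gd N52915 = N52915 := ded_35_1 (flp_f L716601) L697015 L716601
theorem L716610 : sm gj N52915 = N51032 := ded_46_2 (flp_f L697079) (flp_j L697011) L716601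
theorem L716612 : sm gh N52915 = N52149 := ded_47_2 L709525 (flp_h L697013) L716601
theorem L716614 : sm gi N51026 = N52916 := rfl
theorem L716616 : sm ga N52916 = N51960 := ded_18_1 (flp_i L707417) (flp_a L697004) L716614
theorem L716618 : sm gb N52916 = N52142 := ded_26_1 (flp_i L709448) (flp_b L697006) L716614
theorem L716620 : sm gc N52916 = N51029 := ded_33_1 (flp_i L697039) (flp_c L697008) L716614
theorem L716622 : sm gd N52916 = N52916 := ded_39_1 (flp_i L716614) L697015 L716614
theorem L716623 : sm ge N52916 = N51027 := ded_44_1 (flp_i L697016) L697002 L716614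
theorem L716625 : sm gg N52916 = N52916 := ded_51_1 (flp_i L716614) L697010 L716614
theorem L716626 : sm gj N52916 = N51033 := ded_53_1 (flp_i L697092) (flp_j L697011) L716614
theorem L716628 : sm gh N51027 = N52917 := rfl
theorem L716630 : sm ga N52917 = N52695 := ded_17_1 (flp_h L713886) (flp_a L697018) L716628
theorem L716632 : sm gb N52917 = N52766 := ded_25_1 (flp_h L714449) (flp_b L697020) L716628
theorem L716634 : sm gc N52917 = N51030 := ded_32_1 (flp_h L697052) (flp_c L697022) L716628
theorem L716636 : sm gg N52917 = N52917 := ded_50_1 (flp_h L716628) L697026 L716628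
theorem L716637 : sm gj N52917 = N51034 := ded_52_1 (flp_h L697105) (flp_j L697027) L716628
theorem L716639 : sm gg N51028 = N52918 := rfl
theorem L716641 : sm ga N52918 = N51938 := ded_15_1 L707238 (flp_a L697031) L716639
theorem L716643 : sm gb N52918 = N51705 := ded_23_1 L704888 (flp_b L697033) L716639
theorem L716645 : sm gd N52918 = N51041 := ded_36_1 (flp_g L697189) (flp_d L697035) L716639
theorem L716647 : sm gf N52918 = N52918 := ded_45_1 (flp_g L716639) (flp_f L697029) L675784 L697029 L716639
theorem L716648 : sm gj N52918 = N51819 := ded_49_2 (flp_g L706124) L684776 (flp_g L675847) (flp_j L697037) L716639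
theorem L716650 : sm gi N51028 = N52919 := rfl
theorem L716652 : sm ga N52919 = N51952 := ded_18_1 (flp_i L707343) (flp_a L697031) L716650
theorem L716654 : sm gb N52919 = N51739 := ded_26_1 (flp_i L705265) (flp_b L697033) L716650
theorem L716656 : sm gd N52919 = N51042 := ded_39_1 (flp_i L697202) (flp_d L697035) L716650
theorem L716658 : sm gf N52919 = N51029 := ded_48_1 (flp_i L697039) L697029 L716650
theorem L716660 : sm gj N52919 = N51035 := ded_53_1 (flp_i L697113) (flp_j L697037) L716650
theorem L716662 : sm gh N51029 = N52920 := rfl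
theorem L716664 : sm ga N52920 = N51965 := ded_17_1 (flp_h L707463) (flp_a L697041) L716662
theorem L716666 : sm gb N52920 = N51740 := ded_25_1 (flp_h L705275) (flp_b L697043) L716662
theorem L716668 : sm ge N52920 = N51030 := ded_43_1 (flp_h L697052) (flp_e L697047) L716662
theorem L716670 : sm gg N52920 = N52920 := ded_50_1 (flp_h L716662) L697049 L716662
theorem L716671 : sm gj N52920 = N51036 := ded_52_1 (flp_h L697125) (flp_j L697050) L716662
theorem L716673 : sm gh N51031 = N52921 := rfl
theorem L716675 : sm ga N52921 = N52227 := ded_17_1 (flp_h L710308) (flp_a L697065) L716673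
theorem L716677 : sm gb N52921 = N51034 := ded_25_1 (flp_h L697105) (flp_b L697067) L716673
theorem L716679 : sm gc N52921 = N51741 := ded_32_1 (flp_h L705284) (flp_c L697069) L716673
theorem L716681 : sm ge N52921 = N52144 := ded_43_1 (flp_h L709475) (flp_e L697073) L716673
theorem L716683 : sm gg N52921 = N51037 := ded_50_1 (flp_h L697135) (flp_g L697075) L716673
theorem L716685 : sm gj N52921 = N52766 := ded_52_1 (flp_h L714449) (flp_j L697077) L716673
theorem L716687 : sm gi N52921 = N52171 := ded_54_2 (flp_h L709730) (flp_i L688672) (flp_h L675808) L697063 L716673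
theorem L716689 : sm gi N51032 = N52922 := rfl
theorem L716691 : sm ga N52922 = N51948 := ded_18_1 (flp_i L707311) (flp_a L697081) L716689
theorem L716693 : sm gb N52922 = N52139 := ded_26_1 (flp_i L709423) (flp_b L697083) L716689
theorem L716695 : sm gc N52922 = N51035 := ded_33_1 (flp_i L697113) (flp_c L697085) L716689
theorem L716697 : sm gd N52922 = N52922 := ded_39_1 (flp_i L716689) L697087 L716689
theorem L716698 : sm gf N52922 = N51033 := ded_48_1 (flp_i L697092) L697079 L716689
theorem L716700 : sm gg N52922 = N51823 := ded_51_1 (flp_i L706162) (flp_g L697090) L716689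
theorem L716702 : sm gh N51033 = N52923 := rfl
theorem L716704 : sm ga N52923 = N51961 := ded_17_1 (flp_h L707427) (flp_a L697094) L716702
theorem L716706 : sm gb N52923 = N52144 := ded_25_1 (flp_h L709475) (flp_b L697096) L716702
theorem L716708 : sm gc N52923 = N51036 := ded_32_1 (flp_h L697125) (flp_c L697098) L716702
theorem L716710 : sm ge N52923 = N51034 := ded_43_1 (flp_h L697105) (flp_e L697101) L716702
theorem L716712 : sm gg N52923 = N51038 := ded_50_1 (flp_h L697150) (flp_g L697103) L716702
theorem L716714 : sm gi N52923 = N52169 := ded_54_2 (flp_h L709715) (flp_i L688657) (flp_h L675826) L697092 L716702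
theorem L716716 : sm gd N51034 = N52924 := rfl
theorem L716718 : sm ga N52924 = N52696 := ded_12_1 (flp_d L713893) (flp_a L697107) L716716
theorem L716720 : sm gg N52924 = N51039 := ded_36_2 (flp_d L697165) (flp_g L697111) L716716
theorem L716722 : sm gc N52924 = N51202 := ded_27_1 (flp_d L699231) L677663 (flp_d L675869) (flp_c L697109) L716716
theorem L716724 : sm gh N52924 = N51057 := ded_38_2 (flp_d L697399) (flp_h L676141) (flp_d L675835) L697105 L716716
theorem L716726 : sm gh N51035 = N52925 := rfl
theorem L716728 : sm ga N52925 = N51953 := ded_17_1 (flp_h L707351) (flp_a L697115) L716726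
theorem L716730 : sm gb N52925 = N51746 := ded_25_1 (flp_h L705352) (flp_b L697117) L716726
theorem L716732 : sm gf N52925 = N51036 := ded_47_1 (flp_h L697125) (flp_f L697121) L716726
theorem L716734 : sm gg N52925 = N51825 := ded_50_1 (flp_h L706183) (flp_g L697123) L716726
theorem L716736 : sm gd N51036 = N52926 := rfl
theorem L716738 : sm ga N52926 = N51966 := ded_12_1 (flp_d L707470) (flp_a L697127) L716736
theorem L716740 : sm gb N52926 = N51747 := ded_20_1 (flp_d L705356) (flp_b L697129) L716736
theorem L716742 : sm gg N52926 = N51040 := ded_36_2 (flp_d L697176) (flp_g L697133) L716736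
theorem L716744 : sm ge N52926 = N51206 := ded_34_2 (flp_d L699261) L677687 (flp_d L675869) (flp_e L697131) L716736
theorem L716746 : sm gh N52926 = N51045 := ded_38_2 (flp_d L697238) (flp_h L675968) (flp_d L675855) L697125 L716736
theorem L716748 : sm gd N51037 = N52927 := rfl
theorem L716750 : sm ga N52927 = N51751 := ded_12_1 L705403 (flp_a L697137) L716748
theorem L716752 : sm gb N52927 = N51039 := ded_20_1 (flp_d L697165) (flp_b L697139) L716748
theorem L716754 : sm gf N52927 = N52120 := ded_35_2 (flp_d L709217) (flp_f L697145) L716748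
theorem L716756 : sm gj N52927 = N52927 := ded_37_2 (flp_d L716748) L697147 L716748
theorem L716757 : sm gi N52927 = N52175 := ded_39_2 (flp_d L709769) (flp_i L697148) L716748
theorem L716759 : sm gc N52927 = N51699 := ded_27_1 (flp_d L704824) L683580 (flp_d L684025) (flp_c L697141) L716748
theorem L716761 : sm gh N52927 = N51059 := ded_38_2 (flp_d L697425) (flp_h L676167) (flp_d L675879) L697135 L716748
theorem L716763 : sm ge N51828 = N52927 := ded_13_0 L716750 L705396 (flp_a L706209)
theorem L716765 : sm gd N51038 = N52928 := rfl
theorem L716767 : sm ga N52928 = N51962 := ded_12_1 (flp_d L707435) (flp_a L697152) L716765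
theorem L716769 : sm gb N52928 = N52145 := ded_20_1 (flp_d L709485) (flp_b L697154) L716765
theorem L716771 : sm gf N52928 = N51827 := ded_35_2 (flp_d L706197) (flp_f L697160) L716765
theorem L716773 : sm gj N52928 = N52928 := ded_37_2 (flp_d L716765) L697162 L716765
theorem L716774 : sm gi N52928 = N52174 := ded_39_2 (flp_d L709760) (flp_i L697163) L716765
theorem L716776 : sm gh N52928 = N52928 := ded_38_2 (flp_d L716765) (flp_h L697150) L675894 L697150 L716765
theorem L716777 : sm ge N51039 = N52929 := rfl
theorem L716779 : sm ga N52929 = N52694 := ded_13_1 L713881 (flp_a L697167) L716777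
theorem L716781 : sm gb N52929 = N51828 := ded_21_1 L716763 L716752 L716777
theorem L716783 : sm gc N52929 = N51213 := ded_28_1 (flp_e L699356) (flp_c L697172) L716777
theorem L716785 : sm gj N52929 = N52929 := ded_42_2 (flp_e L716777) L697171 L716777
theorem L716786 : sm gh N52929 = N51060 := ded_43_2 (flp_e L697439) (flp_h L697174) L716777
theorem L716788 : sm gc N51040 = N52930 := rfl
theorem L716790 : sm ga N52930 = N51967 := ded_11_1 (flp_c L707476) (flp_a L697178) L716788
theorem L716792 : sm ge N52930 = N51217 := ded_28_2 (flp_c L699393) (flp_e L697185) L716788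
theorem L716794 : sm gf N52930 = N51828 := ded_29_2 (flp_c L706207) (flp_f L697182) L716788
theorem L716796 : sm gj N52930 = N52930 := ded_31_2 (flp_c L716788) L697184 L716788
theorem L716797 : sm gh N52930 = N51046 := ded_32_2 (flp_c L697249) (flp_h L697187) L716788
theorem L716799 : sm gi N51041 = N52931 := rfl
theorem L716801 : sm ga N52931 = N51969 := ded_18_1 (flp_i L707494) (flp_a L697191) L716799
theorem L716803 : sm gb N52931 = N51752 := ded_26_1 (flp_i L705405) (flp_b L697193) L716799
theorem L716805 : sm gc N52931 = N52931 := ded_33_1 (flp_i L716799) L697195 L716799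
theorem L716806 : sm ge N52931 = N52358 := ded_44_1 (flp_i L711435) (flp_e L697196) L716799
theorem L716808 : sm gf N52931 = N52931 := ded_48_1 (flp_i L716799) L697199 L716799
theorem L716809 : sm gg N52931 = N51042 := ded_51_1 (flp_i L697202) L697189 L716799
theorem L716811 : sm gj N52931 = N51829 := ded_53_1 (flp_i L706214) (flp_j L697200) L716799
theorem L716813 : sm gh N51042 = N52932 := rfl
theorem L716815 : sm ga N52932 = N51973 := ded_17_1 (flp_h L707525) (flp_a L697204) L716813
theorem L716817 : sm gb N52932 = N51753 := ded_25_1 (flp_h L705416) (flp_b L697206) L716813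
theorem L716819 : sm gc N52932 = N52932 := ded_32_1 (flp_h L716813) L697208 L716813
theorem L716820 : sm ge N52932 = N52721 := ded_43_1 L715331 L715323 L716813
theorem L716822 : sm gf N52932 = N51043 := ded_47_1 (flp_h L697213) (flp_f L697209) L716813
theorem L716824 : sm gj N52932 = N51044 := ded_52_1 (flp_h L697226) (flp_j L697211) L716813
theorem L716826 : sm gi N52932 = N52932 := ded_54_2 (flp_h L716813) (flp_i L697202) L675929 L697202 L716813
theorem L716827 : sm gd N51043 = N52933 := rfl
theorem L716829 : sm ga N52933 = N51978 := ded_12_1 (flp_d L707557) (flp_a L697215) L716827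
theorem L716831 : sm gb N52933 = N51754 := ded_20_1 (flp_d L705425) (flp_b L697217) L716827
theorem L716833 : sm gg N52933 = N52933 := ded_36_2 (flp_d L716827) L697222 L716827
theorem L716834 : sm gj N52933 = N51045 := ded_37_2 (flp_d L697238) (flp_j L697223) L716827
theorem L716836 : sm gi N52933 = N52933 := ded_39_2 (flp_d L716827) L697225 L716827
theorem L716837 : sm ge N52933 = N51221 := ded_34_2 (flp_d L699444) L677846 (flp_d L675954) (flp_e L697220) L716827
theorem L716839 : sm gd N51044 = N52934 := rfl
theorem L716841 : sm ga N52934 = N51974 := ded_12_1 (flp_d L707535) (flp_a L697228) L716839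
theorem L716843 : sm gb N52934 = N51757 := ded_20_1 (flp_d L705458) (flp_b L697230) L716839
theorem L716845 : sm gf N52934 = N51045 := ded_35_2 (flp_d L697238) (flp_f L697233) L716839
theorem L716847 : sm gg N52934 = N51832 := ded_36_2 (flp_d L706240) (flp_g L697235) L716839
theorem L716849 : sm gi N52934 = N52934 := ded_39_2 (flp_d L716839) L697237 L716839
theorem L716850 : sm gc N51045 = N52935 := rfl
theorem L716852 : sm ga N52935 = N51979 := ded_11_1 (flp_c L707565) (flp_a L697240) L716850
theorem L716854 : sm ge N52935 = N51225 := ded_28_2 (flp_c L699478) (flp_e L697247) L716850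
theorem L716856 : sm gg N52935 = N51046 := ded_30_2 (flp_c L697249) (flp_g L697244) L716850
theorem L716858 : sm gi N52935 = N52935 := ded_33_2 (flp_c L716850) L697246 L716850
theorem L716859 : sm gd N52935 = N52935 := ded_27_2 (flp_c L716850) (flp_d L697238) L675974 L697238 L716850
theorem L716860 : sm gb N51046 = N52936 := rfl
theorem L716862 : sm gd N52936 = N52936 := ded_20_2 (flp_b L716860) L697259 L716860
theorem L716863 : sm ge N52936 = N51229 := ded_21_2 (flp_b L699518) (flp_e L697253) L716860
theorem L716865 : sm gf N52936 = N51060 := ded_22_2 L697443 (flp_f L697255) L716860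
theorem L716867 : sm gj N52936 = N52936 := ded_24_2 (flp_b L716860) L697257 L716860
theorem L716868 : sm gi N52936 = N52936 := ded_26_2 (flp_b L716860) L697258 L716860
theorem L716869 : sm ga N52936 = N52198 := ded_10_1 L710017 L688983 L685921 (flp_a L697251) L716860
theorem L716871 : sm gc N52936 = N51249 := ded_19_2 L699763 (flp_c L684172) (flp_b L675984) L697249 L716860
theorem L716873 : sm gh N51047 = N52937 := rfl
theorem L716875 : sm ga N52937 = N52754 := ded_17_1 L714359 (flp_a L697262) L716873
theorem L716877 : sm gb N52937 = N52700 := ded_25_1 (flp_h L713921) (flp_b L697264) L716873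
theorem L716879 : sm gc N52937 = N51048 := ded_32_1 (flp_h L697276) (flp_c L697266) L716873
theorem L716881 : sm ge N52937 = N52297 := ded_43_1 (flp_h L710922) (flp_e L697268) L716873
theorem L716883 : sm gf N52937 = N51055 := ded_47_1 (flp_h L697372) (flp_f L697270) L716873
theorem L716885 : sm gg N52937 = N52301 := ded_50_1 (flp_h L710954) (flp_g L697272) L716873
theorem L716887 : sm gj N52937 = N51053 := ded_52_1 (flp_h L697345) (flp_j L697274) L716873
theorem L716889 : sm gi N52937 = N52937 := ded_54_2 (flp_h L716873) (flp_i L697260) L676021 L697260 L716873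
theorem L716890 : sm gd N51049 = N52938 := rfl
theorem L716892 : sm ga N52938 = N52703 := ded_12_1 (flp_d L713956) (flp_a L697295) L716890
theorem L716894 : sm gb N52938 = N51051 := ded_20_1 (flp_d L697321) (flp_b L697297) L716890
theorem L716896 : sm gf N52938 = N52938 := ded_35_2 (flp_d L716890) L697306 L716890
theorem L716897 : sm gg N52938 = N51173 := ded_36_2 L698898 (flp_g L697301) L716890
theorem L716899 : sm gj N52938 = N52030 := ded_37_2 L708218 (flp_j L697303) L716890
theorem L716901 : sm gc N52938 = N51897 := ded_27_1 L706904 L685939 (flp_d L676230) (flp_c L697299) L716890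
theorem L716903 : sm gi N51049 = N52939 := rfl
theorem L716905 : sm ga N52939 = N52704 := ded_18_1 (flp_i L713963) (flp_a L697295) L716903
theorem L716907 : sm gb N52939 = N51052 := ded_26_1 (flp_i L697332) (flp_b L697297) L716903
theorem L716909 : sm gc N52939 = N51062 := ded_33_1 (flp_i L697468) (flp_c L697299) L716903
theorem L716911 : sm ge N52939 = N51050 := ded_44_1 (flp_i L697307) L697293 L716903
theorem L716913 : sm gf N52939 = N52939 := ded_48_1 (flp_i L716903) L697306 L716903
theorem L716914 : sm gg N52939 = N51231 := ded_51_1 (flp_i L699545) (flp_g L697301) L716903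
theorem L716916 : sm gj N52939 = N51998 := ded_53_1 L707805 (flp_j L697303) L716903
theorem L716918 : sm gh N51050 = N52940 := rfl
theorem L716920 : sm ga N52940 = N52705 := ded_17_1 (flp_h L713972) (flp_a L697309) L716918
theorem L716922 : sm gb N52940 = N51053 := ded_25_1 (flp_h L697345) (flp_b L697311) L716918
theorem L716924 : sm gc N52940 = N51063 := ded_32_1 (flp_h L697483) (flp_c L697313) L716918
theorem L716926 : sm gf N52940 = N51056 := ded_47_1 (flp_h L697385) (flp_f L697315) L716918
theorem L716928 : sm gg N52940 = N52122 := ded_50_1 (flp_h L709236) (flp_g L697317) L716918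
theorem L716930 : sm gj N52940 = N52700 := ded_52_1 (flp_h L713921) (flp_j L697319) L716918
theorem L716932 : sm gi N52940 = N52940 := ded_54_2 (flp_h L716918) (flp_i L697307) L676048 L697307 L716918
theorem L716933 : sm gh N51051 = N52941 := rfl
theorem L716935 : sm ga N52941 = N52743 := ded_17_1 (flp_h L714274) (flp_a L697323) L716933
theorem L716937 : sm gc N52941 = N51141 := ded_32_1 L698543 (flp_c L697330) L716933
theorem L716939 : sm gf N52941 = N52941 := ded_47_1 (flp_h L716933) L697325 L716933
theorem L716940 : sm gg N52941 = N51143 := ded_50_1 L698565 (flp_g L697326) L716933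
theorem L716942 : sm gj N52941 = N52204 := ded_52_1 L710083 (flp_j L697328) L716933
theorem L716944 : sm gd N52941 = N52941 := ded_38_1 (flp_h L716933) (flp_d L697321) L676063 L697321 L716933
theorem L716945 : sm gi N51051 = N52942 := rfl
theorem L716947 : sm ga N52942 = N52744 := ded_18_1 (flp_i L714280) (flp_a L697323) L716945
theorem L716949 : sm gc N52942 = N51172 := ded_33_1 (flp_i L698885) (flp_c L697330) L716945
theorem L716951 : sm gd N52942 = N51052 := ded_39_1 (flp_i L697332) L697321 L716945
theorem L716953 : sm gf N52942 = N52942 := ded_48_1 (flp_i L716945) L697325 L716945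
theorem L716954 : sm gg N52942 = N51175 := ded_51_1 (flp_i L698918) (flp_g L697326) L716945
theorem L716956 : sm gj N52942 = N52236 := ded_53_1 (flp_i L710399) (flp_j L697328) L716945
theorem L716958 : sm gh N51052 = N52943 := rfl
theorem L716960 : sm ga N52943 = N52749 := ded_17_1 (flp_h L714308) (flp_a L697334) L716958
theorem L716962 : sm gc N52943 = N51054 := ded_32_1 (flp_h L697356) (flp_c L697336) L716958
theorem L716964 : sm ge N52943 = N51053 := ded_43_1 (flp_h L697345) (flp_e L697338) L716958
theorem L716966 : sm gf N52943 = N52943 := ded_47_1 (flp_h L716958) L697340 L716958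
theorem L716967 : sm gg N52943 = N51232 := ded_50_1 (flp_h L699557) (flp_g L697341) L716958
theorem L716969 : sm gj N52943 = N52297 := ded_52_1 (flp_h L710922) (flp_j L697343) L716958
theorem L716971 : sm gi N52943 = N52943 := ded_54_2 (flp_h L716958) (flp_i L697332) L676063 L697332 L716958
theorem L716972 : sm gd N51053 = N52944 := rfl
theorem L716974 : sm ga N52944 = N52761 := ded_12_1 (flp_d L714414) (flp_a L697347) L716972
theorem L716976 : sm gf N52944 = N51057 := ded_35_2 (flp_d L697399) (flp_f L697351) L716972
theorem L716978 : sm gg N52944 = N52123 := ded_36_2 (flp_d L709245) (flp_g L697353) L716972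
theorem L716980 : sm gi N52944 = N52944 := ded_39_2 (flp_d L716972) L697355 L716972
theorem L716981 : sm gc N52944 = N51241 := ded_27_1 (flp_d L699676) L678025 (flp_d L676100) (flp_c L697349) L716972
theorem L716983 : sm gd N51055 = N52945 := rfl
theorem L716985 : sm ga N52945 = N52751 := ded_12_1 L714329 (flp_a L697374) L716983
theorem L716987 : sm gb N52945 = N52769 := ded_20_1 (flp_d L714466) (flp_b L697376) L716983
theorem L716989 : sm gg N52945 = N52945 := ded_36_2 (flp_d L716983) L697381 L716983
theorem L716990 : sm gj N52945 = N51057 := ded_37_2 (flp_d L697399) (flp_j L697382) L716983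
theorem L716992 : sm gi N52945 = N52945 := ded_39_2 (flp_d L716983) L697384 L716983
theorem L716993 : sm gc N52945 = N51244 := ded_27_1 (flp_d L699708) L678076 (flp_d L676125) (flp_c L697378) L716983
theorem L716995 : sm gd N51056 = N52946 := rfl
theorem L716997 : sm ga N52946 = N51758 := ded_12_1 L705472 (flp_a L697387) L716995
theorem L716999 : sm gb N52946 = N51057 := ded_20_1 (flp_d L697399) (flp_b L697389) L716995
theorem L717001 : sm gg N52946 = N51059 := ded_36_2 (flp_d L697425) (flp_g L697394) L716995
theorem L717003 : sm gj N52946 = N52769 := ded_37_2 (flp_d L714466) (flp_j L697396) L716995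
theorem L717005 : sm gi N52946 = N52946 := ded_39_2 (flp_d L716995) L697398 L716995
theorem L717006 : sm gc N52946 = N51702 := ded_27_1 (flp_d L704854) L697557 (flp_d L697544) (flp_c L697391) L716995
theorem L717008 : sm ge N51833 = N52946 := ded_13_0 L716997 L705465 (flp_a L706249)
theorem L717010 : sm ge N51057 = N52947 := rfl
theorem L717012 : sm ga N52947 = N52760 := ded_13_1 L714408 (flp_a L697401) L717010
theorem L717014 : sm gb N52947 = N51833 := ded_21_1 L717008 L716999 L717010
theorem L717016 : sm gc N52947 = N51247 := ded_28_1 (flp_e L699736) (flp_c L697406) L717010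
theorem L717018 : sm gg N52947 = N51060 := ded_41_2 (flp_e L697439) (flp_g L697403) L717010
theorem L717020 : sm gi N52947 = N52947 := ded_44_2 (flp_e L717010) L697405 L717010
theorem L717021 : sm gd N52947 = N52947 := ded_34_1 (flp_e L717010) (flp_d L697399) L676147 L697399 L717010
theorem L717022 : sm gh N51062 = N52948 := rfl
theorem L717024 : sm ga N52948 = N52706 := ded_17_1 (flp_h L713981) (flp_a L697470) L717022
theorem L717026 : sm gb N52948 = N51064 := ded_25_1 (flp_h L697496) (flp_b L697472) L717022
theorem L717028 : sm ge N52948 = N51063 := ded_43_1 (flp_h L697483) (flp_e L697476) L717022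
theorem L717030 : sm gf N52948 = N52948 := ded_47_1 (flp_h L717022) L697478 L717022
theorem L717031 : sm gg N52948 = N51251 := ded_50_1 (flp_h L699786) (flp_g L697479) L717022
theorem L717033 : sm gj N52948 = N51666 := ded_52_1 L704427 (flp_j L697481) L717022
theorem L717035 : sm gd N52948 = N51656 := ded_38_1 (flp_h L704308) L682970 L686066 (flp_d L697474) L717022
theorem L717037 : sm gi N52948 = N52948 := ded_54_2 (flp_h L717022) (flp_i L697468) L676229 L697468 L717022
theorem L717038 : sm gd N51063 = N52949 := rfl
theorem L717040 : sm ga N52949 = N51675 := ded_12_1 L704535 (flp_a L697485) L717038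
theorem L717042 : sm gb N52949 = N51065 := ded_20_1 (flp_d L697511) (flp_b L697487) L717038
theorem L717044 : sm gf N52949 = N51067 := ded_35_2 (flp_d L697544) (flp_f L697489) L717038
theorem L717046 : sm gg N52949 = N52131 := ded_36_2 (flp_d L709330) (flp_g L697491) L717038
theorem L717048 : sm gj N52949 = N51472 := ded_37_2 L702502 (flp_j L697493) L717038
theorem L717050 : sm gi N52949 = N52949 := ded_39_2 (flp_d L717038) L697495 L717038
theorem L717051 : sm ge N52949 = N51467 := ded_34_2 L702438 (flp_e L704312) (flp_d L717035) L717028 L717038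
theorem L717053 : sm gh N52949 = N51466 := ded_38_2 L702418 L684256 (flp_d L676239) L697483 L717038
theorem L717055 : sm gc N51701 = N52949 := ded_11_0 L717040 L704529 (flp_a L704849)
theorem L717057 : sm gd N51069 = N52950 := rfl
theorem L717059 : sm ga N52950 = N51763 := ded_12_1 (flp_d L705526) (flp_a L697580) L717057
theorem L717061 : sm gb N52950 = N51095 := ded_20_1 (flp_d L697940) (flp_b L697582) L717057
theorem L717063 : sm gf N52950 = N51072 := ded_35_2 (flp_d L697624) (flp_f L697588) L717057
theorem L717065 : sm gg N52950 = N51703 := ded_36_2 (flp_d L704863) (flp_g L697590) L717057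
theorem L717067 : sm gj N52950 = N51070 := ded_37_2 (flp_d L697594) (flp_j L697592) L717057
theorem L717069 : sm gc N52950 = N51744 := ded_27_1 L705338 L684115 L686363 (flp_c L697584) L717057
theorem L717071 : sm gh N52950 = N51077 := ded_38_2 (flp_d L697698) (flp_h L676464) (flp_d L676370) L697578 L717057
theorem L717073 : sm gi N51069 = N52951 := rfl
theorem L717075 : sm ga N52951 = N51764 := ded_18_1 (flp_i L705540) (flp_a L697580) L717073
theorem L717077 : sm gb N52951 = N51096 := ded_26_1 (flp_i L697952) (flp_b L697582) L717073
theorem L717079 : sm gc N52951 = N52003 := ded_33_1 (flp_i L707853) (flp_c L697584) L717073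
theorem L717081 : sm ge N52951 = N51709 := ded_44_1 (flp_i L704922) (flp_e L697586) L717073
theorem L717083 : sm gf N52951 = N51073 := ded_48_1 (flp_i L697639) (flp_f L697588) L717073
theorem L717085 : sm gg N52951 = N51704 := ded_51_1 (flp_i L704870) (flp_g L697590) L717073
theorem L717087 : sm gj N52951 = N51071 := ded_53_1 (flp_i L697608) (flp_j L697592) L717073
theorem L717089 : sm gh N52951 = N51846 := ded_54_1 (flp_i L706417) (flp_h L685083) (flp_i L676376) L697578 L717073
theorem L717091 : sm ge N51070 = N52952 := rfl
theorem L717093 : sm ga N52952 = N51765 := ded_13_1 (flp_e L705556) (flp_a L697596) L717091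
theorem L717095 : sm gb N52952 = N51098 := ded_21_1 (flp_e L697978) (flp_b L697598) L717091
theorem L717097 : sm gc N52952 = N51735 := ded_28_1 L705232 (flp_c L697604) L717091
theorem L717099 : sm gg N52952 = N51732 := ded_41_2 L705202 (flp_g L697602) L717091
theorem L717101 : sm gh N52952 = N51080 := ded_43_2 (flp_e L697736) (flp_h L697606) L717091
theorem L717103 : sm gd N52952 = N52499 := ded_34_1 (flp_e L712421) (flp_d L691673) (flp_e L676388) L697594 L717091
theorem L717105 : sm gf N52952 = N51774 := ded_40_2 (flp_e L705643) L684415 L676418 (flp_f L697600) L717091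
theorem L717107 : sm gi N51070 = N52953 := rfl
theorem L717109 : sm ga N52953 = N51766 := ded_18_1 (flp_i L705564) (flp_a L697596) L717107
theorem L717111 : sm gb N52953 = N51099 := ded_26_1 (flp_i L697986) (flp_b L697598) L717107
theorem L717113 : sm gc N52953 = N51745 := ded_33_1 (flp_i L705342) (flp_c L697604) L717107
theorem L717115 : sm gd N52953 = N51071 := ded_39_1 (flp_i L697608) L697594 L717107
theorem L717117 : sm gf N52953 = N51074 := ded_48_1 (flp_i L697653) (flp_f L697600) L717107
theorem L717119 : sm gg N52953 = N51742 := ded_51_1 (flp_i L705300) (flp_g L697602) L717107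
theorem L717121 : sm gi N51072 = N52954 := rfl
theorem L717123 : sm ga N52954 = N51767 := ded_18_1 (flp_i L705574) (flp_a L697626) L717121
theorem L717125 : sm gb N52954 = N51100 := ded_26_1 (flp_i L697996) (flp_b L697628) L717121
theorem L717127 : sm gc N52954 = N51748 := ded_33_1 (flp_i L705364) (flp_c L697633) L717121
theorem L717129 : sm gd N52954 = N51073 := ded_39_1 (flp_i L697639) L697624 L717121
theorem L717131 : sm ge N52954 = N51778 := ded_44_1 (flp_i L705674) L697637 L717121
theorem L717133 : sm gg N52954 = N52954 := ded_51_1 (flp_i L717121) L697630 L717121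
theorem L717134 : sm gj N52954 = N51074 := ded_53_1 (flp_i L697653) (flp_j L697631) L717121
theorem L717136 : sm gh N51074 = N52955 := rfl
theorem L717138 : sm ga N52955 = N51768 := ded_17_1 (flp_h L705585) (flp_a L697655) L717136
theorem L717140 : sm gb N52955 = N51104 := ded_25_1 (flp_h L698054) (flp_b L697657) L717136
theorem L717142 : sm gc N52955 = N51749 := ded_32_1 (flp_h L705377) (flp_c L697659) L717136
theorem L717144 : sm ge N52955 = N51780 := ded_43_1 (flp_h L705691) (flp_e L697663) L717136
theorem L717146 : sm gg N52955 = N51075 := ded_50_1 (flp_h L697667) (flp_g L697665) L717136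
theorem L717148 : sm gd N52955 = N52234 := ded_38_1 (flp_h L710383) L689297 (flp_h L676431) (flp_d L697661) L717136
theorem L717150 : sm gi N52955 = N51087 := ded_54_2 (flp_h L697828) (flp_i L676554) (flp_h L676416) L697653 L717136
theorem L717152 : sm gd N51076 = N52956 := rfl
theorem L717154 : sm ga N52956 = N51769 := ded_12_1 (flp_d L705595) (flp_a L697686) L717152
theorem L717156 : sm gb N52956 = N51107 := ded_20_1 (flp_d L698094) (flp_b L697688) L717152
theorem L717158 : sm gf N52956 = N52956 := ded_35_2 (flp_d L717152) L697693 L717152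
theorem L717159 : sm gg N52956 = N51077 := ded_36_2 (flp_d L697698) (flp_g L697694) L717152
theorem L717161 : sm gj N52956 = N51415 := ded_37_2 (flp_d L701923) (flp_j L697696) L717152
theorem L717163 : sm gh N52956 = N51703 := ded_38_2 (flp_d L704863) (flp_h L683645) (flp_d L676455) L697684 L717152
theorem L717165 : sm gi N51076 = N52957 := rfl
theorem L717167 : sm ga N52957 = N51770 := ded_18_1 (flp_i L705606) (flp_a L697686) L717165
theorem L717169 : sm gb N52957 = N51108 := ded_26_1 (flp_i L698105) (flp_b L697688) L717165
theorem L717171 : sm gc N52957 = N52957 := ded_33_1 (flp_i L717165) L697690 L717165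
theorem L717172 : sm ge N52957 = N51418 := ded_44_1 (flp_i L701960) (flp_e L697691) L717165
theorem L717174 : sm gf N52957 = N52957 := ded_48_1 (flp_i L717165) L697693 L717165
theorem L717175 : sm gg N52957 = N51078 := ded_51_1 (flp_i L697708) (flp_g L697694) L717165
theorem L717177 : sm gj N52957 = N51416 := ded_53_1 (flp_i L701934) (flp_j L697696) L717165
theorem L717179 : sm gh N52957 = N51567 := ded_54_1 (flp_i L703511) (flp_h L682355) (flp_i L676459) L697684 L717165
theorem L717181 : sm gc N51077 = N52958 := rfl
theorem L717183 : sm ga N52958 = N51771 := ded_11_1 (flp_c L705616) (flp_a L697700) L717181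
theorem L717185 : sm gf N52958 = N51082 := ded_29_2 (flp_c L697756) (flp_f L697704) L717181
theorem L717187 : sm gj N52958 = N51079 := ded_31_2 (flp_c L697723) (flp_j L697706) L717181
theorem L717189 : sm gh N52958 = N51744 := ded_32_2 (flp_c L717069) L717071 L717181
theorem L717191 : sm gb N52958 = N51794 := ded_19_1 L705855 L693532 (flp_c L676844) (flp_b L697702) L717181
theorem L717193 : sm gd N52958 = N52958 := ded_27_2 (flp_c L717181) (flp_d L697698) L676470 L697698 L717181
theorem L717194 : sm ge N51077 = N52959 := rfl
theorem L717196 : sm ga N52959 = N51772 := ded_13_1 (flp_e L705627) (flp_a L697700) L717194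
theorem L717198 : sm gb N52959 = N51109 := ded_21_1 (flp_e L698120) (flp_b L697702) L717194
theorem L717200 : sm gj N52959 = N51080 := ded_42_2 (flp_e L697736) (flp_j L697706) L717194
theorem L717202 : sm gd N52959 = N52439 := ded_34_1 L712013 L691197 (flp_e L676471) L697698 L717194
theorem L717204 : sm gf N52959 = N52438 := ded_40_2 L712007 L691389 (flp_e L676509) (flp_f L697704) L717194
theorem L717206 : sm gi N51077 = N52960 := rfl
theorem L717208 : sm ga N52960 = N51773 := ded_18_1 (flp_i L705633) (flp_a L697700) L717206
theorem L717210 : sm gb N52960 = N51110 := ded_26_1 (flp_i L698132) (flp_b L697702) L717206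
theorem L717212 : sm gd N52960 = N51078 := ded_39_1 (flp_i L697708) L697698 L717206
theorem L717214 : sm gf N52960 = N51083 := ded_48_1 (flp_i L697770) (flp_f L697704) L717206
theorem L717216 : sm gj N52960 = N51081 := ded_53_1 (flp_i L697744) (flp_j L697706) L717206
theorem L717218 : sm ge N51079 = N52961 := rfl
theorem L717220 : sm ga N52961 = N51774 := ded_13_1 (flp_e L705643) (flp_a L697725) L717218
theorem L717222 : sm gb N52961 = N51791 := ded_21_1 L705825 (flp_b L697733) L717218
theorem L717224 : sm gc N52961 = N51080 := ded_28_1 (flp_e L697736) L697723 L717218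
theorem L717226 : sm gg N52961 = N51712 := ded_41_2 L704965 (flp_g L697729) L717218
theorem L717228 : sm gh N52961 = N51735 := ded_43_2 L705232 (flp_h L697731) L717218
theorem L717230 : sm gf N52961 = N51765 := ded_40_2 (flp_e L705556) L684326 L676536 (flp_f L697727) L717218
theorem L717232 : sm gi N51079 = N52962 := rfl
theorem L717234 : sm ga N52962 = N51775 := ded_18_1 (flp_i L705649) (flp_a L697725) L717232
theorem L717236 : sm gb N52962 = N51797 := ded_26_1 (flp_i L705887) (flp_b L697733) L717232
theorem L717238 : sm gc N52962 = N51081 := ded_33_1 (flp_i L697744) L697723 L717232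
theorem L717240 : sm gd N52962 = N52962 := ded_39_1 (flp_i L717232) L697735 L717232
theorem L717241 : sm gf N52962 = N51084 := ded_48_1 (flp_i L697783) (flp_f L697727) L717232
theorem L717243 : sm gg N52962 = N51718 := ded_51_1 (flp_i L705027) (flp_g L697729) L717232
theorem L717245 : sm gf N51080 = N52963 := rfl
theorem L717247 : sm ga N52963 = N51735 := ded_14_1 L705234 (flp_a L697738) L717245
theorem L717249 : sm gb N52963 = N51113 := ded_22_1 (flp_f L698176) (flp_b L697740) L717245
theorem L717251 : sm gc N52963 = N51765 := ded_29_1 (flp_f L717230) L717224 L717245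
theorem L717253 : sm gd N52963 = N52431 := ded_35_1 (flp_f L715426) L715424 L717245
theorem L717255 : sm gj N52963 = N52438 := ded_46_2 (flp_f L717204) L717200 L717245
theorem L717257 : sm gh N52963 = N51774 := ded_47_2 (flp_f L717105) L717101 L717245
theorem L717259 : sm ge N52963 = N51085 := ded_40_1 (flp_f L697796) (flp_e L676538) (flp_f L676483) L697736 L717245
theorem L717261 : sm gg N52963 = N51692 := ded_45_2 (flp_f L704742) L683502 (flp_f L688390) (flp_g L697742) L717245
theorem L717263 : sm gi N51080 = N52964 := rfl
theorem L717265 : sm ga N52964 = N51776 := ded_18_1 (flp_i L705658) (flp_a L697738) L717263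
theorem L717267 : sm gb N52964 = N51114 := ded_26_1 (flp_i L698188) (flp_b L697740) L717263
theorem L717269 : sm ge N52964 = N51081 := ded_44_1 (flp_i L697744) L697736 L717263
theorem L717271 : sm gg N52964 = N52135 := ded_51_1 (flp_i L709380) (flp_g L697742) L717263
theorem L717273 : sm gh N51081 = N52965 := rfl
theorem L717275 : sm ga N52965 = N51777 := ded_17_1 (flp_h L705666) (flp_a L697746) L717273
theorem L717277 : sm gb N52965 = N51115 := ded_25_1 (flp_h L698196) (flp_b L697748) L717273
theorem L717279 : sm gf N52965 = N51087 := ded_47_1 (flp_h L697828) (flp_f L697752) L717273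
theorem L717281 : sm gg N52965 = N52136 := ded_50_1 (flp_h L709390) (flp_g L697754) L717273
theorem L717283 : sm gd N52965 = N52287 := ded_38_1 (flp_h L710824) L689622 (flp_h L676498) (flp_d L697750) L717273
theorem L717285 : sm gi N51082 = N52966 := rfl
theorem L717287 : sm ga N52966 = N51778 := ded_18_1 (flp_i L705674) (flp_a L697758) L717285
theorem L717289 : sm gb N52966 = N51795 := ded_26_1 (flp_i L705862) (flp_b L697767) L717285
theorem L717291 : sm gc N52966 = N51083 := ded_33_1 (flp_i L697770) L697756 L717285
theorem L717293 : sm gd N52966 = N52966 := ded_39_1 (flp_i L717285) L697769 L717285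
theorem L717294 : sm ge N52966 = N51767 := ded_44_1 (flp_i L705574) (flp_e L697760) L717285
theorem L717296 : sm gg N52966 = N52966 := ded_51_1 (flp_i L717285) L697762 L717285
theorem L717297 : sm gj N52966 = N51084 := ded_53_1 (flp_i L697783) (flp_j L697763) L717285
theorem L717299 : sm gh N51083 = N52967 := rfl
theorem L717301 : sm ga N52967 = N51779 := ded_17_1 (flp_h L705684) (flp_a L697772) L717299
theorem L717303 : sm gb N52967 = N51116 := ded_25_1 (flp_h L698206) (flp_b L697774) L717299
theorem L717305 : sm ge N52967 = N52722 := ded_43_1 (flp_h L714087) (flp_e L697778) L717299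
theorem L717307 : sm gg N52967 = N52967 := ded_50_1 (flp_h L717299) L697780 L717299
theorem L717308 : sm gj N52967 = N51087 := ded_52_1 (flp_h L697828) (flp_j L697781) L717299
theorem L717310 : sm gd N52967 = N52296 := ded_38_1 (flp_h L710915) L689731 (flp_h L676523) (flp_d L697776) L717299
theorem L717312 : sm gh N51084 = N52968 := rfl
theorem L717314 : sm ga N52968 = N51780 := ded_17_1 (flp_h L705691) (flp_a L697785) L717312
theorem L717316 : sm gb N52968 = N51798 := ded_25_1 (flp_h L705896) (flp_b L697787) L717312
theorem L717318 : sm gc N52968 = N51087 := ded_32_1 (flp_h L697828) (flp_c L697789) L717312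
theorem L717320 : sm ge N52968 = N51768 := ded_43_1 (flp_h L705585) (flp_e L697792) L717312
theorem L717322 : sm gg N52968 = N51088 := ded_50_1 (flp_h L697838) (flp_g L697794) L717312
theorem L717324 : sm gi N52968 = N51749 := ded_54_2 (flp_h L705377) (flp_i L684055) (flp_h L676531) L697783 L717312
theorem L717326 : sm gi N51085 = N52969 := rfl
theorem L717328 : sm ga N52969 = N51745 := ded_18_1 (flp_i L705342) (flp_a L697798) L717326
theorem L717330 : sm gb N52969 = N51119 := ded_26_1 (flp_i L698247) (flp_b L697800) L717326
theorem L717332 : sm gc N52969 = N51766 := ded_33_1 (flp_i L705564) (flp_c L697802) L717326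
theorem L717334 : sm gd N52969 = N51090 := ded_39_1 (flp_i L697868) (flp_d L697804) L717326
theorem L717336 : sm gf N52969 = N51086 := ded_48_1 (flp_i L697812) L697796 L717326
theorem L717338 : sm gg N52969 = N51697 := ded_51_1 (flp_i L704802) (flp_g L697810) L717326
theorem L717340 : sm gj N52969 = N52477 := ded_53_1 (flp_i L712263) (flp_j L697806) L717326
theorem L717342 : sm gh N51086 = N52970 := rfl
theorem L717344 : sm ga N52970 = N51749 := ded_17_1 (flp_h L705377) (flp_a L697814) L717342
theorem L717346 : sm gb N52970 = N51120 := ded_25_1 (flp_h L698259) (flp_b L697816) L717342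
theorem L717348 : sm gc N52970 = N51768 := ded_32_1 (flp_h L705585) (flp_c L697818) L717342
theorem L717350 : sm ge N52970 = N51087 := ded_43_1 (flp_h L697828) (flp_e L697822) L717342
theorem L717352 : sm gg N52970 = N51089 := ded_50_1 (flp_h L697853) (flp_g L697824) L717342
theorem L717354 : sm gj N52970 = N52722 := ded_52_1 (flp_h L714087) (flp_j L697826) L717342
theorem L717356 : sm gi N52970 = N51780 := ded_54_2 (flp_h L705691) (flp_i L684455) (flp_h L676550) L697812 L717342
theorem L717358 : sm gd N51088 = N52971 := rfl
theorem L717360 : sm ga N52971 = N51781 := ded_12_1 (flp_d L705697) (flp_a L697840) L717358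
theorem L717362 : sm gb N52971 = N51799 := ded_20_1 (flp_d L705908) (flp_b L697842) L717358
theorem L717364 : sm gf N52971 = N51720 := ded_35_2 (flp_d L705048) (flp_f L697848) L717358
theorem L717366 : sm gj N52971 = N52971 := ded_37_2 (flp_d L717358) L697850 L717358
theorem L717367 : sm gi N52971 = N51750 := ded_39_2 (flp_d L705385) (flp_i L697851) L717358
theorem L717369 : sm gc N52971 = N52295 := ded_27_1 (flp_d L710909) L689713 (flp_d L676602) (flp_c L697844) L717358
theorem L717371 : sm ge N52971 = N52542 := ded_34_2 (flp_d L712750) L691995 (flp_d L684382) (flp_e L697846) L717358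
theorem L717373 : sm gh N52971 = N52971 := ded_38_2 (flp_d L717358) (flp_h L697838) L676572 L697838 L717358
theorem L717374 : sm gd N51089 = N52972 := rfl
theorem L717376 : sm ga N52972 = N51750 := ded_12_1 (flp_d L705385) (flp_a L697855) L717374
theorem L717378 : sm gb N52972 = N51125 := ded_20_1 (flp_d L698330) (flp_b L697857) L717374
theorem L717380 : sm gf N52972 = N51699 := ded_35_2 (flp_d L704824) (flp_f L697863) L717374
theorem L717382 : sm gj N52972 = N52972 := ded_37_2 (flp_d L717374) L697865 L717374
theorem L717383 : sm gi N52972 = N51781 := ded_39_2 (flp_d L705697) (flp_i L697866) L717374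
theorem L717385 : sm gc N52972 = N52120 := ded_27_1 (flp_d L709217) L688131 (flp_d L684382) (flp_c L697859) L717374
theorem L717387 : sm ge N52972 = N51216 := ded_34_2 (flp_d L699384) L677800 (flp_d L676602) (flp_e L697861) L717374
theorem L717389 : sm gh N52972 = N51092 := ded_38_2 (flp_d L697899) (flp_h L676666) (flp_d L676586) L697853 L717374
theorem L717391 : sm gh N51090 = N52973 := rfl
theorem L717393 : sm ga N52973 = N51756 := ded_17_1 (flp_h L705449) (flp_a L697870) L717391
theorem L717395 : sm gb N52973 = N51128 := ded_25_1 (flp_h L698370) (flp_b L697872) L717391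
theorem L717397 : sm gc N52973 = N52131 := ded_32_1 L709339 (flp_c L697874) L717391
theorem L717399 : sm ge N52973 = N52474 := ded_43_1 (flp_h L712236) (flp_e L697876) L717391
theorem L717401 : sm gf N52973 = N51091 := ded_47_1 (flp_h L697884) (flp_f L697878) L717391
theorem L717403 : sm gg N52973 = N51701 := ded_50_1 (flp_h L704847) (flp_g L697880) L717391
theorem L717405 : sm gj N52973 = N52478 := ded_52_1 (flp_h L712271) (flp_j L697882) L717391
theorem L717407 : sm gi N52973 = N52973 := ded_54_2 (flp_h L717391) (flp_i L697868) L676614 L697868 L717391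
theorem L717408 : sm gd N51091 = N52974 := rfl
theorem L717410 : sm ga N52974 = N51760 := ded_12_1 (flp_d L705488) (flp_a L697886) L717408
theorem L717412 : sm gb N52974 = N51129 := ded_20_1 (flp_d L698383) (flp_b L697888) L717408
theorem L717414 : sm gg N52974 = N51092 := ded_36_2 (flp_d L697899) (flp_g L697894) L717408
theorem L717416 : sm gj N52974 = N52723 := ded_37_2 (flp_d L714092) (flp_j L697896) L717408
theorem L717418 : sm gi N52974 = N52974 := ded_39_2 (flp_d L717408) L697898 L717408
theorem L717419 : sm gc N52974 = N52128 := ded_27_1 (flp_d L709302) L688224 L688328 (flp_c L697890) L717408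
theorem L717421 : sm ge N52974 = N51227 := ded_34_2 (flp_d L699497) L677894 (flp_d L676647) (flp_e L697892) L717408
theorem L717423 : sm ge N51093 = N52975 := rfl
theorem L717425 : sm ga N52975 = N51139 := ded_13_1 (flp_e L698515) (flp_a L697915) L717423
theorem L717427 : sm gb N52975 = N52499 := ded_21_1 (flp_e L712421) (flp_b L697917) L717423
theorem L717429 : sm gc N52975 = N52255 := ded_28_1 L710553 L697924 L717423
theorem L717431 : sm gg N52975 = N52100 := ded_41_2 (flp_e L708982) (flp_g L697920) L717423
theorem L717433 : sm gh N52975 = N52070 := ded_43_2 L708700 (flp_h L697922) L717423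
theorem L717435 : sm gd N52975 = N51098 := ded_34_1 (flp_e L697978) (flp_d L676701) (flp_e L676687) L697913 L717423
theorem L717437 : sm gi N51093 = N52976 := rfl
theorem L717439 : sm ga N52976 = N51140 := ded_18_1 (flp_i L698525) (flp_a L697915) L717437
theorem L717441 : sm gb N52976 = N52500 := ded_26_1 (flp_i L712427) (flp_b L697917) L717437
theorem L717443 : sm gc N52976 = N52308 := ded_33_1 (flp_i L711010) L697924 L717437
theorem L717445 : sm gd N52976 = N51094 := ded_39_1 (flp_i L697926) L697913 L717437
theorem L717447 : sm gf N52976 = N52976 := ded_48_1 (flp_i L717437) L697919 L717437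
theorem L717448 : sm gg N52976 = N52101 := ded_51_1 (flp_i L708996) (flp_g L697920) L717437
theorem L717450 : sm ge N51095 = N52977 := rfl
theorem L717452 : sm ga N52977 = N51144 := ded_13_1 (flp_e L698568) (flp_a L697942) L717450
theorem L717454 : sm gc N52977 = N52657 := ded_28_1 L713620 L697950 L717450
theorem L717456 : sm gj N52977 = N51098 := ded_42_2 (flp_e L697978) (flp_j L697946) L717450
theorem L717458 : sm gh N52977 = N51109 := ded_43_2 (flp_e L698120) (flp_h L697948) L717450
theorem L717460 : sm gf N52977 = N52442 := ded_40_2 L712031 L691414 L676733 (flp_f L697944) L717450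
theorem L717462 : sm gi N51095 = N52978 := rfl
theorem L717464 : sm ga N52978 = N51145 := ded_18_1 (flp_i L698576) (flp_a L697942) L717462
theorem L717466 : sm gc N52978 = N52745 := ded_33_1 (flp_i L714287) L697950 L717462
theorem L717468 : sm gd N52978 = N51096 := ded_39_1 (flp_i L697952) L697940 L717462
theorem L717470 : sm gf N52978 = N51100 := ded_48_1 (flp_i L697996) (flp_f L697944) L717462
theorem L717472 : sm gj N52978 = N51099 := ded_53_1 (flp_i L697986) (flp_j L697946) L717462
theorem L717474 : sm ge N51097 = N52979 := rfl
theorem L717476 : sm ga N52979 = N51147 := ded_13_1 (flp_e L698599) (flp_a L697965) L717474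
theorem L717478 : sm gb N52979 = N51811 := ded_21_1 L706040 (flp_b L697975) L717474
theorem L717480 : sm gc N52979 = N51098 := ded_28_1 (flp_e L697978) L697963 L717474
theorem L717482 : sm gg N52979 = N52138 := ded_41_2 (flp_e L709415) (flp_g L697969) L717474
theorem L717484 : sm gj N52979 = N52657 := ded_42_2 L713620 (flp_j L697971) L717474
theorem L717486 : sm gh N52979 = N51111 := ded_43_2 (flp_e L698144) (flp_h L697973) L717474
theorem L717488 : sm gf N52979 = N51808 := ded_40_2 (flp_e L706002) L684691 L676759 (flp_f L697967) L717474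
theorem L717490 : sm gi N51097 = N52980 := rfl
theorem L717492 : sm ga N52980 = N51148 := ded_18_1 (flp_i L698607) (flp_a L697965) L717490
theorem L717494 : sm gb N52980 = N51823 := ded_26_1 (flp_i L706162) (flp_b L697975) L717490
theorem L717496 : sm gc N52980 = N51099 := ded_33_1 (flp_i L697986) L697963 L717490
theorem L717498 : sm gd N52980 = N52980 := ded_39_1 (flp_i L717490) L697977 L717490
theorem L717499 : sm gf N52980 = N51101 := ded_48_1 (flp_i L698009) (flp_f L697967) L717490
theorem L717501 : sm gg N52980 = N52139 := ded_51_1 (flp_i L709423) (flp_g L697969) L717490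
theorem L717503 : sm gj N52980 = N52745 := ded_53_1 (flp_i L714287) (flp_j L697971) L717490
theorem L717505 : sm gf N51098 = N52981 := rfl
theorem L717507 : sm ga N52981 = N51149 := ded_14_1 (flp_f L698616) (flp_a L697980) L717505
theorem L717509 : sm gb N52981 = N51774 := ded_22_1 (flp_f L717105) L717095 L717505
theorem L717511 : sm gc N52981 = N51808 := ded_29_1 (flp_f L717488) L717480 L717505
theorem L717513 : sm gj N52981 = N52442 := ded_46_2 (flp_f L717460) L717456 L717505
theorem L717515 : sm gh N52981 = N51113 := ded_47_2 (flp_f L698176) (flp_h L697984) L717505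
theorem L717517 : sm ge N52981 = N51102 := ded_40_1 (flp_f L698024) (flp_e L676761) (flp_f L676705) L697978 L717505
theorem L717519 : sm gg N52981 = N52522 := ded_45_2 (flp_f L712600) (flp_g L705148) L705156 (flp_g L697982) L717505
theorem L717521 : sm gi N51098 = N52982 := rfl
theorem L717523 : sm ga N52982 = N51150 := ded_18_1 (flp_i L698624) (flp_a L697980) L717521
theorem L717525 : sm ge N52982 = N51099 := ded_44_1 (flp_i L697986) L697978 L717521
theorem L717527 : sm gg N52982 = N52140 := ded_51_1 (flp_i L709432) (flp_g L697982) L717521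
theorem L717529 : sm gh N51099 = N52983 := rfl
theorem L717531 : sm ga N52983 = N51151 := ded_17_1 (flp_h L698632) (flp_a L697988) L717529
theorem L717533 : sm gf N52983 = N51104 := ded_47_1 (flp_h L698054) (flp_f L697992) L717529
theorem L717535 : sm gg N52983 = N52141 := ded_50_1 (flp_h L709438) (flp_g L697994) L717529
theorem L717537 : sm gd N52983 = N52624 := ded_38_1 (flp_h L713369) L692723 (flp_h L676720) (flp_d L697990) L717529
theorem L717539 : sm gi N52983 = N51115 := ded_54_2 (flp_h L698196) (flp_i L676880) (flp_h L676709) L697986 L717529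
theorem L717541 : sm gh N51100 = N52984 := rfl
theorem L717543 : sm ga N52984 = N51156 := ded_17_1 (flp_h L698695) (flp_a L697998) L717541
theorem L717545 : sm gc N52984 = N52747 := ded_32_1 (flp_h L714296) (flp_c L698000) L717541
theorem L717547 : sm ge N52984 = N52724 := ded_43_1 (flp_h L714098) (flp_e L698004) L717541
theorem L717549 : sm gg N52984 = N52984 := ded_50_1 (flp_h L717541) L698006 L717541
theorem L717550 : sm gj N52984 = N51104 := ded_52_1 (flp_h L698054) (flp_j L698007) L717541
theorem L717552 : sm gd N52984 = N52629 := ded_38_1 (flp_h L713409) L692783 (flp_h L676744) (flp_d L698002) L717541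
theorem L717554 : sm gi N52984 = N51116 := ded_54_2 (flp_h L698206) (flp_i L676890) (flp_h L676729) L697996 L717541
theorem L717556 : sm gh N51101 = N52985 := rfl
theorem L717558 : sm ga N52985 = N51160 := ded_17_1 (flp_h L698749) (flp_a L698011) L717556
theorem L717560 : sm gb N52985 = N51824 := ded_25_1 (flp_h L706171) (flp_b L698013) L717556
theorem L717562 : sm gc N52985 = N51104 := ded_32_1 (flp_h L698054) (flp_c L698015) L717556
theorem L717564 : sm ge N52985 = N51822 := ded_43_1 (flp_h L706150) (flp_e L698018) L717556
theorem L717566 : sm gg N52985 = N51105 := ded_50_1 (flp_h L698064) (flp_g L698020) L717556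
theorem L717568 : sm gj N52985 = N52747 := ded_52_1 (flp_h L714296) (flp_j L698022) L717556
theorem L717570 : sm gi N52985 = N51117 := ded_54_2 (flp_h L698219) (flp_i L676903) (flp_h L676754) L698009 L717556
theorem L717572 : sm gi N51102 = N52986 := rfl
theorem L717574 : sm ga N52986 = N51162 := ded_18_1 (flp_i L698770) (flp_a L698026) L717572
theorem L717576 : sm gb N52986 = N51775 := ded_26_1 (flp_i L705649) (flp_b L698028) L717572
theorem L717578 : sm gc N52986 = N51809 := ded_33_1 (flp_i L706012) (flp_c L698030) L717572
theorem L717580 : sm gd N52986 = N52986 := ded_39_1 (flp_i L717572) L698032 L717572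
theorem L717581 : sm gf N52986 = N51103 := ded_48_1 (flp_i L698039) L698024 L717572
theorem L717583 : sm gg N52986 = N52538 := ded_51_1 (flp_i L712720) (flp_g L698037) L717572
theorem L717585 : sm gj N52986 = N52480 := ded_53_1 (flp_i L712289) (flp_j L698033) L717572
theorem L717587 : sm gh N51103 = N52987 := rfl
theorem L717589 : sm ga N52987 = N51163 := ded_17_1 (flp_h L698777) (flp_a L698041) L717587
theorem L717591 : sm gb N52987 = N51780 := ded_25_1 (flp_h L705691) (flp_b L698043) L717587
theorem L717593 : sm gc N52987 = N51822 := ded_32_1 (flp_h L706150) (flp_c L698045) L717587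
theorem L717595 : sm ge N52987 = N51104 := ded_43_1 (flp_h L698054) (flp_e L698048) L717587
theorem L717597 : sm gg N52987 = N51106 := ded_50_1 (flp_h L698079) (flp_g L698050) L717587
theorem L717599 : sm gj N52987 = N52724 := ded_52_1 (flp_h L714098) (flp_j L698052) L717587
theorem L717601 : sm gi N52987 = N51120 := ded_54_2 (flp_h L698259) (flp_i L676929) (flp_h L676773) L698039 L717587
theorem L717603 : sm gd N51105 = N52988 := rfl
theorem L717605 : sm ga N52988 = N51166 := ded_12_1 (flp_d L698819) (flp_a L698066) L717603
theorem L717607 : sm gb N52988 = N51827 := ded_20_1 (flp_d L706197) (flp_b L698068) L717603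
theorem L717609 : sm gf N52988 = N52145 := ded_35_2 (flp_d L709485) (flp_f L698074) L717603
theorem L717611 : sm gj N52988 = N52988 := ded_37_2 (flp_d L717603) L698076 L717603
theorem L717612 : sm gi N52988 = N51121 := ded_39_2 (flp_d L698271) (flp_i L698077) L717603
theorem L717614 : sm gc N52988 = N52628 := ded_27_1 (flp_d L713401) L692768 (flp_d L676819) (flp_c L698070) L717603
theorem L717616 : sm ge N52988 = N52625 := ded_34_2 (flp_d L713377) L692746 (flp_d L684861) (flp_e L698072) L717603
theorem L717618 : sm gh N52988 = N52988 := ded_38_2 (flp_d L717603) (flp_h L698064) L676792 L698064 L717603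
theorem L717619 : sm gd N51106 = N52989 := rfl
theorem L717621 : sm ga N52989 = N51170 := ded_12_1 (flp_d L698869) (flp_a L698081) L717619
theorem L717623 : sm gb N52989 = N51781 := ded_20_1 (flp_d L705697) (flp_b L698083) L717619
theorem L717625 : sm gf N52989 = N52542 := ded_35_2 (flp_d L712750) (flp_f L698089) L717619
theorem L717627 : sm gj N52989 = N52989 := ded_37_2 (flp_d L717619) L698091 L717619
theorem L717628 : sm gi N52989 = N51125 := ded_39_2 (flp_d L698330) (flp_i L698092) L717619
theorem L717630 : sm gc N52989 = N52232 := ded_27_1 (flp_d L710364) L689260 (flp_d L684861) (flp_c L698085) L717619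
theorem L717632 : sm ge N52989 = N51895 := ded_34_2 (flp_d L706884) L685416 (flp_d L676819) (flp_e L698087) L717619
theorem L717634 : sm gh N52989 = N52989 := ded_38_2 (flp_d L717619) (flp_h L698079) L676806 L698079 L717619
theorem L717635 : sm ge N51107 = N52990 := rfl
theorem L717637 : sm ga N52990 = N51171 := ded_13_1 (flp_e L698877) (flp_a L698096) L717635
theorem L717639 : sm gc N52990 = N52656 := ded_28_1 L713616 (flp_c L698103) L717635
theorem L717641 : sm gg N52990 = N51109 := ded_41_2 (flp_e L698120) (flp_g L698099) L717635
theorem L717643 : sm gj N52990 = N52147 := ded_42_2 (flp_e L709506) (flp_j L698101) L717635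
theorem L717645 : sm gd N52990 = N52444 := ded_34_1 L712045 L691219 (flp_e L676829) L698094 L717635
theorem L717647 : sm gi N51107 = N52991 := rfl
theorem L717649 : sm ga N52991 = N51172 := ded_18_1 (flp_i L698885) (flp_a L698096) L717647
theorem L717651 : sm gc N52991 = N52744 := ded_33_1 (flp_i L714280) (flp_c L698103) L717647
theorem L717653 : sm gd N52991 = N51108 := ded_39_1 (flp_i L698105) L698094 L717647
theorem L717655 : sm gf N52991 = N52991 := ded_48_1 (flp_i L717647) L698098 L717647
theorem L717656 : sm gg N52991 = N51110 := ded_51_1 (flp_i L698132) (flp_g L698099) L717647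
theorem L717658 : sm gj N52991 = N52148 := ded_53_1 (flp_i L709512) (flp_j L698101) L717647
theorem L717660 : sm gi N51109 = N52992 := rfl
theorem L717662 : sm ga N52992 = N51177 := ded_18_1 (flp_i L698944) (flp_a L698122) L717660
theorem L717664 : sm gc N52992 = N52658 := ded_33_1 (flp_i L713624) (flp_c L698124) L717660
theorem L717666 : sm gd N52992 = N52445 := ded_39_1 (flp_i L712047) (flp_d L698128) L717660
theorem L717668 : sm ge N52992 = N51110 := ded_44_1 (flp_i L698132) L698120 L717660
theorem L717670 : sm gf N52992 = N52443 := ded_48_1 (flp_i L712033) (flp_f L698130) L717660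
theorem L717672 : sm gj N52992 = N51114 := ded_53_1 (flp_i L698188) (flp_j L698126) L717660
theorem L717674 : sm gh N51110 = N52993 := rfl
theorem L717676 : sm ga N52993 = N51178 := ded_17_1 (flp_h L698952) (flp_a L698134) L717674
theorem L717678 : sm gc N52993 = N52746 := ded_32_1 (flp_h L714292) (flp_c L698136) L717674
theorem L717680 : sm gf N52993 = N51116 := ded_47_1 (flp_h L698206) (flp_f L698140) L717674
theorem L717682 : sm gj N52993 = N51115 := ded_52_1 (flp_h L698196) (flp_j L698142) L717674
theorem L717684 : sm gd N52993 = N52690 := ded_38_1 (flp_h L713847) L693177 (flp_h L676858) (flp_d L698138) L717674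
theorem L717686 : sm gi N51111 = N52994 := rfl
theorem L717688 : sm ga N52994 = N51184 := ded_18_1 (flp_i L699020) (flp_a L698146) L717686
theorem L717690 : sm gb N52994 = N52698 := ded_26_1 L713907 (flp_b L698148) L717686
theorem L717692 : sm gc N52994 = N51114 := ded_33_1 (flp_i L698188) (flp_c L698150) L717686
theorem L717694 : sm gd N52994 = N52640 := ded_39_1 (flp_i L713492) (flp_d L698156) L717686
theorem L717696 : sm ge N52994 = N51112 := ded_44_1 (flp_i L698160) L698144 L717686
theorem L717698 : sm gf N52994 = N52639 := ded_48_1 (flp_i L713482) (flp_f L698158) L717686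
theorem L717700 : sm gg N52994 = N52159 := ded_51_1 (flp_i L709615) (flp_g L698152) L717686
theorem L717702 : sm gj N52994 = N52658 := ded_53_1 (flp_i L713624) (flp_j L698154) L717686
theorem L717704 : sm gh N51112 = N52995 := rfl
theorem L717706 : sm ga N52995 = N51185 := ded_17_1 (flp_h L699028) (flp_a L698162) L717704
theorem L717708 : sm gb N52995 = N52689 := ded_25_1 L713845 (flp_b L698164) L717704
theorem L717710 : sm gc N52995 = N51115 := ded_32_1 (flp_h L698196) (flp_c L698166) L717704
theorem L717712 : sm gf N52995 = N51117 := ded_47_1 (flp_h L698219) (flp_f L698170) L717704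
theorem L717714 : sm gg N52995 = N52160 := ded_50_1 (flp_h L709623) (flp_g L698172) L717704
theorem L717716 : sm gj N52995 = N52746 := ded_52_1 (flp_h L714292) (flp_j L698174) L717704
theorem L717718 : sm gg N51113 = N52996 := rfl
theorem L717720 : sm ga N52996 = N51186 := ded_15_1 (flp_g L699036) (flp_a L698178) L717718
theorem L717722 : sm gb N52996 = N51692 := ded_23_1 (flp_g L717261) L717249 L717718
theorem L717724 : sm gc N52996 = N52027 := ded_30_1 L708178 (flp_c L698180) L717718
theorem L717726 : sm gd N52996 = N52426 := ded_36_1 L711927 (flp_d L698182) L717718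
theorem L717728 : sm ge N52996 = N51118 := ded_41_1 (flp_g L698233) (flp_e L698186) L717718
theorem L717730 : sm gh N52996 = N52522 := ded_50_2 (flp_g L717519) L717515 L717718
theorem L717732 : sm gf N52996 = N51681 := ded_45_1 L704613 (flp_f L688571) (flp_g L676878) L698176 L717718
theorem L717734 : sm gi N51113 = N52997 := rfl
theorem L717736 : sm ga N52997 = N51187 := ded_18_1 (flp_i L699044) (flp_a L698178) L717734
theorem L717738 : sm gc N52997 = N52639 := ded_33_1 (flp_i L713482) (flp_c L698180) L717734
theorem L717740 : sm gd N52997 = N52433 := ded_39_1 (flp_i L711969) (flp_d L698182) L717734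
theorem L717742 : sm ge N52997 = N51119 := ded_44_1 (flp_i L698247) (flp_e L698186) L717734
theorem L717744 : sm gf N52997 = N51114 := ded_48_1 (flp_i L698188) L698176 L717734
theorem L717746 : sm gj N52997 = N52443 := ded_53_1 (flp_i L712033) (flp_j L698184) L717734
theorem L717748 : sm gh N51114 = N52998 := rfl
theorem L717750 : sm ga N52998 = N51188 := ded_17_1 (flp_h L699052) (flp_a L698190) L717748
theorem L717752 : sm ge N52998 = N51115 := ded_43_1 (flp_h L698196) (flp_e L698192) L717748
theorem L717754 : sm gg N52998 = N52162 := ded_50_1 (flp_h L709641) (flp_g L698194) L717748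
theorem L717756 : sm gd N51117 = N52999 := rfl
theorem L717758 : sm ga N52999 = N51202 := ded_12_1 (flp_d L699231) (flp_a L698221) L717756
theorem L717760 : sm gb N52999 = N52688 := ded_20_1 L713841 (flp_b L698223) L717756
theorem L717762 : sm gg N52999 = N51121 := ded_36_2 (flp_d L698271) (flp_g L698229) L717756
theorem L717764 : sm gj N52999 = N52748 := ded_37_2 (flp_d L714303) (flp_j L698231) L717756
theorem L717766 : sm gc N52999 = N52696 := ded_27_1 (flp_d L713893) L693238 (flp_d L676949) (flp_c L698225) L717756
theorem L717768 : sm ge N52999 = N52684 := ded_34_2 (flp_d L713803) L693125 L693129 (flp_e L698227) L717756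
theorem L717770 : sm gh N52999 = N51135 := ded_38_2 (flp_d L698467) (flp_h L677158) (flp_d L676911) L698219 L717756
theorem L717772 : sm gj N51118 = N53000 := rfl
theorem L717774 : sm ga N53000 = N51203 := ded_16_1 (flp_j L699237) (flp_a L698235) L717772
theorem L717776 : sm gb N53000 = N51469 := ded_24_1 L702461 (flp_b L698237) L717772
theorem L717778 : sm gc N53000 = N51982 := ded_31_1 L707613 (flp_c L698239) L717772
theorem L717780 : sm gd N53000 = N51126 := ded_37_1 (flp_j L698341) (flp_d L698241) L717772
theorem L717782 : sm gf N53000 = N51122 := ded_46_1 (flp_j L698286) (flp_f L698245) L717772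
theorem L717784 : sm gh N53000 = N52531 := ded_52_2 L712664 (flp_h L698243) L717772
theorem L717786 : sm gg N53000 = N51653 := ded_49_1 L704282 L683024 (flp_j L676927) L698233 L717772
theorem L717788 : sm gi N51118 = N53001 := rfl
theorem L717790 : sm ga N53001 = N51204 := ded_18_1 (flp_i L699245) (flp_a L698235) L717788
theorem L717792 : sm gb N53001 = N51697 := ded_26_1 (flp_i L704802) (flp_b L698237) L717788
theorem L717794 : sm gc N53001 = N51993 := ded_33_1 L707761 (flp_c L698239) L717788
theorem L717796 : sm gd N53001 = N51127 := ded_39_1 (flp_i L698356) (flp_d L698241) L717788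
theorem L717798 : sm gf N53001 = N51123 := ded_48_1 (flp_i L698301) (flp_f L698245) L717788
theorem L717800 : sm gg N53001 = N51119 := ded_51_1 (flp_i L698247) L698233 L717788
theorem L717802 : sm gh N51119 = N53002 := rfl
theorem L717804 : sm ga N53002 = N51205 := ded_17_1 (flp_h L699255) (flp_a L698249) L717802
theorem L717806 : sm gc N53002 = N52655 := ded_32_1 L713610 (flp_c L698251) L717802
theorem L717808 : sm gf N53002 = N51120 := ded_47_1 (flp_h L698259) (flp_f L698255) L717802
theorem L717810 : sm gj N53002 = N52481 := ded_52_1 (flp_h L712296) (flp_j L698257) L717802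
theorem L717812 : sm gd N51120 = N53003 := rfl
theorem L717814 : sm ga N53003 = N51206 := ded_12_1 (flp_d L699261) (flp_a L698261) L717812
theorem L717816 : sm gg N53003 = N51125 := ded_36_2 (flp_d L698330) (flp_g L698267) L717812
theorem L717818 : sm gj N53003 = N52725 := ded_37_2 (flp_d L714105) (flp_j L698269) L717812
theorem L717820 : sm gc N53003 = N52280 := ded_27_1 (flp_d L710773) L689578 L693129 (flp_c L698263) L717812
theorem L717822 : sm ge N53003 = N51966 := ded_34_2 (flp_d L707470) L685829 (flp_d L676949) (flp_e L698265) L717812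
theorem L717824 : sm gh N53003 = N51129 := ded_38_2 (flp_d L698383) (flp_h L677027) (flp_d L676935) L698259 L717812
theorem L717826 : sm gi N51122 = N53004 := rfl
theorem L717828 : sm ga N53004 = N51214 := ded_18_1 (flp_i L699365) (flp_a L698288) L717826
theorem L717830 : sm gb N53004 = N51695 := ded_26_1 (flp_i L704776) (flp_b L698290) L717826
theorem L717832 : sm gc N53004 = N52000 := ded_33_1 L707830 (flp_c L698292) L717826
theorem L717834 : sm gd N53004 = N51130 := ded_39_1 (flp_i L698396) (flp_d L698294) L717826
theorem L717836 : sm ge N53004 = N51684 := ded_44_1 (flp_i L704643) (flp_e L698296) L717826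
theorem L717838 : sm gg N53004 = N53004 := ded_51_1 (flp_i L717826) L698300 L717826
theorem L717839 : sm gj N53004 = N51123 := ded_53_1 (flp_i L698301) L698286 L717826
theorem L717841 : sm gh N51123 = N53005 := rfl
theorem L717843 : sm ga N53005 = N51215 := ded_17_1 (flp_h L699376) (flp_a L698303) L717841
theorem L717845 : sm gb N53005 = N51698 := ded_25_1 (flp_h L704812) (flp_b L698305) L717841
theorem L717847 : sm gc N53005 = N51946 := ded_32_1 L707302 (flp_c L698307) L717841
theorem L717849 : sm ge N53005 = N51686 := ded_43_1 (flp_h L704667) (flp_e L698311) L717841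
theorem L717851 : sm gg N53005 = N51124 := ded_50_1 (flp_h L698315) (flp_g L698313) L717841
theorem L717853 : sm gi N53005 = N52539 := ded_54_2 (flp_h L712729) (flp_i L691951) (flp_h L676976) L698301 L717841
theorem L717855 : sm gd N51124 = N53006 := rfl
theorem L717857 : sm ga N53006 = N51216 := ded_12_1 (flp_d L699384) (flp_a L698317) L717855
theorem L717859 : sm gb N53006 = N51699 := ded_20_1 (flp_d L704824) (flp_b L698319) L717855
theorem L717861 : sm gf N53006 = N51125 := ded_35_2 (flp_d L698330) (flp_f L698325) L717855
theorem L717863 : sm gj N53006 = N53006 := ded_37_2 (flp_d L717855) L698327 L717855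
theorem L717864 : sm gi N53006 = N52542 := ded_39_2 (flp_d L712750) (flp_i L698328) L717855
theorem L717866 : sm gc N53006 = N51209 := ded_27_1 (flp_d L699301) L677725 L685766 (flp_c L698321) L717855
theorem L717868 : sm ge N53006 = N51750 := ded_34_2 (flp_d L705385) L684069 (flp_d L683457) (flp_e L698323) L717855
theorem L717870 : sm gh N53006 = N51132 := ded_38_2 (flp_d L698422) (flp_h L677064) (flp_d L676986) L698315 L717855
theorem L717872 : sm gi N51126 = N53007 := rfl
theorem L717874 : sm ga N53007 = N51222 := ded_18_1 (flp_i L699454) (flp_a L698343) L717872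
theorem L717876 : sm gb N53007 = N51470 := ded_26_1 (flp_i L702467) (flp_b L698345) L717872
theorem L717878 : sm gc N53007 = N51478 := ded_33_1 (flp_i L702562) (flp_c L698347) L717872
theorem L717880 : sm ge N53007 = N51468 := ded_44_1 (flp_i L702441) (flp_e L698349) L717872
theorem L717882 : sm gf N53007 = N51130 := ded_48_1 (flp_i L698396) (flp_f L698351) L717872
theorem L717884 : sm gg N53007 = N51654 := ded_51_1 (flp_i L704286) (flp_g L698354) L717872
theorem L717886 : sm gj N53007 = N51127 := ded_53_1 (flp_i L698356) L698341 L717872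
theorem L717888 : sm gh N51127 = N53008 := rfl
theorem L717890 : sm ga N53008 = N51223 := ded_17_1 (flp_h L699462) (flp_a L698358) L717888
theorem L717892 : sm gb N53008 = N51701 := ded_25_1 (flp_h L704847) (flp_b L698360) L717888
theorem L717894 : sm gc N53008 = N51256 := ded_32_1 L699864 (flp_c L698362) L717888
theorem L717896 : sm ge N53008 = N52473 := ded_43_1 (flp_h L712227) (flp_e L698364) L717888
theorem L717898 : sm gf N53008 = N51131 := ded_47_1 (flp_h L698409) (flp_f L698366) L717888
theorem L717900 : sm gg N53008 = N51128 := ded_50_1 (flp_h L698370) (flp_g L698368) L717888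
theorem L717902 : sm gi N53008 = N53008 := ded_54_2 (flp_h L717888) (flp_i L698356) L677012 L698356 L717888
theorem L717903 : sm gd N51128 = N53009 := rfl
theorem L717905 : sm ga N53009 = N51224 := ded_12_1 (flp_d L699471) (flp_a L698372) L717903
theorem L717907 : sm gf N53009 = N51129 := ded_35_2 (flp_d L698383) (flp_f L698378) L717903
theorem L717909 : sm gj N53009 = N52482 := ded_37_2 (flp_d L712302) (flp_j L698380) L717903
theorem L717911 : sm gi N53009 = N53009 := ded_39_2 (flp_d L717903) L698382 L717903
theorem L717912 : sm gc N53009 = N52307 := ded_27_1 (flp_d L711003) L689837 L689954 (flp_c L698374) L717903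
theorem L717914 : sm gh N51130 = N53010 := rfl
theorem L717916 : sm ga N53010 = N51226 := ded_17_1 (flp_h L699487) (flp_a L698398) L717914
theorem L717918 : sm gb N53010 = N51700 := ded_25_1 (flp_h L704835) (flp_b L698400) L717914
theorem L717920 : sm gc N53010 = N51258 := ded_32_1 L699883 (flp_c L698402) L717914
theorem L717922 : sm ge N53010 = N51133 := ded_43_1 (flp_h L698436) (flp_e L698404) L717914
theorem L717924 : sm gg N53010 = N53010 := ded_50_1 (flp_h L717914) L698406 L717914
theorem L717925 : sm gj N53010 = N51131 := ded_52_1 (flp_h L698409) (flp_j L698407) L717914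
theorem L717927 : sm gi N53010 = N53010 := ded_54_2 (flp_h L717914) (flp_i L698396) L677050 L698396 L717914
theorem L717928 : sm gd N51131 = N53011 := rfl
theorem L717930 : sm ga N53011 = N51227 := ded_12_1 (flp_d L699497) (flp_a L698411) L717928
theorem L717932 : sm gb N53011 = N51702 := ded_20_1 (flp_d L704854) (flp_b L698413) L717928
theorem L717934 : sm gg N53011 = N51132 := ded_36_2 (flp_d L698422) (flp_g L698419) L717928
theorem L717936 : sm gi N53011 = N53011 := ded_39_2 (flp_d L717928) L698421 L717928
theorem L717937 : sm gc N53011 = N51246 := ded_27_1 (flp_d L699729) L678100 L678289 (flp_c L698415) L717928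
theorem L717939 : sm ge N53011 = N51760 := ded_34_2 (flp_d L705488) L684159 (flp_d L677107) (flp_e L698417) L717928
theorem L717941 : sm gd N51134 = N53012 := rfl
theorem L717943 : sm ga N53012 = N51241 := ded_12_1 (flp_d L699676) (flp_a L698452) L717941
theorem L717945 : sm gb N53012 = N52763 := ded_20_1 L714426 (flp_b L698454) L717941
theorem L717947 : sm gf N53012 = N51135 := ded_35_2 (flp_d L698467) (flp_f L698460) L717941
theorem L717949 : sm gg N53012 = N52191 := ded_36_2 (flp_d L709947) (flp_g L698462) L717941
theorem L717951 : sm gj N53012 = N52750 := ded_37_2 (flp_d L714318) (flp_j L698464) L717941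
theorem L717953 : sm gi N53012 = N53012 := ded_39_2 (flp_d L717941) L698466 L717941
theorem L717954 : sm gc N53012 = N52761 := ded_27_1 (flp_d L714414) L694237 (flp_d L677155) (flp_c L698456) L717941
theorem L717956 : sm gc N51136 = N53013 := rfl
theorem L717958 : sm ga N53013 = N52299 := ded_11_1 L716165 L716154 L717956
theorem L717960 : sm gf N53013 = N53013 := ded_29_2 (flp_c L717956) L698486 L717956
theorem L717961 : sm gg N53013 = N52619 := ded_30_2 L713330 (flp_g L698487) L717956
theorem L717963 : sm gj N53013 = N51138 := ded_31_2 (flp_c L698505) (flp_j L698489) L717956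
theorem L717965 : sm gh N53013 = N52181 := ded_32_2 L709845 (flp_h L698491) L717956
theorem L717967 : sm gd N53013 = N53013 := ded_27_2 (flp_c L717956) (flp_d L698482) L677191 L698482 L717956
theorem L717968 : sm ge N51136 = N53014 := rfl
theorem L717970 : sm gb N53014 = N51848 := ded_21_1 (flp_e L706442) (flp_b L698484) L717968
theorem L717972 : sm gg N53014 = N52608 := ded_41_2 L713238 (flp_g L698487) L717968
theorem L717974 : sm gj N53014 = N51139 := ded_42_2 (flp_e L698515) (flp_j L698489) L717968
theorem L717976 : sm gh N53014 = N52643 := ded_43_2 L713522 (flp_h L698491) L717968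
theorem L717978 : sm gd N53014 = N51144 := ded_34_1 (flp_e L698568) (flp_d L677230) (flp_e L677192) L698482 L717968
theorem L717980 : sm gi N51136 = N53015 := rfl
theorem L717982 : sm gb N53015 = N51849 := ded_26_1 (flp_i L706448) (flp_b L698484) L717980
theorem L717984 : sm gd N53015 = N51137 := ded_39_1 (flp_i L698493) L698482 L717980
theorem L717986 : sm gf N53015 = N53015 := ded_48_1 (flp_i L717980) L698486 L717980
theorem L717987 : sm gg N53015 = N52623 := ded_51_1 (flp_i L713361) (flp_g L698487) L717980
theorem L717989 : sm gj N53015 = N51140 := ded_53_1 (flp_i L698525) (flp_j L698489) L717980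
theorem L717991 : sm gb N51138 = N53016 := rfl
theorem L717993 : sm gd N53016 = N53016 := ded_20_2 (flp_b L717991) L698514 L717991
theorem L717994 : sm gf N53016 = N53016 := ded_22_2 (flp_b L717991) L698509 L717991
theorem L717995 : sm gg N53016 = N52199 := ded_23_2 (flp_b L710026) (flp_g L698510) L717991
theorem L717997 : sm gh N53016 = N52186 := ded_25_2 L709899 (flp_h L698512) L717991
theorem L717999 : sm gc N53016 = N51850 := ded_19_2 (flp_b L706455) (flp_c L685113) (flp_b L677201) L698505 L717991
theorem L718001 : sm ge N51138 = N53017 := rfl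
theorem L718003 : sm ga N53017 = N52255 := ded_13_1 L710553 (flp_a L698507) L718001
theorem L718005 : sm gc N53017 = N51139 := ded_28_1 (flp_e L698515) L698505 L718001
theorem L718007 : sm gg N53017 = N52200 := ded_41_2 (flp_e L710037) (flp_g L698510) L718001
theorem L718009 : sm gh N53017 = N52157 := ded_43_2 L709605 (flp_h L698512) L718001
theorem L718011 : sm gi N51138 = N53018 := rfl
theorem L718013 : sm ga N53018 = N52308 := ded_18_1 (flp_i L711010) (flp_a L698507) L718011
theorem L718015 : sm gc N53018 = N51140 := ded_33_1 (flp_i L698525) L698505 L718011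
theorem L718017 : sm gd N53018 = N53018 := ded_39_1 (flp_i L718011) L698514 L718011
theorem L718018 : sm gf N53018 = N53018 := ded_48_1 (flp_i L718011) L698509 L718011
theorem L718019 : sm gg N53018 = N52201 := ded_51_1 (flp_i L710047) (flp_g L698510) L718011
theorem L718021 : sm gf N51139 = N53019 := rfl
theorem L718023 : sm gb N53019 = N51853 := ded_22_1 (flp_f L706477) (flp_b L698517) L718021
theorem L718025 : sm gd N53019 = N51149 := ded_35_1 (flp_f L698616) (flp_d L698523) L718021
theorem L718027 : sm gh N53019 = N52633 := ded_47_2 L713439 (flp_h L698521) L718021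
theorem L718029 : sm ge N53019 = N53019 := ded_40_1 (flp_f L718021) (flp_e L698515) L677203 L698515 L718021
theorem L718030 : sm gg N53019 = N52587 := ded_45_2 (flp_f L713085) L692476 (flp_f L689009) (flp_g L698519) L718021
theorem L718032 : sm gi N51139 = N53020 := rfl
theorem L718034 : sm gb N53020 = N51854 := ded_26_1 (flp_i L706482) (flp_b L698517) L718032
theorem L718036 : sm gd N53020 = N51150 := ded_39_1 (flp_i L698624) (flp_d L698523) L718032
theorem L718038 : sm ge N53020 = N51140 := ded_44_1 (flp_i L698525) L698515 L718032
theorem L718040 : sm gg N53020 = N52202 := ded_51_1 (flp_i L710056) (flp_g L698519) L718032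
theorem L718042 : sm gh N51140 = N53021 := rfl
theorem L718044 : sm gb N53021 = N51855 := ded_25_1 (flp_h L706490) (flp_b L698527) L718042
theorem L718046 : sm gf N53021 = N53021 := ded_47_1 (flp_h L718042) L698531 L718042
theorem L718047 : sm gg N53021 = N52203 := ded_50_1 (flp_h L710068) (flp_g L698532) L718042
theorem L718049 : sm gi N53021 = N52679 := ded_54_2 (flp_h L713766) (flp_i L693070) (flp_h L677206) L698525 L718042
theorem L718051 : sm ge N51141 = N53022 := rfl
theorem L718053 : sm gb N53022 = N51857 := ded_21_1 (flp_e L706508) (flp_b L698536) L718051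
theorem L718055 : sm gg N53022 = N51144 := ded_41_2 (flp_e L698568) (flp_g L698539) L718051
theorem L718057 : sm gj N53022 = N52205 := ded_42_2 (flp_e L710086) (flp_j L698541) L718051
theorem L718059 : sm gh N53022 = N51171 := ded_43_2 (flp_e L698877) (flp_h L698543) L718051
theorem L718061 : sm gd N53022 = N52608 := ded_34_1 L713238 L692715 (flp_e L677223) L698534 L718051
theorem L718063 : sm gi N51141 = N53023 := rfl
theorem L718065 : sm gb N53023 = N51858 := ded_26_1 (flp_i L706516) (flp_b L698536) L718063
theorem L718067 : sm gd N53023 = N51142 := ded_39_1 (flp_i L698545) L698534 L718063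
theorem L718069 : sm gf N53023 = N53023 := ded_48_1 (flp_i L718063) L698538 L718063
theorem L718070 : sm gg N53023 = N51145 := ded_51_1 (flp_i L698576) (flp_g L698539) L718063
theorem L718072 : sm gj N53023 = N52206 := ded_53_1 (flp_i L710096) (flp_j L698541) L718063
theorem L718074 : sm gb N51143 = N53024 := rfl
theorem L718076 : sm gd N53024 = N53024 := ded_20_2 (flp_b L718074) L698567 L718074
theorem L718077 : sm gf N53024 = N51152 := ded_22_2 (flp_b L698642) (flp_f L698561) L718074
theorem L718079 : sm gj N53024 = N51146 := ded_24_2 (flp_b L698586) (flp_j L698563) L718074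
theorem L718081 : sm gh N53024 = N51173 := ded_25_2 (flp_b L698896) (flp_h L698565) L718074
theorem L718083 : sm ga N53024 = N51931 := ded_10_1 L707170 (flp_a L706084) L706086 (flp_a L698559) L718074
theorem L718085 : sm gc N53024 = N51859 := ded_19_2 (flp_b L706525) (flp_c L685151) (flp_b L677232) L698557 L718074
theorem L718087 : sm ge N51143 = N53025 := rfl
theorem L718089 : sm ga N53025 = N52657 := ded_13_1 L713620 (flp_a L698559) L718087
theorem L718091 : sm gc N53025 = N51144 := ded_28_1 (flp_e L698568) L698557 L718087
theorem L718093 : sm gj N53025 = N51147 := ded_42_2 (flp_e L698599) (flp_j L698563) L718087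
theorem L718095 : sm gh N53025 = N51174 := ded_43_2 (flp_e L698906) (flp_h L698565) L718087
theorem L718097 : sm gf N53025 = N52568 := ded_40_2 L712954 L692411 L677286 (flp_f L698561) L718087
theorem L718099 : sm gi N51143 = N53026 := rfl
theorem L718101 : sm ga N53026 = N52745 := ded_18_1 (flp_i L714287) (flp_a L698559) L718099
theorem L718103 : sm gc N53026 = N51145 := ded_33_1 (flp_i L698576) L698557 L718099
theorem L718105 : sm gd N53026 = N53026 := ded_39_1 (flp_i L718099) L698567 L718099
theorem L718106 : sm gf N53026 = N51153 := ded_48_1 (flp_i L698656) (flp_f L698561) L718099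
theorem L718108 : sm gj N53026 = N51148 := ded_53_1 (flp_i L698607) (flp_j L698563) L718099
theorem L718110 : sm gf N51144 = N53027 := rfl
theorem L718112 : sm ga N53027 = N52442 := ded_14_1 (flp_f L717460) L717452 L718110
theorem L718114 : sm gb N53027 = N51862 := ded_22_1 (flp_f L706561) (flp_b L698570) L718110
theorem L718116 : sm gc N53027 = N52568 := ded_29_1 (flp_f L718097) L718091 L718110
theorem L718118 : sm gj N53027 = N51149 := ded_46_2 (flp_f L698616) (flp_j L698572) L718110
theorem L718120 : sm gh N53027 = N51176 := ded_47_2 (flp_f L698930) (flp_h L698574) L718110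
theorem L718122 : sm ge N53027 = N51154 := ded_40_1 (flp_f L698668) (flp_e L677288) (flp_f L677234) L698568 L718110
theorem L718124 : sm gi N51144 = N53028 := rfl
theorem L718126 : sm gb N53028 = N51863 := ded_26_1 (flp_i L706569) (flp_b L698570) L718124
theorem L718128 : sm ge N53028 = N51145 := ded_44_1 (flp_i L698576) L698568 L718124
theorem L718130 : sm gj N53028 = N51150 := ded_53_1 (flp_i L698624) (flp_j L698572) L718124
theorem L718132 : sm gh N51145 = N53029 := rfl
theorem L718134 : sm gb N53029 = N51864 := ded_25_1 (flp_h L706575) (flp_b L698578) L718132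
theorem L718136 : sm gf N53029 = N51156 := ded_47_1 (flp_h L698695) (flp_f L698582) L718132
theorem L718138 : sm gj N53029 = N51151 := ded_52_1 (flp_h L698632) (flp_j L698584) L718132
theorem L718140 : sm gi N53029 = N51178 := ded_54_2 (flp_h L698952) (flp_i L677481) (flp_h L677238) L698576 L718132
theorem L718142 : sm ge N51146 = N53030 := rfl
theorem L718144 : sm ga N53030 = N51916 := ded_13_1 L707058 (flp_a L698595) L718142
theorem L718146 : sm gb N53030 = N51147 := ded_21_1 (flp_e L698599) L698586 L718142
theorem L718148 : sm gc N53030 = N51865 := ded_28_1 (flp_e L706583) (flp_c L698597) L718142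
theorem L718150 : sm gg N53030 = N52212 := ded_41_2 (flp_e L710157) (flp_g L698591) L718142
theorem L718152 : sm gh N53030 = N51180 := ded_43_2 (flp_e L698974) (flp_h L698593) L718142
theorem L718154 : sm gf N53030 = N51913 := ded_40_2 (flp_e L707030) L685499 L677322 (flp_f L698589) L718142
theorem L718156 : sm gi N51146 = N53031 := rfl
theorem L718158 : sm ga N53031 = N51944 := ded_18_1 (flp_i L707279) (flp_a L698595) L718156
theorem L718160 : sm gb N53031 = N51148 := ded_26_1 (flp_i L698607) L698586 L718156
theorem L718162 : sm gc N53031 = N51866 := ded_33_1 (flp_i L706591) (flp_c L698597) L718156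
theorem L718164 : sm gd N53031 = N53031 := ded_39_1 (flp_i L718156) L698588 L718156
theorem L718165 : sm gf N53031 = N51157 := ded_48_1 (flp_i L698704) (flp_f L698589) L718156
theorem L718167 : sm gg N53031 = N52213 := ded_51_1 (flp_i L710165) (flp_g L698591) L718156
theorem L718169 : sm gd N51147 = N53032 := rfl
theorem L718171 : sm gg N53032 = N52214 := ded_36_2 (flp_d L710174) (flp_g L698603) L718169
theorem L718173 : sm ge N53032 = N53032 := ded_34_2 (flp_d L718169) (flp_e L698599) L677257 L698599 L718169
theorem L718174 : sm gf N51147 = N53033 := rfl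
theorem L718176 : sm ga N53033 = N51808 := ded_14_1 (flp_f L717488) L717476 L718174
theorem L718178 : sm gb N53033 = N51913 := ded_22_1 (flp_f L718154) L718146 L718174
theorem L718180 : sm gc N53033 = N51149 := ded_29_1 (flp_f L698616) (flp_c L698601) L718174
theorem L718182 : sm gj N53033 = N52568 := ded_46_2 (flp_f L718097) L718093 L718174
theorem L718184 : sm gh N53033 = N51183 := ded_47_2 (flp_f L699008) (flp_h L698605) L718174
theorem L718186 : sm ge N53033 = N51158 := ded_40_1 (flp_f L698717) (flp_e L677324) (flp_f L677251) L698599 L718174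
theorem L718188 : sm gg N52563 = N53033 := ded_15_0 L718176 L706006 (flp_a L712918)
theorem L718190 : sm gi N51147 = N53034 := rfl
theorem L718192 : sm gc N53034 = N51150 := ded_33_1 (flp_i L698624) (flp_c L698601) L718190
theorem L718194 : sm ge N53034 = N51148 := ded_44_1 (flp_i L698607) L698599 L718190
theorem L718196 : sm gg N53034 = N52216 := ded_51_1 (flp_i L710187) (flp_g L698603) L718190
theorem L718198 : sm gh N51148 = N53035 := rfl
theorem L718200 : sm gc N53035 = N51151 := ded_32_1 (flp_h L698632) (flp_c L698609) L718198
theorem L718202 : sm gf N53035 = N51160 := ded_47_1 (flp_h L698749) (flp_f L698612) L718198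
theorem L718204 : sm gg N53035 = N52217 := ded_50_1 (flp_h L710193) (flp_g L698614) L718198
theorem L718206 : sm gi N53035 = N51185 := ded_54_2 (flp_h L699028) (flp_i L677507) (flp_h L677255) L698607 L718198
theorem L718208 : sm gg N51149 = N53036 := rfl
theorem L718210 : sm ga N53036 = N52522 := ded_15_1 (flp_g L717519) L717507 L718208
theorem L718212 : sm gb N53036 = N51871 := ded_23_1 (flp_g L706645) (flp_b L698618) L718208
theorem L718214 : sm gc N53036 = N52563 := ded_30_1 L718188 L718180 L718208
theorem L718216 : sm gd N53036 = N52587 := ded_36_1 (flp_g L718030) L718025 L718208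
theorem L718218 : sm ge N53036 = N51161 := ded_41_1 (flp_g L698757) (flp_e L698622) L718208
theorem L718220 : sm gh N53036 = N51186 := ded_50_2 (flp_g L699036) (flp_h L698620) L718208
theorem L718222 : sm gf N53036 = N52218 := ded_45_1 (flp_g L710201) (flp_f L689093) (flp_g L677262) L698616 L718208
theorem L718224 : sm gi N51149 = N53037 := rfl
theorem L718226 : sm gb N53037 = N51872 := ded_26_1 (flp_i L706653) (flp_b L698618) L718224
theorem L718228 : sm ge N53037 = N51162 := ded_44_1 (flp_i L698770) (flp_e L698622) L718224
theorem L718230 : sm gf N53037 = N51150 := ded_48_1 (flp_i L698624) L698616 L718224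
theorem L718232 : sm gh N51150 = N53038 := rfl
theorem L718234 : sm gb N53038 = N51873 := ded_25_1 (flp_h L706659) (flp_b L698626) L718232
theorem L718236 : sm ge N53038 = N51151 := ded_43_1 (flp_h L698632) (flp_e L698628) L718232
theorem L718238 : sm gg N53038 = N52220 := ded_50_1 (flp_h L710225) (flp_g L698630) L718232
theorem L718240 : sm gi N53038 = N51188 := ded_54_2 (flp_h L699052) (flp_i L677523) (flp_h L677264) L698624 L718232
theorem L718242 : sm gi N51152 = N53039 := rfl
theorem L718244 : sm ga N53039 = N51932 := ded_18_1 (flp_i L707177) (flp_a L698652) L718242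
theorem L718246 : sm gb N53039 = N51153 := ded_26_1 (flp_i L698656) L698642 L718242
theorem L718248 : sm gc N53039 = N51874 := ded_33_1 (flp_i L706667) (flp_c L698654) L718242
theorem L718250 : sm gd N53039 = N53039 := ded_39_1 (flp_i L718242) L698644 L718242
theorem L718251 : sm ge N53039 = N51930 := ded_44_1 (flp_i L707157) (flp_e L698645) L718242
theorem L718253 : sm gg N53039 = N53039 := ded_51_1 (flp_i L718242) L698647 L718242
theorem L718254 : sm gj N53039 = N51157 := ded_53_1 (flp_i L698704) (flp_j L698648) L718242
theorem L718256 : sm gh N51153 = N53040 := rfl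
theorem L718258 : sm ga N53040 = N52747 := ded_17_1 (flp_h L714296) (flp_a L698658) L718256
theorem L718260 : sm gc N53040 = N51156 := ded_32_1 (flp_h L698695) (flp_c L698660) L718256
theorem L718262 : sm ge N53040 = N52737 := ded_43_1 (flp_h L714213) (flp_e L698663) L718256
theorem L718264 : sm gg N53040 = N53040 := ded_50_1 (flp_h L718256) L698665 L718256
theorem L718265 : sm gj N53040 = N51160 := ded_52_1 (flp_h L698749) (flp_j L698666) L718256
theorem L718267 : sm gi N53040 = N51191 := ded_54_2 (flp_h L699088) (flp_i L677550) (flp_h L677283) L698656 L718256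
theorem L718269 : sm gg N51154 = N53041 := rfl
theorem L718271 : sm ga N53041 = N51662 := ded_15_1 L704386 (flp_a L698670) L718269
theorem L718273 : sm gb N53041 = N51878 := ded_23_1 (flp_g L706716) (flp_b L698672) L718269
theorem L718275 : sm gc N53041 = N51843 := ded_30_1 L706388 (flp_c L698674) L718269
theorem L718277 : sm gd N53041 = N53041 := ded_36_1 (flp_g L718269) L698676 L718269
theorem L718278 : sm gh N53041 = N51192 := ded_50_2 (flp_g L699099) (flp_h L698679) L718269
theorem L718280 : sm gf N53041 = N53041 := ded_45_1 (flp_g L718269) (flp_f L698668) L677296 L698668 L718269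
theorem L718281 : sm gj N52716 = N53041 := ded_31_0 L718275 L706390 L714055
theorem L718283 : sm gi N51154 = N53042 := rfl
theorem L718285 : sm ga N53042 = N52480 := ded_18_1 (flp_i L712289) (flp_a L698670) L718283
theorem L718287 : sm gb N53042 = N51879 := ded_26_1 (flp_i L706722) (flp_b L698672) L718283
theorem L718289 : sm gc N53042 = N52576 := ded_33_1 (flp_i L713010) (flp_c L698674) L718283
theorem L718291 : sm gd N53042 = N53042 := ded_39_1 (flp_i L718283) L698676 L718283
theorem L718292 : sm gf N53042 = N51155 := ded_48_1 (flp_i L698681) L698668 L718283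
theorem L718294 : sm gj N53042 = N51162 := ded_53_1 (flp_i L698770) (flp_j L698677) L718283
theorem L718296 : sm gh N51155 = N53043 := rfl
theorem L718298 : sm ga N53043 = N52724 := ded_17_1 (flp_h L714098) (flp_a L698683) L718296
theorem L718300 : sm gb N53043 = N51880 := ded_25_1 (flp_h L706729) (flp_b L698685) L718296
theorem L718302 : sm gc N53043 = N52737 := ded_32_1 (flp_h L714213) (flp_c L698687) L718296
theorem L718304 : sm ge N53043 = N51156 := ded_43_1 (flp_h L698695) (flp_e L698690) L718296
theorem L718306 : sm gg N53043 = N53043 := ded_50_1 (flp_h L718296) L698692 L718296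
theorem L718307 : sm gj N53043 = N51163 := ded_52_1 (flp_h L698777) (flp_j L698693) L718296
theorem L718309 : sm gi N53043 = N51194 := ded_54_2 (flp_h L699124) (flp_i L677575) (flp_h L677299) L698681 L718296
theorem L718311 : sm gh N51157 = N53044 := rfl
theorem L718313 : sm ga N53044 = N51945 := ded_17_1 (flp_h L707286) (flp_a L698706) L718311
theorem L718315 : sm gb N53044 = N51160 := ded_25_1 (flp_h L698749) (flp_b L698708) L718311
theorem L718317 : sm gc N53044 = N51881 := ded_32_1 (flp_h L706738) (flp_c L698710) L718311
theorem L718319 : sm ge N53044 = N51942 := ded_43_1 (flp_h L707260) (flp_e L698713) L718311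
theorem L718321 : sm gg N53044 = N51164 := ded_50_1 (flp_h L698787) (flp_g L698715) L718311
theorem L718323 : sm gi N53044 = N51198 := ded_54_2 (flp_h L699183) (flp_i L677627) (flp_h L677316) L698704 L718311
theorem L718325 : sm gi N51158 = N53045 := rfl
theorem L718327 : sm ga N53045 = N51809 := ded_18_1 (flp_i L706012) (flp_a L698719) L718325
theorem L718329 : sm gb N53045 = N51914 := ded_26_1 (flp_i L707036) (flp_b L698721) L718325
theorem L718331 : sm gc N53045 = N51162 := ded_33_1 (flp_i L698770) (flp_c L698723) L718325
theorem L718333 : sm gd N53045 = N51840 := ded_39_1 (flp_i L706341) (flp_d L698725) L718325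
theorem L718335 : sm gf N53045 = N51159 := ded_48_1 (flp_i L698733) L698717 L718325
theorem L718337 : sm gg N53045 = N52564 := ded_51_1 (flp_i L712922) (flp_g L698731) L718325
theorem L718339 : sm gj N53045 = N52576 := ded_53_1 (flp_i L713010) (flp_j L698727) L718325
theorem L718341 : sm gh N51159 = N53046 := rfl
theorem L718343 : sm ga N53046 = N51822 := ded_17_1 (flp_h L706150) (flp_a L698735) L718341
theorem L718345 : sm gb N53046 = N51942 := ded_25_1 (flp_h L707260) (flp_b L698737) L718341
theorem L718347 : sm gc N53046 = N51163 := ded_32_1 (flp_h L698777) (flp_c L698739) L718341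
theorem L718349 : sm ge N53046 = N51160 := ded_43_1 (flp_h L698749) (flp_e L698743) L718341
theorem L718351 : sm gg N53046 = N51165 := ded_50_1 (flp_h L698802) (flp_g L698745) L718341
theorem L718353 : sm gj N53046 = N52737 := ded_52_1 (flp_h L714213) (flp_j L698747) L718341
theorem L718355 : sm gd N53046 = N52616 := ded_38_1 (flp_h L713303) L692659 (flp_h L685081) (flp_d L698741) L718341
theorem L718357 : sm gi N53046 = N51201 := ded_54_2 (flp_h L699217) (flp_i L677647) (flp_h L677336) L698733 L718341
theorem L718359 : sm gd N51160 = N53047 := rfl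
theorem L718361 : sm gg N53047 = N51166 := ded_36_2 (flp_d L698819) (flp_g L698753) L718359
theorem L718363 : sm gi N53047 = N51202 := ded_39_2 (flp_d L699231) (flp_i L698755) L718359
theorem L718365 : sm gh N53047 = N53047 := ded_38_2 (flp_d L718359) (flp_h L698749) L677344 L698749 L718359
theorem L718366 : sm gj N51161 = N53048 := rfl
theorem L718368 : sm ga N53048 = N52531 := ded_16_1 L712664 (flp_a L698759) L718366
theorem L718370 : sm gb N53048 = N51885 := ded_24_1 (flp_j L706784) (flp_b L698761) L718366
theorem L718372 : sm gc N53048 = N52020 := ded_31_1 L708092 (flp_c L698763) L718366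
theorem L718374 : sm gd N53048 = N53048 := ded_37_1 (flp_j L718366) L698765 L718366
theorem L718375 : sm gf N53048 = N51167 := ded_46_1 (flp_j L698827) (flp_f L698768) L718366
theorem L718377 : sm gh N53048 = N51203 := ded_52_2 (flp_j L699237) (flp_h L698766) L718366
theorem L718379 : sm gg N53048 = N52716 := ded_49_1 L718281 (flp_g L718269) L698677 L698757 L718366
theorem L718381 : sm gi N51161 = N53049 := rfl
theorem L718383 : sm ga N53049 = N52538 := ded_18_1 (flp_i L712720) (flp_a L698759) L718381
theorem L718385 : sm gb N53049 = N51886 := ded_26_1 (flp_i L706791) (flp_b L698761) L718381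
theorem L718387 : sm gc N53049 = N52564 := ded_33_1 (flp_i L712922) (flp_c L698763) L718381
theorem L718389 : sm gd N53049 = N53049 := ded_39_1 (flp_i L718381) L698765 L718381
theorem L718390 : sm gf N53049 = N51168 := ded_48_1 (flp_i L698841) (flp_f L698768) L718381
theorem L718392 : sm gg N53049 = N51162 := ded_51_1 (flp_i L698770) L698757 L718381
theorem L718394 : sm gh N51162 = N53050 := rfl
theorem L718396 : sm gb N53050 = N51887 := ded_25_1 (flp_h L706798) (flp_b L698772) L718394
theorem L718398 : sm gf N53050 = N51163 := ded_47_1 (flp_h L698777) (flp_f L698775) L718394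
theorem L718400 : sm gi N53050 = N51205 := ded_54_2 (flp_h L699255) (flp_i L677675) (flp_h L677352) L698770 L718394
theorem L718402 : sm gd N51163 = N53051 := rfl
theorem L718404 : sm gb N53051 = N51888 := ded_20_1 (flp_d L706804) (flp_b L698779) L718402
theorem L718406 : sm gg N53051 = N51170 := ded_36_2 (flp_d L698869) (flp_g L698783) L718402
theorem L718408 : sm gi N53051 = N51206 := ded_39_2 (flp_d L699261) (flp_i L698785) L718402
theorem L718410 : sm gh N53051 = N53051 := ded_38_2 (flp_d L718402) (flp_h L698777) L677358 L698777 L718402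
theorem L718411 : sm gd N51164 = N53052 := rfl
theorem L718413 : sm ga N53052 = N51959 := ded_12_1 (flp_d L707411) (flp_a L698789) L718411
theorem L718415 : sm gb N53052 = N51166 := ded_20_1 (flp_d L698819) (flp_b L698791) L718411
theorem L718417 : sm gf N53052 = N52232 := ded_35_2 (flp_d L710364) (flp_f L698797) L718411
theorem L718419 : sm gj N53052 = N53052 := ded_37_2 (flp_d L718411) L698799 L718411
theorem L718420 : sm gi N53052 = N51209 := ded_39_2 (flp_d L699301) (flp_i L698800) L718411
theorem L718422 : sm gc N53052 = N52542 := ded_27_1 (flp_d L712750) L691993 (flp_d L685355) (flp_c L698793) L718411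
theorem L718424 : sm ge N53052 = N52295 := ded_34_2 (flp_d L710909) (flp_e L699347) L699352 (flp_e L698795) L718411
theorem L718426 : sm gh N53052 = N53052 := ded_38_2 (flp_d L718411) (flp_h L698787) L677379 L698787 L718411
theorem L718427 : sm ge N51166 = N53053 := rfl
theorem L718429 : sm ga N53053 = N52625 := ded_13_1 (flp_e L717616) L717605 L718427
theorem L718431 : sm gb N53053 = N52295 := ded_21_1 (flp_e L718424) L718415 L718427
theorem L718433 : sm gj N53053 = N53053 := ded_42_2 (flp_e L718427) L698823 L718427
theorem L718434 : sm gh N53053 = N53053 := ded_43_2 (flp_e L718427) L698826 L718427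
theorem L718435 : sm gi N53053 = N51213 := ded_44_2 (flp_e L699356) (flp_i L698824) L718427
theorem L718437 : sm gd N53053 = N52291 := ded_34_1 L710882 (flp_d L698815) L698810 L698819 L718427
theorem L718439 : sm gf N52292 = N53053 := ded_55_3 (flp_e L718427) (flp_d L698819) (flp_b L698791) L698793 L685355 (flp_i L685773) L685775 (flp_d L663355) L364425 L266509 L273401 L273403 L188123 (flp_d L188117) L129586 (flp_h L89745) L62091 L62092 (flp_e L88029) (flp_d L546605) L174639 L174645 L543454 (flp_i L127536) (flp_h L126218) (flp_d L183072) (flp_f L250414) L364106 L364111 L364108 L250419 L172468 L172511 L250497 L364227 (flp_f L663105) (flp_e L677086) (flp_d L677078) (flp_b L676670) L676672 (flp_d L666138) L378887 (flp_h L378882) L260451 (flp_f L249808) (flp_e L362123) L362122 L362120 L249125 L171616 (flp_i L118362) (flp_h L81827) L56689 L39757 (flp_e L39752) L27670 (flp_b L27660) L27662 (flp_d L39730) L39733 (flp_h L543977) (flp_d L563374) L39871 L27743 L20297 L20293 L14196 L14199 L20332 L20339 L14293 (flp_f L14613) (flp_e L20894) (flp_d L29992) (flp_b L43049) (flp_c L62089)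 L62091 (flp_i L62087) (flp_h L61830) (flp_d L89250) L89247 L129350 (flp_d L183080) (flp_b L266190) (flp_c L379886) L379889 L667206 L689682 L710889
theorem L718441 : sm gi N51167 = N53054 := rfl
theorem L718443 : sm ga N53054 = N52532 := ded_18_1 (flp_i L712666) (flp_a L698829) L718441
theorem L718445 : sm gb N53054 = N51893 := ded_26_1 (flp_i L706868) (flp_b L698831) L718441
theorem L718447 : sm gc N53054 = N52572 := ded_33_1 (flp_i L712976) (flp_c L698833) L718441
theorem L718449 : sm gd N53054 = N53054 := ded_39_1 (flp_i L718441) L698835 L718441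
theorem L718450 : sm ge N53054 = N52233 := ded_44_1 (flp_i L710372) (flp_e L698836) L718441
theorem L718452 : sm gg N53054 = N53054 := ded_51_1 (flp_i L718441) L698840 L718441
theorem L718453 : sm gj N53054 = N51168 := ded_53_1 (flp_i L698841) L698827 L718441
theorem L718455 : sm gh N51168 = N53055 := rfl
theorem L718457 : sm ga N53055 = N52539 := ded_17_1 (flp_h L712729) (flp_a L698843) L718455
theorem L718459 : sm gb N53055 = N51894 := ded_25_1 (flp_h L706876) (flp_b L698845) L718455
theorem L718461 : sm gc N53055 = N52574 := ded_32_1 (flp_h L712994) (flp_c L698847) L718455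
theorem L718463 : sm ge N53055 = N52234 := ded_43_1 (flp_h L710383) (flp_e L698850) L718455
theorem L718465 : sm gg N53055 = N51169 := ded_50_1 (flp_h L698854) (flp_g L698852) L718455
theorem L718467 : sm gi N53055 = N51215 := ded_54_2 (flp_h L699376) (flp_i L677786) (flp_h L677420) L698841 L718455
theorem L718469 : sm gd N51169 = N53056 := rfl
theorem L718471 : sm ga N53056 = N52542 := ded_12_1 (flp_d L712750) (flp_a L698856) L718469
theorem L718473 : sm gb N53056 = N51895 := ded_20_1 (flp_d L706884) (flp_b L698858) L718469
theorem L718475 : sm gf N53056 = N51170 := ded_35_2 (flp_d L698869) (flp_f L698864) L718469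
theorem L718477 : sm gj N53056 = N53056 := ded_37_2 (flp_d L718469) L698866 L718469
theorem L718478 : sm gi N53056 = N51216 := ded_39_2 (flp_d L699384) (flp_i L698867) L718469
theorem L718480 : sm gc N53056 = N51959 := ded_27_1 (flp_d L707411) (flp_c L699290) L699297 (flp_c L698860) L718469
theorem L718482 : sm ge N53056 = N51781 := ded_34_2 (flp_d L705697) (flp_e L697675) L697680 (flp_e L698862) L718469
theorem L718484 : sm gh N53056 = N53056 := ded_38_2 (flp_d L718469) (flp_h L698854) L677430 L698854 L718469
theorem L718485 : sm gc N51170 = N53057 := rfl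
theorem L718487 : sm ga N53057 = N52232 := ded_11_1 (flp_c L717630) L717621 L718485
theorem L718489 : sm gf N53057 = N51959 := ded_29_2 (flp_c L718480) L718475 L718485
theorem L718491 : sm gj N53057 = N53057 := ded_31_2 (flp_c L718485) L698873 L718485
theorem L718492 : sm gh N53057 = N53057 := ded_32_2 (flp_c L718485) L698876 L718485
theorem L718493 : sm gi N53057 = N51217 := ded_33_2 (flp_c L699393) (flp_i L698874) L718485
theorem L718495 : sm gd N53057 = N51958 := ded_27_2 L707402 (flp_d L698815) L698808 L698869 L718485
theorem L718497 : sm gb N51962 = N53057 := ded_55_6 (flp_c L718485) (flp_d L698869) L677443 (flp_h L655833) L357342 (flp_f L357404) L357402 L245943 L179732 L126132 L89329 (flp_i L89326) L61768 L47166 (flp_f L33210) (flp_e L23169) (flp_d L16200) L11344 L11345 L7943 (flp_i L594477) L10587 L10584 L10585 L15142 L21691 (flp_b L598231) (flp_c L21765) L21767 (flp_i L21761) (flp_h L15172) (flp_d L10596) L10604 L10612 (flp_d L15169) (flp_b L21716) (flp_c L31200) (flp_d L41015) (flp_i L58953) L85193 L592375 L60051 (flp_e L56885) L82115 (flp_b L553619) (flp_c L171484)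 L171488 L248952 L361896 L660825 (flp_f L683345) (flp_e L694862) L694869 L687843 L687844 (flp_d L673428) L673430 (flp_h L673416) L651723 L650467 (flp_e L664037) (flp_d L677714) L677710 L655800 L357342 (flp_i L245917) L169455 (flp_d L245866) L357329 L357336 L261093 L179697 L126101 (flp_d L129367) L187841 L273073 L648535 L357149 L260923 L547485 L187852 (flp_c L273043) L650838 L650841 (flp_h L671181) (flp_d L671178) (flp_f L671175) (flp_e L685798) L707435
theorem L718499 : sm gf N51171 = N53058 := rfl
theorem L718501 : sm gb N53058 = N51900 := ded_22_1 (flp_f L706932) (flp_b L698879) L718499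
theorem L718503 : sm gj N53058 = N52237 := ded_46_2 (flp_f L710408) (flp_j L698883) L718499
theorem L718505 : sm ge N53058 = N53058 := ded_40_1 (flp_f L718499) (flp_e L698877) L677449 L698877 L718499
theorem L718506 : sm gi N51171 = N53059 := rfl
theorem L718508 : sm gb N53059 = N51901 := ded_26_1 (flp_i L706937) (flp_b L698879) L718506
theorem L718510 : sm ge N53059 = N51172 := ded_44_1 (flp_i L698885) L698877 L718506
theorem L718512 : sm gg N53059 = N51177 := ded_51_1 (flp_i L698944) (flp_g L698881) L718506
theorem L718514 : sm gj N53059 = N52238 := ded_53_1 (flp_i L710413) (flp_j L698883) L718506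
theorem L718516 : sm gh N51172 = N53060 := rfl
theorem L718518 : sm gb N53060 = N51902 := ded_25_1 (flp_h L706945) (flp_b L698887) L718516
theorem L718520 : sm gf N53060 = N53060 := ded_47_1 (flp_h L718516) L698891 L718516
theorem L718521 : sm gg N53060 = N51178 := ded_50_1 (flp_h L698952) (flp_g L698892) L718516
theorem L718523 : sm gj N53060 = N52239 := ded_52_1 (flp_h L710421) (flp_j L698894) L718516
theorem L718525 : sm ga N51173 = N53061 := rfl
theorem L718527 : sm gc N53061 = N51903 := ded_11_2 (flp_a L706952) (flp_c L698904) L718525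
theorem L718529 : sm gd N53061 = N51230 := ded_12_2 (flp_a L699530) (flp_d L698898) L718525
theorem L718531 : sm gf N53061 = N51189 := ded_14_2 (flp_a L699060) (flp_f L698900) L718525
theorem L718533 : sm gg N53061 = N52703 := ded_15_2 (flp_a L716892) L716897 L718525
theorem L718535 : sm gj N53061 = N51179 := ded_16_2 (flp_a L698960) (flp_j L698902) L718525
theorem L718537 : sm gh N53061 = N51931 := ded_17_2 (flp_a L718083) L718081 L718525
theorem L718539 : sm gb N53061 = N51875 := ded_10_2 L706680 L693532 (flp_a L677467) L698896 L718525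
theorem L718541 : sm ge N51173 = N53062 := rfl
theorem L718543 : sm gb N53062 = N51174 := ded_21_1 (flp_e L698906) L698896 L718541
theorem L718545 : sm gc N53062 = N51904 := ded_28_1 (flp_e L706966) (flp_c L698904) L718541
theorem L718547 : sm gj N53062 = N51180 := ded_42_2 (flp_e L698974) (flp_j L698902) L718541
theorem L718549 : sm gd N53062 = N52108 := ded_34_1 (flp_e L709083) L687995 (flp_e L677929) (flp_d L698898) L718541
theorem L718551 : sm gf N53062 = N52565 := ded_40_2 L712936 L692396 (flp_e L677543) (flp_f L698900) L718541
theorem L718553 : sm gi N51173 = N53063 := rfl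
theorem L718555 : sm gb N53063 = N51175 := ded_26_1 (flp_i L698918) L698896 L718553
theorem L718557 : sm gc N53063 = N51905 := ded_33_1 (flp_i L706972) (flp_c L698904) L718553
theorem L718559 : sm gd N53063 = N51231 := ded_39_1 (flp_i L699545) (flp_d L698898) L718553
theorem L718561 : sm gf N53063 = N51190 := ded_48_1 (flp_i L699075) (flp_f L698900) L718553
theorem L718563 : sm gj N53063 = N51181 := ded_53_1 (flp_i L698982) (flp_j L698902) L718553
theorem L718565 : sm gi N51174 = N53064 := rfl
theorem L718567 : sm ga N53064 = N52658 := ded_18_1 (flp_i L713624) (flp_a L698908) L718565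
theorem L718569 : sm gc N53064 = N51177 := ded_33_1 (flp_i L698944) (flp_c L698910) L718565
theorem L718571 : sm gd N53064 = N52110 := ded_39_1 (flp_i L709101) (flp_d L698914) L718565
theorem L718573 : sm ge N53064 = N51175 := ded_44_1 (flp_i L698918) L698906 L718565
theorem L718575 : sm gf N53064 = N52569 := ded_48_1 (flp_i L712956) (flp_f L698916) L718565
theorem L718577 : sm gj N53064 = N51184 := ded_53_1 (flp_i L699020) (flp_j L698912) L718565
theorem L718579 : sm gh N51175 = N53065 := rfl
theorem L718581 : sm ga N53065 = N52746 := ded_17_1 (flp_h L714292) (flp_a L698920) L718579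
theorem L718583 : sm gc N53065 = N51178 := ded_32_1 (flp_h L698952) (flp_c L698922) L718579
theorem L718585 : sm gf N53065 = N51191 := ded_47_1 (flp_h L699088) (flp_f L698926) L718579
theorem L718587 : sm gj N53065 = N51185 := ded_52_1 (flp_h L699028) (flp_j L698928) L718579
theorem L718589 : sm gg N51176 = N53066 := rfl
theorem L718591 : sm ga N53066 = N51609 := ded_15_1 L703907 (flp_a L698932) L718589
theorem L718593 : sm gb N53066 = N51910 := ded_23_1 (flp_g L707012) (flp_b L698934) L718589
theorem L718595 : sm gc N53066 = N51810 := ded_30_1 L706028 (flp_c L698936) L718589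
theorem L718597 : sm gd N53066 = N51523 := ded_36_1 L703068 (flp_d L698938) L718589
theorem L718599 : sm ge N53066 = N51192 := ded_41_1 (flp_g L699099) (flp_e L698942) L718589
theorem L718601 : sm gi N51176 = N53067 := rfl
theorem L718603 : sm ga N53067 = N52443 := ded_18_1 (flp_i L712033) (flp_a L698932) L718601
theorem L718605 : sm gb N53067 = N51911 := ded_26_1 (flp_i L707016) (flp_b L698934) L718601
theorem L718607 : sm gc N53067 = N52569 := ded_33_1 (flp_i L712956) (flp_c L698936) L718601
theorem L718609 : sm gd N53067 = N52405 := ded_39_1 (flp_i L711776) (flp_d L698938) L718601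
theorem L718611 : sm ge N53067 = N51193 := ded_44_1 (flp_i L699110) (flp_e L698942) L718601
theorem L718613 : sm gf N53067 = N51177 := ded_48_1 (flp_i L698944) L698930 L718601
theorem L718615 : sm gj N53067 = N51187 := ded_53_1 (flp_i L699044) (flp_j L698940) L718601
theorem L718617 : sm gh N51177 = N53068 := rfl
theorem L718619 : sm gb N53068 = N51912 := ded_25_1 (flp_h L707024) (flp_b L698946) L718617
theorem L718621 : sm ge N53068 = N51178 := ded_43_1 (flp_h L698952) (flp_e L698948) L718617
theorem L718623 : sm gj N53068 = N51188 := ded_52_1 (flp_h L699052) (flp_j L698950) L718617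
theorem L718625 : sm ge N51179 = N53069 := rfl
theorem L718627 : sm ga N53069 = N51180 := ded_13_1 (flp_e L698974) L698960 L718625
theorem L718629 : sm gb N53069 = N51868 := ded_21_1 L706619 (flp_b L698972) L718625
theorem L718631 : sm gc N53069 = N51913 := ded_28_1 (flp_e L707030) (flp_c L698962) L718625
theorem L718633 : sm gg N53069 = N52248 := ded_41_2 (flp_e L710500) (flp_g L698968) L718625
theorem L718635 : sm gh N53069 = N51916 := ded_43_2 L707058 (flp_h L698970) L718625
theorem L718637 : sm gf N53069 = N51865 := ded_40_2 (flp_e L706583) L685181 L677609 (flp_f L698966) L718625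
theorem L718639 : sm gi N51179 = N53070 := rfl
theorem L718641 : sm ga N53070 = N51181 := ded_18_1 (flp_i L698982) L698960 L718639
theorem L718643 : sm gb N53070 = N51883 := ded_26_1 (flp_i L706762) (flp_b L698972) L718639
theorem L718645 : sm gc N53070 = N51914 := ded_33_1 (flp_i L707036) (flp_c L698962) L718639
theorem L718647 : sm gd N53070 = N51234 := ded_39_1 (flp_i L699585) (flp_d L698964) L718639
theorem L718649 : sm gf N53070 = N51195 := ded_48_1 (flp_i L699137) (flp_f L698966) L718639
theorem L718651 : sm gg N53070 = N52249 := ded_51_1 (flp_i L710506) (flp_g L698968) L718639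
theorem L718653 : sm gd N51180 = N53071 := rfl
theorem L718655 : sm gb N53071 = N51182 := ded_20_1 (flp_d L698994) (flp_b L698976) L718653
theorem L718657 : sm gg N53071 = N52250 := ded_36_2 (flp_d L710516) (flp_g L698980) L718653
theorem L718659 : sm gj N53071 = N52108 := ded_37_2 (flp_d L718549) L718547 L718653
theorem L718661 : sm ge N53071 = N51235 := ded_34_2 (flp_d L699597) (flp_e L677974) (flp_d L677493) L698974 L718653
theorem L718663 : sm gc N53071 = N52512 := ded_56_4 L712520 (flp_a L704937) L704943 L705120 L705126 L683916 L661474 L389192 (flp_a L659085) L659091 L659094 (flp_e L658188) (flp_d L658175) L613976 L248830 L248828 (flp_h L171542) (flp_f L170489) (flp_e L614336) L247256 L247254 L170390 L170388 L170492 L170496 (flp_e L171519) L561753 (flp_c L201054) (flp_b L508084) L286929 L197633 L615225 (flp_e L125996) L125994 L86956 L60185 L41762 L60245 (flp_f L87112) (flp_e L125176) L181730 L264139 L384362 L669406 L669412 L669408 L384460 L271843 (flp_c L649361) L506546 L248155 L171122 L171117 L172491 (flp_d L250402) (flp_c L364070) (flp_b L662889) (flp_a L677318) L677316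 (flp_f L677495) L698974 L718653
theorem L718665 : sm gf N52558 = N53071 := ded_22_0 L718655 (flp_f L699006) (flp_b L712874)
theorem L718667 : sm gf N51180 = N53072 := rfl
theorem L718669 : sm ga N53072 = N51865 := ded_14_1 (flp_f L718637) L718627 L718667
theorem L718671 : sm gb N53072 = N51183 := ded_22_1 (flp_f L699008) (flp_b L698976) L718667
theorem L718673 : sm gc N53072 = N51916 := ded_29_1 (flp_f L707054) (flp_c L698978) L718667
theorem L718675 : sm gd N53072 = N52558 := ded_35_1 L718665 (flp_d L718653) L718667
theorem L718677 : sm gj N53072 = N52565 := ded_46_2 (flp_f L718551) L718547 L718667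
theorem L718679 : sm gh N53072 = N51913 := ded_47_2 (flp_f L718154) L718152 L718667
theorem L718681 : sm ge N53072 = N51196 := ded_40_1 (flp_f L699151) (flp_e L677611) (flp_f L677495) L698974 L718667
theorem L718683 : sm gg N52596 = N53072 := ded_15_0 L718669 L706587 (flp_a L713155)
theorem L718685 : sm gi N51180 = N53073 := rfl
theorem L718687 : sm gb N53073 = N51184 := ded_26_1 (flp_i L699020) (flp_b L698976) L718685
theorem L718689 : sm gc N53073 = N51917 := ded_33_1 (flp_i L707060) (flp_c L698978) L718685
theorem L718691 : sm ge N53073 = N51181 := ded_44_1 (flp_i L698982) L698974 L718685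
theorem L718693 : sm gg N53073 = N52252 := ded_51_1 (flp_i L710530) (flp_g L698980) L718685
theorem L718695 : sm gh N51181 = N53074 := rfl
theorem L718697 : sm gb N53074 = N51185 := ded_25_1 (flp_h L699028) (flp_b L698984) L718695
theorem L718699 : sm gc N53074 = N51918 := ded_32_1 (flp_h L707068) (flp_c L698986) L718695
theorem L718701 : sm gf N53074 = N51198 := ded_47_1 (flp_h L699183) (flp_f L698990) L718695
theorem L718703 : sm gg N53074 = N52253 := ded_50_1 (flp_h L710538) (flp_g L698992) L718695
theorem L718705 : sm gh N51182 = N53075 := rfl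
theorem L718707 : sm ga N53075 = N52200 := ded_17_1 L710043 (flp_a L698996) L718705
theorem L718709 : sm gc N53075 = N52100 := ded_32_1 L708990 (flp_c L699002) L718705
theorem L718711 : sm ge N53075 = N51238 := ded_43_1 (flp_h L699634) (flp_e L699004) L718705
theorem L718713 : sm gf N53075 = N52026 := ded_47_1 L708172 L699006 L718705
theorem L718715 : sm gg N53075 = N52255 := ded_50_1 (flp_h L710551) (flp_g L698998) L718705
theorem L718717 : sm gj N53075 = N52032 := ded_52_1 L708236 (flp_j L699000) L718705
theorem L718719 : sm gi N51182 = N53076 := rfl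
theorem L718721 : sm ga N53076 = N52640 := ded_18_1 (flp_i L713492) (flp_a L698996) L718719
theorem L718723 : sm gc N53076 = N52105 := ded_33_1 (flp_i L709045) (flp_c L699002) L718719
theorem L718725 : sm gd N53076 = N51184 := ded_39_1 (flp_i L699020) L698994 L718719
theorem L718727 : sm ge N53076 = N51239 := ded_44_1 (flp_i L699647) (flp_e L699004) L718719
theorem L718729 : sm gf N53076 = N52560 := ded_48_1 (flp_i L712888) L699006 L718719
theorem L718731 : sm gg N53076 = N52256 := ded_51_1 (flp_i L710555) (flp_g L698998) L718719
theorem L718733 : sm gj N53076 = N52110 := ded_53_1 (flp_i L709101) (flp_j L699000) L718719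
theorem L718735 : sm gg N51183 = N53077 := rfl
theorem L718737 : sm ga N53077 = N52027 := ded_15_1 L708178 (flp_a L699010) L718735
theorem L718739 : sm gb N53077 = N52596 := ded_23_1 L718683 L718671 L718735
theorem L718741 : sm gc N53077 = N51186 := ded_30_1 (flp_g L699036) (flp_c L699012) L718735
theorem L718743 : sm gd N53077 = N52553 := ded_36_1 L712839 (flp_d L699014) L718735
theorem L718745 : sm ge N53077 = N51199 := ded_41_1 (flp_g L699191) (flp_e L699018) L718735
theorem L718747 : sm gh N53077 = N52563 := ded_50_2 L718188 L718184 L718735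
theorem L718749 : sm gf N53077 = N52257 := ded_45_1 (flp_g L710561) (flp_f L689416) (flp_g L677505) L699008 L718735
theorem L718751 : sm gi N51183 = N53078 := rfl
theorem L718753 : sm ga N53078 = N52639 := ded_18_1 (flp_i L713482) (flp_a L699010) L718751
theorem L718755 : sm gc N53078 = N51187 := ded_33_1 (flp_i L699044) (flp_c L699012) L718751
theorem L718757 : sm gd N53078 = N52560 := ded_39_1 (flp_i L712888) (flp_d L699014) L718751
theorem L718759 : sm ge N53078 = N51200 := ded_44_1 (flp_i L699205) (flp_e L699018) L718751
theorem L718761 : sm gf N53078 = N51184 := ded_48_1 (flp_i L699020) L699008 L718751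
theorem L718763 : sm gj N53078 = N52569 := ded_53_1 (flp_i L712956) (flp_j L699016) L718751
theorem L718765 : sm gh N51184 = N53079 := rfl
theorem L718767 : sm gc N53079 = N51188 := ded_32_1 (flp_h L699052) (flp_c L699022) L718765
theorem L718769 : sm ge N53079 = N51185 := ded_43_1 (flp_h L699028) (flp_e L699024) L718765
theorem L718771 : sm gg N53079 = N52259 := ded_50_1 (flp_h L710575) (flp_g L699026) L718765
theorem L718773 : sm gd N51185 = N53080 := rfl
theorem L718775 : sm gf N53080 = N51202 := ded_35_2 (flp_d L699231) (flp_f L699032) L718773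
theorem L718777 : sm gg N53080 = N52260 := ded_36_2 (flp_d L710581) (flp_g L699034) L718773
theorem L718779 : sm gh N53080 = N51241 := ded_38_2 (flp_d L699676) (flp_h L678023) (flp_d L677511) L699028 L718773
theorem L718781 : sm gj N51186 = N53081 := rfl
theorem L718783 : sm gb N53081 = N51926 := ded_24_1 (flp_j L707133) (flp_b L699038) L718781
theorem L718785 : sm ge N53081 = N51203 := ded_42_1 (flp_j L699237) (flp_e L699040) L718781
theorem L718787 : sm gf N53081 = N52261 := ded_46_1 (flp_j L710587) (flp_f L699042) L718781
theorem L718789 : sm gi N51186 = N53082 := rfl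
theorem L718791 : sm gb N53082 = N51927 := ded_26_1 (flp_i L707139) (flp_b L699038) L718789
theorem L718793 : sm ge N53082 = N51204 := ded_44_1 (flp_i L699245) (flp_e L699040) L718789
theorem L718795 : sm gf N53082 = N52262 := ded_48_1 (flp_i L710593) (flp_f L699042) L718789
theorem L718797 : sm gg N53082 = N51187 := ded_51_1 (flp_i L699044) L699036 L718789
theorem L718799 : sm gh N51187 = N53083 := rfl
theorem L718801 : sm gb N53083 = N51928 := ded_25_1 (flp_h L707147) (flp_b L699046) L718799
theorem L718803 : sm ge N53083 = N51205 := ded_43_1 (flp_h L699255) (flp_e L699048) L718799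
theorem L718805 : sm gf N53083 = N51188 := ded_47_1 (flp_h L699052) (flp_f L699050) L718799
theorem L718807 : sm gd N51188 = N53084 := rfl
theorem L718809 : sm gb N53084 = N51929 := ded_20_1 (flp_d L707153) (flp_b L699054) L718807
theorem L718811 : sm gg N53084 = N52264 := ded_36_2 (flp_d L710609) (flp_g L699058) L718807
theorem L718813 : sm gi N51189 = N53085 := rfl
theorem L718815 : sm ga N53085 = N51190 := ded_18_1 (flp_i L699075) L699060 L718813
theorem L718817 : sm gb N53085 = N51876 := ded_26_1 (flp_i L706690) (flp_b L699073) L718813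
theorem L718819 : sm gc N53085 = N51930 := ded_33_1 (flp_i L707157) (flp_c L699062) L718813
theorem L718821 : sm gd N53085 = N51242 := ded_39_1 (flp_i L699683) (flp_d L699064) L718813
theorem L718823 : sm ge N53085 = N51874 := ded_44_1 (flp_i L706667) (flp_e L699066) L718813
theorem L718825 : sm gg N53085 = N53085 := ded_51_1 (flp_i L718813) L699068 L718813
theorem L718826 : sm gj N53085 = N51195 := ded_53_1 (flp_i L699137) (flp_j L699069) L718813
theorem L718828 : sm gh N51190 = N53086 := rfl
theorem L718830 : sm gb N53086 = N51191 := ded_25_1 (flp_h L699088) (flp_b L699077) L718828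
theorem L718832 : sm gc N53086 = N51933 := ded_32_1 (flp_h L707189) (flp_c L699079) L718828
theorem L718834 : sm ge N53086 = N52736 := ded_43_1 (flp_h L714208) (flp_e L699083) L718828
theorem L718836 : sm gg N53086 = N53086 := ded_50_1 (flp_h L718828) L699085 L718828
theorem L718837 : sm gj N53086 = N51198 := ded_52_1 (flp_h L699183) (flp_j L699086) L718828
theorem L718839 : sm gd N51191 = N53087 := rfl
theorem L718841 : sm ga N53087 = N52748 := ded_12_1 (flp_d L714303) (flp_a L699090) L718839
theorem L718843 : sm gg N53087 = N53087 := ded_36_2 (flp_d L718839) L699096 L718839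
theorem L718844 : sm gj N53087 = N51202 := ded_37_2 (flp_d L699231) (flp_j L699097) L718839
theorem L718846 : sm gh N53087 = N51244 := ded_38_2 (flp_d L699708) (flp_h L678072) (flp_d L677556) L699088 L718839
theorem L718848 : sm gj N51192 = N53088 := rfl
theorem L718850 : sm ga N53088 = N51653 := ded_16_1 L704282 (flp_a L699101) L718848
theorem L718852 : sm gb N53088 = N51938 := ded_24_1 (flp_j L707233) (flp_b L699103) L718848
theorem L718854 : sm gc N53088 = N51837 := ded_31_1 L706308 (flp_c L699105) L718848
theorem L718856 : sm gd N53088 = N51218 := ded_37_1 (flp_j L699402) (flp_d L699107) L718848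
theorem L718858 : sm gf N53088 = N53088 := ded_46_1 (flp_j L718848) L699109 L718848
theorem L718859 : sm gh N53088 = N52716 := ded_52_2 L718281 L718278 L718848
theorem L718861 : sm gg N53088 = N51203 := ded_49_1 (flp_j L699237) (flp_g L677667) (flp_j L677573) L699099 L718848
theorem L718863 : sm gi N51192 = N53089 := rfl
theorem L718865 : sm ga N53089 = N51663 := ded_18_1 (flp_i L704389) (flp_a L699101) L718863
theorem L718867 : sm gb N53089 = N51939 := ded_26_1 (flp_i L707240) (flp_b L699103) L718863
theorem L718869 : sm gc N53089 = N51844 := ded_33_1 (flp_i L706394) (flp_c L699105) L718863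
theorem L718871 : sm gd N53089 = N51219 := ded_39_1 (flp_i L699416) (flp_d L699107) L718863
theorem L718873 : sm gf N53089 = N53089 := ded_48_1 (flp_i L718863) L699109 L718863
theorem L718874 : sm gg N53089 = N51193 := ded_51_1 (flp_i L699110) L699099 L718863
theorem L718876 : sm gh N51193 = N53090 := rfl
theorem L718878 : sm ga N53090 = N52481 := ded_17_1 (flp_h L712296) (flp_a L699112) L718876
theorem L718880 : sm gb N53090 = N51940 := ded_25_1 (flp_h L707247) (flp_b L699114) L718876
theorem L718882 : sm gc N53090 = N52577 := ded_32_1 (flp_h L713018) (flp_c L699116) L718876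
theorem L718884 : sm gf N53090 = N51194 := ded_47_1 (flp_h L699124) (flp_f L699120) L718876
theorem L718886 : sm gj N53090 = N51205 := ded_52_1 (flp_h L699255) (flp_j L699122) L718876
theorem L718888 : sm gd N51194 = N53091 := rfl
theorem L718890 : sm ga N53091 = N52725 := ded_12_1 (flp_d L714105) (flp_a L699126) L718888
theorem L718892 : sm gb N53091 = N51941 := ded_20_1 (flp_d L707253) (flp_b L699128) L718888
theorem L718894 : sm gg N53091 = N53091 := ded_36_2 (flp_d L718888) L699134 L718888
theorem L718895 : sm gj N53091 = N51206 := ded_37_2 (flp_d L699261) (flp_j L699135) L718888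
theorem L718897 : sm gh N53091 = N51221 := ded_38_2 (flp_d L699444) (flp_h L677838) (flp_d L677583) L699124 L718888
theorem L718899 : sm gh N51195 = N53092 := rfl
theorem L718901 : sm ga N53092 = N51198 := ded_17_1 (flp_h L699183) (flp_a L699139) L718899
theorem L718903 : sm gb N53092 = N51884 := ded_25_1 (flp_h L706772) (flp_b L699141) L718899
theorem L718905 : sm gc N53092 = N51942 := ded_32_1 (flp_h L707260) (flp_c L699143) L718899
theorem L718907 : sm ge N53092 = N51881 := ded_43_1 (flp_h L706738) (flp_e L699147) L718899
theorem L718909 : sm gg N53092 = N51207 := ded_50_1 (flp_h L699269) (flp_g L699149) L718899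
theorem L718911 : sm gi N53092 = N51945 := ded_54_2 (flp_h L707286) (flp_i L685652) (flp_h L677605) L699137 L718899
theorem L718913 : sm gi N51196 = N53093 := rfl
theorem L718915 : sm ga N53093 = N51866 := ded_18_1 (flp_i L706591) (flp_a L699153) L718913
theorem L718917 : sm gb N53093 = N51200 := ded_26_1 (flp_i L699205) (flp_b L699155) L718913
theorem L718919 : sm gc N53093 = N51944 := ded_33_1 (flp_i L707279) (flp_c L699157) L718913
theorem L718921 : sm gd N53093 = N52019 := ded_39_1 (flp_i L708065) (flp_d L699159) L718913
theorem L718923 : sm gf N53093 = N51197 := ded_48_1 (flp_i L699167) L699151 L718913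
theorem L718925 : sm gg N53093 = N52597 := ded_51_1 (flp_i L713159) (flp_g L699165) L718913
theorem L718927 : sm gj N53093 = N52575 := ded_53_1 (flp_i L713002) (flp_j L699161) L718913
theorem L718929 : sm gh N51197 = N53094 := rfl
theorem L718931 : sm ga N53094 = N51881 := ded_17_1 (flp_h L706738) (flp_a L699169) L718929
theorem L718933 : sm gb N53094 = N51201 := ded_25_1 (flp_h L699217) (flp_b L699171) L718929
theorem L718935 : sm gc N53094 = N51945 := ded_32_1 (flp_h L707286) (flp_c L699173) L718929
theorem L718937 : sm ge N53094 = N51198 := ded_43_1 (flp_h L699183) (flp_e L699177) L718929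
theorem L718939 : sm gg N53094 = N51208 := ded_50_1 (flp_h L699284) (flp_g L699179) L718929
theorem L718941 : sm gj N53094 = N52736 := ded_52_1 (flp_h L714208) (flp_j L699181) L718929
theorem L718943 : sm gd N53094 = N52574 := ded_38_1 (flp_h L712994) L692334 (flp_h L686702) (flp_d L699175) L718929
theorem L718945 : sm gi N53094 = N51942 := ded_54_2 (flp_h L707260) (flp_i L685639) (flp_h L677623) L699167 L718929
theorem L718947 : sm gd N51198 = N53095 := rfl
theorem L718949 : sm gb N53095 = N51202 := ded_20_1 (flp_d L699231) (flp_b L699185) L718947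
theorem L718951 : sm gg N53095 = N51209 := ded_36_2 (flp_d L699301) (flp_g L699189) L718947
theorem L718953 : sm gh N53095 = N51246 := ded_38_2 (flp_d L699729) (flp_h L678096) (flp_d L677633) L699183 L718947
theorem L718955 : sm gj N51199 = N53096 := rfl
theorem L718957 : sm ga N53096 = N51982 := ded_16_1 L707613 (flp_a L699193) L718955
theorem L718959 : sm gb N53096 = N52022 := ded_24_1 L708119 (flp_b L699195) L718955
theorem L718961 : sm gc N53096 = N51203 := ded_31_1 (flp_j L699237) (flp_c L699197) L718955
theorem L718963 : sm gd N53096 = N51834 := ded_37_1 L706265 (flp_d L699199) L718955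
theorem L718965 : sm gf N53096 = N51210 := ded_46_1 (flp_j L699310) (flp_f L699203) L718955
theorem L718967 : sm gh N53096 = N52020 := ded_52_2 L708092 (flp_h L699201) L718955
theorem L718969 : sm gg N53096 = N51837 := ded_49_1 L706308 L685054 (flp_j L677645) L699191 L718955
theorem L718971 : sm gi N51199 = N53097 := rfl
theorem L718973 : sm ga N53097 = N51993 := ded_18_1 L707761 (flp_a L699193) L718971
theorem L718975 : sm gb N53097 = N52597 := ded_26_1 (flp_i L713159) (flp_b L699195) L718971
theorem L718977 : sm gc N53097 = N51204 := ded_33_1 (flp_i L699245) (flp_c L699197) L718971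
theorem L718979 : sm gd N53097 = N51991 := ded_39_1 L707742 (flp_d L699199) L718971
theorem L718981 : sm gf N53097 = N51211 := ded_48_1 (flp_i L699325) (flp_f L699203) L718971
theorem L718983 : sm gg N53097 = N51200 := ded_51_1 (flp_i L699205) L699191 L718971
theorem L718985 : sm gh N51200 = N53098 := rfl
theorem L718987 : sm ga N53098 = N52655 := ded_17_1 L713610 (flp_a L699207) L718985
theorem L718989 : sm gc N53098 = N51205 := ded_32_1 (flp_h L699255) (flp_c L699209) L718985
theorem L718991 : sm gf N53098 = N51201 := ded_47_1 (flp_h L699217) (flp_f L699213) L718985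
theorem L718993 : sm gj N53098 = N52577 := ded_52_1 (flp_h L713018) (flp_j L699215) L718985
theorem L718995 : sm gd N53098 = N52649 := ded_38_1 (flp_h L713556) L692899 (flp_h L692381) (flp_d L699211) L718985
theorem L718997 : sm ge N51202 = N53099 := rfl
theorem L718999 : sm ga N53099 = N52684 := ded_13_1 (flp_e L717768) L717758 L718997
theorem L719001 : sm gg N53099 = N51213 := ded_41_2 (flp_e L699356) (flp_g L699233) L718997
theorem L719003 : sm gh N53099 = N51247 := ded_43_2 (flp_e L699736) (flp_h L699235) L718997
theorem L719005 : sm gd N53099 = N52681 := ded_34_1 L713783 (flp_d L699229) L699223 L699231 L718997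
theorem L719007 : sm gi N51203 = N53100 := rfl
theorem L719009 : sm gb N53100 = N51952 := ded_26_1 (flp_i L707343) (flp_b L699239) L719007
theorem L719011 : sm gd N53100 = N51222 := ded_39_1 (flp_i L699454) (flp_d L699241) L719007
theorem L719013 : sm gf N53100 = N51214 := ded_48_1 (flp_i L699365) (flp_f L699243) L719007
theorem L719015 : sm gj N53100 = N51204 := ded_53_1 (flp_i L699245) L699237 L719007
theorem L719017 : sm gh N51204 = N53101 := rfl
theorem L719019 : sm gb N53101 = N51953 := ded_25_1 (flp_h L707351) (flp_b L699247) L719017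
theorem L719021 : sm gf N53101 = N51215 := ded_47_1 (flp_h L699376) (flp_f L699251) L719017
theorem L719023 : sm gg N53101 = N51205 := ded_50_1 (flp_h L699255) (flp_g L699253) L719017
theorem L719025 : sm gd N51205 = N53102 := rfl
theorem L719027 : sm gb N53102 = N51954 := ded_20_1 (flp_d L707357) (flp_b L699257) L719025
theorem L719029 : sm gf N53102 = N51206 := ded_35_2 (flp_d L699261) (flp_f L699259) L719025
theorem L719031 : sm gh N53102 = N51224 := ded_38_2 (flp_d L699471) (flp_h L677867) (flp_d L677679) L699255 L719025
theorem L719033 : sm gc N51206 = N53103 := rfl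
theorem L719035 : sm ga N53103 = N52280 := ded_11_1 (flp_c L717820) L717814 L719033
theorem L719037 : sm gg N53103 = N51217 := ded_30_2 (flp_c L699393) (flp_g L699265) L719033
theorem L719039 : sm gh N53103 = N51225 := ded_32_2 (flp_c L699478) (flp_h L699267) L719033
theorem L719041 : sm gd N53103 = N52276 := ded_27_2 L710737 (flp_d L699229) L699221 L699261 L719033
theorem L719043 : sm gd N51207 = N53104 := rfl
theorem L719045 : sm ga N53104 = N51209 := ded_12_1 (flp_d L699301) (flp_a L699271) L719043
theorem L719047 : sm gb N53104 = N51892 := ded_20_1 (flp_d L706855) (flp_b L699273) L719043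
theorem L719049 : sm gf N53104 = N51217 := ded_35_2 L699400 (flp_f L699279) L719043
theorem L719051 : sm gj N53104 = N53104 := ded_37_2 (flp_d L719043) L699281 L719043
theorem L719052 : sm gi N53104 = N51959 := ded_39_2 (flp_d L707411) (flp_i L699282) L719043
theorem L719054 : sm gc N53104 = N51216 := ded_27_1 (flp_d L699384) (flp_c L699345) L699352 (flp_c L699275) L719043
theorem L719056 : sm ge N53104 = N52120 := ded_34_2 (flp_d L709217) L688133 (flp_d L685355) (flp_e L699277) L719043
theorem L719058 : sm gh N53104 = N51228 := ded_38_2 L699516 (flp_h L678110) (flp_d L677699) L699269 L719043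
theorem L719060 : sm ge N51209 = N53105 := rfl
theorem L719062 : sm ga N53105 = N52120 := ded_13_1 (flp_e L719056) L719045 L719060
theorem L719064 : sm gb N53105 = N51213 := ded_21_1 (flp_e L699356) (flp_b L699303) L719060
theorem L719066 : sm gc N53105 = N51750 := ded_28_1 (flp_e L717868) L717866 L719060
theorem L719068 : sm gj N53105 = N53105 := ded_42_2 (flp_e L719060) L699307 L719060
theorem L719069 : sm gh N53105 = N51248 := ded_43_2 (flp_e L699745) (flp_h L699308) L719060
theorem L719071 : sm gi N53105 = N52295 := ded_44_2 (flp_e L718424) L718420 L719060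
theorem L719073 : sm gd N53105 = N52119 := ded_34_1 L709210 (flp_d L699297) L699292 L699301 L719060
theorem L719075 : sm gf N53105 = N51751 := ded_40_2 L705396 (flp_f L707480) L707478 (flp_f L699305) L719060
theorem L719077 : sm gi N51210 = N53106 := rfl
theorem L719079 : sm ga N53106 = N52000 := ded_18_1 L707830 (flp_a L699312) L719077
theorem L719081 : sm gb N53106 = N52612 := ded_26_1 (flp_i L713260) (flp_b L699314) L719077
theorem L719083 : sm gc N53106 = N51214 := ded_33_1 (flp_i L699365) (flp_c L699316) L719077
theorem L719085 : sm gd N53106 = N51999 := ded_39_1 L707821 (flp_d L699318) L719077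
theorem L719087 : sm ge N53106 = N52293 := ded_44_1 (flp_i L710895) (flp_e L699320) L719077
theorem L719089 : sm gg N53106 = N53106 := ded_51_1 (flp_i L719077) L699324 L719077
theorem L719090 : sm gj N53106 = N51211 := ded_53_1 (flp_i L699325) L699310 L719077
theorem L719092 : sm gh N51211 = N53107 := rfl
theorem L719094 : sm ga N53107 = N51946 := ded_17_1 L707302 (flp_a L699327) L719092
theorem L719096 : sm gb N53107 = N52616 := ded_25_1 (flp_h L713303) (flp_b L699329) L719092
theorem L719098 : sm gc N53107 = N51215 := ded_32_1 (flp_h L699376) (flp_c L699331) L719092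
theorem L719100 : sm ge N53107 = N52294 := ded_43_1 (flp_h L710903) (flp_e L699335) L719092
theorem L719102 : sm gg N53107 = N51212 := ded_50_1 (flp_h L699339) (flp_g L699337) L719092
theorem L719104 : sm gd N53107 = N51942 := ded_38_1 (flp_h L707260) L685643 L686227 (flp_d L699333) L719092
theorem L719106 : sm gi N53107 = N52574 := ded_54_2 (flp_h L712994) (flp_i L692328) (flp_h L677742) L699325 L719092
theorem L719108 : sm gf N51213 = N53108 := rfl
theorem L719110 : sm ga N53108 = N52693 := ded_14_1 L713874 (flp_a L699358) L719108
theorem L719112 : sm gb N53108 = N51751 := ded_22_1 (flp_f L719075) L719064 L719108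
theorem L719114 : sm gd N53108 = N52231 := ded_35_1 L710359 (flp_d L699363) L719108
theorem L719116 : sm gj N53108 = N53108 := ded_46_2 (flp_f L719108) L699360 L719108
theorem L719117 : sm gh N53108 = N51249 := ded_47_2 (flp_f L699759) (flp_h L699361) L719108
theorem L719119 : sm gi N53108 = N52292 := ded_48_2 L718439 L718435 L719108
theorem L719121 : sm ge N53108 = N51968 := ded_40_1 L707489 (flp_e L689722) (flp_f L677772) L699356 L719108
theorem L719123 : sm gh N51214 = N53109 := rfl
theorem L719125 : sm gb N53109 = N51965 := ded_25_1 (flp_h L707463) (flp_b L699367) L719123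
theorem L719127 : sm ge N53109 = N52296 := ded_43_1 (flp_h L710915) (flp_e L699371) L719123
theorem L719129 : sm gg N53109 = N53109 := ded_50_1 (flp_h L719123) L699373 L719123
theorem L719130 : sm gj N53109 = N51215 := ded_52_1 (flp_h L699376) (flp_j L699374) L719123
theorem L719132 : sm gd N51215 = N53110 := rfl
theorem L719134 : sm gb N53110 = N51966 := ded_20_1 (flp_d L707470) (flp_b L699378) L719132
theorem L719136 : sm gg N53110 = N51216 := ded_36_2 (flp_d L699384) (flp_g L699382) L719132
theorem L719138 : sm gh N53110 = N51227 := ded_38_2 (flp_d L699497) (flp_h L677890) (flp_d L677790) L699376 L719132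
theorem L719140 : sm gb N51217 = N53111 := rfl
theorem L719142 : sm gd N53111 = N51891 := ded_20_2 L706844 (flp_d L699400) L719140
theorem L719144 : sm gf N53111 = N51892 := ded_22_2 (flp_b L719047) L719049 L719140
theorem L719146 : sm gj N53111 = N53111 := ded_24_2 (flp_b L719140) L699397 L719140
theorem L719147 : sm gh N53111 = N51229 := ded_25_2 (flp_b L699518) (flp_h L699398) L719140
theorem L719149 : sm gi N53111 = N51962 := ded_26_2 L718497 L718493 L719140
theorem L719151 : sm ga N53111 = N52174 := ded_10_1 L709762 L688731 (flp_b L689693) (flp_a L699395) L719140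
theorem L719153 : sm gc N53111 = N51968 := ded_19_2 (flp_b L707487) (flp_c L685840) (flp_b L677807) L699393 L719140
theorem L719155 : sm gi N51218 = N53112 := rfl
theorem L719157 : sm ga N53112 = N51654 := ded_18_1 (flp_i L704286) (flp_a L699404) L719155
theorem L719159 : sm gb N53112 = N51969 := ded_26_1 (flp_i L707494) (flp_b L699406) L719155
theorem L719161 : sm gc N53112 = N51553 := ded_33_1 (flp_i L703359) (flp_c L699408) L719155
theorem L719163 : sm ge N53112 = N51552 := ded_44_1 (flp_i L703349) (flp_e L699410) L719155
theorem L719165 : sm gf N53112 = N53112 := ded_48_1 (flp_i L719155) L699412 L719155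
theorem L719166 : sm gg N53112 = N51222 := ded_51_1 (flp_i L699454) (flp_g L699414) L719155
theorem L719168 : sm gj N53112 = N51219 := ded_53_1 (flp_i L699416) L699402 L719155
theorem L719170 : sm gh N51219 = N53113 := rfl
theorem L719172 : sm ga N53113 = N51664 := ded_17_1 (flp_h L704398) (flp_a L699418) L719170
theorem L719174 : sm gb N53113 = N51970 := ded_25_1 (flp_h L707502) (flp_b L699420) L719170
theorem L719176 : sm gc N53113 = N51557 := ded_32_1 (flp_h L703403) (flp_c L699422) L719170
theorem L719178 : sm ge N53113 = N51556 := ded_43_1 (flp_h L703392) (flp_e L699424) L719170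
theorem L719180 : sm gf N53113 = N53113 := ded_47_1 (flp_h L719170) L699426 L719170
theorem L719181 : sm gg N53113 = N51220 := ded_50_1 (flp_h L699429) (flp_g L699427) L719170
theorem L719183 : sm gi N53113 = N53113 := ded_54_2 (flp_h L719170) (flp_i L699416) L677822 L699416 L719170
theorem L719184 : sm gd N51220 = N53114 := rfl
theorem L719186 : sm ga N53114 = N52482 := ded_12_1 (flp_d L712302) (flp_a L699431) L719184
theorem L719188 : sm gb N53114 = N51971 := ded_20_1 (flp_d L707509) (flp_b L699433) L719184
theorem L719190 : sm gf N53114 = N51221 := ded_35_2 (flp_d L699444) (flp_f L699439) L719184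
theorem L719192 : sm gj N53114 = N51224 := ded_37_2 (flp_d L699471) (flp_j L699441) L719184
theorem L719194 : sm gi N53114 = N53114 := ded_39_2 (flp_d L719184) L699443 L719184
theorem L719195 : sm gc N51221 = N53115 := rfl
theorem L719197 : sm ga N53115 = N52313 := ded_11_1 L711043 (flp_a L699446) L719195
theorem L719199 : sm gg N53115 = N53115 := ded_30_2 (flp_c L719195) L699450 L719195
theorem L719200 : sm gj N53115 = N51225 := ded_31_2 (flp_c L699478) (flp_j L699451) L719195
theorem L719202 : sm gi N53115 = N53115 := ded_33_2 (flp_c L719195) L699453 L719195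
theorem L719203 : sm gd N53115 = N52312 := ded_27_2 L711028 L689976 (flp_c L677844) L699444 L719195
theorem L719205 : sm gh N51222 = N53116 := rfl
theorem L719207 : sm gb N53116 = N51973 := ded_25_1 (flp_h L707525) (flp_b L699456) L719205
theorem L719209 : sm ge N53116 = N52726 := ded_43_1 L716017 L716009 L719205
theorem L719211 : sm gf N53116 = N51226 := ded_47_1 (flp_h L699487) (flp_f L699458) L719205
theorem L719213 : sm gj N53116 = N51223 := ded_52_1 (flp_h L699462) (flp_j L699460) L719205
theorem L719215 : sm gi N53116 = N53116 := ded_54_2 (flp_h L719205) (flp_i L699454) L677858 L699454 L719205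
theorem L719216 : sm gd N51223 = N53117 := rfl
theorem L719218 : sm gb N53117 = N51974 := ded_20_1 (flp_d L707535) (flp_b L699464) L719216
theorem L719220 : sm gf N53117 = N51227 := ded_35_2 (flp_d L699497) (flp_f L699466) L719216
theorem L719222 : sm gg N53117 = N51224 := ded_36_2 (flp_d L699471) (flp_g L699468) L719216
theorem L719224 : sm gi N53117 = N53117 := ded_39_2 (flp_d L719216) L699470 L719216
theorem L719225 : sm gc N51224 = N53118 := rfl
theorem L719227 : sm ga N53118 = N52307 := ded_11_1 (flp_c L717912) L717905 L719225
theorem L719229 : sm gf N53118 = N51225 := ded_29_2 (flp_c L699478) (flp_f L699475) L719225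
theorem L719231 : sm gi N53118 = N53118 := ded_33_2 (flp_c L719225) L699477 L719225
theorem L719232 : sm gd N53118 = N52303 := ded_27_2 L710975 (flp_d L694653) L694645 L699471 L719225
theorem L719234 : sm ge N51224 = N53119 := rfl
theorem L719236 : sm gb N53119 = N51976 := ded_21_1 (flp_e L707548) (flp_b L699473) L719234
theorem L719238 : sm gi N53119 = N53119 := ded_44_2 (flp_e L719234) L699477 L719234
theorem L719239 : sm gb N51225 = N53120 := rfl
theorem L719241 : sm gd N53120 = N52195 := ded_20_2 L709991 (flp_d L699485) L719239
theorem L719243 : sm gg N53120 = N51229 := ded_23_2 (flp_b L699518) (flp_g L699482) L719239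
theorem L719245 : sm gi N53120 = N53120 := ded_26_2 (flp_b L719239) L699484 L719239
theorem L719246 : sm ga N53120 = N52196 := ded_10_1 L710000 L688954 (flp_b L689903) (flp_a L699480) L719239
theorem L719248 : sm gc N53120 = N51977 := ded_19_2 (flp_b L707551) (flp_c L685892) (flp_b L677876) L699478 L719239
theorem L719250 : sm gd N51226 = N53121 := rfl
theorem L719252 : sm gb N53121 = N51978 := ded_20_1 (flp_d L707557) (flp_b L699489) L719250
theorem L719254 : sm gg N53121 = N53121 := ded_36_2 (flp_d L719250) L699493 L719250
theorem L719255 : sm gj N53121 = N51227 := ded_37_2 (flp_d L699497) (flp_j L699494) L719250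
theorem L719257 : sm gi N53121 = N53121 := ded_39_2 (flp_d L719250) L699496 L719250
theorem L719258 : sm ge N53121 = N52723 := ded_34_2 (flp_d L714092) L693728 (flp_d L677924) (flp_e L699491) L719250
theorem L719260 : sm gc N51227 = N53122 := rfl
theorem L719262 : sm ga N53122 = N51246 := ded_11_1 (flp_c L717937) L717930 L719260
theorem L719264 : sm ge N53122 = N52128 := ded_28_2 (flp_c L717419) L717421 L719260
theorem L719266 : sm gg N53122 = N51228 := ded_30_2 (flp_c L699504) (flp_g L699501) L719260
theorem L719268 : sm gi N53122 = N53122 := ded_33_2 (flp_c L719260) L699503 L719260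
theorem L719269 : sm gb N53122 = N52129 := ded_19_1 L709313 L707573 (flp_c L707565) (flp_b L699499) L719260
theorem L719271 : sm gd N53122 = N51245 := ded_27_2 L699722 (flp_d L694681) L694675 L699497 L719260
theorem L719273 : sm gi N51230 = N53123 := rfl
theorem L719275 : sm ga N53123 = N51231 := ded_18_1 (flp_i L699545) L699530 L719273
theorem L719277 : sm gb N53123 = N52739 := ded_26_1 L714238 (flp_b L699543) L719273
theorem L719279 : sm gc N53123 = N51250 := ded_33_1 (flp_i L699771) (flp_c L699532) L719273
theorem L719281 : sm ge N53123 = N52121 := ded_44_1 (flp_i L709224) (flp_e L699534) L719273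
theorem L719283 : sm gf N53123 = N51242 := ded_48_1 (flp_i L699683) (flp_f L699536) L719273
theorem L719285 : sm gg N53123 = N52704 := ded_51_1 (flp_i L713963) (flp_g L699538) L719273
theorem L719287 : sm gj N53123 = N51234 := ded_53_1 (flp_i L699585) (flp_j L699540) L719273
theorem L719289 : sm gh N51231 = N53124 := rfl
theorem L719291 : sm gb N53124 = N51232 := ded_25_1 (flp_h L699557) (flp_b L699547) L719289
theorem L719293 : sm gc N53124 = N51251 := ded_32_1 (flp_h L699786) (flp_c L699549) L719289
theorem L719295 : sm ge N53124 = N52122 := ded_43_1 (flp_h L709236) (flp_e L699551) L719289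
theorem L719297 : sm gf N53124 = N51243 := ded_47_1 (flp_h L699696) (flp_f L699553) L719289
theorem L719299 : sm gj N53124 = N51237 := ded_52_1 (flp_h L699623) (flp_j L699555) L719289
theorem L719301 : sm gi N53124 = N53124 := ded_54_2 (flp_h L719289) (flp_i L699545) L677935 L699545 L719289
theorem L719302 : sm gd N51232 = N53125 := rfl
theorem L719304 : sm ga N53125 = N52750 := ded_12_1 (flp_d L714318) (flp_a L699559) L719302
theorem L719306 : sm gf N53125 = N51244 := ded_35_2 (flp_d L699708) (flp_f L699565) L719302
theorem L719308 : sm gj N53125 = N51241 := ded_37_2 (flp_d L699676) (flp_j L699567) L719302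
theorem L719310 : sm gi N53125 = N53125 := ded_39_2 (flp_d L719302) L699569 L719302
theorem L719311 : sm gd N51233 = N53126 := rfl
theorem L719313 : sm ga N53126 = N51235 := ded_12_1 (flp_d L699597) (flp_a L699572) L719311
theorem L719315 : sm gb N53126 = N52670 := ded_20_1 L713690 (flp_b L699574) L719311
theorem L719317 : sm gf N53126 = N52113 := ded_35_2 L709133 (flp_f L699583) L719311
theorem L719319 : sm gg N53126 = N51847 := ded_36_2 L706440 (flp_g L699578) L719311
theorem L719321 : sm gj N53126 = N52107 := ded_37_2 L709073 (flp_j L699580) L719311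
theorem L719323 : sm gc N53126 = N51845 := ded_27_1 (flp_d L706403) L685089 (flp_d L678188) (flp_c L699576) L719311
theorem L719325 : sm gh N53126 = N52281 := ded_56_7 L710786 (flp_e L699320) L699318 L686822 L664385 L664383 (flp_h L369713) (flp_f L647136) (flp_e L369315) (flp_d L253979) (flp_c L253768) L253767 (flp_a L562927) (flp_h L562966) L253341 L253340 (flp_d L368271) (flp_c L662031) L662029 (flp_a L661137) L683645 L683653 L683651 L683687 L683695 (flp_b L688627) L688625 L667078 L387110 (flp_e L648855) (flp_d L379670) L260953 L260951 (flp_a L265545) (flp_h L265543) (flp_f L265533) (flp_e L615954) L546973 L264300 L264298 L181935 L182176 L182180 L125475 L125498 L125502 L554135 L86828 (flp_h L60141) (flp_f L59699) (flp_e L86289) (flp_d L125003) L125002 (flp_b L178218) L617227 (flp_h L636018) (flp_f L653941) L653939 L665781 (flp_c L678007) (flp_b L699599) (flp_a L719313)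
theorem L719327 : sm gi N51233 = N53127 := rfl
theorem L719329 : sm ga N53127 = N51236 := ded_18_1 (flp_i L699609) (flp_a L699572) L719327
theorem L719331 : sm gb N53127 = N52738 := ded_26_1 L714227 (flp_b L699574) L719327
theorem L719333 : sm gc N53127 = N51253 := ded_33_1 (flp_i L699813) (flp_c L699576) L719327
theorem L719335 : sm ge N53127 = N51234 := ded_44_1 (flp_i L699585) L699570 L719327
theorem L719337 : sm gf N53127 = N52124 := ded_48_1 (flp_i L709254) (flp_f L699583) L719327
theorem L719339 : sm gg N53127 = N52009 := ded_51_1 (flp_i L707943) (flp_g L699578) L719327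
theorem L719341 : sm gj N53127 = N52121 := ded_53_1 (flp_i L709224) (flp_j L699580) L719327
theorem L719343 : sm gh N51234 = N53128 := rfl
theorem L719345 : sm ga N53128 = N51237 := ded_17_1 (flp_h L699623) (flp_a L699587) L719343
theorem L719347 : sm gb N53128 = N52735 := ded_25_1 L714205 (flp_b L699589) L719343
theorem L719349 : sm gc N53128 = N51254 := ded_32_1 (flp_h L699828) (flp_c L699591) L719343
theorem L719351 : sm gf N53128 = N51245 := ded_47_1 (flp_h L699716) (flp_f L699593) L719343
theorem L719353 : sm gg N53128 = N52303 := ded_50_1 (flp_h L710971) (flp_g L699595) L719343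
theorem L719355 : sm gi N53128 = N53128 := ded_54_2 (flp_h L719343) (flp_i L699585) L677971 L699585 L719343
theorem L719356 : sm gh N51235 = N53129 := rfl
theorem L719358 : sm ga N53129 = N52281 := ded_17_1 (flp_h L719325) L719313 L719356
theorem L719360 : sm gb N53129 = N51238 := ded_25_1 (flp_h L699634) (flp_b L699599) L719356
theorem L719362 : sm gc N53129 = N51678 := ded_32_1 L704579 (flp_c L699607) L719356
theorem L719364 : sm gf N53129 = N51683 := ded_47_1 L704638 (flp_f L699601) L719356
theorem L719366 : sm gg N53129 = N52304 := ded_50_1 (flp_h L710980) (flp_g L699603) L719356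
theorem L719368 : sm gj N53129 = N51680 := ded_52_1 L704602 (flp_j L699605) L719356
theorem L719370 : sm gd N53129 = N53129 := ded_38_1 (flp_h L719356) (flp_d L699597) L677984 L699597 L719356
theorem L719371 : sm gi N51235 = N53130 := rfl
theorem L719373 : sm gb N53130 = N51239 := ded_26_1 (flp_i L699647) (flp_b L699599) L719371
theorem L719375 : sm gc N53130 = N52513 := ded_33_1 (flp_i L712524) (flp_c L699607) L719371
theorem L719377 : sm gd N53130 = N51236 := ded_39_1 (flp_i L699609) L699597 L719371
theorem L719379 : sm gf N53130 = N52114 := ded_48_1 (flp_i L709144) (flp_f L699601) L719371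
theorem L719381 : sm gg N53130 = N52305 := ded_51_1 (flp_i L710986) (flp_g L699603) L719371
theorem L719383 : sm gj N53130 = N52109 := ded_53_1 (flp_i L709091) (flp_j L699605) L719371
theorem L719385 : sm gh N51236 = N53131 := rfl
theorem L719387 : sm gb N53131 = N51240 := ded_25_1 (flp_h L699661) (flp_b L699611) L719385
theorem L719389 : sm gc N53131 = N51255 := ded_32_1 (flp_h L699838) (flp_c L699613) L719385
theorem L719391 : sm ge N53131 = N51237 := ded_43_1 (flp_h L699623) (flp_e L699615) L719385
theorem L719393 : sm gf N53131 = N52125 := ded_47_1 (flp_h L709267) (flp_f L699617) L719385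
theorem L719395 : sm gg N53131 = N52306 := ded_50_1 (flp_h L710993) (flp_g L699619) L719385
theorem L719397 : sm gj N53131 = N52122 := ded_52_1 (flp_h L709236) (flp_j L699621) L719385
theorem L719399 : sm gi N53131 = N53131 := ded_54_2 (flp_h L719385) (flp_i L699609) L677984 L699609 L719385
theorem L719400 : sm gd N51237 = N53132 := rfl
theorem L719402 : sm gb N53132 = N51241 := ded_20_1 (flp_d L699676) (flp_b L699625) L719400
theorem L719404 : sm gf N53132 = N51246 := ded_35_2 (flp_d L699729) (flp_f L699629) L719400
theorem L719406 : sm gg N53132 = N52307 := ded_36_2 (flp_d L711003) (flp_g L699631) L719400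
theorem L719408 : sm gi N53132 = N53132 := ded_39_2 (flp_d L719400) L699633 L719400
theorem L719409 : sm gi N51238 = N53133 := rfl
theorem L719411 : sm ga N53133 = N52201 := ded_18_1 (flp_i L710047) (flp_a L699636) L719409
theorem L719413 : sm gc N53133 = N52101 := ded_33_1 (flp_i L708996) (flp_c L699638) L719409
theorem L719415 : sm gd N53133 = N53133 := ded_39_1 (flp_i L719409) L699646 L719409
theorem L719416 : sm gf N53133 = N52001 := ded_48_1 L707841 (flp_f L699640) L719409
theorem L719418 : sm gg N53133 = N52308 := ded_51_1 (flp_i L711010) (flp_g L699642) L719409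
theorem L719420 : sm gj N53133 = N52002 := ded_53_1 L707851 (flp_j L699644) L719409
theorem L719422 : sm gh N51239 = N53134 := rfl
theorem L719424 : sm ga N53134 = N52675 := ded_17_1 (flp_h L713733) (flp_a L699649) L719422
theorem L719426 : sm gc N53134 = N52106 := ded_32_1 (flp_h L709057) (flp_c L699651) L719422
theorem L719428 : sm gf N53134 = N52115 := ded_47_1 (flp_h L709157) (flp_f L699655) L719422
theorem L719430 : sm gg N53134 = N52309 := ded_50_1 (flp_h L711014) (flp_g L699657) L719422
theorem L719432 : sm gj N53134 = N52111 := ded_52_1 (flp_h L709111) (flp_j L699659) L719422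
theorem L719434 : sm gd N51240 = N53135 := rfl
theorem L719436 : sm ga N53135 = N52756 := ded_12_1 (flp_d L714374) (flp_a L699663) L719434
theorem L719438 : sm gf N53135 = N52126 := ded_35_2 (flp_d L709279) (flp_f L699669) L719434
theorem L719440 : sm gg N53135 = N52310 := ded_36_2 (flp_d L711017) (flp_g L699671) L719434
theorem L719442 : sm gj N53135 = N52123 := ded_37_2 (flp_d L709245) (flp_j L699673) L719434
theorem L719444 : sm gi N53135 = N53135 := ded_39_2 (flp_d L719434) L699675 L719434
theorem L719445 : sm gc N53135 = N52302 := ded_27_1 (flp_d L710964) L689794 (flp_d L678046) (flp_c L699665) L719434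
theorem L719447 : sm ge N51241 = N53136 := rfl
theorem L719449 : sm gg N53136 = N52311 := ded_41_2 (flp_e L711021) (flp_g L699680) L719447
theorem L719451 : sm gi N53136 = N53136 := ded_44_2 (flp_e L719447) L699682 L719447
theorem L719452 : sm gh N51242 = N53137 := rfl
theorem L719454 : sm ga N53137 = N51243 := ded_17_1 (flp_h L699696) (flp_a L699685) L719452
theorem L719456 : sm gb N53137 = N52734 := ded_25_1 L714197 (flp_b L699687) L719452
theorem L719458 : sm gc N53137 = N51257 := ded_32_1 (flp_h L699866) (flp_c L699689) L719452
theorem L719460 : sm ge N53137 = N52731 := ded_43_1 (flp_h L714150) (flp_e L699691) L719452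
theorem L719462 : sm gg N53137 = N53137 := ded_50_1 (flp_h L719452) L699693 L719452
theorem L719463 : sm gj N53137 = N51245 := ded_52_1 (flp_h L699716) (flp_j L699694) L719452
theorem L719465 : sm gi N53137 = N53137 := ded_54_2 (flp_h L719452) (flp_i L699683) L678058 L699683 L719452
theorem L719466 : sm gd N51243 = N53138 := rfl
theorem L719468 : sm gb N53138 = N51244 := ded_20_1 (flp_d L699708) (flp_b L699698) L719466
theorem L719470 : sm gg N53138 = N53138 := ded_36_2 (flp_d L719466) L699704 L719466
theorem L719471 : sm gj N53138 = N51246 := ded_37_2 (flp_d L699729) (flp_j L699705) L719466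
theorem L719473 : sm gi N53138 = N53138 := ded_39_2 (flp_d L719466) L699707 L719466
theorem L719474 : sm ge N51244 = N53139 := rfl
theorem L719476 : sm ga N53139 = N52752 := ded_13_1 (flp_e L714331) (flp_a L699710) L719474
theorem L719478 : sm gg N53139 = N53139 := ded_41_2 (flp_e L719474) L699712 L719474
theorem L719479 : sm gj N53139 = N51247 := ded_42_2 (flp_e L699736) (flp_j L699713) L719474
theorem L719481 : sm gi N53139 = N53139 := ded_44_2 (flp_e L719474) L699715 L719474
theorem L719482 : sm gd N53139 = N52733 := ded_34_1 (flp_e L714178) (flp_d L693900) (flp_e L678078) L699708 L719474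
theorem L719484 : sm ge N51246 = N53140 := rfl
theorem L719486 : sm ga N53140 = N52128 := ded_13_1 (flp_e L719264) L719262 L719484
theorem L719488 : sm gb N53140 = N51247 := ded_21_1 (flp_e L699736) (flp_b L699731) L719484
theorem L719490 : sm gc N53140 = N51760 := ded_28_1 (flp_e L717939) L717937 L719484
theorem L719492 : sm gg N53140 = N51248 := ded_41_2 (flp_e L699745) (flp_g L699733) L719484
theorem L719494 : sm gi N53140 = N53140 := ded_44_2 (flp_e L719484) L699735 L719484
theorem L719495 : sm gd N53140 = N52127 := ded_34_1 L709297 (flp_d L694758) L694750 L699729 L719484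
theorem L719497 : sm gf N51247 = N53141 := rfl
theorem L719499 : sm ga N53141 = N52759 := ded_14_1 L714403 (flp_a L699738) L719497
theorem L719501 : sm gd N53141 = N52757 := ded_35_1 L714386 (flp_d L699743) L719497
theorem L719503 : sm gi N53141 = N53141 := ded_48_2 (flp_f L719497) L699742 L719497
theorem L719504 : sm gg N51249 = N53142 := rfl
theorem L719506 : sm ga N53142 = N52765 := ded_15_1 L714446 (flp_a L699761) L719504
theorem L719508 : sm gb N53142 = N51758 := ded_23_1 L705467 (flp_b L699763) L719504
theorem L719510 : sm gd N53142 = N52764 := ded_36_1 L714437 (flp_d L699765) L719504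
theorem L719512 : sm ge N53142 = N51977 := ded_41_1 L707554 (flp_e L699769) L719504
theorem L719514 : sm gi N53142 = N53142 := ded_51_2 (flp_g L719504) L699768 L719504
theorem L719515 : sm gj N52770 = N53142 := ded_24_0 L719508 L705469 (flp_b L714474)
theorem L719517 : sm gh N51250 = N53143 := rfl
theorem L719519 : sm ga N53143 = N51251 := ded_17_1 (flp_h L699786) (flp_a L699773) L719517
theorem L719521 : sm gb N53143 = N53143 := ded_25_1 (flp_h L719517) L699775 L719517
theorem L719522 : sm ge N53143 = N52130 := ded_43_1 (flp_h L709320) (flp_e L699778) L719517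
theorem L719524 : sm gf N53143 = N51257 := ded_47_1 (flp_h L699866) (flp_f L699780) L719517
theorem L719526 : sm gg N53143 = N52706 := ded_50_1 (flp_h L713981) (flp_g L699782) L719517
theorem L719528 : sm gj N53143 = N51254 := ded_52_1 (flp_h L699828) (flp_j L699784) L719517
theorem L719530 : sm gi N53143 = N53143 := ded_54_2 (flp_h L719517) (flp_i L699771) L678152 L699771 L719517
theorem L719531 : sm gd N51251 = N53144 := rfl
theorem L719533 : sm gb N53144 = N51252 := ded_20_1 (flp_d L699797) (flp_b L699788) L719531
theorem L719535 : sm gf N53144 = N51258 := ded_35_2 (flp_d L699875) (flp_f L699792) L719531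
theorem L719537 : sm gg N53144 = N51656 := ded_36_2 (flp_d L717035) L717031 L719531
theorem L719539 : sm gj N53144 = N51256 := ded_37_2 (flp_d L699853) (flp_j L699794) L719531
theorem L719541 : sm gi N53144 = N53144 := ded_39_2 (flp_d L719531) L699796 L719531
theorem L719542 : sm ge N53144 = N51479 := ded_34_2 L702586 L709341 (flp_d L709330) (flp_e L699790) L719531
theorem L719544 : sm gh N53144 = N51478 := ded_38_2 L702566 L685980 (flp_d L678158) L699786 L719531
theorem L719546 : sm gh N51253 = N53145 := rfl
theorem L719548 : sm ga N53145 = N51255 := ded_17_1 (flp_h L699838) (flp_a L699815) L719546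
theorem L719550 : sm gb N53145 = N53145 := ded_25_1 (flp_h L719546) L699817 L719546
theorem L719551 : sm ge N53145 = N51254 := ded_43_1 (flp_h L699828) (flp_e L699820) L719546
theorem L719553 : sm gf N53145 = N52132 := ded_47_1 (flp_h L709343) (flp_f L699822) L719546
theorem L719555 : sm gg N53145 = N52010 := ded_50_1 (flp_h L707954) (flp_g L699824) L719546
theorem L719557 : sm gj N53145 = N52130 := ded_52_1 (flp_h L709320) (flp_j L699826) L719546
theorem L719559 : sm gd N53145 = N52491 := ded_38_1 (flp_h L712360) (flp_d L707858) L707868 (flp_d L699818) L719546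
theorem L719561 : sm gi N53145 = N53145 := ded_54_2 (flp_h L719546) (flp_i L699813) L678187 L699813 L719546
theorem L719562 : sm gi N51267 = N53146 := rfl
theorem L719564 : sm ga N53146 = N51334 := ded_18_1 (flp_i L700927) (flp_a L700024) L719562
theorem L719566 : sm gb N53146 = N51279 := ded_26_1 (flp_i L700221) (flp_b L700026) L719562
theorem L719568 : sm gc N53146 = N51344 := ded_33_1 (flp_i L701041) (flp_c L700038) L719562
theorem L719570 : sm gd N53146 = N51268 := ded_39_1 (flp_i L700040) L700022 L719562
theorem L719572 : sm ge N53146 = N51294 := ded_44_1 (flp_i L700425) (flp_e L700034) L719562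
theorem L719574 : sm gf N53146 = N51311 := ded_48_1 (flp_i L700650) (flp_f L700028) L719562
theorem L719576 : sm gg N53146 = N51269 := ded_51_1 (flp_i L700057) (flp_g L700030) L719562
theorem L719578 : sm gj N53146 = N51451 := ded_53_1 (flp_i L702257) (flp_j L700032) L719562
theorem L719580 : sm gh N51269 = N53147 := rfl
theorem L719582 : sm ga N53147 = N52042 := ded_17_1 (flp_h L708362) (flp_a L700059) L719580
theorem L719584 : sm gb N53147 = N51282 := ded_25_1 (flp_h L700269) (flp_b L700061) L719580
theorem L719586 : sm gc N53147 = N52332 := ded_32_1 (flp_h L711204) (flp_c L700063) L719580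
theorem L719588 : sm ge N53147 = N52331 := ded_43_1 (flp_h L711198) (flp_e L700067) L719580
theorem L719590 : sm gf N53147 = N52035 := ded_47_1 (flp_h L708272) (flp_f L700069) L719580
theorem L719592 : sm gj N53147 = N51381 := ded_52_1 (flp_h L701494) (flp_j L700071) L719580
theorem L719594 : sm gd N53147 = N51307 := ded_38_1 (flp_h L700593) L679278 (flp_h L678548) (flp_d L700065) L719580
theorem L719596 : sm gi N53147 = N52326 := ded_54_2 (flp_h L711160) (flp_i L690111) (flp_h L678531) L700057 L719580
theorem L719598 : sm gi N51270 = N53148 := rfl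
theorem L719600 : sm ga N53148 = N51285 := ded_18_1 (flp_i L700313) (flp_a L700075) L719598
theorem L719602 : sm gb N53148 = N51317 := ded_26_1 (flp_i L700723) (flp_b L700077) L719598
theorem L719604 : sm gc N53148 = N51289 := ded_33_1 (flp_i L700368) (flp_c L700087) L719598
theorem L719606 : sm gd N53148 = N51271 := ded_39_1 (flp_i L700091) L700073 L719598
theorem L719608 : sm ge N53148 = N51287 := ded_44_1 (flp_i L700342) L700089 L719598
theorem L719610 : sm gf N53148 = N51304 := ded_48_1 (flp_i L700551) (flp_f L700079) L719598
theorem L719612 : sm gg N53148 = N51274 := ded_51_1 (flp_i L700141) (flp_g L700081) L719598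
theorem L719614 : sm gj N53148 = N51429 := ded_53_1 (flp_i L702053) (flp_j L700083) L719598
theorem L719616 : sm gi N51272 = N53149 := rfl
theorem L719618 : sm ga N53149 = N51287 := ded_18_1 (flp_i L700342) (flp_a L700109) L719616
theorem L719620 : sm gb N53149 = N51353 := ded_26_1 (flp_i L701142) (flp_b L700119) L719616
theorem L719622 : sm gc N53149 = N51274 := ded_33_1 (flp_i L700141) L700107 L719616
theorem L719624 : sm gd N53149 = N53149 := ded_39_1 (flp_i L719616) L700121 L719616
theorem L719625 : sm ge N53149 = N51285 := ded_44_1 (flp_i L700313) L700122 L719616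
theorem L719627 : sm gf N53149 = N51351 := ded_48_1 (flp_i L701115) (flp_f L700111) L719616
theorem L719629 : sm gg N53149 = N51289 := ded_51_1 (flp_i L700368) (flp_g L700113) L719616
theorem L719631 : sm gj N53149 = N51390 := ded_53_1 (flp_i L701610) (flp_j L700115) L719616
theorem L719633 : sm gi N51273 = N53150 := rfl
theorem L719635 : sm ga N53150 = N51289 := ded_18_1 (flp_i L700368) (flp_a L700126) L719633
theorem L719637 : sm gb N53150 = N52040 := ded_26_1 (flp_i L708337) (flp_b L700128) L719633
theorem L719639 : sm gc N53150 = N51285 := ded_33_1 (flp_i L700313) (flp_c L700130) L719633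
theorem L719641 : sm gd N53150 = N53150 := ded_39_1 (flp_i L719633) L700138 L719633
theorem L719642 : sm ge N53150 = N51274 := ded_44_1 (flp_i L700141) L700124 L719633
theorem L719644 : sm gf N53150 = N52038 := ded_48_1 (flp_i L708312) (flp_f L700139) L719633
theorem L719646 : sm gg N53150 = N51287 := ded_51_1 (flp_i L700342) (flp_g L700132) L719633
theorem L719648 : sm gj N53150 = N51391 := ded_53_1 (flp_i L701623) (flp_j L700134) L719633
theorem L719650 : sm gh N51274 = N53151 := rfl
theorem L719652 : sm ga N53151 = N51290 := ded_17_1 (flp_h L700375) (flp_a L700143) L719650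
theorem L719654 : sm gb N53151 = N52326 := ded_25_1 (flp_h L711160) (flp_b L700145) L719650
theorem L719656 : sm gf N53151 = N52316 := ded_47_1 (flp_h L711056) (flp_f L700149) L719650
theorem L719658 : sm gj N53151 = N51392 := ded_52_1 (flp_h L701636) (flp_j L700151) L719650
theorem L719660 : sm gd N53151 = N51316 := ded_38_1 (flp_h L700713) L679334 (flp_h L678636) (flp_d L700147) L719650
theorem L719662 : sm gi N53151 = N51282 := ded_54_2 (flp_h L700269) (flp_i L678736) (flp_h L678622) L700141 L719650
theorem L719664 : sm gi N51276 = N53152 := rfl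
theorem L719666 : sm ga N53152 = N51291 := ded_18_1 (flp_i L700385) (flp_a L700172) L719664
theorem L719668 : sm gb N53152 = N51311 := ded_26_1 (flp_i L700650) (flp_b L700174) L719664
theorem L719670 : sm gc N53152 = N51296 := ded_33_1 (flp_i L700447) (flp_c L700182) L719664
theorem L719672 : sm gd N53152 = N51277 := ded_39_1 (flp_i L700188) L700170 L719664
theorem L719674 : sm ge N53152 = N51306 := ded_44_1 (flp_i L700582) L700186 L719664
theorem L719676 : sm gf N53152 = N51279 := ded_48_1 (flp_i L700221) (flp_f L700176) L719664
theorem L719678 : sm gg N53152 = N51303 := ded_51_1 (flp_i L700537) (flp_g L700178) L719664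
theorem L719680 : sm gj N53152 = N51454 := ded_53_1 (flp_i L702289) (flp_j L700180) L719664
theorem L719682 : sm gh N51279 = N53153 := rfl
theorem L719684 : sm ga N53153 = N51293 := ded_17_1 (flp_h L700419) (flp_a L700223) L719682
theorem L719686 : sm gc N53153 = N51297 := ded_32_1 (flp_h L700463) (flp_c L700225) L719682
theorem L719688 : sm ge N53153 = N51295 := ded_43_1 (flp_h L700439) (flp_e L700229) L719682
theorem L719690 : sm gg N53153 = N51282 := ded_50_1 (flp_h L700269) (flp_g L700231) L719682
theorem L719692 : sm gj N53153 = N51455 := ded_52_1 (flp_h L702299) (flp_j L700233) L719682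
theorem L719694 : sm gd N53153 = N51322 := ded_38_1 (flp_h L700793) L679430 (flp_h L678704) (flp_d L700227) L719682
theorem L719696 : sm gh N51280 = N53154 := rfl
theorem L719698 : sm ga N53154 = N51295 := ded_17_1 (flp_h L700439) (flp_a L700237) L719696
theorem L719700 : sm gc N53154 = N51282 := ded_32_1 (flp_h L700269) (flp_c L700239) L719696
theorem L719702 : sm ge N53154 = N51293 := ded_43_1 (flp_h L700419) (flp_e L700243) L719696
theorem L719704 : sm gf N53154 = N52318 := ded_47_1 (flp_h L711088) (flp_f L700245) L719696
theorem L719706 : sm gg N53154 = N51297 := ded_50_1 (flp_h L700463) (flp_g L700247) L719696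
theorem L719708 : sm gj N53154 = N51405 := ded_52_1 (flp_h L701794) (flp_j L700249) L719696
theorem L719710 : sm gh N51281 = N53155 := rfl
theorem L719712 : sm ga N53155 = N51297 := ded_17_1 (flp_h L700463) (flp_a L700253) L719710
theorem L719714 : sm gb N53155 = N52331 := ded_25_1 (flp_h L711198) (flp_b L700255) L719710
theorem L719716 : sm gc N53155 = N51293 := ded_32_1 (flp_h L700419) (flp_c L700257) L719710
theorem L719718 : sm ge N53155 = N51282 := ded_43_1 (flp_h L700269) (flp_e L700261) L719710
theorem L719720 : sm gf N53155 = N52333 := ded_47_1 (flp_h L711208) (flp_f L700263) L719710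
theorem L719722 : sm gg N53155 = N51295 := ded_50_1 (flp_h L700439) (flp_g L700265) L719710
theorem L719724 : sm gj N53155 = N51406 := ded_52_1 (flp_h L701802) (flp_j L700267) L719710
theorem L719726 : sm gd N51283 = N53156 := rfl
theorem L719728 : sm ga N53156 = N51299 := ded_12_1 (flp_d L700486) (flp_a L700281) L719726
theorem L719730 : sm gb N53156 = N52341 := ded_20_1 (flp_d L711264) (flp_b L700283) L719726
theorem L719732 : sm gf N53156 = N52342 := ded_35_2 (flp_d L711273) (flp_f L700289) L719726
theorem L719734 : sm gg N53156 = N51301 := ded_36_2 (flp_d L700510) (flp_g L700291) L719726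
theorem L719736 : sm gj N53156 = N51409 := ded_37_2 (flp_d L701839) (flp_j L700293) L719726
theorem L719738 : sm gi N53156 = N53156 := ded_39_2 (flp_d L719726) L700295 L719726
theorem L719739 : sm gc N53156 = N51362 := ded_27_1 (flp_d L701219) L679966 (flp_d L679159) (flp_c L700285) L719726
theorem L719741 : sm ge N53156 = N51329 := ded_34_2 (flp_d L700866) L679525 (flp_d L678787) (flp_e L700287) L719726
theorem L719743 : sm gd N51284 = N53157 := rfl
theorem L719745 : sm ga N53157 = N51301 := ded_12_1 (flp_d L700510) (flp_a L700298) L719743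
theorem L719747 : sm gb N53157 = N52328 := ded_20_1 L711181 (flp_b L700300) L719743
theorem L719749 : sm gf N53157 = N52320 := ded_35_2 (flp_d L711109) (flp_f L700306) L719743
theorem L719751 : sm gg N53157 = N51299 := ded_36_2 (flp_d L700486) (flp_g L700308) L719743
theorem L719753 : sm gj N53157 = N51414 := ded_37_2 (flp_d L701910) (flp_j L700310) L719743
theorem L719755 : sm gi N53157 = N53157 := ded_39_2 (flp_d L719743) L700312 L719743
theorem L719756 : sm gc N53157 = N51333 := ded_27_1 (flp_d L700918) L679579 (flp_d L678873) (flp_c L700302) L719743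
theorem L719758 : sm ge N53157 = N51359 := ded_34_2 (flp_d L701193) L679911 (flp_d L679088) (flp_e L700304) L719743
theorem L719760 : sm gh N51285 = N53158 := rfl
theorem L719762 : sm gb N53158 = N52338 := ded_25_1 (flp_h L711242) (flp_b L700315) L719760
theorem L719764 : sm gf N53158 = N52336 := ded_47_1 (flp_h L711226) (flp_f L700319) L719760
theorem L719766 : sm gg N53158 = N51290 := ded_50_1 (flp_h L700375) (flp_g L700321) L719760
theorem L719768 : sm gj N53158 = N52466 := ded_52_1 (flp_h L712189) (flp_j L700323) L719760
theorem L719770 : sm gd N53158 = N51338 := ded_38_1 (flp_h L700977) L679679 (flp_h L678900) (flp_d L700317) L719760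
theorem L719772 : sm gi N53158 = N51293 := ded_54_2 (flp_h L700419) (flp_i L679002) (flp_h L678886) L700313 L719760
theorem L719774 : sm gi N51286 = N53159 := rfl
theorem L719776 : sm ga N53159 = N51344 := ded_18_1 (flp_i L701041) (flp_a L700338) L719774
theorem L719778 : sm gb N53159 = N51287 := ded_26_1 (flp_i L700342) L700325 L719774
theorem L719780 : sm gc N53159 = N51334 := ded_33_1 (flp_i L700927) (flp_c L700340) L719774
theorem L719782 : sm gd N53159 = N53159 := ded_39_1 (flp_i L719774) L700327 L719774
theorem L719783 : sm ge N53159 = N51317 := ded_44_1 (flp_i L700723) (flp_e L700328) L719774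
theorem L719785 : sm gf N53159 = N51336 := ded_48_1 (flp_i L700955) (flp_f L700330) L719774
theorem L719787 : sm gg N53159 = N52040 := ded_51_1 (flp_i L708337) (flp_g L700332) L719774
theorem L719789 : sm gj N53159 = N51428 := ded_53_1 (flp_i L702044) (flp_j L700334) L719774
theorem L719791 : sm gh N51287 = N53160 := rfl
theorem L719793 : sm gc N53160 = N51290 := ded_32_1 (flp_h L700375) (flp_c L700344) L719791
theorem L719795 : sm gf N53160 = N52321 := ded_47_1 (flp_h L711118) (flp_f L700347) L719791
theorem L719797 : sm gj N53160 = N51430 := ded_52_1 (flp_h L702065) (flp_j L700349) L719791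
theorem L719799 : sm gi N53160 = N51295 := ded_54_2 (flp_h L700439) (flp_i L679020) (flp_h L678908) L700342 L719791
theorem L719801 : sm gi N51288 = N53161 := rfl
theorem L719803 : sm ga N53161 = N52038 := ded_18_1 (flp_i L708312) (flp_a L700353) L719801
theorem L719805 : sm gb N53161 = N51315 := ded_26_1 (flp_i L700704) (flp_b L700355) L719801
theorem L719807 : sm gc N53161 = N51304 := ded_33_1 (flp_i L700551) (flp_c L700357) L719801
theorem L719809 : sm gd N53161 = N53161 := ded_39_1 (flp_i L719801) L700359 L719801
theorem L719810 : sm ge N53161 = N51303 := ded_44_1 (flp_i L700537) (flp_e L700364) L719801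
theorem L719812 : sm gf N53161 = N51289 := ded_48_1 (flp_i L700368) L700351 L719801
theorem L719814 : sm gg N53161 = N51306 := ded_51_1 (flp_i L700582) (flp_g L700366) L719801
theorem L719816 : sm gj N53161 = N51432 := ded_53_1 (flp_i L702088) (flp_j L700360) L719801
theorem L719818 : sm gh N51289 = N53162 := rfl
theorem L719820 : sm ge N53162 = N51290 := ded_43_1 (flp_h L700375) (flp_e L700371) L719818
theorem L719822 : sm gj N53162 = N51433 := ded_52_1 (flp_h L702101) (flp_j L700373) L719818
theorem L719824 : sm gi N53162 = N51297 := ded_54_2 (flp_h L700463) (flp_i L679044) (flp_h L678915) L700368 L719818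
theorem L719826 : sm gh N51291 = N53163 := rfl
theorem L719828 : sm gb N53163 = N52037 := ded_25_1 (flp_h L708300) (flp_b L700387) L719826
theorem L719830 : sm gc N53163 = N52333 := ded_32_1 (flp_h L711208) (flp_c L700389) L719826
theorem L719832 : sm ge N53163 = N52329 := ded_43_1 (flp_h L711183) (flp_e L700393) L719826
theorem L719834 : sm gf N53163 = N51293 := ded_47_1 (flp_h L700419) (flp_f L700395) L719826
theorem L719836 : sm gg N53163 = N52039 := ded_50_1 (flp_h L708325) (flp_g L700397) L719826
theorem L719838 : sm gj N53163 = N52423 := ded_52_1 (flp_h L711903) (flp_j L700399) L719826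
theorem L719840 : sm gd N53163 = N51345 := ded_38_1 (flp_h L701048) L679754 (flp_h L678968) (flp_d L700391) L719826
theorem L719842 : sm gi N53163 = N52336 := ded_54_2 (flp_h L711226) (flp_i L690206) (flp_h L678953) L700385 L719826
theorem L719844 : sm gh N51292 = N53164 := rfl
theorem L719846 : sm ga N53164 = N51455 := ded_17_1 (flp_h L702299) (flp_a L700403) L719844
theorem L719848 : sm gb N53164 = N52049 := ded_25_1 L708460 (flp_b L700405) L719844
theorem L719850 : sm gc N53164 = N51406 := ded_32_1 (flp_h L701802) (flp_c L700407) L719844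
theorem L719852 : sm ge N53164 = N51405 := ded_43_1 (flp_h L701794) (flp_e L700411) L719844
theorem L719854 : sm gf N53164 = N52423 := ded_47_1 (flp_h L711903) (flp_f L700413) L719844
theorem L719856 : sm gg N53164 = N51444 := ded_50_1 (flp_h L702201) (flp_g L700415) L719844
theorem L719858 : sm gj N53164 = N51293 := ded_52_1 (flp_h L700419) (flp_j L700417) L719844
theorem L719860 : sm gd N53164 = N51346 := ded_38_1 (flp_h L701054) L679766 (flp_h L679000) (flp_d L700409) L719844
theorem L719862 : sm gi N53164 = N52466 := ded_54_2 (flp_h L712189) (flp_i L691275) (flp_h L678986) L700401 L719844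
theorem L719864 : sm gh N51294 = N53165 := rfl
theorem L719866 : sm gb N53165 = N51295 := ded_25_1 (flp_h L700439) (flp_b L700427) L719864
theorem L719868 : sm gc N53165 = N51345 := ded_32_1 (flp_h L701048) (flp_c L700429) L719864
theorem L719870 : sm gf N53165 = N51348 := ded_47_1 (flp_h L701079) (flp_f L700433) L719864
theorem L719872 : sm gg N53165 = N52331 := ded_50_1 (flp_h L711198) (flp_g L700435) L719864
theorem L719874 : sm gj N53165 = N51452 := ded_52_1 (flp_h L702267) (flp_j L700437) L719864
theorem L719876 : sm gd N51295 = N53166 := rfl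
theorem L719878 : sm gf N53166 = N52323 := ded_35_2 (flp_d L711134) (flp_f L700443) L719876
theorem L719880 : sm gj N53166 = N51456 := ded_37_2 (flp_d L702305) (flp_j L700445) L719876
theorem L719882 : sm gc N53166 = N51355 := ded_27_1 (flp_d L701161) L679878 (flp_d L679058) (flp_c L700441) L719876
theorem L719884 : sm gh N53166 = N51301 := ded_38_2 (flp_d L700510) (flp_h L679174) (flp_d L679024) L700439 L719876
theorem L719886 : sm gh N51296 = N53167 := rfl
theorem L719888 : sm ga N53167 = N52333 := ded_17_1 (flp_h L711208) (flp_a L700449) L719886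
theorem L719890 : sm gb N53167 = N51326 := ded_25_1 (flp_h L700830) (flp_b L700451) L719886
theorem L719892 : sm ge N53167 = N51307 := ded_43_1 (flp_h L700593) (flp_e L700455) L719886
theorem L719894 : sm gf N53167 = N51297 := ded_47_1 (flp_h L700463) (flp_f L700457) L719886
theorem L719896 : sm gg N53167 = N52335 := ded_50_1 (flp_h L711220) (flp_g L700459) L719886
theorem L719898 : sm gj N53167 = N51458 := ded_52_1 (flp_h L702327) (flp_j L700461) L719886
theorem L719900 : sm gd N51297 = N53168 := rfl
theorem L719902 : sm gj N53168 = N51459 := ded_37_2 (flp_d L702335) (flp_j L700467) L719900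
theorem L719904 : sm ge N53168 = N51358 := ded_34_2 (flp_d L701187) L679902 (flp_d L679058) (flp_e L700465) L719900
theorem L719906 : sm gh N53168 = N51299 := ded_38_2 (flp_d L700486) (flp_h L679107) (flp_d L679046) L700463 L719900
theorem L719908 : sm gd N51298 = N53169 := rfl
theorem L719910 : sm ga N53169 = N52342 := ded_12_1 (flp_d L711273) (flp_a L700471) L719908
theorem L719912 : sm gb N53169 = N51329 := ded_20_1 (flp_d L700866) (flp_b L700473) L719908
theorem L719914 : sm gf N53169 = N51299 := ded_35_2 (flp_d L700486) (flp_f L700479) L719908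
theorem L719916 : sm gg N53169 = N52343 := ded_36_2 (flp_d L711280) (flp_g L700481) L719908
theorem L719918 : sm gj N53169 = N51464 := ded_37_2 (flp_d L702386) (flp_j L700483) L719908
theorem L719920 : sm gi N53169 = N53169 := ded_39_2 (flp_d L719908) L700485 L719908
theorem L719921 : sm gc N53169 = N52344 := ded_27_1 L711294 (flp_c L700524) L700534 (flp_c L700475) L719908
theorem L719923 : sm ge N53169 = N52341 := ded_34_2 (flp_d L711264) (flp_e L695093) L695101 (flp_e L700477) L719908
theorem L719925 : sm gc N51299 = N53170 := rfl
theorem L719927 : sm ga N53170 = N51362 := ded_11_1 (flp_c L719739) L719728 L719925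
theorem L719929 : sm ge N53170 = N51361 := ded_28_2 (flp_c L701213) (flp_e L700491) L719925
theorem L719931 : sm gf N53170 = N52344 := ded_29_2 (flp_c L719921) L719914 L719925
theorem L719933 : sm gg N53170 = N51333 := ded_30_2 (flp_c L719756) L719751 L719925
theorem L719935 : sm gj N53170 = N51465 := ded_31_2 (flp_c L702397) (flp_j L700488) L719925
theorem L719937 : sm gi N53170 = N53170 := ded_33_2 (flp_c L719925) L700490 L719925
theorem L719938 : sm gd N53170 = N51331 := ded_27_2 L700895 (flp_d L699949) L699939 L700486 L719925
theorem L719940 : sm gb N52345 = N53170 := ded_22_3 L719931 L711289 L711296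
theorem L719942 : sm gd N51300 = N53171 := rfl
theorem L719944 : sm ga N53171 = N52344 := ded_12_1 L711294 (flp_a L700495) L719942
theorem L719946 : sm gb N53171 = N51301 := ded_20_1 (flp_d L700510) (flp_b L700497) L719942
theorem L719948 : sm gf N53171 = N51362 := ded_35_2 (flp_d L701219) (flp_f L700503) L719942
theorem L719950 : sm gg N53171 = N52341 := ded_36_2 (flp_d L711264) (flp_g L700505) L719942
theorem L719952 : sm gj N53171 = N51475 := ded_37_2 (flp_d L702527) (flp_j L700507) L719942
theorem L719954 : sm gi N53171 = N53171 := ded_39_2 (flp_d L719942) L700509 L719942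
theorem L719955 : sm gc N53171 = N52342 := ded_27_1 (flp_d L711273) L690286 (flp_d L679206) (flp_c L700499) L719942
theorem L719957 : sm ge N53171 = N52343 := ded_34_2 (flp_d L711280) L690304 L693558 (flp_e L700501) L719942
theorem L719959 : sm ge N51301 = N53172 := rfl
theorem L719961 : sm ga N53172 = N51359 := ded_13_1 (flp_e L719758) L719745 L719959
theorem L719963 : sm gb N53172 = N52343 := ded_21_1 (flp_e L719957) L719946 L719959
theorem L719965 : sm gc N53172 = N51365 := ded_28_1 (flp_e L701255) (flp_c L700517) L719959
theorem L719967 : sm gg N53172 = N51329 := ded_41_2 (flp_e L719741) L719734 L719959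
theorem L719969 : sm gj N53172 = N51476 := ded_42_2 (flp_e L702538) (flp_j L700514) L719959
theorem L719971 : sm gi N53172 = N53172 := ded_44_2 (flp_e L719959) L700516 L719959
theorem L719972 : sm gd N53172 = N51328 := ded_34_1 L700859 (flp_d L699982) L699975 L700510 L719959
theorem L719974 : sm gh N51303 = N53173 := rfl
theorem L719976 : sm ga N53173 = N52039 := ded_17_1 (flp_h L708325) (flp_a L700539) L719974
theorem L719978 : sm gb N53173 = N51316 := ded_25_1 (flp_h L700713) (flp_b L700541) L719974
theorem L719980 : sm gc N53173 = N52335 := ded_32_1 (flp_h L711220) (flp_c L700543) L719974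
theorem L719982 : sm gf N53173 = N52317 := ded_47_1 (flp_h L711072) (flp_f L700547) L719974
theorem L719984 : sm gj N53173 = N51485 := ded_52_1 (flp_h L702658) (flp_j L700549) L719974
theorem L719986 : sm gd N53173 = N52326 := ded_38_1 (flp_h L711160) L690115 (flp_h L679236) (flp_d L700545) L719974
theorem L719988 : sm gi N53173 = N51307 := ded_54_2 (flp_h L700593) (flp_i L679274) (flp_h L679221) L700537 L719974
theorem L719990 : sm gh N51304 = N53174 := rfl
theorem L719992 : sm ga N53174 = N52336 := ded_17_1 (flp_h L711226) (flp_a L700553) L719990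
theorem L719994 : sm gb N53174 = N51322 := ded_25_1 (flp_h L700793) (flp_b L700555) L719990
theorem L719996 : sm ge N53174 = N52335 := ded_43_1 (flp_h L711220) (flp_e L700559) L719990
theorem L719998 : sm gg N53174 = N51307 := ded_50_1 (flp_h L700593) (flp_g L700561) L719990
theorem L720000 : sm gj N53174 = N52464 := ded_52_1 (flp_h L712177) (flp_j L700563) L719990
theorem L720002 : sm gi N51305 = N53175 := rfl
theorem L720004 : sm ga N53175 = N51337 := ded_18_1 (flp_i L700966) (flp_a L700578) L720002
theorem L720006 : sm gb N53175 = N51306 := ded_26_1 (flp_i L700582) L700565 L720002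
theorem L720008 : sm gc N53175 = N51323 := ded_33_1 (flp_i L700799) (flp_c L700580) L720002
theorem L720010 : sm gd N53175 = N53175 := ded_39_1 (flp_i L720002) L700567 L720002
theorem L720011 : sm ge N53175 = N51311 := ded_44_1 (flp_i L700650) (flp_e L700568) L720002
theorem L720013 : sm gf N53175 = N51347 := ded_48_1 (flp_i L701066) (flp_f L700570) L720002
theorem L720015 : sm gg N53175 = N51315 := ded_51_1 (flp_i L700704) (flp_g L700572) L720002
theorem L720017 : sm gj N53175 = N51495 := ded_53_1 (flp_i L702766) (flp_j L700574) L720002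
theorem L720019 : sm gh N51306 = N53176 := rfl
theorem L720021 : sm ga N53176 = N52329 := ded_17_1 (flp_h L711183) (flp_a L700584) L720019
theorem L720023 : sm gc N53176 = N51307 := ded_32_1 (flp_h L700593) (flp_c L700586) L720019
theorem L720025 : sm gf N53176 = N52322 := ded_47_1 (flp_h L711126) (flp_f L700589) L720019
theorem L720027 : sm gj N53176 = N51496 := ded_52_1 (flp_h L702777) (flp_j L700591) L720019
theorem L720029 : sm gi N53176 = N52335 := ded_54_2 (flp_h L711220) (flp_i L690198) (flp_h L679271) L700582 L720019
theorem L720031 : sm gi N51308 = N53177 := rfl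
theorem L720033 : sm ga N53177 = N51335 := ded_18_1 (flp_i L700939) (flp_a L700603) L720031
theorem L720035 : sm gb N53177 = N51454 := ded_26_1 (flp_i L702289) (flp_b L700605) L720031
theorem L720037 : sm gc N53177 = N51540 := ded_33_1 (flp_i L703230) (flp_c L700615) L720031
theorem L720039 : sm gd N53177 = N51309 := ded_39_1 (flp_i L700619) L700601 L720031
theorem L720041 : sm ge N53177 = N51495 := ded_44_1 (flp_i L702766) L700617 L720031
theorem L720043 : sm gf N53177 = N51451 := ded_48_1 (flp_i L702257) (flp_f L700607) L720031
theorem L720045 : sm gg N53177 = N51506 := ded_51_1 (flp_i L702889) (flp_g L700609) L720031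
theorem L720047 : sm gj N53177 = N51311 := ded_53_1 (flp_i L700650) (flp_j L700611) L720031
theorem L720049 : sm gi N51310 = N53178 := rfl
theorem L720051 : sm ga N53178 = N51336 := ded_18_1 (flp_i L700955) (flp_a L700635) L720049
theorem L720053 : sm gb N53178 = N51324 := ded_26_1 (flp_i L700809) (flp_b L700647) L720049
theorem L720055 : sm gc N53178 = N51311 := ded_33_1 (flp_i L700650) L700633 L720049
theorem L720057 : sm gd N53178 = N53178 := ded_39_1 (flp_i L720049) L700649 L720049
theorem L720058 : sm ge N53178 = N51323 := ded_44_1 (flp_i L700799) (flp_e L700637) L720049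
theorem L720060 : sm gf N53178 = N51344 := ded_48_1 (flp_i L701041) (flp_f L700639) L720049
theorem L720062 : sm gg N53178 = N51314 := ded_51_1 (flp_i L700693) (flp_g L700641) L720049
theorem L720064 : sm gj N53178 = N51540 := ded_53_1 (flp_i L703230) (flp_j L700643) L720049
theorem L720066 : sm gh N51311 = N53179 := rfl
theorem L720068 : sm ga N53179 = N51338 := ded_17_1 (flp_h L700977) (flp_a L700652) L720066
theorem L720070 : sm gg N53179 = N51316 := ded_50_1 (flp_h L700713) (flp_g L700656) L720066
theorem L720072 : sm gi N53179 = N51322 := ded_54_2 (flp_h L700793) (flp_i L679426) (flp_h L679300) L700650 L720066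
theorem L720074 : sm gi N51312 = N53180 := rfl
theorem L720076 : sm ga N53180 = N51347 := ded_18_1 (flp_i L701066) (flp_a L700669) L720074
theorem L720078 : sm gb N53180 = N51314 := ded_26_1 (flp_i L700693) L700658 L720074
theorem L720080 : sm gc N53180 = N51321 := ded_33_1 (flp_i L700779) (flp_c L700671) L720074
theorem L720082 : sm gd N53180 = N53180 := ded_39_1 (flp_i L720074) L700660 L720074
theorem L720083 : sm ge N53180 = N51319 := ded_44_1 (flp_i L700749) L700673 L720074
theorem L720085 : sm gf N53180 = N51337 := ded_48_1 (flp_i L700966) (flp_f L700661) L720074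
theorem L720087 : sm gg N53180 = N51324 := ded_51_1 (flp_i L700809) (flp_g L700663) L720074
theorem L720089 : sm gj N53180 = N51513 := ded_53_1 (flp_i L702961) (flp_j L700665) L720074
theorem L720091 : sm gi N51313 = N53181 := rfl
theorem L720093 : sm ga N53181 = N51340 := ded_18_1 (flp_i L701000) (flp_a L700677) L720091
theorem L720095 : sm gb N53181 = N51319 := ded_26_1 (flp_i L700749) (flp_b L700679) L720091
theorem L720097 : sm gc N53181 = N51315 := ded_33_1 (flp_i L700704) (flp_c L700681) L720091
theorem L720099 : sm gd N53181 = N51330 := ded_39_1 (flp_i L700873) (flp_d L700691) L720091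
theorem L720101 : sm ge N53181 = N51314 := ded_44_1 (flp_i L700693) L700675 L720091
theorem L720103 : sm gf N53181 = N51356 := ded_48_1 (flp_i L701169) (flp_f L700689) L720091
theorem L720105 : sm gg N53181 = N51323 := ded_51_1 (flp_i L700799) (flp_g L700683) L720091
theorem L720107 : sm gj N53181 = N51514 := ded_53_1 (flp_i L702974) (flp_j L700685) L720091
theorem L720109 : sm gh N51314 = N53182 := rfl
theorem L720111 : sm ga N53182 = N51341 := ded_17_1 (flp_h L701012) (flp_a L700695) L720109
theorem L720113 : sm gc N53182 = N51316 := ded_32_1 (flp_h L700713) (flp_c L700697) L720109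
theorem L720115 : sm gf N53182 = N52325 := ded_47_1 (flp_h L711150) (flp_f L700700) L720109
theorem L720117 : sm gj N53182 = N51515 := ded_52_1 (flp_h L702988) (flp_j L700702) L720109
theorem L720119 : sm gi N53182 = N51325 := ded_54_2 (flp_h L700820) (flp_i L679451) (flp_h L679318) L700693 L720109
theorem L720121 : sm gh N51315 = N53183 := rfl
theorem L720123 : sm ga N53183 = N51343 := ded_17_1 (flp_h L701033) (flp_a L700706) L720121
theorem L720125 : sm ge N53183 = N51316 := ded_43_1 (flp_h L700713) (flp_e L700709) L720121
theorem L720127 : sm gj N53183 = N51516 := ded_52_1 (flp_h L702998) (flp_j L700711) L720121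
theorem L720129 : sm gi N53183 = N51326 := ded_54_2 (flp_h L700830) (flp_i L679463) (flp_h L679327) L700704 L720121
theorem L720131 : sm gh N51317 = N53184 := rfl
theorem L720133 : sm ga N53184 = N51345 := ded_17_1 (flp_h L701048) (flp_a L700725) L720131
theorem L720135 : sm gf N53184 = N51322 := ded_47_1 (flp_h L700793) (flp_f L700729) L720131
theorem L720137 : sm gg N53184 = N52326 := ded_50_1 (flp_h L711160) (flp_g L700731) L720131
theorem L720139 : sm gh N51318 = N53185 := rfl
theorem L720141 : sm ga N53185 = N51346 := ded_17_1 (flp_h L701054) (flp_a L700735) L720139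
theorem L720143 : sm gb N53185 = N52464 := ded_25_1 (flp_h L712177) (flp_b L700737) L720139
theorem L720145 : sm gc N53185 = N52383 := ded_32_1 (flp_h L711617) (flp_c L700739) L720139
theorem L720147 : sm ge N53185 = N52409 := ded_43_1 (flp_h L711806) (flp_e L700743) L720139
theorem L720149 : sm gg N53185 = N51531 := ded_50_1 (flp_h L703144) (flp_g L700745) L720139
theorem L720151 : sm gj N53185 = N51322 := ded_52_1 (flp_h L700793) (flp_j L700747) L720139
theorem L720153 : sm gd N53185 = N51455 := ded_38_1 (flp_h L702299) (flp_d L700211) L700219 (flp_d L700741) L720139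
theorem L720155 : sm gh N51319 = N53186 := rfl
theorem L720157 : sm ga N53186 = N51348 := ded_17_1 (flp_h L701079) (flp_a L700751) L720155
theorem L720159 : sm gc N53186 = N51322 := ded_32_1 (flp_h L700793) (flp_c L700753) L720155
theorem L720161 : sm gg N53186 = N51325 := ded_50_1 (flp_h L700820) (flp_g L700757) L720155
theorem L720163 : sm gj N53186 = N52383 := ded_52_1 (flp_h L711617) (flp_j L700759) L720155
theorem L720165 : sm gi N51320 = N53187 := rfl
theorem L720167 : sm ga N53187 = N51323 := ded_18_1 (flp_i L700799) (flp_a L700763) L720165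
theorem L720169 : sm gb N53187 = N51350 := ded_26_1 (flp_i L701099) (flp_b L700765) L720165
theorem L720171 : sm gc N53187 = N51337 := ded_33_1 (flp_i L700966) (flp_c L700767) L720165
theorem L720173 : sm gd N53187 = N51327 := ded_39_1 (flp_i L700838) (flp_d L700769) L720165
theorem L720175 : sm ge N53187 = N51336 := ded_44_1 (flp_i L700955) (flp_e L700775) L720165
theorem L720177 : sm gf N53187 = N51321 := ded_48_1 (flp_i L700779) L700761 L720165
theorem L720179 : sm gg N53187 = N51340 := ded_51_1 (flp_i L701000) (flp_g L700777) L720165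
theorem L720181 : sm gj N53187 = N51539 := ded_53_1 (flp_i L703216) (flp_j L700771) L720165
theorem L720183 : sm gh N51321 = N53188 := rfl
theorem L720185 : sm ga N53188 = N51349 := ded_17_1 (flp_h L701089) (flp_a L700781) L720183
theorem L720187 : sm gb N53188 = N52335 := ded_25_1 (flp_h L711220) (flp_b L700783) L720183
theorem L720189 : sm ge N53188 = N51322 := ded_43_1 (flp_h L700793) (flp_e L700787) L720183
theorem L720191 : sm gg N53188 = N51326 := ded_50_1 (flp_h L700830) (flp_g L700789) L720183
theorem L720193 : sm gj N53188 = N52409 := ded_52_1 (flp_h L711806) (flp_j L700791) L720183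
theorem L720195 : sm gh N51323 = N53189 := rfl
theorem L720197 : sm gb N53189 = N51325 := ded_25_1 (flp_h L700820) (flp_b L700801) L720195
theorem L720199 : sm gf N53189 = N51349 := ded_47_1 (flp_h L701089) (flp_f L700805) L720195
theorem L720201 : sm gj N53189 = N51541 := ded_52_1 (flp_h L703239) (flp_j L700807) L720195
theorem L720203 : sm gh N51324 = N53190 := rfl
theorem L720205 : sm ga N53190 = N51354 := ded_17_1 (flp_h L701153) (flp_a L700811) L720203
theorem L720207 : sm gc N53190 = N51326 := ded_32_1 (flp_h L700830) (flp_c L700813) L720203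
theorem L720209 : sm ge N53190 = N51325 := ded_43_1 (flp_h L700820) (flp_e L700816) L720203
theorem L720211 : sm gj N53190 = N51542 := ded_52_1 (flp_h L703245) (flp_j L700818) L720203
theorem L720213 : sm gd N51325 = N53191 := rfl
theorem L720215 : sm ga N53191 = N51355 := ded_12_1 (flp_d L701161) (flp_a L700822) L720213
theorem L720217 : sm gf N53191 = N52327 := ded_35_2 (flp_d L711166) (flp_f L700826) L720213
theorem L720219 : sm gj N53191 = N51543 := ded_37_2 (flp_d L703253) (flp_j L700828) L720213
theorem L720221 : sm gh N53191 = N51333 := ded_38_2 (flp_d L700918) (flp_h L679575) (flp_d L679457) L700820 L720213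
theorem L720223 : sm gd N51326 = N53192 := rfl
theorem L720225 : sm ga N53192 = N51358 := ded_12_1 (flp_d L701187) (flp_a L700832) L720223
theorem L720227 : sm gj N53192 = N51544 := ded_37_2 (flp_d L703261) (flp_j L700836) L720223
theorem L720229 : sm gh N53192 = N51329 := ded_38_2 (flp_d L700866) (flp_h L679520) (flp_d L679467) L700830 L720223
theorem L720231 : sm gh N51327 = N53193 := rfl
theorem L720233 : sm ga N53193 = N51332 := ded_17_1 (flp_h L700905) (flp_a L700840) L720231
theorem L720235 : sm gb N53193 = N51363 := ded_25_1 (flp_h L701228) (flp_b L700842) L720231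
theorem L720237 : sm gc N53193 = N53193 := ded_32_1 (flp_h L720231) L700844 L720231
theorem L720238 : sm ge N53193 = N53193 := ded_43_1 (flp_h L720231) L700845 L720231
theorem L720239 : sm gf N53193 = N51328 := ded_47_1 (flp_h L700852) (flp_f L700846) L720231
theorem L720241 : sm gg N53193 = N52319 := ded_50_1 (flp_h L711096) (flp_g L700848) L720231
theorem L720243 : sm gj N53193 = N51563 := ded_52_1 (flp_h L703474) (flp_j L700850) L720231
theorem L720245 : sm gi N53193 = N53193 := ded_54_2 (flp_h L720231) (flp_i L700838) L679490 L700838 L720231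
theorem L720246 : sm gc N51329 = N53194 := rfl
theorem L720248 : sm ga N53194 = N51361 := ded_11_1 (flp_c L701213) (flp_a L700868) L720246
theorem L720250 : sm ge N53194 = N51362 := ded_28_2 (flp_c L719739) L719741 L720246
theorem L720252 : sm gg N53194 = N51365 := ded_30_2 (flp_c L719965) L719967 L720246
theorem L720254 : sm gj N53194 = N51550 := ded_31_2 (flp_c L703325) (flp_j L700870) L720246
theorem L720256 : sm gi N53194 = N53194 := ded_33_2 (flp_c L720246) L700872 L720246
theorem L720257 : sm gb N53194 = N52324 := ded_19_1 L711144 (flp_b L711289) (flp_c L719921) L719912 L720246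
theorem L720259 : sm gd N53194 = N53194 := ded_27_2 (flp_c L720246) (flp_d L700866) L679524 L700866 L720246
theorem L720260 : sm gd N51332 = N53195 := rfl
theorem L720262 : sm gb N53195 = N51333 := ded_20_1 (flp_d L700918) (flp_b L700907) L720260
theorem L720264 : sm gf N53195 = N51359 := ded_35_2 (flp_d L701193) (flp_f L700911) L720260
theorem L720266 : sm gg N53195 = N52345 := ded_36_2 L711298 (flp_g L700913) L720260
theorem L720268 : sm gj N53195 = N51564 := ded_37_2 (flp_d L703485) (flp_j L700915) L720260
theorem L720270 : sm gi N53195 = N53195 := ded_39_2 (flp_d L720260) L700917 L720260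
theorem L720271 : sm ge N51333 = N53196 := rfl
theorem L720273 : sm ga N53196 = N51365 := ded_13_1 (flp_e L701255) (flp_a L700920) L720271
theorem L720275 : sm gc N53196 = N51359 := ded_28_1 (flp_e L719758) L719756 L720271
theorem L720277 : sm gg N53196 = N51361 := ded_41_2 (flp_e L719929) L719933 L720271
theorem L720279 : sm gj N53196 = N51565 := ded_42_2 (flp_e L703492) (flp_j L700924) L720271
theorem L720281 : sm gi N53196 = N53196 := ded_44_2 (flp_e L720271) L700926 L720271
theorem L720282 : sm gd N53196 = N53196 := ded_34_1 (flp_e L720271) (flp_d L700918) L679581 L700918 L720271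
theorem L720283 : sm gh N51334 = N53197 := rfl
theorem L720285 : sm gb N53197 = N52339 := ded_25_1 L711256 (flp_b L700929) L720283
theorem L720287 : sm gf N53197 = N51338 := ded_47_1 (flp_h L700977) (flp_f L700933) L720283
theorem L720289 : sm gg N53197 = N52042 := ded_50_1 (flp_h L708362) (flp_g L700935) L720283
theorem L720291 : sm gj N53197 = N52467 := ded_52_1 L712199 (flp_j L700937) L720283
theorem L720293 : sm gd N53197 = N52336 := ded_38_1 (flp_h L711226) L690210 (flp_h L679625) (flp_d L700931) L720283
theorem L720295 : sm gi N53197 = N51345 := ded_54_2 (flp_h L701048) (flp_i L679752) (flp_h L679610) L700927 L720283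
theorem L720297 : sm gh N51335 = N53198 := rfl
theorem L720299 : sm gb N53198 = N52046 := ded_25_1 (flp_h L708414) (flp_b L700941) L720297
theorem L720301 : sm gc N53198 = N52369 := ded_32_1 (flp_h L711521) (flp_c L700943) L720297
theorem L720303 : sm ge N53198 = N52399 := ded_43_1 (flp_h L711729) (flp_e L700947) L720297
theorem L720305 : sm gf N53198 = N52467 := ded_47_1 L712199 (flp_f L700949) L720297
theorem L720307 : sm gg N53198 = N51585 := ded_50_1 (flp_h L703685) (flp_g L700951) L720297
theorem L720309 : sm gj N53198 = N51338 := ded_52_1 (flp_h L700977) (flp_j L700953) L720297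
theorem L720311 : sm gd N53198 = N52466 := ded_38_1 (flp_h L712189) L691279 (flp_h L679653) (flp_d L700945) L720297
theorem L720313 : sm gi N53198 = N51346 := ded_54_2 (flp_h L701054) (flp_i L679760) (flp_h L679635) L700939 L720297
theorem L720315 : sm gh N51336 = N53199 := rfl
theorem L720317 : sm gb N53199 = N52321 := ded_25_1 (flp_h L711118) (flp_b L700957) L720315
theorem L720319 : sm gc N53199 = N51338 := ded_32_1 (flp_h L700977) (flp_c L700959) L720315
theorem L720321 : sm gg N53199 = N51341 := ded_50_1 (flp_h L701012) (flp_g L700962) L720315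
theorem L720323 : sm gj N53199 = N52369 := ded_52_1 (flp_h L711521) (flp_j L700964) L720315
theorem L720325 : sm gi N53199 = N51348 := ded_54_2 (flp_h L701079) (flp_i L679785) (flp_h L679661) L700955 L720315
theorem L720327 : sm gh N51337 = N53200 := rfl
theorem L720329 : sm gb N53200 = N52325 := ded_25_1 (flp_h L711150) (flp_b L700968) L720327
theorem L720331 : sm ge N53200 = N51338 := ded_43_1 (flp_h L700977) (flp_e L700971) L720327
theorem L720333 : sm gg N53200 = N51343 := ded_50_1 (flp_h L701033) (flp_g L700973) L720327
theorem L720335 : sm gj N53200 = N52399 := ded_52_1 (flp_h L711729) (flp_j L700975) L720327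
theorem L720337 : sm gi N53200 = N51349 := ded_54_2 (flp_h L701089) (flp_i L679797) (flp_h L679674) L700966 L720327
theorem L720339 : sm gh N51339 = N53201 := rfl
theorem L720341 : sm ga N53201 = N52322 := ded_17_1 (flp_h L711126) (flp_a L700985) L720339
theorem L720343 : sm gb N53201 = N51341 := ded_25_1 (flp_h L701012) (flp_b L700987) L720339
theorem L720345 : sm gc N53201 = N52034 := ded_32_1 (flp_h L708256) (flp_c L700989) L720339
theorem L720347 : sm ge N53201 = N52318 := ded_43_1 (flp_h L711088) (flp_e L700992) L720339
theorem L720349 : sm gf N53201 = N52329 := ded_47_1 (flp_h L711183) (flp_f L700994) L720339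
theorem L720351 : sm gg N53201 = N52321 := ded_50_1 (flp_h L711118) (flp_g L700996) L720339
theorem L720353 : sm gj N53201 = N51593 := ded_52_1 (flp_h L703756) (flp_j L700998) L720339
theorem L720355 : sm gi N53201 = N51352 := ded_54_2 (flp_h L701130) (flp_i L679844) (flp_h L679692) L700983 L720339
theorem L720357 : sm gh N51340 = N53202 := rfl
theorem L720359 : sm gb N53202 = N52318 := ded_25_1 (flp_h L711088) (flp_b L701002) L720357
theorem L720361 : sm gc N53202 = N51343 := ded_32_1 (flp_h L701033) (flp_c L701004) L720357
theorem L720363 : sm ge N53202 = N51341 := ded_43_1 (flp_h L701012) (flp_e L701008) L720357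
theorem L720365 : sm gj N53202 = N51594 := ded_52_1 (flp_h L703770) (flp_j L701010) L720357
theorem L720367 : sm gi N53202 = N51354 := ded_54_2 (flp_h L701153) (flp_i L679867) (flp_h L679708) L701000 L720357
theorem L720369 : sm gd N51341 = N53203 := rfl
theorem L720371 : sm gf N53203 = N52330 := ded_35_2 (flp_d L711191) (flp_f L701016) L720369
theorem L720373 : sm gj N53203 = N51595 := ded_37_2 (flp_d L703780) (flp_j L701018) L720369
theorem L720375 : sm gi N53203 = N51355 := ded_39_2 (flp_d L701161) (flp_i L701020) L720369
theorem L720377 : sm gh N53203 = N53203 := ded_38_2 (flp_d L720369) (flp_h L701012) L679716 L701012 L720369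
theorem L720378 : sm gh N51342 = N53204 := rfl
theorem L720380 : sm gb N53204 = N52332 := ded_25_1 (flp_h L711204) (flp_b L701024) L720378
theorem L720382 : sm ge N53204 = N52036 := ded_43_1 (flp_h L708288) (flp_e L701027) L720378
theorem L720384 : sm gf N53204 = N51343 := ded_47_1 (flp_h L701033) (flp_f L701029) L720378
theorem L720386 : sm gj N53204 = N51597 := ded_52_1 (flp_h L703794) (flp_j L701031) L720378
theorem L720388 : sm gi N53204 = N51357 := ded_54_2 (flp_h L701179) (flp_i L679890) (flp_h L679728) L701022 L720378
theorem L720390 : sm gd N51343 = N53205 := rfl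
theorem L720392 : sm gj N53205 = N51598 := ded_37_2 (flp_d L703802) (flp_j L701037) L720390
theorem L720394 : sm gi N53205 = N51358 := ded_39_2 (flp_d L701187) (flp_i L701039) L720390
theorem L720396 : sm gh N53205 = N53205 := ded_38_2 (flp_d L720390) (flp_h L701033) L679734 L701033 L720390
theorem L720397 : sm gh N51344 = N53206 := rfl
theorem L720399 : sm ge N53206 = N51345 := ded_43_1 (flp_h L701048) (flp_e L701044) L720397
theorem L720401 : sm gg N53206 = N52332 := ded_50_1 (flp_h L711204) (flp_g L701046) L720397
theorem L720403 : sm gh N51347 = N53207 := rfl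
theorem L720405 : sm gb N53207 = N52322 := ded_25_1 (flp_h L711126) (flp_b L701068) L720403
theorem L720407 : sm gc N53207 = N51349 := ded_32_1 (flp_h L701089) (flp_c L701070) L720403
theorem L720409 : sm ge N53207 = N51348 := ded_43_1 (flp_h L701079) (flp_e L701073) L720403
theorem L720411 : sm gg N53207 = N51354 := ded_50_1 (flp_h L701153) (flp_g L701075) L720403
theorem L720413 : sm gj N53207 = N52384 := ded_52_1 (flp_h L711621) (flp_j L701077) L720403
theorem L720415 : sm gd N51348 = N53208 := rfl
theorem L720417 : sm gb N53208 = N52323 := ded_20_1 (flp_d L711134) (flp_b L701081) L720415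
theorem L720419 : sm gg N53208 = N51355 := ded_36_2 (flp_d L701161) (flp_g L701085) L720415
theorem L720421 : sm gj N53208 = N52385 := ded_37_2 (flp_d L711629) (flp_j L701087) L720415
theorem L720423 : sm gh N53208 = N51362 := ded_38_2 (flp_d L701219) (flp_h L679962) (flp_d L679791) L701079 L720415
theorem L720425 : sm gd N51349 = N53209 := rfl
theorem L720427 : sm gb N53209 = N52327 := ded_20_1 (flp_d L711166) (flp_b L701091) L720425
theorem L720429 : sm gg N53209 = N51358 := ded_36_2 (flp_d L701187) (flp_g L701095) L720425
theorem L720431 : sm gj N53209 = N52410 := ded_37_2 (flp_d L711812) (flp_j L701097) L720425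
theorem L720433 : sm gh N53209 = N51359 := ded_38_2 (flp_d L701193) (flp_h L679906) (flp_d L679801) L701089 L720425
theorem L720435 : sm gh N51350 = N53210 := rfl
theorem L720437 : sm ga N53210 = N51352 := ded_17_1 (flp_h L701130) (flp_a L701101) L720435
theorem L720439 : sm gc N53210 = N52317 := ded_32_1 (flp_h L711072) (flp_c L701103) L720435
theorem L720441 : sm ge N53210 = N52321 := ded_43_1 (flp_h L711118) (flp_e L701107) L720435
theorem L720443 : sm gf N53210 = N52335 := ded_47_1 (flp_h L711220) (flp_f L701109) L720435
theorem L720445 : sm gg N53210 = N52318 := ded_50_1 (flp_h L711088) (flp_g L701111) L720435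
theorem L720447 : sm gj N53210 = N51633 := ded_52_1 (flp_h L704113) (flp_j L701113) L720435
theorem L720449 : sm gi N53210 = N52322 := ded_54_2 (flp_h L711126) (flp_i L690064) (flp_h L679825) L701099 L720435
theorem L720451 : sm gh N51351 = N53211 := rfl
theorem L720453 : sm ga N53211 = N52321 := ded_17_1 (flp_h L711118) (flp_a L701117) L720451
theorem L720455 : sm gb N53211 = N51354 := ded_25_1 (flp_h L701153) (flp_b L701119) L720451
theorem L720457 : sm gc N53211 = N52316 := ded_32_1 (flp_h L711056) (flp_c L701121) L720451
theorem L720459 : sm ge N53211 = N51352 := ded_43_1 (flp_h L701130) (flp_e L701124) L720451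
theorem L720461 : sm gg N53211 = N52322 := ded_50_1 (flp_h L711126) (flp_g L701126) L720451
theorem L720463 : sm gj N53211 = N51634 := ded_52_1 (flp_h L704125) (flp_j L701128) L720451
theorem L720465 : sm gi N53211 = N52318 := ded_54_2 (flp_h L711088) (flp_i L690007) (flp_h L679841) L701115 L720451
theorem L720467 : sm gd N51352 = N53212 := rfl
theorem L720469 : sm gb N53212 = N51355 := ded_20_1 (flp_d L701161) (flp_b L701132) L720467
theorem L720471 : sm gf N53212 = N52337 := ded_35_2 (flp_d L711234) (flp_f L701136) L720467
theorem L720473 : sm gg N53212 = N52323 := ded_36_2 (flp_d L711134) (flp_g L701138) L720467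
theorem L720475 : sm gj N53212 = N51635 := ded_37_2 (flp_d L704137) (flp_j L701140) L720467
theorem L720477 : sm gc N53212 = N52334 := ded_27_1 (flp_d L711214) L690194 (flp_d L690062) (flp_c L701134) L720467
theorem L720479 : sm gh N53212 = N51364 := ded_38_2 (flp_d L701242) (flp_h L679987) (flp_d L679850) L701130 L720467
theorem L720481 : sm gh N51353 = N53213 := rfl
theorem L720483 : sm gc N53213 = N51357 := ded_32_1 (flp_h L701179) (flp_c L701144) L720481
theorem L720485 : sm ge N53213 = N52338 := ded_43_1 (flp_h L711242) (flp_e L701147) L720481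
theorem L720487 : sm gf N53213 = N51354 := ded_47_1 (flp_h L701153) (flp_f L701149) L720481
theorem L720489 : sm gj N53213 = N51637 := ded_52_1 (flp_h L704154) (flp_j L701151) L720481
theorem L720491 : sm gd N51354 = N53214 := rfl
theorem L720493 : sm gj N53214 = N51638 := ded_37_2 (flp_d L704162) (flp_j L701159) L720491
theorem L720495 : sm gh N53214 = N53214 := ded_38_2 (flp_d L720491) (flp_h L701153) L679871 L701153 L720491
theorem L720496 : sm ge N51355 = N53215 := rfl
theorem L720498 : sm gj N53215 = N51639 := ded_42_2 (flp_e L704165) (flp_j L701165) L720496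
theorem L720500 : sm gh N53215 = N51365 := ded_43_2 (flp_e L701255) (flp_h L701167) L720496
theorem L720502 : sm gh N51356 = N53216 := rfl
theorem L720504 : sm ge N53216 = N52339 := ded_43_1 L711256 (flp_e L701173) L720502
theorem L720506 : sm gg N53216 = N51357 := ded_50_1 (flp_h L701179) (flp_g L701175) L720502
theorem L720508 : sm gj N53216 = N52471 := ded_52_1 L712219 (flp_j L701177) L720502
theorem L720510 : sm gd N53216 = N52340 := ded_38_1 L711262 L690321 L679943 (flp_d L701171) L720502
theorem L720512 : sm gd N51357 = N53217 := rfl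
theorem L720514 : sm gf N53217 = N51358 := ded_35_2 (flp_d L701187) (flp_f L701183) L720512
theorem L720516 : sm gg N53217 = N52340 := ded_36_2 (flp_d L720510) L720506 L720512
theorem L720518 : sm gj N53217 = N51642 := ded_37_2 (flp_d L704185) (flp_j L701185) L720512
theorem L720520 : sm ge N53217 = N52334 := ded_34_2 (flp_d L711214) (flp_e L695054) L695062 (flp_e L701181) L720512
theorem L720522 : sm gh N53217 = N51360 := ded_38_2 (flp_d L701202) (flp_h L679945) (flp_d L679892) L701179 L720512
theorem L720524 : sm gc N51358 = N53218 := rfl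
theorem L720526 : sm gj N53218 = N51643 := ded_31_2 (flp_c L704191) (flp_j L701189) L720524
theorem L720528 : sm gh N53218 = N51361 := ded_32_2 (flp_c L701213) (flp_h L701191) L720524
theorem L720530 : sm gc N51360 = N53219 := rfl
theorem L720532 : sm ge N53219 = N51364 := ded_28_2 L701253 (flp_e L701211) L720530
theorem L720534 : sm gf N53219 = N51361 := ded_29_2 (flp_c L701213) (flp_f L701204) L720530
theorem L720536 : sm gg N53219 = N52324 := ded_30_2 L711144 (flp_g L701206) L720530
theorem L720538 : sm gj N53219 = N51651 := ded_31_2 (flp_c L704259) (flp_j L701208) L720530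
theorem L720540 : sm gi N53219 = N53219 := ded_33_2 (flp_c L720530) L701210 L720530
theorem L720541 : sm gb N53219 = N51365 := ded_19_1 (flp_c L719965) L719963 (flp_c L714879) L714870 L720530
theorem L720543 : sm gd N53219 = N53219 := ded_27_2 (flp_c L720530) (flp_d L701202) L679947 L701202 L720530
theorem L720544 : sm gb N51361 = N53220 := rfl
theorem L720546 : sm gd N53220 = N53220 := ded_20_2 (flp_b L720544) L701218 L720544
theorem L720547 : sm ge N53220 = N52345 := ded_21_2 L719940 L719929 L720544
theorem L720549 : sm gf N53220 = N51365 := ded_22_2 (flp_b L720541) L720534 L720544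
theorem L720551 : sm gj N53220 = N51652 := ded_24_2 (flp_b L704269) (flp_j L701215) L720544
theorem L720553 : sm gi N53220 = N53220 := ded_26_2 (flp_b L720544) L701217 L720544
theorem L720554 : sm gh N51368 = N53221 := rfl
theorem L720556 : sm ga N53221 = N51467 := ded_17_1 (flp_h L702428) (flp_a L701298) L720554
theorem L720558 : sm gb N53221 = N53221 := ded_25_1 (flp_h L720554) L701300 L720554
theorem L720559 : sm gc N53221 = N51461 := ded_32_1 (flp_h L702357) (flp_c L701301) L720554
theorem L720561 : sm ge N53221 = N51675 := ded_43_1 (flp_h L704526) (flp_e L701305) L720554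
theorem L720563 : sm gf N53221 = N51369 := ded_47_1 (flp_h L701313) (flp_f L701307) L720554
theorem L720565 : sm gg N53221 = N52490 := ded_50_1 (flp_h L712350) (flp_g L701309) L720554
theorem L720567 : sm gj N53221 = N51412 := ded_52_1 (flp_h L701881) (flp_j L701311) L720554
theorem L720569 : sm gd N53221 = N51554 := ded_38_1 (flp_h L703371) L682219 (flp_h L680846) (flp_d L701303) L720554
theorem L720571 : sm gi N53221 = N53221 := ded_54_2 (flp_h L720554) (flp_i L701296) L680112 L701296 L720554
theorem L720572 : sm gd N51375 = N53222 := rfl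
theorem L720574 : sm ga N53222 = N51571 := ded_12_1 (flp_d L703550) (flp_a L701417) L720572
theorem L720576 : sm gb N53222 = N51394 := ded_20_1 (flp_d L701662) (flp_b L701419) L720572
theorem L720578 : sm gf N53222 = N51378 := ded_35_2 (flp_d L701457) (flp_f L701424) L720572
theorem L720580 : sm gg N53222 = N51500 := ded_36_2 (flp_d L702826) (flp_g L701426) L720572
theorem L720582 : sm gj N53222 = N51376 := ded_37_2 (flp_d L701430) (flp_j L701428) L720572
theorem L720584 : sm gh N53222 = N51517 := ded_38_2 (flp_d L703006) (flp_h L681929) (flp_d L680453) L701415 L720572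
theorem L720586 : sm gi N51375 = N53223 := rfl
theorem L720588 : sm ga N53223 = N51572 := ded_18_1 (flp_i L703562) (flp_a L701417) L720586
theorem L720590 : sm gb N53223 = N51395 := ded_26_1 (flp_i L701672) (flp_b L701419) L720586
theorem L720592 : sm gc N53223 = N53223 := ded_33_1 (flp_i L720586) L701421 L720586
theorem L720593 : sm ge N53223 = N51679 := ded_44_1 (flp_i L704581) (flp_e L701422) L720586
theorem L720595 : sm gf N53223 = N51379 := ded_48_1 (flp_i L701469) (flp_f L701424) L720586
theorem L720597 : sm gg N53223 = N51501 := ded_51_1 (flp_i L702836) (flp_g L701426) L720586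
theorem L720599 : sm gj N53223 = N51377 := ded_53_1 (flp_i L701442) (flp_j L701428) L720586
theorem L720601 : sm gh N53223 = N51487 := ded_54_1 (flp_i L702680) (flp_h L681682) (flp_i L680459) L701415 L720586
theorem L720603 : sm ge N51376 = N53224 := rfl
theorem L720605 : sm ga N53224 = N52074 := ded_13_1 L708730 (flp_a L701432) L720603
theorem L720607 : sm gb N53224 = N51397 := ded_21_1 (flp_e L701698) (flp_b L701434) L720603
theorem L720609 : sm gc N53224 = N52428 := ded_28_1 (flp_e L715690) L715687 L720603
theorem L720611 : sm gg N53224 = N52053 := ded_41_2 L708516 (flp_g L701438) L720603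
theorem L720613 : sm gh N53224 = N52401 := ded_43_2 (flp_e L711742) (flp_h L701440) L720603
theorem L720615 : sm gd N53224 = N51681 := ded_34_1 (flp_e L704607) (flp_d L683361) (flp_e L680470) L701430 L720603
theorem L720617 : sm gf N53224 = N52426 := ded_40_2 (flp_e L711923) (flp_f L695995) L695991 (flp_f L701436) L720603
theorem L720619 : sm gi N51376 = N53225 := rfl
theorem L720621 : sm ga N53225 = N52086 := ded_18_1 (flp_i L708848) (flp_a L701432) L720619
theorem L720623 : sm gb N53225 = N51398 := ded_26_1 (flp_i L701706) (flp_b L701434) L720619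
theorem L720625 : sm gd N53225 = N51377 := ded_39_1 (flp_i L701442) L701430 L720619
theorem L720627 : sm gf N53225 = N51380 := ded_48_1 (flp_i L701484) (flp_f L701436) L720619
theorem L720629 : sm gg N53225 = N52056 := ded_51_1 (flp_i L708534) (flp_g L701438) L720619
theorem L720631 : sm gi N51378 = N53226 := rfl
theorem L720633 : sm ga N53226 = N52092 := ded_18_1 (flp_i L708892) (flp_a L701459) L720631
theorem L720635 : sm gb N53226 = N51399 := ded_26_1 (flp_i L701716) (flp_b L701461) L720631
theorem L720637 : sm gd N53226 = N51379 := ded_39_1 (flp_i L701469) L701457 L720631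
theorem L720639 : sm ge N53226 = N51445 := ded_44_1 (flp_i L702207) (flp_e L701467) L720631
theorem L720641 : sm gg N53226 = N51451 := ded_51_1 (flp_i L702257) (flp_g L701463) L720631
theorem L720643 : sm gj N53226 = N51380 := ded_53_1 (flp_i L701484) (flp_j L701465) L720631
theorem L720645 : sm gh N51380 = N53227 := rfl
theorem L720647 : sm ga N53227 = N52093 := ded_17_1 (flp_h L708902) (flp_a L701486) L720645
theorem L720649 : sm gb N53227 = N51403 := ded_25_1 (flp_h L701772) (flp_b L701488) L720645
theorem L720651 : sm gg N53227 = N51381 := ded_50_1 (flp_h L701494) (flp_g L701492) L720645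
theorem L720653 : sm gd N53227 = N51494 := ded_38_1 (flp_h L702760) L681752 (flp_h L680506) (flp_d L701490) L720645
theorem L720655 : sm gd N51382 = N53228 := rfl
theorem L720657 : sm ga N53228 = N51417 := ded_12_1 (flp_d L701948) (flp_a L701506) L720655
theorem L720659 : sm gb N53228 = N51517 := ded_20_1 (flp_d L703006) (flp_b L701508) L720655
theorem L720661 : sm gf N53228 = N51385 := ded_35_2 (flp_d L701546) (flp_f L701513) L720655
theorem L720663 : sm gg N53228 = N51486 := ded_36_2 (flp_d L702670) (flp_g L701515) L720655
theorem L720665 : sm gj N53228 = N51383 := ded_37_2 (flp_d L701519) (flp_j L701517) L720655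
theorem L720667 : sm gh N53228 = N51394 := ded_38_2 (flp_d L701662) (flp_h L680643) (flp_d L680540) L701504 L720655
theorem L720669 : sm gc N53228 = N51425 := ded_56_4 (flp_b L714932) L714930 L703739 L682768 L660208 L384057 L263960 L186785 (flp_a L501809) (flp_h L244373) L244355 L244361 L169045 (flp_c L245180) L245178 (flp_a L249248) L362360 L362366 L249273 L249306 (flp_c L361575) (flp_b L658259) L658258 L658269 L658261 L359726 (flp_d L247957) (flp_c L244443) (flp_b L355096) (flp_a L648314) L271516 (flp_f L298538) L298536 L206069 (flp_c L294373) (flp_b L651033) (flp_a L660850) L683350 L683357 L660879 (flp_d L655305) (flp_c L673210) L673208 L658289 L658295 L658290 L359741 (flp_d L355209) (flp_c L355203) (flp_b L355104) (flp_a L648316) (flp_h L649798) (flp_f L653526) L653520 L357061 (flp_c L655080) (flp_b L676452) L676450 L684386 L684391 (flp_e L701511) L720655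
theorem L720671 : sm gi N51382 = N53229 := rfl
theorem L720673 : sm ga N53229 = N51418 := ded_18_1 (flp_i L701960) (flp_a L701506) L720671
theorem L720675 : sm gb N53229 = N51518 := ded_26_1 (flp_i L703014) (flp_b L701508) L720671
theorem L720677 : sm gc N53229 = N53229 := ded_33_1 (flp_i L720671) L701510 L720671
theorem L720678 : sm ge N53229 = N51770 := ded_44_1 (flp_i L705606) (flp_e L701511) L720671
theorem L720680 : sm gf N53229 = N51386 := ded_48_1 (flp_i L701560) (flp_f L701513) L720671
theorem L720682 : sm gg N53229 = N51487 := ded_51_1 (flp_i L702680) (flp_g L701515) L720671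
theorem L720684 : sm gj N53229 = N51384 := ded_53_1 (flp_i L701531) (flp_j L701517) L720671
theorem L720686 : sm gh N53229 = N51501 := ded_54_1 (flp_i L702836) (flp_h L681810) (flp_i L680546) L701504 L720671
theorem L720688 : sm gc N51383 = N53230 := rfl
theorem L720690 : sm ga N53230 = N51419 := ded_11_1 (flp_c L701973) (flp_a L701521) L720688
theorem L720692 : sm gf N53230 = N51387 := ded_29_2 (flp_c L701572) (flp_f L701525) L720688
theorem L720694 : sm gg N53230 = N51622 := ded_30_2 L704029 (flp_g L701527) L720688
theorem L720696 : sm gj N53230 = N51425 := ded_31_2 (flp_c L720669) L720665 L720688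
theorem L720698 : sm gh N53230 = N51396 := ded_32_2 (flp_c L701686) (flp_h L701529) L720688
theorem L720700 : sm gb N53230 = N51625 := ded_19_1 L704063 (flp_b L696389) L696391 (flp_b L701523) L720688
theorem L720702 : sm gd N53230 = N53230 := ded_27_2 (flp_c L720688) (flp_d L701519) L680556 L701519 L720688
theorem L720703 : sm ge N51383 = N53231 := rfl
theorem L720705 : sm ga N53231 = N51420 := ded_13_1 (flp_e L701982) (flp_a L701521) L720703
theorem L720707 : sm gb N53231 = N52401 := ded_21_1 (flp_e L711742) (flp_b L701523) L720703
theorem L720709 : sm gg N53231 = N52346 := ded_41_2 (flp_e L711303) (flp_g L701527) L720703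
theorem L720711 : sm gh N53231 = N51397 := ded_43_2 (flp_e L701698) (flp_h L701529) L720703
theorem L720713 : sm gd N53231 = N52518 := ded_34_1 L712568 L691920 (flp_e L680557) L701519 L720703
theorem L720715 : sm gi N51383 = N53232 := rfl
theorem L720717 : sm ga N53232 = N51421 := ded_18_1 (flp_i L701988) (flp_a L701521) L720715
theorem L720719 : sm gb N53232 = N52402 := ded_26_1 (flp_i L711750) (flp_b L701523) L720715
theorem L720721 : sm gd N53232 = N51384 := ded_39_1 (flp_i L701531) L701519 L720715
theorem L720723 : sm gf N53232 = N51389 := ded_48_1 (flp_i L701602) (flp_f L701525) L720715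
theorem L720725 : sm gg N53232 = N52347 := ded_51_1 (flp_i L711317) (flp_g L701527) L720715
theorem L720727 : sm gi N51385 = N53233 := rfl
theorem L720729 : sm ga N53233 = N51422 := ded_18_1 (flp_i L701996) (flp_a L701548) L720727
theorem L720731 : sm gc N53233 = N51426 := ded_33_1 (flp_i L702029) L701556 L720727
theorem L720733 : sm gd N53233 = N51386 := ded_39_1 (flp_i L701560) L701546 L720727
theorem L720735 : sm ge N53233 = N51424 := ded_44_1 (flp_i L702017) L701558 L720727
theorem L720737 : sm gg N53233 = N51429 := ded_51_1 (flp_i L702053) (flp_g L701550) L720727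
theorem L720739 : sm gj N53233 = N51389 := ded_53_1 (flp_i L701602) (flp_j L701552) L720727
theorem L720741 : sm gi N51387 = N53234 := rfl
theorem L720743 : sm ga N53234 = N51424 := ded_18_1 (flp_i L702017) (flp_a L701574) L720741
theorem L720745 : sm gb N53234 = N51636 := ded_26_1 (flp_i L704145) (flp_b L701582) L720741
theorem L720747 : sm gc N53234 = N51389 := ded_33_1 (flp_i L701602) L701572 L720741
theorem L720749 : sm gd N53234 = N53234 := ded_39_1 (flp_i L720741) L701584 L720741
theorem L720750 : sm ge N53234 = N51422 := ded_44_1 (flp_i L701996) L701585 L720741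
theorem L720752 : sm gg N53234 = N51390 := ded_51_1 (flp_i L701610) (flp_g L701576) L720741
theorem L720754 : sm gj N53234 = N51426 := ded_53_1 (flp_i L702029) (flp_j L701578) L720741
theorem L720756 : sm gf N51388 = N53235 := rfl
theorem L720758 : sm ga N53235 = N51425 := ded_14_1 (flp_f L702024) (flp_a L701589) L720756
theorem L720760 : sm gb N53235 = N52082 := ded_22_1 L708817 (flp_b L701591) L720756
theorem L720762 : sm gc N53235 = N51417 := ded_29_1 L701952 (flp_c L701593) L720756
theorem L720764 : sm gd N53235 = N53235 := ded_35_1 (flp_f L720756) L701601 L720756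
theorem L720765 : sm gj N53235 = N51419 := ded_46_2 L701975 (flp_j L701597) L720756
theorem L720767 : sm gh N53235 = N51401 := ded_47_2 (flp_f L701744) (flp_h L701599) L720756
theorem L720769 : sm gg N53235 = N52079 := ded_45_2 (flp_f L708778) L687531 (flp_f L680615) (flp_g L701595) L720756
theorem L720771 : sm gi N51388 = N53236 := rfl
theorem L720773 : sm ga N53236 = N51426 := ded_18_1 (flp_i L702029) (flp_a L701589) L720771
theorem L720775 : sm gb N53236 = N52089 := ded_26_1 (flp_i L708876) (flp_b L701591) L720771
theorem L720777 : sm gc N53236 = N51422 := ded_33_1 (flp_i L701996) (flp_c L701593) L720771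
theorem L720779 : sm gd N53236 = N53236 := ded_39_1 (flp_i L720771) L701601 L720771
theorem L720780 : sm ge N53236 = N51389 := ded_44_1 (flp_i L701602) L701587 L720771
theorem L720782 : sm gg N53236 = N51391 := ded_51_1 (flp_i L701623) (flp_g L701595) L720771
theorem L720784 : sm gj N53236 = N51424 := ded_53_1 (flp_i L702017) (flp_j L701597) L720771
theorem L720786 : sm gh N51389 = N53237 := rfl
theorem L720788 : sm ga N53237 = N51427 := ded_17_1 (flp_h L702036) (flp_a L701604) L720786
theorem L720790 : sm gg N53237 = N51392 := ded_50_1 (flp_h L701636) (flp_g L701608) L720786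
theorem L720792 : sm gd N53237 = N51512 := ded_38_1 (flp_h L702953) L681876 (flp_h L680589) (flp_d L701606) L720786
theorem L720794 : sm gi N53237 = N51403 := ded_54_2 (flp_h L701772) (flp_i L680725) (flp_h L680579) L701602 L720786
theorem L720796 : sm gh N51390 = N53238 := rfl
theorem L720798 : sm ga N53238 = N51430 := ded_17_1 (flp_h L702065) (flp_a L701612) L720796
theorem L720800 : sm gb N53238 = N51637 := ded_25_1 (flp_h L704154) (flp_b L701614) L720796
theorem L720802 : sm gc N53238 = N51392 := ded_32_1 (flp_h L701636) (flp_c L701616) L720796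
theorem L720804 : sm ge N53238 = N52466 := ded_43_1 (flp_h L712189) (flp_e L701619) L720796
theorem L720806 : sm gf N53238 = N51634 := ded_47_1 (flp_h L704125) (flp_f L701621) L720796
theorem L720808 : sm gi N53238 = N51405 := ded_54_2 (flp_h L701794) (flp_i L680745) (flp_h L680597) L701610 L720796
theorem L720810 : sm gh N51391 = N53239 := rfl
theorem L720812 : sm ga N53239 = N51433 := ded_17_1 (flp_h L702101) (flp_a L701625) L720810
theorem L720814 : sm gb N53239 = N52090 := ded_25_1 (flp_h L708883) (flp_b L701627) L720810
theorem L720816 : sm gc N53239 = N52466 := ded_32_1 (flp_h L712189) (flp_c L701629) L720810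
theorem L720818 : sm ge N53239 = N51392 := ded_43_1 (flp_h L701636) (flp_e L701632) L720810
theorem L720820 : sm gf N53239 = N52088 := ded_47_1 (flp_h L708868) (flp_f L701634) L720810
theorem L720822 : sm gi N53239 = N51406 := ded_54_2 (flp_h L701802) (flp_i L680755) (flp_h L680612) L701623 L720810
theorem L720824 : sm gd N51393 = N53240 := rfl
theorem L720826 : sm ga N53240 = N51434 := ded_12_1 (flp_d L702107) (flp_a L701648) L720824
theorem L720828 : sm gb N53240 = N51500 := ded_20_1 (flp_d L702826) (flp_b L701650) L720824
theorem L720830 : sm gf N53240 = N51453 := ded_35_2 L702281 (flp_f L701656) L720824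
theorem L720832 : sm gg N53240 = N51394 := ded_36_2 (flp_d L701662) (flp_g L701658) L720824
theorem L720834 : sm gj N53240 = N51481 := ded_37_2 (flp_d L702605) (flp_j L701660) L720824
theorem L720836 : sm gc N53240 = N51447 := ded_27_1 L702227 L681233 L680833 (flp_c L701652) L720824
theorem L720838 : sm gh N53240 = N51486 := ded_38_2 (flp_d L702670) (flp_h L681682) (flp_d L680633) L701646 L720824
theorem L720840 : sm gi N51393 = N53241 := rfl
theorem L720842 : sm ga N53241 = N51435 := ded_18_1 (flp_i L702121) (flp_a L701648) L720840
theorem L720844 : sm gb N53241 = N51501 := ded_26_1 (flp_i L702836) (flp_b L701650) L720840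
theorem L720846 : sm gc N53241 = N51410 := ded_33_1 (flp_i L701850) (flp_c L701652) L720840
theorem L720848 : sm ge N53241 = N51689 := ded_44_1 (flp_i L704707) (flp_e L701654) L720840
theorem L720850 : sm gf N53241 = N51483 := ded_48_1 (flp_i L702635) (flp_f L701656) L720840
theorem L720852 : sm gg N53241 = N51395 := ded_51_1 (flp_i L701672) (flp_g L701658) L720840
theorem L720854 : sm gj N53241 = N51482 := ded_53_1 (flp_i L702619) (flp_j L701660) L720840
theorem L720856 : sm gh N53241 = N51518 := ded_54_1 (flp_i L703014) (flp_h L681929) (flp_i L680637) L701646 L720840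
theorem L720858 : sm ge N51394 = N53242 := rfl
theorem L720860 : sm ga N53242 = N51436 := ded_13_1 (flp_e L702137) (flp_a L701664) L720858
theorem L720862 : sm gc N53242 = N51441 := ded_28_1 L702183 (flp_c L701670) L720858
theorem L720864 : sm gj N53242 = N51397 := ded_42_2 (flp_e L701698) (flp_j L701668) L720858
theorem L720866 : sm gd N53242 = N51690 := ded_34_1 (flp_e L704720) (flp_d L683472) (flp_e L680649) L701662 L720858
theorem L720868 : sm gf N53242 = N51439 := ded_40_2 (flp_e L702163) L681090 (flp_e L680687) (flp_f L701666) L720858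
theorem L720870 : sm gi N51394 = N53243 := rfl
theorem L720872 : sm ga N53243 = N51437 := ded_18_1 (flp_i L702143) (flp_a L701664) L720870
theorem L720874 : sm gc N53243 = N51448 := ded_33_1 (flp_i L702233) (flp_c L701670) L720870
theorem L720876 : sm gd N53243 = N51395 := ded_39_1 (flp_i L701672) L701662 L720870
theorem L720878 : sm gf N53243 = N51399 := ded_48_1 (flp_i L701716) (flp_f L701666) L720870
theorem L720880 : sm gj N53243 = N51398 := ded_53_1 (flp_i L701706) (flp_j L701668) L720870
theorem L720882 : sm ge N51396 = N53244 := rfl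
theorem L720884 : sm ga N53244 = N51439 := ded_13_1 (flp_e L702163) (flp_a L701688) L720882
theorem L720886 : sm gc N53244 = N51397 := ded_28_1 (flp_e L701698) L701686 L720882
theorem L720888 : sm gg N53244 = N52351 := ded_41_2 (flp_e L711371) (flp_g L701692) L720882
theorem L720890 : sm gj N53244 = N51441 := ded_42_2 L702183 (flp_j L701694) L720882
theorem L720892 : sm gd N53244 = N51726 := ded_34_1 L705126 L683916 (flp_e L680852) (flp_d L701696) L720882
theorem L720894 : sm gf N53244 = N51436 := ded_40_2 (flp_e L702137) L681072 L680711 (flp_f L701690) L720882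
theorem L720896 : sm gi N51396 = N53245 := rfl
theorem L720898 : sm ga N53245 = N51440 := ded_18_1 (flp_i L702169) (flp_a L701688) L720896
theorem L720900 : sm gc N53245 = N51398 := ded_33_1 (flp_i L701706) L701686 L720896
theorem L720902 : sm gd N53245 = N51411 := ded_39_1 (flp_i L701867) (flp_d L701696) L720896
theorem L720904 : sm gf N53245 = N51400 := ded_48_1 (flp_i L701730) (flp_f L701690) L720896
theorem L720906 : sm gg N53245 = N52352 := ded_51_1 (flp_i L711377) (flp_g L701692) L720896
theorem L720908 : sm gj N53245 = N51448 := ded_53_1 (flp_i L702233) (flp_j L701694) L720896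
theorem L720910 : sm gf N51397 = N53246 := rfl
theorem L720912 : sm ga N53246 = N51441 := ded_14_1 (flp_f L702179) (flp_a L701700) L720910
theorem L720914 : sm gb N53246 = N52426 := ded_22_1 (flp_f L720617) L720607 L720910
theorem L720916 : sm gc N53246 = N51436 := ded_29_1 (flp_f L720894) L720886 L720910
theorem L720918 : sm gd N53246 = N51692 := ded_35_1 (flp_f L704742) (flp_d L701704) L720910
theorem L720920 : sm gj N53246 = N51439 := ded_46_2 (flp_f L720868) L720864 L720910
theorem L720922 : sm ge N53246 = N51401 := ded_40_1 (flp_f L701744) (flp_e L680713) (flp_f L680659) L701698 L720910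
theorem L720924 : sm gg N53246 = N52431 := ded_45_2 (flp_f L715426) L715418 L708474 (flp_g L701702) L720910
theorem L720926 : sm gi N51397 = N53247 := rfl
theorem L720928 : sm ga N53247 = N51442 := ded_18_1 (flp_i L702185) (flp_a L701700) L720926
theorem L720930 : sm gd N53247 = N51693 := ded_39_1 (flp_i L704752) (flp_d L701704) L720926
theorem L720932 : sm ge N53247 = N51398 := ded_44_1 (flp_i L701706) L701698 L720926
theorem L720934 : sm gg N53247 = N52353 := ded_51_1 (flp_i L711387) (flp_g L701702) L720926
theorem L720936 : sm gh N51398 = N53248 := rfl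
theorem L720938 : sm ga N53248 = N51443 := ded_17_1 (flp_h L702193) (flp_a L701708) L720936
theorem L720940 : sm gf N53248 = N51403 := ded_47_1 (flp_h L701772) (flp_f L701712) L720936
theorem L720942 : sm gg N53248 = N52354 := ded_50_1 (flp_h L711395) (flp_g L701714) L720936
theorem L720944 : sm gd N53248 = N51527 := ded_38_1 (flp_h L703100) L681983 (flp_h L680675) (flp_d L701710) L720936
theorem L720946 : sm gh N51399 = N53249 := rfl
theorem L720948 : sm ga N53249 = N51444 := ded_17_1 (flp_h L702201) (flp_a L701718) L720946
theorem L720950 : sm gc N53249 = N51449 := ded_32_1 (flp_h L702239) (flp_c L701720) L720946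
theorem L720952 : sm ge N53249 = N51446 := ded_43_1 (flp_h L702215) (flp_e L701724) L720946
theorem L720954 : sm gg N53249 = N51455 := ded_50_1 (flp_h L702299) (flp_g L701726) L720946
theorem L720956 : sm gj N53249 = N51403 := ded_52_1 (flp_h L701772) (flp_j L701728) L720946
theorem L720958 : sm gd N53249 = N51531 := ded_38_1 (flp_h L703144) L682015 (flp_h L680699) (flp_d L701722) L720946
theorem L720960 : sm gh N51400 = N53250 := rfl
theorem L720962 : sm ga N53250 = N51446 := ded_17_1 (flp_h L702215) (flp_a L701732) L720960
theorem L720964 : sm gc N53250 = N51403 := ded_32_1 (flp_h L701772) (flp_c L701734) L720960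
theorem L720966 : sm ge N53250 = N51444 := ded_43_1 (flp_h L702201) (flp_e L701738) L720960
theorem L720968 : sm gg N53250 = N51405 := ded_50_1 (flp_h L701794) (flp_g L701740) L720960
theorem L720970 : sm gj N53250 = N51449 := ded_52_1 (flp_h L702239) (flp_j L701742) L720960
theorem L720972 : sm gi N51401 = N53251 := rfl
theorem L720974 : sm ga N53251 = N51448 := ded_18_1 (flp_i L702233) (flp_a L701746) L720972
theorem L720976 : sm gb N53251 = N52427 := ded_26_1 (flp_i L711929) (flp_b L701748) L720972
theorem L720978 : sm gc N53251 = N51437 := ded_33_1 (flp_i L702143) (flp_c L701750) L720972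
theorem L720980 : sm gd N53251 = N51407 := ded_39_1 (flp_i L701808) (flp_d L701752) L720972
theorem L720982 : sm gf N53251 = N51402 := ded_48_1 (flp_i L701758) L701744 L720972
theorem L720984 : sm gg N53251 = N52432 := ded_51_1 (flp_i L711959) (flp_g L701756) L720972
theorem L720986 : sm gj N53251 = N51440 := ded_53_1 (flp_i L702169) (flp_j L701754) L720972
theorem L720988 : sm gh N51402 = N53252 := rfl
theorem L720990 : sm ga N53252 = N51449 := ded_17_1 (flp_h L702239) (flp_a L701760) L720988
theorem L720992 : sm gc N53252 = N51444 := ded_32_1 (flp_h L702201) (flp_c L701762) L720988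
theorem L720994 : sm ge N53252 = N51403 := ded_43_1 (flp_h L701772) (flp_e L701766) L720988
theorem L720996 : sm gg N53252 = N51406 := ded_50_1 (flp_h L701802) (flp_g L701768) L720988
theorem L720998 : sm gj N53252 = N51446 := ded_52_1 (flp_h L702215) (flp_j L701770) L720988
theorem L721000 : sm gh N51404 = N53253 := rfl
theorem L721002 : sm ga N53253 = N52471 := ded_17_1 L712219 (flp_a L701782) L721000
theorem L721004 : sm gb N53253 = N51405 := ded_25_1 (flp_h L701794) (flp_b L701784) L721000
theorem L721006 : sm gc N53253 = N51597 := ded_32_1 (flp_h L703794) (flp_c L701786) L721000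
theorem L721008 : sm ge N53253 = N52049 := ded_43_1 L708460 (flp_e L701790) L721000
theorem L721010 : sm gf N53253 = N51594 := ded_47_1 (flp_h L703770) (flp_f L701792) L721000
theorem L721012 : sm gd N53253 = N52411 := ded_38_1 L711822 L690983 L680907 (flp_d L701788) L721000
theorem L721014 : sm gi N53253 = N51637 := ded_54_2 (flp_h L704154) (flp_i L682818) (flp_h L680741) L701780 L721000
theorem L721016 : sm gd N51405 = N53254 := rfl
theorem L721018 : sm ga N53254 = N51456 := ded_12_1 (flp_d L702305) (flp_a L701796) L721016
theorem L721020 : sm gb N53254 = N52411 := ded_20_1 (flp_d L721012) L721004 L721016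
theorem L721022 : sm gf N53254 = N52357 := ded_35_2 (flp_d L711427) (flp_f L701800) L721016
theorem L721024 : sm gc N53254 = N51543 := ded_27_1 (flp_d L703253) L682110 (flp_d L680769) (flp_c L701798) L721016
theorem L721026 : sm ge N53254 = N52410 := ded_34_2 (flp_d L711812) (flp_e L701060) (flp_d L719860) L719852 L721016
theorem L721028 : sm gh N53254 = N51414 := ded_38_2 (flp_d L701910) (flp_h L680909) (flp_d L680751) L701794 L721016
theorem L721030 : sm gd N51406 = N53255 := rfl
theorem L721032 : sm ga N53255 = N51459 := ded_12_1 (flp_d L702335) (flp_a L701804) L721030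
theorem L721034 : sm gb N53255 = N52468 := ded_20_1 (flp_d L715561) L715551 L721030
theorem L721036 : sm gc N53255 = N52385 := ded_27_1 (flp_d L711629) (flp_c L701058) (flp_d L719860) L719850 L721030
theorem L721038 : sm ge N53255 = N51544 := ded_34_2 (flp_d L703261) L682118 (flp_d L680769) (flp_e L701806) L721030
theorem L721040 : sm gh N53255 = N51409 := ded_38_2 (flp_d L701839) (flp_h L680809) (flp_d L680759) L701802 L721030
theorem L721042 : sm gh N51407 = N53256 := rfl
theorem L721044 : sm ga N53256 = N51461 := ded_17_1 (flp_h L702357) (flp_a L701810) L721042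
theorem L721046 : sm gb N53256 = N52473 := ded_25_1 (flp_h L712227) (flp_b L701812) L721042
theorem L721048 : sm gc N53256 = N51467 := ded_32_1 (flp_h L702428) (flp_c L701814) L721042
theorem L721050 : sm ge N53256 = N51701 := ded_43_1 (flp_h L704847) (flp_e L701816) L721042
theorem L721052 : sm gf N53256 = N51408 := ded_47_1 (flp_h L701824) (flp_f L701818) L721042
theorem L721054 : sm gg N53256 = N52474 := ded_50_1 (flp_h L712236) (flp_g L701820) L721042
theorem L721056 : sm gj N53256 = N51471 := ded_52_1 (flp_h L702481) (flp_j L701822) L721042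
theorem L721058 : sm gi N53256 = N53256 := ded_54_2 (flp_h L721042) (flp_i L701808) L680781 L701808 L721042
theorem L721059 : sm gd N51408 = N53257 := rfl
theorem L721061 : sm ga N53257 = N51462 := ded_12_1 (flp_d L702364) (flp_a L701826) L721059
theorem L721063 : sm gb N53257 = N52486 := ded_20_1 L712329 (flp_b L701828) L721059
theorem L721065 : sm gg N53257 = N51409 := ded_36_2 (flp_d L701839) (flp_g L701834) L721059
theorem L721067 : sm gj N53257 = N51474 := ded_37_2 (flp_d L702520) (flp_j L701836) L721059
theorem L721069 : sm gi N53257 = N53257 := ded_39_2 (flp_d L721059) L701838 L721059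
theorem L721070 : sm gc N53257 = N51667 := ded_27_1 (flp_d L704429) L683060 (flp_d L681408) (flp_c L701830) L721059
theorem L721072 : sm ge N53257 = N51549 := ded_34_2 (flp_d L703318) L682173 (flp_d L680806) (flp_e L701832) L721059
theorem L721074 : sm gh N51411 = N53258 := rfl
theorem L721076 : sm ga N53258 = N51471 := ded_17_1 (flp_h L702481) (flp_a L701869) L721074
theorem L721078 : sm gb N53258 = N52721 := ded_25_1 L715331 L715320 L721074
theorem L721080 : sm gc N53258 = N51412 := ded_32_1 (flp_h L701881) (flp_c L701871) L721074
theorem L721082 : sm ge N53258 = N51753 := ded_43_1 (flp_h L705416) (flp_e L701873) L721074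
theorem L721084 : sm gf N53258 = N51413 := ded_47_1 (flp_h L701895) (flp_f L701875) L721074
theorem L721086 : sm gg N53258 = N52359 := ded_50_1 (flp_h L711442) (flp_g L701877) L721074
theorem L721088 : sm gj N53258 = N51461 := ded_52_1 (flp_h L702357) (flp_j L701879) L721074
theorem L721090 : sm gi N53258 = N53258 := ded_54_2 (flp_h L721074) (flp_i L701867) L680860 L701867 L721074
theorem L721091 : sm gd N51413 = N53259 := rfl
theorem L721093 : sm ga N53259 = N51474 := ded_12_1 (flp_d L702520) (flp_a L701897) L721091
theorem L721095 : sm gb N53259 = N52414 := ded_20_1 L711850 (flp_b L701899) L721091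
theorem L721097 : sm gg N53259 = N51414 := ded_36_2 (flp_d L701910) (flp_g L701905) L721091
theorem L721099 : sm gj N53259 = N51462 := ded_37_2 (flp_d L702364) (flp_j L701907) L721091
theorem L721101 : sm gi N53259 = N53259 := ded_39_2 (flp_d L721091) L701909 L721091
theorem L721102 : sm gc N53259 = N51562 := ded_27_1 (flp_d L703467) L682323 (flp_d L680893) (flp_c L701901) L721091
theorem L721104 : sm ge N53259 = N51645 := ded_34_2 (flp_d L704207) L682879 (flp_d L681224) (flp_e L701903) L721091
theorem L721106 : sm gc N51415 = N53260 := rfl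
theorem L721108 : sm ga N53260 = N52388 := ded_11_1 L711646 (flp_a L701925) L721106
theorem L721110 : sm gf N53260 = N53260 := ded_29_2 (flp_c L721106) L701929 L721106
theorem L721111 : sm gg N53260 = N51715 := ded_30_2 L704995 (flp_g L701930) L721106
theorem L721113 : sm gh N53260 = N51705 := ded_32_2 (flp_c L704883) (flp_h L701932) L721106
theorem L721115 : sm gd N53260 = N53260 := ded_27_2 (flp_c L721106) (flp_d L701923) L680928 L701923 L721106
theorem L721116 : sm ge N51415 = N53261 := rfl
theorem L721118 : sm ga N53261 = N52518 := ded_13_1 L712568 (flp_a L701925) L721116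
theorem L721120 : sm gb N53261 = N52147 := ded_21_1 (flp_e L709506) (flp_b L701927) L721116
theorem L721122 : sm gg N53261 = N52133 := ded_41_2 (flp_e L709354) (flp_g L701930) L721116
theorem L721124 : sm gh N53261 = N51706 := ded_43_2 (flp_e L704892) (flp_h L701932) L721116
theorem L721126 : sm gd N53261 = N51420 := ded_34_1 (flp_e L701982) (flp_d L680945) (flp_e L680929) L701923 L721116
theorem L721128 : sm gi N51415 = N53262 := rfl
theorem L721130 : sm ga N53262 = N52536 := ded_18_1 (flp_i L712703) (flp_a L701925) L721128
theorem L721132 : sm gb N53262 = N52148 := ded_26_1 (flp_i L709512) (flp_b L701927) L721128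
theorem L721134 : sm gd N53262 = N51416 := ded_39_1 (flp_i L701934) L701923 L721128
theorem L721136 : sm gf N53262 = N53262 := ded_48_1 (flp_i L721128) L701929 L721128
theorem L721137 : sm gg N53262 = N52134 := ded_51_1 (flp_i L709368) (flp_g L701930) L721128
theorem L721139 : sm ge N51417 = N53263 := rfl
theorem L721141 : sm gb N53263 = N52444 := ded_21_1 L712045 (flp_b L701950) L721139
theorem L721143 : sm gg N53263 = N52439 := ded_41_2 L712013 (flp_g L701954) L721139
theorem L721145 : sm gj N53263 = N51420 := ded_42_2 (flp_e L701982) (flp_j L701956) L721139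
theorem L721147 : sm gh N53263 = N51436 := ded_43_2 (flp_e L702137) (flp_h L701958) L721139
theorem L721149 : sm gi N51417 = N53264 := rfl
theorem L721151 : sm gb N53264 = N52458 := ded_26_1 (flp_i L712133) (flp_b L701950) L721149
theorem L721153 : sm gd N53264 = N51418 := ded_39_1 (flp_i L701960) L701948 L721149
theorem L721155 : sm gf N53264 = N51422 := ded_48_1 (flp_i L701996) (flp_f L701952) L721149
theorem L721157 : sm gg N53264 = N52455 := ded_51_1 (flp_i L712109) (flp_g L701954) L721149
theorem L721159 : sm gj N53264 = N51421 := ded_53_1 (flp_i L701988) (flp_j L701956) L721149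
theorem L721161 : sm gb N51419 = N53265 := rfl
theorem L721163 : sm gd N53265 = N53265 := ded_20_2 (flp_b L721161) L701981 L721161
theorem L721164 : sm gf N53265 = N51423 := ded_22_2 (flp_b L702006) (flp_f L701975) L721161
theorem L721166 : sm gg N53265 = N51573 := ded_23_2 L703585 (flp_g L701977) L721161
theorem L721168 : sm gj N53265 = N52082 := ded_24_2 (flp_b L720760) L720765 L721161
theorem L721170 : sm gh N53265 = N51438 := ded_25_2 (flp_b L702151) (flp_h L701979) L721161
theorem L721172 : sm gc N53265 = N51571 := ded_19_2 L703552 (flp_c L695293) L695285 L701973 L721161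
theorem L721174 : sm ge N51419 = N53266 := rfl
theorem L721176 : sm gc N53266 = N51420 := ded_28_1 (flp_e L701982) L701973 L721174
theorem L721178 : sm gg N53266 = N52364 := ded_41_2 (flp_e L711488) (flp_g L701977) L721174
theorem L721180 : sm gh N53266 = N51439 := ded_43_2 (flp_e L702163) (flp_h L701979) L721174
theorem L721182 : sm gi N51419 = N53267 := rfl
theorem L721184 : sm gc N53267 = N51421 := ded_33_1 (flp_i L701988) L701973 L721182
theorem L721186 : sm gd N53267 = N53267 := ded_39_1 (flp_i L721182) L701981 L721182
theorem L721187 : sm gf N53267 = N51424 := ded_48_1 (flp_i L702017) (flp_f L701975) L721182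
theorem L721189 : sm gg N53267 = N52365 := ded_51_1 (flp_i L711494) (flp_g L701977) L721182
theorem L721191 : sm gf N51420 = N53268 := rfl
theorem L721193 : sm gh N53268 = N51441 := ded_47_2 (flp_f L702179) (flp_h L701986) L721191
theorem L721195 : sm ge N53268 = N51425 := ded_40_1 (flp_f L702024) (flp_e L680991) (flp_f L680947) L701982 L721191
theorem L721197 : sm gi N51420 = N53269 := rfl
theorem L721199 : sm ge N53269 = N51421 := ded_44_1 (flp_i L701988) L701982 L721197
theorem L721201 : sm gg N53269 = N52366 := ded_51_1 (flp_i L711501) (flp_g L701984) L721197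
theorem L721203 : sm gh N51421 = N53270 := rfl
theorem L721205 : sm gf N53270 = N51427 := ded_47_1 (flp_h L702036) (flp_f L701992) L721203
theorem L721207 : sm gg N53270 = N52367 := ded_50_1 (flp_h L711505) (flp_g L701994) L721203
theorem L721209 : sm gd N53270 = N51581 := ded_38_1 (flp_h L703646) L682431 (flp_h L680960) (flp_d L701990) L721203
theorem L721211 : sm gi N53270 = N51443 := ded_54_2 (flp_h L702193) (flp_i L681102) (flp_h L680951) L701988 L721203
theorem L721213 : sm gh N51422 = N53271 := rfl
theorem L721215 : sm gb N53271 = N52470 := ded_25_1 (flp_h L712211) (flp_b L701998) L721213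
theorem L721217 : sm gg N53271 = N52466 := ded_50_1 (flp_h L712189) (flp_g L702002) L721213
theorem L721219 : sm gj N53271 = N51427 := ded_52_1 (flp_h L702036) (flp_j L702004) L721213
theorem L721221 : sm gd N53271 = N51585 := ded_38_1 (flp_h L703685) L682461 (flp_h L680982) (flp_d L702000) L721213
theorem L721223 : sm gi N53271 = N51444 := ded_54_2 (flp_h L702201) (flp_i L681110) (flp_h L680970) L701996 L721213
theorem L721225 : sm gi N51423 = N53272 := rfl
theorem L721227 : sm gb N53272 = N51424 := ded_26_1 (flp_i L702017) L702006 L721225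
theorem L721229 : sm gc N53272 = N52092 := ded_33_1 (flp_i L708892) (flp_c L702015) L721225
theorem L721231 : sm gd N53272 = N53272 := ded_39_1 (flp_i L721225) L702008 L721225
theorem L721232 : sm gg N53272 = N51428 := ded_51_1 (flp_i L702044) (flp_g L702009) L721225
theorem L721234 : sm gj N53272 = N52089 := ded_53_1 (flp_i L708876) (flp_j L702011) L721225
theorem L721236 : sm gh N51424 = N53273 := rfl
theorem L721238 : sm gc N53273 = N51427 := ded_32_1 (flp_h L702036) (flp_c L702019) L721236
theorem L721240 : sm gg N53273 = N51430 := ded_50_1 (flp_h L702065) (flp_g L702022) L721236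
theorem L721242 : sm gi N53273 = N51446 := ded_54_2 (flp_h L702215) (flp_i L681122) (flp_h L680988) L702017 L721236
theorem L721244 : sm gg N51425 = N53274 := rfl
theorem L721246 : sm ga N53274 = N52079 := ded_15_1 (flp_g L720769) L720758 L721244
theorem L721248 : sm gb N53274 = N51510 := ded_23_1 (flp_g L714941) L714932 L721244
theorem L721250 : sm gc N53274 = N51486 := ded_30_1 (flp_g L720663) L720669 L721244
theorem L721252 : sm gd N53274 = N53274 := ded_36_1 (flp_g L721244) L702026 L721244
theorem L721253 : sm gh N53274 = N51447 := ded_50_2 (flp_g L702221) (flp_h L702027) L721244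
theorem L721255 : sm gf N53274 = N51431 := ded_45_1 (flp_g L702073) (flp_f L681030) (flp_g L680993) L702024 L721244
theorem L721257 : sm gj N53274 = N51488 := ded_49_2 L702699 (flp_j L704032) (flp_g L720694) L720696 L721244
theorem L721259 : sm gi N51425 = N53275 := rfl
theorem L721261 : sm gd N53275 = N53275 := ded_39_1 (flp_i L721259) L702026 L721259
theorem L721262 : sm gf N53275 = N51426 := ded_48_1 (flp_i L702029) L702024 L721259
theorem L721264 : sm gh N51426 = N53276 := rfl
theorem L721266 : sm ge N53276 = N51427 := ded_43_1 (flp_h L702036) (flp_e L702032) L721264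
theorem L721268 : sm gg N53276 = N51433 := ded_50_1 (flp_h L702101) (flp_g L702034) L721264
theorem L721270 : sm gi N53276 = N51449 := ded_54_2 (flp_h L702239) (flp_i L681134) (flp_h L680995) L702029 L721264
theorem L721272 : sm gh N51428 = N53277 := rfl
theorem L721274 : sm gb N53277 = N51430 := ded_25_1 (flp_h L702065) (flp_b L702046) L721272
theorem L721276 : sm gc N53277 = N52467 := ded_32_1 L712199 (flp_c L702048) L721272
theorem L721278 : sm gf N53277 = N52369 := ded_47_1 (flp_h L711521) (flp_f L702051) L721272
theorem L721280 : sm gi N53277 = N51452 := ded_54_2 (flp_h L702267) (flp_i L681158) (flp_h L681009) L702044 L721272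
theorem L721282 : sm gh N51429 = N53278 := rfl
theorem L721284 : sm ga N53278 = N52466 := ded_17_1 (flp_h L712189) (flp_a L702055) L721282
theorem L721286 : sm gc N53278 = N51433 := ded_32_1 (flp_h L702101) (flp_c L702057) L721282
theorem L721288 : sm ge N53278 = N51430 := ded_43_1 (flp_h L702065) (flp_e L702061) L721282
theorem L721290 : sm gf N53278 = N52464 := ded_47_1 (flp_h L712177) (flp_f L702063) L721282
theorem L721292 : sm gi N53278 = N51455 := ded_54_2 (flp_h L702299) (flp_i L681176) (flp_h L681017) L702053 L721282
theorem L721294 : sm gd N51430 = N53279 := rfl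
theorem L721296 : sm gf N53279 = N52370 := ded_35_2 (flp_d L711527) (flp_f L702069) L721294
theorem L721298 : sm gi N53279 = N51456 := ded_39_2 (flp_d L702305) (flp_i L702071) L721294
theorem L721300 : sm gc N53279 = N51595 := ded_27_1 (flp_d L703780) L682542 (flp_d L681052) (flp_c L702067) L721294
theorem L721302 : sm gh N53279 = N53279 := ded_38_2 (flp_d L721294) (flp_h L702065) L681027 L702065 L721294
theorem L721303 : sm gi N51431 = N53280 := rfl
theorem L721305 : sm ga N53280 = N52080 := ded_18_1 (flp_i L708789) (flp_a L702075) L721303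
theorem L721307 : sm gb N53280 = N51511 := ded_26_1 (flp_i L702944) (flp_b L702077) L721303
theorem L721309 : sm gc N53280 = N51491 := ded_33_1 (flp_i L702722) (flp_c L702079) L721303
theorem L721311 : sm gd N53280 = N53280 := ded_39_1 (flp_i L721303) L702081 L721303
theorem L721312 : sm ge N53280 = N51484 := ded_44_1 (flp_i L702646) (flp_e L702082) L721303
theorem L721314 : sm gg N53280 = N51432 := ded_51_1 (flp_i L702088) L702073 L721303
theorem L721316 : sm gj N53280 = N51493 := ded_53_1 (flp_i L702751) (flp_j L702086) L721303
theorem L721318 : sm gh N51432 = N53281 := rfl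
theorem L721320 : sm ga N53281 = N52088 := ded_17_1 (flp_h L708868) (flp_a L702090) L721318
theorem L721322 : sm gb N53281 = N51516 := ded_25_1 (flp_h L702998) (flp_b L702092) L721318
theorem L721324 : sm gc N53281 = N52464 := ded_32_1 (flp_h L712177) (flp_c L702094) L721318
theorem L721326 : sm ge N53281 = N51485 := ded_43_1 (flp_h L702658) (flp_e L702097) L721318
theorem L721328 : sm gf N53281 = N51433 := ded_47_1 (flp_h L702101) (flp_f L702099) L721318
theorem L721330 : sm gi N53281 = N51458 := ded_54_2 (flp_h L702327) (flp_i L681200) (flp_h L681039) L702088 L721318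
theorem L721332 : sm gd N51433 = N53282 := rfl
theorem L721334 : sm gi N53282 = N51459 := ded_39_2 (flp_d L702335) (flp_i L702105) L721332
theorem L721336 : sm ge N53282 = N51598 := ded_34_2 (flp_d L703802) L682564 (flp_d L681052) (flp_e L702103) L721332
theorem L721338 : sm gh N53282 = N53282 := ded_38_2 (flp_d L721332) (flp_h L702101) L681045 L702101 L721332
theorem L721339 : sm ge N51434 = N53283 := rfl
theorem L721341 : sm gb N53283 = N52064 := ded_21_1 (flp_e L708626) (flp_b L702109) L721339
theorem L721343 : sm gc N53283 = N52431 := ded_28_1 (flp_e L711953) (flp_c L702117) L721339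
theorem L721345 : sm gg N53283 = N51436 := ded_41_2 (flp_e L702137) (flp_g L702113) L721339
theorem L721347 : sm gj N53283 = N52068 := ded_42_2 (flp_e L708668) (flp_j L702115) L721339
theorem L721349 : sm gh N53283 = N52439 := ded_43_2 L712013 (flp_h L702119) L721339
theorem L721351 : sm gd N53283 = N51722 := ded_34_1 (flp_e L705075) (flp_d L683799) (flp_e L681062) L702107 L721339
theorem L721353 : sm gf N53283 = N52415 := ded_40_2 (flp_e L711852) L690988 (flp_e L687491) (flp_f L702111) L721339
theorem L721355 : sm gi N51434 = N53284 := rfl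
theorem L721357 : sm gb N53284 = N52065 := ded_26_1 (flp_i L708636) (flp_b L702109) L721355
theorem L721359 : sm gc N53284 = N52432 := ded_33_1 (flp_i L711959) (flp_c L702117) L721355
theorem L721361 : sm gd N53284 = N51435 := ded_39_1 (flp_i L702121) L702107 L721355
theorem L721363 : sm gf N53284 = N52077 := ded_48_1 (flp_i L708752) (flp_f L702111) L721355
theorem L721365 : sm gg N53284 = N51437 := ded_51_1 (flp_i L702143) (flp_g L702113) L721355
theorem L721367 : sm gj N53284 = N52069 := ded_53_1 (flp_i L708678) (flp_j L702115) L721355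
theorem L721369 : sm gi N51436 = N53285 := rfl
theorem L721371 : sm gd N53285 = N51727 := ded_39_1 (flp_i L705128) (flp_d L702141) L721369
theorem L721373 : sm ge N53285 = N51437 := ded_44_1 (flp_i L702143) L702137 L721369
theorem L721375 : sm gj N53285 = N51442 := ded_53_1 (flp_i L702185) (flp_j L702139) L721369
theorem L721377 : sm gh N51437 = N53286 := rfl
theorem L721379 : sm gf N53286 = N51444 := ded_47_1 (flp_h L702201) (flp_f L702147) L721377
theorem L721381 : sm gj N53286 = N51443 := ded_52_1 (flp_h L702193) (flp_j L702149) L721377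
theorem L721383 : sm gd N53286 = N51605 := ded_38_1 (flp_h L703861) L682602 (flp_h L681086) (flp_d L702145) L721377
theorem L721385 : sm ge N51438 = N53287 := rfl
theorem L721387 : sm gb N53287 = N51439 := ded_21_1 (flp_e L702163) L702151 L721385
theorem L721389 : sm gc N53287 = N51599 := ded_28_1 (flp_e L703807) (flp_c L702161) L721385
theorem L721391 : sm gg N53287 = N51601 := ded_41_2 (flp_e L703823) (flp_g L702157) L721385
theorem L721393 : sm gj N53287 = N52426 := ded_42_2 (flp_e L711923) (flp_j L702159) L721385
theorem L721395 : sm gi N51438 = N53288 := rfl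
theorem L721397 : sm gb N53288 = N51440 := ded_26_1 (flp_i L702169) L702151 L721395
theorem L721399 : sm gc N53288 = N51600 := ded_33_1 (flp_i L703815) (flp_c L702161) L721395
theorem L721401 : sm gd N53288 = N51468 := ded_39_1 (flp_i L702441) (flp_d L702153) L721395
theorem L721403 : sm gf N53288 = N51445 := ded_48_1 (flp_i L702207) (flp_f L702155) L721395
theorem L721405 : sm gg N53288 = N51602 := ded_51_1 (flp_i L703831) (flp_g L702157) L721395
theorem L721407 : sm gj N53288 = N52427 := ded_53_1 (flp_i L711929) (flp_j L702159) L721395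
theorem L721409 : sm gd N51439 = N53289 := rfl
theorem L721411 : sm ga N53289 = N51726 := ded_12_1 (flp_d L720892) L720884 L721409
theorem L721413 : sm gf N53289 = N51690 := ded_35_2 (flp_d L720866) L720868 L721409
theorem L721415 : sm gg N53289 = N52373 := ded_36_2 (flp_d L711550) (flp_g L702167) L721409
theorem L721417 : sm gj N53289 = N51692 := ded_37_2 (flp_d L720918) L720920 L721409
theorem L721419 : sm gc N53289 = N51731 := ded_27_1 (flp_d L705172) L683861 (flp_d L681100) (flp_c L702165) L721409
theorem L721421 : sm ge N53289 = N51469 := ded_34_2 (flp_d L702453) (flp_e L681354) (flp_d L681094) L702163 L721409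
theorem L721423 : sm gh N52515 = N53289 := ded_47_0 L721413 L704728 L712540
theorem L721425 : sm gi N51439 = N53290 := rfl
theorem L721427 : sm gc N53290 = N51442 := ded_33_1 (flp_i L702185) (flp_c L702165) L721425
theorem L721429 : sm ge N53290 = N51440 := ded_44_1 (flp_i L702169) L702163 L721425
theorem L721431 : sm gg N53290 = N52375 := ded_51_1 (flp_i L711562) (flp_g L702167) L721425
theorem L721433 : sm gh N51440 = N53291 := rfl
theorem L721435 : sm gc N53291 = N51443 := ded_32_1 (flp_h L702193) (flp_c L702171) L721433
theorem L721437 : sm gf N53291 = N51446 := ded_47_1 (flp_h L702215) (flp_f L702175) L721433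
theorem L721439 : sm gg N53291 = N52376 := ded_50_1 (flp_h L711568) (flp_g L702177) L721433
theorem L721441 : sm gg N51441 = N53292 := rfl
theorem L721443 : sm ga N53292 = N52431 := ded_15_1 (flp_g L720924) L720912 L721441
theorem L721445 : sm gb N53292 = N51525 := ded_23_1 (flp_g L715062) L715056 L721441
theorem L721447 : sm gd N53292 = N51735 := ded_36_1 (flp_g L705228) (flp_d L702181) L721441
theorem L721449 : sm ge N53292 = N51447 := ded_41_1 (flp_g L702221) (flp_e L702183) L721441
theorem L721451 : sm gf N53292 = N51489 := ded_45_1 L702708 (flp_f L690619) (flp_g L681098) L702179 L721441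
theorem L721453 : sm gj N52436 = N53292 := ded_16_0 L721443 L711957 (flp_a L711993)
theorem L721455 : sm gi N51441 = N53293 := rfl
theorem L721457 : sm gd N53293 = N51736 := ded_39_1 (flp_i L705236) (flp_d L702181) L721455
theorem L721459 : sm ge N53293 = N51448 := ded_44_1 (flp_i L702233) (flp_e L702183) L721455
theorem L721461 : sm gf N53293 = N51442 := ded_48_1 (flp_i L702185) L702179 L721455
theorem L721463 : sm gh N51442 = N53294 := rfl
theorem L721465 : sm ge N53294 = N51443 := ded_43_1 (flp_h L702193) (flp_e L702189) L721463
theorem L721467 : sm gg N53294 = N52378 := ded_50_1 (flp_h L711584) (flp_g L702191) L721463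
theorem L721469 : sm gh N51445 = N53295 := rfl
theorem L721471 : sm gb N53295 = N51446 := ded_25_1 (flp_h L702215) (flp_b L702209) L721469
theorem L721473 : sm gg N53295 = N51452 := ded_50_1 (flp_h L702267) (flp_g L702213) L721469
theorem L721475 : sm gd N51446 = N53296 := rfl
theorem L721477 : sm gg N53296 = N51456 := ded_36_2 (flp_d L702305) (flp_g L702219) L721475
theorem L721479 : sm gc N53296 = N51628 := ded_27_1 (flp_d L704083) L682760 (flp_d L681146) (flp_c L702217) L721475
theorem L721481 : sm gh N53296 = N51474 := ded_38_2 (flp_d L702520) (flp_h L681419) (flp_d L681126) L702215 L721475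
theorem L721483 : sm gi N51447 = N53297 := rfl
theorem L721485 : sm ga N53297 = N52432 := ded_18_1 (flp_i L711959) (flp_a L702223) L721483
theorem L721487 : sm gb N53297 = N51537 := ded_26_1 (flp_i L703200) (flp_b L702225) L721483
theorem L721489 : sm gd N53297 = N51460 := ded_39_1 (flp_i L702341) (flp_d L702227) L721483
theorem L721491 : sm gf N53297 = N51457 := ded_48_1 (flp_i L702313) (flp_f L702229) L721483
theorem L721493 : sm gg N53297 = N51448 := ded_51_1 (flp_i L702233) L702221 L721483
theorem L721495 : sm gj N53297 = N52437 := ded_53_1 (flp_i L711995) L702231 L721483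
theorem L721497 : sm gh N51448 = N53298 := rfl
theorem L721499 : sm gf N53298 = N51449 := ded_47_1 (flp_h L702239) (flp_f L702237) L721497
theorem L721501 : sm gd N51449 = N53299 := rfl
theorem L721503 : sm gg N53299 = N51459 := ded_36_2 (flp_d L702335) (flp_g L702243) L721501
theorem L721505 : sm ge N53299 = N51632 := ded_34_2 (flp_d L704107) L682778 (flp_d L681146) (flp_e L702241) L721501
theorem L721507 : sm gh N53299 = N51462 := ded_38_2 (flp_d L702364) (flp_h L681248) (flp_d L681136) L702239 L721501
theorem L721509 : sm gh N51450 = N53300 := rfl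
theorem L721511 : sm ga N53300 = N51452 := ded_17_1 (flp_h L702267) (flp_a L702247) L721509
theorem L721513 : sm gb N53300 = N52471 := ded_25_1 L712219 (flp_b L702249) L721509
theorem L721515 : sm ge N53300 = N52467 := ded_43_1 L712199 (flp_e L702253) L721509
theorem L721517 : sm gf N53300 = N52383 := ded_47_1 (flp_h L711617) (flp_f L702255) L721509
theorem L721519 : sm gd N53300 = N52469 := ded_38_1 L712209 L691495 L681438 (flp_d L702251) L721509
theorem L721521 : sm gh N51451 = N53301 := rfl
theorem L721523 : sm ga N53301 = N52467 := ded_17_1 L712199 (flp_a L702259) L721521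
theorem L721525 : sm gb N53301 = N51455 := ded_25_1 (flp_h L702299) (flp_b L702261) L721521
theorem L721527 : sm ge N53301 = N51452 := ded_43_1 (flp_h L702267) (flp_e L702265) L721521
theorem L721529 : sm gd N53301 = N52464 := ded_38_1 (flp_h L712177) L691267 L693700 (flp_d L702263) L721521
theorem L721531 : sm gd N51452 = N53302 := rfl
theorem L721533 : sm ga N53302 = N52469 := ded_12_1 (flp_d L721519) L721511 L721531
theorem L721535 : sm gb N53302 = N51456 := ded_20_1 (flp_d L702305) (flp_b L702269) L721531
theorem L721537 : sm gf N53302 = N52385 := ded_35_2 (flp_d L711629) (flp_f L702271) L721531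
theorem L721539 : sm ge N53302 = N52465 := ded_34_2 (flp_d L712183) (flp_e L712181) (flp_d L721529) L721527 L721531
theorem L721541 : sm gh N53302 = N51475 := ded_38_2 (flp_d L702527) (flp_h L681440) (flp_d L681162) L702267 L721531
theorem L721543 : sm gi N51453 = N53303 := rfl
theorem L721545 : sm ga N53303 = N52077 := ded_18_1 (flp_i L708752) (flp_a L702275) L721543
theorem L721547 : sm gb N53303 = N51506 := ded_26_1 (flp_i L702889) (flp_b L702277) L721543
theorem L721549 : sm gc N53303 = N51457 := ded_33_1 (flp_i L702313) (flp_c L702279) L721543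
theorem L721551 : sm gd N53303 = N51483 := ded_39_1 (flp_i L702635) (flp_d L702281) L721543
theorem L721553 : sm ge N53303 = N51493 := ded_44_1 (flp_i L702751) (flp_e L702283) L721543
theorem L721555 : sm gg N53303 = N51454 := ded_51_1 (flp_i L702289) L702273 L721543
theorem L721557 : sm gj N53303 = N51484 := ded_53_1 (flp_i L702646) (flp_j L702287) L721543
theorem L721559 : sm gh N51454 = N53304 := rfl
theorem L721561 : sm ga N53304 = N52423 := ded_17_1 (flp_h L711903) (flp_a L702291) L721559
theorem L721563 : sm gc N53304 = N51458 := ded_32_1 (flp_h L702327) (flp_c L702293) L721559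
theorem L721565 : sm ge N53304 = N51496 := ded_43_1 (flp_h L702777) (flp_e L702295) L721559
theorem L721567 : sm gf N53304 = N51455 := ded_47_1 (flp_h L702299) (flp_f L702297) L721559
theorem L721569 : sm gi N53304 = N52464 := ded_54_2 (flp_h L712177) (flp_i L691263) (flp_h L681172) L702289 L721559
theorem L721571 : sm ge N51456 = N53305 := rfl
theorem L721573 : sm ga N53305 = N52410 := ded_13_1 (flp_e L721026) L721018 L721571
theorem L721575 : sm gb N53305 = N52465 := ded_21_1 (flp_e L721539) L721535 L721571
theorem L721577 : sm gc N53305 = N51639 := ded_28_1 (flp_e L704165) (flp_c L702309) L721571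
theorem L721579 : sm gh N53305 = N51476 := ded_43_2 (flp_e L702538) (flp_h L702311) L721571
theorem L721581 : sm gd N53305 = N52409 := ded_34_1 (flp_e L720147) L720153 L702303 L702305 L721571
theorem L721583 : sm gh N51457 = N53306 := rfl
theorem L721585 : sm ga N53306 = N52452 := ded_17_1 (flp_h L712091) (flp_a L702315) L721583
theorem L721587 : sm gb N53306 = N51538 := ded_25_1 (flp_h L703208) (flp_b L702317) L721583
theorem L721589 : sm ge N53306 = N51494 := ded_43_1 (flp_h L702760) (flp_e L702321) L721583
theorem L721591 : sm gg N53306 = N51458 := ded_50_1 (flp_h L702327) (flp_g L702323) L721583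
theorem L721593 : sm gj N53306 = N52454 := ded_52_1 (flp_h L712103) (flp_j L702325) L721583
theorem L721595 : sm gd N51458 = N53307 := rfl
theorem L721597 : sm gb N53307 = N51544 := ded_20_1 (flp_d L703261) (flp_b L702329) L721595
theorem L721599 : sm gf N53307 = N51459 := ded_35_2 (flp_d L702335) (flp_f L702333) L721595
theorem L721601 : sm ge N53307 = N52468 := ded_34_2 (flp_d L715561) L715555 L701502 (flp_e L702331) L721595
theorem L721603 : sm gh N53307 = N51464 := ded_38_2 (flp_d L702386) (flp_h L681269) (flp_d L681204) L702327 L721595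
theorem L721605 : sm gc N52469 = N53307 := ded_55_7 (flp_d L721595) (flp_i L721330) (flp_h L721318) L702096 L702099 L681046 L658850 (flp_b L652726) L652728 L648793 (flp_i L649486) L649484 L271284 (flp_f L630948) L256176 L404349 L176396 L176397 L566976 L141274 L141281 L566932 L176451 (flp_e L641785) L98984 (flp_b L643313) L115761 L115762 (flp_i L115758) (flp_h L80105) (flp_d L55551) L55560 L55568 (flp_d L55779) (flp_b L80419) (flp_c L116202) L116204 L116205 L116396 L168687 L168691 L168702 L168709 L122873 L86329 L61375 L88771 (flp_h L574966) (flp_d L166685) (flp_f L241740) (flp_e L645340) (flp_d L270113) L270112 (flp_c L607597) (flp_d L621688) (flp_i L262386) (flp_h L180519) (flp_d L622583) L92771 L92769 L92790 L92792 L65783 (flp_d L46887) (flp_i L453444) L40750 (flp_d L58700) (flp_f L58695) (flp_e L55821) (flp_d L55814) L38817 L38818 L55814 L574923 (flp_h L61373) L61375 L88765 (flp_e L128637) (flp_d L186728) L186727 (flp_c L271427) (flp_d L384041) L669163 L691303 (flp_d L708424) L708422 L712217 L712221 (flp_b L712207)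
theorem L721607 : sm gc N51459 = N53308 := rfl
theorem L721609 : sm ga N53308 = N52385 := ded_11_1 (flp_c L721036) L721032 L721607
theorem L721611 : sm ge N53308 = N51643 := ded_28_2 (flp_c L704191) (flp_e L702337) L721607
theorem L721613 : sm gf N53308 = N52469 := ded_29_2 L721605 L721599 L721607
theorem L721615 : sm gh N53308 = N51465 := ded_32_2 (flp_c L702397) (flp_h L702339) L721607
theorem L721617 : sm gd N53308 = N52383 := ded_27_2 (flp_c L720145) L720153 L702301 L702335 L721607
theorem L721619 : sm gb N52472 = N53308 := ded_22_3 L721613 L712207 L712223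
theorem L721621 : sm gh N51460 = N53309 := rfl
theorem L721623 : sm ga N53309 = N52474 := ded_17_1 (flp_h L712236) (flp_a L702343) L721621
theorem L721625 : sm gb N53309 = N51548 := ded_25_1 (flp_h L703308) (flp_b L702345) L721621
theorem L721627 : sm gc N53309 = N52490 := ded_32_1 (flp_h L712350) (flp_c L702347) L721621
theorem L721629 : sm ge N53309 = N51756 := ded_43_1 (flp_h L705449) (flp_e L702349) L721621
theorem L721631 : sm gf N53309 = N51463 := ded_47_1 (flp_h L702371) (flp_f L702351) L721621
theorem L721633 : sm gg N53309 = N51461 := ded_50_1 (flp_h L702357) (flp_g L702353) L721621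
theorem L721635 : sm gj N53309 = N52476 := ded_52_1 (flp_h L712254) (flp_j L702355) L721621
theorem L721637 : sm gi N53309 = N53309 := ded_54_2 (flp_h L721621) (flp_i L702341) L681237 L702341 L721621
theorem L721638 : sm gd N51461 = N53310 := rfl
theorem L721640 : sm gf N53310 = N51462 := ded_35_2 (flp_d L702364) (flp_f L702361) L721638
theorem L721642 : sm gi N53310 = N53310 := ded_39_2 (flp_d L721638) L702363 L721638
theorem L721643 : sm gc N51462 = N53311 := rfl
theorem L721645 : sm ga N53311 = N51667 := ded_11_1 (flp_c L721070) L721061 L721643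
theorem L721647 : sm ge N53311 = N51649 := ded_28_2 (flp_c L704244) (flp_e L702369) L721643
theorem L721649 : sm gg N53311 = N51465 := ded_30_2 (flp_c L702397) (flp_g L702366) L721643
theorem L721651 : sm gj N53311 = N51562 := ded_31_2 (flp_c L721102) L721099 L721643
theorem L721653 : sm gi N53311 = N53311 := ded_33_2 (flp_c L721643) L702368 L721643
theorem L721654 : sm gd N53311 = N51559 := ded_27_2 L703436 (flp_d L701326) L701318 L702364 L721643
theorem L721656 : sm gb N52489 = N53311 := ded_23_3 L721649 (flp_b L702408) L712345
theorem L721658 : sm gd N51463 = N53312 := rfl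
theorem L721660 : sm ga N53312 = N52484 := ded_12_1 (flp_d L712310) (flp_a L702373) L721658
theorem L721662 : sm gb N53312 = N51549 := ded_20_1 (flp_d L703318) (flp_b L702375) L721658
theorem L721664 : sm gg N53312 = N51464 := ded_36_2 (flp_d L702386) (flp_g L702381) L721658
theorem L721666 : sm gj N53312 = N52485 := ded_37_2 (flp_d L712317) (flp_j L702383) L721658
theorem L721668 : sm gi N53312 = N53312 := ded_39_2 (flp_d L721658) L702385 L721658
theorem L721669 : sm gc N53312 = N52487 := ded_27_1 L712338 (flp_c L702594) L702602 (flp_c L702377) L721658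
theorem L721671 : sm ge N53312 = N52486 := ded_34_2 L712329 (flp_e L696090) L696098 (flp_e L702379) L721658
theorem L721673 : sm gh N51468 = N53313 := rfl
theorem L721675 : sm ga N53313 = N52726 := ded_17_1 L716017 L716003 L721673
theorem L721677 : sm gb N53313 = N51471 := ded_25_1 (flp_h L702481) (flp_b L702443) L721673
theorem L721679 : sm gc N53313 = N51479 := ded_32_1 (flp_h L702576) (flp_c L702445) L721673
theorem L721681 : sm gf N53313 = N51473 := ded_47_1 (flp_h L702505) (flp_f L702447) L721673
theorem L721683 : sm gg N53313 = N51655 := ded_50_1 (flp_h L704297) (flp_g L702449) L721673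
theorem L721685 : sm gj N53313 = N52473 := ded_52_1 (flp_h L712227) (flp_j L702451) L721673
theorem L721687 : sm gi N53313 = N53313 := ded_54_2 (flp_h L721673) (flp_i L702441) L681351 L702441 L721673
theorem L721688 : sm gi N51469 = N53314 := rfl
theorem L721690 : sm ga N53314 = N51739 := ded_18_1 (flp_i L705265) (flp_a L702455) L721688
theorem L721692 : sm gc N53314 = N51762 := ded_33_1 (flp_i L705512) (flp_c L702463) L721688
theorem L721694 : sm gd N53314 = N51470 := ded_39_1 (flp_i L702467) L702453 L721688
theorem L721696 : sm gf N53314 = N51695 := ded_48_1 (flp_i L704776) (flp_f L702457) L721688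
theorem L721698 : sm gg N53314 = N52389 := ded_51_1 (flp_i L711652) (flp_g L702459) L721688
theorem L721700 : sm gj N53314 = N51697 := ded_53_1 (flp_i L704802) (flp_j L702461) L721688
theorem L721702 : sm gh N51470 = N53315 := rfl
theorem L721704 : sm ga N53315 = N51753 := ded_17_1 (flp_h L705416) (flp_a L702469) L721702
theorem L721706 : sm gc N53315 = N51472 := ded_32_1 (flp_h L702490) (flp_c L702471) L721702
theorem L721708 : sm ge N53315 = N51471 := ded_43_1 (flp_h L702481) (flp_e L702473) L721702
theorem L721710 : sm gf N53315 = N51700 := ded_47_1 (flp_h L704835) (flp_f L702475) L721702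
theorem L721712 : sm gg N53315 = N52390 := ded_50_1 (flp_h L711659) (flp_g L702477) L721702
theorem L721714 : sm gj N53315 = N51701 := ded_52_1 (flp_h L704847) (flp_j L702479) L721702
theorem L721716 : sm gi N53315 = N53315 := ded_54_2 (flp_h L721702) (flp_i L702467) L681364 L702467 L721702
theorem L721717 : sm gd N51471 = N53316 := rfl
theorem L721719 : sm gf N53316 = N51474 := ded_35_2 (flp_d L702520) (flp_f L702485) L721717
theorem L721721 : sm gg N53316 = N52391 := ded_36_2 (flp_d L711667) (flp_g L702487) L721717
theorem L721723 : sm gi N53316 = N53316 := ded_39_2 (flp_d L721717) L702489 L721717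
theorem L721724 : sm gc N53316 = N51665 := ded_27_1 (flp_d L704408) L683039 (flp_d L681397) (flp_c L702483) L721717
theorem L721726 : sm gd N51473 = N53317 := rfl
theorem L721728 : sm ga N53317 = N52487 := ded_12_1 L712338 (flp_a L702507) L721726
theorem L721730 : sm gb N53317 = N51474 := ded_20_1 (flp_d L702520) (flp_b L702509) L721726
theorem L721732 : sm gg N53317 = N51475 := ded_36_2 (flp_d L702527) (flp_g L702515) L721726
theorem L721734 : sm gj N53317 = N52486 := ded_37_2 L712329 (flp_j L702517) L721726
theorem L721736 : sm gi N53317 = N53317 := ded_39_2 (flp_d L721726) L702519 L721726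
theorem L721737 : sm gc N53317 = N52484 := ded_27_1 (flp_d L712310) L691443 (flp_d L681592) (flp_c L702511) L721726
theorem L721739 : sm ge N53317 = N52485 := ded_34_2 (flp_d L712317) L691461 L693747 (flp_e L702513) L721726
theorem L721741 : sm ge N51474 = N53318 := rfl
theorem L721743 : sm ga N53318 = N51645 := ded_13_1 (flp_e L721104) L721093 L721741
theorem L721745 : sm gb N53318 = N52485 := ded_21_1 (flp_e L721739) L721730 L721741
theorem L721747 : sm gc N53318 = N51670 := ded_28_1 (flp_e L704461) (flp_c L702525) L721741
theorem L721749 : sm gg N53318 = N51476 := ded_41_2 (flp_e L702538) (flp_g L702522) L721741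
theorem L721751 : sm gj N53318 = N51549 := ded_42_2 (flp_e L721072) L721067 L721741
theorem L721753 : sm gi N53318 = N53318 := ded_44_2 (flp_e L721741) L702524 L721741
theorem L721754 : sm gd N53318 = N51547 := ded_34_1 L703301 (flp_d L701380) L701372 L702520 L721741
theorem L721756 : sm gh N51477 = N53319 := rfl
theorem L721758 : sm ga N53319 = N51479 := ded_17_1 (flp_h L702576) (flp_a L702551) L721756
theorem L721760 : sm gb N53319 = N53319 := ded_25_1 (flp_h L721756) L702553 L721756
theorem L721761 : sm gc N53319 = N52726 := ded_32_1 L716017 L716007 L721756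
theorem L721763 : sm gf N53319 = N51480 := ded_47_1 (flp_h L702589) (flp_f L702556) L721756
theorem L721765 : sm gg N53319 = N51554 := ded_50_1 (flp_h L703371) (flp_g L702558) L721756
theorem L721767 : sm gj N53319 = N52412 := ded_52_1 (flp_h L711824) (flp_j L702560) L721756
theorem L721769 : sm gd N53319 = N52490 := ded_38_1 (flp_h L712350) (flp_d L701855) L701865 (flp_d L702554) L721756
theorem L721771 : sm gi N53319 = N53319 := ded_54_2 (flp_h L721756) (flp_i L702549) L681499 L702549 L721756
theorem L721772 : sm ge N51481 = N53320 := rfl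
theorem L721774 : sm ga N53320 = N52068 := ded_13_1 (flp_e L708668) (flp_a L702607) L721772
theorem L721776 : sm gb N53320 = N51503 := ded_21_1 (flp_e L702856) (flp_b L702609) L721772
theorem L721778 : sm gc N53320 = N52436 := ded_28_1 (flp_e L711991) (flp_c L702615) L721772
theorem L721780 : sm gg N53320 = N52349 := ded_41_2 (flp_e L711345) (flp_g L702613) L721772
theorem L721782 : sm gh N53320 = N51489 := ded_43_2 (flp_e L702704) (flp_h L702617) L721772
theorem L721784 : sm gd N53320 = N52492 := ded_34_1 (flp_e L712370) (flp_d L691606) (flp_e L681630) L702605 L721772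
theorem L721786 : sm gi N51481 = N53321 := rfl
theorem L721788 : sm ga N53321 = N52069 := ded_18_1 (flp_i L708678) (flp_a L702607) L721786
theorem L721790 : sm gb N53321 = N51504 := ded_26_1 (flp_i L702864) (flp_b L702609) L721786
theorem L721792 : sm gc N53321 = N52437 := ded_33_1 (flp_i L711995) (flp_c L702615) L721786
theorem L721794 : sm gd N53321 = N51482 := ded_39_1 (flp_i L702619) L702605 L721786
theorem L721796 : sm gf N53321 = N51484 := ded_48_1 (flp_i L702646) (flp_f L702611) L721786
theorem L721798 : sm gg N53321 = N52350 := ded_51_1 (flp_i L711359) (flp_g L702613) L721786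
theorem L721800 : sm gh N51484 = N53322 := rfl
theorem L721802 : sm ga N53322 = N52081 := ded_17_1 (flp_h L708802) (flp_a L702648) L721800
theorem L721804 : sm gb N53322 = N51512 := ded_25_1 (flp_h L702953) (flp_b L702650) L721800
theorem L721806 : sm gc N53322 = N52454 := ded_32_1 (flp_h L712103) (flp_c L702652) L721800
theorem L721808 : sm gg N53322 = N51485 := ded_50_1 (flp_h L702658) (flp_g L702656) L721800
theorem L721810 : sm gi N53322 = N51494 := ded_54_2 (flp_h L702760) (flp_i L681748) (flp_h L681657) L702646 L721800
theorem L721812 : sm ge N51486 = N53323 := rfl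
theorem L721814 : sm ga N53323 = N52439 := ded_13_1 L712013 (flp_a L702672) L721812
theorem L721816 : sm gb N53323 = N51520 := ded_21_1 (flp_e L703036) (flp_b L702674) L721812
theorem L721818 : sm gj N53323 = N51489 := ded_42_2 (flp_e L702704) (flp_j L702678) L721812
theorem L721820 : sm gd N53323 = N51772 := ded_34_1 (flp_e L705627) (flp_d L684396) (flp_e L681689) L702670 L721812
theorem L721822 : sm gf N53323 = N52436 := ded_40_2 (flp_e L711991) L691115 (flp_e L681724) (flp_f L702676) L721812
theorem L721824 : sm gi N51486 = N53324 := rfl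
theorem L721826 : sm ga N53324 = N52455 := ded_18_1 (flp_i L712109) (flp_a L702672) L721824
theorem L721828 : sm gb N53324 = N51521 := ded_26_1 (flp_i L703044) (flp_b L702674) L721824
theorem L721830 : sm gd N53324 = N51487 := ded_39_1 (flp_i L702680) L702670 L721824
theorem L721832 : sm gf N53324 = N51491 := ded_48_1 (flp_i L702722) (flp_f L702676) L721824
theorem L721834 : sm gj N53324 = N51490 := ded_53_1 (flp_i L702712) (flp_j L702678) L721824
theorem L721836 : sm gb N51488 = N53325 := rfl
theorem L721838 : sm gd N53325 = N53325 := ded_20_2 (flp_b L721836) L702703 L721836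
theorem L721839 : sm gf N53325 = N51492 := ded_22_2 (flp_b L702736) (flp_f L702697) L721836
theorem L721841 : sm gg N53325 = N51616 := ded_23_2 L703959 (flp_g L702699) L721836
theorem L721843 : sm gj N53325 = N51510 := ded_24_2 (flp_b L721248) L721257 L721836
theorem L721845 : sm gh N53325 = N51529 := ded_25_2 L703124 (flp_h L702701) L721836
theorem L721847 : sm ga N53325 = N51583 := ded_10_1 L703667 L690771 L690985 (flp_a L702695) L721836
theorem L721849 : sm gc N53325 = N51522 := ded_19_2 (flp_b L703054) (flp_c L681961) (flp_b L681697) L702693 L721836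
theorem L721851 : sm ge N51488 = N53326 := rfl
theorem L721853 : sm ga N53326 = N52415 := ded_13_1 (flp_e L711852) (flp_a L702695) L721851
theorem L721855 : sm gc N53326 = N51489 := ded_28_1 (flp_e L702704) L702693 L721851
theorem L721857 : sm gg N53326 = N52374 := ded_41_2 L711560 (flp_g L702699) L721851
theorem L721859 : sm gh N53326 = N52436 := ded_43_2 (flp_e L711991) (flp_h L702701) L721851
theorem L721861 : sm gi N51488 = N53327 := rfl
theorem L721863 : sm ga N53327 = N52416 := ded_18_1 (flp_i L711858) (flp_a L702695) L721861
theorem L721865 : sm gc N53327 = N51490 := ded_33_1 (flp_i L702712) L702693 L721861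
theorem L721867 : sm gd N53327 = N53327 := ded_39_1 (flp_i L721861) L702703 L721861
theorem L721868 : sm gf N53327 = N51493 := ded_48_1 (flp_i L702751) (flp_f L702697) L721861
theorem L721870 : sm gg N53327 = N52379 := ded_51_1 (flp_i L711588) (flp_g L702699) L721861
theorem L721872 : sm gi N51489 = N53328 := rfl
theorem L721874 : sm gb N53328 = N51526 := ded_26_1 (flp_i L703090) (flp_b L702706) L721872
theorem L721876 : sm gd N53328 = N51776 := ded_39_1 (flp_i L705658) (flp_d L702710) L721872
theorem L721878 : sm ge N53328 = N51490 := ded_44_1 (flp_i L702712) L702704 L721872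
theorem L721880 : sm gg N53328 = N52377 := ded_51_1 (flp_i L711574) (flp_g L702708) L721872
theorem L721882 : sm gh N51490 = N53329 := rfl
theorem L721884 : sm gb N53329 = N51527 := ded_25_1 (flp_h L703100) (flp_b L702714) L721882
theorem L721886 : sm gf N53329 = N51494 := ded_47_1 (flp_h L702760) (flp_f L702718) L721882
theorem L721888 : sm gg N53329 = N52382 := ded_50_1 (flp_h L711611) (flp_g L702720) L721882
theorem L721890 : sm gh N51491 = N53330 := rfl
theorem L721892 : sm ga N53330 = N52456 := ded_17_1 (flp_h L712117) (flp_a L702724) L721890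
theorem L721894 : sm gb N53330 = N51531 := ded_25_1 (flp_h L703144) (flp_b L702726) L721890
theorem L721896 : sm ge N53330 = N52454 := ded_43_1 (flp_h L712103) (flp_e L702730) L721890
theorem L721898 : sm gg N53330 = N52464 := ded_50_1 (flp_h L712177) (flp_g L702732) L721890
theorem L721900 : sm gj N53330 = N51494 := ded_52_1 (flp_h L702760) (flp_j L702734) L721890
theorem L721902 : sm gi N51492 = N53331 := rfl
theorem L721904 : sm ga N53331 = N51584 := ded_18_1 (flp_i L703674) (flp_a L702747) L721902
theorem L721906 : sm gb N53331 = N51493 := ded_26_1 (flp_i L702751) L702736 L721902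
theorem L721908 : sm gc N53331 = N51533 := ded_33_1 (flp_i L703166) (flp_c L702749) L721902
theorem L721910 : sm gd N53331 = N53331 := ded_39_1 (flp_i L721902) L702738 L721902
theorem L721911 : sm ge N53331 = N51506 := ded_44_1 (flp_i L702889) (flp_e L702739) L721902
theorem L721913 : sm gg N53331 = N51495 := ded_51_1 (flp_i L702766) (flp_g L702741) L721902
theorem L721915 : sm gj N53331 = N51511 := ded_53_1 (flp_i L702944) (flp_j L702743) L721902
theorem L721917 : sm gh N51493 = N53332 := rfl
theorem L721919 : sm ga N53332 = N52421 := ded_17_1 (flp_h L711888) (flp_a L702753) L721917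
theorem L721921 : sm gc N53332 = N51494 := ded_32_1 (flp_h L702760) (flp_c L702755) L721917
theorem L721923 : sm gg N53332 = N51496 := ded_50_1 (flp_h L702777) (flp_g L702758) L721917
theorem L721925 : sm gi N53332 = N52454 := ded_54_2 (flp_h L712103) (flp_i L691185) (flp_h L681745) L702751 L721917
theorem L721927 : sm gh N51495 = N53333 := rfl
theorem L721929 : sm ga N53333 = N52399 := ded_17_1 (flp_h L711729) (flp_a L702768) L721927
theorem L721931 : sm gb N53333 = N51496 := ded_25_1 (flp_h L702777) (flp_b L702770) L721927
theorem L721933 : sm gc N53333 = N51541 := ded_32_1 (flp_h L703239) (flp_c L702772) L721927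
theorem L721935 : sm gf N53333 = N52384 := ded_47_1 (flp_h L711621) (flp_f L702775) L721927
theorem L721937 : sm gi N53333 = N52409 := ded_54_2 (flp_h L711806) (flp_i L690900) (flp_h L681761) L702766 L721927
theorem L721939 : sm gd N51496 = N53334 := rfl
theorem L721941 : sm ga N53334 = N52424 := ded_12_1 (flp_d L711911) (flp_a L702779) L721939
theorem L721943 : sm gf N53334 = N52386 := ded_35_2 (flp_d L711635) (flp_f L702783) L721939
theorem L721945 : sm gi N53334 = N52465 := ded_39_2 (flp_d L712183) (flp_i L702785) L721939
theorem L721947 : sm gh N53334 = N53334 := ded_38_2 (flp_d L721939) (flp_h L702777) L681773 L702777 L721939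
theorem L721948 : sm gd N51497 = N53335 := rfl
theorem L721950 : sm ga N53335 = N51566 := ded_12_1 (flp_d L703500) (flp_a L702789) L721948
theorem L721952 : sm gb N53335 = N51688 := ded_20_1 (flp_d L704694) (flp_b L702791) L721948
theorem L721954 : sm gf N53335 = N53335 := ded_35_2 (flp_d L721948) L702796 L721948
theorem L721955 : sm gg N53335 = N51678 := ded_36_2 (flp_d L704569) (flp_g L702797) L721948
theorem L721957 : sm gj N53335 = N51498 := ded_37_2 (flp_d L702801) (flp_j L702799) L721948
theorem L721959 : sm gh N53335 = N51782 := ded_38_2 (flp_d L705703) (flp_h L684475) (flp_d L681789) L702787 L721948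
theorem L721961 : sm gc N53335 = N52304 := ded_56_4 L710982 (flp_a L698507) L698512 L688867 (flp_e L709605) (flp_d L709597) L688559 (flp_b L688388) L688386 (flp_h L691707) (flp_f L691703) (flp_e L669705) (flp_d L385275) L264763 L183956 L561896 L249634 L174073 L561884 L96412 L66652 L46190 L36069 L36184 (flp_f L52146) L52145 L624347 L36229 (flp_b L52152) (flp_a L624501) L624510 L624469 L66207 (flp_d L66201) (flp_c L589866) (flp_b L45928) L45926 L46049 L624831 L64929 L44968 (flp_c L41055) L41053 L28570 L28574 (flp_f L40816) (flp_e L58305) (flp_d L84190) L84189 (flp_b L121797) (flp_a L621347) L634558 L243402 (flp_e L353614) (flp_d L652018) L652016 L355544 (flp_a L360601) L659535 (flp_f L681815) (flp_e L702794) L721948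
theorem L721963 : sm gi N51497 = N53336 := rfl
theorem L721965 : sm ga N53336 = N51567 := ded_18_1 (flp_i L703511) (flp_a L702789) L721963
theorem L721967 : sm gb N53336 = N51689 := ded_26_1 (flp_i L704707) (flp_b L702791) L721963
theorem L721969 : sm gc N53336 = N53336 := ded_33_1 (flp_i L721963) L702793 L721963
theorem L721970 : sm ge N53336 = N51501 := ded_44_1 (flp_i L702836) (flp_e L702794) L721963
theorem L721972 : sm gf N53336 = N53336 := ded_48_1 (flp_i L721963) L702796 L721963
theorem L721973 : sm gg N53336 = N51679 := ded_51_1 (flp_i L704581) (flp_g L702797) L721963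
theorem L721975 : sm gj N53336 = N51499 := ded_53_1 (flp_i L702812) (flp_j L702799) L721963
theorem L721977 : sm gh N53336 = N51770 := ded_54_1 (flp_i L705606) (flp_h L684386) (flp_i L681794) L702787 L721963
theorem L721979 : sm gc N51498 = N53337 := rfl
theorem L721981 : sm ga N53337 = N51568 := ded_11_1 (flp_c L703523) (flp_a L702803) L721979
theorem L721983 : sm gf N53337 = N53337 := ded_29_2 (flp_c L721979) L702807 L721979
theorem L721984 : sm gg N53337 = N52164 := ded_30_2 L709660 (flp_g L702808) L721979
theorem L721986 : sm gj N53337 = N52304 := ded_31_2 (flp_c L721961) L721957 L721979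
theorem L721988 : sm gh N53337 = N51784 := ded_32_2 (flp_c L705733) (flp_h L702810) L721979
theorem L721990 : sm gb N53337 = N52299 := ded_19_1 L716165 L716156 L704918 (flp_b L702805) L721979
theorem L721992 : sm gd N53337 = N53337 := ded_27_2 (flp_c L721979) (flp_d L702801) L681804 L702801 L721979
theorem L721993 : sm ge N51498 = N53338 := rfl
theorem L721995 : sm ga N53338 = N51569 := ded_13_1 (flp_e L703531) (flp_a L702803) L721993
theorem L721997 : sm gb N53338 = N52492 := ded_21_1 (flp_e L712370) (flp_b L702805) L721993
theorem L721999 : sm gg N53338 = N52152 := ded_41_2 L709561 (flp_g L702808) L721993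
theorem L722001 : sm gh N53338 = N51785 := ded_43_2 (flp_e L705746) (flp_h L702810) L721993
theorem L722003 : sm gd N53338 = N51503 := ded_34_1 (flp_e L702856) (flp_d L681819) (flp_e L681805) L702801 L721993
theorem L722005 : sm gi N51498 = N53339 := rfl
theorem L722007 : sm ga N53339 = N51570 := ded_18_1 (flp_i L703541) (flp_a L702803) L722005
theorem L722009 : sm gb N53339 = N52493 := ded_26_1 (flp_i L712376) (flp_b L702805) L722005
theorem L722011 : sm gd N53339 = N51499 := ded_39_1 (flp_i L702812) L702801 L722005
theorem L722013 : sm gf N53339 = N53339 := ded_48_1 (flp_i L722005) L702807 L722005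
theorem L722014 : sm gg N53339 = N52167 := ded_51_1 (flp_i L709688) (flp_g L702808) L722005
theorem L722016 : sm gc N51500 = N53340 := rfl
theorem L722018 : sm ga N53340 = N51573 := ded_11_1 (flp_c L703577) (flp_a L702828) L722016
theorem L722020 : sm gf N53340 = N51505 := ded_29_2 (flp_c L702874) (flp_f L702830) L722016
theorem L722022 : sm gj N53340 = N51502 := ded_31_2 (flp_c L702845) (flp_j L702832) L722016
theorem L722024 : sm gh N53340 = N51519 := ded_32_2 (flp_c L703026) (flp_h L702834) L722016
theorem L722026 : sm gb N53340 = N51534 := ded_19_1 L703178 (flp_b L702225) (flp_c L720836) L720828 L722016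
theorem L722028 : sm gd N53340 = N53340 := ded_27_2 (flp_c L722016) (flp_d L702826) L681814 L702826 L722016
theorem L722029 : sm ge N51500 = N53341 := rfl
theorem L722031 : sm ga N53341 = N51574 := ded_13_1 (flp_e L703588) (flp_a L702828) L722029
theorem L722033 : sm gj N53341 = N51503 := ded_42_2 (flp_e L702856) (flp_j L702832) L722029
theorem L722035 : sm gh N53341 = N51520 := ded_43_2 (flp_e L703036) (flp_h L702834) L722029
theorem L722037 : sm gi N51500 = N53342 := rfl
theorem L722039 : sm ga N53342 = N51575 := ded_18_1 (flp_i L703594) (flp_a L702828) L722037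
theorem L722041 : sm gd N53342 = N51501 := ded_39_1 (flp_i L702836) L702826 L722037
theorem L722043 : sm gf N53342 = N51506 := ded_48_1 (flp_i L702889) (flp_f L702830) L722037
theorem L722045 : sm gj N53342 = N51504 := ded_53_1 (flp_i L702864) (flp_j L702832) L722037
theorem L722047 : sm gb N51502 = N53343 := rfl
theorem L722049 : sm gd N53343 = N53343 := ded_20_2 (flp_b L722047) L702855 L722047
theorem L722050 : sm gf N53343 = N51507 := ded_22_2 (flp_b L702897) (flp_f L702849) L722047
theorem L722052 : sm gg N53343 = N51583 := ded_23_2 L703667 (flp_g L702851) L722047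
theorem L722054 : sm gj N53343 = N51534 := ded_24_2 (flp_b L722026) L722022 L722047
theorem L722056 : sm gh N53343 = N51522 := ded_25_2 (flp_b L703054) (flp_h L702853) L722047
theorem L722058 : sm ga N53343 = N51616 := ded_10_1 L703959 L703615 (flp_b L703602) (flp_a L702847) L722047
theorem L722060 : sm gc N53343 = N51529 := ded_19_2 L703124 (flp_c L702615) L702609 L702845 L722047
theorem L722062 : sm ge N51502 = N53344 := rfl
theorem L722064 : sm ga N53344 = N51577 := ded_13_1 (flp_e L703617) (flp_a L702847) L722062
theorem L722066 : sm gc N53344 = N51503 := ded_28_1 (flp_e L702856) L702845 L722062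
theorem L722068 : sm gg N53344 = N52394 := ded_41_2 (flp_e L711688) (flp_g L702851) L722062
theorem L722070 : sm gh N53344 = N51523 := ded_43_2 (flp_e L703062) (flp_h L702853) L722062
theorem L722072 : sm gi N51502 = N53345 := rfl
theorem L722074 : sm ga N53345 = N51578 := ded_18_1 (flp_i L703625) (flp_a L702847) L722072
theorem L722076 : sm gc N53345 = N51504 := ded_33_1 (flp_i L702864) L702845 L722072
theorem L722078 : sm gd N53345 = N53345 := ded_39_1 (flp_i L722072) L702855 L722072
theorem L722079 : sm gf N53345 = N51509 := ded_48_1 (flp_i L702928) (flp_f L702849) L722072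
theorem L722081 : sm gg N53345 = N52395 := ded_51_1 (flp_i L711696) (flp_g L702851) L722072
theorem L722083 : sm gf N51503 = N53346 := rfl
theorem L722085 : sm ga N53346 = N51579 := ded_14_1 (flp_f L703634) (flp_a L702858) L722083
theorem L722087 : sm gh N53346 = N51525 := ded_47_2 (flp_f L703082) (flp_h L702862) L722083
theorem L722089 : sm ge N53346 = N51510 := ded_40_1 (flp_f L702937) (flp_e L681863) (flp_f L681823) L702856 L722083
theorem L722091 : sm gi N51503 = N53347 := rfl
theorem L722093 : sm ga N53347 = N51580 := ded_18_1 (flp_i L703640) (flp_a L702858) L722091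
theorem L722095 : sm ge N53347 = N51504 := ded_44_1 (flp_i L702864) L702856 L722091
theorem L722097 : sm gg N53347 = N52396 := ded_51_1 (flp_i L711705) (flp_g L702860) L722091
theorem L722099 : sm gh N51504 = N53348 := rfl
theorem L722101 : sm ga N53348 = N51581 := ded_17_1 (flp_h L703646) (flp_a L702866) L722099
theorem L722103 : sm gf N53348 = N51512 := ded_47_1 (flp_h L702953) (flp_f L702870) L722099
theorem L722105 : sm gg N53348 = N52397 := ded_50_1 (flp_h L711711) (flp_g L702872) L722099
theorem L722107 : sm gi N53348 = N51527 := ded_54_2 (flp_h L703100) (flp_i L681979) (flp_h L681827) L702864 L722099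
theorem L722109 : sm gi N51505 = N53349 := rfl
theorem L722111 : sm ga N53349 = N51582 := ded_18_1 (flp_i L703654) (flp_a L702876) L722109
theorem L722113 : sm gb N53349 = N51535 := ded_26_1 (flp_i L703181) (flp_b L702886) L722109
theorem L722115 : sm gc N53349 = N51506 := ded_33_1 (flp_i L702889) L702874 L722109
theorem L722117 : sm gd N53349 = N53349 := ded_39_1 (flp_i L722109) L702888 L722109
theorem L722118 : sm ge N53349 = N51533 := ded_44_1 (flp_i L703166) (flp_e L702878) L722109
theorem L722120 : sm gg N53349 = N51540 := ded_51_1 (flp_i L703230) (flp_g L702880) L722109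
theorem L722122 : sm gj N53349 = N51509 := ded_53_1 (flp_i L702928) (flp_j L702882) L722109
theorem L722124 : sm gh N51506 = N53350 := rfl
theorem L722126 : sm ga N53350 = N51585 := ded_17_1 (flp_h L703685) (flp_a L702891) L722124
theorem L722128 : sm gj N53350 = N51512 := ded_52_1 (flp_h L702953) (flp_j L702895) L722124
theorem L722130 : sm gi N53350 = N51531 := ded_54_2 (flp_h L703144) (flp_i L682011) (flp_h L681844) L702889 L722124
theorem L722132 : sm gi N51507 = N53351 := rfl
theorem L722134 : sm ga N53351 = N51617 := ded_18_1 (flp_i L703966) (flp_a L702906) L722132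
theorem L722136 : sm gb N53351 = N51509 := ded_26_1 (flp_i L702928) L702897 L722132
theorem L722138 : sm gc N53351 = N51530 := ded_33_1 (flp_i L703130) (flp_c L702908) L722132
theorem L722140 : sm gd N53351 = N53351 := ded_39_1 (flp_i L722132) L702899 L722132
theorem L722141 : sm ge N53351 = N51528 := ded_44_1 (flp_i L703108) L702910 L722132
theorem L722143 : sm gg N53351 = N51513 := ded_51_1 (flp_i L702961) (flp_g L702900) L722132
theorem L722145 : sm gj N53351 = N51535 := ded_53_1 (flp_i L703181) (flp_j L702902) L722132
theorem L722147 : sm gf N51508 = N53352 := rfl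
theorem L722149 : sm ga N53352 = N51587 := ded_14_1 (flp_f L703706) (flp_a L702914) L722147
theorem L722151 : sm gb N53352 = N51519 := ded_22_1 L703030 (flp_b L702916) L722147
theorem L722153 : sm gc N53352 = N51510 := ded_29_1 (flp_f L702937) (flp_c L702918) L722147
theorem L722155 : sm gd N53352 = N51551 := ded_35_1 L703339 L702926 L722147
theorem L722157 : sm gj N53352 = N51522 := ded_46_2 L703058 (flp_j L702922) L722147
theorem L722159 : sm gh N53352 = N51534 := ded_47_2 (flp_f L703174) (flp_h L702924) L722147
theorem L722161 : sm gg N53352 = N51629 := ded_45_2 L704093 (flp_g L695372) L695382 (flp_g L702920) L722147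
theorem L722163 : sm gi N51508 = N53353 := rfl
theorem L722165 : sm ga N53353 = N51588 := ded_18_1 (flp_i L703716) (flp_a L702914) L722163
theorem L722167 : sm gb N53353 = N51528 := ded_26_1 (flp_i L703108) (flp_b L702916) L722163
theorem L722169 : sm gc N53353 = N51511 := ded_33_1 (flp_i L702944) (flp_c L702918) L722163
theorem L722171 : sm gd N53353 = N51558 := ded_39_1 (flp_i L703416) L702926 L722163
theorem L722173 : sm ge N53353 = N51509 := ded_44_1 (flp_i L702928) L702912 L722163
theorem L722175 : sm gg N53353 = N51514 := ded_51_1 (flp_i L702974) (flp_g L702920) L722163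
theorem L722177 : sm gj N53353 = N51533 := ded_53_1 (flp_i L703166) (flp_j L702922) L722163
theorem L722179 : sm gh N51509 = N53354 := rfl
theorem L722181 : sm ga N53354 = N51589 := ded_17_1 (flp_h L703728) (flp_a L702930) L722179
theorem L722183 : sm gc N53354 = N51512 := ded_32_1 (flp_h L702953) (flp_c L702932) L722179
theorem L722185 : sm gg N53354 = N51515 := ded_50_1 (flp_h L702988) (flp_g L702935) L722179
theorem L722187 : sm gi N53354 = N51536 := ded_54_2 (flp_h L703192) (flp_i L682034) (flp_h L681860) L702928 L722179
theorem L722189 : sm gi N51510 = N53355 := rfl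
theorem L722191 : sm ga N53355 = N51591 := ded_18_1 (flp_i L703743) (flp_a L702939) L722189
theorem L722193 : sm gd N53355 = N53355 := ded_39_1 (flp_i L722189) L702941 L722189
theorem L722194 : sm gf N53355 = N51511 := ded_48_1 (flp_i L702944) L702937 L722189
theorem L722196 : sm gh N51511 = N53356 := rfl
theorem L722198 : sm ga N53356 = N51592 := ded_17_1 (flp_h L703748) (flp_a L702946) L722196
theorem L722200 : sm ge N53356 = N51512 := ded_43_1 (flp_h L702953) (flp_e L702949) L722196
theorem L722202 : sm gg N53356 = N51516 := ded_50_1 (flp_h L702998) (flp_g L702951) L722196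
theorem L722204 : sm gi N53356 = N51538 := ded_54_2 (flp_h L703208) (flp_i L682050) (flp_h L681869) L702944 L722196
theorem L722206 : sm gh N51513 = N53357 := rfl
theorem L722208 : sm ga N53357 = N52384 := ded_17_1 (flp_h L711621) (flp_a L702963) L722206
theorem L722210 : sm gb N53357 = N51515 := ded_25_1 (flp_h L702988) (flp_b L702965) L722206
theorem L722212 : sm gc N53357 = N52409 := ded_32_1 (flp_h L711806) (flp_c L702967) L722206
theorem L722214 : sm ge N53357 = N52383 := ded_43_1 (flp_h L711617) (flp_e L702970) L722206
theorem L722216 : sm gf N53357 = N52399 := ded_47_1 (flp_h L711729) (flp_f L702972) L722206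
theorem L722218 : sm gi N53357 = N51541 := ded_54_2 (flp_h L703239) (flp_i L682089) (flp_h L681885) L702961 L722206
theorem L722220 : sm gh N51514 = N53358 := rfl
theorem L722222 : sm ga N53358 = N51594 := ded_17_1 (flp_h L703770) (flp_a L702976) L722220
theorem L722224 : sm gb N53358 = N52383 := ded_25_1 (flp_h L711617) (flp_b L702978) L722220
theorem L722226 : sm gc N53358 = N51516 := ded_32_1 (flp_h L702998) (flp_c L702980) L722220
theorem L722228 : sm ge N53358 = N51515 := ded_43_1 (flp_h L702988) (flp_e L702984) L722220
theorem L722230 : sm gf N53358 = N52471 := ded_47_1 L712219 (flp_f L702986) L722220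
theorem L722232 : sm gd N53358 = N52472 := ded_38_1 L712225 L691499 (flp_h L690522) (flp_d L702982) L722220
theorem L722234 : sm gi N53358 = N51542 := ded_54_2 (flp_h L703245) (flp_i L682097) (flp_h L681901) L702974 L722220
theorem L722236 : sm gd N51515 = N53359 := rfl
theorem L722238 : sm ga N53359 = N51595 := ded_12_1 (flp_d L703780) (flp_a L702990) L722236
theorem L722240 : sm gf N53359 = N52400 := ded_35_2 (flp_d L711735) (flp_f L702994) L722236
theorem L722242 : sm gi N53359 = N51543 := ded_39_2 (flp_d L703253) (flp_i L702996) L722236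
theorem L722244 : sm gh N53359 = N53359 := ded_38_2 (flp_d L722236) (flp_h L702988) L681911 L702988 L722236
theorem L722245 : sm gd N51516 = N53360 := rfl
theorem L722247 : sm ga N53360 = N51598 := ded_12_1 (flp_d L703802) (flp_a L703000) L722245
theorem L722249 : sm gi N53360 = N51544 := ded_39_2 (flp_d L703261) (flp_i L703004) L722245
theorem L722251 : sm gh N53360 = N53360 := ded_38_2 (flp_d L722245) (flp_h L702998) L681918 L702998 L722245
theorem L722252 : sm ge N51517 = N53361 := rfl
theorem L722254 : sm ga N53361 = N51599 := ded_13_1 (flp_e L703807) (flp_a L703008) L722252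
theorem L722256 : sm gg N53361 = N51520 := ded_41_2 (flp_e L703036) (flp_g L703010) L722252
theorem L722258 : sm gj N53361 = N52401 := ded_42_2 (flp_e L711742) (flp_j L703012) L722252
theorem L722260 : sm gd N53361 = N51801 := ded_34_1 (flp_e L705933) (flp_d L684637) (flp_e L681935) L703006 L722252
theorem L722262 : sm gi N51517 = N53362 := rfl
theorem L722264 : sm ga N53362 = N51600 := ded_18_1 (flp_i L703815) (flp_a L703008) L722262
theorem L722266 : sm gd N53362 = N51518 := ded_39_1 (flp_i L703014) L703006 L722262
theorem L722268 : sm gg N53362 = N51521 := ded_51_1 (flp_i L703044) (flp_g L703010) L722262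
theorem L722270 : sm gj N53362 = N52402 := ded_53_1 (flp_i L711750) (flp_j L703012) L722262
theorem L722272 : sm ge N51519 = N53363 := rfl
theorem L722274 : sm ga N53363 = N51601 := ded_13_1 (flp_e L703823) (flp_a L703028) L722272
theorem L722276 : sm gc N53363 = N51520 := ded_28_1 (flp_e L703036) L703026 L722272
theorem L722278 : sm gj N53363 = N51523 := ded_42_2 (flp_e L703062) (flp_j L703032) L722272
theorem L722280 : sm gi N51519 = N53364 := rfl
theorem L722282 : sm ga N53364 = N51602 := ded_18_1 (flp_i L703831) (flp_a L703028) L722280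
theorem L722284 : sm gc N53364 = N51521 := ded_33_1 (flp_i L703044) L703026 L722280
theorem L722286 : sm gd N53364 = N51552 := ded_39_1 (flp_i L703349) (flp_d L703034) L722280
theorem L722288 : sm gf N53364 = N51528 := ded_48_1 (flp_i L703108) (flp_f L703030) L722280
theorem L722290 : sm gj N53364 = N51524 := ded_53_1 (flp_i L703070) (flp_j L703032) L722280
theorem L722292 : sm gf N51520 = N53365 := rfl
theorem L722294 : sm ga N53365 = N51603 := ded_14_1 (flp_f L703843) (flp_a L703038) L722292
theorem L722296 : sm gb N53365 = N52436 := ded_22_1 (flp_f L721822) L721816 L722292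
theorem L722298 : sm gd N53365 = N51805 := ded_35_1 (flp_f L705978) (flp_d L703042) L722292
theorem L722300 : sm gj N53365 = N51525 := ded_46_2 (flp_f L703082) (flp_j L703040) L722292

end Cfsg.Agent.Helper28.FicA
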