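import Cfsg.Agent.Helper28.FicB3

/-! # The Fi₂₃ presentation, cosets of the subgroup generated by a, …, i: the coset enumeration, part 4 (helper28; generated) -/

set_option autoImplicit false

noncomputable section

namespace Cfsg.Agent.Helper28.FicA

open Cfsg.Agent.Helper28.CosetTable

def N31098 : Q := sm gb N21342
def N31099 : Q := sm gi N21342
def N31100 : Q := sm gh N21343
def N31101 : Q := sm ge N21345
def N31102 : Q := sm gj N21345
def N31103 : Q := sm gh N21345
def N31104 : Q := sm gh N21346
def N31105 : Q := sm gd N21347
def N31106 : Q := sm gi N21347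
def N31107 : Q := sm gc N21348
def N31108 : Q := sm ge N21348
def N31109 : Q := sm gi N21348
def N31110 : Q := sm gg N21350
def N31111 : Q := sm gh N21350
def N31112 : Q := sm gd N21351
def N31113 : Q := sm gi N21351
def N31114 : Q := sm gd N21352
def N31115 : Q := sm gi N21352
def N31116 : Q := sm gc N21353
def N31117 : Q := sm ge N21353
def N31118 : Q := sm gi N21353
def N31119 : Q := sm gb N21355
def N31120 : Q := sm ge N21355
def N31121 : Q := sm gi N21355
def N31122 : Q := sm gf N21356
def N31123 : Q := sm gi N21356
def N31124 : Q := sm gh N21357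
def N31125 : Q := sm ge N21358
def N31126 : Q := sm gi N21358
def N31127 : Q := sm gf N21360
def N31128 : Q := sm gi N21360
def N31129 : Q := sm gh N21361
def N31130 : Q := sm gg N21362
def N31131 : Q := sm gi N21362
def N31132 : Q := sm gh N21363
def N31133 : Q := sm gj N21365
def N31134 : Q := sm gi N21365
def N31135 : Q := sm gh N21366
def N31136 : Q := sm gd N21367
def N31137 : Q := sm gh N21368
def N31138 : Q := sm gd N21369
def N31139 : Q := sm gi N21369
def N31140 : Q := sm gc N21370
def N31141 : Q := sm ge N21370
def N31142 : Q := sm gi N21370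
def N31143 : Q := sm gc N21372
def N31144 : Q := sm gi N21372
def N31145 : Q := sm gb N21374
def N31146 : Q := sm gi N21374
def N31147 : Q := sm gh N21375
def N31148 : Q := sm ga N21376
def N31149 : Q := sm gi N21376
def N31150 : Q := sm gh N21377
def N31151 : Q := sm gd N21379
def N31152 : Q := sm gi N21379
def N31153 : Q := sm gc N21380
def N31154 : Q := sm ge N21380
def N31155 : Q := sm gi N21380
def N31156 : Q := sm gb N21382
def N31157 : Q := sm ge N21382
def N31158 : Q := sm gi N21382
def N31159 : Q := sm gi N21383
def N31160 : Q := sm gh N21384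
def N31161 : Q := sm gb N21385
def N31162 : Q := sm gi N21385
def N31163 : Q := sm gh N21386
def N31164 : Q := sm ga N21387
def N31165 : Q := sm gi N21387
def N31166 : Q := sm gh N21388
def N31167 : Q := sm gi N21390
def N31168 : Q := sm gh N21391
def N31169 : Q := sm gd N21392
def N31171 : Q := sm gg N21393
def N31172 : Q := sm gh N21393
def N31173 : Q := sm gf N21394
def N31174 : Q := sm gj N21394
def N31175 : Q := sm gh N21394
def N31176 : Q := sm gd N21395
def N31177 : Q := sm gi N21395
def N31178 : Q := sm gh N21396
def N31179 : Q := sm gd N21397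
def N31180 : Q := sm gi N21397
def N31182 : Q := sm ge N21398
def N31183 : Q := sm gi N21398
def N31186 : Q := sm gf N21401
def N31187 : Q := sm gi N21401
def N31189 : Q := sm gf N21403
def N31190 : Q := sm gj N21403
def N31191 : Q := sm gh N21403
def N31192 : Q := sm gd N21404
def N31193 : Q := sm gi N21404
def N31194 : Q := sm gj N21405
def N31195 : Q := sm gh N21405
def N31196 : Q := sm gh N21406
def N31197 : Q := sm gd N21407
def N31198 : Q := sm gi N21407
def N31199 : Q := sm gc N21408
def N31200 : Q := sm ge N21408
def N31201 : Q := sm gi N21408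
def N31202 : Q := sm gd N21410
def N31203 : Q := sm gi N21410
def N31204 : Q := sm ge N21411
def N31208 : Q := sm gh N21414
def N31209 : Q := sm gg N21415
def N31210 : Q := sm gi N21415
def N31211 : Q := sm gh N21416
def N31212 : Q := sm gg N21418
def N31213 : Q := sm gh N21418
def N31214 : Q := sm gd N21419
def N31215 : Q := sm gi N21419
def N31216 : Q := sm gd N21420
def N31217 : Q := sm gi N21420
def N31218 : Q := sm gc N21421
def N31219 : Q := sm gi N21421
def N31220 : Q := sm gb N21423
def N31221 : Q := sm gi N21423
def N31223 : Q := sm ge N21426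
def N31224 : Q := sm gj N21426
def N31225 : Q := sm gh N21426
def N31226 : Q := sm gh N21427
def N31227 : Q := sm gd N21428
def N31228 : Q := sm gi N21428
def N31229 : Q := sm gc N21429
def N31230 : Q := sm ge N21429
def N31231 : Q := sm gi N21429
def N31232 : Q := sm gg N21431
def N31233 : Q := sm gh N21431
def N31234 : Q := sm gd N21432
def N31235 : Q := sm gi N21432
def N31236 : Q := sm gd N21433
def N31237 : Q := sm gi N21433
def N31238 : Q := sm gc N21434
def N31239 : Q := sm ge N21434
def N31240 : Q := sm gi N21434
def N31241 : Q := sm gb N21436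
def N31242 : Q := sm ge N21436
def N31243 : Q := sm gi N21436
def N31244 : Q := sm gf N21437
def N31245 : Q := sm gi N21437
def N31246 : Q := sm gh N21438
def N31247 : Q := sm ge N21439
def N31248 : Q := sm gi N21439
def N31249 : Q := sm gf N21441
def N31250 : Q := sm gi N21441
def N31251 : Q := sm gh N21442
def N31252 : Q := sm gg N21443
def N31253 : Q := sm gi N21443
def N31254 : Q := sm gh N21444
def N31255 : Q := sm gj N21446
def N31256 : Q := sm gi N21446
def N31257 : Q := sm gh N21447
def N31258 : Q := sm gd N21448
def N31259 : Q := sm gh N21449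
def N31260 : Q := sm gd N21450
def N31261 : Q := sm gi N21450
def N31262 : Q := sm gc N21451
def N31263 : Q := sm ge N21451
def N31264 : Q := sm gi N21451
def N31265 : Q := sm gc N21453
def N31266 : Q := sm gi N21453
def N31267 : Q := sm gb N21455
def N31268 : Q := sm gi N21455
def N31269 : Q := sm gh N21456
def N31270 : Q := sm ga N21457
def N31271 : Q := sm gi N21457
def N31272 : Q := sm gh N21458
def N31273 : Q := sm gd N21460
def N31274 : Q := sm gi N21460
def N31275 : Q := sm gc N21461
def N31276 : Q := sm ge N21461
def N31277 : Q := sm gi N21461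
def N31278 : Q := sm gb N21463
def N31279 : Q := sm ge N21463
def N31280 : Q := sm gi N21463
def N31281 : Q := sm gi N21464
def N31282 : Q := sm gh N21465
def N31283 : Q := sm gb N21466
def N31284 : Q := sm gi N21466
def N31285 : Q := sm gh N21467
def N31286 : Q := sm ga N21468
def N31287 : Q := sm gi N21468
def N31288 : Q := sm gh N21469
def N31289 : Q := sm gi N21471
def N31290 : Q := sm gh N21472
def N31291 : Q := sm gd N21473
def N31292 : Q := sm gg N21474
def N31293 : Q := sm gh N21474
def N31294 : Q := sm gf N21475
def N31295 : Q := sm gj N21475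
def N31296 : Q := sm gh N21475
def N31297 : Q := sm gd N21476
def N31298 : Q := sm gi N21476
def N31299 : Q := sm gj N21477
def N31300 : Q := sm gh N21477
def N31301 : Q := sm gh N21478
def N31302 : Q := sm gd N21479
def N31303 : Q := sm gi N21479
def N31304 : Q := sm gc N21480
def N31305 : Q := sm ge N21480
def N31306 : Q := sm gi N21480
def N31307 : Q := sm gd N21482
def N31308 : Q := sm gi N21482
def N31309 : Q := sm gc N21483
def N31311 : Q := sm gi N21483
def N31312 : Q := sm ge N21485
def N31314 : Q := sm gf N21486
def N31316 : Q := sm gh N21487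
def N31317 : Q := sm gd N21488
def N31319 : Q := sm gi N21488
def N31322 : Q := sm gi N21490
def N31323 : Q := sm gh N21491
def N31324 : Q := sm ge N21493
def N31325 : Q := sm gj N21493
def N31326 : Q := sm gh N21493
def N31327 : Q := sm gh N21494
def N31328 : Q := sm gd N21495
def N31329 : Q := sm gi N21495
def N31330 : Q := sm gc N21496
def N31331 : Q := sm ge N21496
def N31332 : Q := sm gi N21496
def N31333 : Q := sm gg N21498
def N31334 : Q := sm gh N21498
def N31335 : Q := sm gd N21499
def N31336 : Q := sm gi N21499
def N31337 : Q := sm gd N21500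
def N31338 : Q := sm gi N21500
def N31339 : Q := sm gc N21501
def N31340 : Q := sm ge N21501
def N31341 : Q := sm gi N21501
def N31342 : Q := sm gb N21503
def N31343 : Q := sm ge N21503
def N31344 : Q := sm gi N21503
def N31345 : Q := sm gf N21504
def N31346 : Q := sm gi N21504
def N31347 : Q := sm gh N21505
def N31348 : Q := sm ge N21506
def N31349 : Q := sm gi N21506
def N31350 : Q := sm gf N21508
def N31351 : Q := sm gi N21508
def N31353 : Q := sm gg N21510
def N31354 : Q := sm gi N21510
def N31355 : Q := sm gh N21511
def N31356 : Q := sm gj N21513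
def N31357 : Q := sm gi N21513
def N31358 : Q := sm gh N21514
def N31360 : Q := sm gh N21516
def N31361 : Q := sm gd N21517
def N31362 : Q := sm gi N21517
def N31363 : Q := sm gc N21518
def N31364 : Q := sm ge N21518
def N31365 : Q := sm gi N21518
def N31366 : Q := sm gc N21520
def N31367 : Q := sm gi N21520
def N31368 : Q := sm gb N21522
def N31369 : Q := sm gi N21522
def N31370 : Q := sm gh N21523
def N31371 : Q := sm ga N21524
def N31372 : Q := sm gi N21524
def N31373 : Q := sm gh N21525
def N31374 : Q := sm gj N21527
def N31375 : Q := sm gh N21527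
def N31376 : Q := sm gg N21528
def N31377 : Q := sm gh N21528
def N31378 : Q := sm gd N21529
def N31379 : Q := sm gi N21529
def N31380 : Q := sm gd N21530
def N31381 : Q := sm gi N21530
def N31382 : Q := sm gc N21531
def N31383 : Q := sm ge N21531
def N31384 : Q := sm gi N21531
def N31385 : Q := sm gb N21533
def N31386 : Q := sm ge N21533
def N31387 : Q := sm gi N21533
def N31388 : Q := sm gf N21534
def N31389 : Q := sm gi N21534
def N31390 : Q := sm gh N21535
def N31391 : Q := sm gh N21536
def N31392 : Q := sm gd N21537
def N31393 : Q := sm gi N21537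
def N31394 : Q := sm gc N21538
def N31395 : Q := sm ge N21538
def N31396 : Q := sm gi N21538
def N31397 : Q := sm gc N21540
def N31398 : Q := sm ge N21540
def N31399 : Q := sm gi N21540
def N31400 : Q := sm gb N21542
def N31401 : Q := sm ge N21542
def N31402 : Q := sm gi N21542
def N31403 : Q := sm gf N21543
def N31404 : Q := sm gi N21543
def N31405 : Q := sm gh N21544
def N31406 : Q := sm ga N21545
def N31407 : Q := sm ge N21545
def N31408 : Q := sm gi N21545
def N31409 : Q := sm gf N21546
def N31410 : Q := sm gi N21546
def N31411 : Q := sm gh N21547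
def N31412 : Q := sm gg N21548
def N31413 : Q := sm gi N21548
def N31414 : Q := sm gh N21549
def N31415 : Q := sm gf N21551
def N31416 : Q := sm gi N21551
def N31417 : Q := sm gh N21552
def N31418 : Q := sm gg N21553
def N31419 : Q := sm gi N21553
def N31421 : Q := sm gj N21556
def N31422 : Q := sm gi N21556
def N31423 : Q := sm gh N21557
def N31424 : Q := sm gd N21558
def N31425 : Q := sm gi N21559
def N31426 : Q := sm gh N21560
def N31427 : Q := sm gd N21561
def N31428 : Q := sm gc N21562
def N31429 : Q := sm gd N21563
def N31430 : Q := sm gi N21563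
def N31431 : Q := sm gc N21564
def N31432 : Q := sm ge N21564
def N31433 : Q := sm gi N21564
def N31434 : Q := sm gb N21566
def N31435 : Q := sm ge N21566
def N31436 : Q := sm gi N21566
def N31437 : Q := sm gi N21567
def N31438 : Q := sm gh N21568
def N31439 : Q := sm gb N21569
def N31440 : Q := sm gi N21569
def N31441 : Q := sm gh N21570
def N31442 : Q := sm ga N21571
def N31443 : Q := sm gi N21571
def N31444 : Q := sm gh N21572
def N31445 : Q := sm gi N21574
def N31446 : Q := sm gh N21575
def N31447 : Q := sm gd N21576
def N31448 : Q := sm gc N21577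
def N31449 : Q := sm ge N21577
def N31450 : Q := sm gi N21577
def N31451 : Q := sm gb N21579
def N31452 : Q := sm ge N21579
def N31453 : Q := sm gi N21579
def N31454 : Q := sm gi N21580
def N31455 : Q := sm gh N21581
def N31456 : Q := sm ga N21582
def N31457 : Q := sm ge N21582
def N31458 : Q := sm gi N21582
def N31459 : Q := sm gd N21583
def N31460 : Q := sm gi N21583
def N31461 : Q := sm gh N21584
def N31462 : Q := sm gh N21585
def N31463 : Q := sm ga N21587
def N31464 : Q := sm gi N21587
def N31465 : Q := sm gh N21588
def N31466 : Q := sm gi N21590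
def N31467 : Q := sm gh N21591
def N31468 : Q := sm gd N21592
def N31469 : Q := sm gh N21593
def N31470 : Q := sm gd N21594
def N31471 : Q := sm ge N21595
def N31472 : Q := sm gg N21596
def N31473 : Q := sm gh N21596
def N31477 : Q := sm gd N21598
def N31479 : Q := sm gj N21599
def N31480 : Q := sm gh N21599
def N31481 : Q := sm gh N21600
def N31485 : Q := sm ge N21602
def N31486 : Q := sm gi N21602
def N31488 : Q := sm gi N21604
def N31489 : Q := sm gc N21605
def N31490 : Q := sm ge N21605
def N31491 : Q := sm gi N21605
def N31501 : Q := sm ge N21614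
def N31502 : Q := sm gj N21614
def N31503 : Q := sm gh N21614
def N31504 : Q := sm gh N21615
def N31506 : Q := sm gi N21616
def N31507 : Q := sm gc N21617
def N31510 : Q := sm gg N21619
def N31512 : Q := sm gd N21620
def N31514 : Q := sm gd N21621
def N31516 : Q := sm gc N21622
def N31520 : Q := sm ge N21624
def N31521 : Q := sm gi N21624
def N31522 : Q := sm gf N21625
def N31531 : Q := sm gj N21633
def N31532 : Q := sm gi N21633
def N31533 : Q := sm gh N21635
def N31534 : Q := sm gd N21636
def N31536 : Q := sm gc N21637
def N31537 : Q := sm ge N21637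
def N31538 : Q := sm gi N21637
def N31539 : Q := sm gc N21639
def N31541 : Q := sm gb N21641
def N31542 : Q := sm gi N21641
def N31543 : Q := sm gh N21642
def N31544 : Q := sm ga N21643
def N31545 : Q := sm gi N21643
def N31546 : Q := sm gh N21644
def N31547 : Q := sm gj N21646
def N31548 : Q := sm gh N21646
def N31549 : Q := sm gg N21647
def N31550 : Q := sm gh N21647
def N31551 : Q := sm gd N21648
def N31552 : Q := sm gi N21648
def N31553 : Q := sm gd N21649
def N31554 : Q := sm gi N21649
def N31555 : Q := sm gc N21650
def N31556 : Q := sm ge N21650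
def N31557 : Q := sm gi N21650
def N31558 : Q := sm gb N21652
def N31559 : Q := sm ge N21652
def N31561 : Q := sm gf N21653
def N31565 : Q := sm gd N21656
def N31567 : Q := sm gc N21657
def N31570 : Q := sm gc N21659
def N31573 : Q := sm gb N21661
def N31574 : Q := sm ge N21661
def N31575 : Q := sm gi N21661
def N31576 : Q := sm gf N21662
def N31578 : Q := sm gh N21663
def N31579 : Q := sm ga N21664
def N31581 : Q := sm gi N21664
def N31583 : Q := sm gi N21665
def N31584 : Q := sm gh N21666
def N31585 : Q := sm gg N21667
def N31587 : Q := sm gh N21668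
def N31588 : Q := sm gf N21670
def N31589 : Q := sm gi N21670
def N31591 : Q := sm gi N21672
def N31593 : Q := sm gi N21674
def N31594 : Q := sm gi N21676
def N31595 : Q := sm gd N21678
def N31596 : Q := sm gi N21678
def N31597 : Q := sm gc N21679
def N31598 : Q := sm ge N21679
def N31599 : Q := sm gi N21679
def N31600 : Q := sm gb N21681
def N31601 : Q := sm ge N21681
def N31602 : Q := sm gi N21681
def N31603 : Q := sm gi N21682
def N31604 : Q := sm gh N21683
def N31605 : Q := sm gb N21684
def N31606 : Q := sm gi N21684
def N31607 : Q := sm gh N21685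
def N31608 : Q := sm ga N21686
def N31609 : Q := sm gi N21686
def N31610 : Q := sm gh N21687
def N31611 : Q := sm gi N21689
def N31612 : Q := sm gh N21690
def N31613 : Q := sm gd N21691
def N31614 : Q := sm gc N21692
def N31615 : Q := sm ge N21692
def N31616 : Q := sm gi N21692
def N31617 : Q := sm gb N21694
def N31618 : Q := sm ge N21694
def N31619 : Q := sm gi N21694
def N31620 : Q := sm gi N21695
def N31621 : Q := sm gh N21696
def N31622 : Q := sm ga N21697
def N31623 : Q := sm ge N21697
def N31624 : Q := sm gi N21697
def N31625 : Q := sm gd N21698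
def N31626 : Q := sm gi N21698
def N31627 : Q := sm gh N21699
def N31628 : Q := sm gh N21700
def N31629 : Q := sm ga N21702
def N31630 : Q := sm gi N21702
def N31631 : Q := sm gh N21703
def N31632 : Q := sm gi N21705
def N31633 : Q := sm gh N21706
def N31634 : Q := sm gd N21707
def N31635 : Q := sm gh N21708
def N31636 : Q := sm gd N21709
def N31637 : Q := sm ge N21710
def N31638 : Q := sm gf N21711
def N31639 : Q := sm gj N21711
def N31640 : Q := sm gh N21711
def N31641 : Q := sm gd N21712
def N31642 : Q := sm gi N21712
def N31643 : Q := sm ge N21713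
def N31644 : Q := sm gj N21713
def N31645 : Q := sm gh N21713
def N31646 : Q := sm gh N21714
def N31648 : Q := sm gi N21715
def N31649 : Q := sm gc N21716
def N31650 : Q := sm gi N21716
def N31651 : Q := sm gg N21718
def N31652 : Q := sm gh N21718
def N31653 : Q := sm gd N21719
def N31654 : Q := sm gi N21719
def N31656 : Q := sm gi N21720
def N31657 : Q := sm gc N21721
def N31659 : Q := sm gb N21723
def N31661 : Q := sm gh N21724
def N31662 : Q := sm gj N21726
def N31663 : Q := sm gh N21726
def N31664 : Q := sm gg N21727
def N31665 : Q := sm gh N21727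
def N31666 : Q := sm gd N21728
def N31667 : Q := sm gi N21728
def N31668 : Q := sm gd N21729
def N31669 : Q := sm gi N21729
def N31670 : Q := sm gc N21730
def N31671 : Q := sm gi N21730
def N31672 : Q := sm gb N21732
def N31673 : Q := sm gi N21732
def N31675 : Q := sm gh N21734
def N31676 : Q := sm gd N21735
def N31677 : Q := sm gi N21735
def N31678 : Q := sm gc N21736
def N31679 : Q := sm ge N21736
def N31681 : Q := sm gc N21738
def N31683 : Q := sm gb N21740
def N31685 : Q := sm gh N21741
def N31686 : Q := sm ga N21742
def N31687 : Q := sm gi N21742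
def N31689 : Q := sm gd N21745
def N31690 : Q := sm gi N21745
def N31691 : Q := sm gc N21746
def N31692 : Q := sm ge N21746
def N31693 : Q := sm gi N21746
def N31694 : Q := sm gb N21748
def N31695 : Q := sm ge N21748
def N31696 : Q := sm gi N21748
def N31697 : Q := sm gi N21749
def N31698 : Q := sm gh N21750
def N31699 : Q := sm gb N21751
def N31700 : Q := sm gi N21751
def N31701 : Q := sm gh N21752
def N31702 : Q := sm ga N21753
def N31703 : Q := sm gi N21753
def N31704 : Q := sm gh N21754
def N31705 : Q := sm gi N21756
def N31706 : Q := sm gh N21757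
def N31707 : Q := sm gd N21758
def N31708 : Q := sm gg N21759
def N31709 : Q := sm gh N21759
def N31710 : Q := sm gd N21760
def N31711 : Q := sm gi N21760
def N31712 : Q := sm gh N21761
def N31713 : Q := sm gd N21762
def N31714 : Q := sm gi N21762
def N31715 : Q := sm gc N21763
def N31716 : Q := sm ge N21763
def N31717 : Q := sm gi N21763
def N31718 : Q := sm gc N21765
def N31719 : Q := sm gi N21765
def N31720 : Q := sm gb N21767
def N31721 : Q := sm gi N21767
def N31722 : Q := sm gh N21768
def N31723 : Q := sm ga N21769
def N31724 : Q := sm gi N21769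
def N31725 : Q := sm gh N21770
def N31726 : Q := sm gd N21772
def N31727 : Q := sm gi N21772
def N31728 : Q := sm gc N21773
def N31729 : Q := sm ge N21773
def N31730 : Q := sm gi N21773
def N31731 : Q := sm gb N21775
def N31732 : Q := sm ge N21775
def N31733 : Q := sm gi N21775
def N31734 : Q := sm gi N21776
def N31735 : Q := sm gh N21777
def N31736 : Q := sm gb N21778
def N31737 : Q := sm gi N21778
def N31738 : Q := sm gh N21779
def N31739 : Q := sm ga N21780
def N31740 : Q := sm gi N21780
def N31741 : Q := sm gh N21781
def N31742 : Q := sm gi N21783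
def N31743 : Q := sm gh N21784
def N31744 : Q := sm gd N21785
def N31745 : Q := sm gc N21786
def N31746 : Q := sm ge N21786
def N31747 : Q := sm gi N21786
def N31748 : Q := sm gb N21788
def N31749 : Q := sm ge N21788
def N31750 : Q := sm gi N21788
def N31751 : Q := sm gi N21789
def N31752 : Q := sm gh N21790
def N31753 : Q := sm ga N21791
def N31754 : Q := sm ge N21791
def N31755 : Q := sm gi N21791
def N31756 : Q := sm gd N21792
def N31757 : Q := sm gi N21792
def N31758 : Q := sm gh N21793
def N31759 : Q := sm gh N21794
def N31760 : Q := sm ga N21796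
def N31761 : Q := sm gi N21796
def N31762 : Q := sm gh N21797
def N31763 : Q := sm gi N21799
def N31764 : Q := sm gh N21800
def N31765 : Q := sm gd N21801
def N31766 : Q := sm gh N21802
def N31767 : Q := sm gd N21803
def N31768 : Q := sm ge N21804
def N31769 : Q := sm gb N21805
def N31772 : Q := sm gf N21806
def N31773 : Q := sm gi N21806
def N31774 : Q := sm gh N21807
def N31775 : Q := sm ga N21808
def N31776 : Q := sm ge N21808
def N31782 : Q := sm ge N21813
def N31783 : Q := sm gi N21813
def N31786 : Q := sm gh N21815
def N31787 : Q := sm gh N21816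
def N31790 : Q := sm gd N21818
def N31791 : Q := sm gd N21819
def N31792 : Q := sm gi N21820
def N31795 : Q := sm gh N21823
def N31796 : Q := sm gd N21824
def N31797 : Q := sm ge N21825
def N31798 : Q := sm gd N21826
def N31799 : Q := sm gc N21827
def N31800 : Q := sm ge N21827
def N31801 : Q := sm gf N21828
def N31803 : Q := sm gg N21829
def N31807 : Q := sm gh N21830
def N31808 : Q := sm gd N21831
def N31809 : Q := sm gi N21831
def N31811 : Q := sm gd N21833
def N31812 : Q := sm gi N21833
def N31815 : Q := sm gi N21834
def N31818 : Q := sm gf N21837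
def N31819 : Q := sm gi N21837
def N31830 : Q := sm gi N21843
def N31831 : Q := sm gc N21844
def N31832 : Q := sm ge N21844
def N31833 : Q := sm gi N21844
def N31835 : Q := sm gi N21846
def N31837 : Q := sm gi N21847
def N31838 : Q := sm gf N21849
def N31839 : Q := sm gi N21849
def N31841 : Q := sm gg N21851
def N31842 : Q := sm gi N21851
def N31846 : Q := sm gd N21855
def N31847 : Q := sm gi N21855
def N31848 : Q := sm gd N21856
def N31849 : Q := sm gi N21856
def N31850 : Q := sm gc N21857
def N31851 : Q := sm gi N21857
def N31852 : Q := sm gb N21859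
def N31853 : Q := sm gi N21859
def N31854 : Q := sm gh N21860
def N31858 : Q := sm gh N21863
def N31859 : Q := sm gd N21864
def N31861 : Q := sm gc N21865
def N31862 : Q := sm ge N21865
def N31863 : Q := sm gi N21865
def N31867 : Q := sm gi N21868
def N31869 : Q := sm gi N21869
def N31870 : Q := sm gc N21870
def N31871 : Q := sm ge N21870
def N31872 : Q := sm gi N21870
def N31873 : Q := sm gb N21872
def N31874 : Q := sm ge N21872
def N31875 : Q := sm gi N21872
def N31876 : Q := sm gf N21873
def N31877 : Q := sm gi N21873
def N31878 : Q := sm gh N21874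
def N31879 : Q := sm ge N21875
def N31880 : Q := sm gi N21875
def N31881 : Q := sm gf N21877
def N31882 : Q := sm gi N21877
def N31883 : Q := sm gh N21878
def N31884 : Q := sm gg N21879
def N31885 : Q := sm gi N21879
def N31887 : Q := sm gj N21882
def N31888 : Q := sm gi N21882
def N31891 : Q := sm gh N21885
def N31892 : Q := sm gd N21886
def N31893 : Q := sm gi N21886
def N31894 : Q := sm gc N21887
def N31895 : Q := sm ge N21887
def N31896 : Q := sm gi N21887
def N31897 : Q := sm gc N21889
def N31898 : Q := sm gi N21889
def N31899 : Q := sm gb N21891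
def N31900 : Q := sm gi N21891
def N31901 : Q := sm gh N21892
def N31902 : Q := sm ga N21893
def N31903 : Q := sm gi N21893
def N31904 : Q := sm gh N21894
def N31905 : Q := sm gd N21896
def N31906 : Q := sm gi N21896
def N31907 : Q := sm gc N21897
def N31908 : Q := sm ge N21897
def N31909 : Q := sm gi N21897
def N31910 : Q := sm gb N21899
def N31911 : Q := sm ge N21899
def N31912 : Q := sm gi N21899
def N31913 : Q := sm gi N21900
def N31914 : Q := sm gh N21901
def N31915 : Q := sm gb N21902
def N31916 : Q := sm gi N21902
def N31917 : Q := sm gh N21903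
def N31918 : Q := sm ga N21904
def N31919 : Q := sm gi N21904
def N31920 : Q := sm gh N21905
def N31921 : Q := sm gi N21907
def N31922 : Q := sm gh N21908
def N31923 : Q := sm gd N21909
def N31930 : Q := sm gi N21912
def N31931 : Q := sm gj N21913
def N31935 : Q := sm gi N21915
def N31938 : Q := sm gi N21916
def N31939 : Q := sm gd N21918
def N31940 : Q := sm gi N21918
def N31944 : Q := sm ge N21921
def N31946 : Q := sm gf N21922
def N31948 : Q := sm gh N21923
def N31952 : Q := sm gh N21925
def N31955 : Q := sm gh N21927
def N31959 : Q := sm gd N21931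
def N31961 : Q := sm gc N21932
def N31963 : Q := sm gi N21932
def N31967 : Q := sm gi N21935
def N31969 : Q := sm gi N21936
def N31970 : Q := sm gc N21937
def N31971 : Q := sm ge N21937
def N31972 : Q := sm gi N21937
def N31973 : Q := sm gb N21939
def N31974 : Q := sm ge N21939
def N31975 : Q := sm gi N21939
def N31977 : Q := sm gi N21940
def N31978 : Q := sm gh N21941
def N31979 : Q := sm ge N21942
def N31980 : Q := sm gi N21942
def N31981 : Q := sm gf N21944
def N31982 : Q := sm gi N21944
def N31984 : Q := sm gg N21946
def N31985 : Q := sm gi N21946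
def N31986 : Q := sm gh N21947
def N31987 : Q := sm gj N21949
def N31988 : Q := sm gi N21949
def N31989 : Q := sm gh N21950
def N31990 : Q := sm gd N21951
def N31992 : Q := sm gd N21953
def N31993 : Q := sm gi N21953
def N31994 : Q := sm gc N21954
def N31995 : Q := sm ge N21954
def N31996 : Q := sm gi N21954
def N31997 : Q := sm gc N21956
def N31998 : Q := sm gi N21956
def N31999 : Q := sm gb N21958
def N32000 : Q := sm gi N21958
def N32001 : Q := sm gh N21959
def N32002 : Q := sm ga N21960
def N32003 : Q := sm gi N21960
def N32004 : Q := sm gh N21961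
def N32011 : Q := sm gc N21966
def N32012 : Q := sm ge N21966
def N32013 : Q := sm gi N21966
def N32014 : Q := sm gb N21968
def N32015 : Q := sm ge N21968
def N32016 : Q := sm gi N21968
def N32017 : Q := sm gf N21969
def N32018 : Q := sm gi N21969
def N32019 : Q := sm gh N21970
def N32022 : Q := sm gi N21972
def N32023 : Q := sm gc N21973
def N32024 : Q := sm ge N21973
def N32025 : Q := sm gi N21973
def N32026 : Q := sm gc N21975
def N32027 : Q := sm ge N21975
def N32028 : Q := sm gi N21975
def N32029 : Q := sm gb N21977
def N32030 : Q := sm ge N21977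
def N32031 : Q := sm gi N21977
def N32032 : Q := sm gf N21978
def N32033 : Q := sm gi N21978
def N32034 : Q := sm gh N21979
def N32035 : Q := sm ga N21980
def N32036 : Q := sm ge N21980
def N32037 : Q := sm gi N21980
def N32038 : Q := sm gf N21981
def N32039 : Q := sm gi N21981
def N32040 : Q := sm gh N21982
def N32041 : Q := sm gg N21983
def N32042 : Q := sm gi N21983
def N32043 : Q := sm gh N21984
def N32044 : Q := sm gf N21986
def N32045 : Q := sm gi N21986
def N32046 : Q := sm gh N21987
def N32047 : Q := sm gg N21988
def N32048 : Q := sm gi N21988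
def N32049 : Q := sm gh N21989
def N32050 : Q := sm gj N21991
def N32051 : Q := sm gi N21991
def N32052 : Q := sm gh N21992
def N32054 : Q := sm gi N21994
def N32055 : Q := sm gh N21995
def N32059 : Q := sm gi N21998
def N32060 : Q := sm gc N21999
def N32061 : Q := sm ge N21999
def N32062 : Q := sm gi N21999
def N32063 : Q := sm gb N22001
def N32064 : Q := sm ge N22001
def N32065 : Q := sm gi N22001
def N32066 : Q := sm gi N22002
def N32067 : Q := sm gh N22003
def N32068 : Q := sm gb N22004
def N32069 : Q := sm gi N22004
def N32070 : Q := sm gh N22005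
def N32071 : Q := sm ga N22006
def N32072 : Q := sm gi N22006
def N32073 : Q := sm gh N22007
def N32074 : Q := sm gi N22009
def N32075 : Q := sm gh N22010
def N32076 : Q := sm gd N22011
def N32077 : Q := sm gc N22012
def N32079 : Q := sm gi N22012
def N32080 : Q := sm gb N22014
def N32081 : Q := sm ge N22014
def N32082 : Q := sm gi N22014
def N32083 : Q := sm gi N22015
def N32084 : Q := sm gh N22016
def N32085 : Q := sm ga N22017
def N32086 : Q := sm ge N22017
def N32087 : Q := sm gi N22017
def N32088 : Q := sm gd N22018
def N32089 : Q := sm gi N22018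
def N32090 : Q := sm gh N22019
def N32091 : Q := sm gh N22020
def N32092 : Q := sm ga N22022
def N32093 : Q := sm gi N22022
def N32094 : Q := sm gh N22023
def N32095 : Q := sm gi N22025
def N32096 : Q := sm gh N22026
def N32097 : Q := sm gd N22027
def N32098 : Q := sm gh N22028
def N32099 : Q := sm gd N22029
def N32100 : Q := sm ge N22030
def N32103 : Q := sm gd N22032
def N32104 : Q := sm gi N22032
def N32105 : Q := sm gd N22033
def N32106 : Q := sm gi N22033
def N32108 : Q := sm ge N22034
def N32109 : Q := sm gi N22034
def N32110 : Q := sm gb N22036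
def N32115 : Q := sm gh N22038
def N32118 : Q := sm gi N22039
def N32123 : Q := sm gh N22043
def N32127 : Q := sm gh N22045
def N32140 : Q := sm gh N22054
def N32143 : Q := sm gd N22057
def N32144 : Q := sm gi N22057
def N32145 : Q := sm gc N22058
def N32146 : Q := sm ge N22058
def N32147 : Q := sm gi N22058
def N32148 : Q := sm gc N22060
def N32149 : Q := sm ge N22060
def N32150 : Q := sm gi N22060
def N32151 : Q := sm gb N22062
def N32152 : Q := sm ge N22062
def N32153 : Q := sm gi N22062
def N32154 : Q := sm gf N22063
def N32156 : Q := sm gh N22064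
def N32157 : Q := sm ga N22065
def N32158 : Q := sm ge N22065
def N32159 : Q := sm gi N22065
def N32160 : Q := sm gf N22066
def N32161 : Q := sm gi N22066
def N32162 : Q := sm gh N22067
def N32163 : Q := sm gg N22068
def N32165 : Q := sm gh N22069
def N32166 : Q := sm gf N22071
def N32167 : Q := sm gi N22071
def N32169 : Q := sm gg N22073
def N32172 : Q := sm gj N22076
def N32173 : Q := sm gi N22076
def N32176 : Q := sm gi N22079
def N32178 : Q := sm gd N22081
def N32180 : Q := sm gd N22083
def N32181 : Q := sm gi N22083
def N32182 : Q := sm gc N22084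
def N32183 : Q := sm ge N22084
def N32184 : Q := sm gi N22084
def N32185 : Q := sm gb N22086
def N32186 : Q := sm ge N22086
def N32187 : Q := sm gi N22086
def N32188 : Q := sm gi N22087
def N32189 : Q := sm gh N22088
def N32190 : Q := sm gb N22089
def N32191 : Q := sm gi N22089
def N32192 : Q := sm gh N22090
def N32193 : Q := sm ga N22091
def N32194 : Q := sm gi N22091
def N32195 : Q := sm gh N22092
def N32196 : Q := sm gi N22094
def N32197 : Q := sm gh N22095
def N32198 : Q := sm gd N22096
def N32199 : Q := sm gd N22097
def N32200 : Q := sm gi N22097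
def N32201 : Q := sm gc N22098
def N32202 : Q := sm ge N22098
def N32203 : Q := sm gi N22098
def N32204 : Q := sm gb N22100
def N32205 : Q := sm ge N22100
def N32206 : Q := sm gi N22100
def N32207 : Q := sm gf N22101
def N32208 : Q := sm gi N22101
def N32209 : Q := sm gh N22102
def N32210 : Q := sm gb N22103
def N32211 : Q := sm ge N22103
def N32212 : Q := sm gi N22103
def N32213 : Q := sm gf N22104
def N32214 : Q := sm gi N22104
def N32215 : Q := sm gh N22105
def N32216 : Q := sm ga N22106
def N32217 : Q := sm ge N22106
def N32218 : Q := sm gi N22106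
def N32219 : Q := sm gf N22107
def N32220 : Q := sm gi N22107
def N32221 : Q := sm gh N22108
def N32222 : Q := sm gg N22109
def N32223 : Q := sm gi N22109
def N32224 : Q := sm gh N22110
def N32225 : Q := sm ge N22112
def N32226 : Q := sm gi N22112
def N32227 : Q := sm gf N22113
def N32228 : Q := sm gi N22113
def N32229 : Q := sm gh N22114
def N32230 : Q := sm gg N22115
def N32231 : Q := sm gi N22115
def N32232 : Q := sm gh N22116
def N32233 : Q := sm gd N22117
def N32234 : Q := sm gj N22118
def N32235 : Q := sm gi N22118
def N32236 : Q := sm gh N22119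
def N32237 : Q := sm gd N22120
def N32238 : Q := sm gg N22121
def N32239 : Q := sm gi N22121
def N32240 : Q := sm gh N22122
def N32241 : Q := sm gj N22124
def N32242 : Q := sm gi N22124
def N32243 : Q := sm gh N22125
def N32245 : Q := sm gi N22127
def N32246 : Q := sm gh N22128
def N32249 : Q := sm gh N22131
def N32251 : Q := sm gc N22133
def N32252 : Q := sm ge N22133
def N32253 : Q := sm gb N22134
def N32254 : Q := sm gc N22135
def N32256 : Q := sm gi N22135
def N32257 : Q := sm gb N22137
def N32258 : Q := sm ge N22137
def N32259 : Q := sm gi N22137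
def N32260 : Q := sm gi N22138
def N32261 : Q := sm gh N22139
def N32262 : Q := sm ga N22140
def N32263 : Q := sm ge N22140
def N32264 : Q := sm gi N22140
def N32265 : Q := sm gd N22141
def N32266 : Q := sm gi N22141
def N32267 : Q := sm gh N22142
def N32268 : Q := sm gh N22143
def N32269 : Q := sm ga N22145
def N32270 : Q := sm gi N22145
def N32271 : Q := sm gh N22146
def N32272 : Q := sm gi N22148
def N32273 : Q := sm gh N22149
def N32274 : Q := sm gd N22150
def N32275 : Q := sm gh N22151
def N32276 : Q := sm gd N22152
def N32277 : Q := sm ge N22153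
def N32278 : Q := sm gb N22154
def N32281 : Q := sm gf N22155
def N32282 : Q := sm gi N22155
def N32283 : Q := sm gh N22156
def N32284 : Q := sm ga N22157
def N32292 : Q := sm gi N22162
def N32295 : Q := sm gh N22164
def N32297 : Q := sm gi N22165
def N32301 : Q := sm gi N22169
def N32304 : Q := sm gh N22172
def N32305 : Q := sm gd N22173
def N32306 : Q := sm ge N22174
def N32307 : Q := sm gd N22175
def N32308 : Q := sm gc N22176
def N32309 : Q := sm ge N22176
def N32310 : Q := sm gf N22177
def N32313 : Q := sm gi N22178
def N32314 : Q := sm gb N22180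
def N32316 : Q := sm gi N22180
def N32318 : Q := sm gh N22182
def N32319 : Q := sm ga N22183
def N32320 : Q := sm ge N22183
def N32321 : Q := sm gi N22183
def N32322 : Q := sm gd N22184
def N32323 : Q := sm gi N22184
def N32324 : Q := sm gh N22185
def N32325 : Q := sm gh N22186
def N32326 : Q := sm ga N22188
def N32327 : Q := sm gi N22188
def N32328 : Q := sm gh N22189
def N32329 : Q := sm gi N22191
def N32330 : Q := sm gh N22192
def N32331 : Q := sm gd N22193
def N32332 : Q := sm gh N22194
def N32333 : Q := sm gd N22195
def N32334 : Q := sm ge N22196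
def N32341 : Q := sm ga N22200
def N32344 : Q := sm gd N22201
def N32346 : Q := sm gh N22202
def N32348 : Q := sm ge N22205
def N32349 : Q := sm gi N22205
def N32350 : Q := sm gd N22206
def N32353 : Q := sm gh N22208
def N32354 : Q := sm gi N22208
def N32355 : Q := sm gh N22209
def N32356 : Q := sm gd N22210
def N32360 : Q := sm gd N22214
def N32361 : Q := sm gh N22215
def N32362 : Q := sm gd N22216
def N32363 : Q := sm ge N22217
def N32364 : Q := sm gd N22218
def N32365 : Q := sm gc N22219
def N32366 : Q := sm ge N22219
def N32367 : Q := sm gf N22220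
def N32369 : Q := sm ge N22221
def N32390 : Q := sm gc N22236
def N32392 : Q := sm gi N22236
def N32393 : Q := sm gh N22237
def N32395 : Q := sm gi N22239
def N32403 : Q := sm gd N22247
def N32404 : Q := sm gc N22248
def N32406 : Q := sm gf N22249
def N32407 : Q := sm gc N22250
def N32411 : Q := sm gg N22253
def N32424 : Q := sm gh N22261
def N32430 : Q := sm gh N22265
def N32433 : Q := sm gd N22267
def N32436 : Q := sm gd N22270
def N32442 : Q := sm gh N22274
def N32443 : Q := sm gd N22275
def N32444 : Q := sm gh N22276
def N32448 : Q := sm gd N22279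
def N32449 : Q := sm gc N22280
def N32451 : Q := sm gh N22281
def N32454 : Q := sm ge N22283
def N32455 : Q := sm gf N22284
def N32458 : Q := sm gc N22287
def N32459 : Q := sm ge N22287
def N32465 : Q := sm gg N22292
def N32467 : Q := sm ge N22293
def N32471 : Q := sm gg N22296
def N32473 : Q := sm gb N22298
def N32474 : Q := sm gi N22298
def N32479 : Q := sm gc N22302
def N32481 : Q := sm gb N22303
def N32485 : Q := sm ge N22305
def N32513 : Q := sm gi N22322
def N32514 : Q := sm gj N22323
def N32517 : Q := sm gf N22326
def N32520 : Q := sm gg N22328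
def N32523 : Q := sm gf N22330
def N32524 : Q := sm gc N22331
def N32526 : Q := sm gh N22331
def N32533 : Q := sm gc N22337
def N32535 : Q := sm gh N22337
def N32543 : Q := sm gj N22342
def N32544 : Q := sm gg N22343
def N32547 : Q := sm gh N22344
def N32550 : Q := sm gf N22348
def N32558 : Q := sm gg N22352
def N32569 : Q := sm gh N22359
def N32571 : Q := sm gi N22360
def N32578 : Q := sm gh N22365
def N32579 : Q := sm gd N22366
def N32589 : Q := sm gj N22373
def N32593 : Q := sm ge N22375
def N32597 : Q := sm gh N22377
def N32611 : Q := sm ge N22389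
def N32617 : Q := sm gf N22393
def N32625 : Q := sm gf N22398
def N32634 : Q := sm gf N22404
def N32644 : Q := sm gg N22410
def N32647 : Q := sm gh N22411
def N32648 : Q := sm gi N22412
def N32649 : Q := sm gc N22415
def N32658 : Q := sm gi N22419
def N32659 : Q := sm gj N22420
def N32664 : Q := sm gi N22423
def N32665 : Q := sm gb N22426
def N32668 : Q := sm ge N22427
def N32672 : Q := sm gj N22429
def N32674 : Q := sm gg N22430
def N32676 : Q := sm gd N22431
def N32677 : Q := sm gi N22431
def N32680 : Q := sm gj N22433
def N32683 : Q := sm gf N22437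
def N32684 : Q := sm gj N22437
def N32686 : Q := sm gd N22438
def N32687 : Q := sm gi N22438
def N32691 : Q := sm gh N22442
def N32692 : Q := sm ge N22443
def N32696 : Q := sm gi N22444
def N32704 : Q := sm gh N22450
def N32707 : Q := sm gd N22452
def N32712 : Q := sm gj N22455
def N32716 : Q := sm gh N22457
def N32717 : Q := sm gi N22458
def N32718 : Q := sm gj N22460
def N32727 : Q := sm gg N22467
def N32729 : Q := sm gd N22468
def N32731 : Q := sm gd N22469
def N32732 : Q := sm gg N22469
def N32734 : Q := sm gj N22470
def N32738 : Q := sm ge N22472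
def N32741 : Q := sm gj N22474
def N32771 : Q := sm gh N22495
def N32776 : Q := sm gc N22498
def N32778 : Q := sm gb N22500
def N32783 : Q := sm gf N22504
def N32808 : Q := sm gi N22519
def N32829 : Q := sm gh N22532
def N32839 : Q := sm gi N22540
def N32842 : Q := sm gh N22542
def N32843 : Q := sm ge N22543
def N32845 : Q := sm gh N22543
def N32853 : Q := sm gg N22548
def N32866 : Q := sm gh N22558
def N32868 : Q := sm gg N22559
def N32883 : Q := sm gi N22568
def N32897 : Q := sm gi N22578
def N32902 : Q := sm gg N22583
def N32906 : Q := sm gd N22585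
def N32910 : Q := sm gh N22586
def N32912 : Q := sm gi N22587
def N32916 : Q := sm gj N22590
def N32921 : Q := sm gi N22593
def N32922 : Q := sm gg N22595
def N32923 : Q := sm gh N22595
def N32926 : Q := sm gh N22596
def N32936 : Q := sm gh N22603
def N32937 : Q := sm gj N22604
def N32940 : Q := sm gd N22606
def N32944 : Q := sm gi N22609
def N32961 : Q := sm gd N22621
def N32967 : Q := sm gh N22624
def N32973 : Q := sm gh N22627
def N32990 : Q := sm gj N22640
def N32992 : Q := sm gd N22641
def N32993 : Q := sm gi N22641
def N33004 : Q := sm ge N22648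
def N33012 : Q := sm gg N22655
def N33022 : Q := sm gh N22661
def N33023 : Q := sm gh N22663
def N33024 : Q := sm gd N22664
def N33031 : Q := sm gb N22669
def N33049 : Q := sm gi N22679
def N33054 : Q := sm gi N22682
def N33068 : Q := sm gi N22692
def N33073 : Q := sm gi N22695
def N33074 : Q := sm gd N22698
def N33077 : Q := sm gj N22699
def N33080 : Q := sm gi N22700
def N33082 : Q := sm gi N22701
def N33083 : Q := sm gf N22703
def N33085 : Q := sm gh N22703
def N33087 : Q := sm gi N22704
def N33097 : Q := sm gi N22713
def N33098 : Q := sm ge N22715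
def N33099 : Q := sm gg N22715
def N33103 : Q := sm gd N22717
def N33104 : Q := sm gg N22717
def N33106 : Q := sm gj N22718
def N33108 : Q := sm gd N22719
def N33109 : Q := sm gi N22719
def N33111 : Q := sm gi N22720
def N33112 : Q := sm gf N22722
def N33113 : Q := sm gj N22722
def N33115 : Q := sm gd N22723
def N33120 : Q := sm gh N22727
def N33124 : Q := sm gd N22729
def N33126 : Q := sm gh N22730
def N33128 : Q := sm gi N22731
def N33130 : Q := sm gi N22732
def N33136 : Q := sm gh N22737
def N33138 : Q := sm gi N22738
def N33140 : Q := sm gi N22739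
def N33147 : Q := sm gi N22745
def N33155 : Q := sm gh N22751
def N33156 : Q := sm gj N22752
def N33157 : Q := sm gh N22752
def N33158 : Q := sm gd N22753
def N33164 : Q := sm gh N22756
def N33171 : Q := sm gd N22760
def N33175 : Q := sm gf N22763
def N33177 : Q := sm gh N22764
def N33179 : Q := sm gh N22765
def N33182 : Q := sm gi N22767
def N33184 : Q := sm gi N22768
def N33185 : Q := sm gi N22770
def N33190 : Q := sm gi N22773
def N33196 : Q := sm gc N22777
def N33203 : Q := sm gf N22782
def N33206 : Q := sm gg N22784
def N33207 : Q := sm gi N22784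
def N33218 : Q := sm gi N22792
def N33223 : Q := sm gc N22797
def N33227 : Q := sm gi N22799
def N33232 : Q := sm gi N22803
def N33242 : Q := sm gh N22809
def N33248 : Q := sm gh N22814
def N33253 : Q := sm ge N22817
def N33261 : Q := sm gi N22822
def N33262 : Q := sm gj N22824
def N33264 : Q := sm gh N22825
def N33268 : Q := sm gi N22827
def N33278 : Q := sm gj N22834
def N33290 : Q := sm gi N22841
def N33298 : Q := sm gh N22846
def N33300 : Q := sm gi N22847
def N33301 : Q := sm ge N22848
def N33302 : Q := sm gi N22848
def N33304 : Q := sm gi N22850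
def N33306 : Q := sm gj N22852
def N33310 : Q := sm gi N22854
def N33313 : Q := sm gi N22857
def N33317 : Q := sm gi N22860
def N33330 : Q := sm gd N22869
def N33336 : Q := sm gh N22872
def N33338 : Q := sm gj N22873
def N33342 : Q := sm gh N22875
def N33343 : Q := sm gd N22876
def N33344 : Q := sm gi N22876
def N33345 : Q := sm ge N22877
def N33349 : Q := sm gh N22880
def N33358 : Q := sm gf N22888
def N33359 : Q := sm gj N22888
def N33360 : Q := sm gh N22888
def N33361 : Q := sm gd N22889
def N33362 : Q := sm gi N22889
def N33363 : Q := sm gj N22890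
def N33364 : Q := sm gh N22890
def N33365 : Q := sm gh N22891
def N33370 : Q := sm gi N22893
def N33379 : Q := sm gi N22900
def N33381 : Q := sm gg N22903
def N33384 : Q := sm gi N22904
def N33386 : Q := sm gi N22905
def N33388 : Q := sm gi N22906
def N33406 : Q := sm gc N22922
def N33407 : Q := sm gg N22922
def N33408 : Q := sm gh N22922
def N33409 : Q := sm gf N22923
def N33411 : Q := sm gh N22923
def N33412 : Q := sm gd N22924
def N33417 : Q := sm gc N22927
def N33426 : Q := sm gj N22932
def N33427 : Q := sm gh N22932
def N33428 : Q := sm gd N22933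
def N33429 : Q := sm gi N22933
def N33432 : Q := sm gh N22935
def N33434 : Q := sm gi N22936
def N33436 : Q := sm ge N22937
def N33438 : Q := sm gd N22939
def N33440 : Q := sm ge N22940
def N33442 : Q := sm gf N22942
def N33443 : Q := sm gi N22942
def N33444 : Q := sm gh N22943
def N33447 : Q := sm gh N22945
def N33452 : Q := sm gd N22949
def N33455 : Q := sm gi N22950
def N33457 : Q := sm gi N22952
def N33459 : Q := sm ge N22955
def N33463 : Q := sm gd N22957
def N33464 : Q := sm gi N22957
def N33466 : Q := sm ge N22958
def N33467 : Q := sm gi N22958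
def N33471 : Q := sm gi N22961
def N33476 : Q := sm gi N22963
def N33479 : Q := sm gi N22965
def N33480 : Q := sm gf N22966
def N33481 : Q := sm gi N22966
def N33484 : Q := sm gi N22968
def N33485 : Q := sm gf N22970
def N33486 : Q := sm gi N22970
def N33488 : Q := sm gg N22972
def N33489 : Q := sm gi N22972
def N33491 : Q := sm gj N22975
def N33492 : Q := sm gi N22975
def N33493 : Q := sm gh N22976
def N33497 : Q := sm gi N22979
def N33505 : Q := sm gh N22985
def N33507 : Q := sm gi N22986
def N33508 : Q := sm gh N22987
def N33517 : Q := sm gi N22993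
def N33518 : Q := sm gh N22994
def N33520 : Q := sm gi N22995
def N33528 : Q := sm ge N23003
def N33546 : Q := sm gi N23011
def N33555 : Q := sm gi N23017
def N33561 : Q := sm gf N23022
def N33578 : Q := sm gc N23034
def N33582 : Q := sm gh N23037
def N33583 : Q := sm gd N23039
def N33585 : Q := sm gh N23039
def N33590 : Q := sm gc N23042
def N33602 : Q := sm gi N23048
def N33606 : Q := sm gi N23051
def N33612 : Q := sm gi N23055
def N33623 : Q := sm gh N23063
def N33630 : Q := sm gi N23067
def N33631 : Q := sm ge N23068
def N33635 : Q := sm gh N23071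
def N33638 : Q := sm gh N23073
def N33640 : Q := sm gh N23075
def N33642 : Q := sm gi N23076
def N33649 : Q := sm gh N23081
def N33656 : Q := sm gc N23087
def N33657 : Q := sm gi N23087
def N33661 : Q := sm ga N23091
def N33663 : Q := sm gh N23092
def N33664 : Q := sm gc N23094
def N33671 : Q := sm gi N23096
def N33683 : Q := sm gf N23104
def N33685 : Q := sm gh N23104
def N33686 : Q := sm gd N23105
def N33687 : Q := sm gi N23105
def N33690 : Q := sm gh N23107
def N33692 : Q := sm gi N23108
def N33694 : Q := sm ge N23109
def N33695 : Q := sm gi N23109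
def N33699 : Q := sm gi N23112
def N33700 : Q := sm gf N23114
def N33702 : Q := sm gh N23115
def N33704 : Q := sm gi N23116
def N33705 : Q := sm gh N23117
def N33706 : Q := sm gg N23119
def N33707 : Q := sm gh N23119
def N33709 : Q := sm gi N23120
def N33710 : Q := sm gd N23121
def N33711 : Q := sm gi N23121
def N33715 : Q := sm gi N23124
def N33717 : Q := sm ge N23127
def N33718 : Q := sm gj N23127
def N33719 : Q := sm gh N23127
def N33720 : Q := sm gh N23128
def N33721 : Q := sm gd N23129
def N33722 : Q := sm gi N23129
def N33724 : Q := sm ge N23130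
def N33725 : Q := sm gi N23130
def N33730 : Q := sm gd N23134
def N33732 : Q := sm gc N23135
def N33740 : Q := sm gh N23139
def N33744 : Q := sm gi N23142
def N33746 : Q := sm gg N23144
def N33748 : Q := sm gh N23145
def N33750 : Q := sm gi N23147
def N33751 : Q := sm gh N23148
def N33758 : Q := sm gi N23152
def N33765 : Q := sm gi N23158
def N33768 : Q := sm gi N23161
def N33770 : Q := sm ge N23162
def N33772 : Q := sm gb N23164
def N33775 : Q := sm gi N23165
def N33776 : Q := sm gh N23166
def N33778 : Q := sm gi N23167
def N33779 : Q := sm gh N23168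
def N33782 : Q := sm gh N23170
def N33785 : Q := sm gg N23175
def N33786 : Q := sm gh N23175
def N33787 : Q := sm gf N23176
def N33788 : Q := sm gj N23176
def N33789 : Q := sm gh N23176
def N33791 : Q := sm gi N23177
def N33794 : Q := sm gh N23179
def N33795 : Q := sm gd N23180
def N33796 : Q := sm gi N23180
def N33798 : Q := sm ge N23181
def N33801 : Q := sm gi N23183
def N33805 : Q := sm ge N23186
def N33807 : Q := sm gf N23187
def N33817 : Q := sm ge N23194
def N33819 : Q := sm gh N23194
def N33820 : Q := sm gh N23195
def N33821 : Q := sm gd N23196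
def N33822 : Q := sm gi N23196
def N33823 : Q := sm gc N23197
def N33825 : Q := sm gi N23197
def N33828 : Q := sm gd N23200
def N33829 : Q := sm gi N23200
def N33830 : Q := sm gd N23201
def N33832 : Q := sm gc N23202
def N33833 : Q := sm ge N23202
def N33834 : Q := sm gi N23202
def N33839 : Q := sm gi N23205
def N33841 : Q := sm ge N23207
def N33842 : Q := sm gi N23207
def N33846 : Q := sm gg N23211
def N33847 : Q := sm gi N23211
def N33848 : Q := sm gh N23212
def N33849 : Q := sm gj N23214
def N33851 : Q := sm gh N23215
def N33853 : Q := sm gh N23217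
def N33854 : Q := sm gd N23218
def N33856 : Q := sm gc N23219
def N33857 : Q := sm ge N23219
def N33858 : Q := sm gi N23219
def N33862 : Q := sm gi N23223
def N33867 : Q := sm gh N23228
def N33868 : Q := sm gg N23229
def N33869 : Q := sm gh N23229
def N33870 : Q := sm gd N23230
def N33871 : Q := sm gi N23230
def N33872 : Q := sm gd N23231
def N33873 : Q := sm gi N23231
def N33874 : Q := sm gc N23232
def N33875 : Q := sm ge N23232
def N33876 : Q := sm gi N23232
def N33877 : Q := sm ge N23234
def N33878 : Q := sm gi N23234
def N33879 : Q := sm gf N23235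
def N33880 : Q := sm gi N23235
def N33881 : Q := sm gh N23236
def N33882 : Q := sm gh N23237
def N33891 : Q := sm ge N23243
def N33893 : Q := sm gf N23244
def N33894 : Q := sm gi N23244
def N33896 : Q := sm gf N23246
def N33898 : Q := sm gh N23247
def N33899 : Q := sm gg N23248
def N33902 : Q := sm gf N23251
def N33905 : Q := sm gg N23253
def N33906 : Q := sm gi N23253
def N33907 : Q := sm gh N23254
def N33908 : Q := sm gj N23256
def N33909 : Q := sm gi N23256
def N33912 : Q := sm gi N23259
def N33914 : Q := sm gd N23261
def N33917 : Q := sm gi N23263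
def N33918 : Q := sm gc N23264
def N33922 : Q := sm gi N23266
def N33925 : Q := sm gi N23269
def N33926 : Q := sm gh N23270
def N33932 : Q := sm gh N23277
def N33933 : Q := sm gh N23278
def N33936 : Q := sm gh N23281
def N33938 : Q := sm gh N23282
def N33943 : Q := sm gi N23284
def N33944 : Q := sm gg N23286
def N33945 : Q := sm gh N23286
def N33951 : Q := sm gh N23289
def N33953 : Q := sm gi N23290
def N33958 : Q := sm gh N23294
def N33963 : Q := sm gi N23297
def N33971 : Q := sm gi N23303
def N33972 : Q := sm gj N23304
def N33974 : Q := sm gh N23305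
def N33983 : Q := sm gi N23310
def N33989 : Q := sm gh N23315
def N33991 : Q := sm gh N23317
def N33993 : Q := sm gi N23318
def N34003 : Q := sm gi N23326
def N34005 : Q := sm ge N23327
def N34006 : Q := sm gi N23327
def N34011 : Q := sm gh N23332
def N34023 : Q := sm gh N23339
def N34028 : Q := sm gi N23341
def N34035 : Q := sm gj N23346
def N34037 : Q := sm gd N23347
def N34038 : Q := sm gi N23347
def N34049 : Q := sm ge N23354
def N34054 : Q := sm gg N23358
def N34055 : Q := sm gi N23358
def N34056 : Q := sm gh N23359
def N34061 : Q := sm gd N23363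
def N34064 : Q := sm gi N23364
def N34075 : Q := sm ge N23372
def N34076 : Q := sm gi N23372
def N34077 : Q := sm gg N23374
def N34083 : Q := sm gc N23377
def N34088 : Q := sm gi N23379
def N34089 : Q := sm gf N23380
def N34092 : Q := sm ge N23382
def N34093 : Q := sm gi N23382
def N34094 : Q := sm gf N23384
def N34097 : Q := sm gg N23386
def N34099 : Q := sm gh N23387
def N34100 : Q := sm gj N23389
def N34101 : Q := sm gi N23389
def N34102 : Q := sm gh N23390
def N34105 : Q := sm gd N23393
def N34111 : Q := sm gi N23396
def N34113 : Q := sm gi N23398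
def N34122 : Q := sm gi N23404
def N34126 : Q := sm gi N23407
def N34127 : Q := sm gh N23408
def N34129 : Q := sm gi N23409
def N34133 : Q := sm gh N23412
def N34135 : Q := sm gh N23415
def N34139 : Q := sm gh N23417
def N34144 : Q := sm gi N23419
def N34158 : Q := sm gh N23427
def N34159 : Q := sm gd N23428
def N34160 : Q := sm gi N23428
def N34162 : Q := sm gh N23429
def N34179 : Q := sm gg N23442
def N34180 : Q := sm gh N23442
def N34184 : Q := sm gi N23444
def N34187 : Q := sm gb N23447
def N34189 : Q := sm gh N23448
def N34190 : Q := sm ge N23450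
def N34191 : Q := sm gj N23450
def N34192 : Q := sm gh N23450
def N34193 : Q := sm gh N23451
def N34194 : Q := sm gd N23452
def N34195 : Q := sm gi N23452
def N34196 : Q := sm gc N23453
def N34197 : Q := sm ge N23453
def N34198 : Q := sm gi N23453
def N34199 : Q := sm gg N23455
def N34204 : Q := sm gi N23457
def N34205 : Q := sm gc N23458
def N34212 : Q := sm gi N23461
def N34216 : Q := sm gf N23465
def N34218 : Q := sm gh N23466
def N34219 : Q := sm gg N23467
def N34223 : Q := sm gi N23470
def N34227 : Q := sm gd N23474
def N34232 : Q := sm gc N23477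
def N34233 : Q := sm gi N23477
def N34244 : Q := sm gi N23485
def N34248 : Q := sm gi N23488
def N34259 : Q := sm gg N23498
def N34260 : Q := sm gh N23498
def N34263 : Q := sm gh N23499
def N34265 : Q := sm gi N23500
def N34276 : Q := sm gc N23507
def N34278 : Q := sm gi N23507
def N34282 : Q := sm gi N23510
def N34290 : Q := sm gh N23515
def N34291 : Q := sm ge N23517
def N34293 : Q := sm gh N23517
def N34294 : Q := sm gh N23518
def N34295 : Q := sm gd N23519
def N34296 : Q := sm gi N23519
def N34297 : Q := sm gc N23520
def N34298 : Q := sm ge N23520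
def N34299 : Q := sm gi N23520
def N34301 : Q := sm gh N23522
def N34304 : Q := sm gd N23524
def N34306 : Q := sm gc N23525
def N34307 : Q := sm ge N23525
def N34309 : Q := sm gb N23527
def N34312 : Q := sm gf N23528
def N34313 : Q := sm gi N23528
def N34314 : Q := sm gh N23529
def N34315 : Q := sm ge N23530
def N34317 : Q := sm gf N23532
def N34319 : Q := sm gh N23533
def N34320 : Q := sm gg N23534
def N34321 : Q := sm gi N23534
def N34323 : Q := sm gj N23537
def N34327 : Q := sm gh N23540
def N34338 : Q := sm gi N23548
def N34343 : Q := sm gh N23552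
def N34345 : Q := sm gi N23553
def N34347 : Q := sm gi N23554
def N34349 : Q := sm ge N23555
def N34350 : Q := sm gi N23555
def N34352 : Q := sm ge N23557
def N34353 : Q := sm gi N23557
def N34354 : Q := sm gf N23558
def N34355 : Q := sm gi N23558
def N34356 : Q := sm gh N23559
def N34365 : Q := sm gi N23564
def N34370 : Q := sm gi N23567
def N34371 : Q := sm gh N23568
def N34375 : Q := sm gf N23570
def N34376 : Q := sm gi N23570
def N34378 : Q := sm gg N23572
def N34379 : Q := sm gi N23572
def N34381 : Q := sm gf N23575
def N34382 : Q := sm gi N23575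
def N34384 : Q := sm gg N23577
def N34385 : Q := sm gi N23577
def N34386 : Q := sm gh N23578
def N34387 : Q := sm gj N23580
def N34388 : Q := sm gi N23580
def N34391 : Q := sm gi N23583
def N34392 : Q := sm gh N23584
def N34405 : Q := sm ga N23594
def N34415 : Q := sm gh N23603
def N34419 : Q := sm ga N23607
def N34420 : Q := sm gi N23607
def N34423 : Q := sm gh N23611
def N34428 : Q := sm gg N23616
def N34430 : Q := sm gf N23617
def N34431 : Q := sm gj N23617
def N34432 : Q := sm gh N23617
def N34434 : Q := sm gi N23618
def N34451 : Q := sm gi N23628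
def N34458 : Q := sm gi N23632
def N34459 : Q := sm gh N23633
def N34460 : Q := sm ge N23635
def N34461 : Q := sm gj N23635
def N34462 : Q := sm gh N23635
def N34463 : Q := sm gh N23636
def N34464 : Q := sm gd N23637
def N34465 : Q := sm gi N23637
def N34466 : Q := sm gc N23638
def N34468 : Q := sm gi N23638
def N34471 : Q := sm gd N23641
def N34479 : Q := sm ge N23645
def N34482 : Q := sm gi N23646
def N34485 : Q := sm gi N23648
def N34491 : Q := sm gh N23653
def N34492 : Q := sm gj N23655
def N34494 : Q := sm gh N23656
def N34496 : Q := sm gh N23658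
def N34499 : Q := sm gc N23660
def N34502 : Q := sm gc N23662
def N34507 : Q := sm gi N23666
def N34508 : Q := sm gj N23668
def N34509 : Q := sm gh N23668
def N34511 : Q := sm gh N23669
def N34512 : Q := sm gd N23670
def N34513 : Q := sm gi N23670
def N34514 : Q := sm gd N23671
def N34515 : Q := sm gi N23671
def N34516 : Q := sm gc N23672
def N34517 : Q := sm ge N23672
def N34518 : Q := sm gi N23672
def N34519 : Q := sm gb N23674
def N34520 : Q := sm ge N23674
def N34521 : Q := sm gi N23674
def N34523 : Q := sm gi N23675
def N34524 : Q := sm gh N23676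
def N34525 : Q := sm gh N23677
def N34528 : Q := sm gc N23679
def N34529 : Q := sm ge N23679
def N34530 : Q := sm gi N23679
def N34531 : Q := sm gc N23681
def N34532 : Q := sm ge N23681
def N34533 : Q := sm gi N23681
def N34534 : Q := sm gb N23683
def N34536 : Q := sm gi N23683
def N34539 : Q := sm gh N23685
def N34546 : Q := sm gg N23689
def N34549 : Q := sm gf N23692
def N34551 : Q := sm gh N23693
def N34553 : Q := sm gi N23694
def N34554 : Q := sm gh N23695
def N34556 : Q := sm gi N23697
def N34557 : Q := sm gh N23698
def N34561 : Q := sm gd N23702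
def N34562 : Q := sm gc N23703
def N34563 : Q := sm gd N23704
def N34564 : Q := sm gi N23704
def N34567 : Q := sm gi N23705
def N34568 : Q := sm gb N23707
def N34570 : Q := sm gi N23707
def N34571 : Q := sm gi N23708
def N34574 : Q := sm ga N23712
def N34575 : Q := sm gi N23712
def N34578 : Q := sm ge N23716
def N34580 : Q := sm gb N23718
def N34586 : Q := sm gi N23721
def N34588 : Q := sm gi N23722
def N34594 : Q := sm gh N23730
def N34595 : Q := sm gd N23731
def N34596 : Q := sm gi N23731
def N34597 : Q := sm ge N23732
def N34599 : Q := sm gh N23732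
def N34600 : Q := sm gh N23733
def N34602 : Q := sm gi N23734
def N34606 : Q := sm gg N23737
def N34607 : Q := sm gh N23737
def N34610 : Q := sm gd N23739
def N34612 : Q := sm gc N23740
def N34613 : Q := sm ge N23740
def N34620 : Q := sm gc N23745
def N34623 : Q := sm ge N23747
def N34633 : Q := sm gi N23752
def N34634 : Q := sm gh N23753
def N34644 : Q := sm gh N23760
def N34647 : Q := sm gh N23762
def N34649 : Q := sm gh N23763
def N34650 : Q := sm gd N23764
def N34651 : Q := sm gi N23764
def N34652 : Q := sm gd N23765
def N34653 : Q := sm gi N23765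
def N34654 : Q := sm ge N23766
def N34655 : Q := sm gi N23766
def N34656 : Q := sm gf N23768
def N34657 : Q := sm gi N23768
def N34664 : Q := sm ge N23774
def N34669 : Q := sm gg N23778
def N34672 : Q := sm gf N23781
def N34673 : Q := sm gi N23781
def N34676 : Q := sm gi N23783
def N34678 : Q := sm gj N23786
def N34683 : Q := sm gh N23790
def N34688 : Q := sm gh N23795
def N34689 : Q := sm gd N23796
def N34690 : Q := sm gi N23796
def N34692 : Q := sm gd N23798
def N34693 : Q := sm gi N23798
def N34694 : Q := sm ge N23799
def N34695 : Q := sm gi N23799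
def N34696 : Q := sm ge N23801
def N34697 : Q := sm gi N23801
def N34698 : Q := sm gf N23803
def N34699 : Q := sm gi N23803
def N34700 : Q := sm gh N23804
def N34701 : Q := sm gg N23805
def N34702 : Q := sm gi N23805
def N34708 : Q := sm gf N23811
def N34709 : Q := sm gi N23811
def N34711 : Q := sm gf N23813
def N34712 : Q := sm gi N23813
def N34714 : Q := sm gg N23815
def N34715 : Q := sm gi N23815
def N34717 : Q := sm gj N23818
def N34718 : Q := sm gi N23818
def N34721 : Q := sm gg N23821
def N34722 : Q := sm gi N23821
def N34724 : Q := sm gj N23824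
def N34725 : Q := sm gi N23824
def N34726 : Q := sm gh N23825
def N34728 : Q := sm gi N23827
def N34730 : Q := sm gd N23829
def N34731 : Q := sm gc N23830
def N34734 : Q := sm gc N23833
def N34735 : Q := sm ge N23833
def N34738 : Q := sm gj N23836
def N34742 : Q := sm ge N23838
def N34743 : Q := sm gj N23838
def N34747 : Q := sm gi N23840
def N34749 : Q := sm ge N23841
def N34751 : Q := sm gg N23843
def N34753 : Q := sm gd N23844
def N34760 : Q := sm gc N23849
def N34763 : Q := sm gf N23851
def N34771 : Q := sm gj N23857
def N34772 : Q := sm gh N23857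
def N34774 : Q := sm gh N23858
def N34775 : Q := sm gd N23859
def N34776 : Q := sm gi N23859
def N34777 : Q := sm gd N23860
def N34778 : Q := sm gi N23860
def N34779 : Q := sm gc N23861
def N34781 : Q := sm gi N23861
def N34784 : Q := sm gi N23863
def N34787 : Q := sm gh N23866
def N34789 : Q := sm gc N23868
def N34790 : Q := sm ge N23868
def N34791 : Q := sm gc N23869
def N34795 : Q := sm gf N23871
def N34806 : Q := sm gb N23881
def N34807 : Q := sm ge N23881
def N34810 : Q := sm gg N23886
def N34811 : Q := sm gh N23886
def N34812 : Q := sm gd N23887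
def N34813 : Q := sm gi N23887
def N34815 : Q := sm gd N23889
def N34816 : Q := sm gi N23889
def N34817 : Q := sm gc N23890
def N34818 : Q := sm ge N23890
def N34819 : Q := sm gi N23890
def N34820 : Q := sm gc N23892
def N34821 : Q := sm ge N23892
def N34822 : Q := sm gi N23892
def N34823 : Q := sm gb N23894
def N34824 : Q := sm ge N23894
def N34825 : Q := sm gi N23894
def N34827 : Q := sm gi N23895
def N34828 : Q := sm ga N23897
def N34829 : Q := sm ge N23897
def N34830 : Q := sm gi N23897
def N34833 : Q := sm gi N23898
def N34835 : Q := sm gi N23900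
def N34841 : Q := sm gf N23905
def N34857 : Q := sm gb N23919
def N34859 : Q := sm ga N23921
def N34860 : Q := sm ge N23921
def N34863 : Q := sm gb N23925
def N34866 : Q := sm ga N23927
def N34868 : Q := sm gd N23928
def N34870 : Q := sm gd N23930
def N34874 : Q := sm gh N23933
def N34875 : Q := sm gh N23934
def N34876 : Q := sm gd N23935
def N34877 : Q := sm gi N23935
def N34878 : Q := sm ge N23936
def N34879 : Q := sm gi N23936
def N34881 : Q := sm gh N23938
def N34883 : Q := sm gh N23939
def N34884 : Q := sm gi N23940
def N34885 : Q := sm gi N23941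
def N34887 : Q := sm gh N23944
def N34888 : Q := sm gd N23945
def N34889 : Q := sm gi N23945
def N34890 : Q := sm gh N23946
def N34891 : Q := sm gi N23947
def N34893 : Q := sm gh N23950
def N34894 : Q := sm gd N23951
def N34895 : Q := sm gi N23951
def N34896 : Q := sm gc N23952
def N34897 : Q := sm gi N23952
def N34898 : Q := sm gi N23954
def N34901 : Q := sm gf N23957
def N34904 : Q := sm gd N23958
def N34910 : Q := sm gi N23961
def N34911 : Q := sm gc N23962
def N34914 : Q := sm gd N23964
def N34915 : Q := sm gi N23964
def N34919 : Q := sm ge N23967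
def N34921 : Q := sm gf N23968
def N34931 : Q := sm ge N23975
def N34939 : Q := sm gi N23978
def N34945 : Q := sm gc N23983
def N34946 : Q := sm ge N23983
def N34959 : Q := sm gg N23992
def N34964 : Q := sm gh N23996
def N34967 : Q := sm gi N23998
def N34968 : Q := sm gc N23999
def N34981 : Q := sm gh N24009
def N34983 : Q := sm gi N24010
def N34985 : Q := sm gi N24011
def N34987 : Q := sm ge N24012
def N34988 : Q := sm gi N24012
def N34990 : Q := sm ge N24014
def N34991 : Q := sm gi N24014
def N34992 : Q := sm gf N24015
def N34993 : Q := sm gi N24015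
def N34994 : Q := sm gh N24016
def N34996 : Q := sm gi N24017
def N35000 : Q := sm gc N24020
def N35006 : Q := sm gf N24023
def N35008 : Q := sm gh N24024
def N35012 : Q := sm gf N24026
def N35015 : Q := sm gg N24028
def N35016 : Q := sm gi N24028
def N35018 : Q := sm gf N24031
def N35021 : Q := sm gg N24033
def N35022 : Q := sm gi N24033
def N35023 : Q := sm gh N24034
def N35024 : Q := sm gj N24036
def N35025 : Q := sm gi N24036
def N35026 : Q := sm gh N24037
def N35031 : Q := sm gc N24042
def N35040 : Q := sm gb N24048
def N35044 : Q := sm gi N24050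
def N35053 : Q := sm gh N24058
def N35056 : Q := sm gi N24059
def N35065 : Q := sm gh N24068
def N35066 : Q := sm gd N24069
def N35073 : Q := sm gi N24074
def N35081 : Q := sm gi N24079
def N35082 : Q := sm gc N24080
def N35093 : Q := sm gi N24085
def N35117 : Q := sm gd N24102
def N35119 : Q := sm gc N24103
def N35120 : Q := sm ge N24103
def N35121 : Q := sm gi N24103
def N35122 : Q := sm gb N24105
def N35126 : Q := sm gi N24106
def N35127 : Q := sm gh N24107
def N35130 : Q := sm gi N24108
def N35131 : Q := sm gb N24110
def N35134 : Q := sm gf N24111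
def N35140 : Q := sm gf N24114
def N35143 : Q := sm gg N24116
def N35146 : Q := sm gf N24119
def N35149 : Q := sm gg N24121
def N35152 : Q := sm gj N24124
def N35156 : Q := sm gi N24127
def N35164 : Q := sm gi N24133
def N35171 : Q := sm gi N24139
def N35173 : Q := sm ge N24141
def N35174 : Q := sm gi N24141
def N35175 : Q := sm gf N24142
def N35176 : Q := sm gi N24142
def N35179 : Q := sm ge N24144
def N35180 : Q := sm gi N24144
def N35181 : Q := sm gd N24145
def N35182 : Q := sm gf N24145
def N35183 : Q := sm gi N24145
def N35184 : Q := sm gh N24146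
def N35185 : Q := sm gg N24147
def N35186 : Q := sm gi N24147
def N35187 : Q := sm gh N24148
def N35191 : Q := sm gf N24151
def N35193 : Q := sm gh N24152
def N35197 : Q := sm gf N24154
def N35199 : Q := sm gh N24155
def N35200 : Q := sm gg N24156
def N35201 : Q := sm gi N24156
def N35204 : Q := sm gi N24159
def N35212 : Q := sm gj N24165
def N35216 : Q := sm gg N24168
def N35217 : Q := sm gi N24168
def N35219 : Q := sm gj N24171
def N35220 : Q := sm gi N24171
def N35229 : Q := sm gc N24180
def N35231 : Q := sm gb N24181
def N35242 : Q := sm gh N24192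
def N35256 : Q := sm gd N24203
def N35258 : Q := sm gi N24203
def N35268 : Q := sm gh N24210
def N35271 : Q := sm gi N24212
def N35289 : Q := sm gg N24226
def N35292 : Q := sm gj N24229
def N35303 : Q := sm ge N24238
def N35305 : Q := sm gj N24240
def N35306 : Q := sm gi N24240
def N35307 : Q := sm gh N24241
def N35309 : Q := sm gi N24243
def N35310 : Q := sm gh N24244
def N35315 : Q := sm gc N24249
def N35316 : Q := sm ge N24249
def N35320 : Q := sm ge N24252
def N35324 : Q := sm gf N24256
def N35325 : Q := sm gh N24256
def N35327 : Q := sm gi N24257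
def N35331 : Q := sm gi N24259
def N35344 : Q := sm gi N24266
def N35345 : Q := sm gh N24267
def N35351 : Q := sm gd N24271
def N35354 : Q := sm gh N24272
def N35355 : Q := sm gg N24273
def N35357 : Q := sm gh N24274
def N35358 : Q := sm gf N24276
def N35360 : Q := sm gi N24276
def N35365 : Q := sm gj N24280
def N35367 : Q := sm gh N24281
def N35372 : Q := sm gc N24285
def N35373 : Q := sm ge N24285
def N35374 : Q := sm gi N24285
def N35376 : Q := sm ge N24287
def N35377 : Q := sm gi N24287
def N35382 : Q := sm ge N24290
def N35385 : Q := sm ge N24292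
def N35392 : Q := sm gi N24295
def N35394 : Q := sm gi N24296
def N35396 : Q := sm gg N24298
def N35397 : Q := sm gi N24298
def N35399 : Q := sm gg N24301
def N35404 : Q := sm gh N24305
def N35409 : Q := sm gc N24310
def N35418 : Q := sm gi N24317
def N35425 : Q := sm gi N24321
def N35428 : Q := sm gi N24323
def N35430 : Q := sm gi N24324
def N35431 : Q := sm gh N24325
def N35433 : Q := sm ge N24326
def N35434 : Q := sm gi N24326
def N35436 : Q := sm gf N24327
def N35440 : Q := sm gi N24329
def N35441 : Q := sm gh N24330
def N35444 : Q := sm gi N24332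
def N35446 : Q := sm gi N24333
def N35447 : Q := sm gh N24334
def N35452 : Q := sm gi N24336
def N35460 : Q := sm gi N24342
def N35467 : Q := sm gi N24347
def N35470 : Q := sm gj N24350
def N35471 : Q := sm gi N24350
def N35473 : Q := sm gd N24352
def N35474 : Q := sm gi N24353
def N35476 : Q := sm gd N24355
def N35492 : Q := sm gd N24368
def N35504 : Q := sm gd N24377
def N35509 : Q := sm gd N24382
def N35521 : Q := sm gh N24389
def N35523 : Q := sm ge N24390
def N35524 : Q := sm gi N24390
def N35525 : Q := sm gd N24391
def N35560 : Q := sm gi N24414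
def N35570 : Q := sm gf N24421
def N35573 : Q := sm gg N24423
def N35574 : Q := sm gi N24423
def N35577 : Q := sm gj N24426
def N35582 : Q := sm gh N24430
def N35598 : Q := sm gh N24442
def N35601 : Q := sm gg N24444
def N35605 : Q := sm gj N24447
def N35606 : Q := sm gi N24447
def N35623 : Q := sm gd N24461
def N35633 : Q := sm gb N24469
def N35675 : Q := sm ge N24500
def N35680 : Q := sm gh N24505
def N35683 : Q := sm gh N24508
def N35685 : Q := sm gc N24510
def N35687 : Q := sm gh N24511
def N35689 : Q := sm gc N24513
def N35697 : Q := sm ge N24518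
def N35701 : Q := sm ge N24520
def N35704 : Q := sm ge N24522
def N35720 : Q := sm gh N24532
def N35726 : Q := sm gf N24536
def N35733 : Q := sm gj N24540
def N35735 : Q := sm gd N24543
def N35736 : Q := sm gc N24544
def N35739 : Q := sm ge N24545
def N35741 : Q := sm gb N24547
def N35743 : Q := sm gf N24548
def N35745 : Q := sm ge N24549
def N35748 : Q := sm gg N24551
def N35750 : Q := sm ge N24552
def N35758 : Q := sm gh N24557
def N35774 : Q := sm ge N24568
def N35781 : Q := sm gh N24572
def N35782 : Q := sm gg N24573
def N35784 : Q := sm gh N24574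
def N35795 : Q := sm gd N24583
def N35799 : Q := sm gh N24584
def N35802 : Q := sm gg N24586
def N35803 : Q := sm gh N24586
def N35818 : Q := sm gh N24596
def N35819 : Q := sm gj N24597
def N35820 : Q := sm gh N24597
def N35835 : Q := sm gg N24607
def N35839 : Q := sm gi N24609
def N35844 : Q := sm gi N24613
def N35854 : Q := sm gg N24620
def N35856 : Q := sm gj N24621
def N35858 : Q := sm gi N24622
def N35860 : Q := sm gg N24625
def N35870 : Q := sm gh N24630
def N35872 : Q := sm gi N24631
def N35874 : Q := sm gi N24633
def N35875 : Q := sm gj N24635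
def N35884 : Q := sm gg N24642
def N35897 : Q := sm gf N24649
def N35902 : Q := sm gh N24651
def N35903 : Q := sm gi N24652
def N35907 : Q := sm gj N24655
def N35909 : Q := sm gd N24656
def N35910 : Q := sm gi N24656
def N35911 : Q := sm gh N24657
def N35919 : Q := sm gj N24663
def N35929 : Q := sm gd N24671
def N35938 : Q := sm gh N24678
def N35940 : Q := sm gc N24680
def N35958 : Q := sm gf N24691
def N35962 : Q := sm gd N24694
def N35964 : Q := sm gc N24695
def N35971 : Q := sm gi N24698
def N35977 : Q := sm gf N24703
def N35982 : Q := sm gi N24705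
def N35984 : Q := sm gg N24707
def N35987 : Q := sm gh N24708
def N35988 : Q := sm gi N24709
def N35989 : Q := sm ge N24712
def N35993 : Q := sm gh N24714
def N35995 : Q := sm gj N24716
def N35997 : Q := sm gf N24717
def N36008 : Q := sm gf N24724
def N36020 : Q := sm gj N24731
def N36022 : Q := sm gi N24732
def N36029 : Q := sm gi N24737
def N36034 : Q := sm gd N24740
def N36038 : Q := sm gj N24742
def N36040 : Q := sm gi N24743
def N36054 : Q := sm gi N24753
def N36055 : Q := sm gj N24754
def N36064 : Q := sm gh N24758
def N36079 : Q := sm gi N24769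
def N36082 : Q := sm gj N24771
def N36089 : Q := sm gh N24776
def N36098 : Q := sm gi N24781
def N36100 : Q := sm gi N24783
def N36108 : Q := sm gi N24790
def N36109 : Q := sm ge N24792
def N36119 : Q := sm gd N24796
def N36123 : Q := sm gf N24799
def N36127 : Q := sm gi N24800
def N36128 : Q := sm gh N24801
def N36129 : Q := sm gi N24802
def N36147 : Q := sm gh N24814
def N36149 : Q := sm gi N24815
def N36150 : Q := sm gc N24816
def N36153 : Q := sm gg N24820
def N36157 : Q := sm gd N24822
def N36163 : Q := sm gh N24826
def N36166 : Q := sm gh N24828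
def N36177 : Q := sm gj N24834
def N36178 : Q := sm gh N24834
def N36182 : Q := sm gd N24837
def N36184 : Q := sm ge N24838
def N36195 : Q := sm gi N24845
def N36197 : Q := sm gf N24849
def N36202 : Q := sm gj N24851
def N36208 : Q := sm ge N24854
def N36216 : Q := sm gh N24860
def N36220 : Q := sm gg N24864
def N36221 : Q := sm gh N24864
def N36222 : Q := sm gd N24865
def N36224 : Q := sm gd N24866
def N36225 : Q := sm gi N24866
def N36232 : Q := sm gd N24873
def N36235 : Q := sm ge N24874
def N36241 : Q := sm gh N24879
def N36244 : Q := sm gh N24881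
def N36250 : Q := sm ge N24886
def N36253 : Q := sm ge N24888
def N36257 : Q := sm ge N24891
def N36258 : Q := sm gd N24892
def N36273 : Q := sm gc N24902
def N36276 : Q := sm gg N24903
def N36279 : Q := sm gh N24904
def N36280 : Q := sm gi N24905
def N36281 : Q := sm gj N24906
def N36295 : Q := sm gj N24915
def N36311 : Q := sm gg N24925
def N36314 : Q := sm gh N24926
def N36319 : Q := sm gd N24931
def N36320 : Q := sm gi N24931
def N36324 : Q := sm gf N24935
def N36325 : Q := sm gc N24936
def N36327 : Q := sm gh N24936
def N36356 : Q := sm gi N24955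
def N36370 : Q := sm gh N24964
def N36373 : Q := sm gh N24966
def N36381 : Q := sm gi N24971
def N36392 : Q := sm gd N24979
def N36396 : Q := sm gf N24982
def N36397 : Q := sm gj N24982
def N36398 : Q := sm gh N24982
def N36402 : Q := sm gi N24985
def N36404 : Q := sm gh N24987
def N36418 : Q := sm gg N24997
def N36420 : Q := sm gj N24998
def N36424 : Q := sm gg N25002
def N36425 : Q := sm gh N25002
def N36436 : Q := sm gi N25008
def N36439 : Q := sm gj N25012
def N36440 : Q := sm gh N25012
def N36441 : Q := sm gh N25013
def N36447 : Q := sm ge N25019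
def N36449 : Q := sm gh N25019
def N36454 : Q := sm gh N25021
def N36462 : Q := sm gj N25026
def N36463 : Q := sm gh N25026
def N36483 : Q := sm gj N25040
def N36487 : Q := sm gi N25042
def N36498 : Q := sm gi N25050
def N36501 : Q := sm gh N25053
def N36502 : Q := sm gd N25055
def N36505 : Q := sm gj N25056
def N36508 : Q := sm gi N25057
def N36521 : Q := sm gi N25064
def N36526 : Q := sm gh N25068
def N36531 : Q := sm gi N25071
def N36534 : Q := sm gi N25074
def N36537 : Q := sm gh N25076
def N36539 : Q := sm gi N25077
def N36542 : Q := sm gh N25079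
def N36544 : Q := sm gi N25080
def N36561 : Q := sm gi N25092
def N36564 : Q := sm gc N25094
def N36576 : Q := sm gi N25103
def N36582 : Q := sm gh N25108
def N36583 : Q := sm gc N25110
def N36588 : Q := sm gh N25111
def N36593 : Q := sm gi N25114
def N36624 : Q := sm gh N25133
def N36630 : Q := sm gi N25137
def N36631 : Q := sm gc N25138
def N36635 : Q := sm gh N25141
def N36639 : Q := sm gh N25144
def N36645 : Q := sm gg N25148
def N36650 : Q := sm gi N25150
def N36661 : Q := sm gi N25156
def N36664 : Q := sm gh N25159
def N36673 : Q := sm gd N25167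
def N36677 : Q := sm gi N25168
def N36678 : Q := sm gc N25170
def N36682 : Q := sm gh N25173
def N36684 : Q := sm gi N25174
def N36685 : Q := sm gh N25175
def N36689 : Q := sm ge N25178
def N36700 : Q := sm gi N25185
def N36701 : Q := sm gh N25186
def N36710 : Q := sm gh N25192
def N36711 : Q := sm gi N25193
def N36716 : Q := sm gd N25196
def N36719 : Q := sm gh N25197
def N36729 : Q := sm gi N25205
def N36739 : Q := sm gj N25211
def N36741 : Q := sm gi N25212
def N36743 : Q := sm gg N25215
def N36746 : Q := sm gh N25216
def N36748 : Q := sm gi N25217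
def N36750 : Q := sm gi N25218
def N36755 : Q := sm gi N25221
def N36758 : Q := sm gj N25225
def N36759 : Q := sm gh N25225
def N36762 : Q := sm gi N25227
def N36770 : Q := sm gi N25233
def N36771 : Q := sm gd N25234
def N36790 : Q := sm gj N25245
def N36791 : Q := sm gh N25245
def N36792 : Q := sm gd N25246
def N36796 : Q := sm gi N25248
def N36800 : Q := sm gi N25251
def N36808 : Q := sm gi N25256
def N36820 : Q := sm gh N25266
def N36830 : Q := sm gi N25271
def N36839 : Q := sm gd N25277
def N36845 : Q := sm gh N25281
def N36846 : Q := sm gj N25282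
def N36850 : Q := sm gi N25284
def N36853 : Q := sm gi N25287
def N36855 : Q := sm gj N25289
def N36858 : Q := sm gi N25290
def N36863 : Q := sm gi N25293
def N36886 : Q := sm gi N25309
def N36891 : Q := sm gc N25314
def N36895 : Q := sm gi N25316
def N36897 : Q := sm gi N25318
def N36922 : Q := sm gj N25333
def N36938 : Q := sm gf N25343
def N36939 : Q := sm gi N25343
def N36945 : Q := sm gh N25348
def N36946 : Q := sm gd N25349
def N36954 : Q := sm gh N25354
def N36955 : Q := sm ge N25356
def N36956 : Q := sm gj N25356
def N36957 : Q := sm gh N25356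
def N36960 : Q := sm gi N25358
def N36965 : Q := sm gh N25361
def N36978 : Q := sm gh N25368
def N36993 : Q := sm gi N25380
def N36996 : Q := sm gi N25381
def N37000 : Q := sm gi N25385
def N37004 : Q := sm gh N25388
def N37009 : Q := sm gi N25391
def N37012 : Q := sm gi N25393
def N37013 : Q := sm gi N25394
def N37017 : Q := sm gh N25397
def N37033 : Q := sm gj N25408
def N37034 : Q := sm gh N25408
def N37044 : Q := sm gi N25415
def N37052 : Q := sm gj N25422
def N37053 : Q := sm gh N25422
def N37055 : Q := sm gd N25424
def N37059 : Q := sm gi N25427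
def N37064 : Q := sm gi N25430
def N37080 : Q := sm gi N25439
def N37090 : Q := sm gi N25445
def N37098 : Q := sm gh N25451
def N37100 : Q := sm gi N25452
def N37119 : Q := sm gh N25466
def N37120 : Q := sm gd N25467
def N37124 : Q := sm gi N25468
def N37131 : Q := sm gi N25472
def N37133 : Q := sm gd N25474
def N37146 : Q := sm gi N25482
def N37147 : Q := sm gi N25484
def N37151 : Q := sm gd N25487
def N37157 : Q := sm gi N25490
def N37162 : Q := sm gi N25493
def N37170 : Q := sm gh N25499
def N37172 : Q := sm gh N25501
def N37174 : Q := sm gi N25502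
def N37189 : Q := sm gi N25513
def N37196 : Q := sm gc N25520
def N37198 : Q := sm gh N25520
def N37200 : Q := sm gj N25521
def N37201 : Q := sm gh N25521
def N37203 : Q := sm gi N25522
def N37213 : Q := sm gi N25528
def N37215 : Q := sm gf N25530
def N37216 : Q := sm gj N25530
def N37219 : Q := sm gi N25531
def N37234 : Q := sm gh N25541
def N37239 : Q := sm gh N25545
def N37263 : Q := sm gi N25560
def N37286 : Q := sm gd N25577
def N37292 : Q := sm gi N25580
def N37294 : Q := sm gi N25582
def N37300 : Q := sm gi N25587
def N37308 : Q := sm gh N25592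
def N37310 : Q := sm gi N25593
def N37319 : Q := sm gh N25601
def N37350 : Q := sm ge N25620
def N37366 : Q := sm ge N25628
def N37367 : Q := sm gi N25628
def N37370 : Q := sm gi N25630
def N37371 : Q := sm gf N25631
def N37382 : Q := sm gj N25640
def N37383 : Q := sm gi N25640
def N37384 : Q := sm gh N25641
def N37393 : Q := sm gi N25647
def N37400 : Q := sm gj N25654
def N37407 : Q := sm gi N25657
def N37410 : Q := sm gi N25658
def N37416 : Q := sm gh N25662
def N37417 : Q := sm gh N25663
def N37419 : Q := sm gi N25664
def N37427 : Q := sm ge N25669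
def N37428 : Q := sm gi N25669
def N37433 : Q := sm ge N25672
def N37434 : Q := sm gi N25672
def N37443 : Q := sm gh N25679
def N37455 : Q := sm gd N25690
def N37456 : Q := sm gi N25690
def N37459 : Q := sm gi N25691
def N37464 : Q := sm gh N25695
def N37466 : Q := sm gi N25696
def N37467 : Q := sm gh N25697
def N37480 : Q := sm gi N25707
def N37490 : Q := sm gh N25715
def N37507 : Q := sm gd N25727
def N37509 : Q := sm ge N25728
def N37515 : Q := sm gi N25731
def N37516 : Q := sm gh N25732
def N37518 : Q := sm gg N25735
def N37525 : Q := sm gh N25738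
def N37532 : Q := sm gh N25743
def N37552 : Q := sm gd N25759
def N37554 : Q := sm gh N25759
def N37557 : Q := sm gd N25761
def N37561 : Q := sm gi N25762
def N37584 : Q := sm gi N25778
def N37585 : Q := sm gf N25780
def N37591 : Q := sm gh N25782
def N37594 : Q := sm gi N25784
def N37599 : Q := sm gi N25787
def N37615 : Q := sm gi N25798
def N37621 : Q := sm gi N25804
def N37634 : Q := sm gg N25814
def N37647 : Q := sm ge N25821
def N37650 : Q := sm gi N25822
def N37659 : Q := sm gh N25827
def N37661 : Q := sm gi N25828
def N37680 : Q := sm gi N25841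
def N37682 : Q := sm gi N25842
def N37685 : Q := sm gh N25845
def N37687 : Q := sm gj N25847
def N37696 : Q := sm gh N25852
def N37739 : Q := sm ge N25882
def N37740 : Q := sm gi N25882
def N37744 : Q := sm gi N25885
def N37747 : Q := sm gi N25887
def N37750 : Q := sm gi N25889
def N37752 : Q := sm gi N25892
def N37769 : Q := sm gi N25901
def N37770 : Q := sm gd N25903
def N37771 : Q := sm gi N25903
def N37779 : Q := sm gh N25908
def N37786 : Q := sm gh N25912
def N37787 : Q := sm ge N25914
def N37788 : Q := sm gj N25914
def N37791 : Q := sm gd N25916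
def N37792 : Q := sm gi N25916
def N37796 : Q := sm gg N25919
def N37801 : Q := sm gi N25921
def N37804 : Q := sm gi N25922
def N37829 : Q := sm gc N25941
def N37830 : Q := sm gi N25941
def N37832 : Q := sm gi N25943
def N37833 : Q := sm gh N25944
def N37839 : Q := sm gg N25949
def N37853 : Q := sm gh N25956
def N37857 : Q := sm gc N25959
def N37865 : Q := sm gi N25963
def N37874 : Q := sm gh N25968
def N37876 : Q := sm gi N25969
def N37880 : Q := sm gh N25973
def N37884 : Q := sm gj N25977
def N37888 : Q := sm gi N25980
def N37889 : Q := sm gh N25981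
def N37890 : Q := sm gd N25982
def N37894 : Q := sm gc N25985
def N37904 : Q := sm gh N25991
def N37914 : Q := sm gb N26000
def N37916 : Q := sm gi N26000
def N37930 : Q := sm gh N26012
def N37932 : Q := sm gf N26016
def N37934 : Q := sm gh N26016
def N37935 : Q := sm gd N26017
def N37936 : Q := sm gi N26017
def N37946 : Q := sm gg N26023
def N37955 : Q := sm gb N26028
def N37956 : Q := sm ge N26028
def N37990 : Q := sm gh N26049
def N37991 : Q := sm gd N26050
def N37998 : Q := sm gb N26054
def N38009 : Q := sm gi N26059
def N38037 : Q := sm gi N26080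
def N38042 : Q := sm gi N26084
def N38047 : Q := sm ge N26087
def N38048 : Q := sm gi N26087
def N38056 : Q := sm gh N26095
def N38059 : Q := sm gh N26097
def N38062 : Q := sm gh N26099
def N38069 : Q := sm ge N26103
def N38073 : Q := sm gf N26106
def N38079 : Q := sm gh N26109
def N38080 : Q := sm gg N26110
def N38085 : Q := sm gc N26114
def N38088 : Q := sm ge N26116
def N38091 : Q := sm gi N26117
def N38094 : Q := sm gi N26119
def N38096 : Q := sm gi N26120
def N38097 : Q := sm gh N26121
def N38100 : Q := sm gh N26123
def N38102 : Q := sm gi N26124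
def N38109 : Q := sm gi N26130
def N38123 : Q := sm gh N26143
def N38133 : Q := sm gi N26150
def N38134 : Q := sm gh N26151
def N38136 : Q := sm gi N26152
def N38145 : Q := sm gh N26162
def N38152 : Q := sm gh N26166
def N38156 : Q := sm gd N26169
def N38161 : Q := sm ge N26172
def N38166 : Q := sm gf N26175
def N38170 : Q := sm gi N26176
def N38175 : Q := sm gi N26179
def N38193 : Q := sm gd N26192
def N38199 : Q := sm gh N26196
def N38202 : Q := sm gh N26198
def N38203 : Q := sm gh N26199
def N38208 : Q := sm gi N26201
def N38223 : Q := sm gh N26210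
def N38227 : Q := sm gi N26213
def N38228 : Q := sm gh N26214
def N38238 : Q := sm gi N26222
def N38240 : Q := sm ge N26223
def N38243 : Q := sm gi N26225
def N38255 : Q := sm gb N26235
def N38260 : Q := sm gb N26238
def N38274 : Q := sm gd N26248
def N38283 : Q := sm gi N26252
def N38297 : Q := sm gh N26261
def N38303 : Q := sm gh N26265
def N38306 : Q := sm gi N26267
def N38324 : Q := sm gh N26277
def N38333 : Q := sm gj N26285
def N38336 : Q := sm gd N26287
def N38361 : Q := sm gi N26303
def N38365 : Q := sm gf N26306
def N38376 : Q := sm gi N26312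
def N38391 : Q := sm gh N26321
def N38398 : Q := sm gj N26328
def N38399 : Q := sm gi N26328
def N38400 : Q := sm gh N26329
def N38406 : Q := sm gd N26335
def N38408 : Q := sm gc N26336
def N38409 : Q := sm ge N26336
def N38414 : Q := sm gi N26339
def N38425 : Q := sm gc N26349
def N38427 : Q := sm gi N26349
def N38430 : Q := sm gi N26351
def N38431 : Q := sm gi N26352
def N38444 : Q := sm gh N26363
def N38457 : Q := sm gh N26371
def N38469 : Q := sm ge N26379
def N38470 : Q := sm gi N26379
def N38471 : Q := sm gf N26380
def N38477 : Q := sm gh N26383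
def N38485 : Q := sm gd N26389
def N38486 : Q := sm gi N26389
def N38495 : Q := sm gi N26394
def N38498 : Q := sm gi N26395
def N38500 : Q := sm ge N26397
def N38501 : Q := sm gi N26397
def N38502 : Q := sm gf N26398
def N38509 : Q := sm gh N26403
def N38524 : Q := sm gi N26414
def N38529 : Q := sm gi N26418
def N38533 : Q := sm gg N26422
def N38534 : Q := sm gh N26422
def N38536 : Q := sm gi N26423
def N38539 : Q := sm gc N26425
def N38540 : Q := sm ge N26425
def N38546 : Q := sm gi N26428
def N38554 : Q := sm gc N26434
def N38555 : Q := sm ge N26434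
def N38562 : Q := sm gh N26438
def N38580 : Q := sm gh N26451
def N38587 : Q := sm gi N26457
def N38608 : Q := sm gb N26473
def N38615 : Q := sm gi N26476
def N38622 : Q := sm gh N26482
def N38633 : Q := sm gi N26491
def N38639 : Q := sm gi N26494
def N38660 : Q := sm gi N26505
def N38661 : Q := sm ge N26507
def N38667 : Q := sm gf N26510
def N38677 : Q := sm gi N26516
def N38678 : Q := sm gh N26517
def N38688 : Q := sm gd N26524
def N38691 : Q := sm gi N26525
def N38705 : Q := sm ge N26533
def N38720 : Q := sm gi N26541
def N38721 : Q := sm gh N26542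
def N38738 : Q := sm gc N26557
def N38752 : Q := sm gi N26568
def N38766 : Q := sm ge N26577
def N38768 : Q := sm gb N26579
def N38770 : Q := sm gi N26579
def N38777 : Q := sm gd N26583
def N38779 : Q := sm gi N26583
def N38795 : Q := sm gb N26594
def N38809 : Q := sm gh N26601
def N38820 : Q := sm gi N26609
def N38841 : Q := sm gb N26628
def N38844 : Q := sm ga N26630
def N38845 : Q := sm gi N26630
def N38857 : Q := sm gi N26642
def N38860 : Q := sm gi N26644
def N38865 : Q := sm gi N26650
def N38868 : Q := sm gh N26653
def N38879 : Q := sm gi N26660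
def N38880 : Q := sm ge N26661
def N38881 : Q := sm gj N26661
def N38885 : Q := sm gi N26663
def N38892 : Q := sm gi N26667
def N38894 : Q := sm gi N26668
def N38915 : Q := sm gh N26680
def N38940 : Q := sm gi N26695
def N38941 : Q := sm gb N26697
def N38944 : Q := sm gf N26698
def N38946 : Q := sm gh N26699
def N38958 : Q := sm gi N26706
def N38964 : Q := sm gi N26709
def N38970 : Q := sm gh N26713
def N38984 : Q := sm gc N26726
def N38987 : Q := sm gc N26728
def N38993 : Q := sm gi N26731
def N38996 : Q := sm ga N26735
def N38999 : Q := sm gg N26739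
def N39005 : Q := sm gi N26742
def N39016 : Q := sm gi N26748
def N39017 : Q := sm gh N26749
def N39024 : Q := sm gh N26752
def N39026 : Q := sm gi N26753
def N39035 : Q := sm gi N26759
def N39053 : Q := sm gh N26769
def N39080 : Q := sm ge N26792
def N39093 : Q := sm gi N26800
def N39095 : Q := sm gi N26803
def N39101 : Q := sm gi N26809
def N39104 : Q := sm gi N26811
def N39110 : Q := sm gi N26816
def N39116 : Q := sm gh N26823
def N39124 : Q := sm gh N26828
def N39125 : Q := sm gg N26829
def N39129 : Q := sm gd N26831
def N39133 : Q := sm gi N26832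
def N39138 : Q := sm gh N26836
def N39143 : Q := sm ge N26839
def N39147 : Q := sm gi N26841
def N39148 : Q := sm ge N26843
def N39158 : Q := sm gi N26848
def N39159 : Q := sm gh N26849
def N39168 : Q := sm gh N26855
def N39171 : Q := sm gh N26857
def N39181 : Q := sm gh N26864
def N39194 : Q := sm gi N26873
def N39198 : Q := sm gg N26877
def N39207 : Q := sm ge N26883
def N39216 : Q := sm gi N26890
def N39221 : Q := sm gh N26894
def N39223 : Q := sm gi N26895
def N39225 : Q := sm gg N26897
def N39226 : Q := sm gi N26897
def N39227 : Q := sm gh N26898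
def N39235 : Q := sm gj N26906
def N39243 : Q := sm gh N26913
def N39244 : Q := sm gd N26914
def N39249 : Q := sm gh N26918
def N39255 : Q := sm gd N26922
def N39258 : Q := sm gi N26923
def N39259 : Q := sm gf N26925
def N39271 : Q := sm gd N26934
def N39273 : Q := sm gi N26935
def N39274 : Q := sm gf N26937
def N39275 : Q := sm gi N26937
def N39276 : Q := sm gh N26938
def N39287 : Q := sm gi N26948
def N39289 : Q := sm gd N26950
def N39292 : Q := sm gi N26952
def N39293 : Q := sm gh N26953
def N39299 : Q := sm gh N26959
def N39302 : Q := sm ge N26961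
def N39313 : Q := sm gh N26969
def N39321 : Q := sm gg N26974
def N39323 : Q := sm gd N26975
def N39324 : Q := sm gi N26975
def N39326 : Q := sm gi N26976
def N39340 : Q := sm ge N26985
def N39357 : Q := sm gj N26997
def N39363 : Q := sm gg N27002
def N39366 : Q := sm gi N27003
def N39368 : Q := sm gd N27005
def N39369 : Q := sm gi N27005
def N39370 : Q := sm gc N27006
def N39378 : Q := sm gi N27010
def N39386 : Q := sm gi N27014
def N39395 : Q := sm gb N27022
def N39396 : Q := sm ge N27022
def N39411 : Q := sm ge N27035
def N39412 : Q := sm ga N27037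
def N39419 : Q := sm gi N27042
def N39423 : Q := sm gd N27045
def N39424 : Q := sm gi N27045
def N39458 : Q := sm ge N27067
def N39479 : Q := sm gb N27086
def N39489 : Q := sm ge N27094
def N39503 : Q := sm gh N27104
def N39517 : Q := sm gh N27113
def N39528 : Q := sm gi N27124
def N39535 : Q := sm gj N27130
def N39536 : Q := sm gh N27130
def N39538 : Q := sm gi N27131
def N39543 : Q := sm gd N27134
def N39561 : Q := sm gh N27144
def N39574 : Q := sm gg N27152
def N39575 : Q := sm gi N27152
def N39587 : Q := sm gd N27161
def N39589 : Q := sm gh N27162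
def N39592 : Q := sm gi N27164
def N39594 : Q := sm gi N27165
def N39596 : Q := sm ge N27166
def N39600 : Q := sm gi N27168
def N39602 : Q := sm gi N27169
def N39609 : Q := sm gc N27174
def N39622 : Q := sm gi N27180
def N39629 : Q := sm gh N27186
def N39631 : Q := sm gi N27187
def N39653 : Q := sm gi N27204
def N39657 : Q := sm gd N27209
def N39671 : Q := sm gi N27217
def N39674 : Q := sm gh N27219
def N39676 : Q := sm ge N27220
def N39679 : Q := sm gf N27221
def N39681 : Q := sm gh N27222
def N39694 : Q := sm gb N27231
def N39713 : Q := sm gh N27242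
def N39714 : Q := sm gg N27243
def N39716 : Q := sm gh N27244
def N39724 : Q := sm gh N27250
def N39734 : Q := sm gd N27260
def N39735 : Q := sm gc N27261
def N39742 : Q := sm gh N27265
def N39747 : Q := sm gi N27267
def N39751 : Q := sm gi N27271
def N39752 : Q := sm gh N27272
def N39754 : Q := sm gh N27275
def N39756 : Q := sm gh N27277
def N39759 : Q := sm ga N27280
def N39760 : Q := sm ge N27280
def N39763 : Q := sm gi N27281
def N39764 : Q := sm gh N27282
def N39767 : Q := sm gi N27285
def N39769 : Q := sm gi N27286
def N39786 : Q := sm gh N27301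
def N39788 : Q := sm gi N27302
def N39802 : Q := sm gh N27310
def N39807 : Q := sm ge N27313
def N39815 : Q := sm gd N27317
def N39826 : Q := sm gh N27324
def N39829 : Q := sm gi N27325
def N39836 : Q := sm gi N27330
def N39841 : Q := sm gj N27334
def N39842 : Q := sm gi N27334
def N39856 : Q := sm gi N27344
def N39875 : Q := sm gh N27355
def N39878 : Q := sm gh N27357
def N39885 : Q := sm ga N27362
def N39899 : Q := sm gg N27371
def N39913 : Q := sm gd N27382
def N39932 : Q := sm gb N27400
def N39937 : Q := sm gh N27402
def N39938 : Q := sm ga N27403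
def N39941 : Q := sm gd N27404
def N39942 : Q := sm gf N27404
def N39943 : Q := sm gi N27404
def N39958 : Q := sm gh N27414
def N39961 : Q := sm gi N27416
def N39972 : Q := sm gh N27423
def N39978 : Q := sm gg N27428
def N39990 : Q := sm gi N27436
def N40000 : Q := sm gd N27445
def N40002 : Q := sm gj N27447
def N40004 : Q := sm gh N27448
def N40007 : Q := sm gh N27451
def N40015 : Q := sm gd N27458
def N40016 : Q := sm gc N27459
def N40032 : Q := sm gd N27473
def N40044 : Q := sm gf N27482
def N40053 : Q := sm gg N27488
def N40060 : Q := sm gd N27493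
def N40068 : Q := sm gi N27497
def N40092 : Q := sm gh N27516
def N40095 : Q := sm ge N27518
def N40102 : Q := sm gh N27524
def N40108 : Q := sm ge N27529
def N40116 : Q := sm gi N27536
def N40140 : Q := sm gh N27555
def N40151 : Q := sm gi N27561
def N40154 : Q := sm gi N27563
def N40155 : Q := sm gf N27564
def N40171 : Q := sm gf N27572
def N40177 : Q := sm gd N27577
def N40182 : Q := sm gi N27579
def N40189 : Q := sm gh N27584
def N40194 : Q := sm gd N27588
def N40198 : Q := sm gi N27589
def N40214 : Q := sm gi N27601
def N40215 : Q := sm gb N27603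
def N40218 : Q := sm gf N27604
def N40220 : Q := sm gh N27605
def N40236 : Q := sm gh N27614
def N40238 : Q := sm ge N27615
def N40247 : Q := sm gi N27621
def N40249 : Q := sm gi N27622
def N40254 : Q := sm gd N27626
def N40257 : Q := sm gh N27628
def N40261 : Q := sm gh N27631
def N40266 : Q := sm gc N27636
def N40267 : Q := sm gh N27637
def N40269 : Q := sm gc N27639
def N40272 : Q := sm ga N27641
def N40274 : Q := sm gi N27641
def N40280 : Q := sm gh N27647
def N40286 : Q := sm ge N27652
def N40290 : Q := sm gi N27654
def N40299 : Q := sm gi N27658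
def N40300 : Q := sm gh N27659
def N40303 : Q := sm gh N27661
def N40307 : Q := sm gf N27664
def N40311 : Q := sm gi N27666
def N40318 : Q := sm gh N27671
def N40328 : Q := sm gi N27676
def N40335 : Q := sm gg N27682
def N40341 : Q := sm gh N27686
def N40344 : Q := sm gi N27688
def N40355 : Q := sm gi N27697
def N40357 : Q := sm gd N27699
def N40360 : Q := sm gh N27702
def N40364 : Q := sm gd N27706
def N40367 : Q := sm gb N27708
def N40377 : Q := sm gi N27715
def N40384 : Q := sm gh N27721
def N40393 : Q := sm gh N27728
def N40435 : Q := sm gf N27756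
def N40440 : Q := sm gh N27758
def N40459 : Q := sm gd N27772
def N40472 : Q := sm gh N27781
def N40478 : Q := sm gd N27786
def N40487 : Q := sm gh N27791
def N40497 : Q := sm gd N27798
def N40501 : Q := sm gg N27801
def N40502 : Q := sm gi N27801
def N40504 : Q := sm gd N27803
def N40513 : Q := sm gc N27811
def N40514 : Q := sm gh N27812
def N40550 : Q := sm gh N27837
def N40579 : Q := sm ga N27860
def N40616 : Q := sm gh N27886
def N40624 : Q := sm gd N27892
def N40654 : Q := sm gi N27913
def N40664 : Q := sm ge N27919
def N40667 : Q := sm ge N27921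
def N40671 : Q := sm gh N27923
def N40674 : Q := sm gi N27924
def N40675 : Q := sm gd N27925
def N40681 : Q := sm gh N27928
def N40687 : Q := sm gh N27932
def N40689 : Q := sm ge N27933
def N40703 : Q := sm gh N27941
def N40724 : Q := sm gh N27954
def N40725 : Q := sm gd N27955
def N40726 : Q := sm ge N27956
def N40732 : Q := sm gj N27959
def N40733 : Q := sm gi N27959
def N40738 : Q := sm gh N27964
def N40741 : Q := sm gg N27967
def N40744 : Q := sm gj N27968
def N40758 : Q := sm gd N27979
def N40765 : Q := sm gb N27984
def N40769 : Q := sm gi N27985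
def N40777 : Q := sm gh N27989
def N40779 : Q := sm gi N27990
def N40780 : Q := sm gh N27991
def N40786 : Q := sm gh N27995
def N40794 : Q := sm gi N28000
def N40795 : Q := sm gh N28001
def N40797 : Q := sm ga N28003
def N40800 : Q := sm gd N28004
def N40801 : Q := sm gf N28004
def N40809 : Q := sm gf N28010
def N40831 : Q := sm ge N28026
def N40839 : Q := sm gc N28034
def N40852 : Q := sm gi N28044
def N40856 : Q := sm gh N28047
def N40863 : Q := sm ge N28053
def N40871 : Q := sm gf N28058
def N40883 : Q := sm gh N28064
def N40885 : Q := sm gi N28066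
def N40892 : Q := sm gg N28070
def N40893 : Q := sm gi N28070
def N40894 : Q := sm gh N28071
def N40903 : Q := sm gh N28077
def N40909 : Q := sm gh N28080
def N40910 : Q := sm gd N28081
def N40914 : Q := sm gh N28083
def N40917 : Q := sm gh N28085
def N40918 : Q := sm gd N28086
def N40919 : Q := sm ge N28087
def N40921 : Q := sm gh N28089
def N40927 : Q := sm gf N28093
def N40928 : Q := sm gi N28093
def N40941 : Q := sm gf N28102
def N40942 : Q := sm gi N28102
def N40949 : Q := sm gi N28107
def N40958 : Q := sm gi N28115
def N40961 : Q := sm gj N28118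
def N40971 : Q := sm ge N28125
def N40973 : Q := sm gh N28127
def N40976 : Q := sm ge N28129
def N40983 : Q := sm gd N28135
def N40986 : Q := sm gb N28137
def N41000 : Q := sm gc N28148
def N41001 : Q := sm gh N28148
def N41004 : Q := sm gd N28150
def N41012 : Q := sm ge N28157
def N41021 : Q := sm gi N28163
def N41025 : Q := sm gi N28166
def N41026 : Q := sm gi N28167
def N41031 : Q := sm gh N28171
def N41032 : Q := sm gd N28172
def N41033 : Q := sm gc N28173
def N41055 : Q := sm gh N28187
def N41058 : Q := sm gh N28189
def N41065 : Q := sm gf N28194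
def N41068 : Q := sm gg N28195
def N41087 : Q := sm ge N28207
def N41088 : Q := sm gg N28207
def N41100 : Q := sm gd N28216
def N41109 : Q := sm gh N28221
def N41110 : Q := sm gh N28222
def N41139 : Q := sm gh N28243
def N41168 : Q := sm gj N28262
def N41169 : Q := sm gi N28262
def N41186 : Q := sm ge N28276
def N41213 : Q := sm ge N28297
def N41223 : Q := sm gd N28304
def N41230 : Q := sm gj N28308
def N41232 : Q := sm gh N28309
def N41240 : Q := sm gh N28314
def N41245 : Q := sm gc N28319
def N41247 : Q := sm gf N28320
def N41248 : Q := sm gh N28321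
def N41270 : Q := sm gb N28338
def N41272 : Q := sm gf N28339
def N41278 : Q := sm ge N28343
def N41279 : Q := sm ga N28345
def N41349 : Q := sm ge N28396
def N41392 : Q := sm gg N28427
def N41407 : Q := sm gi N28436
def N41428 : Q := sm gh N28449
def N41431 : Q := sm gi N28451
def N41442 : Q := sm gg N28460
def N41447 : Q := sm gh N28462
def N41462 : Q := sm gj N28473
def N41463 : Q := sm ge N28474
def N41469 : Q := sm gh N28476
def N41488 : Q := sm gh N28489
def N41504 : Q := sm gd N28500
def N41509 : Q := sm gh N28504
def N41510 : Q := sm gh N28505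
def N41521 : Q := sm gd N28513
def N41522 : Q := sm gi N28513
def N41525 : Q := sm gj N28515
def N41527 : Q := sm gi N28516
def N41533 : Q := sm gd N28521
def N41534 : Q := sm gi N28521
def N41535 : Q := sm ge N28522
def N41536 : Q := sm gi N28522
def N41540 : Q := sm gd N28525
def N41541 : Q := sm gi N28525
def N41543 : Q := sm gi N28527
def N41546 : Q := sm gh N28530
def N41548 : Q := sm gi N28531
def N41550 : Q := sm gi N28532
def N41551 : Q := sm gi N28534
def N41554 : Q := sm gh N28536
def N41555 : Q := sm gd N28537
def N41556 : Q := sm gi N28537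
def N41561 : Q := sm gh N28539
def N41562 : Q := sm gd N28540
def N41563 : Q := sm gi N28540
def N41564 : Q := sm ge N28541
def N41565 : Q := sm gi N28541
def N41569 : Q := sm gd N28544
def N41570 : Q := sm gi N28544
def N41572 : Q := sm gi N28546
def N41576 : Q := sm gj N28549
def N41579 : Q := sm gi N28550
def N41581 : Q := sm gd N28552
def N41582 : Q := sm gi N28552
def N41583 : Q := sm ge N28553
def N41584 : Q := sm gi N28553
def N41585 : Q := sm gf N28555
def N41586 : Q := sm gi N28555
def N41587 : Q := sm gh N28556
def N41591 : Q := sm gd N28559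
def N41592 : Q := sm gi N28559
def N41593 : Q := sm gc N28560
def N41594 : Q := sm gi N28560
def N41595 : Q := sm gi N28562
def N41599 : Q := sm gi N28565
def N41601 : Q := sm gi N28566
def N41602 : Q := sm gc N28567
def N41603 : Q := sm gi N28567
def N41604 : Q := sm gb N28569
def N41605 : Q := sm gi N28569
def N41606 : Q := sm gh N28570
def N41612 : Q := sm gd N28574
def N41613 : Q := sm gi N28574
def N41614 : Q := sm gc N28575
def N41615 : Q := sm ge N28575
def N41616 : Q := sm gi N28575
def N41619 : Q := sm gf N28578
def N41620 : Q := sm gj N28578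
def N41621 : Q := sm gh N28578
def N41623 : Q := sm gi N28579
def N41625 : Q := sm gd N28581
def N41626 : Q := sm gi N28581
def N41627 : Q := sm ge N28582
def N41628 : Q := sm gi N28582
def N41629 : Q := sm gf N28584
def N41630 : Q := sm gi N28584
def N41631 : Q := sm gh N28585
def N41635 : Q := sm gd N28588
def N41636 : Q := sm gi N28588
def N41637 : Q := sm gc N28589
def N41638 : Q := sm gi N28589
def N41639 : Q := sm gi N28591
def N41649 : Q := sm gi N28597
def N41650 : Q := sm gc N28598
def N41651 : Q := sm ge N28598
def N41653 : Q := sm gd N28600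
def N41654 : Q := sm gi N28600
def N41655 : Q := sm ge N28601
def N41656 : Q := sm gi N28601
def N41657 : Q := sm gf N28603
def N41658 : Q := sm gi N28603
def N41659 : Q := sm gh N28604
def N41660 : Q := sm gg N28605
def N41661 : Q := sm gi N28605
def N41662 : Q := sm gh N28606
def N41664 : Q := sm gh N28608
def N41665 : Q := sm gd N28609
def N41666 : Q := sm gi N28609
def N41667 : Q := sm gd N28610
def N41668 : Q := sm gi N28610
def N41669 : Q := sm gc N28611
def N41670 : Q := sm gi N28611
def N41671 : Q := sm gb N28613
def N41672 : Q := sm gi N28613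
def N41673 : Q := sm gh N28614
def N41675 : Q := sm gd N28617
def N41676 : Q := sm gi N28617
def N41677 : Q := sm gc N28618
def N41678 : Q := sm ge N28618
def N41679 : Q := sm gi N28618
def N41680 : Q := sm gc N28620
def N41681 : Q := sm gi N28620
def N41682 : Q := sm gb N28622
def N41683 : Q := sm gi N28622
def N41684 : Q := sm gh N28623
def N41685 : Q := sm ga N28624
def N41686 : Q := sm gi N28624
def N41687 : Q := sm gh N28625
def N41688 : Q := sm gc N28627
def N41690 : Q := sm gh N28627
def N41691 : Q := sm gg N28628
def N41692 : Q := sm gf N28629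
def N41693 : Q := sm gh N28629
def N41695 : Q := sm gg N28630
def N41696 : Q := sm gh N28630
def N41697 : Q := sm gi N28631
def N41699 : Q := sm gg N28633
def N41700 : Q := sm gh N28633
def N41702 : Q := sm gh N28634
def N41704 : Q := sm gb N28638
def N41707 : Q := sm ge N28639
def N41713 : Q := sm gg N28642
def N41714 : Q := sm gh N28642
def N41715 : Q := sm gd N28643
def N41718 : Q := sm gh N28644
def N41719 : Q := sm gj N28645
def N41722 : Q := sm gf N28649
def N41729 : Q := sm gb N28654
def N41731 : Q := sm gh N28654
def N41732 : Q := sm ge N28655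
def N41733 : Q := sm gg N28655
def N41734 : Q := sm gh N28655
def N41735 : Q := sm gi N28656
def N41736 : Q := sm gj N28657
def N41737 : Q := sm ge N28658
def N41738 : Q := sm gg N28658
def N41739 : Q := sm gh N28658
def N41741 : Q := sm gi N28659
def N41742 : Q := sm gg N28660
def N41743 : Q := sm gh N28660
def N41744 : Q := sm gj N28661
def N41745 : Q := sm gh N28661
def N41746 : Q := sm gi N28662
def N41747 : Q := sm gf N28665
def N41748 : Q := sm gj N28665
def N41749 : Q := sm gh N28665
def N41750 : Q := sm gd N28666
def N41751 : Q := sm gi N28666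
def N41754 : Q := sm gf N28670
def N41756 : Q := sm ge N28671
def N41757 : Q := sm gg N28671
def N41760 : Q := sm gi N28672
def N41761 : Q := sm gg N28673
def N41762 : Q := sm gh N28673
def N41764 : Q := sm gh N28674
def N41766 : Q := sm gd N28678
def N41767 : Q := sm gg N28678
def N41768 : Q := sm gh N28678
def N41769 : Q := sm gj N28679
def N41770 : Q := sm gh N28679
def N41774 : Q := sm gi N28681
def N41775 : Q := sm gf N28683
def N41776 : Q := sm gj N28683
def N41778 : Q := sm gd N28684
def N41781 : Q := sm gi N28686
def N41784 : Q := sm gh N28689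
def N41786 : Q := sm gi N28690
def N41793 : Q := sm gg N28696
def N41797 : Q := sm gg N28698
def N41798 : Q := sm gh N28698
def N41799 : Q := sm gj N28699
def N41800 : Q := sm gh N28699
def N41802 : Q := sm gd N28703
def N41803 : Q := sm gg N28703
def N41804 : Q := sm gh N28703
def N41805 : Q := sm gj N28704
def N41806 : Q := sm gh N28704
def N41808 : Q := sm gi N28705
def N41811 : Q := sm gf N28708
def N41812 : Q := sm gj N28708
def N41813 : Q := sm gh N28708
def N41814 : Q := sm gd N28709
def N41816 : Q := sm gh N28710
def N41817 : Q := sm gi N28711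
def N41818 : Q := sm gj N28713
def N41819 : Q := sm gh N28713
def N41820 : Q := sm gh N28714
def N41821 : Q := sm gd N28715
def N41822 : Q := sm gi N28715
def N41823 : Q := sm gc N28716
def N41824 : Q := sm gi N28716
def N41831 : Q := sm gd N28722
def N41832 : Q := sm gg N28722
def N41834 : Q := sm gj N28723
def N41837 : Q := sm gi N28724
def N41840 : Q := sm gf N28727
def N41841 : Q := sm gj N28727
def N41842 : Q := sm gh N28727
def N41843 : Q := sm gd N28728
def N41847 : Q := sm gg N28732
def N41848 : Q := sm gh N28732
def N41849 : Q := sm gf N28733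
def N41850 : Q := sm gj N28733
def N41851 : Q := sm gh N28733
def N41854 : Q := sm gh N28735
def N41859 : Q := sm gf N28739
def N41860 : Q := sm gi N28739
def N41862 : Q := sm gj N28741
def N41863 : Q := sm gh N28741
def N41864 : Q := sm gh N28742
def N41865 : Q := sm gd N28743
def N41867 : Q := sm gc N28744
def N41870 : Q := sm gg N28748
def N41871 : Q := sm gh N28748
def N41872 : Q := sm gd N28749
def N41873 : Q := sm gi N28749
def N41875 : Q := sm gi N28750
def N41878 : Q := sm gb N28753
def N41881 : Q := sm gf N28756
def N41883 : Q := sm ge N28757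
def N41884 : Q := sm gg N28757
def N41885 : Q := sm gh N28757
def N41887 : Q := sm gi N28758
def N41888 : Q := sm gg N28759
def N41890 : Q := sm gj N28760
def N41891 : Q := sm gh N28760
def N41892 : Q := sm gi N28761
def N41893 : Q := sm gd N28764
def N41894 : Q := sm gg N28764
def N41895 : Q := sm gh N28764
def N41896 : Q := sm gj N28765
def N41897 : Q := sm gh N28765
def N41898 : Q := sm gd N28766
def N41899 : Q := sm gi N28766
def N41900 : Q := sm ge N28767
def N41901 : Q := sm gi N28767
def N41902 : Q := sm gf N28769
def N41903 : Q := sm gj N28769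
def N41904 : Q := sm gh N28769
def N41905 : Q := sm gd N28770
def N41906 : Q := sm gi N28770
def N41907 : Q := sm gh N28771
def N41908 : Q := sm gi N28772
def N41909 : Q := sm gj N28774
def N41910 : Q := sm gh N28774
def N41911 : Q := sm gh N28775
def N41912 : Q := sm gd N28776
def N41913 : Q := sm gi N28776
def N41914 : Q := sm gc N28777
def N41915 : Q := sm gi N28777
def N41916 : Q := sm gi N28779
def N41917 : Q := sm ge N28781
def N41918 : Q := sm gg N28781
def N41919 : Q := sm gh N28781
def N41920 : Q := sm gd N28782
def N41921 : Q := sm gi N28782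
def N41922 : Q := sm gd N28783
def N41923 : Q := sm gg N28783
def N41924 : Q := sm gh N28783
def N41925 : Q := sm gj N28784
def N41926 : Q := sm gh N28784
def N41927 : Q := sm gd N28785
def N41928 : Q := sm gi N28785
def N41929 : Q := sm ge N28786
def N41930 : Q := sm gi N28786
def N41931 : Q := sm gf N28788
def N41932 : Q := sm gj N28788
def N41933 : Q := sm gh N28788
def N41934 : Q := sm gd N28789
def N41935 : Q := sm gi N28789
def N41937 : Q := sm gi N28791
def N41938 : Q := sm gg N28793
def N41939 : Q := sm gh N28793
def N41940 : Q := sm gf N28794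
def N41941 : Q := sm gj N28794
def N41942 : Q := sm gh N28794
def N41943 : Q := sm gd N28795
def N41944 : Q := sm gi N28795
def N41945 : Q := sm gh N28796
def N41946 : Q := sm gd N28797
def N41947 : Q := sm gi N28797
def N41948 : Q := sm ge N28798
def N41949 : Q := sm gi N28798
def N41950 : Q := sm gf N28800
def N41951 : Q := sm gi N28800
def N41952 : Q := sm gh N28801
def N41953 : Q := sm gj N28802
def N41954 : Q := sm gh N28802
def N41955 : Q := sm gh N28803
def N41956 : Q := sm gd N28804
def N41957 : Q := sm gi N28804
def N41958 : Q := sm gc N28805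
def N41959 : Q := sm gi N28805
def N41960 : Q := sm gi N28807
def N41961 : Q := sm gg N28809
def N41964 : Q := sm gi N28810
def N41965 : Q := sm gd N28811
def N41966 : Q := sm gi N28811
def N41967 : Q := sm gc N28812
def N41968 : Q := sm gi N28812
def N41969 : Q := sm gb N28814
def N41970 : Q := sm gi N28814
def N41972 : Q := sm ge N28817
def N41973 : Q := sm gg N28817
def N41974 : Q := sm gh N28817
def N41975 : Q := sm gd N28818
def N41976 : Q := sm gi N28818
def N41977 : Q := sm gd N28819
def N41978 : Q := sm gg N28819
def N41979 : Q := sm gh N28819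
def N41980 : Q := sm gj N28820
def N41981 : Q := sm gh N28820
def N41982 : Q := sm gd N28821
def N41984 : Q := sm ge N28822
def N41986 : Q := sm gf N28824
def N41987 : Q := sm gj N28824
def N41988 : Q := sm gh N28824
def N41989 : Q := sm gd N28825
def N41990 : Q := sm gi N28825
def N41992 : Q := sm gi N28827
def N41993 : Q := sm gg N28829
def N41994 : Q := sm gh N28829
def N41995 : Q := sm gf N28830
def N41996 : Q := sm gj N28830
def N41997 : Q := sm gh N28830
def N41998 : Q := sm gd N28831
def N41999 : Q := sm gi N28831
def N42000 : Q := sm gh N28832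
def N42001 : Q := sm gd N28833
def N42002 : Q := sm gi N28833
def N42003 : Q := sm ge N28834
def N42004 : Q := sm gi N28834
def N42005 : Q := sm gf N28836
def N42007 : Q := sm gh N28837
def N42008 : Q := sm gj N28838
def N42009 : Q := sm gh N28838
def N42010 : Q := sm gh N28839
def N42011 : Q := sm gd N28840
def N42012 : Q := sm gi N28840
def N42013 : Q := sm gc N28841
def N42014 : Q := sm gi N28841
def N42015 : Q := sm gi N28843
def N42016 : Q := sm gg N28845
def N42017 : Q := sm gh N28845
def N42018 : Q := sm gd N28846
def N42019 : Q := sm gi N28846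
def N42020 : Q := sm gd N28847
def N42021 : Q := sm gi N28847
def N42022 : Q := sm gc N28848
def N42023 : Q := sm gi N28848
def N42024 : Q := sm gb N28850
def N42025 : Q := sm gi N28850
def N42026 : Q := sm gh N28851
def N42027 : Q := sm gd N28853
def N42028 : Q := sm gg N28853
def N42029 : Q := sm gh N28853
def N42030 : Q := sm gj N28854
def N42031 : Q := sm gh N28854
def N42032 : Q := sm gd N28855
def N42033 : Q := sm gi N28855
def N42034 : Q := sm gc N28856
def N42035 : Q := sm ge N28856
def N42036 : Q := sm gi N28856
def N42037 : Q := sm gg N28858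
def N42038 : Q := sm gh N28858
def N42039 : Q := sm gf N28859
def N42040 : Q := sm gj N28859
def N42041 : Q := sm gh N28859
def N42042 : Q := sm gd N28860
def N42043 : Q := sm gi N28860
def N42044 : Q := sm gh N28861
def N42045 : Q := sm gd N28862
def N42046 : Q := sm gi N28862
def N42047 : Q := sm ge N28863
def N42048 : Q := sm gi N28863
def N42049 : Q := sm gf N28865
def N42050 : Q := sm gi N28865
def N42051 : Q := sm gh N28866
def N42052 : Q := sm gj N28867
def N42053 : Q := sm gh N28867
def N42054 : Q := sm gh N28868
def N42055 : Q := sm gd N28869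
def N42056 : Q := sm gi N28869
def N42057 : Q := sm gc N28870
def N42058 : Q := sm gi N28870
def N42059 : Q := sm gi N28872
def N42060 : Q := sm gf N28874
def N42061 : Q := sm gj N28874
def N42062 : Q := sm gh N28874
def N42063 : Q := sm gd N28875
def N42064 : Q := sm gi N28875
def N42065 : Q := sm gj N28876
def N42066 : Q := sm gh N28876
def N42067 : Q := sm gh N28877
def N42068 : Q := sm gd N28878
def N42069 : Q := sm gi N28878
def N42070 : Q := sm gc N28879
def N42071 : Q := sm ge N28879
def N42072 : Q := sm gi N28879
def N42073 : Q := sm gd N28881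
def N42074 : Q := sm gi N28881
def N42075 : Q := sm ge N28882
def N42076 : Q := sm gi N28882
def N42077 : Q := sm gf N28884
def N42078 : Q := sm gi N28884
def N42079 : Q := sm gh N28885
def N42080 : Q := sm gg N28886
def N42081 : Q := sm gi N28886
def N42082 : Q := sm gh N28887
def N42083 : Q := sm gg N28889
def N42084 : Q := sm gh N28889
def N42085 : Q := sm gd N28890
def N42086 : Q := sm gi N28890
def N42087 : Q := sm gd N28891
def N42088 : Q := sm gi N28891
def N42089 : Q := sm gc N28892
def N42090 : Q := sm gi N28892
def N42091 : Q := sm gb N28894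
def N42092 : Q := sm gi N28894
def N42093 : Q := sm gh N28895
def N42094 : Q := sm gh N28897
def N42095 : Q := sm gd N28898
def N42096 : Q := sm gi N28898
def N42097 : Q := sm gc N28899
def N42098 : Q := sm ge N28899
def N42099 : Q := sm gi N28899
def N42100 : Q := sm gc N28901
def N42101 : Q := sm gi N28901
def N42102 : Q := sm gb N28903
def N42103 : Q := sm gi N28903
def N42104 : Q := sm gh N28904
def N42105 : Q := sm ga N28905
def N42106 : Q := sm gi N28905
def N42107 : Q := sm gh N28906
def N42108 : Q := sm gd N28908
def N42109 : Q := sm gg N28908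
def N42111 : Q := sm gj N28909
def N42113 : Q := sm gd N28910
def N42114 : Q := sm gi N28910
def N42118 : Q := sm gg N28913
def N42119 : Q := sm gh N28913
def N42120 : Q := sm gf N28914
def N42121 : Q := sm gj N28914
def N42124 : Q := sm gi N28915
def N42127 : Q := sm gi N28917
def N42129 : Q := sm gi N28918
def N42131 : Q := sm gi N28920
def N42132 : Q := sm gh N28921
def N42133 : Q := sm gj N28922
def N42134 : Q := sm gh N28922
def N42136 : Q := sm gd N28924
def N42137 : Q := sm gi N28924
def N42138 : Q := sm gc N28925
def N42139 : Q := sm gi N28925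
def N42140 : Q := sm gi N28927
def N42141 : Q := sm gf N28929
def N42142 : Q := sm gj N28929
def N42143 : Q := sm gh N28929
def N42144 : Q := sm gd N28930
def N42145 : Q := sm gi N28930
def N42146 : Q := sm gj N28931
def N42147 : Q := sm gh N28931
def N42148 : Q := sm gh N28932
def N42149 : Q := sm gd N28933
def N42150 : Q := sm gi N28933
def N42151 : Q := sm gc N28934
def N42152 : Q := sm ge N28934
def N42153 : Q := sm gi N28934
def N42154 : Q := sm gd N28936
def N42155 : Q := sm gi N28936
def N42156 : Q := sm ge N28937
def N42157 : Q := sm gi N28937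
def N42158 : Q := sm gf N28939
def N42159 : Q := sm gi N28939
def N42160 : Q := sm gh N28940
def N42161 : Q := sm gg N28941
def N42162 : Q := sm gi N28941
def N42163 : Q := sm gh N28942
def N42164 : Q := sm gg N28944
def N42165 : Q := sm gh N28944
def N42166 : Q := sm gd N28945
def N42167 : Q := sm gi N28945
def N42168 : Q := sm gd N28946
def N42169 : Q := sm gi N28946
def N42170 : Q := sm gc N28947
def N42171 : Q := sm gi N28947
def N42172 : Q := sm gb N28949
def N42173 : Q := sm gi N28949
def N42174 : Q := sm gh N28950
def N42175 : Q := sm gh N28952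
def N42176 : Q := sm gd N28953
def N42177 : Q := sm gi N28953
def N42178 : Q := sm gc N28954
def N42179 : Q := sm ge N28954
def N42180 : Q := sm gi N28954
def N42181 : Q := sm gc N28956
def N42182 : Q := sm gi N28956
def N42183 : Q := sm gb N28958
def N42184 : Q := sm gi N28958
def N42185 : Q := sm gh N28959
def N42186 : Q := sm ga N28960
def N42187 : Q := sm gi N28960
def N42188 : Q := sm gh N28961
def N42189 : Q := sm gc N28963
def N42190 : Q := sm gg N28963
def N42191 : Q := sm gh N28963
def N42192 : Q := sm gf N28964
def N42193 : Q := sm gj N28964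
def N42194 : Q := sm gh N28964
def N42195 : Q := sm gd N28965
def N42196 : Q := sm gi N28965
def N42197 : Q := sm gh N28966
def N42198 : Q := sm gd N28967
def N42199 : Q := sm gi N28967
def N42200 : Q := sm gc N28968
def N42201 : Q := sm ge N28968
def N42202 : Q := sm gi N28968
def N42204 : Q := sm gi N28970
def N42206 : Q := sm gi N28971
def N42207 : Q := sm gh N28972
def N42208 : Q := sm gf N28973
def N42209 : Q := sm gj N28973
def N42210 : Q := sm gh N28973
def N42211 : Q := sm gd N28974
def N42212 : Q := sm gi N28974
def N42213 : Q := sm gj N28975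
def N42214 : Q := sm gh N28975
def N42215 : Q := sm gh N28976
def N42216 : Q := sm gd N28977
def N42217 : Q := sm gi N28977
def N42218 : Q := sm gc N28978
def N42219 : Q := sm ge N28978
def N42220 : Q := sm gi N28978
def N42221 : Q := sm gd N28980
def N42222 : Q := sm gi N28980
def N42223 : Q := sm ge N28981
def N42224 : Q := sm gi N28981
def N42225 : Q := sm gf N28983
def N42226 : Q := sm gi N28983
def N42227 : Q := sm gh N28984
def N42228 : Q := sm gg N28985
def N42229 : Q := sm gi N28985
def N42230 : Q := sm gh N28986
def N42231 : Q := sm gg N28988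
def N42232 : Q := sm gh N28988
def N42233 : Q := sm gd N28989
def N42234 : Q := sm gi N28989
def N42235 : Q := sm gd N28990
def N42236 : Q := sm gi N28990
def N42237 : Q := sm gc N28991
def N42238 : Q := sm gi N28991
def N42239 : Q := sm gb N28993
def N42240 : Q := sm gi N28993
def N42241 : Q := sm gh N28994
def N42242 : Q := sm ge N28996
def N42243 : Q := sm gj N28996
def N42244 : Q := sm gh N28996
def N42245 : Q := sm gh N28997
def N42246 : Q := sm gd N28998
def N42247 : Q := sm gi N28998
def N42248 : Q := sm gc N28999
def N42249 : Q := sm ge N28999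
def N42250 : Q := sm gi N28999
def N42251 : Q := sm gg N29001
def N42252 : Q := sm gh N29001
def N42253 : Q := sm gd N29002
def N42254 : Q := sm gi N29002
def N42255 : Q := sm gd N29003
def N42256 : Q := sm gi N29003
def N42257 : Q := sm gc N29004
def N42258 : Q := sm ge N29004
def N42259 : Q := sm gi N29004
def N42260 : Q := sm gb N29006
def N42261 : Q := sm ge N29006
def N42262 : Q := sm gi N29006
def N42263 : Q := sm gf N29007
def N42264 : Q := sm gi N29007
def N42265 : Q := sm gh N29008
def N42266 : Q := sm ge N29009
def N42267 : Q := sm gi N29009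
def N42268 : Q := sm gf N29011
def N42269 : Q := sm gi N29011
def N42270 : Q := sm gh N29012
def N42271 : Q := sm gg N29013
def N42272 : Q := sm gi N29013
def N42273 : Q := sm gh N29014
def N42274 : Q := sm gj N29016
def N42275 : Q := sm gi N29016
def N42276 : Q := sm gh N29017
def N42277 : Q := sm gd N29018
def N42278 : Q := sm gh N29019
def N42279 : Q := sm gd N29020
def N42280 : Q := sm gi N29020
def N42281 : Q := sm gc N29021
def N42282 : Q := sm ge N29021
def N42283 : Q := sm gi N29021
def N42284 : Q := sm gc N29023
def N42285 : Q := sm gi N29023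
def N42286 : Q := sm gb N29025
def N42287 : Q := sm gi N29025
def N42288 : Q := sm gh N29026
def N42289 : Q := sm ga N29027
def N42290 : Q := sm gi N29027
def N42291 : Q := sm gh N29028
def N42292 : Q := sm gd N29030
def N42293 : Q := sm gi N29030
def N42294 : Q := sm gc N29031
def N42295 : Q := sm ge N29031
def N42296 : Q := sm gi N29031
def N42297 : Q := sm gb N29033
def N42298 : Q := sm ge N29033
def N42299 : Q := sm gi N29033
def N42300 : Q := sm gi N29034
def N42301 : Q := sm gh N29035
def N42302 : Q := sm gb N29036
def N42303 : Q := sm gi N29036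
def N42304 : Q := sm gh N29037
def N42305 : Q := sm ga N29038
def N42306 : Q := sm gi N29038
def N42307 : Q := sm gh N29039
def N42308 : Q := sm gi N29041
def N42309 : Q := sm gh N29042
def N42310 : Q := sm gd N29043
def N42311 : Q := sm gf N29044
def N42312 : Q := sm gh N29044
def N42313 : Q := sm ge N29045
def N42314 : Q := sm gg N29045
def N42315 : Q := sm gh N29045
def N42316 : Q := sm gd N29046
def N42317 : Q := sm gi N29046
def N42318 : Q := sm gg N29047
def N42319 : Q := sm gh N29047
def N42320 : Q := sm gj N29048
def N42321 : Q := sm gh N29048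
def N42322 : Q := sm gi N29049
def N42324 : Q := sm gg N29052
def N42325 : Q := sm gh N29052
def N42327 : Q := sm gh N29053
def N42328 : Q := sm gd N29054
def N42329 : Q := sm gi N29054
def N42330 : Q := sm ge N29055
def N42331 : Q := sm gi N29055
def N42333 : Q := sm gj N29057
def N42334 : Q := sm gh N29057
def N42335 : Q := sm gd N29058
def N42336 : Q := sm gi N29058
def N42337 : Q := sm gh N29059
def N42338 : Q := sm gi N29060
def N42339 : Q := sm gj N29062
def N42340 : Q := sm gh N29062
def N42341 : Q := sm gh N29063
def N42342 : Q := sm gd N29064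
def N42343 : Q := sm gi N29064
def N42344 : Q := sm gc N29065
def N42345 : Q := sm gi N29065
def N42346 : Q := sm gi N29067
def N42347 : Q := sm ge N29069
def N42348 : Q := sm gg N29069
def N42349 : Q := sm gh N29069
def N42350 : Q := sm gd N29070
def N42351 : Q := sm gi N29070
def N42352 : Q := sm gd N29071
def N42353 : Q := sm gg N29071
def N42354 : Q := sm gh N29071
def N42355 : Q := sm gj N29072
def N42356 : Q := sm gh N29072
def N42357 : Q := sm gd N29073
def N42358 : Q := sm gi N29073
def N42359 : Q := sm ge N29074
def N42360 : Q := sm gi N29074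
def N42361 : Q := sm gf N29076
def N42362 : Q := sm gj N29076
def N42363 : Q := sm gh N29076
def N42364 : Q := sm gd N29077
def N42365 : Q := sm gi N29077
def N42366 : Q := sm gh N29078
def N42367 : Q := sm gi N29079
def N42368 : Q := sm gg N29081
def N42369 : Q := sm gh N29081
def N42370 : Q := sm gf N29082
def N42371 : Q := sm gj N29082
def N42372 : Q := sm gh N29082
def N42373 : Q := sm gd N29083
def N42374 : Q := sm gi N29083
def N42375 : Q := sm gh N29084
def N42376 : Q := sm gd N29085
def N42377 : Q := sm gi N29085
def N42378 : Q := sm ge N29086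
def N42379 : Q := sm gi N29086
def N42380 : Q := sm gf N29088
def N42381 : Q := sm gi N29088
def N42382 : Q := sm gh N29089
def N42383 : Q := sm gj N29090
def N42384 : Q := sm gh N29090
def N42385 : Q := sm gh N29091
def N42386 : Q := sm gd N29092
def N42387 : Q := sm gi N29092
def N42388 : Q := sm gc N29093
def N42389 : Q := sm gi N29093
def N42390 : Q := sm gi N29095
def N42391 : Q := sm gg N29097
def N42392 : Q := sm gh N29097
def N42393 : Q := sm gd N29098
def N42394 : Q := sm gi N29098
def N42395 : Q := sm gd N29099
def N42396 : Q := sm gi N29099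
def N42397 : Q := sm gc N29100
def N42398 : Q := sm gi N29100
def N42399 : Q := sm gb N29102
def N42400 : Q := sm gi N29102
def N42401 : Q := sm gh N29103
def N42402 : Q := sm gd N29105
def N42403 : Q := sm gg N29105
def N42404 : Q := sm gh N29105
def N42405 : Q := sm gj N29106
def N42406 : Q := sm gh N29106
def N42407 : Q := sm gd N29107
def N42408 : Q := sm gi N29107
def N42409 : Q := sm gc N29108
def N42410 : Q := sm ge N29108
def N42411 : Q := sm gi N29108
def N42412 : Q := sm gg N29110
def N42413 : Q := sm gh N29110
def N42414 : Q := sm gf N29111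
def N42415 : Q := sm gj N29111
def N42416 : Q := sm gh N29111
def N42417 : Q := sm gd N29112
def N42418 : Q := sm gi N29112
def N42419 : Q := sm gh N29113
def N42420 : Q := sm gd N29114
def N42421 : Q := sm gi N29114
def N42422 : Q := sm ge N29115
def N42423 : Q := sm gi N29115
def N42424 : Q := sm gf N29117
def N42425 : Q := sm gi N29117
def N42426 : Q := sm gh N29118
def N42427 : Q := sm gj N29119
def N42428 : Q := sm gh N29119
def N42429 : Q := sm gh N29120
def N42430 : Q := sm gd N29121
def N42431 : Q := sm gi N29121
def N42432 : Q := sm gc N29122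
def N42433 : Q := sm gi N29122
def N42434 : Q := sm gi N29124
def N42435 : Q := sm gf N29126
def N42436 : Q := sm gj N29126
def N42437 : Q := sm gh N29126
def N42438 : Q := sm gd N29127
def N42439 : Q := sm gi N29127
def N42440 : Q := sm gj N29128
def N42441 : Q := sm gh N29128
def N42442 : Q := sm gh N29129
def N42443 : Q := sm gd N29130
def N42444 : Q := sm gi N29130
def N42445 : Q := sm gc N29131
def N42446 : Q := sm ge N29131
def N42447 : Q := sm gi N29131
def N42448 : Q := sm gd N29133
def N42449 : Q := sm gi N29133
def N42450 : Q := sm ge N29134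
def N42451 : Q := sm gi N29134
def N42452 : Q := sm gf N29136
def N42453 : Q := sm gi N29136
def N42454 : Q := sm gh N29137
def N42455 : Q := sm gg N29138
def N42456 : Q := sm gi N29138
def N42457 : Q := sm gh N29139
def N42458 : Q := sm gg N29141
def N42459 : Q := sm gh N29141
def N42460 : Q := sm gd N29142
def N42461 : Q := sm gi N29142
def N42462 : Q := sm gd N29143
def N42463 : Q := sm gi N29143
def N42464 : Q := sm gc N29144
def N42465 : Q := sm gi N29144
def N42466 : Q := sm gb N29146
def N42467 : Q := sm gi N29146
def N42468 : Q := sm gh N29147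
def N42469 : Q := sm gh N29149
def N42471 : Q := sm gi N29150
def N42472 : Q := sm gc N29151
def N42473 : Q := sm ge N29151
def N42474 : Q := sm gi N29151
def N42476 : Q := sm gi N29153
def N42477 : Q := sm gb N29155
def N42478 : Q := sm gi N29155
def N42479 : Q := sm gh N29156
def N42480 : Q := sm ga N29157
def N42481 : Q := sm gi N29157
def N42482 : Q := sm gh N29158
def N42485 : Q := sm gh N29160
def N42486 : Q := sm gd N29161
def N42487 : Q := sm gi N29161
def N42490 : Q := sm gh N29162
def N42491 : Q := sm gj N29163
def N42492 : Q := sm gh N29163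
def N42493 : Q := sm gd N29164
def N42494 : Q := sm gi N29164
def N42495 : Q := sm ge N29165
def N42496 : Q := sm gi N29165
def N42497 : Q := sm gf N29167
def N42498 : Q := sm gj N29167
def N42499 : Q := sm gh N29167
def N42500 : Q := sm gd N29168
def N42501 : Q := sm gi N29168
def N42502 : Q := sm gh N29169
def N42503 : Q := sm gi N29170
def N42506 : Q := sm gf N29173
def N42508 : Q := sm gh N29173
def N42509 : Q := sm gd N29174
def N42510 : Q := sm gi N29174
def N42511 : Q := sm gh N29175
def N42512 : Q := sm gd N29176
def N42513 : Q := sm gi N29176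
def N42514 : Q := sm ge N29177
def N42515 : Q := sm gi N29177
def N42516 : Q := sm gf N29179
def N42517 : Q := sm gi N29179
def N42518 : Q := sm gh N29180
def N42519 : Q := sm gj N29181
def N42520 : Q := sm gh N29181
def N42521 : Q := sm gh N29182
def N42522 : Q := sm gd N29183
def N42523 : Q := sm gi N29183
def N42524 : Q := sm gc N29184
def N42525 : Q := sm gi N29184
def N42526 : Q := sm gi N29186
def N42527 : Q := sm gg N29188
def N42528 : Q := sm gh N29188
def N42529 : Q := sm gd N29189
def N42530 : Q := sm gi N29189
def N42531 : Q := sm gd N29190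
def N42532 : Q := sm gi N29190
def N42533 : Q := sm gc N29191
def N42534 : Q := sm gi N29191
def N42535 : Q := sm gb N29193
def N42536 : Q := sm gi N29193
def N42537 : Q := sm gh N29194
def N42538 : Q := sm gd N29196
def N42539 : Q := sm gg N29196
def N42540 : Q := sm gh N29196
def N42541 : Q := sm gj N29197
def N42542 : Q := sm gh N29197
def N42543 : Q := sm gd N29198
def N42544 : Q := sm gi N29198
def N42545 : Q := sm gc N29199
def N42547 : Q := sm gi N29199
def N42548 : Q := sm gg N29201
def N42549 : Q := sm gh N29201
def N42550 : Q := sm gf N29202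
def N42551 : Q := sm gj N29202
def N42552 : Q := sm gh N29202
def N42553 : Q := sm gd N29203
def N42554 : Q := sm gi N29203
def N42555 : Q := sm gh N29204
def N42556 : Q := sm gd N29205
def N42557 : Q := sm gi N29205
def N42558 : Q := sm ge N29206
def N42559 : Q := sm gi N29206
def N42560 : Q := sm gf N29208
def N42561 : Q := sm gi N29208
def N42562 : Q := sm gh N29209
def N42563 : Q := sm gj N29210
def N42564 : Q := sm gh N29210
def N42565 : Q := sm gh N29211
def N42566 : Q := sm gd N29212
def N42567 : Q := sm gi N29212
def N42568 : Q := sm gc N29213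
def N42569 : Q := sm gi N29213
def N42570 : Q := sm gi N29215
def N42571 : Q := sm gf N29217
def N42572 : Q := sm gj N29217
def N42573 : Q := sm gh N29217
def N42574 : Q := sm gd N29218
def N42575 : Q := sm gi N29218
def N42576 : Q := sm gj N29219
def N42577 : Q := sm gh N29219
def N42578 : Q := sm gh N29220
def N42579 : Q := sm gd N29221
def N42580 : Q := sm gi N29221
def N42581 : Q := sm gc N29222
def N42582 : Q := sm ge N29222
def N42583 : Q := sm gi N29222
def N42584 : Q := sm gd N29224
def N42585 : Q := sm gi N29224
def N42586 : Q := sm ge N29225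
def N42587 : Q := sm gi N29225
def N42588 : Q := sm gf N29227
def N42589 : Q := sm gi N29227
def N42590 : Q := sm gh N29228
def N42591 : Q := sm gg N29229
def N42592 : Q := sm gi N29229
def N42593 : Q := sm gh N29230
def N42594 : Q := sm gg N29232
def N42595 : Q := sm gh N29232
def N42596 : Q := sm gd N29233
def N42597 : Q := sm gi N29233
def N42598 : Q := sm gd N29234
def N42599 : Q := sm gi N29234
def N42600 : Q := sm gc N29235
def N42601 : Q := sm gi N29235
def N42602 : Q := sm gb N29237
def N42603 : Q := sm gi N29237
def N42604 : Q := sm gh N29238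
def N42605 : Q := sm gh N29240
def N42606 : Q := sm gd N29241
def N42607 : Q := sm gi N29241
def N42608 : Q := sm gc N29242
def N42609 : Q := sm ge N29242
def N42610 : Q := sm gi N29242
def N42611 : Q := sm gc N29244
def N42612 : Q := sm gi N29244
def N42613 : Q := sm gb N29246
def N42614 : Q := sm gi N29246
def N42615 : Q := sm gh N29247
def N42616 : Q := sm ga N29248
def N42617 : Q := sm gi N29248
def N42618 : Q := sm gh N29249
def N42619 : Q := sm gc N29251
def N42620 : Q := sm gg N29251
def N42621 : Q := sm gh N29251
def N42622 : Q := sm gf N29252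
def N42623 : Q := sm gj N29252
def N42624 : Q := sm gh N29252
def N42625 : Q := sm gd N29253
def N42626 : Q := sm gi N29253
def N42627 : Q := sm gh N29254
def N42628 : Q := sm gd N29255
def N42629 : Q := sm gi N29255
def N42631 : Q := sm ge N29256
def N42632 : Q := sm gi N29256
def N42635 : Q := sm gf N29259
def N42636 : Q := sm gi N29259
def N42637 : Q := sm gh N29260
def N42638 : Q := sm gf N29261
def N42639 : Q := sm gj N29261
def N42640 : Q := sm gh N29261
def N42641 : Q := sm gd N29262
def N42642 : Q := sm gi N29262
def N42643 : Q := sm gj N29263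
def N42644 : Q := sm gh N29263
def N42645 : Q := sm gh N29264
def N42646 : Q := sm gd N29265
def N42647 : Q := sm gi N29265
def N42648 : Q := sm gc N29266
def N42649 : Q := sm ge N29266
def N42650 : Q := sm gi N29266
def N42651 : Q := sm gd N29268
def N42652 : Q := sm gi N29268
def N42653 : Q := sm ge N29269
def N42654 : Q := sm gi N29269
def N42655 : Q := sm gf N29271
def N42656 : Q := sm gi N29271
def N42657 : Q := sm gh N29272
def N42658 : Q := sm gg N29273
def N42659 : Q := sm gi N29273
def N42660 : Q := sm gh N29274
def N42661 : Q := sm gg N29276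
def N42662 : Q := sm gh N29276
def N42663 : Q := sm gd N29277
def N42664 : Q := sm gi N29277
def N42665 : Q := sm gd N29278
def N42666 : Q := sm gi N29278
def N42667 : Q := sm gc N29279
def N42668 : Q := sm gi N29279
def N42669 : Q := sm gb N29281
def N42670 : Q := sm gi N29281
def N42671 : Q := sm gh N29282
def N42672 : Q := sm ge N29284
def N42673 : Q := sm gj N29284
def N42674 : Q := sm gh N29284
def N42675 : Q := sm gh N29285
def N42676 : Q := sm gd N29286
def N42677 : Q := sm gi N29286
def N42678 : Q := sm gc N29287
def N42679 : Q := sm ge N29287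
def N42680 : Q := sm gi N29287
def N42681 : Q := sm gg N29289
def N42682 : Q := sm gh N29289
def N42683 : Q := sm gd N29290
def N42684 : Q := sm gi N29290
def N42685 : Q := sm gd N29291
def N42686 : Q := sm gi N29291
def N42687 : Q := sm gc N29292
def N42688 : Q := sm ge N29292
def N42689 : Q := sm gi N29292
def N42690 : Q := sm gb N29294
def N42691 : Q := sm ge N29294
def N42692 : Q := sm gi N29294
def N42693 : Q := sm gf N29295
def N42694 : Q := sm gi N29295
def N42695 : Q := sm gh N29296
def N42696 : Q := sm ge N29297
def N42697 : Q := sm gi N29297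
def N42698 : Q := sm gf N29299
def N42699 : Q := sm gi N29299
def N42700 : Q := sm gh N29300
def N42701 : Q := sm gg N29301
def N42702 : Q := sm gi N29301
def N42703 : Q := sm gh N29302
def N42704 : Q := sm gj N29304
def N42705 : Q := sm gi N29304
def N42706 : Q := sm gh N29305
def N42707 : Q := sm gd N29306
def N42708 : Q := sm gh N29307
def N42709 : Q := sm gd N29308
def N42710 : Q := sm gi N29308
def N42711 : Q := sm gc N29309
def N42712 : Q := sm ge N29309
def N42713 : Q := sm gi N29309
def N42714 : Q := sm gc N29311
def N42715 : Q := sm gi N29311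
def N42716 : Q := sm gb N29313
def N42717 : Q := sm gi N29313
def N42718 : Q := sm gh N29314
def N42719 : Q := sm ga N29315
def N42720 : Q := sm gi N29315
def N42721 : Q := sm gh N29316
def N42722 : Q := sm gd N29318
def N42723 : Q := sm gi N29318
def N42724 : Q := sm gc N29319
def N42725 : Q := sm ge N29319
def N42726 : Q := sm gi N29319
def N42727 : Q := sm gb N29321
def N42728 : Q := sm ge N29321
def N42729 : Q := sm gi N29321
def N42730 : Q := sm gi N29322
def N42731 : Q := sm gh N29323
def N42732 : Q := sm gb N29324
def N42733 : Q := sm gi N29324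
def N42734 : Q := sm gh N29325
def N42735 : Q := sm ga N29326
def N42736 : Q := sm gi N29326
def N42737 : Q := sm gh N29327
def N42738 : Q := sm gi N29329
def N42739 : Q := sm gh N29330
def N42740 : Q := sm gd N29331
def N42745 : Q := sm gh N29333
def N42746 : Q := sm gd N29334
def N42747 : Q := sm gi N29334
def N42748 : Q := sm gc N29335
def N42749 : Q := sm ge N29335
def N42750 : Q := sm gi N29335
def N42754 : Q := sm gj N29338
def N42755 : Q := sm gh N29338
def N42756 : Q := sm gd N29339
def N42757 : Q := sm gi N29339
def N42758 : Q := sm gh N29340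
def N42759 : Q := sm gd N29341
def N42760 : Q := sm gi N29341
def N42761 : Q := sm ge N29342
def N42762 : Q := sm gi N29342
def N42764 : Q := sm gi N29344
def N42765 : Q := sm gh N29345
def N42766 : Q := sm gj N29346
def N42767 : Q := sm gh N29346
def N42768 : Q := sm gh N29347
def N42770 : Q := sm gi N29348
def N42773 : Q := sm gi N29351
def N42774 : Q := sm gf N29353
def N42776 : Q := sm gh N29353
def N42777 : Q := sm gd N29354
def N42780 : Q := sm gh N29355
def N42781 : Q := sm gh N29356
def N42782 : Q := sm gd N29357
def N42783 : Q := sm gi N29357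
def N42784 : Q := sm gc N29358
def N42785 : Q := sm ge N29358
def N42786 : Q := sm gi N29358
def N42787 : Q := sm gd N29360
def N42788 : Q := sm gi N29360
def N42789 : Q := sm ge N29361
def N42790 : Q := sm gi N29361
def N42791 : Q := sm gf N29363
def N42792 : Q := sm gi N29363
def N42793 : Q := sm gh N29364
def N42794 : Q := sm gg N29365
def N42795 : Q := sm gi N29365
def N42796 : Q := sm gh N29366
def N42798 : Q := sm gh N29368
def N42799 : Q := sm gd N29369
def N42800 : Q := sm gi N29369
def N42801 : Q := sm gd N29370
def N42802 : Q := sm gi N29370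
def N42803 : Q := sm gc N29371
def N42804 : Q := sm gi N29371
def N42805 : Q := sm gb N29373
def N42806 : Q := sm gi N29373
def N42807 : Q := sm gh N29374
def N42808 : Q := sm gh N29376
def N42809 : Q := sm gd N29377
def N42810 : Q := sm gi N29377
def N42811 : Q := sm gc N29378
def N42812 : Q := sm ge N29378
def N42813 : Q := sm gi N29378
def N42814 : Q := sm gc N29380
def N42815 : Q := sm gi N29380
def N42816 : Q := sm gb N29382
def N42817 : Q := sm gi N29382
def N42818 : Q := sm gh N29383
def N42819 : Q := sm ga N29384
def N42820 : Q := sm gi N29384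
def N42821 : Q := sm gh N29385
def N42823 : Q := sm gg N29387
def N42825 : Q := sm gf N29388
def N42826 : Q := sm gj N29388
def N42827 : Q := sm gh N29388
def N42828 : Q := sm gd N29389
def N42829 : Q := sm gi N29389
def N42830 : Q := sm gh N29390
def N42831 : Q := sm gd N29391
def N42832 : Q := sm gi N29391
def N42834 : Q := sm ge N29392
def N42835 : Q := sm gi N29392
def N42840 : Q := sm gh N29396
def N42841 : Q := sm gf N29397
def N42842 : Q := sm gj N29397
def N42844 : Q := sm gd N29398
def N42845 : Q := sm gi N29398
def N42846 : Q := sm gj N29399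
def N42847 : Q := sm gh N29399
def N42848 : Q := sm gh N29400
def N42849 : Q := sm gd N29401
def N42850 : Q := sm gi N29401
def N42851 : Q := sm gc N29402
def N42852 : Q := sm ge N29402
def N42853 : Q := sm gi N29402
def N42854 : Q := sm gd N29404
def N42855 : Q := sm gi N29404
def N42856 : Q := sm ge N29405
def N42857 : Q := sm gi N29405
def N42858 : Q := sm gf N29407
def N42859 : Q := sm gi N29407
def N42860 : Q := sm gh N29408
def N42861 : Q := sm gg N29409
def N42862 : Q := sm gi N29409
def N42863 : Q := sm gh N29410
def N42864 : Q := sm gg N29412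
def N42865 : Q := sm gh N29412
def N42866 : Q := sm gd N29413
def N42867 : Q := sm gi N29413
def N42868 : Q := sm gd N29414
def N42869 : Q := sm gi N29414
def N42870 : Q := sm gc N29415
def N42871 : Q := sm gi N29415
def N42873 : Q := sm gi N29417
def N42874 : Q := sm gh N29418
def N42875 : Q := sm ge N29420
def N42876 : Q := sm gj N29420
def N42877 : Q := sm gh N29420
def N42878 : Q := sm gh N29421
def N42879 : Q := sm gd N29422
def N42880 : Q := sm gi N29422
def N42881 : Q := sm gc N29423
def N42882 : Q := sm ge N29423
def N42883 : Q := sm gi N29423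
def N42884 : Q := sm gg N29425
def N42885 : Q := sm gh N29425
def N42886 : Q := sm gd N29426
def N42887 : Q := sm gi N29426
def N42888 : Q := sm gd N29427
def N42889 : Q := sm gi N29427
def N42890 : Q := sm gc N29428
def N42891 : Q := sm ge N29428
def N42892 : Q := sm gi N29428
def N42893 : Q := sm gb N29430
def N42894 : Q := sm ge N29430
def N42895 : Q := sm gi N29430
def N42896 : Q := sm gf N29431
def N42897 : Q := sm gi N29431
def N42898 : Q := sm gh N29432
def N42899 : Q := sm ge N29433
def N42900 : Q := sm gi N29433
def N42901 : Q := sm gf N29435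
def N42902 : Q := sm gi N29435
def N42903 : Q := sm gh N29436
def N42904 : Q := sm gg N29437
def N42905 : Q := sm gi N29437
def N42906 : Q := sm gh N29438
def N42907 : Q := sm gj N29440
def N42908 : Q := sm gi N29440
def N42909 : Q := sm gh N29441
def N42910 : Q := sm gd N29442
def N42911 : Q := sm gh N29443
def N42912 : Q := sm gd N29444
def N42913 : Q := sm gi N29444
def N42914 : Q := sm gc N29445
def N42915 : Q := sm ge N29445
def N42916 : Q := sm gi N29445
def N42917 : Q := sm gc N29447
def N42918 : Q := sm gi N29447
def N42919 : Q := sm gb N29449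
def N42920 : Q := sm gi N29449
def N42921 : Q := sm gh N29450
def N42922 : Q := sm ga N29451
def N42923 : Q := sm gi N29451
def N42924 : Q := sm gh N29452
def N42925 : Q := sm gd N29454
def N42926 : Q := sm gi N29454
def N42927 : Q := sm gc N29455
def N42928 : Q := sm ge N29455
def N42929 : Q := sm gi N29455
def N42930 : Q := sm gb N29457
def N42931 : Q := sm ge N29457
def N42932 : Q := sm gi N29457
def N42933 : Q := sm gi N29458
def N42934 : Q := sm gh N29459
def N42935 : Q := sm gb N29460
def N42936 : Q := sm gi N29460
def N42937 : Q := sm gh N29461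
def N42939 : Q := sm gi N29462
def N42940 : Q := sm gh N29463
def N42941 : Q := sm gi N29465
def N42942 : Q := sm gh N29466
def N42943 : Q := sm gd N29467
def N42945 : Q := sm gh N29468
def N42946 : Q := sm gf N29469
def N42947 : Q := sm gj N29469
def N42948 : Q := sm gh N29469
def N42949 : Q := sm gd N29470
def N42950 : Q := sm gi N29470
def N42951 : Q := sm gj N29471
def N42952 : Q := sm gh N29471
def N42953 : Q := sm gh N29472
def N42954 : Q := sm gd N29473
def N42955 : Q := sm gi N29473
def N42956 : Q := sm gc N29474
def N42957 : Q := sm ge N29474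
def N42958 : Q := sm gi N29474
def N42959 : Q := sm gd N29476
def N42960 : Q := sm gi N29476
def N42962 : Q := sm ge N29477
def N42963 : Q := sm gi N29477
def N42966 : Q := sm gf N29480
def N42967 : Q := sm gi N29480
def N42968 : Q := sm gh N29481
def N42969 : Q := sm gd N29482
def N42974 : Q := sm gi N29484
def N42976 : Q := sm ge N29487
def N42977 : Q := sm gj N29487
def N42978 : Q := sm gh N29487
def N42979 : Q := sm gh N29488
def N42980 : Q := sm gd N29489
def N42981 : Q := sm gi N29489
def N42982 : Q := sm gc N29490
def N42983 : Q := sm ge N29490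
def N42984 : Q := sm gi N29490
def N42985 : Q := sm gg N29492
def N42986 : Q := sm gh N29492
def N42987 : Q := sm gd N29493
def N42988 : Q := sm gi N29493
def N42989 : Q := sm gd N29494
def N42990 : Q := sm gi N29494
def N42991 : Q := sm gc N29495
def N42992 : Q := sm ge N29495
def N42993 : Q := sm gi N29495
def N42994 : Q := sm gb N29497
def N42995 : Q := sm ge N29497
def N42996 : Q := sm gi N29497
def N42997 : Q := sm gf N29498
def N42998 : Q := sm gi N29498
def N42999 : Q := sm gh N29499
def N43000 : Q := sm ge N29500
def N43001 : Q := sm gi N29500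
def N43002 : Q := sm gf N29502
def N43003 : Q := sm gi N29502
def N43004 : Q := sm gh N29503
def N43005 : Q := sm gg N29504
def N43006 : Q := sm gi N29504
def N43007 : Q := sm gh N29505
def N43008 : Q := sm gj N29507
def N43009 : Q := sm gi N29507
def N43010 : Q := sm gh N29508
def N43012 : Q := sm gh N29510
def N43013 : Q := sm gd N29511
def N43014 : Q := sm gi N29511
def N43015 : Q := sm gc N29512
def N43016 : Q := sm ge N29512
def N43017 : Q := sm gi N29512
def N43018 : Q := sm gc N29514
def N43019 : Q := sm gi N29514
def N43020 : Q := sm gb N29516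
def N43021 : Q := sm gi N29516
def N43022 : Q := sm gh N29517
def N43023 : Q := sm ga N29518
def N43024 : Q := sm gi N29518
def N43025 : Q := sm gh N29519
def N43026 : Q := sm gj N29521
def N43027 : Q := sm gh N29521
def N43028 : Q := sm gg N29522
def N43029 : Q := sm gh N29522
def N43030 : Q := sm gd N29523
def N43031 : Q := sm gi N29523
def N43032 : Q := sm gd N29524
def N43033 : Q := sm gi N29524
def N43034 : Q := sm gc N29525
def N43035 : Q := sm ge N29525
def N43036 : Q := sm gi N29525
def N43037 : Q := sm gb N29527
def N43038 : Q := sm ge N29527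
def N43039 : Q := sm gi N29527
def N43040 : Q := sm gf N29528
def N43041 : Q := sm gi N29528
def N43042 : Q := sm gh N29529
def N43043 : Q := sm gh N29530
def N43044 : Q := sm gd N29531
def N43045 : Q := sm gi N29531
def N43046 : Q := sm gc N29532
def N43047 : Q := sm ge N29532
def N43048 : Q := sm gi N29532
def N43049 : Q := sm gc N29534
def N43050 : Q := sm ge N29534
def N43051 : Q := sm gi N29534
def N43052 : Q := sm gb N29536
def N43053 : Q := sm ge N29536
def N43054 : Q := sm gi N29536
def N43055 : Q := sm gf N29537
def N43056 : Q := sm gi N29537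
def N43057 : Q := sm gh N29538
def N43058 : Q := sm ga N29539
def N43059 : Q := sm ge N29539
def N43060 : Q := sm gi N29539
def N43061 : Q := sm gf N29540
def N43062 : Q := sm gi N29540
def N43063 : Q := sm gh N29541
def N43064 : Q := sm gg N29542
def N43065 : Q := sm gi N29542
def N43066 : Q := sm gh N29543
def N43067 : Q := sm gf N29545
def N43068 : Q := sm gi N29545
def N43069 : Q := sm gh N29546
def N43070 : Q := sm gg N29547
def N43071 : Q := sm gi N29547
def N43072 : Q := sm gh N29548
def N43073 : Q := sm gj N29550
def N43074 : Q := sm gi N29550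
def N43075 : Q := sm gh N29551
def N43076 : Q := sm gd N29552
def N43077 : Q := sm gi N29553
def N43078 : Q := sm gh N29554
def N43079 : Q := sm gd N29555
def N43081 : Q := sm gd N29557
def N43082 : Q := sm gi N29557
def N43083 : Q := sm gc N29558
def N43084 : Q := sm ge N29558
def N43085 : Q := sm gi N29558
def N43086 : Q := sm gb N29560
def N43087 : Q := sm ge N29560
def N43088 : Q := sm gi N29560
def N43089 : Q := sm gi N29561
def N43090 : Q := sm gh N29562
def N43091 : Q := sm gb N29563
def N43092 : Q := sm gi N29563
def N43093 : Q := sm gh N29564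
def N43094 : Q := sm ga N29565
def N43095 : Q := sm gi N29565
def N43096 : Q := sm gh N29566
def N43097 : Q := sm gi N29568
def N43098 : Q := sm gh N29569
def N43099 : Q := sm gd N29570
def N43100 : Q := sm gc N29571
def N43101 : Q := sm ge N29571
def N43102 : Q := sm gi N29571
def N43103 : Q := sm gb N29573
def N43104 : Q := sm ge N29573
def N43105 : Q := sm gi N29573
def N43106 : Q := sm gi N29574
def N43107 : Q := sm gh N29575
def N43108 : Q := sm ga N29576
def N43109 : Q := sm ge N29576
def N43110 : Q := sm gi N29576
def N43111 : Q := sm gd N29577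
def N43112 : Q := sm gi N29577
def N43113 : Q := sm gh N29578
def N43114 : Q := sm gh N29579
def N43115 : Q := sm ga N29581
def N43116 : Q := sm gi N29581
def N43117 : Q := sm gh N29582
def N43118 : Q := sm gi N29584
def N43119 : Q := sm gh N29585
def N43120 : Q := sm gd N29586
def N43121 : Q := sm gh N29587
def N43122 : Q := sm gd N29588
def N43123 : Q := sm ge N29589
def N43140 : Q := sm gi N29597
def N43141 : Q := sm gh N29598
def N43151 : Q := sm gh N29605
def N43156 : Q := sm gi N29609
def N43158 : Q := sm gj N29611
def N43162 : Q := sm gj N29613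
def N43163 : Q := sm gh N29613
def N43164 : Q := sm gh N29614
def N43173 : Q := sm gi N29619
def N43176 : Q := sm gh N29622
def N43178 : Q := sm gi N29623
def N43182 : Q := sm gd N29627
def N43185 : Q := sm gi N29628
def N43188 : Q := sm gb N29631
def N43190 : Q := sm gh N29632
def N43192 : Q := sm gd N29635
def N43193 : Q := sm gi N29635
def N43194 : Q := sm gc N29636
def N43196 : Q := sm gi N29636
def N43197 : Q := sm gc N29638
def N43199 : Q := sm gb N29640
def N43200 : Q := sm gi N29640
def N43204 : Q := sm gh N29643
def N43210 : Q := sm gh N29646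
def N43212 : Q := sm gi N29647
def N43214 : Q := sm gd N29649
def N43220 : Q := sm gi N29652
def N43225 : Q := sm gj N29655
def N43231 : Q := sm gh N29658
def N43233 : Q := sm gi N29659
def N43234 : Q := sm gc N29660
def N43240 : Q := sm gi N29663
def N43243 : Q := sm gh N29666
def N43246 : Q := sm gh N29668
def N43247 : Q := sm gg N29670
def N43256 : Q := sm gi N29675
def N43261 : Q := sm gh N29679
def N43263 : Q := sm gi N29680
def N43266 : Q := sm gi N29681
def N43275 : Q := sm gi N29686
def N43290 : Q := sm gj N29698
def N43294 : Q := sm gh N29701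
def N43295 : Q := sm gd N29702
def N43296 : Q := sm gi N29702
def N43298 : Q := sm ge N29703
def N43300 : Q := sm gc N29705
def N43303 : Q := sm gi N29707
def N43304 : Q := sm gh N29708
def N43309 : Q := sm gi N29712
def N43311 : Q := sm ge N29713
def N43312 : Q := sm gi N29713
def N43314 : Q := sm ge N29715
def N43316 : Q := sm gi N29716
def N43319 : Q := sm gi N29718
def N43322 : Q := sm gi N29720
def N43324 : Q := sm gi N29723
def N43325 : Q := sm gh N29724
def N43326 : Q := sm gd N29725
def N43330 : Q := sm gj N29727
def N43334 : Q := sm gj N29729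
def N43343 : Q := sm gi N29734
def N43344 : Q := sm gc N29735
def N43346 : Q := sm gi N29735
def N43351 : Q := sm gh N29739
def N43355 : Q := sm gh N29741
def N43359 : Q := sm ge N29745
def N43360 : Q := sm gj N29745
def N43364 : Q := sm gi N29747
def N43365 : Q := sm gc N29748
def N43367 : Q := sm gi N29748
def N43368 : Q := sm gg N29750
def N43373 : Q := sm gi N29752
def N43375 : Q := sm ge N29753
def N43379 : Q := sm gi N29755
def N43394 : Q := sm gh N29768
def N43395 : Q := sm gd N29769
def N43398 : Q := sm ge N29770
def N43400 : Q := sm gc N29772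
def N43401 : Q := sm gi N29772
def N43408 : Q := sm gj N29779
def N43409 : Q := sm gh N29779
def N43410 : Q := sm gg N29780
def N43411 : Q := sm gh N29780
def N43412 : Q := sm gd N29781
def N43413 : Q := sm gi N29781
def N43415 : Q := sm gi N29782
def N43418 : Q := sm gi N29783
def N43419 : Q := sm gb N29785
def N43421 : Q := sm gi N29785
def N43422 : Q := sm gf N29786
def N43425 : Q := sm gh N29788
def N43430 : Q := sm gi N29790
def N43434 : Q := sm gb N29794
def N43436 : Q := sm gi N29794
def N43439 : Q := sm gh N29796
def N43440 : Q := sm ga N29797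
def N43447 : Q := sm gi N29800
def N43450 : Q := sm gi N29803
def N43451 : Q := sm gh N29804
def N43452 : Q := sm gg N29805
def N43459 : Q := sm gi N29811
def N43460 : Q := sm gh N29812
def N43461 : Q := sm gd N29814
def N43462 : Q := sm gi N29814
def N43463 : Q := sm gc N29815
def N43464 : Q := sm ge N29815
def N43465 : Q := sm gi N29815
def N43466 : Q := sm gb N29817
def N43467 : Q := sm ge N29817
def N43468 : Q := sm gi N29817
def N43469 : Q := sm gi N29818
def N43470 : Q := sm gh N29819
def N43471 : Q := sm gb N29820
def N43472 : Q := sm gi N29820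
def N43473 : Q := sm gh N29821
def N43474 : Q := sm ga N29822
def N43476 : Q := sm gh N29823
def N43477 : Q := sm gi N29825
def N43478 : Q := sm gh N29826
def N43479 : Q := sm gd N29827
def N43480 : Q := sm gc N29828
def N43481 : Q := sm ge N29828
def N43482 : Q := sm gi N29828
def N43483 : Q := sm gb N29830
def N43484 : Q := sm ge N29830
def N43485 : Q := sm gi N29830
def N43486 : Q := sm gi N29831
def N43487 : Q := sm gh N29832
def N43488 : Q := sm ga N29833
def N43489 : Q := sm ge N29833
def N43490 : Q := sm gi N29833
def N43493 : Q := sm gh N29835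
def N43494 : Q := sm gh N29836
def N43495 : Q := sm ga N29838
def N43496 : Q := sm gi N29838
def N43497 : Q := sm gh N29839
def N43498 : Q := sm gi N29841
def N43499 : Q := sm gh N29842
def N43500 : Q := sm gd N29843
def N43501 : Q := sm gh N29844
def N43502 : Q := sm gd N29845
def N43503 : Q := sm ge N29846
def N43506 : Q := sm gh N29847
def N43509 : Q := sm ge N29849
def N43512 : Q := sm gh N29850
def N43517 : Q := sm gi N29852
def N43518 : Q := sm gg N29854
def N43521 : Q := sm gi N29855
def N43526 : Q := sm gi N29857
def N43534 : Q := sm gi N29862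
def N43545 : Q := sm gj N29872
def N43546 : Q := sm gh N29872
def N43547 : Q := sm gg N29873
def N43548 : Q := sm gh N29873
def N43550 : Q := sm gi N29874
def N43551 : Q := sm gd N29875
def N43552 : Q := sm gi N29875
def N43553 : Q := sm gc N29876
def N43557 : Q := sm ge N29878
def N43561 : Q := sm gh N29881
def N43562 : Q := sm gd N29882
def N43563 : Q := sm gi N29882
def N43567 : Q := sm gc N29885
def N43574 : Q := sm gi N29888
def N43576 : Q := sm ga N29890
def N43578 : Q := sm gi N29890
def N43588 : Q := sm gd N29901
def N43589 : Q := sm gi N29901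
def N43590 : Q := sm gc N29902
def N43591 : Q := sm ge N29902
def N43592 : Q := sm gi N29902
def N43593 : Q := sm gb N29904
def N43594 : Q := sm ge N29904
def N43595 : Q := sm gi N29904
def N43596 : Q := sm gi N29905
def N43598 : Q := sm gb N29907
def N43599 : Q := sm gi N29907
def N43600 : Q := sm gh N29908
def N43601 : Q := sm ga N29909
def N43602 : Q := sm gi N29909
def N43606 : Q := sm gd N29914
def N43607 : Q := sm gg N29915
def N43608 : Q := sm gh N29915
def N43609 : Q := sm gd N29916
def N43610 : Q := sm gi N29916
def N43611 : Q := sm gh N29917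
def N43612 : Q := sm gd N29918
def N43613 : Q := sm gi N29918
def N43614 : Q := sm gc N29919
def N43615 : Q := sm ge N29919
def N43616 : Q := sm gi N29919
def N43617 : Q := sm gc N29921
def N43618 : Q := sm ge N29921
def N43619 : Q := sm gi N29921
def N43620 : Q := sm gb N29923
def N43621 : Q := sm ge N29923
def N43622 : Q := sm gi N29923
def N43623 : Q := sm gf N29924
def N43625 : Q := sm gh N29925
def N43626 : Q := sm ga N29926
def N43627 : Q := sm ge N29926
def N43628 : Q := sm gi N29926
def N43631 : Q := sm gh N29928
def N43633 : Q := sm gd N29931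
def N43634 : Q := sm gi N29931
def N43635 : Q := sm gc N29932
def N43636 : Q := sm ge N29932
def N43637 : Q := sm gi N29932
def N43638 : Q := sm gb N29934
def N43639 : Q := sm ge N29934
def N43640 : Q := sm gi N29934
def N43642 : Q := sm gi N29935
def N43644 : Q := sm gb N29937
def N43645 : Q := sm ge N29937
def N43646 : Q := sm gi N29937
def N43648 : Q := sm gi N29938
def N43650 : Q := sm ga N29940
def N43652 : Q := sm gi N29940
def N43656 : Q := sm gi N29943
def N43658 : Q := sm ge N29946
def N43659 : Q := sm gi N29946
def N43660 : Q := sm gi N29947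
def N43663 : Q := sm gd N29950
def N43667 : Q := sm gh N29953
def N43668 : Q := sm gh N29955
def N43671 : Q := sm gc N29958
def N43672 : Q := sm ge N29958
def N43673 : Q := sm gi N29958
def N43674 : Q := sm gb N29960
def N43675 : Q := sm ge N29960
def N43676 : Q := sm gi N29960
def N43677 : Q := sm gi N29961
def N43678 : Q := sm gh N29962
def N43679 : Q := sm ga N29963
def N43680 : Q := sm ge N29963
def N43681 : Q := sm gi N29963
def N43682 : Q := sm gd N29964
def N43683 : Q := sm gi N29964
def N43684 : Q := sm gh N29965
def N43685 : Q := sm gh N29966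
def N43686 : Q := sm ga N29968
def N43687 : Q := sm gi N29968
def N43688 : Q := sm gh N29969
def N43689 : Q := sm gi N29971
def N43690 : Q := sm gh N29972
def N43691 : Q := sm gd N29973
def N43692 : Q := sm gh N29974
def N43693 : Q := sm gd N29975
def N43694 : Q := sm ge N29976
def N43695 : Q := sm gb N29977
def N43696 : Q := sm ge N29977
def N43697 : Q := sm gi N29977
def N43698 : Q := sm gf N29978
def N43699 : Q := sm gi N29978
def N43700 : Q := sm gh N29979
def N43701 : Q := sm ga N29980
def N43702 : Q := sm ge N29980
def N43703 : Q := sm gi N29980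
def N43706 : Q := sm gh N29982
def N43707 : Q := sm gh N29983
def N43708 : Q := sm ge N29985
def N43709 : Q := sm gi N29985
def N43710 : Q := sm gd N29986
def N43711 : Q := sm gi N29986
def N43712 : Q := sm gh N29987
def N43713 : Q := sm gh N29988
def N43714 : Q := sm gi N29988
def N43715 : Q := sm gh N29989
def N43716 : Q := sm gd N29990
def N43717 : Q := sm gd N29991
def N43718 : Q := sm gi N29992
def N43719 : Q := sm gh N29993
def N43720 : Q := sm gd N29994
def N43721 : Q := sm gh N29995
def N43722 : Q := sm gd N29996
def N43723 : Q := sm ge N29997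
def N43724 : Q := sm gd N29998
def N43725 : Q := sm gc N29999
def N43726 : Q := sm ge N29999
def N43727 : Q := sm gf N30000
def N43733 : Q := sm gg N30004
def N43736 : Q := sm gf N30006
def N43737 : Q := sm gc N30007
def N43746 : Q := sm gc N30013
def N43749 : Q := sm gg N30014
def N43753 : Q := sm gg N30016
def N43755 : Q := sm gi N30017
def N43759 : Q := sm gj N30020
def N43760 : Q := sm gh N30020
def N43761 : Q := sm gi N30021
def N43763 : Q := sm gf N30024
def N43764 : Q := sm gh N30024
def N43765 : Q := sm ge N30025
def N43768 : Q := sm gi N30026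
def N43772 : Q := sm gh N30028
def N43778 : Q := sm gh N30031
def N43780 : Q := sm gf N30035
def N43795 : Q := sm gh N30043
def N43801 : Q := sm gh N30048
def N43805 : Q := sm gi N30050
def N43806 : Q := sm ge N30051
def N43807 : Q := sm gi N30051
def N43808 : Q := sm gf N30053
def N43814 : Q := sm gi N30056
def N43817 : Q := sm gh N30059
def N43822 : Q := sm gi N30063
def N43824 : Q := sm gf N30065
def N43831 : Q := sm gh N30068
def N43838 : Q := sm gi N30073
def N43839 : Q := sm gb N30076
def N43850 : Q := sm gd N30081
def N43854 : Q := sm gj N30083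
def N43855 : Q := sm gh N30083
def N43856 : Q := sm gi N30084
def N43861 : Q := sm gi N30088
def N43862 : Q := sm gh N30089
def N43865 : Q := sm gh N30092
def N43866 : Q := sm ge N30093
def N43867 : Q := sm gg N30093
def N43871 : Q := sm gg N30095
def N43875 : Q := sm gi N30097
def N43876 : Q := sm gd N30100
def N43877 : Q := sm gg N30100
def N43878 : Q := sm gh N30100
def N43881 : Q := sm gd N30102
def N43882 : Q := sm gi N30102
def N43885 : Q := sm gf N30105
def N43886 : Q := sm gj N30105
def N43889 : Q := sm gi N30106
def N43894 : Q := sm gh N30111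
def N43896 : Q := sm gi N30112
def N43905 : Q := sm gd N30119
def N43909 : Q := sm gh N30120
def N43914 : Q := sm gf N30124
def N43916 : Q := sm gh N30124
def N43917 : Q := sm gd N30125
def N43920 : Q := sm gi N30127
def N43921 : Q := sm gg N30129
def N43923 : Q := sm gf N30130
def N43925 : Q := sm gh N30130
def N43930 : Q := sm gi N30133
def N43931 : Q := sm ge N30134
def N43932 : Q := sm gi N30134
def N43934 : Q := sm gi N30136
def N43936 : Q := sm gj N30138
def N43937 : Q := sm gh N30138
def N43938 : Q := sm gh N30139
def N43939 : Q := sm gd N30140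
def N43940 : Q := sm gi N30140
def N43941 : Q := sm gc N30141
def N43942 : Q := sm gi N30141
def N43943 : Q := sm gi N30143
def N43948 : Q := sm gd N30147
def N43952 : Q := sm gb N30150
def N43954 : Q := sm gh N30151
def N43963 : Q := sm ge N30157
def N43967 : Q := sm gi N30158
def N43969 : Q := sm gh N30159
def N43975 : Q := sm gh N30164
def N43983 : Q := sm gg N30170
def N43984 : Q := sm gh N30170
def N43986 : Q := sm gi N30171
def N43988 : Q := sm gh N30172
def N43992 : Q := sm gd N30177
def N43999 : Q := sm ge N30180
def N44004 : Q := sm gd N30183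
def N44005 : Q := sm gi N30183
def N44013 : Q := sm gc N30190
def N44014 : Q := sm gi N30190
def N44016 : Q := sm ge N30194
def N44021 : Q := sm gd N30196
def N44022 : Q := sm gg N30196
def N44023 : Q := sm gh N30196
def N44025 : Q := sm gh N30197
def N44027 : Q := sm gi N30198
def N44030 : Q := sm gf N30201
def N44031 : Q := sm gj N30201
def N44032 : Q := sm gh N30201
def N44033 : Q := sm gd N30202
def N44034 : Q := sm gi N30202
def N44035 : Q := sm gh N30203
def N44036 : Q := sm gi N30204
def N44037 : Q := sm gg N30206
def N44038 : Q := sm gh N30206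
def N44039 : Q := sm gf N30207
def N44040 : Q := sm gj N30207
def N44041 : Q := sm gh N30207
def N44042 : Q := sm gd N30208
def N44043 : Q := sm gi N30208
def N44044 : Q := sm gh N30209
def N44046 : Q := sm gi N30210
def N44048 : Q := sm gi N30211
def N44051 : Q := sm gh N30214
def N44052 : Q := sm gj N30215
def N44053 : Q := sm gh N30215
def N44054 : Q := sm gh N30216
def N44055 : Q := sm gd N30217
def N44056 : Q := sm gi N30217
def N44057 : Q := sm gc N30218
def N44058 : Q := sm gi N30218
def N44060 : Q := sm gg N30222
def N44062 : Q := sm gd N30223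
def N44063 : Q := sm gi N30223
def N44070 : Q := sm gh N30228
def N44076 : Q := sm gd N30232
def N44083 : Q := sm gf N30236
def N44085 : Q := sm gh N30236
def N44096 : Q := sm gj N30244
def N44097 : Q := sm gh N30244
def N44098 : Q := sm gh N30245
def N44099 : Q := sm gd N30246
def N44100 : Q := sm gi N30246
def N44102 : Q := sm gi N30247
def N44103 : Q := sm gi N30249
def N44104 : Q := sm gf N30251
def N44105 : Q := sm gj N30251
def N44106 : Q := sm gh N30251
def N44108 : Q := sm gi N30252
def N44109 : Q := sm gj N30253
def N44110 : Q := sm gh N30253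
def N44111 : Q := sm gh N30254
def N44113 : Q := sm gi N30255
def N44120 : Q := sm gi N30259
def N44122 : Q := sm gi N30261
def N44127 : Q := sm gg N30266
def N44128 : Q := sm gh N30266
def N44129 : Q := sm gd N30267
def N44130 : Q := sm gi N30267
def N44131 : Q := sm gd N30268
def N44132 : Q := sm gi N30268
def N44133 : Q := sm gc N30269
def N44134 : Q := sm gi N30269
def N44135 : Q := sm gb N30271
def N44137 : Q := sm gh N30272
def N44138 : Q := sm gh N30274
def N44139 : Q := sm gd N30275
def N44140 : Q := sm gi N30275
def N44141 : Q := sm gc N30276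
def N44142 : Q := sm ge N30276
def N44143 : Q := sm gi N30276
def N44144 : Q := sm gc N30278
def N44145 : Q := sm gi N30278
def N44146 : Q := sm gb N30280
def N44147 : Q := sm gi N30280
def N44148 : Q := sm gh N30281
def N44149 : Q := sm ga N30282
def N44150 : Q := sm gi N30282
def N44151 : Q := sm gh N30283
def N44154 : Q := sm ge N30286
def N44158 : Q := sm gi N30287
def N44164 : Q := sm gd N30293
def N44166 : Q := sm gh N30293
def N44167 : Q := sm gj N30294
def N44172 : Q := sm gi N30296
def N44177 : Q := sm gi N30299
def N44178 : Q := sm gh N30300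
def N44179 : Q := sm gi N30301
def N44188 : Q := sm ge N30310
def N44192 : Q := sm gi N30311
def N44194 : Q := sm gg N30312
def N44197 : Q := sm gh N30313
def N44199 : Q := sm gi N30314
def N44201 : Q := sm gi N30315
def N44202 : Q := sm gf N30317
def N44206 : Q := sm gi N30318
def N44207 : Q := sm gh N30319
def N44208 : Q := sm gi N30320
def N44210 : Q := sm gh N30322
def N44211 : Q := sm gf N30323
def N44212 : Q := sm gj N30323
def N44213 : Q := sm gh N30323
def N44214 : Q := sm gd N30324
def N44215 : Q := sm gi N30324
def N44216 : Q := sm gh N30325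
def N44217 : Q := sm gd N30326
def N44218 : Q := sm gi N30326
def N44225 : Q := sm gh N30331
def N44228 : Q := sm gi N30333
def N44229 : Q := sm gc N30334
def N44230 : Q := sm gi N30334
def N44231 : Q := sm gi N30336
def N44235 : Q := sm gi N30339
def N44236 : Q := sm gd N30340
def N44239 : Q := sm gi N30341
def N44242 : Q := sm gh N30344
def N44243 : Q := sm gd N30346
def N44245 : Q := sm gh N30346
def N44247 : Q := sm gh N30347
def N44248 : Q := sm gd N30348
def N44249 : Q := sm gi N30348
def N44252 : Q := sm gi N30349
def N44254 : Q := sm gh N30351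
def N44255 : Q := sm gf N30352
def N44257 : Q := sm gh N30352
def N44258 : Q := sm gd N30353
def N44259 : Q := sm gi N30353
def N44260 : Q := sm gh N30354
def N44261 : Q := sm gd N30355
def N44262 : Q := sm gi N30355
def N44263 : Q := sm ge N30356
def N44264 : Q := sm gi N30356
def N44265 : Q := sm gf N30358
def N44266 : Q := sm gi N30358
def N44267 : Q := sm gh N30359
def N44268 : Q := sm gj N30360
def N44269 : Q := sm gh N30360
def N44270 : Q := sm gh N30361
def N44271 : Q := sm gd N30362
def N44272 : Q := sm gi N30362
def N44273 : Q := sm gc N30363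
def N44274 : Q := sm gi N30363
def N44275 : Q := sm gi N30365
def N44276 : Q := sm gf N30367
def N44279 : Q := sm gd N30368
def N44280 : Q := sm gi N30368
def N44281 : Q := sm gj N30369
def N44282 : Q := sm gh N30369
def N44283 : Q := sm gh N30370
def N44284 : Q := sm gd N30371
def N44285 : Q := sm gi N30371
def N44286 : Q := sm gc N30372
def N44287 : Q := sm ge N30372
def N44288 : Q := sm gi N30372
def N44290 : Q := sm gi N30374
def N44291 : Q := sm ge N30375
def N44292 : Q := sm gi N30375
def N44293 : Q := sm gf N30377
def N44294 : Q := sm gi N30377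
def N44295 : Q := sm gh N30378
def N44296 : Q := sm gg N30379
def N44297 : Q := sm gi N30379
def N44298 : Q := sm gh N30380
def N44299 : Q := sm gg N30382
def N44300 : Q := sm gh N30382
def N44301 : Q := sm gd N30383
def N44302 : Q := sm gi N30383
def N44303 : Q := sm gd N30384
def N44304 : Q := sm gi N30384
def N44305 : Q := sm gc N30385
def N44306 : Q := sm gi N30385
def N44307 : Q := sm gb N30387
def N44308 : Q := sm gi N30387
def N44309 : Q := sm gh N30388
def N44310 : Q := sm gh N30390
def N44311 : Q := sm gd N30391
def N44312 : Q := sm gi N30391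
def N44315 : Q := sm gi N30392
def N44316 : Q := sm gc N30394
def N44317 : Q := sm gi N30394
def N44318 : Q := sm gb N30396
def N44319 : Q := sm gi N30396
def N44320 : Q := sm gh N30397
def N44321 : Q := sm ga N30398
def N44322 : Q := sm gi N30398
def N44323 : Q := sm gh N30399
def N44332 : Q := sm gj N30404
def N44333 : Q := sm gh N30404
def N44335 : Q := sm gi N30405
def N44341 : Q := sm gd N30409
def N44343 : Q := sm gh N30410
def N44347 : Q := sm gf N30414
def N44349 : Q := sm gh N30414
def N44355 : Q := sm ge N30418
def N44359 : Q := sm gh N30421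
def N44360 : Q := sm gj N30422
def N44361 : Q := sm gh N30422
def N44364 : Q := sm gi N30424
def N44365 : Q := sm gc N30425
def N44367 : Q := sm gi N30427
def N44377 : Q := sm gi N30434
def N44378 : Q := sm gh N30435
def N44379 : Q := sm gd N30437
def N44380 : Q := sm gg N30437
def N44382 : Q := sm gj N30438
def N44384 : Q := sm gd N30439
def N44385 : Q := sm gi N30439
def N44389 : Q := sm gg N30442
def N44390 : Q := sm gh N30442
def N44391 : Q := sm gf N30443
def N44392 : Q := sm gj N30443
def N44394 : Q := sm gd N30444
def N44395 : Q := sm gi N30444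
def N44399 : Q := sm ge N30447
def N44403 : Q := sm gh N30450
def N44404 : Q := sm gj N30451
def N44409 : Q := sm gc N30454
def N44411 : Q := sm gi N30456
def N44412 : Q := sm gf N30458
def N44413 : Q := sm gj N30458
def N44414 : Q := sm gh N30458
def N44415 : Q := sm gd N30459
def N44416 : Q := sm gi N30459
def N44417 : Q := sm gj N30460
def N44418 : Q := sm gh N30460
def N44419 : Q := sm gh N30461
def N44420 : Q := sm gd N30462
def N44421 : Q := sm gi N30462
def N44422 : Q := sm gc N30463
def N44423 : Q := sm ge N30463
def N44424 : Q := sm gi N30463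
def N44426 : Q := sm gi N30465
def N44427 : Q := sm ge N30466
def N44431 : Q := sm gh N30469
def N44432 : Q := sm gg N30470
def N44435 : Q := sm gg N30473
def N44436 : Q := sm gh N30473
def N44437 : Q := sm gd N30474
def N44438 : Q := sm gi N30474
def N44440 : Q := sm gi N30475
def N44441 : Q := sm gc N30476
def N44442 : Q := sm gi N30476
def N44443 : Q := sm gb N30478
def N44444 : Q := sm gi N30478
def N44445 : Q := sm gh N30479
def N44448 : Q := sm gi N30482
def N44451 : Q := sm gi N30483
def N44453 : Q := sm gi N30485
def N44456 : Q := sm gh N30488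
def N44457 : Q := sm ga N30489
def N44458 : Q := sm gi N30489
def N44459 : Q := sm gh N30490
def N44460 : Q := sm gc N30492
def N44461 : Q := sm gg N30492
def N44462 : Q := sm gh N30492
def N44463 : Q := sm gf N30493
def N44464 : Q := sm gj N30493
def N44465 : Q := sm gh N30493
def N44466 : Q := sm gd N30494
def N44467 : Q := sm gi N30494
def N44468 : Q := sm gh N30495
def N44469 : Q := sm gd N30496
def N44470 : Q := sm gi N30496
def N44471 : Q := sm gc N30497
def N44472 : Q := sm ge N30497
def N44473 : Q := sm gi N30497
def N44479 : Q := sm gf N30502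
def N44481 : Q := sm gh N30502
def N44482 : Q := sm gd N30503
def N44483 : Q := sm gi N30503
def N44484 : Q := sm gj N30504
def N44485 : Q := sm gh N30504
def N44486 : Q := sm gh N30505
def N44487 : Q := sm gd N30506
def N44488 : Q := sm gi N30506
def N44489 : Q := sm gc N30507
def N44490 : Q := sm ge N30507
def N44491 : Q := sm gi N30507
def N44492 : Q := sm gd N30509
def N44493 : Q := sm gi N30509
def N44494 : Q := sm ge N30510
def N44495 : Q := sm gi N30510
def N44496 : Q := sm gf N30512
def N44497 : Q := sm gi N30512
def N44498 : Q := sm gh N30513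
def N44499 : Q := sm gg N30514
def N44500 : Q := sm gi N30514
def N44501 : Q := sm gh N30515
def N44502 : Q := sm gg N30517
def N44503 : Q := sm gh N30517
def N44504 : Q := sm gd N30518
def N44505 : Q := sm gi N30518
def N44506 : Q := sm gd N30519
def N44507 : Q := sm gi N30519
def N44508 : Q := sm gc N30520
def N44509 : Q := sm gi N30520
def N44511 : Q := sm gi N30522
def N44512 : Q := sm gh N30523
def N44513 : Q := sm ge N30525
def N44514 : Q := sm gj N30525
def N44515 : Q := sm gh N30525
def N44516 : Q := sm gh N30526
def N44517 : Q := sm gd N30527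
def N44518 : Q := sm gi N30527
def N44519 : Q := sm gc N30528
def N44520 : Q := sm ge N30528
def N44521 : Q := sm gi N30528
def N44522 : Q := sm gg N30530
def N44523 : Q := sm gh N30530
def N44524 : Q := sm gd N30531
def N44525 : Q := sm gi N30531
def N44526 : Q := sm gd N30532
def N44527 : Q := sm gi N30532
def N44528 : Q := sm gc N30533
def N44529 : Q := sm ge N30533
def N44530 : Q := sm gi N30533
def N44531 : Q := sm gb N30535
def N44532 : Q := sm ge N30535
def N44533 : Q := sm gi N30535
def N44534 : Q := sm gf N30536
def N44535 : Q := sm gi N30536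
def N44536 : Q := sm gh N30537
def N44537 : Q := sm ge N30538
def N44538 : Q := sm gi N30538
def N44539 : Q := sm gf N30540
def N44540 : Q := sm gi N30540
def N44541 : Q := sm gh N30541
def N44542 : Q := sm gg N30542
def N44543 : Q := sm gi N30542
def N44544 : Q := sm gh N30543
def N44545 : Q := sm gj N30545
def N44546 : Q := sm gi N30545
def N44547 : Q := sm gh N30546
def N44549 : Q := sm gh N30548
def N44550 : Q := sm gd N30549
def N44551 : Q := sm gi N30549
def N44552 : Q := sm gc N30550
def N44553 : Q := sm ge N30550
def N44554 : Q := sm gi N30550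
def N44555 : Q := sm gc N30552
def N44556 : Q := sm gi N30552
def N44557 : Q := sm gb N30554
def N44558 : Q := sm gi N30554
def N44559 : Q := sm gh N30555
def N44560 : Q := sm ga N30556
def N44561 : Q := sm gi N30556
def N44562 : Q := sm gh N30557
def N44563 : Q := sm gd N30559
def N44564 : Q := sm gi N30559
def N44565 : Q := sm gc N30560
def N44566 : Q := sm ge N30560
def N44567 : Q := sm gi N30560
def N44568 : Q := sm gb N30562
def N44569 : Q := sm ge N30562
def N44570 : Q := sm gi N30562
def N44571 : Q := sm gi N30563
def N44572 : Q := sm gh N30564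
def N44573 : Q := sm gb N30565
def N44574 : Q := sm gi N30565
def N44575 : Q := sm gh N30566
def N44576 : Q := sm ga N30567
def N44577 : Q := sm gi N30567
def N44578 : Q := sm gh N30568
def N44579 : Q := sm gi N30570
def N44580 : Q := sm gh N30571
def N44581 : Q := sm gd N30572
def N44589 : Q := sm gc N30576
def N44601 : Q := sm gi N30582
def N44605 : Q := sm gi N30585
def N44630 : Q := sm ge N30602
def N44631 : Q := sm gi N30602
def N44632 : Q := sm gf N30604
def N44639 : Q := sm gh N30609
def N44640 : Q := sm gd N30610
def N44642 : Q := sm gd N30611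
def N44643 : Q := sm gi N30611
def N44645 : Q := sm gi N30612
def N44646 : Q := sm gb N30614
def N44647 : Q := sm gi N30614
def N44648 : Q := sm gh N30615
def N44651 : Q := sm gi N30618
def N44652 : Q := sm gc N30619
def N44653 : Q := sm ge N30619
def N44654 : Q := sm gi N30619
def N44655 : Q := sm gc N30621
def N44656 : Q := sm gi N30621
def N44657 : Q := sm gb N30623
def N44658 : Q := sm gi N30623
def N44659 : Q := sm gh N30624
def N44660 : Q := sm ga N30625
def N44661 : Q := sm gi N30625
def N44662 : Q := sm gh N30626
def N44663 : Q := sm gc N30628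
def N44664 : Q := sm gg N30628
def N44665 : Q := sm gh N30628
def N44666 : Q := sm gf N30629
def N44667 : Q := sm gj N30629
def N44672 : Q := sm gd N30632
def N44673 : Q := sm gi N30632
def N44678 : Q := sm gi N30635
def N44681 : Q := sm gh N30637
def N44682 : Q := sm gf N30638
def N44683 : Q := sm gj N30638
def N44684 : Q := sm gh N30638
def N44686 : Q := sm gi N30639
def N44687 : Q := sm gj N30640
def N44689 : Q := sm gh N30641
def N44690 : Q := sm gd N30642
def N44691 : Q := sm gi N30642
def N44694 : Q := sm gi N30643
def N44696 : Q := sm gi N30645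
def N44701 : Q := sm gh N30649
def N44703 : Q := sm gi N30650
def N44704 : Q := sm gh N30651
def N44705 : Q := sm gg N30653
def N44707 : Q := sm gd N30654
def N44708 : Q := sm gi N30654
def N44709 : Q := sm gd N30655
def N44711 : Q := sm gc N30656
def N44712 : Q := sm gi N30656
def N44714 : Q := sm gi N30658
def N44715 : Q := sm gh N30659
def N44716 : Q := sm ge N30661
def N44717 : Q := sm gj N30661
def N44718 : Q := sm gh N30661
def N44719 : Q := sm gh N30662
def N44720 : Q := sm gd N30663
def N44721 : Q := sm gi N30663
def N44722 : Q := sm gc N30664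
def N44723 : Q := sm ge N30664
def N44724 : Q := sm gi N30664
def N44725 : Q := sm gg N30666
def N44726 : Q := sm gh N30666
def N44727 : Q := sm gd N30667
def N44728 : Q := sm gi N30667
def N44729 : Q := sm gd N30668
def N44730 : Q := sm gi N30668
def N44731 : Q := sm gc N30669
def N44732 : Q := sm ge N30669
def N44733 : Q := sm gi N30669
def N44734 : Q := sm gb N30671
def N44735 : Q := sm ge N30671
def N44736 : Q := sm gi N30671
def N44738 : Q := sm gi N30672
def N44739 : Q := sm gh N30673
def N44741 : Q := sm gi N30674
def N44742 : Q := sm gf N30676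
def N44743 : Q := sm gi N30676
def N44744 : Q := sm gh N30677
def N44747 : Q := sm gh N30679
def N44749 : Q := sm gi N30681
def N44750 : Q := sm gh N30682
def N44752 : Q := sm gh N30684
def N44753 : Q := sm gd N30685
def N44754 : Q := sm gi N30685
def N44755 : Q := sm gc N30686
def N44756 : Q := sm ge N30686
def N44757 : Q := sm gi N30686
def N44758 : Q := sm gc N30688
def N44759 : Q := sm gi N30688
def N44760 : Q := sm gb N30690
def N44761 : Q := sm gi N30690
def N44762 : Q := sm gh N30691
def N44763 : Q := sm ga N30692
def N44764 : Q := sm gi N30692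
def N44765 : Q := sm gh N30693
def N44767 : Q := sm gi N30695
def N44768 : Q := sm gc N30696
def N44770 : Q := sm gi N30696
def N44771 : Q := sm gb N30698
def N44772 : Q := sm ge N30698
def N44773 : Q := sm gi N30698
def N44774 : Q := sm gi N30699
def N44775 : Q := sm gh N30700
def N44776 : Q := sm gb N30701
def N44777 : Q := sm gi N30701
def N44778 : Q := sm gh N30702
def N44779 : Q := sm ga N30703
def N44780 : Q := sm gi N30703
def N44781 : Q := sm gh N30704
def N44782 : Q := sm gi N30706
def N44783 : Q := sm gh N30707
def N44784 : Q := sm gd N30708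
def N44785 : Q := sm gg N30709
def N44786 : Q := sm gh N30709
def N44787 : Q := sm gf N30710
def N44788 : Q := sm gj N30710
def N44789 : Q := sm gh N30710
def N44790 : Q := sm gd N30711
def N44791 : Q := sm gi N30711
def N44792 : Q := sm gj N30712
def N44793 : Q := sm gh N30712
def N44794 : Q := sm gh N30713
def N44795 : Q := sm gd N30714
def N44796 : Q := sm gi N30714
def N44797 : Q := sm gc N30715
def N44798 : Q := sm ge N30715
def N44799 : Q := sm gi N30715
def N44801 : Q := sm gi N30717
def N44803 : Q := sm ge N30718
def N44804 : Q := sm gi N30718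
def N44808 : Q := sm gi N30721
def N44817 : Q := sm ge N30728
def N44818 : Q := sm gj N30728
def N44819 : Q := sm gh N30728
def N44820 : Q := sm gh N30729
def N44821 : Q := sm gd N30730
def N44822 : Q := sm gi N30730
def N44823 : Q := sm gc N30731
def N44824 : Q := sm ge N30731
def N44825 : Q := sm gi N30731
def N44826 : Q := sm gg N30733
def N44827 : Q := sm gh N30733
def N44828 : Q := sm gd N30734
def N44829 : Q := sm gi N30734
def N44830 : Q := sm gd N30735
def N44831 : Q := sm gi N30735
def N44832 : Q := sm gc N30736
def N44833 : Q := sm ge N30736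
def N44834 : Q := sm gi N30736
def N44835 : Q := sm gb N30738
def N44836 : Q := sm ge N30738
def N44837 : Q := sm gi N30738
def N44838 : Q := sm gf N30739
def N44839 : Q := sm gi N30739
def N44840 : Q := sm gh N30740
def N44841 : Q := sm ge N30741
def N44842 : Q := sm gi N30741
def N44843 : Q := sm gf N30743
def N44844 : Q := sm gi N30743
def N44846 : Q := sm gg N30745
def N44847 : Q := sm gi N30745
def N44848 : Q := sm gh N30746
def N44849 : Q := sm gj N30748
def N44850 : Q := sm gi N30748
def N44851 : Q := sm gh N30749
def N44853 : Q := sm gh N30751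
def N44854 : Q := sm gd N30752
def N44855 : Q := sm gi N30752
def N44856 : Q := sm gc N30753
def N44857 : Q := sm ge N30753
def N44858 : Q := sm gi N30753
def N44859 : Q := sm gc N30755
def N44860 : Q := sm gi N30755
def N44861 : Q := sm gb N30757
def N44862 : Q := sm gi N30757
def N44863 : Q := sm gh N30758
def N44864 : Q := sm ga N30759
def N44865 : Q := sm gi N30759
def N44866 : Q := sm gh N30760
def N44867 : Q := sm gj N30762
def N44868 : Q := sm gh N30762
def N44869 : Q := sm gg N30763
def N44870 : Q := sm gh N30763
def N44871 : Q := sm gd N30764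
def N44872 : Q := sm gi N30764
def N44873 : Q := sm gd N30765
def N44874 : Q := sm gi N30765
def N44875 : Q := sm gc N30766
def N44876 : Q := sm ge N30766
def N44877 : Q := sm gi N30766
def N44878 : Q := sm gb N30768
def N44879 : Q := sm ge N30768
def N44880 : Q := sm gi N30768
def N44881 : Q := sm gf N30769
def N44882 : Q := sm gi N30769
def N44883 : Q := sm gh N30770
def N44884 : Q := sm gh N30771
def N44885 : Q := sm gd N30772
def N44886 : Q := sm gi N30772
def N44887 : Q := sm gc N30773
def N44888 : Q := sm ge N30773
def N44889 : Q := sm gi N30773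
def N44890 : Q := sm gc N30775
def N44891 : Q := sm ge N30775
def N44892 : Q := sm gi N30775
def N44893 : Q := sm gb N30777
def N44894 : Q := sm ge N30777
def N44895 : Q := sm gi N30777
def N44896 : Q := sm gf N30778
def N44897 : Q := sm gi N30778
def N44898 : Q := sm gh N30779
def N44899 : Q := sm ga N30780
def N44900 : Q := sm ge N30780
def N44901 : Q := sm gi N30780
def N44902 : Q := sm gf N30781
def N44903 : Q := sm gi N30781
def N44904 : Q := sm gh N30782
def N44905 : Q := sm gg N30783
def N44906 : Q := sm gi N30783
def N44907 : Q := sm gh N30784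
def N44908 : Q := sm gf N30786
def N44909 : Q := sm gi N30786
def N44910 : Q := sm gh N30787
def N44911 : Q := sm gg N30788
def N44912 : Q := sm gi N30788
def N44913 : Q := sm gh N30789
def N44914 : Q := sm gj N30791
def N44915 : Q := sm gi N30791
def N44916 : Q := sm gh N30792
def N44918 : Q := sm gi N30794
def N44919 : Q := sm gh N30795
def N44922 : Q := sm gd N30798
def N44923 : Q := sm gi N30798
def N44924 : Q := sm gc N30799
def N44925 : Q := sm ge N30799
def N44926 : Q := sm gi N30799
def N44927 : Q := sm gb N30801
def N44928 : Q := sm ge N30801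
def N44929 : Q := sm gi N30801
def N44930 : Q := sm gi N30802
def N44931 : Q := sm gh N30803
def N44932 : Q := sm gb N30804
def N44933 : Q := sm gi N30804
def N44934 : Q := sm gh N30805
def N44935 : Q := sm ga N30806
def N44936 : Q := sm gi N30806
def N44937 : Q := sm gh N30807
def N44938 : Q := sm gi N30809
def N44939 : Q := sm gh N30810
def N44940 : Q := sm gd N30811
def N44941 : Q := sm gc N30812
def N44942 : Q := sm ge N30812
def N44943 : Q := sm gi N30812
def N44944 : Q := sm gb N30814
def N44945 : Q := sm ge N30814
def N44946 : Q := sm gi N30814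
def N44947 : Q := sm gi N30815
def N44948 : Q := sm gh N30816
def N44949 : Q := sm ga N30817
def N44950 : Q := sm ge N30817
def N44951 : Q := sm gi N30817
def N44952 : Q := sm gd N30818
def N44953 : Q := sm gi N30818
def N44954 : Q := sm gh N30819
def N44955 : Q := sm gh N30820
def N44956 : Q := sm ga N30822
def N44957 : Q := sm gi N30822
def N44958 : Q := sm gh N30823
def N44959 : Q := sm gi N30825
def N44960 : Q := sm gh N30826
def N44961 : Q := sm gd N30827
def N44962 : Q := sm gh N30828
def N44963 : Q := sm gd N30829
def N44964 : Q := sm ge N30830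
def N44965 : Q := sm gd N30831
def N44966 : Q := sm gg N30831
def N44967 : Q := sm gh N30831
def N44968 : Q := sm gj N30832
def N44969 : Q := sm gh N30832
def N44971 : Q := sm gi N30833
def N44975 : Q := sm gg N30836
def N44976 : Q := sm gh N30836
def N44977 : Q := sm gf N30837
def N44978 : Q := sm gj N30837
def N44979 : Q := sm gh N30837
def N44980 : Q := sm gd N30838
def N44981 : Q := sm gi N30838
def N44982 : Q := sm gh N30839
def N44983 : Q := sm gd N30840
def N44984 : Q := sm gi N30840
def N44986 : Q := sm gi N30841
def N44989 : Q := sm gh N30844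
def N44990 : Q := sm gj N30845
def N44991 : Q := sm gh N30845
def N44992 : Q := sm gh N30846
def N44993 : Q := sm gd N30847
def N44994 : Q := sm gi N30847
def N44995 : Q := sm gc N30848
def N44996 : Q := sm gi N30848
def N44997 : Q := sm gi N30850
def N44998 : Q := sm gf N30852
def N45000 : Q := sm gh N30852
def N45001 : Q := sm gd N30853
def N45002 : Q := sm gi N30853
def N45003 : Q := sm gj N30854
def N45004 : Q := sm gh N30854
def N45005 : Q := sm gh N30855
def N45006 : Q := sm gd N30856
def N45007 : Q := sm gi N30856
def N45008 : Q := sm gc N30857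
def N45009 : Q := sm ge N30857
def N45010 : Q := sm gi N30857
def N45011 : Q := sm gd N30859
def N45012 : Q := sm gi N30859
def N45013 : Q := sm ge N30860
def N45014 : Q := sm gi N30860
def N45015 : Q := sm gf N30862
def N45016 : Q := sm gi N30862
def N45017 : Q := sm gh N30863
def N45020 : Q := sm gh N30865
def N45021 : Q := sm gg N30867
def N45023 : Q := sm gd N30868
def N45024 : Q := sm gi N30868
def N45025 : Q := sm gd N30869
def N45026 : Q := sm gi N30869
def N45027 : Q := sm gc N30870
def N45028 : Q := sm gi N30870
def N45029 : Q := sm gb N30872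
def N45030 : Q := sm gi N30872
def N45031 : Q := sm gh N30873
def N45032 : Q := sm gh N30875
def N45038 : Q := sm gc N30879
def N45041 : Q := sm gi N30881
def N45042 : Q := sm gh N30882
def N45043 : Q := sm ga N30883
def N45044 : Q := sm gi N30883
def N45045 : Q := sm gh N30884
def N45048 : Q := sm gh N30886
def N45049 : Q := sm gf N30887
def N45050 : Q := sm gj N30887
def N45051 : Q := sm gh N30887
def N45052 : Q := sm gd N30888
def N45053 : Q := sm gi N30888
def N45054 : Q := sm gh N30889
def N45056 : Q := sm gi N30890
def N45059 : Q := sm gi N30891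
def N45064 : Q := sm gh N30895
def N45065 : Q := sm gf N30896
def N45067 : Q := sm gh N30896
def N45068 : Q := sm gd N30897
def N45069 : Q := sm gi N30897
def N45070 : Q := sm gj N30898
def N45071 : Q := sm gh N30898
def N45072 : Q := sm gh N30899
def N45073 : Q := sm gd N30900
def N45074 : Q := sm gi N30900
def N45075 : Q := sm gc N30901
def N45076 : Q := sm ge N30901
def N45077 : Q := sm gi N30901
def N45079 : Q := sm gi N30903
def N45080 : Q := sm ge N30904
def N45081 : Q := sm gi N30904
def N45082 : Q := sm gf N30906
def N45083 : Q := sm gi N30906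
def N45085 : Q := sm gg N30908
def N45086 : Q := sm gi N30908
def N45087 : Q := sm gh N30909
def N45088 : Q := sm gg N30911
def N45089 : Q := sm gh N30911
def N45090 : Q := sm gd N30912
def N45091 : Q := sm gi N30912
def N45092 : Q := sm gd N30913
def N45093 : Q := sm gi N30913
def N45094 : Q := sm gc N30914
def N45095 : Q := sm gi N30914
def N45096 : Q := sm gb N30916
def N45097 : Q := sm gi N30916
def N45098 : Q := sm gh N30917
def N45100 : Q := sm gj N30919
def N45103 : Q := sm gd N30921
def N45104 : Q := sm gi N30921
def N45105 : Q := sm gc N30922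
def N45106 : Q := sm ge N30922
def N45107 : Q := sm gi N30922
def N45108 : Q := sm gg N30924
def N45109 : Q := sm gh N30924
def N45110 : Q := sm gd N30925
def N45111 : Q := sm gi N30925
def N45112 : Q := sm gd N30926
def N45113 : Q := sm gi N30926
def N45114 : Q := sm gc N30927
def N45115 : Q := sm ge N30927
def N45116 : Q := sm gi N30927
def N45117 : Q := sm gb N30929
def N45118 : Q := sm ge N30929
def N45119 : Q := sm gi N30929
def N45120 : Q := sm gf N30930
def N45121 : Q := sm gi N30930
def N45122 : Q := sm gh N30931
def N45123 : Q := sm ge N30932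
def N45124 : Q := sm gi N30932
def N45125 : Q := sm gf N30934
def N45126 : Q := sm gi N30934
def N45127 : Q := sm gh N30935
def N45128 : Q := sm gg N30936
def N45129 : Q := sm gi N30936
def N45130 : Q := sm gh N30937
def N45131 : Q := sm gj N30939
def N45132 : Q := sm gi N30939
def N45133 : Q := sm gh N30940
def N45135 : Q := sm gh N30942
def N45136 : Q := sm gd N30943
def N45137 : Q := sm gi N30943
def N45138 : Q := sm gc N30944
def N45139 : Q := sm ge N30944
def N45140 : Q := sm gi N30944
def N45141 : Q := sm gc N30946
def N45142 : Q := sm gi N30946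
def N45143 : Q := sm gb N30948
def N45144 : Q := sm gi N30948
def N45145 : Q := sm gh N30949
def N45146 : Q := sm ga N30950
def N45147 : Q := sm gi N30950
def N45148 : Q := sm gh N30951
def N45149 : Q := sm gd N30953
def N45150 : Q := sm gi N30953
def N45151 : Q := sm gc N30954
def N45152 : Q := sm ge N30954
def N45153 : Q := sm gi N30954
def N45154 : Q := sm gb N30956
def N45155 : Q := sm ge N30956
def N45156 : Q := sm gi N30956
def N45157 : Q := sm gi N30957
def N45158 : Q := sm gh N30958
def N45159 : Q := sm gb N30959
def N45160 : Q := sm gi N30959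
def N45161 : Q := sm gh N30960
def N45162 : Q := sm ga N30961
def N45163 : Q := sm gi N30961
def N45164 : Q := sm gh N30962
def N45165 : Q := sm gi N30964
def N45166 : Q := sm gh N30965
def N45167 : Q := sm gd N30966
def N45169 : Q := sm gg N30967
def N45170 : Q := sm gh N30967
def N45171 : Q := sm gf N30968
def N45172 : Q := sm gj N30968
def N45173 : Q := sm gh N30968
def N45174 : Q := sm gd N30969
def N45175 : Q := sm gi N30969
def N45178 : Q := sm gi N30971
def N45187 : Q := sm gf N30977
def N45188 : Q := sm gj N30977
def N45189 : Q := sm gh N30977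
def N45190 : Q := sm gd N30978
def N45191 : Q := sm gi N30978
def N45192 : Q := sm gj N30979
def N45193 : Q := sm gh N30979
def N45194 : Q := sm gh N30980
def N45195 : Q := sm gd N30981
def N45196 : Q := sm gi N30981
def N45197 : Q := sm gc N30982
def N45198 : Q := sm ge N30982
def N45199 : Q := sm gi N30982
def N45200 : Q := sm gd N30984
def N45201 : Q := sm gi N30984
def N45202 : Q := sm ge N30985
def N45203 : Q := sm gi N30985
def N45210 : Q := sm gg N30992
def N45211 : Q := sm gh N30992
def N45212 : Q := sm gd N30993
def N45213 : Q := sm gi N30993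
def N45214 : Q := sm gd N30994
def N45215 : Q := sm gi N30994
def N45216 : Q := sm gc N30995
def N45217 : Q := sm gi N30995
def N45218 : Q := sm gb N30997
def N45219 : Q := sm gi N30997
def N45220 : Q := sm gh N30998
def N45221 : Q := sm ge N31000
def N45222 : Q := sm gj N31000
def N45223 : Q := sm gh N31000
def N45224 : Q := sm gh N31001
def N45225 : Q := sm gd N31002
def N45226 : Q := sm gi N31002
def N45227 : Q := sm gc N31003
def N45228 : Q := sm ge N31003
def N45229 : Q := sm gi N31003
def N45230 : Q := sm gg N31005
def N45231 : Q := sm gh N31005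
def N45232 : Q := sm gd N31006
def N45233 : Q := sm gi N31006
def N45234 : Q := sm gd N31007
def N45235 : Q := sm gi N31007
def N45236 : Q := sm gc N31008
def N45237 : Q := sm ge N31008
def N45238 : Q := sm gi N31008
def N45239 : Q := sm gb N31010
def N45240 : Q := sm ge N31010
def N45241 : Q := sm gi N31010
def N45242 : Q := sm gf N31011
def N45243 : Q := sm gi N31011
def N45244 : Q := sm gh N31012
def N45245 : Q := sm ge N31013
def N45246 : Q := sm gi N31013
def N45247 : Q := sm gf N31015
def N45248 : Q := sm gi N31015
def N45249 : Q := sm gh N31016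
def N45252 : Q := sm gh N31018
def N45257 : Q := sm gh N31023
def N45258 : Q := sm gd N31024
def N45259 : Q := sm gi N31024
def N45260 : Q := sm gc N31025
def N45261 : Q := sm ge N31025
def N45262 : Q := sm gi N31025
def N45263 : Q := sm gc N31027
def N45264 : Q := sm gi N31027
def N45265 : Q := sm gb N31029
def N45266 : Q := sm gi N31029
def N45267 : Q := sm gh N31030
def N45268 : Q := sm ga N31031
def N45269 : Q := sm gi N31031
def N45270 : Q := sm gh N31032
def N45272 : Q := sm gi N31034
def N45273 : Q := sm gc N31035
def N45274 : Q := sm ge N31035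
def N45275 : Q := sm gi N31035
def N45276 : Q := sm gb N31037
def N45277 : Q := sm ge N31037
def N45278 : Q := sm gi N31037
def N45279 : Q := sm gi N31038
def N45280 : Q := sm gh N31039
def N45283 : Q := sm gh N31041
def N45284 : Q := sm ga N31042
def N45285 : Q := sm gi N31042
def N45286 : Q := sm gh N31043
def N45287 : Q := sm gi N31045
def N45288 : Q := sm gh N31046
def N45289 : Q := sm gd N31047
def N45290 : Q := sm gg N31048
def N45291 : Q := sm gh N31048
def N45292 : Q := sm gf N31049
def N45294 : Q := sm gh N31049
def N45295 : Q := sm gd N31050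
def N45296 : Q := sm gi N31050
def N45297 : Q := sm gj N31051
def N45298 : Q := sm gh N31051
def N45299 : Q := sm gh N31052
def N45300 : Q := sm gd N31053
def N45301 : Q := sm gi N31053
def N45304 : Q := sm gi N31054
def N45306 : Q := sm gi N31056
def N45307 : Q := sm gc N31057
def N45312 : Q := sm gf N31060
def N45316 : Q := sm gf N31062
def N45322 : Q := sm ge N31067
def N45323 : Q := sm gj N31067
def N45324 : Q := sm gh N31067
def N45325 : Q := sm gh N31068
def N45326 : Q := sm gd N31069
def N45327 : Q := sm gi N31069
def N45328 : Q := sm gc N31070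
def N45329 : Q := sm ge N31070
def N45330 : Q := sm gi N31070
def N45331 : Q := sm gg N31072
def N45332 : Q := sm gh N31072
def N45333 : Q := sm gd N31073
def N45334 : Q := sm gi N31073
def N45335 : Q := sm gd N31074
def N45336 : Q := sm gi N31074
def N45337 : Q := sm gc N31075
def N45338 : Q := sm ge N31075
def N45339 : Q := sm gi N31075
def N45340 : Q := sm gb N31077
def N45341 : Q := sm ge N31077
def N45342 : Q := sm gi N31077
def N45343 : Q := sm gf N31078
def N45344 : Q := sm gi N31078
def N45345 : Q := sm gh N31079
def N45346 : Q := sm ge N31080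
def N45347 : Q := sm gi N31080
def N45348 : Q := sm gf N31082
def N45349 : Q := sm gi N31082
def N45350 : Q := sm gh N31083
def N45351 : Q := sm gg N31084
def N45352 : Q := sm gi N31084
def N45354 : Q := sm gj N31087
def N45355 : Q := sm gi N31087
def N45358 : Q := sm gh N31090
def N45359 : Q := sm gd N31091
def N45360 : Q := sm gi N31091
def N45361 : Q := sm gc N31092
def N45362 : Q := sm ge N31092
def N45363 : Q := sm gi N31092
def N45364 : Q := sm gc N31094
def N45365 : Q := sm gi N31094
def N45366 : Q := sm gb N31096
def N45367 : Q := sm gi N31096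
def N45368 : Q := sm gh N31097
def N45369 : Q := sm ga N31098
def N45370 : Q := sm gi N31098
def N45371 : Q := sm gh N31099
def N45372 : Q := sm gj N31101
def N45373 : Q := sm gh N31101
def N45374 : Q := sm gg N31102
def N45375 : Q := sm gh N31102
def N45376 : Q := sm gd N31103
def N45377 : Q := sm gi N31103
def N45378 : Q := sm gd N31104
def N45379 : Q := sm gi N31104
def N45380 : Q := sm gc N31105
def N45381 : Q := sm ge N31105
def N45382 : Q := sm gi N31105
def N45383 : Q := sm gb N31107
def N45384 : Q := sm ge N31107
def N45385 : Q := sm gi N31107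
def N45386 : Q := sm gf N31108
def N45387 : Q := sm gi N31108
def N45388 : Q := sm gh N31109
def N45389 : Q := sm gh N31110
def N45390 : Q := sm gd N31111
def N45391 : Q := sm gi N31111
def N45392 : Q := sm gc N31112
def N45393 : Q := sm ge N31112
def N45394 : Q := sm gi N31112
def N45395 : Q := sm gc N31114
def N45396 : Q := sm ge N31114
def N45397 : Q := sm gi N31114
def N45398 : Q := sm gb N31116
def N45399 : Q := sm ge N31116
def N45400 : Q := sm gi N31116
def N45401 : Q := sm gf N31117
def N45402 : Q := sm gi N31117
def N45403 : Q := sm gh N31118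
def N45404 : Q := sm ga N31119
def N45405 : Q := sm ge N31119
def N45406 : Q := sm gi N31119
def N45407 : Q := sm gf N31120
def N45408 : Q := sm gi N31120
def N45409 : Q := sm gh N31121
def N45410 : Q := sm gg N31122
def N45411 : Q := sm gi N31122
def N45412 : Q := sm gh N31123
def N45413 : Q := sm gf N31125
def N45414 : Q := sm gi N31125
def N45415 : Q := sm gh N31126
def N45416 : Q := sm gg N31127
def N45417 : Q := sm gi N31127
def N45418 : Q := sm gh N31128
def N45419 : Q := sm gj N31130
def N45420 : Q := sm gi N31130
def N45421 : Q := sm gh N31131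
def N45423 : Q := sm gi N31133
def N45424 : Q := sm gh N31134
def N45427 : Q := sm gd N31137
def N45428 : Q := sm gi N31137
def N45429 : Q := sm gc N31138
def N45430 : Q := sm ge N31138
def N45431 : Q := sm gi N31138
def N45432 : Q := sm gb N31140
def N45433 : Q := sm ge N31140
def N45434 : Q := sm gi N31140
def N45435 : Q := sm gi N31141
def N45436 : Q := sm gh N31142
def N45437 : Q := sm gb N31143
def N45438 : Q := sm gi N31143
def N45439 : Q := sm gh N31144
def N45440 : Q := sm ga N31145
def N45441 : Q := sm gi N31145
def N45442 : Q := sm gh N31146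
def N45443 : Q := sm gi N31148
def N45444 : Q := sm gh N31149
def N45445 : Q := sm gd N31150
def N45446 : Q := sm gc N31151
def N45447 : Q := sm ge N31151
def N45448 : Q := sm gi N31151
def N45449 : Q := sm gb N31153
def N45450 : Q := sm ge N31153
def N45451 : Q := sm gi N31153
def N45452 : Q := sm gi N31154
def N45453 : Q := sm gh N31155
def N45454 : Q := sm ga N31156
def N45455 : Q := sm ge N31156
def N45456 : Q := sm gi N31156
def N45457 : Q := sm gd N31157
def N45458 : Q := sm gi N31157
def N45459 : Q := sm gh N31158
def N45460 : Q := sm gh N31159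
def N45461 : Q := sm ga N31161
def N45462 : Q := sm gi N31161
def N45463 : Q := sm gh N31162
def N45464 : Q := sm gi N31164
def N45465 : Q := sm gh N31165
def N45466 : Q := sm gd N31166
def N45467 : Q := sm gh N31167
def N45468 : Q := sm gd N31168
def N45469 : Q := sm ge N31169
def N45472 : Q := sm gf N31171
def N45473 : Q := sm gj N31171
def N45474 : Q := sm gh N31171
def N45475 : Q := sm gd N31172
def N45476 : Q := sm gi N31172
def N45477 : Q := sm gj N31173
def N45478 : Q := sm gh N31173
def N45479 : Q := sm gh N31174
def N45480 : Q := sm gd N31175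
def N45481 : Q := sm gi N31175
def N45484 : Q := sm gi N31176
def N45486 : Q := sm gi N31178
def N45489 : Q := sm gi N31179
def N45493 : Q := sm gi N31182
def N45501 : Q := sm gh N31187
def N45502 : Q := sm ge N31189
def N45503 : Q := sm gj N31189
def N45504 : Q := sm gh N31189
def N45505 : Q := sm gh N31190
def N45506 : Q := sm gd N31191
def N45507 : Q := sm gi N31191
def N45509 : Q := sm ge N31192
def N45510 : Q := sm gi N31192
def N45511 : Q := sm gg N31194
def N45512 : Q := sm gh N31194
def N45513 : Q := sm gd N31195
def N45514 : Q := sm gi N31195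
def N45515 : Q := sm gd N31196
def N45516 : Q := sm gi N31196
def N45517 : Q := sm gc N31197
def N45518 : Q := sm ge N31197
def N45519 : Q := sm gi N31197
def N45521 : Q := sm ge N31199
def N45522 : Q := sm gi N31199
def N45523 : Q := sm gf N31200
def N45524 : Q := sm gi N31200
def N45525 : Q := sm gh N31201
def N45527 : Q := sm gi N31202
def N45529 : Q := sm gi N31204
def N45535 : Q := sm gi N31209
def N45536 : Q := sm gh N31210
def N45538 : Q := sm gh N31212
def N45539 : Q := sm gd N31213
def N45540 : Q := sm gi N31213
def N45541 : Q := sm gc N31214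
def N45542 : Q := sm ge N31214
def N45543 : Q := sm gi N31214
def N45544 : Q := sm gc N31216
def N45545 : Q := sm gi N31216
def N45547 : Q := sm gi N31218
def N45548 : Q := sm gh N31219
def N45549 : Q := sm ga N31220
def N45551 : Q := sm gh N31221
def N45552 : Q := sm gj N31223
def N45553 : Q := sm gh N31223
def N45554 : Q := sm gg N31224
def N45555 : Q := sm gh N31224
def N45556 : Q := sm gd N31225
def N45557 : Q := sm gi N31225
def N45558 : Q := sm gd N31226
def N45559 : Q := sm gi N31226
def N45560 : Q := sm gc N31227
def N45561 : Q := sm ge N31227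
def N45562 : Q := sm gi N31227
def N45563 : Q := sm gb N31229
def N45564 : Q := sm ge N31229
def N45565 : Q := sm gi N31229
def N45566 : Q := sm gf N31230
def N45567 : Q := sm gi N31230
def N45568 : Q := sm gh N31231
def N45569 : Q := sm gh N31232
def N45570 : Q := sm gd N31233
def N45571 : Q := sm gi N31233
def N45572 : Q := sm gc N31234
def N45573 : Q := sm ge N31234
def N45574 : Q := sm gi N31234
def N45575 : Q := sm gc N31236
def N45576 : Q := sm ge N31236
def N45577 : Q := sm gi N31236
def N45578 : Q := sm gb N31238
def N45579 : Q := sm ge N31238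
def N45580 : Q := sm gi N31238
def N45581 : Q := sm gf N31239
def N45582 : Q := sm gi N31239
def N45583 : Q := sm gh N31240
def N45584 : Q := sm ga N31241
def N45585 : Q := sm ge N31241
def N45586 : Q := sm gi N31241
def N45587 : Q := sm gf N31242
def N45588 : Q := sm gi N31242
def N45589 : Q := sm gh N31243
def N45592 : Q := sm gh N31245
def N45593 : Q := sm gf N31247
def N45594 : Q := sm gi N31247
def N45595 : Q := sm gh N31248
def N45597 : Q := sm gi N31249
def N45598 : Q := sm gh N31250
def N45599 : Q := sm gj N31252
def N45601 : Q := sm gh N31253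
def N45605 : Q := sm gd N31257
def N45606 : Q := sm gc N31258
def N45607 : Q := sm gd N31259
def N45608 : Q := sm gi N31259
def N45609 : Q := sm gc N31260
def N45610 : Q := sm ge N31260
def N45611 : Q := sm gi N31260
def N45612 : Q := sm gb N31262
def N45613 : Q := sm ge N31262
def N45614 : Q := sm gi N31262
def N45615 : Q := sm gi N31263
def N45616 : Q := sm gh N31264
def N45617 : Q := sm gb N31265
def N45618 : Q := sm gi N31265
def N45619 : Q := sm gh N31266
def N45620 : Q := sm ga N31267
def N45621 : Q := sm gi N31267
def N45622 : Q := sm gh N31268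
def N45623 : Q := sm gi N31270
def N45624 : Q := sm gh N31271
def N45625 : Q := sm gd N31272
def N45626 : Q := sm gc N31273
def N45627 : Q := sm ge N31273
def N45628 : Q := sm gi N31273
def N45629 : Q := sm gb N31275
def N45630 : Q := sm ge N31275
def N45631 : Q := sm gi N31275
def N45632 : Q := sm gi N31276
def N45633 : Q := sm gh N31277
def N45634 : Q := sm ga N31278
def N45635 : Q := sm ge N31278
def N45636 : Q := sm gi N31278
def N45637 : Q := sm gd N31279
def N45638 : Q := sm gi N31279
def N45639 : Q := sm gh N31280
def N45640 : Q := sm gh N31281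
def N45641 : Q := sm ga N31283
def N45642 : Q := sm gi N31283
def N45643 : Q := sm gh N31284
def N45644 : Q := sm gi N31286
def N45645 : Q := sm gh N31287
def N45646 : Q := sm gd N31288
def N45647 : Q := sm gh N31289
def N45648 : Q := sm gd N31290
def N45649 : Q := sm ge N31291
def N45650 : Q := sm gf N31292
def N45651 : Q := sm gj N31292
def N45652 : Q := sm gh N31292
def N45653 : Q := sm gd N31293
def N45654 : Q := sm gi N31293
def N45655 : Q := sm ge N31294
def N45656 : Q := sm gj N31294
def N45657 : Q := sm gh N31294
def N45658 : Q := sm gh N31295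
def N45659 : Q := sm gd N31296
def N45660 : Q := sm gi N31296
def N45662 : Q := sm ge N31297
def N45663 : Q := sm gi N31297
def N45664 : Q := sm gg N31299
def N45665 : Q := sm gh N31299
def N45666 : Q := sm gd N31300
def N45667 : Q := sm gi N31300
def N45668 : Q := sm gd N31301
def N45669 : Q := sm gi N31301
def N45670 : Q := sm gc N31302
def N45672 : Q := sm gi N31302
def N45673 : Q := sm gb N31304
def N45677 : Q := sm gi N31305
def N45678 : Q := sm gh N31306
def N45679 : Q := sm gc N31307
def N45683 : Q := sm gi N31309
def N45696 : Q := sm gi N31317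
def N45699 : Q := sm gh N31319
def N45703 : Q := sm gh N31322
def N45705 : Q := sm gj N31324
def N45706 : Q := sm gh N31324
def N45707 : Q := sm gg N31325
def N45708 : Q := sm gh N31325
def N45709 : Q := sm gd N31326
def N45710 : Q := sm gi N31326
def N45711 : Q := sm gd N31327
def N45712 : Q := sm gi N31327
def N45713 : Q := sm gc N31328
def N45714 : Q := sm ge N31328
def N45715 : Q := sm gi N31328
def N45716 : Q := sm gb N31330
def N45717 : Q := sm ge N31330
def N45718 : Q := sm gi N31330
def N45719 : Q := sm gf N31331
def N45720 : Q := sm gi N31331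
def N45721 : Q := sm gh N31332
def N45722 : Q := sm gh N31333
def N45723 : Q := sm gd N31334
def N45724 : Q := sm gi N31334
def N45725 : Q := sm gc N31335
def N45726 : Q := sm ge N31335
def N45727 : Q := sm gi N31335
def N45728 : Q := sm gc N31337
def N45729 : Q := sm ge N31337
def N45730 : Q := sm gi N31337
def N45731 : Q := sm gb N31339
def N45732 : Q := sm ge N31339
def N45733 : Q := sm gi N31339
def N45734 : Q := sm gf N31340
def N45735 : Q := sm gi N31340
def N45736 : Q := sm gh N31341
def N45737 : Q := sm ga N31342
def N45738 : Q := sm ge N31342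
def N45739 : Q := sm gi N31342
def N45740 : Q := sm gf N31343
def N45741 : Q := sm gi N31343
def N45742 : Q := sm gh N31344
def N45743 : Q := sm gg N31345
def N45744 : Q := sm gi N31345
def N45745 : Q := sm gh N31346
def N45746 : Q := sm gf N31348
def N45747 : Q := sm gi N31348
def N45749 : Q := sm gg N31350
def N45750 : Q := sm gi N31350
def N45751 : Q := sm gh N31351
def N45752 : Q := sm gj N31353
def N45753 : Q := sm gi N31353
def N45756 : Q := sm gi N31356
def N45760 : Q := sm gd N31360
def N45761 : Q := sm gi N31360
def N45762 : Q := sm gc N31361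
def N45763 : Q := sm ge N31361
def N45764 : Q := sm gi N31361
def N45765 : Q := sm gb N31363
def N45766 : Q := sm ge N31363
def N45767 : Q := sm gi N31363
def N45768 : Q := sm gi N31364
def N45769 : Q := sm gh N31365
def N45770 : Q := sm gb N31366
def N45771 : Q := sm gi N31366
def N45772 : Q := sm gh N31367
def N45773 : Q := sm ga N31368
def N45774 : Q := sm gi N31368
def N45775 : Q := sm gh N31369
def N45776 : Q := sm gi N31371
def N45777 : Q := sm gh N31372
def N45778 : Q := sm gd N31373
def N45779 : Q := sm gg N31374
def N45780 : Q := sm gh N31374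
def N45781 : Q := sm gd N31375
def N45782 : Q := sm gi N31375
def N45783 : Q := sm gh N31376
def N45784 : Q := sm gd N31377
def N45785 : Q := sm gi N31377
def N45786 : Q := sm gc N31378
def N45787 : Q := sm ge N31378
def N45788 : Q := sm gi N31378
def N45789 : Q := sm gc N31380
def N45790 : Q := sm ge N31380
def N45791 : Q := sm gi N31380
def N45792 : Q := sm gb N31382
def N45793 : Q := sm ge N31382
def N45794 : Q := sm gi N31382
def N45795 : Q := sm gf N31383
def N45796 : Q := sm gi N31383
def N45797 : Q := sm gh N31384
def N45798 : Q := sm ga N31385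
def N45799 : Q := sm ge N31385
def N45800 : Q := sm gi N31385
def N45801 : Q := sm gf N31386
def N45802 : Q := sm gi N31386
def N45803 : Q := sm gh N31387
def N45804 : Q := sm gg N31388
def N45805 : Q := sm gi N31388
def N45806 : Q := sm gh N31389
def N45807 : Q := sm gd N31391
def N45808 : Q := sm gi N31391
def N45809 : Q := sm gc N31392
def N45810 : Q := sm ge N31392
def N45811 : Q := sm gi N31392
def N45812 : Q := sm gb N31394
def N45813 : Q := sm ge N31394
def N45814 : Q := sm gi N31394
def N45815 : Q := sm gf N31395
def N45816 : Q := sm gi N31395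
def N45817 : Q := sm gh N31396
def N45818 : Q := sm gb N31397
def N45819 : Q := sm ge N31397
def N45820 : Q := sm gi N31397
def N45821 : Q := sm gf N31398
def N45822 : Q := sm gi N31398
def N45823 : Q := sm gh N31399
def N45824 : Q := sm ga N31400
def N45825 : Q := sm ge N31400
def N45826 : Q := sm gi N31400
def N45827 : Q := sm gf N31401
def N45828 : Q := sm gi N31401
def N45829 : Q := sm gh N31402
def N45830 : Q := sm gg N31403
def N45831 : Q := sm gi N31403
def N45832 : Q := sm gh N31404
def N45833 : Q := sm ge N31406
def N45834 : Q := sm gi N31406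
def N45835 : Q := sm gf N31407
def N45836 : Q := sm gi N31407
def N45837 : Q := sm gh N31408
def N45838 : Q := sm gg N31409
def N45839 : Q := sm gi N31409
def N45840 : Q := sm gh N31410
def N45841 : Q := sm gd N31411
def N45842 : Q := sm gj N31412
def N45843 : Q := sm gi N31412
def N45844 : Q := sm gh N31413
def N45845 : Q := sm gd N31414
def N45846 : Q := sm gg N31415
def N45847 : Q := sm gi N31415
def N45848 : Q := sm gh N31416
def N45849 : Q := sm gj N31418

end Cfsg.Agent.Helper28.FicA
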