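import Cfsg.Agent.Helper28.FicB39

/-! # The Fi₂₃ presentation, cosets of the subgroup generated by a, …, i: the coset enumeration, part 40 (helper28; generated) -/

set_option autoImplicit false

noncomputable section

namespace Cfsg.Agent.Helper28.FicA

open Cfsg.Agent.Helper28.CosetTable

theorem L722302 : sm ge N53365 = N51529 := ded_40_1 (flp_f L703120) (flp_e L681999) (flp_f L681945) L703036 L722292
theorem L722304 : sm gi N51520 = N53366 := rfl
theorem L722306 : sm ga N53366 = N51604 := ded_18_1 (flp_i L703853) (flp_a L703038) L722304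
theorem L722308 : sm gd N53366 = N51806 := ded_39_1 (flp_i L705986) (flp_d L703042) L722304
theorem L722310 : sm ge N53366 = N51521 := ded_44_1 (flp_i L703044) L703036 L722304
theorem L722312 : sm gj N53366 = N51526 := ded_53_1 (flp_i L703090) (flp_j L703040) L722304
theorem L722314 : sm gh N51521 = N53367 := rfl
theorem L722316 : sm ga N53367 = N51605 := ded_17_1 (flp_h L703861) (flp_a L703046) L722314
theorem L722318 : sm gf N53367 = N51531 := ded_47_1 (flp_h L703144) (flp_f L703050) L722314
theorem L722320 : sm gj N53367 = N51527 := ded_52_1 (flp_h L703100) (flp_j L703052) L722314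
theorem L722322 : sm ga N51522 = N53368 := rfl
theorem L722324 : sm gc N53368 = N51583 := ded_11_2 (flp_a L721847) L721849 L722322
theorem L722326 : sm gd N53368 = N51545 := ded_12_2 L703269 (flp_d L703056) L722322
theorem L722328 : sm gf N53368 = N51532 := ded_14_2 (flp_a L703150) (flp_f L703058) L722322
theorem L722330 : sm gg N53368 = N51529 := ded_15_2 L703122 (flp_g L703060) L722322
theorem L722332 : sm gj N53368 = N51587 := ded_16_2 (flp_a L722149) L722157 L722322
theorem L722334 : sm gh N53368 = N51616 := ded_17_2 (flp_a L722058) L722056 L722322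
theorem L722336 : sm gb N53368 = N51606 := ded_10_2 (flp_a L703867) (flp_b L682608) (flp_a L681963) L703054 L722322
theorem L722338 : sm ge N51522 = N53369 := rfl
theorem L722340 : sm gb N53369 = N51523 := ded_21_1 (flp_e L703062) L703054 L722338
theorem L722342 : sm gg N53369 = N51603 := ded_41_2 L703851 (flp_g L703060) L722338
theorem L722344 : sm gd N53369 = N51910 := ded_34_1 L707014 L685621 (flp_e L682227) (flp_d L703056) L722338
theorem L722346 : sm gi N51522 = N53370 := rfl
theorem L722348 : sm gb N53370 = N51524 := ded_26_1 (flp_i L703070) L703054 L722346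
theorem L722350 : sm gd N53370 = N51555 := ded_39_1 (flp_i L703381) (flp_d L703056) L722346
theorem L722352 : sm gf N53370 = N51533 := ded_48_1 (flp_i L703166) (flp_f L703058) L722346
theorem L722354 : sm gg N53370 = N51619 := ded_51_1 (flp_i L703989) (flp_g L703060) L722346
theorem L722356 : sm gf N51523 = N53371 := rfl
theorem L722358 : sm ga N53371 = N51610 := ded_14_1 (flp_f L703913) (flp_a L703064) L722356
theorem L722360 : sm gc N53371 = N51525 := ded_29_1 (flp_f L703082) (flp_c L703066) L722356
theorem L722362 : sm ge N53371 = N51534 := ded_40_1 (flp_f L703174) (flp_e L682025) (flp_f L681965) L703062 L722356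
theorem L722364 : sm gi N51523 = N53372 := rfl
theorem L722366 : sm ga N53372 = N51611 := ded_18_1 (flp_i L703919) (flp_a L703064) L722364
theorem L722368 : sm gc N53372 = N51526 := ded_33_1 (flp_i L703090) (flp_c L703066) L722364
theorem L722370 : sm ge N53372 = N51524 := ded_44_1 (flp_i L703070) L703062 L722364
theorem L722372 : sm gg N53372 = N52405 := ded_51_1 (flp_i L711776) (flp_g L703068) L722364
theorem L722374 : sm gh N51524 = N53373 := rfl
theorem L722376 : sm ga N53373 = N51612 := ded_17_1 (flp_h L703927) (flp_a L703072) L722374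
theorem L722378 : sm gc N53373 = N51527 := ded_32_1 (flp_h L703100) (flp_c L703074) L722374
theorem L722380 : sm gf N53373 = N51536 := ded_47_1 (flp_h L703192) (flp_f L703078) L722374
theorem L722382 : sm gg N53373 = N52406 := ded_50_1 (flp_h L711784) (flp_g L703080) L722374
theorem L722384 : sm gi N51525 = N53374 := rfl
theorem L722386 : sm ga N53374 = N51614 := ded_18_1 (flp_i L703943) (flp_a L703084) L722384
theorem L722388 : sm gd N53374 = N51814 := ded_39_1 (flp_i L706066) (flp_d L703086) L722384
theorem L722390 : sm ge N53374 = N51537 := ded_44_1 (flp_i L703200) (flp_e L703088) L722384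
theorem L722392 : sm gf N53374 = N51526 := ded_48_1 (flp_i L703090) L703082 L722384
theorem L722394 : sm gh N51526 = N53375 := rfl
theorem L722396 : sm ga N53375 = N51615 := ded_17_1 (flp_h L703951) (flp_a L703092) L722394
theorem L722398 : sm ge N53375 = N51527 := ded_43_1 (flp_h L703100) (flp_e L703096) L722394
theorem L722400 : sm gg N53375 = N52407 := ded_50_1 (flp_h L711792) (flp_g L703098) L722394
theorem L722402 : sm gh N51528 = N53376 := rfl
theorem L722404 : sm ga N53376 = N51618 := ded_17_1 (flp_h L703979) (flp_a L703110) L722402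
theorem L722406 : sm gc N53376 = N51531 := ded_32_1 (flp_h L703144) (flp_c L703112) L722402
theorem L722408 : sm gg N53376 = N52383 := ded_50_1 (flp_h L711617) (flp_g L703116) L722402
theorem L722410 : sm gj N53376 = N51536 := ded_52_1 (flp_h L703192) (flp_j L703118) L722402
theorem L722412 : sm gi N51529 = N53377 := rfl
theorem L722414 : sm ga N53377 = N51619 := ded_18_1 (flp_i L703989) (flp_a L703122) L722412
theorem L722416 : sm gb N53377 = N52437 := ded_26_1 (flp_i L711995) (flp_b L703124) L722412
theorem L722418 : sm gd N53377 = N51546 := ded_39_1 (flp_i L703281) (flp_d L703126) L722412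
theorem L722420 : sm gf N53377 = N51530 := ded_48_1 (flp_i L703130) L703120 L722412
theorem L722422 : sm gj N53377 = N51537 := ded_53_1 (flp_i L703200) (flp_j L703128) L722412
theorem L722424 : sm gh N51530 = N53378 := rfl
theorem L722426 : sm ga N53378 = N51620 := ded_17_1 (flp_h L703999) (flp_a L703132) L722424
theorem L722428 : sm gb N53378 = N52454 := ded_25_1 (flp_h L712103) (flp_b L703134) L722424
theorem L722430 : sm ge N53378 = N51531 := ded_43_1 (flp_h L703144) (flp_e L703138) L722424
theorem L722432 : sm gg N53378 = N52409 := ded_50_1 (flp_h L711806) (flp_g L703140) L722424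
theorem L722434 : sm gj N53378 = N51538 := ded_52_1 (flp_h L703208) (flp_j L703142) L722424
theorem L722436 : sm gi N51532 = N53379 := rfl
theorem L722438 : sm ga N53379 = N51533 := ded_18_1 (flp_i L703166) L703150 L722436
theorem L722440 : sm gb N53379 = N51621 := ded_26_1 (flp_i L704009) (flp_b L703164) L722436
theorem L722442 : sm gc N53379 = N51584 := ded_33_1 (flp_i L703674) (flp_c L703152) L722436
theorem L722444 : sm gd N53379 = N51560 := ded_39_1 (flp_i L703444) (flp_d L703154) L722436
theorem L722446 : sm ge N53379 = N51582 := ded_44_1 (flp_i L703654) (flp_e L703156) L722436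
theorem L722448 : sm gg N53379 = N51539 := ded_51_1 (flp_i L703216) (flp_g L703158) L722436
theorem L722450 : sm gj N53379 = N51588 := ded_53_1 (flp_i L703716) (flp_j L703160) L722436
theorem L722452 : sm gh N51533 = N53380 := rfl
theorem L722454 : sm gb N53380 = N51536 := ded_25_1 (flp_h L703192) (flp_b L703168) L722452
theorem L722456 : sm gg N53380 = N51541 := ded_50_1 (flp_h L703239) (flp_g L703172) L722452
theorem L722458 : sm gi N51534 = N53381 := rfl
theorem L722460 : sm ga N53381 = N51626 := ded_18_1 (flp_i L704068) (flp_a L703176) L722458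
theorem L722462 : sm gc N53381 = N51537 := ded_33_1 (flp_i L703200) (flp_c L703178) L722458
theorem L722464 : sm gd N53381 = N53381 := ded_39_1 (flp_i L722458) L703180 L722458
theorem L722465 : sm gf N53381 = N51535 := ded_48_1 (flp_i L703181) L703174 L722458
theorem L722467 : sm gh N51535 = N53382 := rfl
theorem L722469 : sm ga N53382 = N51627 := ded_17_1 (flp_h L704075) (flp_a L703183) L722467
theorem L722471 : sm gc N53382 = N51538 := ded_32_1 (flp_h L703208) (flp_c L703185) L722467
theorem L722473 : sm ge N53382 = N51536 := ded_43_1 (flp_h L703192) (flp_e L703188) L722467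
theorem L722475 : sm gg N53382 = N51542 := ded_50_1 (flp_h L703245) (flp_g L703190) L722467
theorem L722477 : sm gd N51536 = N53383 := rfl
theorem L722479 : sm ga N53383 = N51628 := ded_12_1 (flp_d L704083) (flp_a L703194) L722477
theorem L722481 : sm gg N53383 = N51543 := ded_36_2 (flp_d L703253) (flp_g L703198) L722477
theorem L722483 : sm gh N53383 = N51562 := ded_38_2 (flp_d L703467) (flp_h L682319) (flp_d L682040) L703192 L722477
theorem L722485 : sm gh N51537 = N53384 := rfl
theorem L722487 : sm ga N53384 = N51631 := ded_17_1 (flp_h L704103) (flp_a L703202) L722485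
theorem L722489 : sm gf N53384 = N51538 := ded_47_1 (flp_h L703208) (flp_f L703206) L722485
theorem L722491 : sm gd N51538 = N53385 := rfl
theorem L722493 : sm ga N53385 = N51632 := ded_12_1 (flp_d L704107) (flp_a L703210) L722491
theorem L722495 : sm gg N53385 = N51544 := ded_36_2 (flp_d L703261) (flp_g L703214) L722491
theorem L722497 : sm gh N53385 = N51549 := ded_38_2 (flp_d L703318) (flp_h L682168) (flp_d L682054) L703208 L722491
theorem L722499 : sm gh N51539 = N53386 := rfl
theorem L722501 : sm ga N53386 = N51541 := ded_17_1 (flp_h L703239) (flp_a L703218) L722499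
theorem L722503 : sm gb N53386 = N51633 := ded_25_1 (flp_h L704113) (flp_b L703220) L722499
theorem L722505 : sm gc N53386 = N52399 := ded_32_1 (flp_h L711729) (flp_c L703222) L722499
theorem L722507 : sm ge N53386 = N52369 := ded_43_1 (flp_h L711521) (flp_e L703226) L722499
theorem L722509 : sm gf N53386 = N52409 := ded_47_1 (flp_h L711806) (flp_f L703228) L722499
theorem L722511 : sm gi N53386 = N52384 := ded_54_2 (flp_h L711621) (flp_i L690687) (flp_h L682074) L703216 L722499
theorem L722513 : sm gh N51540 = N53387 := rfl
theorem L722515 : sm ga N53387 = N52369 := ded_17_1 (flp_h L711521) (flp_a L703232) L722513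
theorem L722517 : sm gb N53387 = N51542 := ded_25_1 (flp_h L703245) (flp_b L703234) L722513
theorem L722519 : sm ge N53387 = N51541 := ded_43_1 (flp_h L703239) (flp_e L703237) L722513
theorem L722521 : sm gi N53387 = N52383 := ded_54_2 (flp_h L711617) (flp_i L690681) (flp_h L682086) L703230 L722513
theorem L722523 : sm gd N51541 = N53388 := rfl
theorem L722525 : sm gb N53388 = N51543 := ded_20_1 (flp_d L703253) (flp_b L703241) L722523
theorem L722527 : sm gf N53388 = N52410 := ded_35_2 (flp_d L711812) (flp_f L703243) L722523
theorem L722529 : sm gh N53388 = N51564 := ded_38_2 (flp_d L703485) (flp_h L682339) (flp_d L682093) L703239 L722523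
theorem L722531 : sm gd N51542 = N53389 := rfl
theorem L722533 : sm ga N53389 = N51638 := ded_12_1 (flp_d L704162) (flp_a L703247) L722531
theorem L722535 : sm gf N53389 = N52425 := ded_35_2 (flp_d L715302) L715298 L722531
theorem L722537 : sm gi N53389 = N52472 := ded_39_2 (flp_d L722232) L722234 L722531
theorem L722539 : sm gh N53389 = N53389 := ded_38_2 (flp_d L722531) (flp_h L703245) L682103 L703245 L722531
theorem L722540 : sm ge N51543 = N53390 := rfl
theorem L722542 : sm ga N53390 = N51639 := ded_13_1 (flp_e L704165) (flp_a L703255) L722540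
theorem L722544 : sm gc N53390 = N52410 := ded_28_1 (flp_e L721026) L721024 L722540
theorem L722546 : sm gh N53390 = N51565 := ded_43_2 (flp_e L703492) (flp_h L703259) L722540
theorem L722548 : sm gc N51544 = N53391 := rfl
theorem L722550 : sm ga N53391 = N51643 := ded_11_1 (flp_c L704191) (flp_a L703263) L722548
theorem L722552 : sm ge N53391 = N52385 := ded_28_2 (flp_c L721036) L721038 L722548
theorem L722554 : sm gh N53391 = N51550 := ded_32_2 (flp_c L703325) (flp_h L703265) L722548
theorem L722556 : sm gb N53391 = N52387 := ded_19_1 L711640 (flp_b L712207) L721605 L721597 L722548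
theorem L722558 : sm gi N51545 = N53392 := rfl
theorem L722560 : sm ga N53392 = N51555 := ded_18_1 (flp_i L703381) (flp_a L703269) L722558
theorem L722562 : sm gb N53392 = N51658 := ded_26_1 (flp_i L704332) (flp_b L703271) L722558
theorem L722564 : sm gc N53392 = N53392 := ded_33_1 (flp_i L722558) L703273 L722558
theorem L722565 : sm ge N53392 = N51829 := ded_44_1 (flp_i L706214) (flp_e L703274) L722558
theorem L722567 : sm gf N53392 = N51560 := ded_48_1 (flp_i L703444) (flp_f L703277) L722558
theorem L722569 : sm gg N53392 = N51546 := ded_51_1 (flp_i L703281) L703267 L722558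
theorem L722571 : sm gj N53392 = N52358 := ded_53_1 (flp_i L711435) (flp_j L703279) L722558
theorem L722573 : sm gh N51546 = N53393 := rfl
theorem L722575 : sm ga N53393 = N51644 := ded_17_1 (flp_h L704195) (flp_a L703283) L722573
theorem L722577 : sm gb N53393 = N52476 := ded_25_1 (flp_h L712254) (flp_b L703285) L722573
theorem L722579 : sm gc N53393 = N53393 := ded_32_1 (flp_h L722573) L703287 L722573
theorem L722580 : sm ge N53393 = N51830 := ded_43_1 (flp_h L706222) (flp_e L703288) L722573
theorem L722582 : sm gf N53393 = N51547 := ded_47_1 (flp_h L703294) (flp_f L703290) L722573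
theorem L722584 : sm gj N53393 = N51548 := ded_52_1 (flp_h L703308) (flp_j L703292) L722573
theorem L722586 : sm gi N53393 = N53393 := ded_54_2 (flp_h L722573) (flp_i L703281) L682129 L703281 L722573
theorem L722587 : sm gd N51548 = N53394 := rfl
theorem L722589 : sm ga N53394 = N51648 := ded_12_1 (flp_d L704239) (flp_a L703310) L722587
theorem L722591 : sm gf N53394 = N51549 := ded_35_2 (flp_d L703318) (flp_f L703315) L722587
theorem L722593 : sm gi N53394 = N53394 := ded_39_2 (flp_d L722587) L703317 L722587
theorem L722594 : sm gc N51549 = N53395 := rfl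
theorem L722596 : sm ga N53395 = N51649 := ded_11_1 (flp_c L704244) (flp_a L703320) L722594
theorem L722598 : sm ge N53395 = N51667 := ded_28_2 (flp_c L721070) L721072 L722594
theorem L722600 : sm gg N53395 = N51550 := ded_30_2 (flp_c L703325) (flp_g L703322) L722594
theorem L722602 : sm gj N53395 = N51670 := ded_31_2 (flp_c L721747) L721751 L722594
theorem L722604 : sm gi N53395 = N53395 := ded_33_2 (flp_c L722594) L703324 L722594
theorem L722605 : sm gb N53395 = N52392 := ded_19_1 L711676 (flp_b L712333) (flp_c L721669) L721662 L722594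
theorem L722607 : sm gd N53395 = N53395 := ded_27_2 (flp_c L722594) (flp_d L703318) L682172 L703318 L722594
theorem L722608 : sm gi N51551 = N53396 := rfl
theorem L722610 : sm ga N53396 = N52358 := ded_18_1 (flp_i L711435) (flp_a L703346) L722608
theorem L722612 : sm gb N53396 = N51552 := ded_26_1 (flp_i L703349) L703335 L722608
theorem L722614 : sm gc N53396 = N53396 := ded_33_1 (flp_i L722608) L703348 L722608
theorem L722615 : sm ge N53396 = N51969 := ded_44_1 (flp_i L707494) (flp_e L703337) L722608
theorem L722617 : sm gf N53396 = N51558 := ded_48_1 (flp_i L703416) (flp_f L703339) L722608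
theorem L722619 : sm gg N53396 = N51646 := ded_51_1 (flp_i L704216) (flp_g L703341) L722608
theorem L722621 : sm gj N53396 = N51555 := ded_53_1 (flp_i L703381) (flp_j L703343) L722608
theorem L722623 : sm gh N52727 = N53396 := ded_47_0 L722617 (flp_h L703428) (flp_f L714119)
theorem L722625 : sm gh N51552 = N53397 := rfl
theorem L722627 : sm ga N53397 = N51655 := ded_17_1 (flp_h L704297) (flp_a L703351) L722625
theorem L722629 : sm gb N53397 = N52727 := ded_25_1 L722623 L722612 L722625
theorem L722631 : sm gc N53397 = N51554 := ded_32_1 (flp_h L703371) (flp_c L703353) L722625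
theorem L722633 : sm gf N53397 = N51559 := ded_47_1 (flp_h L703430) (flp_f L703355) L722625
theorem L722635 : sm gg N53397 = N52726 := ded_50_1 L716017 L716013 L722625
theorem L722637 : sm gj N53397 = N51556 := ded_52_1 (flp_h L703392) (flp_j L703357) L722625
theorem L722639 : sm gi N53397 = N53397 := ded_54_2 (flp_h L722625) (flp_i L703349) L682202 L703349 L722625
theorem L722640 : sm gh N51553 = N53398 := rfl
theorem L722642 : sm ga N53398 = N51656 := ded_17_1 (flp_h L704308) (flp_a L703361) L722640
theorem L722644 : sm gb N53398 = N53398 := ded_25_1 (flp_h L722640) L703363 L722640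
theorem L722645 : sm ge N53398 = N51554 := ded_43_1 (flp_h L703371) (flp_e L703366) L722640
theorem L722647 : sm gf N53398 = N53398 := ded_47_1 (flp_h L722640) L703368 L722640
theorem L722648 : sm gj N53398 = N51557 := ded_52_1 (flp_h L703403) (flp_j L703369) L722640
theorem L722650 : sm gd N53398 = N52706 := ded_38_1 (flp_h L713981) L693382 (flp_h L685009) (flp_d L703364) L722640
theorem L722652 : sm gi N53398 = N53398 := ded_54_2 (flp_h L722640) (flp_i L703359) L682210 L703359 L722640
theorem L722653 : sm gh N51555 = N53399 := rfl
theorem L722655 : sm gb N53399 = N51556 := ded_25_1 (flp_h L703392) (flp_b L703383) L722653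
theorem L722657 : sm gc N53399 = N53399 := ded_32_1 (flp_h L722653) L703385 L722653
theorem L722658 : sm ge N53399 = N51970 := ded_43_1 (flp_h L707502) (flp_e L703386) L722653
theorem L722660 : sm gf N53399 = N51561 := ded_47_1 (flp_h L703456) (flp_f L703388) L722653
theorem L722662 : sm gg N53399 = N51644 := ded_50_1 (flp_h L704195) (flp_g L703390) L722653
theorem L722664 : sm gj N53399 = N52727 := ded_52_1 L722623 L722621 L722653
theorem L722666 : sm gi N53399 = N53399 := ded_54_2 (flp_h L722653) (flp_i L703381) L682233 L703381 L722653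
theorem L722667 : sm gd N51556 = N53400 := rfl
theorem L722669 : sm ga N53400 = N51665 := ded_12_1 (flp_d L704408) (flp_a L703394) L722667
theorem L722671 : sm gf N53400 = N51562 := ded_35_2 (flp_d L703467) (flp_f L703398) L722667
theorem L722673 : sm gg N53400 = N52413 := ded_36_2 (flp_d L711836) (flp_g L703400) L722667
theorem L722675 : sm gi N53400 = N53400 := ded_39_2 (flp_d L722667) L703402 L722667
theorem L722676 : sm gh N51560 = N53401 := rfl
theorem L722678 : sm ga N53401 = N51561 := ded_17_1 (flp_h L703456) (flp_a L703446) L722676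
theorem L722680 : sm gb N53401 = N51668 := ded_25_1 (flp_h L704438) (flp_b L703448) L722676
theorem L722682 : sm gc N53401 = N53401 := ded_32_1 (flp_h L722676) L703450 L722676
theorem L722683 : sm ge N53401 = N53401 := ded_43_1 (flp_h L722676) L703451 L722676
theorem L722684 : sm gg N53401 = N51563 := ded_50_1 (flp_h L703474) (flp_g L703452) L722676
theorem L722686 : sm gj N53401 = N52360 := ded_52_1 (flp_h L711451) (flp_j L703454) L722676
theorem L722688 : sm gi N53401 = N53401 := ded_54_2 (flp_h L722676) (flp_i L703444) L682308 L703444 L722676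
theorem L722689 : sm gd N51561 = N53402 := rfl
theorem L722691 : sm gb N53402 = N51562 := ded_20_1 (flp_d L703467) (flp_b L703458) L722689
theorem L722693 : sm gg N53402 = N51564 := ded_36_2 (flp_d L703485) (flp_g L703462) L722689
theorem L722695 : sm gj N53402 = N52489 := ded_37_2 L712347 (flp_j L703464) L722689
theorem L722697 : sm gi N53402 = N53402 := ded_39_2 (flp_d L722689) L703466 L722689
theorem L722698 : sm ge N51562 = N53403 := rfl
theorem L722700 : sm ga N53403 = N51670 := ded_13_1 (flp_e L704461) (flp_a L703469) L722698
theorem L722702 : sm gc N53403 = N51645 := ded_28_1 (flp_e L721104) L721102 L722698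
theorem L722704 : sm gg N53403 = N51565 := ded_41_2 (flp_e L703492) (flp_g L703471) L722698
theorem L722706 : sm gj N53403 = N51649 := ded_42_2 (flp_e L721647) L721651 L722698
theorem L722708 : sm gi N53403 = N53403 := ded_44_2 (flp_e L722698) L703473 L722698
theorem L722709 : sm gd N53403 = N53403 := ded_34_1 (flp_e L722698) (flp_d L703467) L682325 L703467 L722698
theorem L722710 : sm gc N51564 = N53404 := rfl
theorem L722712 : sm ga N53404 = N51652 := ded_11_1 (flp_c L716084) L716082 L722710
theorem L722714 : sm gf N53404 = N51565 := ded_29_2 L703496 (flp_f L703489) L722710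
theorem L722716 : sm gi N53404 = N53404 := ded_33_2 (flp_c L722710) L703491 L722710
theorem L722717 : sm gb N53404 = N52363 := ded_19_1 L711484 (flp_b L701914) L701919 (flp_b L703487) L722710
theorem L722719 : sm gd N53404 = N53404 := ded_27_2 (flp_c L722710) (flp_d L703485) L682343 L703485 L722710
theorem L722720 : sm ge N52362 = N53404 := ded_56_2 L722719 (flp_c L722710) L703487 L682350 (flp_h L682837) L682835 L691313 (flp_d L712221) (flp_c L714980) L714978 (flp_a L720812) (flp_h L720810) L701634 L687613 L665302 L376992 L259271 L178468 L259276 L634803 L180698 L124514 L88472 (flp_b L128100) (flp_a L185691) L185699 L185694 L648000 (flp_d L351245) L351243 L244771 (flp_a L248181) L360755 L360760 (flp_e L550569) L355071 (flp_c L351269) L351268 (flp_a L651356) (flp_h L651354) L648182 (flp_e L381958) L381956 (flp_c L381723) L648931 L648216 L375831 (flp_f L355569) L355568 (flp_d L653647) L653645 (flp_b L664920) L664918 L668560 (flp_f L681780) (flp_e L702331) L721595 (flp_c L721605) L712207 (flp_a L711820) L711822 (flp_f L711477)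
theorem L722722 : sm ge N51564 = N53405 := rfl
theorem L722724 : sm ga N53405 = N52393 := ded_13_1 (flp_e L716077) L716082 L722722
theorem L722726 : sm gb N53405 = N51565 := ded_21_1 (flp_e L703492) (flp_b L703487) L722722
theorem L722728 : sm gc N53405 = N52362 := ded_28_1 L722720 (flp_c L722710) L722722
theorem L722730 : sm gi N53405 = N53405 := ded_44_2 (flp_e L722722) L703491 L722722
theorem L722731 : sm gd N53405 = N53405 := ded_34_1 (flp_e L722722) (flp_d L703485) L682344 L703485 L722722
theorem L722732 : sm gf N53405 = N52363 := ded_40_2 (flp_e L711480) (flp_f L701916) L701921 (flp_f L703489) L722722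
theorem L722734 : sm gc N51566 = N53406 := rfl
theorem L722736 : sm ga N53406 = N52304 := ded_11_1 (flp_c L721961) L721950 L722734
theorem L722738 : sm gf N53406 = N53406 := ded_29_2 (flp_c L722734) L703504 L722734
theorem L722739 : sm gg N53406 = N52281 := ded_30_2 L710783 (flp_g L703505) L722734
theorem L722741 : sm gj N53406 = N51568 := ded_31_2 (flp_c L703523) (flp_j L703507) L722734
theorem L722743 : sm gh N53406 = N51847 := ded_32_2 (flp_c L706433) (flp_h L703509) L722734
theorem L722745 : sm gd N53406 = N53406 := ded_27_2 (flp_c L722734) (flp_d L703500) L682359 L703500 L722734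
theorem L722746 : sm ge N51566 = N53407 := rfl
theorem L722748 : sm gb N53407 = N52643 := ded_21_1 L713522 (flp_b L703502) L722746
theorem L722750 : sm gg N53407 = N52261 := ded_41_2 L710591 (flp_g L703505) L722746
theorem L722752 : sm gj N53407 = N51569 := ded_42_2 (flp_e L703531) (flp_j L703507) L722746
theorem L722754 : sm gh N53407 = N51848 := ded_43_2 (flp_e L706442) (flp_h L703509) L722746
theorem L722756 : sm gd N53407 = N51574 := ded_34_1 (flp_e L703588) (flp_d L682399) (flp_e L682360) L703500 L722746
theorem L722758 : sm gi N51566 = N53408 := rfl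
theorem L722760 : sm gb N53408 = N52678 := ded_26_1 (flp_i L713757) (flp_b L703502) L722758
theorem L722762 : sm gd N53408 = N51567 := ded_39_1 (flp_i L703511) L703500 L722758
theorem L722764 : sm gf N53408 = N53408 := ded_48_1 (flp_i L722758) L703504 L722758
theorem L722765 : sm gg N53408 = N52286 := ded_51_1 (flp_i L710814) (flp_g L703505) L722758
theorem L722767 : sm gj N53408 = N51570 := ded_53_1 (flp_i L703541) (flp_j L703507) L722758
theorem L722769 : sm gb N51568 = N53409 := rfl
theorem L722771 : sm gd N53409 = N53409 := ded_20_2 (flp_b L722769) L703530 L722769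
theorem L722772 : sm gf N53409 = N53409 := ded_22_2 (flp_b L722769) L703525 L722769
theorem L722773 : sm gg N53409 = N52267 := ded_23_2 L710640 (flp_g L703526) L722769
theorem L722775 : sm gh N53409 = N51850 := ded_25_2 (flp_b L706455) (flp_h L703528) L722769
theorem L722777 : sm gc N53409 = N52186 := ded_19_2 L709899 L688870 (flp_b L682369) L703523 L722769
theorem L722779 : sm ge N51568 = N53410 := rfl
theorem L722781 : sm gc N53410 = N51569 := ded_28_1 (flp_e L703531) L703523 L722779
theorem L722783 : sm gg N53410 = N52243 := ded_41_2 L710462 (flp_g L703526) L722779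
theorem L722785 : sm gh N53410 = N51851 := ded_43_2 (flp_e L706462) (flp_h L703528) L722779
theorem L722787 : sm gi N51568 = N53411 := rfl
theorem L722789 : sm gc N53411 = N51570 := ded_33_1 (flp_i L703541) L703523 L722787
theorem L722791 : sm gd N53411 = N53411 := ded_39_1 (flp_i L722787) L703530 L722787
theorem L722792 : sm gf N53411 = N53411 := ded_48_1 (flp_i L722787) L703525 L722787
theorem L722793 : sm gg N53411 = N52270 := ded_51_1 (flp_i L710670) (flp_g L703526) L722787
theorem L722795 : sm gf N51569 = N53412 := rfl
theorem L722797 : sm gb N53412 = N52633 := ded_22_1 L713439 (flp_b L703533) L722795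
theorem L722799 : sm gd N53412 = N51579 := ded_35_1 (flp_f L703634) (flp_d L703539) L722795
theorem L722801 : sm gh N53412 = N51853 := ded_47_2 (flp_f L706477) (flp_h L703537) L722795
theorem L722803 : sm ge N53412 = N53412 := ded_40_1 (flp_f L722795) (flp_e L703531) L682371 L703531 L722795
theorem L722804 : sm gg N53412 = N52237 := ded_45_2 (flp_f L710408) L689323 L689360 (flp_g L703535) L722795
theorem L722806 : sm gi N51569 = N53413 := rfl
theorem L722808 : sm gb N53413 = N52644 := ded_26_1 (flp_i L713526) (flp_b L703533) L722806
theorem L722810 : sm gd N53413 = N51580 := ded_39_1 (flp_i L703640) (flp_d L703539) L722806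
theorem L722812 : sm ge N53413 = N51570 := ded_44_1 (flp_i L703541) L703531 L722806
theorem L722814 : sm gg N53413 = N52246 := ded_51_1 (flp_i L710480) (flp_g L703535) L722806
theorem L722816 : sm gh N51570 = N53414 := rfl
theorem L722818 : sm gb N53414 = N52679 := ded_25_1 (flp_h L713766) (flp_b L703543) L722816
theorem L722820 : sm gf N53414 = N53414 := ded_47_1 (flp_h L722816) L703547 L722816
theorem L722821 : sm gg N53414 = N52273 := ded_50_1 (flp_h L710697) (flp_g L703548) L722816
theorem L722823 : sm gi N53414 = N51855 := ded_54_2 (flp_h L706490) (flp_i L685126) (flp_h L682374) L703541 L722816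
theorem L722825 : sm ge N51571 = N53415 := rfl
theorem L722827 : sm gb N53415 = N52448 := ded_21_1 L712071 (flp_b L703552) L722825
theorem L722829 : sm gg N53415 = N51574 := ded_41_2 (flp_e L703588) (flp_g L703556) L722825
theorem L722831 : sm gj N53415 = N52074 := ded_42_2 L708730 (flp_j L703558) L722825
theorem L722833 : sm gh N53415 = N51599 := ded_43_2 (flp_e L703807) (flp_h L703560) L722825
theorem L722835 : sm gd N53415 = N52261 := ded_34_1 L710591 L689614 (flp_e L682391) L703550 L722825
theorem L722837 : sm gi N51571 = N53416 := rfl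
theorem L722839 : sm gb N53416 = N52462 := ded_26_1 (flp_i L712163) (flp_b L703552) L722837
theorem L722841 : sm gd N53416 = N51572 := ded_39_1 (flp_i L703562) L703550 L722837
theorem L722843 : sm gf N53416 = N52092 := ded_48_1 (flp_i L708892) (flp_f L703554) L722837
theorem L722845 : sm gg N53416 = N51575 := ded_51_1 (flp_i L703594) (flp_g L703556) L722837
theorem L722847 : sm gj N53416 = N52086 := ded_53_1 (flp_i L708848) (flp_j L703558) L722837
theorem L722849 : sm ge N51573 = N53417 := rfl
theorem L722851 : sm gb N53417 = N52364 := ded_21_1 (flp_e L711488) (flp_b L703585) L722849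
theorem L722853 : sm gc N53417 = N51574 := ded_28_1 (flp_e L703588) L703577 L722849
theorem L722855 : sm gj N53417 = N51577 := ded_42_2 (flp_e L703617) (flp_j L703581) L722849
theorem L722857 : sm gh N53417 = N51601 := ded_43_2 (flp_e L703823) (flp_h L703583) L722849
theorem L722859 : sm gi N51573 = N53418 := rfl
theorem L722861 : sm gb N53418 = N52365 := ded_26_1 (flp_i L711494) (flp_b L703585) L722859
theorem L722863 : sm gc N53418 = N51575 := ded_33_1 (flp_i L703594) L703577 L722859
theorem L722865 : sm gd N53418 = N53418 := ded_39_1 (flp_i L722859) L703587 L722859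
theorem L722866 : sm gf N53418 = N51582 := ded_48_1 (flp_i L703654) (flp_f L703579) L722859
theorem L722868 : sm gj N53418 = N51578 := ded_53_1 (flp_i L703625) (flp_j L703581) L722859
theorem L722870 : sm gf N51574 = N53419 := rfl
theorem L722872 : sm gb N53419 = N52394 := ded_22_1 (flp_f L715599) L715587 L722870
theorem L722874 : sm gj N53419 = N51579 := ded_46_2 (flp_f L703634) (flp_j L703590) L722870
theorem L722876 : sm gh N53419 = N51603 := ded_47_2 (flp_f L703843) (flp_h L703592) L722870
theorem L722878 : sm ge N53419 = N51583 := ded_40_1 (flp_f L703665) (flp_e L682448) (flp_f L682401) L703588 L722870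
theorem L722880 : sm gi N51574 = N53420 := rfl
theorem L722882 : sm ge N53420 = N51575 := ded_44_1 (flp_i L703594) L703588 L722880
theorem L722884 : sm gj N53420 = N51580 := ded_53_1 (flp_i L703640) (flp_j L703590) L722880
theorem L722886 : sm gh N51575 = N53421 := rfl
theorem L722888 : sm gf N53421 = N51585 := ded_47_1 (flp_h L703685) (flp_f L703598) L722886
theorem L722890 : sm gj N53421 = N51581 := ded_52_1 (flp_h L703646) (flp_j L703600) L722886
theorem L722892 : sm gi N53421 = N51605 := ded_54_2 (flp_h L703861) (flp_i L682600) (flp_h L682405) L703594 L722886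
theorem L722894 : sm ge N51576 = N53422 := rfl
theorem L722896 : sm ga N53422 = N52374 := ded_13_1 L711560 L703615 L722894
theorem L722898 : sm gb N53422 = N51577 := ded_21_1 (flp_e L703617) L703602 L722894
theorem L722900 : sm gc N53422 = N52050 := ded_28_1 (flp_e L708462) (flp_c L703613) L722894
theorem L722902 : sm gg N53422 = N52415 := ded_41_2 (flp_e L711852) (flp_g L703607) L722894
theorem L722904 : sm gj N53422 = N52364 := ded_42_2 (flp_e L711488) (flp_j L703609) L722894
theorem L722906 : sm gh N53422 = N51607 := ded_43_2 (flp_e L703881) (flp_h L703611) L722894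
theorem L722908 : sm gf N53422 = N52351 := ded_40_2 (flp_e L711371) L690414 L682478 (flp_f L703605) L722894
theorem L722910 : sm gi N51576 = N53423 := rfl
theorem L722912 : sm ga N53423 = N52379 := ded_18_1 (flp_i L711588) L703615 L722910
theorem L722914 : sm gb N53423 = N51578 := ded_26_1 (flp_i L703625) L703602 L722910
theorem L722916 : sm gc N53423 = N52051 := ded_33_1 (flp_i L708476) (flp_c L703613) L722910
theorem L722918 : sm gd N53423 = N53423 := ded_39_1 (flp_i L722910) L703604 L722910
theorem L722919 : sm gf N53423 = N51586 := ded_48_1 (flp_i L703691) (flp_f L703605) L722910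
theorem L722921 : sm gg N53423 = N52416 := ded_51_1 (flp_i L711858) (flp_g L703607) L722910
theorem L722923 : sm gj N53423 = N52365 := ded_53_1 (flp_i L711494) (flp_j L703609) L722910
theorem L722925 : sm gd N51577 = N53424 := rfl
theorem L722927 : sm gg N53424 = N52417 := ded_36_2 (flp_d L711865) (flp_g L703621) L722925
theorem L722929 : sm ge N53424 = N53424 := ded_34_2 (flp_d L722925) (flp_e L703617) L682422 L703617 L722925
theorem L722930 : sm gf N51577 = N53425 := rfl
theorem L722932 : sm gb N53425 = N52351 := ded_22_1 (flp_f L722908) L722898 L722930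
theorem L722934 : sm gc N53425 = N51579 := ded_29_1 (flp_f L703634) (flp_c L703619) L722930
theorem L722936 : sm gh N53425 = N51610 := ded_47_2 (flp_f L703913) (flp_h L703623) L722930
theorem L722938 : sm ge N53425 = N51587 := ded_40_1 (flp_f L703706) (flp_e L682480) (flp_f L682416) L703617 L722930
theorem L722940 : sm gi N51577 = N53426 := rfl
theorem L722942 : sm gc N53426 = N51580 := ded_33_1 (flp_i L703640) (flp_c L703619) L722940
theorem L722944 : sm ge N53426 = N51578 := ded_44_1 (flp_i L703625) L703617 L722940
theorem L722946 : sm gg N53426 = N52418 := ded_51_1 (flp_i L711868) (flp_g L703621) L722940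
theorem L722948 : sm gh N51578 = N53427 := rfl
theorem L722950 : sm gc N53427 = N51581 := ded_32_1 (flp_h L703646) (flp_c L703627) L722948
theorem L722952 : sm gf N53427 = N51589 := ded_47_1 (flp_h L703728) (flp_f L703630) L722948
theorem L722954 : sm gg N53427 = N52419 := ded_50_1 (flp_h L711874) (flp_g L703632) L722948
theorem L722956 : sm gi N53427 = N51612 := ded_54_2 (flp_h L703927) (flp_i L682626) (flp_h L682420) L703625 L722948
theorem L722958 : sm gg N51579 = N53428 := rfl
theorem L722960 : sm gb N53428 = N52428 := ded_23_1 (flp_g L715633) L715621 L722958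
theorem L722962 : sm gd N53428 = N52237 := ded_36_1 (flp_g L722804) L722799 L722958
theorem L722964 : sm ge N53428 = N51590 := ded_41_1 (flp_g L703736) (flp_e L703638) L722958
theorem L722966 : sm gh N53428 = N51613 := ded_50_2 (flp_g L703935) (flp_h L703636) L722958
theorem L722968 : sm gf N53428 = N52062 := ded_45_1 L708610 L687427 (flp_g L682425) L703634 L722958
theorem L722970 : sm gi N51579 = N53429 := rfl
theorem L722972 : sm ge N53429 = N51591 := ded_44_1 (flp_i L703743) (flp_e L703638) L722970
theorem L722974 : sm gf N53429 = N51580 := ded_48_1 (flp_i L703640) L703634 L722970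
theorem L722976 : sm gh N51580 = N53430 := rfl
theorem L722978 : sm ge N53430 = N51581 := ded_43_1 (flp_h L703646) (flp_e L703642) L722976
theorem L722980 : sm gg N53430 = N52420 := ded_50_1 (flp_h L711882) (flp_g L703644) L722976
theorem L722982 : sm gi N53430 = N51615 := ded_54_2 (flp_h L703951) (flp_i L682642) (flp_h L682427) L703640 L722976
theorem L722984 : sm gh N51582 = N53431 := rfl
theorem L722986 : sm gb N53431 = N52368 := ded_25_1 (flp_h L711513) (flp_b L703656) L722984
theorem L722988 : sm gc N53431 = N51585 := ded_32_1 (flp_h L703685) (flp_c L703658) L722984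
theorem L722990 : sm gg N53431 = N52369 := ded_50_1 (flp_h L711521) (flp_g L703661) L722984
theorem L722992 : sm gj N53431 = N51589 := ded_52_1 (flp_h L703728) (flp_j L703663) L722984
theorem L722994 : sm gi N53431 = N51618 := ded_54_2 (flp_h L703979) (flp_i L682667) (flp_h L682443) L703654 L722984
theorem L722996 : sm gi N51583 = N53432 := rfl
theorem L722998 : sm gb N53432 = N52395 := ded_26_1 (flp_i L711696) (flp_b L703667) L722996
theorem L723000 : sm gd N53432 = N53432 := ded_39_1 (flp_i L722996) L703669 L722996
theorem L723001 : sm gf N53432 = N51584 := ded_48_1 (flp_i L703674) L703665 L722996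
theorem L723003 : sm gj N53432 = N51591 := ded_53_1 (flp_i L703743) (flp_j L703670) L722996
theorem L723005 : sm gh N51584 = N53433 := rfl
theorem L723007 : sm gb N53433 = N52398 := ded_25_1 (flp_h L711719) (flp_b L703676) L723005
theorem L723009 : sm ge N53433 = N51585 := ded_43_1 (flp_h L703685) (flp_e L703679) L723005
theorem L723011 : sm gg N53433 = N52399 := ded_50_1 (flp_h L711729) (flp_g L703681) L723005
theorem L723013 : sm gj N53433 = N51592 := ded_52_1 (flp_h L703748) (flp_j L703683) L723005
theorem L723015 : sm gi N53433 = N51620 := ded_54_2 (flp_h L703999) (flp_i L682687) (flp_h L682456) L703674 L723005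
theorem L723017 : sm gh N51586 = N53434 := rfl
theorem L723019 : sm ga N53434 = N52380 := ded_17_1 (flp_h L711595) (flp_a L703693) L723017
theorem L723021 : sm gb N53434 = N51589 := ded_25_1 (flp_h L703728) (flp_b L703695) L723017
theorem L723023 : sm gc N53434 = N52052 := ded_32_1 (flp_h L708488) (flp_c L703697) L723017
theorem L723025 : sm ge N53434 = N52356 := ded_43_1 (flp_h L711419) (flp_e L703700) L723017
theorem L723027 : sm gg N53434 = N51593 := ded_50_1 (flp_h L703756) (flp_g L703702) L723017
theorem L723029 : sm gj N53434 = N52368 := ded_52_1 (flp_h L711513) (flp_j L703704) L723017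
theorem L723031 : sm gi N53434 = N51624 := ded_54_2 (flp_h L704051) (flp_i L682732) (flp_h L682472) L703691 L723017
theorem L723033 : sm gi N51587 = N53435 := rfl
theorem L723035 : sm gb N53435 = N52352 := ded_26_1 (flp_i L711377) (flp_b L703708) L723033
theorem L723037 : sm gc N53435 = N51591 := ded_33_1 (flp_i L703743) (flp_c L703710) L723033
theorem L723039 : sm gd N53435 = N52358 := ded_39_1 (flp_i L711435) (flp_d L703712) L723033
theorem L723041 : sm gf N53435 = N51588 := ded_48_1 (flp_i L703716) L703706 L723033
theorem L723043 : sm gh N51588 = N53436 := rfl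
theorem L723045 : sm gb N53436 = N52356 := ded_25_1 (flp_h L711419) (flp_b L703718) L723043
theorem L723047 : sm gc N53436 = N51592 := ded_32_1 (flp_h L703748) (flp_c L703720) L723043
theorem L723049 : sm ge N53436 = N51589 := ded_43_1 (flp_h L703728) (flp_e L703724) L723043
theorem L723051 : sm gg N53436 = N51594 := ded_50_1 (flp_h L703770) (flp_g L703726) L723043
theorem L723053 : sm gi N53436 = N51627 := ded_54_2 (flp_h L704075) (flp_i L682749) (flp_h L682488) L703716 L723043
theorem L723055 : sm gd N51589 = N53437 := rfl
theorem L723057 : sm gg N53437 = N51595 := ded_36_2 (flp_d L703780) (flp_g L703732) L723055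
theorem L723059 : sm gi N53437 = N51628 := ded_39_2 (flp_d L704083) (flp_i L703734) L723055
theorem L723061 : sm gh N53437 = N53437 := ded_38_2 (flp_d L723055) (flp_h L703728) L682496 L703728 L723055
theorem L723062 : sm gi N51590 = N53438 := rfl
theorem L723064 : sm gd N53438 = N53438 := ded_39_1 (flp_i L723062) L703738 L723062
theorem L723065 : sm gf N53438 = N51596 := ded_48_1 (flp_i L703787) (flp_f L703741) L723062
theorem L723067 : sm gg N53438 = N51591 := ded_51_1 (flp_i L703743) L703736 L723062
theorem L723069 : sm gh N51591 = N53439 := rfl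
theorem L723071 : sm gf N53439 = N51592 := ded_47_1 (flp_h L703748) (flp_f L703746) L723069
theorem L723073 : sm gi N53439 = N51631 := ded_54_2 (flp_h L704103) (flp_i L682770) (flp_h L682502) L703743 L723069
theorem L723075 : sm gd N51592 = N53440 := rfl
theorem L723077 : sm gg N53440 = N51598 := ded_36_2 (flp_d L703802) (flp_g L703752) L723075
theorem L723079 : sm gi N53440 = N51632 := ded_39_2 (flp_d L704107) (flp_i L703754) L723075
theorem L723081 : sm gh N53440 = N53440 := ded_38_2 (flp_d L723075) (flp_h L703748) L682506 L703748 L723075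
theorem L723082 : sm gd N51593 = N53441 := rfl
theorem L723084 : sm ga N53441 = N52386 := ded_12_1 (flp_d L711635) (flp_a L703758) L723082
theorem L723086 : sm gb N53441 = N51595 := ded_20_1 (flp_d L703780) (flp_b L703760) L723082
theorem L723088 : sm gf N53441 = N52424 := ded_35_2 (flp_d L711911) (flp_f L703766) L723082
theorem L723090 : sm gi N53441 = N51635 := ded_39_2 (flp_d L704137) (flp_i L703768) L723082
theorem L723092 : sm gc N53441 = N52091 := ded_27_1 (flp_d L708889) L687635 (flp_d L687208) (flp_c L703762) L723082
theorem L723094 : sm gh N53441 = N53441 := ded_38_2 (flp_d L723082) (flp_h L703756) L682525 L703756 L723082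
theorem L723095 : sm gd N51594 = N53442 := rfl
theorem L723097 : sm ga N53442 = N52472 := ded_12_1 (flp_d L722232) L722222 L723095
theorem L723099 : sm gb N53442 = N52357 := ded_20_1 (flp_d L711427) (flp_b L703772) L723095
theorem L723101 : sm gf N53442 = N52411 := ded_35_2 (flp_d L721012) L721010 L723095
theorem L723103 : sm gi N53442 = N51638 := ded_39_2 (flp_d L704162) (flp_i L703778) L723095
theorem L723105 : sm gh N53442 = N52362 := ded_38_2 (flp_d L711471) (flp_h L690524) (flp_d L682536) L703770 L723095
theorem L723107 : sm ge N51595 = N53443 := rfl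
theorem L723109 : sm gh N53443 = N53443 := ded_43_2 (flp_e L723107) L703786 L723107
theorem L723110 : sm gi N53443 = N51639 := ded_44_2 (flp_e L704165) (flp_i L703784) L723107
theorem L723112 : sm gh N51596 = N53444 := rfl
theorem L723114 : sm ge N53444 = N52085 := ded_43_1 L708846 (flp_e L703790) L723112
theorem L723116 : sm gg N53444 = N51597 := ded_50_1 (flp_h L703794) (flp_g L703792) L723112
theorem L723118 : sm gi N53444 = N51641 := ded_54_2 (flp_h L704179) (flp_i L682845) (flp_h L682553) L703787 L723112
theorem L723120 : sm gd N51597 = N53445 := rfl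
theorem L723122 : sm gf N53445 = N51598 := ded_35_2 (flp_d L703802) (flp_f L703798) L723120
theorem L723124 : sm gi N53445 = N51642 := ded_39_2 (flp_d L704185) (flp_i L703800) L723120
theorem L723126 : sm ge N53445 = N52091 := ded_34_2 (flp_d L708889) L687637 L687639 (flp_e L703796) L723120
theorem L723128 : sm gh N53445 = N53445 := ded_38_2 (flp_d L723120) (flp_h L703794) L682557 L703794 L723120
theorem L723129 : sm gc N51598 = N53446 := rfl
theorem L723131 : sm gh N53446 = N53446 := ded_32_2 (flp_c L723129) L703806 L723129
theorem L723132 : sm gi N53446 = N51643 := ded_33_2 (flp_c L704191) (flp_i L703804) L723129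
theorem L723134 : sm gf N51599 = N53447 := rfl
theorem L723136 : sm gd N53447 = N51900 := ded_35_1 (flp_f L706932) (flp_d L703813) L723134
theorem L723138 : sm gj N53447 = N52428 := ded_46_2 (flp_f L711937) (flp_j L703811) L723134
theorem L723140 : sm gi N51599 = N53448 := rfl
theorem L723142 : sm gd N53448 = N51901 := ded_39_1 (flp_i L706937) (flp_d L703813) L723140
theorem L723144 : sm ge N53448 = N51600 := ded_44_1 (flp_i L703815) L703807 L723140
theorem L723146 : sm gg N53448 = N51604 := ded_51_1 (flp_i L703853) (flp_g L703809) L723140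
theorem L723148 : sm gj N53448 = N52429 := ded_53_1 (flp_i L711941) (flp_j L703811) L723140
theorem L723150 : sm gh N51600 = N53449 := rfl
theorem L723152 : sm gg N53449 = N51605 := ded_50_1 (flp_h L703861) (flp_g L703819) L723150
theorem L723154 : sm gj N53449 = N52430 := ded_52_1 (flp_h L711949) (flp_j L703821) L723150
theorem L723156 : sm gd N51601 = N53450 := rfl
theorem L723158 : sm gb N53450 = N52373 := ded_20_1 (flp_d L711550) (flp_b L703825) L723156
theorem L723160 : sm gj N53450 = N51609 := ded_37_2 (flp_d L703905) (flp_j L703829) L723156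
theorem L723162 : sm gc N53450 = N51906 := ded_27_1 (flp_d L706982) L685463 (flp_d L682598) (flp_c L703827) L723156
theorem L723164 : sm ge N53450 = N51653 := ded_34_2 (flp_d L704277) (flp_e L682946) (flp_d L682592) L703823 L723156
theorem L723166 : sm gf N51601 = N53451 := rfl
theorem L723168 : sm gb N53451 = N52374 := ded_22_1 (flp_f L711556) (flp_b L703825) L723166
theorem L723170 : sm gc N53451 = N51603 := ded_29_1 (flp_f L703843) (flp_c L703827) L723166
theorem L723172 : sm gj N53451 = N51610 := ded_46_2 (flp_f L703913) (flp_j L703829) L723166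
theorem L723174 : sm ge N53451 = N51616 := ded_40_1 (flp_f L703957) (flp_e L682656) (flp_f L682586) L703823 L723166
theorem L723176 : sm gi N51601 = N53452 := rfl
theorem L723178 : sm gb N53452 = N52375 := ded_26_1 (flp_i L711562) (flp_b L703825) L723176
theorem L723180 : sm gc N53452 = N51604 := ded_33_1 (flp_i L703853) (flp_c L703827) L723176
theorem L723182 : sm ge N53452 = N51602 := ded_44_1 (flp_i L703831) L703823 L723176
theorem L723184 : sm gj N53452 = N51611 := ded_53_1 (flp_i L703919) (flp_j L703829) L723176
theorem L723186 : sm gh N51602 = N53453 := rfl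
theorem L723188 : sm gb N53453 = N52376 := ded_25_1 (flp_h L711568) (flp_b L703833) L723186
theorem L723190 : sm gc N53453 = N51605 := ded_32_1 (flp_h L703861) (flp_c L703835) L723186
theorem L723192 : sm gf N53453 = N51618 := ded_47_1 (flp_h L703979) (flp_f L703839) L723186
theorem L723194 : sm gj N53453 = N51612 := ded_52_1 (flp_h L703927) (flp_j L703841) L723186
theorem L723196 : sm gi N51603 = N53454 := rfl
theorem L723198 : sm gb N53454 = N52405 := ded_26_1 (flp_i L711776) (flp_b L703845) L723196
theorem L723200 : sm gd N53454 = N51911 := ded_39_1 (flp_i L707016) (flp_d L703847) L723196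
theorem L723202 : sm ge N53454 = N51619 := ded_44_1 (flp_i L703989) (flp_e L703851) L723196
theorem L723204 : sm gf N53454 = N51604 := ded_48_1 (flp_i L703853) L703843 L723196
theorem L723206 : sm gj N53454 = N51614 := ded_53_1 (flp_i L703943) (flp_j L703849) L723196
theorem L723208 : sm gh N51604 = N53455 := rfl
theorem L723210 : sm ge N53455 = N51605 := ded_43_1 (flp_h L703861) (flp_e L703857) L723208
theorem L723212 : sm gj N53455 = N51615 := ded_52_1 (flp_h L703951) (flp_j L703859) L723208
theorem L723214 : sm ge N51606 = N53456 := rfl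
theorem L723216 : sm ga N53456 = N51607 := ded_13_1 (flp_e L703881) L703867 L723214
theorem L723218 : sm gc N53456 = N52349 := ded_28_1 (flp_e L711345) (flp_c L703869) L723214
theorem L723220 : sm gg N53456 = N52436 := ded_41_2 (flp_e L711991) (flp_g L703875) L723214
theorem L723222 : sm gj N53456 = N52351 := ded_42_2 (flp_e L711371) (flp_j L703877) L723214
theorem L723224 : sm gh N53456 = N52374 := ded_43_2 L711560 (flp_h L703879) L723214
theorem L723226 : sm gf N53456 = N52364 := ded_40_2 (flp_e L711488) L690544 L682715 (flp_f L703873) L723214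
theorem L723228 : sm gi N51606 = N53457 := rfl
theorem L723230 : sm ga N53457 = N51608 := ded_18_1 (flp_i L703891) L703867 L723228
theorem L723232 : sm gc N53457 = N52350 := ded_33_1 (flp_i L711359) (flp_c L703869) L723228
theorem L723234 : sm gd N53457 = N51658 := ded_39_1 (flp_i L704332) (flp_d L703871) L723228
theorem L723236 : sm gf N53457 = N51621 := ded_48_1 (flp_i L704009) (flp_f L703873) L723228
theorem L723238 : sm gg N53457 = N52437 := ded_51_1 (flp_i L711995) (flp_g L703875) L723228
theorem L723240 : sm gj N53457 = N52352 := ded_53_1 (flp_i L711377) (flp_j L703877) L723228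
theorem L723242 : sm gd N51607 = N53458 := rfl
theorem L723244 : sm gb N53458 = N51609 := ded_20_1 (flp_d L703905) (flp_b L703883) L723242
theorem L723246 : sm gg N53458 = N52438 := ded_36_2 (flp_d L712003) (flp_g L703887) L723242
theorem L723248 : sm gj N53458 = N52373 := ded_37_2 (flp_d L711550) (flp_j L703889) L723242
theorem L723250 : sm gc N53458 = N52514 := ded_27_1 (flp_d L712534) L691791 (flp_d L690597) (flp_c L703885) L723242
theorem L723252 : sm ge N53458 = N51659 := ded_34_2 (flp_d L704344) (flp_e L682997) (flp_d L682610) L703881 L723242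
theorem L723254 : sm gf N51607 = N53459 := rfl
theorem L723256 : sm ga N53459 = N52364 := ded_14_1 (flp_f L723226) L723216 L723254
theorem L723258 : sm gb N53459 = N51610 := ded_22_1 (flp_f L703913) (flp_b L703883) L723254
theorem L723260 : sm gc N53459 = N52346 := ded_29_1 L711315 (flp_c L703885) L723254
theorem L723262 : sm gj N53459 = N52374 := ded_46_2 (flp_f L711556) (flp_j L703889) L723254
theorem L723264 : sm gh N53459 = N52351 := ded_47_2 (flp_f L722908) L722906 L723254
theorem L723266 : sm ge N53459 = N51622 := ded_40_1 (flp_f L704023) (flp_e L682717) (flp_f L682612) L703881 L723254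
theorem L723268 : sm gi N51607 = N53460 := rfl
theorem L723270 : sm gb N53460 = N51611 := ded_26_1 (flp_i L703919) (flp_b L703883) L723268
theorem L723272 : sm gc N53460 = N52371 := ded_33_1 (flp_i L711534) (flp_c L703885) L723268
theorem L723274 : sm ge N53460 = N51608 := ded_44_1 (flp_i L703891) L703881 L723268
theorem L723276 : sm gg N53460 = N52440 := ded_51_1 (flp_i L712015) (flp_g L703887) L723268
theorem L723278 : sm gj N53460 = N52375 := ded_53_1 (flp_i L711562) (flp_j L703889) L723268
theorem L723280 : sm gh N51608 = N53461 := rfl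
theorem L723282 : sm gb N53461 = N51612 := ded_25_1 (flp_h L703927) (flp_b L703893) L723280
theorem L723284 : sm gc N53461 = N52372 := ded_32_1 (flp_h L711542) (flp_c L703895) L723280
theorem L723286 : sm gf N53461 = N51624 := ded_47_1 (flp_h L704051) (flp_f L703899) L723280
theorem L723288 : sm gg N53461 = N52441 := ded_50_1 (flp_h L712021) (flp_g L703901) L723280
theorem L723290 : sm gj N53461 = N52376 := ded_52_1 (flp_h L711568) (flp_j L703903) L723280
theorem L723292 : sm gf N51609 = N53462 := rfl
theorem L723294 : sm gc N53462 = N51919 := ded_29_1 (flp_f L707076) (flp_c L703909) L723292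
theorem L723296 : sm gd N53462 = N51610 := ded_35_1 (flp_f L703913) L703905 L723292
theorem L723298 : sm ge N53462 = N53462 := ded_40_1 (flp_f L723292) L703911 L683023 (flp_e L703911) L723292
theorem L723299 : sm gh N51609 = N53463 := rfl
theorem L723301 : sm gc N53463 = N51920 := ded_32_1 (flp_h L707081) (flp_c L703909) L723299
theorem L723303 : sm ge N53463 = N51662 := ded_43_1 (flp_h L704381) (flp_e L703911) L723299
theorem L723305 : sm gg N53463 = N52442 := ded_50_1 (flp_h L712027) (flp_g L703907) L723299
theorem L723307 : sm gi N51609 = N53464 := rfl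
theorem L723309 : sm gc N53464 = N51921 := ded_33_1 (flp_i L707087) (flp_c L703909) L723307
theorem L723311 : sm gd N53464 = N51611 := ded_39_1 (flp_i L703919) L703905 L723307
theorem L723313 : sm ge N53464 = N51663 := ded_44_1 (flp_i L704389) (flp_e L703911) L723307
theorem L723315 : sm gg N53464 = N52443 := ded_51_1 (flp_i L712033) (flp_g L703907) L723307
theorem L723317 : sm gg N51610 = N53465 := rfl
theorem L723319 : sm gc N53465 = N51613 := ded_30_1 (flp_g L703935) (flp_c L703915) L723317
theorem L723321 : sm ge N53465 = N51625 := ded_41_1 (flp_g L704061) (flp_e L703917) L723317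
theorem L723323 : sm gf N53465 = N52444 := ded_45_1 (flp_g L712041) (flp_f L691135) (flp_g L682624) L703913 L723317
theorem L723325 : sm gi N51610 = N53466 := rfl
theorem L723327 : sm gc N53466 = N51614 := ded_33_1 (flp_i L703943) (flp_c L703915) L723325
theorem L723329 : sm ge N53466 = N51626 := ded_44_1 (flp_i L704068) (flp_e L703917) L723325
theorem L723331 : sm gf N53466 = N51611 := ded_48_1 (flp_i L703919) L703913 L723325
theorem L723333 : sm gh N51611 = N53467 := rfl
theorem L723335 : sm gc N53467 = N51615 := ded_32_1 (flp_h L703951) (flp_c L703921) L723333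
theorem L723337 : sm ge N53467 = N51612 := ded_43_1 (flp_h L703927) (flp_e L703923) L723333
theorem L723339 : sm gg N53467 = N52446 := ded_50_1 (flp_h L712055) (flp_g L703925) L723333
theorem L723341 : sm gd N51612 = N53468 := rfl
theorem L723343 : sm gf N53468 = N51628 := ded_35_2 (flp_d L704083) (flp_f L703931) L723341
theorem L723345 : sm gg N53468 = N52447 := ded_36_2 (flp_d L712061) (flp_g L703933) L723341
theorem L723347 : sm gh N53468 = N51665 := ded_38_2 (flp_d L704408) (flp_h L683037) (flp_d L682630) L703927 L723341
theorem L723349 : sm gj N51613 = N53469 := rfl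
theorem L723351 : sm gd N53469 = N51926 := ded_37_1 (flp_j L707133) (flp_d L703937) L723349
theorem L723353 : sm ge N53469 = N51629 := ded_42_1 (flp_j L704089) (flp_e L703939) L723349
theorem L723355 : sm gf N53469 = N52448 := ded_46_1 (flp_j L712067) (flp_f L703941) L723349
theorem L723357 : sm gi N51613 = N53470 := rfl
theorem L723359 : sm gd N53470 = N51927 := ded_39_1 (flp_i L707139) (flp_d L703937) L723357
theorem L723361 : sm ge N53470 = N51630 := ded_44_1 (flp_i L704095) (flp_e L703939) L723357
theorem L723363 : sm gf N53470 = N52449 := ded_48_1 (flp_i L712073) (flp_f L703941) L723357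
theorem L723365 : sm gg N53470 = N51614 := ded_51_1 (flp_i L703943) L703935 L723357
theorem L723367 : sm gh N51614 = N53471 := rfl
theorem L723369 : sm ge N53471 = N51631 := ded_43_1 (flp_h L704103) (flp_e L703947) L723367
theorem L723371 : sm gf N53471 = N51615 := ded_47_1 (flp_h L703951) (flp_f L703949) L723367
theorem L723373 : sm gd N51615 = N53472 := rfl
theorem L723375 : sm gg N53472 = N52451 := ded_36_2 (flp_d L712087) (flp_g L703955) L723373
theorem L723377 : sm gh N53472 = N51929 := ded_38_2 (flp_d L707153) (flp_h L685559) (flp_d L682644) L703951 L723373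
theorem L723379 : sm gi N51616 = N53473 := rfl
theorem L723381 : sm gb N53473 = N52379 := ded_26_1 (flp_i L711588) (flp_b L703959) L723379
theorem L723383 : sm gc N53473 = N51619 := ded_33_1 (flp_i L703989) (flp_c L703961) L723379
theorem L723385 : sm gd N53473 = N53473 := ded_39_1 (flp_i L723379) L703963 L723379
theorem L723386 : sm gf N53473 = N51617 := ded_48_1 (flp_i L703966) L703957 L723379
theorem L723388 : sm gj N53473 = N51626 := ded_53_1 (flp_i L704068) (flp_j L703964) L723379
theorem L723390 : sm gh N51617 = N53474 := rfl
theorem L723392 : sm gb N53474 = N52380 := ded_25_1 (flp_h L711595) (flp_b L703968) L723390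
theorem L723394 : sm gc N53474 = N51620 := ded_32_1 (flp_h L703999) (flp_c L703970) L723390
theorem L723396 : sm ge N53474 = N51618 := ded_43_1 (flp_h L703979) (flp_e L703973) L723390
theorem L723398 : sm gg N53474 = N52384 := ded_50_1 (flp_h L711621) (flp_g L703975) L723390
theorem L723400 : sm gj N53474 = N51627 := ded_52_1 (flp_h L704075) (flp_j L703977) L723390
theorem L723402 : sm gd N51618 = N53475 := rfl
theorem L723404 : sm gb N53475 = N52381 := ded_20_1 (flp_d L711603) (flp_b L703981) L723402
theorem L723406 : sm gg N53475 = N52385 := ded_36_2 (flp_d L711629) (flp_g L703985) L723402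
theorem L723408 : sm gj N53475 = N51628 := ded_37_2 (flp_d L704083) (flp_j L703987) L723402
theorem L723410 : sm gh N53475 = N51667 := ded_38_2 (flp_d L704429) (flp_h L683056) (flp_d L682673) L703979 L723402
theorem L723412 : sm gh N51619 = N53476 := rfl
theorem L723414 : sm gb N53476 = N52406 := ded_25_1 (flp_h L711784) (flp_b L703991) L723412
theorem L723416 : sm gf N53476 = N51620 := ded_47_1 (flp_h L703999) (flp_f L703995) L723412
theorem L723418 : sm gj N53476 = N51631 := ded_52_1 (flp_h L704103) (flp_j L703997) L723412
theorem L723420 : sm gd N51620 = N53477 := rfl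
theorem L723422 : sm gb N53477 = N52408 := ded_20_1 (flp_d L711798) (flp_b L704001) L723420
theorem L723424 : sm gg N53477 = N52410 := ded_36_2 (flp_d L711812) (flp_g L704005) L723420
theorem L723426 : sm gj N53477 = N51632 := ded_37_2 (flp_d L704107) (flp_j L704007) L723420
theorem L723428 : sm gh N53477 = N51645 := ded_38_2 (flp_d L704207) (flp_h L682874) (flp_d L682691) L703999 L723420
theorem L723430 : sm gh N51621 = N53478 := rfl
theorem L723432 : sm ga N53478 = N51624 := ded_17_1 (flp_h L704051) (flp_a L704011) L723430
theorem L723434 : sm gc N53478 = N52355 := ded_32_1 (flp_h L711403) (flp_c L704013) L723430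
theorem L723436 : sm ge N53478 = N52368 := ded_43_1 (flp_h L711513) (flp_e L704017) L723430
theorem L723438 : sm gg N53478 = N51633 := ded_50_1 (flp_h L704113) (flp_g L704019) L723430
theorem L723440 : sm gj N53478 = N52356 := ded_52_1 (flp_h L711419) (flp_j L704021) L723430
theorem L723442 : sm gi N53478 = N52380 := ded_54_2 (flp_h L711595) (flp_i L690650) (flp_h L682713) L704009 L723430
theorem L723444 : sm gi N51622 = N53479 := rfl
theorem L723446 : sm ga N53479 = N52365 := ded_18_1 (flp_i L711494) (flp_a L704025) L723444
theorem L723448 : sm gb N53479 = N51626 := ded_26_1 (flp_i L704068) (flp_b L704027) L723444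
theorem L723450 : sm gc N53479 = N52347 := ded_33_1 (flp_i L711317) (flp_c L704029) L723444
theorem L723452 : sm gd N53479 = N53479 := ded_39_1 (flp_i L723444) L704031 L723444
theorem L723453 : sm gf N53479 = N51623 := ded_48_1 (flp_i L704036) L704023 L723444
theorem L723455 : sm gj N53479 = N52379 := ded_53_1 (flp_i L711588) (flp_j L704032) L723444
theorem L723457 : sm gh N51623 = N53480 := rfl
theorem L723459 : sm ga N53480 = N52368 := ded_17_1 (flp_h L711513) (flp_a L704038) L723457
theorem L723461 : sm gb N53480 = N51627 := ded_25_1 (flp_h L704075) (flp_b L704040) L723457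
theorem L723463 : sm gc N53480 = N52348 := ded_32_1 (flp_h L711329) (flp_c L704042) L723457
theorem L723465 : sm ge N53480 = N51624 := ded_43_1 (flp_h L704051) (flp_e L704045) L723457
theorem L723467 : sm gg N53480 = N51634 := ded_50_1 (flp_h L704125) (flp_g L704047) L723457
theorem L723469 : sm gj N53480 = N52380 := ded_52_1 (flp_h L711595) (flp_j L704049) L723457
theorem L723471 : sm gi N53480 = N52356 := ded_54_2 (flp_h L711419) (flp_i L690446) (flp_h L682729) L704036 L723457
theorem L723473 : sm gd N51624 = N53481 := rfl
theorem L723475 : sm gb N53481 = N51628 := ded_20_1 (flp_d L704083) (flp_b L704053) L723473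
theorem L723477 : sm gg N53481 = N51635 := ded_36_2 (flp_d L704137) (flp_g L704057) L723473
theorem L723479 : sm gj N53481 = N52381 := ded_37_2 (flp_d L711603) (flp_j L704059) L723473
theorem L723481 : sm gc N53481 = N52453 := ded_27_1 (flp_d L712097) L691181 (flp_d L690643) (flp_c L704055) L723473
theorem L723483 : sm gh N53481 = N51669 := ded_38_2 (flp_d L704450) (flp_h L683079) (flp_d L682738) L704051 L723473
theorem L723485 : sm gi N51625 = N53482 := rfl
theorem L723487 : sm gc N53482 = N51630 := ded_33_1 (flp_i L704095) (flp_c L704063) L723485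
theorem L723489 : sm gd N53482 = N53482 := ded_39_1 (flp_i L723485) L704065 L723485
theorem L723490 : sm gf N53482 = N51636 := ded_48_1 (flp_i L704145) (flp_f L704066) L723485
theorem L723492 : sm gg N53482 = N51626 := ded_51_1 (flp_i L704068) L704061 L723485
theorem L723494 : sm gh N51626 = N53483 := rfl
theorem L723496 : sm gc N53483 = N51631 := ded_32_1 (flp_h L704103) (flp_c L704070) L723494
theorem L723498 : sm gf N53483 = N51627 := ded_47_1 (flp_h L704075) (flp_f L704073) L723494
theorem L723500 : sm gd N51627 = N53484 := rfl
theorem L723502 : sm gg N53484 = N51638 := ded_36_2 (flp_d L704162) (flp_g L704081) L723500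
theorem L723504 : sm gh N53484 = N53484 := ded_38_2 (flp_d L723500) (flp_h L704075) L682753 L704075 L723500
theorem L723505 : sm ge N51628 = N53485 := rfl
theorem L723507 : sm gg N53485 = N51639 := ded_41_2 (flp_e L704165) (flp_g L704085) L723505
theorem L723509 : sm gh N53485 = N51670 := ded_43_2 (flp_e L704461) (flp_h L704087) L723505
theorem L723511 : sm gi N51629 = N53486 := rfl
theorem L723513 : sm gd N53486 = N51646 := ded_39_1 (flp_i L704216) (flp_d L704091) L723511
theorem L723515 : sm gf N53486 = N51640 := ded_48_1 (flp_i L704169) (flp_f L704093) L723511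
theorem L723517 : sm gj N53486 = N51630 := ded_53_1 (flp_i L704095) L704089 L723511
theorem L723519 : sm gh N51630 = N53487 := rfl
theorem L723521 : sm gf N53487 = N51641 := ded_47_1 (flp_h L704179) (flp_f L704099) L723519
theorem L723523 : sm gg N53487 = N51631 := ded_50_1 (flp_h L704103) (flp_g L704101) L723519
theorem L723525 : sm gd N51631 = N53488 := rfl
theorem L723527 : sm gf N53488 = N51632 := ded_35_2 (flp_d L704107) (flp_f L704105) L723525
theorem L723529 : sm gh N53488 = N51648 := ded_38_2 (flp_d L704239) (flp_h L682903) (flp_d L682772) L704103 L723525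
theorem L723531 : sm gc N51632 = N53489 := rfl
theorem L723533 : sm gg N53489 = N51643 := ded_30_2 (flp_c L704191) (flp_g L704109) L723531
theorem L723535 : sm gh N53489 = N51649 := ded_32_2 (flp_c L704244) (flp_h L704111) L723531
theorem L723537 : sm gd N51634 = N53490 := rfl
theorem L723539 : sm ga N53490 = N52370 := ded_12_1 (flp_d L711527) (flp_a L704127) L723537
theorem L723541 : sm gb N53490 = N51638 := ded_20_1 (flp_d L704162) (flp_b L704129) L723537
theorem L723543 : sm gi N53490 = N52357 := ded_39_2 (flp_d L711427) (flp_i L704135) L723537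
theorem L723545 : sm gc N53490 = N52400 := ded_27_1 (flp_d L711735) L690818 (flp_d L690378) (flp_c L704131) L723537
theorem L723547 : sm gh N53490 = N53490 := ded_38_2 (flp_d L723537) (flp_h L704125) L682802 L704125 L723537
theorem L723548 : sm ge N51635 = N53491 := rfl
theorem L723550 : sm gb N53491 = N51639 := ded_21_1 (flp_e L704165) (flp_b L704139) L723548
theorem L723552 : sm gc N53491 = N51642 := ded_28_1 (flp_e L715579) L715577 L723548
theorem L723554 : sm gh N53491 = N51651 := ded_43_2 L704261 (flp_h L704143) L723548
theorem L723556 : sm gf N53491 = N51643 := ded_40_2 (flp_e L721611) L721613 (flp_e L712205) (flp_f L704141) L723548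
theorem L723558 : sm gh N51636 = N53492 := rfl
theorem L723560 : sm gc N53492 = N51641 := ded_32_1 (flp_h L704179) (flp_c L704147) L723558
theorem L723562 : sm ge N53492 = N52470 := ded_43_1 (flp_h L712211) (flp_e L704150) L723558
theorem L723564 : sm gg N53492 = N51637 := ded_50_1 (flp_h L704154) (flp_g L704152) L723558
theorem L723566 : sm gd N51637 = N53493 := rfl
theorem L723568 : sm ga N53493 = N52425 := ded_12_1 (flp_d L715302) L715292 L723566
theorem L723570 : sm gf N53493 = N51638 := ded_35_2 (flp_d L704162) (flp_f L704160) L723566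
theorem L723572 : sm gi N53493 = N52411 := ded_39_2 (flp_d L721012) L721014 L723566
theorem L723574 : sm ge N53493 = N52400 := ded_34_2 (flp_d L711735) (flp_e L708420) L708424 (flp_e L704158) L723566
theorem L723576 : sm gh N53493 = N53493 := ded_38_2 (flp_d L723566) (flp_h L704154) L682822 L704154 L723566
theorem L723577 : sm gc N51638 = N53494 := rfl
theorem L723579 : sm gh N53494 = N53494 := ded_32_2 (flp_c L723577) L704164 L723577
theorem L723580 : sm gd N53494 = N51643 := ded_27_2 (flp_c L704191) (flp_d L682859) (flp_c L682829) L704162 L723577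
theorem L723582 : sm ge N51638 = N53495 := rfl
theorem L723584 : sm gh N53495 = N53495 := ded_43_2 (flp_e L723582) L704164 L723582
theorem L723585 : sm gd N53495 = N51639 := ded_34_1 (flp_e L704165) (flp_d L682833) (flp_e L682831) L704162 L723582
theorem L723587 : sm gf N51639 = N53496 := rfl
theorem L723589 : sm gb N53496 = N51643 := ded_22_1 (flp_f L723556) L723550 L723587
theorem L723591 : sm gh N53496 = N51652 := ded_47_2 L704274 (flp_h L704167) L723587
theorem L723593 : sm ge N53496 = N52472 := ded_40_1 (flp_f L712223) (flp_e L691313) (flp_f L682835) L704165 L723587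
theorem L723595 : sm gh N51640 = N53497 := rfl
theorem L723597 : sm ge N53497 = N52460 := ded_43_1 L712155 (flp_e L704173) L723595
theorem L723599 : sm gg N53497 = N52471 := ded_50_1 L712219 (flp_g L704175) L723595
theorem L723601 : sm gj N53497 = N51641 := ded_52_1 (flp_h L704179) (flp_j L704177) L723595
theorem L723603 : sm gd N53497 = N52461 := ded_38_1 L712161 L691478 L682925 (flp_d L704171) L723595
theorem L723605 : sm gd N51641 = N53498 := rfl
theorem L723607 : sm gg N53498 = N51642 := ded_36_2 (flp_d L704185) (flp_g L704183) L723605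
theorem L723609 : sm gj N53498 = N52461 := ded_37_2 (flp_d L723603) L723601 L723605
theorem L723611 : sm ge N53498 = N52453 := ded_34_2 (flp_d L712097) (flp_e L695971) L695977 (flp_e L704181) L723605
theorem L723613 : sm gh N53498 = N51650 := ded_38_2 (flp_d L704250) (flp_h L682927) (flp_d L682847) L704179 L723605
theorem L723615 : sm gd N51644 = N53499 := rfl
theorem L723617 : sm gb N53499 = N52413 := ded_20_1 (flp_d L711836) (flp_b L704197) L723615
theorem L723619 : sm gf N53499 = N51645 := ded_35_2 (flp_d L704207) (flp_f L704202) L723615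
theorem L723621 : sm gj N53499 = N51648 := ded_37_2 (flp_d L704239) (flp_j L704204) L723615
theorem L723623 : sm gi N53499 = N53499 := ded_39_2 (flp_d L723615) L704206 L723615
theorem L723624 : sm gd N51647 = N53500 := rfl
theorem L723626 : sm gf N53500 = N51650 := ded_35_2 (flp_d L704250) (flp_f L704232) L723624
theorem L723628 : sm gg N53500 = N51648 := ded_36_2 (flp_d L704239) (flp_g L704234) L723624
theorem L723630 : sm gj N53500 = N52488 := ded_37_2 L712342 (flp_j L704236) L723624
theorem L723632 : sm gi N53500 = N53500 := ded_39_2 (flp_d L723624) L704238 L723624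
theorem L723633 : sm gc N51648 = N53501 := rfl
theorem L723635 : sm gf N53501 = N51649 := ded_29_2 (flp_c L704244) (flp_f L704241) L723633
theorem L723637 : sm gi N53501 = N53501 := ded_33_2 (flp_c L723633) L704243 L723633
theorem L723638 : sm gd N53501 = N53501 := ded_27_2 (flp_c L723633) (flp_d L704239) L682905 L704239 L723633
theorem L723639 : sm ge N51648 = N53502 := rfl
theorem L723641 : sm gi N53502 = N53502 := ded_44_2 (flp_e L723639) L704243 L723639
theorem L723642 : sm gd N53502 = N51976 := ded_34_1 (flp_e L707548) (flp_d L685887) (flp_e L682906) L704239 L723639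
theorem L723644 : sm gb N51649 = N53503 := rfl
theorem L723646 : sm gd N53503 = N53503 := ded_20_2 (flp_b L723644) L704249 L723644
theorem L723647 : sm ge N53503 = N52489 := ded_21_2 L721656 L721647 L723644
theorem L723649 : sm gg N53503 = N51652 := ded_23_2 (flp_b L704269) (flp_g L704246) L723644
theorem L723651 : sm gi N53503 = N53503 := ded_26_2 (flp_b L723644) L704248 L723644
theorem L723652 : sm gc N51650 = N53504 := rfl
theorem L723654 : sm ge N53504 = N51669 := ded_28_2 L704459 (flp_e L704257) L723652
theorem L723656 : sm gg N53504 = N51651 := ded_30_2 (flp_c L704259) (flp_g L704252) L723652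
theorem L723658 : sm gj N53504 = N52392 := ded_31_2 L711676 (flp_j L704254) L723652
theorem L723660 : sm gi N53504 = N53504 := ded_33_2 (flp_c L723652) L704256 L723652
theorem L723661 : sm gb N53504 = N51670 := ded_19_1 (flp_c L721747) L721745 (flp_c L716069) L716062 L723652
theorem L723663 : sm gd N53504 = N53504 := ded_27_2 (flp_c L723652) (flp_d L704250) L682929 L704250 L723652
theorem L723664 : sm gh N51653 = N53505 := rfl
theorem L723666 : sm ga N53505 = N52716 := ded_17_1 (flp_h L718859) L718850 L723664
theorem L723668 : sm gb N53505 = N52388 := ded_25_1 (flp_h L711644) (flp_b L704279) L723664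
theorem L723670 : sm gc N53505 = N51987 := ded_32_1 (flp_h L707681) (flp_c L704284) L723664
theorem L723672 : sm gf N53505 = N53505 := ded_47_1 (flp_h L723664) L704281 L723664
theorem L723673 : sm gg N53505 = N52531 := ded_50_1 (flp_h L717784) L717786 L723664
theorem L723675 : sm gj N53505 = N51662 := ded_52_1 (flp_h L704381) (flp_j L704282) L723664
theorem L723677 : sm gd N53505 = N53505 := ded_38_1 (flp_h L723664) (flp_d L704277) L682954 L704277 L723664
theorem L723678 : sm gi N51653 = N53506 := rfl
theorem L723680 : sm gb N53506 = N52389 := ded_26_1 (flp_i L711652) (flp_b L704279) L723678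
theorem L723682 : sm gc N53506 = N51988 := ded_33_1 (flp_i L707694) (flp_c L704284) L723678
theorem L723684 : sm gd N53506 = N51654 := ded_39_1 (flp_i L704286) L704277 L723678
theorem L723686 : sm gf N53506 = N53506 := ded_48_1 (flp_i L723678) L704281 L723678
theorem L723687 : sm gj N53506 = N51663 := ded_53_1 (flp_i L704389) (flp_j L704282) L723678
theorem L723689 : sm gh N51654 = N53507 := rfl
theorem L723691 : sm gb N53507 = N52390 := ded_25_1 (flp_h L711659) (flp_b L704288) L723689
theorem L723693 : sm gc N53507 = N51656 := ded_32_1 (flp_h L704308) (flp_c L704290) L723689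
theorem L723695 : sm ge N53507 = N51655 := ded_43_1 (flp_h L704297) (flp_e L704292) L723689
theorem L723697 : sm gf N53507 = N53507 := ded_47_1 (flp_h L723689) L704294 L723689
theorem L723698 : sm gj N53507 = N51664 := ded_52_1 (flp_h L704398) (flp_j L704295) L723689
theorem L723700 : sm gi N53507 = N53507 := ded_54_2 (flp_h L723689) (flp_i L704286) L682954 L704286 L723689
theorem L723701 : sm gd N51655 = N53508 := rfl
theorem L723703 : sm gb N53508 = N52391 := ded_20_1 (flp_d L711667) (flp_b L704299) L723701
theorem L723705 : sm gf N53508 = N51667 := ded_35_2 (flp_d L704429) (flp_f L704303) L723701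
theorem L723707 : sm gj N53508 = N51665 := ded_37_2 (flp_d L704408) (flp_j L704305) L723701
theorem L723709 : sm gi N53508 = N53508 := ded_39_2 (flp_d L723701) L704307 L723701
theorem L723710 : sm gd N51657 = N53509 := rfl
theorem L723712 : sm ga N53509 = N51659 := ded_12_1 (flp_d L704344) (flp_a L704320) L723710
theorem L723714 : sm gb N53509 = N51819 := ded_20_1 L706128 (flp_b L704322) L723710
theorem L723716 : sm gf N53509 = N53509 := ded_35_2 (flp_d L723710) L704331 L723710
theorem L723717 : sm gg N53509 = N51744 := ded_36_2 L705338 (flp_g L704326) L723710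
theorem L723719 : sm gj N53509 = N51705 := ded_37_2 L704890 (flp_j L704328) L723710
theorem L723721 : sm gc N53509 = N51703 := ded_27_1 (flp_d L704863) L683649 (flp_d L683138) (flp_c L704324) L723710
theorem L723723 : sm gi N51657 = N53510 := rfl
theorem L723725 : sm ga N53510 = N51660 := ded_18_1 (flp_i L704355) (flp_a L704320) L723723
theorem L723727 : sm gb N53510 = N51829 := ded_26_1 (flp_i L706214) (flp_b L704322) L723723
theorem L723729 : sm gc N53510 = N51671 := ded_33_1 (flp_i L704467) (flp_c L704324) L723723
theorem L723731 : sm ge N53510 = N51658 := ded_44_1 (flp_i L704332) L704318 L723723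
theorem L723733 : sm gf N53510 = N53510 := ded_48_1 (flp_i L723723) L704331 L723723
theorem L723734 : sm gg N53510 = N51755 := ded_51_1 (flp_i L705435) (flp_g L704326) L723723
theorem L723736 : sm gj N53510 = N51752 := ded_53_1 (flp_i L705405) (flp_j L704328) L723723
theorem L723738 : sm gh N51658 = N53511 := rfl
theorem L723740 : sm ga N53511 = N51661 := ded_17_1 (flp_h L704368) (flp_a L704334) L723738
theorem L723742 : sm gc N53511 = N51672 := ded_32_1 (flp_h L704481) (flp_c L704336) L723738
theorem L723744 : sm gf N53511 = N51668 := ded_47_1 (flp_h L704438) (flp_f L704338) L723738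
theorem L723746 : sm gg N53511 = N52476 := ded_50_1 (flp_h L712254) (flp_g L704340) L723738
theorem L723748 : sm gj N53511 = N52359 := ded_52_1 (flp_h L711442) (flp_j L704342) L723738
theorem L723750 : sm gi N53511 = N53511 := ded_54_2 (flp_h L723738) (flp_i L704332) L682996 L704332 L723738
theorem L723751 : sm gh N51659 = N53512 := rfl
theorem L723753 : sm gb N53512 = N51662 := ded_25_1 (flp_h L704381) (flp_b L704346) L723751
theorem L723755 : sm gc N53512 = N51769 := ded_32_1 L705604 (flp_c L704353) L723751
theorem L723757 : sm gf N53512 = N53512 := ded_47_1 (flp_h L723751) L704348 L723751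
theorem L723758 : sm gg N53512 = N51771 := ded_50_1 L705622 (flp_g L704349) L723751
theorem L723760 : sm gj N53512 = N52388 := ded_52_1 (flp_h L711644) (flp_j L704351) L723751
theorem L723762 : sm gd N53512 = N53512 := ded_38_1 (flp_h L723751) (flp_d L704344) L683007 L704344 L723751
theorem L723763 : sm gi N51659 = N53513 := rfl
theorem L723765 : sm gb N53513 = N51663 := ded_26_1 (flp_i L704389) (flp_b L704346) L723763
theorem L723767 : sm gc N53513 = N52543 := ded_33_1 (flp_i L712756) (flp_c L704353) L723763
theorem L723769 : sm gd N53513 = N51660 := ded_39_1 (flp_i L704355) L704344 L723763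
theorem L723771 : sm gf N53513 = N53513 := ded_48_1 (flp_i L723763) L704348 L723763
theorem L723772 : sm gg N53513 = N52477 := ded_51_1 (flp_i L712263) (flp_g L704349) L723763
theorem L723774 : sm gj N53513 = N52389 := ded_53_1 (flp_i L711652) (flp_j L704351) L723763
theorem L723776 : sm gh N51660 = N53514 := rfl
theorem L723778 : sm gb N53514 = N51664 := ded_25_1 (flp_h L704398) (flp_b L704357) L723776
theorem L723780 : sm gc N53514 = N51673 := ded_32_1 (flp_h L704495) (flp_c L704359) L723776
theorem L723782 : sm ge N53514 = N51661 := ded_43_1 (flp_h L704368) (flp_e L704361) L723776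
theorem L723784 : sm gf N53514 = N53514 := ded_47_1 (flp_h L723776) L704363 L723776
theorem L723785 : sm gg N53514 = N52478 := ded_50_1 (flp_h L712271) (flp_g L704364) L723776
theorem L723787 : sm gj N53514 = N52390 := ded_52_1 (flp_h L711659) (flp_j L704366) L723776
theorem L723789 : sm gi N53514 = N53514 := ded_54_2 (flp_h L723776) (flp_i L704355) L683007 L704355 L723776
theorem L723790 : sm gd N51661 = N53515 := rfl
theorem L723792 : sm gb N53515 = N51665 := ded_20_1 (flp_d L704408) (flp_b L704370) L723790
theorem L723794 : sm gf N53515 = N51669 := ded_35_2 (flp_d L704450) (flp_f L704374) L723790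
theorem L723796 : sm gg N53515 = N52479 := ded_36_2 (flp_d L712282) (flp_g L704376) L723790
theorem L723798 : sm gj N53515 = N52391 := ded_37_2 (flp_d L711667) (flp_j L704378) L723790
theorem L723800 : sm gi N53515 = N53515 := ded_39_2 (flp_d L723790) L704380 L723790
theorem L723801 : sm gc N53515 = N52475 := ded_27_1 (flp_d L712247) L691370 (flp_d L683177) (flp_c L704372) L723790
theorem L723803 : sm gi N51662 = N53516 := rfl
theorem L723805 : sm gc N53516 = N51994 := ded_33_1 (flp_i L707763) (flp_c L704383) L723803
theorem L723807 : sm gd N53516 = N53516 := ded_39_1 (flp_i L723803) L704388 L723803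
theorem L723808 : sm gf N53516 = N53516 := ded_48_1 (flp_i L723803) L704385 L723803
theorem L723809 : sm gg N53516 = N52480 := ded_51_1 (flp_i L712289) (flp_g L704386) L723803
theorem L723811 : sm gh N51663 = N53517 := rfl
theorem L723813 : sm gc N53517 = N51995 := ded_32_1 (flp_h L707770) (flp_c L704391) L723811
theorem L723815 : sm gf N53517 = N53517 := ded_47_1 (flp_h L723811) L704395 L723811
theorem L723816 : sm gg N53517 = N52481 := ded_50_1 (flp_h L712296) (flp_g L704396) L723811
theorem L723818 : sm gd N51664 = N53518 := rfl
theorem L723820 : sm gf N53518 = N53518 := ded_35_2 (flp_d L723818) L704404 L723818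
theorem L723821 : sm gg N53518 = N52482 := ded_36_2 (flp_d L712302) (flp_g L704405) L723818
theorem L723823 : sm gi N53518 = N53518 := ded_39_2 (flp_d L723818) L704407 L723818
theorem L723824 : sm ge N51665 = N53519 := rfl
theorem L723826 : sm gg N53519 = N52483 := ded_41_2 (flp_e L712307) (flp_g L704412) L723824
theorem L723828 : sm gi N53519 = N53519 := ded_44_2 (flp_e L723824) L704414 L723824
theorem L723829 : sm gc N51666 = N53520 := rfl
theorem L723831 : sm ga N53520 = N52713 := ded_11_1 L714037 (flp_a L704417) L723829
theorem L723833 : sm ge N53520 = N52700 := ded_28_2 L713925 (flp_e L704425) L723829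
theorem L723835 : sm gf N53520 = N53520 := ded_29_2 (flp_c L723829) L704421 L723829
theorem L723836 : sm gg N53520 = N52298 := ded_30_2 L710934 (flp_g L704422) L723829
theorem L723838 : sm gh N53520 = N51998 := ded_32_2 (flp_c L707796) (flp_h L704427) L723829
theorem L723840 : sm gi N53520 = N53520 := ded_33_2 (flp_c L723829) L704424 L723829
theorem L723841 : sm gb N53520 = N52297 := ded_19_1 L710924 L689760 (flp_c L683202) (flp_b L704419) L723829
theorem L723843 : sm gf N51670 = N53521 := rfl
theorem L723845 : sm gd N53521 = N53521 := ded_35_1 (flp_f L723843) L704466 L723843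
theorem L723846 : sm gi N53521 = N53521 := ded_48_2 (flp_f L723843) L704465 L723843
theorem L723847 : sm gh N51671 = N53522 := rfl
theorem L723849 : sm ga N53522 = N51673 := ded_17_1 (flp_h L704495) (flp_a L704469) L723847
theorem L723851 : sm gb N53522 = N53522 := ded_25_1 (flp_h L723847) L704471 L723847
theorem L723852 : sm ge N53522 = N51672 := ded_43_1 (flp_h L704481) (flp_e L704474) L723847
theorem L723854 : sm gf N53522 = N53522 := ded_47_1 (flp_h L723847) L704476 L723847
theorem L723855 : sm gg N53522 = N52491 := ded_50_1 (flp_h L712360) (flp_g L704477) L723847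
theorem L723857 : sm gj N53522 = N52004 := ded_52_1 (flp_h L707870) (flp_j L704479) L723847
theorem L723859 : sm gd N53522 = N52010 := ded_38_1 (flp_h L707954) L686525 (flp_h L686375) (flp_d L704472) L723847
theorem L723861 : sm gi N53522 = N53522 := ded_54_2 (flp_h L723847) (flp_i L704467) L683137 L704467 L723847
theorem L723862 : sm gh N51674 = N53523 := rfl
theorem L723864 : sm ga N53523 = N52131 := ded_17_1 L709339 (flp_a L704511) L723862
theorem L723866 : sm gb N53523 = N53523 := ded_25_1 (flp_h L723862) L704513 L723862
theorem L723867 : sm gc N53523 = N51756 := ded_32_1 (flp_h L705449) (flp_c L704514) L723862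
theorem L723869 : sm ge N53523 = N52490 := ded_43_1 (flp_h L712350) (flp_e L704518) L723862
theorem L723871 : sm gf N53523 = N51676 := ded_47_1 (flp_h L704538) (flp_f L704520) L723862
theorem L723873 : sm gg N53523 = N51675 := ded_50_1 (flp_h L704526) (flp_g L704522) L723862
theorem L723875 : sm gj N53523 = N52491 := ded_52_1 (flp_h L712360) (flp_j L704524) L723862
theorem L723877 : sm gd N53523 = N52130 := ded_38_1 (flp_h L709320) L688273 L692096 (flp_d L704516) L723862
theorem L723879 : sm gi N53523 = N53523 := ded_54_2 (flp_h L723862) (flp_i L704509) L683268 L704509 L723862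
theorem L723880 : sm ge N51678 = N53524 := rfl
theorem L723882 : sm ga N53524 = N52261 := ded_13_1 L710591 (flp_a L704571) L723880
theorem L723884 : sm gb N53524 = N51690 := ded_21_1 (flp_e L704720) (flp_b L704573) L723880
theorem L723886 : sm gj N53524 = N51681 := ded_42_2 (flp_e L704607) (flp_j L704577) L723880
theorem L723888 : sm gh N53524 = N52512 := ded_43_2 (flp_e L712518) (flp_h L704579) L723880
theorem L723890 : sm gi N51678 = N53525 := rfl
theorem L723892 : sm ga N53525 = N52286 := ded_18_1 (flp_i L710814) (flp_a L704571) L723890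
theorem L723894 : sm gb N53525 = N51691 := ded_26_1 (flp_i L704730) (flp_b L704573) L723890
theorem L723896 : sm gd N53525 = N51679 := ded_39_1 (flp_i L704581) L704569 L723890
theorem L723898 : sm gf N53525 = N51684 := ded_48_1 (flp_i L704643) (flp_f L704575) L723890
theorem L723900 : sm gj N53525 = N51682 := ded_53_1 (flp_i L704617) (flp_j L704577) L723890
theorem L723902 : sm ge N51680 = N53526 := rfl
theorem L723904 : sm ga N53526 = N52257 := ded_13_1 L710565 (flp_a L704596) L723902
theorem L723906 : sm gb N53526 = N52032 := ded_21_1 L708238 (flp_b L704604) L723902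
theorem L723908 : sm gc N53526 = N51681 := ded_28_1 (flp_e L704607) L704594 L723902
theorem L723910 : sm gg N53526 = N52158 := ded_41_2 L709613 (flp_g L704600) L723902
theorem L723912 : sm gh N53526 = N52108 := ded_43_2 (flp_e L709083) (flp_h L704602) L723902
theorem L723914 : sm gf N53526 = N52027 := ded_40_2 (flp_e L708174) L686761 (flp_e L683415) (flp_f L704598) L723902
theorem L723916 : sm gd N52630 = N53526 := ded_27_0 L723908 (flp_d L720615) L720609 L711939 (flp_c L713418)
theorem L723918 : sm gi N51680 = N53527 := rfl
theorem L723920 : sm ga N53527 = N52282 := ded_18_1 (flp_i L710788) (flp_a L704596) L723918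
theorem L723922 : sm gb N53527 = N52002 := ded_26_1 L707851 (flp_b L704604) L723918
theorem L723924 : sm gc N53527 = N51682 := ded_33_1 (flp_i L704617) L704594 L723918
theorem L723926 : sm gd N53527 = N53527 := ded_39_1 (flp_i L723918) L704606 L723918
theorem L723927 : sm gf N53527 = N51685 := ded_48_1 (flp_i L704654) (flp_f L704598) L723918
theorem L723929 : sm gg N53527 = N52170 := ded_51_1 (flp_i L709721) (flp_g L704600) L723918
theorem L723931 : sm gi N51681 = N53528 := rfl
theorem L723933 : sm ga N53528 = N52262 := ded_18_1 (flp_i L710593) (flp_a L704609) L723931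
theorem L723935 : sm gb N53528 = N51693 := ded_26_1 (flp_i L704752) (flp_b L704611) L723931
theorem L723937 : sm ge N53528 = N51682 := ded_44_1 (flp_i L704617) L704607 L723931
theorem L723939 : sm gg N53528 = N52161 := ded_51_1 (flp_i L709631) (flp_g L704613) L723931
theorem L723941 : sm gh N51682 = N53529 := rfl
theorem L723943 : sm ga N53529 = N52287 := ded_17_1 (flp_h L710824) (flp_a L704619) L723941
theorem L723945 : sm gb N53529 = N51694 := ded_25_1 (flp_h L704762) (flp_b L704621) L723941
theorem L723947 : sm gf N53529 = N51686 := ded_47_1 (flp_h L704667) (flp_f L704625) L723941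
theorem L723949 : sm gg N53529 = N52173 := ded_50_1 (flp_h L709750) (flp_g L704627) L723941
theorem L723951 : sm gd N53529 = N51777 := ded_38_1 (flp_h L705666) L684430 (flp_h L683384) (flp_d L704623) L723941
theorem L723953 : sm gi N53529 = N52524 := ded_54_2 (flp_h L712614) (flp_i L691831) (flp_h L683371) L704617 L723941
theorem L723955 : sm gi N51683 = N53530 := rfl
theorem L723957 : sm ga N53530 = N52293 := ded_18_1 (flp_i L710895) (flp_a L704631) L723955
theorem L723959 : sm gb N53530 = N52001 := ded_26_1 L707841 (flp_b L704640) L723955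
theorem L723961 : sm gc N53530 = N51684 := ded_33_1 (flp_i L704643) L704629 L723955
theorem L723963 : sm gd N53530 = N53530 := ded_39_1 (flp_i L723955) L704642 L723955
theorem L723964 : sm ge N53530 = N52000 := ded_44_1 L707830 (flp_e L704633) L723955
theorem L723966 : sm gg N53530 = N53530 := ded_51_1 (flp_i L723955) L704635 L723955
theorem L723967 : sm gj N53530 = N51685 := ded_53_1 (flp_i L704654) (flp_j L704636) L723955
theorem L723969 : sm gh N51684 = N53531 := rfl
theorem L723971 : sm ga N53531 = N52296 := ded_17_1 (flp_h L710915) (flp_a L704645) L723969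
theorem L723973 : sm gb N53531 = N51696 := ded_25_1 (flp_h L704789) (flp_b L704647) L723969
theorem L723975 : sm gg N53531 = N53531 := ded_50_1 (flp_h L723969) L704651 L723969
theorem L723976 : sm gj N53531 = N51686 := ded_52_1 (flp_h L704667) (flp_j L704652) L723969
theorem L723978 : sm gd N53531 = N51779 := ded_38_1 (flp_h L705684) L684450 (flp_h L683409) (flp_d L704649) L723969
theorem L723980 : sm gi N53531 = N52533 := ded_54_2 (flp_h L712678) (flp_i L691883) (flp_h L683395) L704643 L723969
theorem L723982 : sm gh N51685 = N53532 := rfl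
theorem L723984 : sm ga N53532 = N52294 := ded_17_1 (flp_h L710903) (flp_a L704656) L723982
theorem L723986 : sm gb N53532 = N51951 := ded_25_1 L707339 (flp_b L704658) L723982
theorem L723988 : sm gc N53532 = N51686 := ded_32_1 (flp_h L704667) (flp_c L704660) L723982
theorem L723990 : sm ge N53532 = N51946 := ded_43_1 L707302 (flp_e L704663) L723982
theorem L723992 : sm gg N53532 = N51687 := ded_50_1 (flp_h L704679) (flp_g L704665) L723982
theorem L723994 : sm gi N53532 = N52117 := ded_54_2 (flp_h L709182) (flp_i L688090) (flp_h L683419) L704654 L723982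
theorem L723996 : sm gd N51687 = N53533 := rfl
theorem L723998 : sm ga N53533 = N52295 := ded_12_1 (flp_d L710909) (flp_a L704681) L723996
theorem L724000 : sm gb N53533 = N51964 := ded_20_1 L707461 (flp_b L704683) L723996
theorem L724002 : sm gf N53533 = N52175 := ded_35_2 (flp_d L709769) (flp_f L704689) L723996
theorem L724004 : sm gj N53533 = N53533 := ded_37_2 (flp_d L723996) L704691 L723996
theorem L724005 : sm gi N53533 = N52120 := ded_39_2 (flp_d L709217) (flp_i L704692) L723996
theorem L724007 : sm gc N53533 = N51781 := ded_27_1 (flp_d L705697) L684470 (flp_d L683457) (flp_c L704685) L723996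
theorem L724009 : sm ge N53533 = N51959 := ded_34_2 (flp_d L707411) L685763 L685766 (flp_e L704687) L723996
theorem L724011 : sm gh N53533 = N53533 := ded_38_2 (flp_d L723996) (flp_h L704679) L683442 L704679 L723996
theorem L724012 : sm ge N51688 = N53534 := rfl
theorem L724014 : sm ga N53534 = N51722 := ded_13_1 (flp_e L705075) (flp_a L704696) L724012
theorem L724016 : sm gc N53534 = N52499 := ded_28_1 (flp_e L712421) (flp_c L704703) L724012
theorem L724018 : sm gg N53534 = N51690 := ded_41_2 (flp_e L704720) (flp_g L704699) L724012
theorem L724020 : sm gj N53534 = N52492 := ded_42_2 (flp_e L712370) (flp_j L704701) L724012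
theorem L724022 : sm gh N53534 = N52507 := ded_43_2 (flp_e L712487) (flp_h L704705) L724012
theorem L724024 : sm gi N51688 = N53535 := rfl
theorem L724026 : sm ga N53535 = N51723 := ded_18_1 (flp_i L705081) (flp_a L704696) L724024
theorem L724028 : sm gc N53535 = N52500 := ded_33_1 (flp_i L712427) (flp_c L704703) L724024
theorem L724030 : sm gd N53535 = N51689 := ded_39_1 (flp_i L704707) L704694 L724024
theorem L724032 : sm gf N53535 = N53535 := ded_48_1 (flp_i L724024) L704698 L724024
theorem L724033 : sm gg N53535 = N51691 := ded_51_1 (flp_i L704730) (flp_g L704699) L724024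
theorem L724035 : sm gj N53535 = N52493 := ded_53_1 (flp_i L712376) (flp_j L704701) L724024
theorem L724037 : sm gi N51690 = N53536 := rfl
theorem L724039 : sm ga N53536 = N51727 := ded_18_1 (flp_i L705128) (flp_a L704722) L724037
theorem L724041 : sm gc N53536 = N52501 := ded_33_1 (flp_i L712434) (flp_c L704724) L724037
theorem L724043 : sm ge N53536 = N51691 := ded_44_1 (flp_i L704730) L704720 L724037
theorem L724045 : sm gj N53536 = N51693 := ded_53_1 (flp_i L704752) (flp_j L704726) L724037
theorem L724047 : sm gh N51691 = N53537 := rfl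
theorem L724049 : sm ga N53537 = N51728 := ded_17_1 (flp_h L705134) (flp_a L704732) L724047
theorem L724051 : sm gc N53537 = N52502 := ded_32_1 (flp_h L712440) (flp_c L704734) L724047
theorem L724053 : sm gf N53537 = N51696 := ded_47_1 (flp_h L704789) (flp_f L704738) L724047
theorem L724055 : sm gj N53537 = N51694 := ded_52_1 (flp_h L704762) (flp_j L704740) L724047
theorem L724057 : sm gd N53537 = N51807 := ded_38_1 (flp_h L705994) L684681 (flp_h L683494) (flp_d L704736) L724047
theorem L724059 : sm gi N53537 = N52517 := ded_54_2 (flp_h L712556) (flp_i L691795) (flp_h L683482) L704730 L724047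
theorem L724061 : sm gi N51692 = N53538 := rfl
theorem L724063 : sm ga N53538 = N51736 := ded_18_1 (flp_i L705236) (flp_a L704744) L724061
theorem L724065 : sm gc N53538 = N52503 := ded_33_1 (flp_i L712450) (flp_c L704746) L724061
theorem L724067 : sm ge N53538 = N51697 := ded_44_1 (flp_i L704802) (flp_e L704750) L724061
theorem L724069 : sm gf N53538 = N51693 := ded_48_1 (flp_i L704752) L704742 L724061
theorem L724071 : sm gh N51693 = N53539 := rfl
theorem L724073 : sm ga N53539 = N51737 := ded_17_1 (flp_h L705242) (flp_a L704754) L724071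
theorem L724075 : sm gc N53539 = N52504 := ded_32_1 (flp_h L712458) (flp_c L704756) L724071
theorem L724077 : sm ge N53539 = N51694 := ded_43_1 (flp_h L704762) (flp_e L704758) L724071
theorem L724079 : sm gg N53539 = N52496 := ded_50_1 (flp_h L712403) (flp_g L704760) L724071
theorem L724081 : sm gi N53539 = N52528 := ded_54_2 (flp_h L712639) (flp_i L691849) (flp_h L683504) L704752 L724071
theorem L724083 : sm gh N51695 = N53540 := rfl
theorem L724085 : sm ga N53540 = N51740 := ded_17_1 (flp_h L705275) (flp_a L704778) L724083
theorem L724087 : sm gc N53540 = N52505 := ded_32_1 (flp_h L712464) (flp_c L704780) L724083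
theorem L724089 : sm ge N53540 = N51696 := ded_43_1 (flp_h L704789) (flp_e L704784) L724083
theorem L724091 : sm gg N53540 = N53540 := ded_50_1 (flp_h L724083) L704786 L724083
theorem L724092 : sm gj N53540 = N51698 := ded_52_1 (flp_h L704812) (flp_j L704787) L724083
theorem L724094 : sm gi N53540 = N52535 := ded_54_2 (flp_h L712694) (flp_i L691899) (flp_h L683527) L704776 L724083
theorem L724096 : sm gh N51697 = N53541 := rfl
theorem L724098 : sm ga N53541 = N51746 := ded_17_1 (flp_h L705352) (flp_a L704804) L724096
theorem L724100 : sm gc N53541 = N52506 := ded_32_1 (flp_h L712479) (flp_c L704806) L724096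
theorem L724102 : sm gf N53541 = N51698 := ded_47_1 (flp_h L704812) (flp_f L704810) L724096
theorem L724104 : sm gi N53541 = N52540 := ded_54_2 (flp_h L712739) (flp_i L691968) (flp_h L683550) L704802 L724096
theorem L724106 : sm gd N51698 = N53542 := rfl
theorem L724108 : sm ga N53542 = N51747 := ded_12_1 (flp_d L705356) (flp_a L704814) L724106
theorem L724110 : sm gg N53542 = N51699 := ded_36_2 (flp_d L704824) (flp_g L704820) L724106
theorem L724112 : sm gi N53542 = N52541 := ded_39_2 (flp_d L712745) (flp_i L704822) L724106
theorem L724114 : sm ge N53542 = N51826 := ded_34_2 (flp_d L706189) L684850 (flp_d L683572) (flp_e L704818) L724106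
theorem L724116 : sm gh N53542 = N51702 := ded_38_2 (flp_d L704854) (flp_h L683614) (flp_d L683558) L704812 L724106
theorem L724118 : sm gd N51700 = N53543 := rfl
theorem L724120 : sm ga N53543 = N51754 := ded_12_1 (flp_d L705425) (flp_a L704837) L724118
theorem L724122 : sm gg N53543 = N53543 := ded_36_2 (flp_d L724118) L704843 L724118
theorem L724123 : sm gj N53543 = N51702 := ded_37_2 (flp_d L704854) (flp_j L704844) L724118
theorem L724125 : sm gi N53543 = N53543 := ded_39_2 (flp_d L724118) L704846 L724118
theorem L724126 : sm gc N53543 = N52769 := ded_27_1 (flp_d L714466) L694379 (flp_d L694372) (flp_c L704839) L724118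
theorem L724128 : sm ge N53543 = N51831 := ded_34_2 (flp_d L706232) L684904 (flp_d L683605) (flp_e L704841) L724118
theorem L724130 : sm gd N51701 = N53544 := rfl
theorem L724132 : sm ga N53544 = N51757 := ded_12_1 (flp_d L705458) (flp_a L704849) L724130
theorem L724134 : sm gf N53544 = N51702 := ded_35_2 (flp_d L704854) (flp_f L704851) L724130
theorem L724136 : sm gi N53544 = N53544 := ded_39_2 (flp_d L724130) L704853 L724130
theorem L724137 : sm ge N51703 = N53545 := rfl
theorem L724139 : sm ga N53545 = N52514 := ded_13_1 L712538 (flp_a L704865) L724137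
theorem L724141 : sm gj N53545 = N51706 := ded_42_2 (flp_e L704892) (flp_j L704868) L724137
theorem L724143 : sm gd N53545 = N51710 := ded_34_1 (flp_e L704935) (flp_d L683687) (flp_e L683651) L704863 L724137
theorem L724145 : sm gi N51703 = N53546 := rfl
theorem L724147 : sm ga N53546 = N52543 := ded_18_1 (flp_i L712756) (flp_a L704865) L724145
theorem L724149 : sm gd N53546 = N51704 := ded_39_1 (flp_i L704870) L704863 L724145
theorem L724151 : sm gf N53546 = N53546 := ded_48_1 (flp_i L724145) L704867 L724145
theorem L724152 : sm gj N53546 = N51707 := ded_53_1 (flp_i L704900) (flp_j L704868) L724145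
theorem L724154 : sm ge N51705 = N53547 := rfl
theorem L724156 : sm ga N53547 = N52373 := ded_13_1 L711554 (flp_a L704885) L724154
theorem L724158 : sm gc N53547 = N51706 := ded_28_1 (flp_e L704892) L704883 L724154
theorem L724160 : sm gg N53547 = N51726 := ded_41_2 L705126 (flp_g L704888) L724154
theorem L724162 : sm gd N53547 = N52351 := ded_34_1 (flp_e L711371) L690416 (flp_e L684087) (flp_d L704890) L724154
theorem L724164 : sm gi N51705 = N53548 := rfl
theorem L724166 : sm ga N53548 = N52389 := ded_18_1 (flp_i L711652) (flp_a L704885) L724164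
theorem L724168 : sm gc N53548 = N51707 := ded_33_1 (flp_i L704900) L704883 L724164
theorem L724170 : sm gd N53548 = N51752 := ded_39_1 (flp_i L705405) (flp_d L704890) L724164
theorem L724172 : sm gf N53548 = N53548 := ded_48_1 (flp_i L724164) L704887 L724164
theorem L724173 : sm gg N53548 = N51739 := ded_51_1 (flp_i L705265) (flp_g L704888) L724164
theorem L724175 : sm gf N51706 = N53549 := rfl
theorem L724177 : sm ga N53549 = N52525 := ded_14_1 (flp_f L712620) (flp_a L704894) L724175
theorem L724179 : sm gd N53549 = N51712 := ded_35_1 (flp_f L704957) (flp_d L704898) L724175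
theorem L724181 : sm ge N53549 = N53549 := ded_40_1 (flp_f L724175) (flp_e L704892) L683660 L704892 L724175
theorem L724182 : sm gi N51706 = N53550 := rfl
theorem L724184 : sm ga N53550 = N52526 := ded_18_1 (flp_i L712625) (flp_a L704894) L724182
theorem L724186 : sm gd N53550 = N51713 := ded_39_1 (flp_i L704967) (flp_d L704898) L724182
theorem L724188 : sm ge N53550 = N51707 := ded_44_1 (flp_i L704900) L704892 L724182
theorem L724190 : sm gg N53550 = N52497 := ded_51_1 (flp_i L712409) (flp_g L704896) L724182
theorem L724192 : sm gh N51707 = N53551 := rfl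
theorem L724194 : sm ga N53551 = N52545 := ded_17_1 (flp_h L712774) (flp_a L704902) L724192
theorem L724196 : sm gf N53551 = N53551 := ded_47_1 (flp_h L724192) L704906 L724192
theorem L724197 : sm gg N53551 = N52498 := ded_50_1 (flp_h L712415) (flp_g L704907) L724192
theorem L724199 : sm gd N53551 = N51855 := ded_38_1 (flp_h L706490) L685128 (flp_h L683674) (flp_d L704904) L724192
theorem L724201 : sm ge N51708 = N53552 := rfl
theorem L724203 : sm ga N53552 = N52507 := ded_13_1 (flp_e L712487) (flp_a L704911) L724201
theorem L724205 : sm gc N53552 = N52492 := ded_28_1 (flp_e L712370) (flp_c L704918) L724201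
theorem L724207 : sm gg N53552 = N51710 := ded_41_2 (flp_e L704935) (flp_g L704914) L724201
theorem L724209 : sm gj N53552 = N52499 := ded_42_2 (flp_e L712421) (flp_j L704916) L724201
theorem L724211 : sm gh N53552 = N51722 := ded_43_2 (flp_e L705075) (flp_h L704920) L724201
theorem L724213 : sm gi N51708 = N53553 := rfl
theorem L724215 : sm ga N53553 = N52508 := ded_18_1 (flp_i L712493) (flp_a L704911) L724213
theorem L724217 : sm gc N53553 = N52493 := ded_33_1 (flp_i L712376) (flp_c L704918) L724213
theorem L724219 : sm gd N53553 = N51709 := ded_39_1 (flp_i L704922) L704909 L724213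
theorem L724221 : sm gf N53553 = N53553 := ded_48_1 (flp_i L724213) L704913 L724213
theorem L724222 : sm gg N53553 = N51711 := ded_51_1 (flp_i L704945) (flp_g L704914) L724213
theorem L724224 : sm gj N53553 = N52500 := ded_53_1 (flp_i L712427) (flp_j L704916) L724213
theorem L724226 : sm gf N51710 = N53554 := rfl
theorem L724228 : sm ga N53554 = N52515 := ded_14_1 (flp_f L712540) (flp_a L704937) L724226
theorem L724230 : sm gc N53554 = N52133 := ded_29_1 L709366 (flp_c L704939) L724226
theorem L724232 : sm gj N53554 = N51712 := ded_46_2 (flp_f L704957) (flp_j L704941) L724226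
theorem L724234 : sm gh N53554 = N51726 := ded_47_2 (flp_f L705120) (flp_h L704943) L724226
theorem L724236 : sm ge N53554 = N51715 := ded_40_1 (flp_f L704991) (flp_e L683733) (flp_f L683691) L704935 L724226
theorem L724238 : sm gi N51710 = N53555 := rfl
theorem L724240 : sm ga N53555 = N52516 := ded_18_1 (flp_i L712548) (flp_a L704937) L724238
theorem L724242 : sm gc N53555 = N52494 := ded_33_1 (flp_i L712385) (flp_c L704939) L724238
theorem L724244 : sm ge N53555 = N51711 := ded_44_1 (flp_i L704945) L704935 L724238
theorem L724246 : sm gj N53555 = N51713 := ded_53_1 (flp_i L704967) (flp_j L704941) L724238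
theorem L724248 : sm gh N51711 = N53556 := rfl
theorem L724250 : sm ga N53556 = N52517 := ded_17_1 (flp_h L712556) (flp_a L704947) L724248
theorem L724252 : sm gc N53556 = N52495 := ded_32_1 (flp_h L712393) (flp_c L704949) L724248
theorem L724254 : sm gf N53556 = N51717 := ded_47_1 (flp_h L705014) (flp_f L704953) L724248
theorem L724256 : sm gj N53556 = N51714 := ded_52_1 (flp_h L704977) (flp_j L704955) L724248
theorem L724258 : sm gd N53556 = N51864 := ded_38_1 (flp_h L706575) L685171 (flp_h L683709) (flp_d L704951) L724248
theorem L724260 : sm gi N53556 = N51728 := ded_54_2 (flp_h L705134) (flp_i L683835) (flp_h L683697) L704945 L724248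
theorem L724262 : sm gi N51712 = N53557 := rfl
theorem L724264 : sm ga N53557 = N52527 := ded_18_1 (flp_i L712631) (flp_a L704959) L724262
theorem L724266 : sm gc N53557 = N52135 := ded_33_1 (flp_i L709380) (flp_c L704961) L724262
theorem L724268 : sm ge N53557 = N51718 := ded_44_1 (flp_i L705027) (flp_e L704965) L724262
theorem L724270 : sm gf N53557 = N51713 := ded_48_1 (flp_i L704967) L704957 L724262
theorem L724272 : sm gh N51713 = N53558 := rfl
theorem L724274 : sm ga N53558 = N52528 := ded_17_1 (flp_h L712639) (flp_a L704969) L724272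
theorem L724276 : sm gc N53558 = N52496 := ded_32_1 (flp_h L712403) (flp_c L704971) L724272
theorem L724278 : sm ge N53558 = N51714 := ded_43_1 (flp_h L704977) (flp_e L704973) L724272
theorem L724280 : sm gg N53558 = N52504 := ded_50_1 (flp_h L712458) (flp_g L704975) L724272
theorem L724282 : sm gi N53558 = N51737 := ded_54_2 (flp_h L705242) (flp_i L683883) (flp_h L683719) L704967 L724272
theorem L724284 : sm gi N51715 = N53559 := rfl
theorem L724286 : sm ga N53559 = N52534 := ded_18_1 (flp_i L712685) (flp_a L704993) L724284
theorem L724288 : sm gc N53559 = N52134 := ded_33_1 (flp_i L709368) (flp_c L704995) L724284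
theorem L724290 : sm gd N53559 = N53559 := ded_39_1 (flp_i L724284) L704997 L724284
theorem L724291 : sm gf N53559 = N51716 := ded_48_1 (flp_i L705002) L704991 L724284
theorem L724293 : sm gj N53559 = N51718 := ded_53_1 (flp_i L705027) (flp_j L704998) L724284
theorem L724295 : sm gh N51716 = N53560 := rfl
theorem L724297 : sm ga N53560 = N52535 := ded_17_1 (flp_h L712694) (flp_a L705004) L724295
theorem L724299 : sm gc N53560 = N52137 := ded_32_1 (flp_h L709400) (flp_c L705006) L724295
theorem L724301 : sm ge N53560 = N51717 := ded_43_1 (flp_h L705014) (flp_e L705009) L724295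
theorem L724303 : sm gg N53560 = N53560 := ded_50_1 (flp_h L724295) L705011 L724295
theorem L724304 : sm gj N53560 = N51719 := ded_52_1 (flp_h L705036) (flp_j L705012) L724295
theorem L724306 : sm gi N53560 = N51740 := ded_54_2 (flp_h L705275) (flp_i L683920) (flp_h L683742) L705002 L724295
theorem L724308 : sm gh N51718 = N53561 := rfl
theorem L724310 : sm ga N53561 = N52540 := ded_17_1 (flp_h L712739) (flp_a L705029) L724308
theorem L724312 : sm gc N53561 = N52136 := ded_32_1 (flp_h L709390) (flp_c L705031) L724308
theorem L724314 : sm gf N53561 = N51719 := ded_47_1 (flp_h L705036) (flp_f L705034) L724308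
theorem L724316 : sm gi N53561 = N51746 := ded_54_2 (flp_h L705352) (flp_i L684002) (flp_h L683763) L705027 L724308
theorem L724318 : sm gd N51719 = N53562 := rfl
theorem L724320 : sm ga N53562 = N52541 := ded_12_1 (flp_d L712745) (flp_a L705038) L724318
theorem L724322 : sm gg N53562 = N51720 := ded_36_2 (flp_d L705048) (flp_g L705044) L724318
theorem L724324 : sm gi N53562 = N51747 := ded_39_2 (flp_d L705356) (flp_i L705046) L724318
theorem L724326 : sm gc N53562 = N52284 := ded_27_1 (flp_d L710803) L689598 (flp_d L688425) (flp_c L705040) L724318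
theorem L724328 : sm ge N53562 = N51888 := ded_34_2 (flp_d L706804) L685342 (flp_d L683784) (flp_e L705042) L724318
theorem L724330 : sm gh N53562 = N53562 := ded_38_2 (flp_d L724318) (flp_h L705036) L683771 L705036 L724318
theorem L724331 : sm ge N51721 = N53563 := rfl
theorem L724333 : sm ga N53563 = N52499 := ded_13_1 (flp_e L712421) (flp_a L705062) L724331
theorem L724335 : sm gb N53563 = N51785 := ded_21_1 (flp_e L705746) L705073 L724331
theorem L724337 : sm gc N53563 = N51722 := ded_28_1 (flp_e L705075) L705060 L724331
theorem L724339 : sm gg N53563 = N51724 := ded_41_2 (flp_e L705090) (flp_g L705065) L724331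
theorem L724341 : sm gj N53563 = N52507 := ded_42_2 (flp_e L712487) (flp_j L705067) L724331
theorem L724343 : sm gh N53563 = N52492 := ded_43_2 (flp_e L712370) (flp_h L705069) L724331
theorem L724345 : sm gd N53563 = N51765 := ded_34_1 (flp_e L705556) (flp_d L684322) (flp_e L684196) (flp_d L705071) L724331
theorem L724347 : sm gi N51721 = N53564 := rfl
theorem L724349 : sm ga N53564 = N52500 := ded_18_1 (flp_i L712427) (flp_a L705062) L724347
theorem L724351 : sm gb N53564 = N51786 := ded_26_1 (flp_i L705754) L705073 L724347
theorem L724353 : sm gc N53564 = N51723 := ded_33_1 (flp_i L705081) L705060 L724347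
theorem L724355 : sm gd N53564 = N51761 := ded_39_1 (flp_i L705495) (flp_d L705071) L724347
theorem L724357 : sm gf N53564 = N53564 := ded_48_1 (flp_i L724347) L705064 L724347
theorem L724358 : sm gg N53564 = N51725 := ded_51_1 (flp_i L705106) (flp_g L705065) L724347
theorem L724360 : sm gj N53564 = N52508 := ded_53_1 (flp_i L712493) (flp_j L705067) L724347
theorem L724362 : sm gf N51722 = N53565 := rfl
theorem L724364 : sm gb N53565 = N52417 := ded_22_1 L716422 L716412 L724362
theorem L724366 : sm gd N53565 = N52415 := ded_35_1 (flp_f L721353) L721351 L724362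
theorem L724368 : sm gj N53565 = N52509 := ded_46_2 (flp_f L712502) (flp_j L705079) L724362
theorem L724370 : sm ge N53565 = N53565 := ded_40_1 (flp_f L724362) (flp_e L705075) L683801 L705075 L724362
theorem L724371 : sm gi N51722 = N53566 := rfl
theorem L724373 : sm ge N53566 = N51723 := ded_44_1 (flp_i L705081) L705075 L724371
theorem L724375 : sm gg N53566 = N51727 := ded_51_1 (flp_i L705128) (flp_g L705077) L724371
theorem L724377 : sm gj N53566 = N52510 := ded_53_1 (flp_i L712505) (flp_j L705079) L724371
theorem L724379 : sm gh N51723 = N53567 := rfl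
theorem L724381 : sm gf N53567 = N53567 := ded_47_1 (flp_h L724379) L705085 L724379
theorem L724382 : sm gg N53567 = N51728 := ded_50_1 (flp_h L705134) (flp_g L705086) L724379
theorem L724384 : sm gj N53567 = N52511 := ded_52_1 (flp_h L712511) (flp_j L705088) L724379
theorem L724386 : sm gd N53567 = N51902 := ded_38_1 (flp_h L706945) L685446 (flp_h L683815) (flp_d L705083) L724379
theorem L724388 : sm gi N51724 = N53568 := rfl
theorem L724390 : sm ga N53568 = N52501 := ded_18_1 (flp_i L712434) (flp_a L705092) L724388
theorem L724392 : sm gb N53568 = N52548 := ded_26_1 (flp_i L712793) (flp_b L705094) L724388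
theorem L724394 : sm gc N53568 = N51727 := ded_33_1 (flp_i L705128) (flp_c L705096) L724388
theorem L724396 : sm gd N53568 = N52503 := ded_39_1 (flp_i L712450) (flp_d L705102) L724388
theorem L724398 : sm ge N53568 = N51725 := ded_44_1 (flp_i L705106) L705090 L724388
theorem L724400 : sm gf N53568 = N52497 := ded_48_1 (flp_i L712409) (flp_f L705104) L724388
theorem L724402 : sm gj N53568 = N51733 := ded_53_1 (flp_i L705204) (flp_j L705098) L724388
theorem L724404 : sm gh N51725 = N53569 := rfl
theorem L724406 : sm ga N53569 = N52502 := ded_17_1 (flp_h L712440) (flp_a L705108) L724404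
theorem L724408 : sm gb N53569 = N52549 := ded_25_1 (flp_h L712801) (flp_b L705110) L724404
theorem L724410 : sm gc N53569 = N51728 := ded_32_1 (flp_h L705134) (flp_c L705112) L724404
theorem L724412 : sm gf N53569 = N51738 := ded_47_1 (flp_h L705248) (flp_f L705116) L724404
theorem L724414 : sm gj N53569 = N51734 := ded_52_1 (flp_h L705214) (flp_j L705118) L724404
theorem L724416 : sm gd N53569 = N52551 := ded_38_1 (flp_h L712815) L692156 (flp_h L684238) (flp_d L705114) L724404
theorem L724418 : sm gi N53569 = N52495 := ded_54_2 (flp_h L712393) (flp_i L691630) (flp_h L683825) L705106 L724404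
theorem L724420 : sm gi N51726 = N53570 := rfl
theorem L724422 : sm gc N53570 = N52497 := ded_33_1 (flp_i L712409) (flp_c L705122) L724420
theorem L724424 : sm ge N53570 = N51739 := ded_44_1 (flp_i L705265) (flp_e L705126) L724420
theorem L724426 : sm gf N53570 = N51727 := ded_48_1 (flp_i L705128) L705120 L724420
theorem L724428 : sm gj N53570 = N51736 := ded_53_1 (flp_i L705236) (flp_j L705124) L724420
theorem L724430 : sm gh N51727 = N53571 := rfl
theorem L724432 : sm ge N53571 = N51728 := ded_43_1 (flp_h L705134) (flp_e L705130) L724430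
theorem L724434 : sm gj N53571 = N51737 := ded_52_1 (flp_h L705242) (flp_j L705132) L724430
theorem L724436 : sm gi N51729 = N53572 := rfl
theorem L724438 : sm ga N53572 = N52219 := ded_18_1 (flp_i L710213) (flp_a L705144) L724436
theorem L724440 : sm gb N53572 = N51733 := ded_26_1 (flp_i L705204) (flp_b L705146) L724436
theorem L724442 : sm gd N53572 = N52550 := ded_39_1 (flp_i L712807) (flp_d L705154) L724436
theorem L724444 : sm ge N53572 = N51730 := ded_44_1 (flp_i L705158) L705142 L724436
theorem L724446 : sm gf N53572 = N52140 := ded_48_1 (flp_i L709432) (flp_f L705156) L724436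
theorem L724448 : sm gg N53572 = N52523 := ded_51_1 (flp_i L712608) (flp_g L705148) L724436
theorem L724450 : sm gj N53572 = N52548 := ded_53_1 (flp_i L712793) (flp_j L705150) L724436
theorem L724452 : sm gh N51730 = N53573 := rfl
theorem L724454 : sm ga N53573 = N52230 := ded_17_1 (flp_h L710339) (flp_a L705160) L724452
theorem L724456 : sm gb N53573 = N51734 := ded_25_1 (flp_h L705214) (flp_b L705162) L724452
theorem L724458 : sm gf N53573 = N51741 := ded_47_1 (flp_h L705284) (flp_f L705166) L724452
theorem L724460 : sm gg N53573 = N52524 := ded_50_1 (flp_h L712614) (flp_g L705168) L724452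
theorem L724462 : sm gj N53573 = N52549 := ded_52_1 (flp_h L712801) (flp_j L705170) L724452
theorem L724464 : sm gd N53573 = N52506 := ded_38_1 (flp_h L712479) L691749 (flp_h L684274) (flp_d L705164) L724452
theorem L724466 : sm gi N53573 = N52173 := ded_54_2 (flp_h L709750) (flp_i L688691) (flp_h L683853) L705158 L724452
theorem L724468 : sm gi N51731 = N53574 := rfl
theorem L724470 : sm ga N53574 = N52497 := ded_18_1 (flp_i L712409) (flp_a L705174) L724468
theorem L724472 : sm gb N53574 = N52550 := ded_26_1 (flp_i L712807) (flp_b L705176) L724468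
theorem L724474 : sm gd N53574 = N51733 := ded_39_1 (flp_i L705204) L705172 L724468
theorem L724476 : sm ge N53574 = N51762 := ded_44_1 (flp_i L705512) (flp_e L705182) L724468
theorem L724478 : sm gf N53574 = N52501 := ded_48_1 (flp_i L712434) L705184 L724468
theorem L724480 : sm gg N53574 = N52526 := ded_51_1 (flp_i L712625) (flp_g L705178) L724468
theorem L724482 : sm gj N53574 = N52503 := ded_53_1 (flp_i L712450) (flp_j L705180) L724468
theorem L724484 : sm gi N51732 = N53575 := rfl
theorem L724486 : sm ga N53575 = N52503 := ded_18_1 (flp_i L712450) (flp_a L705190) L724484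
theorem L724488 : sm gb N53575 = N52140 := ded_26_1 (flp_i L709432) (flp_b L705192) L724484
theorem L724490 : sm gc N53575 = N51736 := ded_33_1 (flp_i L705236) (flp_c L705194) L724484
theorem L724492 : sm gd N53575 = N52501 := ded_39_1 (flp_i L712434) (flp_d L705196) L724484
theorem L724494 : sm ge N53575 = N51742 := ded_44_1 (flp_i L705300) (flp_e L705202) L724484
theorem L724496 : sm gf N53575 = N51733 := ded_48_1 (flp_i L705204) L705188 L724484
theorem L724498 : sm gj N53575 = N52497 := ded_53_1 (flp_i L712409) (flp_j L705198) L724484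
theorem L724500 : sm gh N51733 = N53576 := rfl
theorem L724502 : sm ga N53576 = N52504 := ded_17_1 (flp_h L712458) (flp_a L705206) L724500
theorem L724504 : sm gc N53576 = N51737 := ded_32_1 (flp_h L705242) (flp_c L705208) L724500
theorem L724506 : sm ge N53576 = N51734 := ded_43_1 (flp_h L705214) (flp_e L705210) L724500
theorem L724508 : sm gg N53576 = N52528 := ded_50_1 (flp_h L712639) (flp_g L705212) L724500
theorem L724510 : sm gi N53576 = N52496 := ded_54_2 (flp_h L712403) (flp_i L691640) (flp_h L683865) L705204 L724500
theorem L724512 : sm gj N51735 = N53577 := rfl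
theorem L724514 : sm ga N53577 = N52438 := ded_16_1 (flp_j L717255) L717247 L724512
theorem L724516 : sm gb N53577 = N51805 := ded_24_1 L705982 (flp_b L705230) L724512
theorem L724518 : sm gd N53577 = N52436 := ded_37_1 L721453 L721447 L724512
theorem L724520 : sm ge N53577 = N51744 := ded_42_1 (flp_j L705332) (flp_e L705232) L724512
theorem L724522 : sm gf N53577 = N51772 := ded_46_1 L705631 (flp_f L705234) L724512
theorem L724524 : sm gi N51735 = N53578 := rfl
theorem L724526 : sm gb N53578 = N51814 := ded_26_1 (flp_i L706066) (flp_b L705230) L724524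
theorem L724528 : sm ge N53578 = N51745 := ded_44_1 (flp_i L705342) (flp_e L705232) L724524
theorem L724530 : sm gf N53578 = N51776 := ded_48_1 (flp_i L705658) (flp_f L705234) L724524
theorem L724532 : sm gg N53578 = N51736 := ded_51_1 (flp_i L705236) L705228 L724524
theorem L724534 : sm gh N51736 = N53579 := rfl
theorem L724536 : sm ge N53579 = N51746 := ded_43_1 (flp_h L705352) (flp_e L705238) L724534
theorem L724538 : sm gf N53579 = N51737 := ded_47_1 (flp_h L705242) (flp_f L705240) L724534
theorem L724540 : sm gd N51737 = N53580 := rfl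
theorem L724542 : sm gg N53580 = N52530 := ded_36_2 (flp_d L712653) (flp_g L705246) L724540
theorem L724544 : sm ge N53580 = N51929 := ded_34_2 (flp_d L707153) L685561 (flp_d L683895) (flp_e L705244) L724540
theorem L724546 : sm gh N51739 = N53581 := rfl
theorem L724548 : sm gc N53581 = N52498 := ded_32_1 (flp_h L712415) (flp_c L705267) L724546
theorem L724550 : sm gf N53581 = N51740 := ded_47_1 (flp_h L705275) (flp_f L705271) L724546
theorem L724552 : sm gj N53581 = N51746 := ded_52_1 (flp_h L705352) (flp_j L705273) L724546
theorem L724554 : sm gd N51740 = N53582 := rfl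
theorem L724556 : sm gg N53582 = N53582 := ded_36_2 (flp_d L724554) L705281 L724554
theorem L724557 : sm gj N53582 = N51747 := ded_37_2 (flp_d L705356) (flp_j L705282) L724554
theorem L724559 : sm gc N53582 = N52768 := ded_27_1 (flp_d L714461) L694357 (flp_d L694332) (flp_c L705277) L724554
theorem L724561 : sm ge N53582 = N51941 := ded_34_2 (flp_d L707253) L685634 (flp_d L683936) (flp_e L705279) L724554
theorem L724563 : sm gh N53582 = N51754 := ded_38_2 (flp_d L705425) (flp_h L684099) (flp_d L683924) L705275 L724554
theorem L724565 : sm gh N51742 = N53583 := rfl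
theorem L724567 : sm ga N53583 = N52506 := ded_17_1 (flp_h L712479) (flp_a L705302) L724565
theorem L724569 : sm gb N53583 = N52141 := ded_25_1 (flp_h L709438) (flp_b L705304) L724565
theorem L724571 : sm gc N53583 = N51746 := ded_32_1 (flp_h L705352) (flp_c L705306) L724565
theorem L724573 : sm gf N53583 = N51743 := ded_47_1 (flp_h L705314) (flp_f L705310) L724565
theorem L724575 : sm gj N53583 = N52498 := ded_52_1 (flp_h L712415) (flp_j L705312) L724565
theorem L724577 : sm gd N53583 = N52230 := ded_38_1 (flp_h L710339) L689223 (flp_h L688355) (flp_d L705308) L724565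
theorem L724579 : sm gi N53583 = N52136 := ded_54_2 (flp_h L709390) (flp_i L688392) (flp_h L683964) L705300 L724565
theorem L724581 : sm gi N51744 = N53584 := rfl
theorem L724583 : sm ga N53584 = N52477 := ded_18_1 (flp_i L712263) (flp_a L705334) L724581
theorem L724585 : sm gb N53584 = N51820 := ded_26_1 (flp_i L706131) (flp_b L705336) L724581
theorem L724587 : sm gd N53584 = N51755 := ded_39_1 (flp_i L705435) (flp_d L705338) L724581
theorem L724589 : sm gf N53584 = N51748 := ded_48_1 (flp_i L705364) (flp_f L705340) L724581
theorem L724591 : sm gj N53584 = N51745 := ded_53_1 (flp_i L705342) L705332 L724581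
theorem L724593 : sm gh N51745 = N53585 := rfl
theorem L724595 : sm gb N53585 = N51825 := ded_25_1 (flp_h L706183) (flp_b L705344) L724593
theorem L724597 : sm gf N53585 = N51749 := ded_47_1 (flp_h L705377) (flp_f L705348) L724593
theorem L724599 : sm gg N53585 = N51746 := ded_50_1 (flp_h L705352) (flp_g L705350) L724593
theorem L724601 : sm gd N51746 = N53586 := rfl
theorem L724603 : sm gf N53586 = N51747 := ded_35_2 (flp_d L705356) (flp_f L705354) L724601
theorem L724605 : sm gh N53586 = N51757 := ded_38_2 (flp_d L705458) (flp_h L684130) (flp_d L684004) L705352 L724601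
theorem L724607 : sm gc N51747 = N53587 := rfl
theorem L724609 : sm ge N53587 = N51955 := ded_28_2 (flp_c L707363) (flp_e L705360) L724607
theorem L724611 : sm gg N53587 = N51751 := ded_30_2 (flp_c L705394) (flp_g L705358) L724607
theorem L724613 : sm gj N53587 = N52768 := ded_31_2 (flp_c L724559) L724557 L724607
theorem L724615 : sm gh N53587 = N51758 := ded_32_2 (flp_c L705463) (flp_h L705362) L724607
theorem L724617 : sm gi N53587 = N52284 := ded_33_2 (flp_c L724326) L724324 L724607
theorem L724619 : sm gd N53587 = N52227 := ded_27_2 L710310 (flp_d L705328) L705320 L705356 L724607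
theorem L724621 : sm gh N51748 = N53588 := rfl
theorem L724623 : sm ga N53588 = N52722 := ded_17_1 (flp_h L714087) (flp_a L705366) L724621
theorem L724625 : sm gb N53588 = N51821 := ded_25_1 (flp_h L706141) (flp_b L705368) L724621
theorem L724627 : sm ge N53588 = N51779 := ded_43_1 (flp_h L705684) (flp_e L705372) L724621
theorem L724629 : sm gg N53588 = N53588 := ded_50_1 (flp_h L724621) L705374 L724621
theorem L724630 : sm gj N53588 = N51749 := ded_52_1 (flp_h L705377) (flp_j L705375) L724621
theorem L724632 : sm gd N51749 = N53589 := rfl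
theorem L724634 : sm gb N53589 = N51826 := ded_20_1 (flp_d L706189) (flp_b L705379) L724632
theorem L724636 : sm gg N53589 = N51750 := ded_36_2 (flp_d L705385) (flp_g L705383) L724632
theorem L724638 : sm gh N53589 = N51760 := ded_38_2 (flp_d L705488) (flp_h L684155) (flp_d L684059) L705377 L724632
theorem L724640 : sm gh N51752 = N53590 := rfl
theorem L724642 : sm ga N53590 = N52390 := ded_17_1 (flp_h L711659) (flp_a L705407) L724640
theorem L724644 : sm gc N53590 = N52004 := ded_32_1 (flp_h L707870) (flp_c L705409) L724640
theorem L724646 : sm ge N53590 = N52359 := ded_43_1 (flp_h L711442) (flp_e L705411) L724640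
theorem L724648 : sm gf N53590 = N53590 := ded_47_1 (flp_h L724640) L705413 L724640
theorem L724649 : sm gg N53590 = N51753 := ded_50_1 (flp_h L705416) (flp_g L705414) L724640
theorem L724651 : sm gi N53590 = N53590 := ded_54_2 (flp_h L724640) (flp_i L705405) L684089 L705405 L724640
theorem L724652 : sm gd N51753 = N53591 := rfl
theorem L724654 : sm gf N53591 = N51754 := ded_35_2 (flp_d L705425) (flp_f L705420) L724652
theorem L724656 : sm gj N53591 = N51757 := ded_37_2 (flp_d L705458) (flp_j L705422) L724652
theorem L724658 : sm gi N53591 = N53591 := ded_39_2 (flp_d L724652) L705424 L724652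
theorem L724659 : sm gc N53591 = N52714 := ded_27_1 (flp_d L714043) L693435 (flp_d L693326) (flp_c L705418) L724652
theorem L724661 : sm gh N51755 = N53592 := rfl
theorem L724663 : sm ga N53592 = N52478 := ded_17_1 (flp_h L712271) (flp_a L705437) L724661
theorem L724665 : sm gb N53592 = N51830 := ded_25_1 (flp_h L706222) (flp_b L705439) L724661
theorem L724667 : sm gc N53592 = N52491 := ded_32_1 (flp_h L712360) (flp_c L705441) L724661
theorem L724669 : sm ge N53592 = N52476 := ded_43_1 (flp_h L712254) (flp_e L705443) L724661
theorem L724671 : sm gf N53592 = N51759 := ded_47_1 (flp_h L705474) (flp_f L705445) L724661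
theorem L724673 : sm gj N53592 = N51756 := ded_52_1 (flp_h L705449) (flp_j L705447) L724661
theorem L724675 : sm gi N53592 = N53592 := ded_54_2 (flp_h L724661) (flp_i L705435) L684121 L705435 L724661
theorem L724676 : sm gd N51756 = N53593 := rfl
theorem L724678 : sm gb N53593 = N51832 := ded_20_1 (flp_d L706240) (flp_b L705451) L724676
theorem L724680 : sm gf N53593 = N51760 := ded_35_2 (flp_d L705488) (flp_f L705453) L724676
theorem L724682 : sm gg N53593 = N51757 := ded_36_2 (flp_d L705458) (flp_g L705455) L724676
theorem L724684 : sm gi N53593 = N53593 := ded_39_2 (flp_d L724676) L705457 L724676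
theorem L724685 : sm gc N51757 = N53594 := rfl
theorem L724687 : sm gf N53594 = N51758 := ded_29_2 (flp_c L705463) (flp_f L705460) L724685
theorem L724689 : sm gj N53594 = N52714 := ded_31_2 (flp_c L724659) L724656 L724685
theorem L724691 : sm gi N53594 = N53594 := ded_33_2 (flp_c L724685) L705462 L724685
theorem L724692 : sm gd N53594 = N52705 := ded_27_2 L713974 (flp_d L704535) L704529 L705458 L724685
theorem L724694 : sm ge N51757 = N53595 := rfl
theorem L724696 : sm gi N53595 = N53595 := ded_44_2 (flp_e L724694) L705462 L724694
theorem L724697 : sm gf N53595 = N51976 := ded_40_2 (flp_e L707548) L685889 (flp_e L684140) (flp_f L705460) L724694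
theorem L724699 : sm gd N51759 = N53596 := rfl
theorem L724701 : sm ga N53596 = N52723 := ded_12_1 (flp_d L714092) (flp_a L705476) L724699
theorem L724703 : sm gb N53596 = N51831 := ded_20_1 (flp_d L706232) (flp_b L705478) L724699
theorem L724705 : sm gg N53596 = N53596 := ded_36_2 (flp_d L724699) L705484 L724699
theorem L724706 : sm gj N53596 = N51760 := ded_37_2 (flp_d L705488) (flp_j L705485) L724699
theorem L724708 : sm gi N53596 = N53596 := ded_39_2 (flp_d L724699) L705487 L724699
theorem L724709 : sm gh N51762 = N53597 := rfl
theorem L724711 : sm ga N53597 = N52498 := ded_17_1 (flp_h L712415) (flp_a L705514) L724709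
theorem L724713 : sm gb N53597 = N52551 := ded_25_1 (flp_h L712815) (flp_b L705516) L724709
theorem L724715 : sm gf N53597 = N52505 := ded_47_1 (flp_h L712464) (flp_f L705520) L724709
theorem L724717 : sm gg N53597 = N52545 := ded_50_1 (flp_h L712774) (flp_g L705522) L724709
theorem L724719 : sm gj N53597 = N52506 := ded_52_1 (flp_h L712479) (flp_j L705524) L724709
theorem L724721 : sm gd N53597 = N52549 := ded_38_1 (flp_h L712801) L692140 (flp_h L684306) (flp_d L705518) L724709
theorem L724723 : sm gi N53597 = N52537 := ded_54_2 (flp_h L712712) (flp_i L691925) (flp_h L684288) L705512 L724709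
theorem L724725 : sm ge N51763 = N53598 := rfl
theorem L724727 : sm gb N53598 = N51789 := ded_21_1 (flp_e L705795) (flp_b L705528) L724725
theorem L724729 : sm gc N53598 = N52438 := ded_28_1 L712007 (flp_c L705536) L724725
theorem L724731 : sm gg N53598 = N52514 := ded_41_2 L712538 (flp_g L705532) L724725
theorem L724733 : sm gj N53598 = N51765 := ded_42_2 (flp_e L705556) (flp_j L705534) L724725
theorem L724735 : sm gh N53598 = N51772 := ded_43_2 (flp_e L705627) (flp_h L705538) L724725
theorem L724737 : sm gd N53598 = N52507 := ded_34_1 (flp_e L712487) L691768 (flp_e L684314) L705526 L724725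
theorem L724739 : sm gi N51763 = N53599 := rfl
theorem L724741 : sm gb N53599 = N51790 := ded_26_1 (flp_i L705805) (flp_b L705528) L724739
theorem L724743 : sm gc N53599 = N52477 := ded_33_1 (flp_i L712263) (flp_c L705536) L724739
theorem L724745 : sm gd N53599 = N51764 := ded_39_1 (flp_i L705540) L705526 L724739
theorem L724747 : sm gf N53599 = N51767 := ded_48_1 (flp_i L705574) (flp_f L705530) L724739
theorem L724749 : sm gg N53599 = N52543 := ded_51_1 (flp_i L712756) (flp_g L705532) L724739
theorem L724751 : sm gj N53599 = N51766 := ded_53_1 (flp_i L705564) (flp_j L705534) L724739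
theorem L724753 : sm gi N51765 = N53600 := rfl
theorem L724755 : sm gb N53600 = N51792 := ded_26_1 (flp_i L705827) (flp_b L705558) L724753
theorem L724757 : sm ge N53600 = N51766 := ded_44_1 (flp_i L705564) L705556 L724753
theorem L724759 : sm gg N53600 = N52503 := ded_51_1 (flp_i L712450) (flp_g L705560) L724753
theorem L724761 : sm gh N51766 = N53601 := rfl
theorem L724763 : sm gb N53601 = N51793 := ded_25_1 (flp_h L705837) (flp_b L705566) L724761
theorem L724765 : sm gf N53601 = N51768 := ded_47_1 (flp_h L705585) (flp_f L705570) L724761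
theorem L724767 : sm gg N53601 = N52506 := ded_50_1 (flp_h L712479) (flp_g L705572) L724761
theorem L724769 : sm gd N53601 = N52524 := ded_38_1 (flp_h L712614) L691835 (flp_h L684342) (flp_d L705568) L724761
theorem L724771 : sm gi N53601 = N51777 := ded_54_2 (flp_h L705666) (flp_i L684426) (flp_h L684330) L705564 L724761
theorem L724773 : sm gh N51767 = N53602 := rfl
theorem L724775 : sm gb N53602 = N51796 := ded_25_1 (flp_h L705874) (flp_b L705576) L724773
theorem L724777 : sm gc N53602 = N52722 := ded_32_1 (flp_h L714087) (flp_c L705578) L724773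
theorem L724779 : sm gg N53602 = N53602 := ded_50_1 (flp_h L724773) L705582 L724773
theorem L724780 : sm gj N53602 = N51768 := ded_52_1 (flp_h L705585) (flp_j L705583) L724773
theorem L724782 : sm gd N53602 = N52533 := ded_38_1 (flp_h L712678) L691887 (flp_h L684365) (flp_d L705580) L724773
theorem L724784 : sm gi N53602 = N51779 := ded_54_2 (flp_h L705684) (flp_i L684446) (flp_h L684353) L705574 L724773
theorem L724786 : sm ge N51769 = N53603 := rfl
theorem L724788 : sm gb N53603 = N51801 := ded_21_1 (flp_e L705933) (flp_b L705597) L724786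
theorem L724790 : sm gg N53603 = N51772 := ded_41_2 (flp_e L705627) (flp_g L705600) L724786
theorem L724792 : sm gj N53603 = N52518 := ded_42_2 L712568 (flp_j L705602) L724786
theorem L724794 : sm gh N53603 = N52514 := ded_43_2 L712538 (flp_h L705604) L724786
theorem L724796 : sm gi N51769 = N53604 := rfl
theorem L724798 : sm gb N53604 = N51802 := ded_26_1 (flp_i L705941) (flp_b L705597) L724796
theorem L724800 : sm gd N53604 = N51770 := ded_39_1 (flp_i L705606) L705595 L724796
theorem L724802 : sm gf N53604 = N53604 := ded_48_1 (flp_i L724796) L705599 L724796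
theorem L724803 : sm gg N53604 = N51773 := ded_51_1 (flp_i L705633) (flp_g L705600) L724796
theorem L724805 : sm gj N53604 = N52536 := ded_53_1 (flp_i L712703) (flp_j L705602) L724796
theorem L724807 : sm ge N51771 = N53605 := rfl
theorem L724809 : sm gb N53605 = N52442 := ded_21_1 L712031 (flp_b L705624) L724807
theorem L724811 : sm gc N53605 = N51772 := ded_28_1 (flp_e L705627) L705616 L724807
theorem L724813 : sm gj N53605 = N51774 := ded_42_2 (flp_e L705643) (flp_j L705620) L724807
theorem L724815 : sm gh N53605 = N52438 := ded_43_2 L712007 (flp_h L705622) L724807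
theorem L724817 : sm gi N51771 = N53606 := rfl
theorem L724819 : sm gb N53606 = N52480 := ded_26_1 (flp_i L712289) (flp_b L705624) L724817
theorem L724821 : sm gc N53606 = N51773 := ded_33_1 (flp_i L705633) L705616 L724817
theorem L724823 : sm gd N53606 = N53606 := ded_39_1 (flp_i L724817) L705626 L724817
theorem L724824 : sm gf N53606 = N51778 := ded_48_1 (flp_i L705674) (flp_f L705618) L724817
theorem L724826 : sm gj N53606 = N51775 := ded_53_1 (flp_i L705649) (flp_j L705620) L724817
theorem L724828 : sm gi N51772 = N53607 := rfl
theorem L724830 : sm gb N53607 = N51806 := ded_26_1 (flp_i L705986) (flp_b L705629) L724828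
theorem L724832 : sm ge N53607 = N51773 := ded_44_1 (flp_i L705633) L705627 L724828
theorem L724834 : sm gj N53607 = N51776 := ded_53_1 (flp_i L705658) (flp_j L705631) L724828
theorem L724836 : sm gh N51773 = N53608 := rfl
theorem L724838 : sm gb N53608 = N51807 := ded_25_1 (flp_h L705994) (flp_b L705635) L724836
theorem L724840 : sm gf N53608 = N51779 := ded_47_1 (flp_h L705684) (flp_f L705639) L724836
theorem L724842 : sm gj N53608 = N51777 := ded_52_1 (flp_h L705666) (flp_j L705641) L724836
theorem L724844 : sm gd N51774 = N53609 := rfl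
theorem L724846 : sm gf N53609 = N52499 := ded_35_2 (flp_d L717103) L717105 L724844
theorem L724848 : sm gg N53609 = N52525 := ded_36_2 L712622 (flp_g L705647) L724844
theorem L724850 : sm ge N53609 = N53609 := ded_34_2 (flp_d L724844) (flp_e L705643) L684419 L705643 L724844
theorem L724851 : sm gh N52509 = N53609 := ded_47_0 L724846 L712425 L712502
theorem L724853 : sm gi N51774 = N53610 := rfl
theorem L724855 : sm gc N53610 = N51776 := ded_33_1 (flp_i L705658) (flp_c L705645) L724853
theorem L724857 : sm ge N53610 = N51775 := ded_44_1 (flp_i L705649) L705643 L724853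
theorem L724859 : sm gg N53610 = N52527 := ded_51_1 (flp_i L712631) (flp_g L705647) L724853
theorem L724861 : sm gh N51775 = N53611 := rfl
theorem L724863 : sm gc N53611 = N51777 := ded_32_1 (flp_h L705666) (flp_c L705651) L724861
theorem L724865 : sm gf N53611 = N51780 := ded_47_1 (flp_h L705691) (flp_f L705654) L724861
theorem L724867 : sm gg N53611 = N52540 := ded_50_1 (flp_h L712739) (flp_g L705656) L724861
theorem L724869 : sm gh N51776 = N53612 := rfl
theorem L724871 : sm gb N53612 = N51815 := ded_25_1 (flp_h L706074) (flp_b L705660) L724869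
theorem L724873 : sm ge N53612 = N51777 := ded_43_1 (flp_h L705666) (flp_e L705662) L724869
theorem L724875 : sm gg N53612 = N52529 := ded_50_1 (flp_h L712645) (flp_g L705664) L724869
theorem L724877 : sm gh N51778 = N53613 := rfl
theorem L724879 : sm gb N53613 = N52724 := ded_25_1 (flp_h L714098) (flp_b L705676) L724877
theorem L724881 : sm gc N53613 = N51779 := ded_32_1 (flp_h L705684) (flp_c L705678) L724877
theorem L724883 : sm gg N53613 = N53613 := ded_50_1 (flp_h L724877) L705681 L724877
theorem L724884 : sm gj N53613 = N51780 := ded_52_1 (flp_h L705691) (flp_j L705682) L724877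
theorem L724886 : sm gi N53613 = N52722 := ded_54_2 (flp_h L714087) (flp_i L693715) (flp_h L684441) L705674 L724877
theorem L724888 : sm gd N51780 = N53614 := rfl
theorem L724890 : sm gg N53614 = N51781 := ded_36_2 (flp_d L705697) (flp_g L705695) L724888
theorem L724892 : sm gh N53614 = N53614 := ded_38_2 (flp_d L724888) (flp_h L705691) L684459 L705691 L724888
theorem L724893 : sm ge N51782 = N53615 := rfl
theorem L724895 : sm ga N53615 = N51848 := ded_13_1 (flp_e L706442) (flp_a L705705) L724893
theorem L724897 : sm gb N53615 = N52507 := ded_21_1 (flp_e L712487) (flp_b L705707) L724893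
theorem L724899 : sm gc N53615 = N52250 := ded_28_1 L710520 (flp_c L705714) L724893
theorem L724901 : sm gg N53615 = N52512 := ded_41_2 (flp_e L712518) (flp_g L705710) L724893
theorem L724903 : sm gj N53615 = N51785 := ded_42_2 (flp_e L705746) (flp_j L705712) L724893
theorem L724905 : sm gd N53615 = N51789 := ded_34_1 (flp_e L705795) (flp_d L684525) (flp_e L684483) L705703 L724893
theorem L724907 : sm gi N51782 = N53616 := rfl
theorem L724909 : sm ga N53616 = N51849 := ded_18_1 (flp_i L706448) (flp_a L705705) L724907
theorem L724911 : sm gb N53616 = N52508 := ded_26_1 (flp_i L712493) (flp_b L705707) L724907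
theorem L724913 : sm gc N53616 = N52305 := ded_33_1 (flp_i L710986) (flp_c L705714) L724907
theorem L724915 : sm gd N53616 = N51783 := ded_39_1 (flp_i L705716) L705703 L724907
theorem L724917 : sm gf N53616 = N53616 := ded_48_1 (flp_i L724907) L705709 L724907
theorem L724918 : sm gg N53616 = N52513 := ded_51_1 (flp_i L712524) (flp_g L705710) L724907
theorem L724920 : sm gj N53616 = N51786 := ded_53_1 (flp_i L705754) (flp_j L705712) L724907
theorem L724922 : sm ge N51784 = N53617 := rfl
theorem L724924 : sm ga N53617 = N51851 := ded_13_1 (flp_e L706462) (flp_a L705735) L724922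
theorem L724926 : sm gb N53617 = N52242 := ded_21_1 L710452 (flp_b L705742) L724922
theorem L724928 : sm gc N53617 = N51785 := ded_28_1 (flp_e L705746) L705733 L724922
theorem L724930 : sm gg N53617 = N52546 := ded_41_2 (flp_e L712777) (flp_g L705738) L724922
theorem L724932 : sm gj N53617 = N52250 := ded_42_2 L710520 (flp_j L705740) L724922
theorem L724934 : sm gd N53617 = N52240 := ded_34_1 (flp_e L710428) L689336 (flp_e L686424) (flp_d L705744) L724922
theorem L724936 : sm gi N51784 = N53618 := rfl
theorem L724938 : sm ga N53618 = N51852 := ded_18_1 (flp_i L706468) (flp_a L705735) L724936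
theorem L724940 : sm gb N53618 = N52300 := ded_26_1 (flp_i L710947) (flp_b L705742) L724936
theorem L724942 : sm gc N53618 = N51786 := ded_33_1 (flp_i L705754) L705733 L724936
theorem L724944 : sm gd N53618 = N52005 := ded_39_1 (flp_i L707883) (flp_d L705744) L724936
theorem L724946 : sm gf N53618 = N53618 := ded_48_1 (flp_i L724936) L705737 L724936
theorem L724947 : sm gg N53618 = N52547 := ded_51_1 (flp_i L712783) (flp_g L705738) L724936
theorem L724949 : sm gj N53618 = N52305 := ded_53_1 (flp_i L710986) (flp_j L705740) L724936
theorem L724951 : sm gf N51785 = N53619 := rfl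
theorem L724953 : sm ga N53619 = N51853 := ded_14_1 (flp_f L706477) (flp_a L705748) L724951
theorem L724955 : sm gd N53619 = N51791 := ded_35_1 (flp_f L705817) (flp_d L705752) L724951
theorem L724957 : sm ge N53619 = N53619 := ded_40_1 (flp_f L724951) (flp_e L705746) L684494 L705746 L724951
theorem L724958 : sm gi N51785 = N53620 := rfl
theorem L724960 : sm ga N53620 = N51854 := ded_18_1 (flp_i L706482) (flp_a L705748) L724958
theorem L724962 : sm gd N53620 = N51792 := ded_39_1 (flp_i L705827) (flp_d L705752) L724958
theorem L724964 : sm ge N53620 = N51786 := ded_44_1 (flp_i L705754) L705746 L724958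
theorem L724966 : sm gg N53620 = N52548 := ded_51_1 (flp_i L712793) (flp_g L705750) L724958
theorem L724968 : sm gh N51786 = N53621 := rfl
theorem L724970 : sm ga N53621 = N51855 := ded_17_1 (flp_h L706490) (flp_a L705756) L724968
theorem L724972 : sm gf N53621 = N53621 := ded_47_1 (flp_h L724968) L705760 L724968
theorem L724973 : sm gg N53621 = N52549 := ded_50_1 (flp_h L712801) (flp_g L705761) L724968
theorem L724975 : sm gd N53621 = N52545 := ded_38_1 (flp_h L712774) L692081 (flp_h L684508) (flp_d L705758) L724968
theorem L724977 : sm ge N51787 = N53622 := rfl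
theorem L724979 : sm ga N53622 = N51857 := ded_13_1 (flp_e L706508) (flp_a L705765) L724977
theorem L724981 : sm gb N53622 = N52514 := ded_21_1 L712538 (flp_b L705767) L724977
theorem L724983 : sm gc N53622 = N51915 := ded_28_1 L707052 (flp_c L705774) L724977
theorem L724985 : sm gg N53622 = N51789 := ded_41_2 (flp_e L705795) (flp_g L705770) L724977
theorem L724987 : sm gj N53622 = N52521 := ded_42_2 L712596 (flp_j L705772) L724977
theorem L724989 : sm gh N53622 = N51801 := ded_43_2 (flp_e L705933) (flp_h L705776) L724977
theorem L724991 : sm gd N53622 = N52512 := ded_34_1 (flp_e L712518) L691783 (flp_e L684518) L705763 L724977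
theorem L724993 : sm gi N51787 = N53623 := rfl
theorem L724995 : sm ga N53623 = N51858 := ded_18_1 (flp_i L706516) (flp_a L705765) L724993
theorem L724997 : sm gb N53623 = N52543 := ded_26_1 (flp_i L712756) (flp_b L705767) L724993
theorem L724999 : sm gc N53623 = N51992 := ded_33_1 (flp_i L707744) (flp_c L705774) L724993
theorem L725001 : sm gd N53623 = N51788 := ded_39_1 (flp_i L705778) L705763 L724993
theorem L725003 : sm gf N53623 = N53623 := ded_48_1 (flp_i L724993) L705769 L724993
theorem L725004 : sm gg N53623 = N51790 := ded_51_1 (flp_i L705805) (flp_g L705770) L724993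
theorem L725006 : sm gj N53623 = N52544 := ded_53_1 (flp_i L712763) (flp_j L705772) L724993
theorem L725008 : sm gf N51789 = N53624 := rfl
theorem L725010 : sm ga N53624 = N51862 := ded_14_1 (flp_f L706561) (flp_a L705797) L725008
theorem L725012 : sm gc N53624 = N52650 := ded_29_1 (flp_f L713562) (flp_c L705799) L725008
theorem L725014 : sm gj N53624 = N51791 := ded_46_2 (flp_f L705817) (flp_j L705801) L725008
theorem L725016 : sm gh N53624 = N51805 := ded_47_2 (flp_f L705978) (flp_h L705803) L725008
theorem L725018 : sm ge N53624 = N51794 := ded_40_1 (flp_f L705851) (flp_e L684571) (flp_f L684529) L705795 L725008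
theorem L725020 : sm gi N51789 = N53625 := rfl
theorem L725022 : sm ga N53625 = N51863 := ded_18_1 (flp_i L706569) (flp_a L705797) L725020
theorem L725024 : sm gc N53625 = N52651 := ded_33_1 (flp_i L713572) (flp_c L705799) L725020
theorem L725026 : sm ge N53625 = N51790 := ded_44_1 (flp_i L705805) L705795 L725020
theorem L725028 : sm gj N53625 = N51792 := ded_53_1 (flp_i L705827) (flp_j L705801) L725020
theorem L725030 : sm gh N51790 = N53626 := rfl
theorem L725032 : sm ga N53626 = N51864 := ded_17_1 (flp_h L706575) (flp_a L705807) L725030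
theorem L725034 : sm gc N53626 = N52642 := ded_32_1 L713518 (flp_c L705809) L725030
theorem L725036 : sm gf N53626 = N51796 := ded_47_1 (flp_h L705874) (flp_f L705813) L725030
theorem L725038 : sm gj N53626 = N51793 := ded_52_1 (flp_h L705837) (flp_j L705815) L725030
theorem L725040 : sm gd N53626 = N52517 := ded_38_1 (flp_h L712556) L691799 (flp_h L684547) (flp_d L705811) L725030
theorem L725042 : sm gi N53626 = N51807 := ded_54_2 (flp_h L705994) (flp_i L684677) (flp_h L684535) L705805 L725030
theorem L725044 : sm gi N51791 = N53627 := rfl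
theorem L725046 : sm ga N53627 = N51872 := ded_18_1 (flp_i L706653) (flp_a L705819) L725044
theorem L725048 : sm gc N53627 = N52698 := ded_33_1 L713907 (flp_c L705821) L725044
theorem L725050 : sm ge N53627 = N51797 := ded_44_1 (flp_i L705887) (flp_e L705825) L725044
theorem L725052 : sm gf N53627 = N51792 := ded_48_1 (flp_i L705827) L705817 L725044
theorem L725054 : sm gh N51792 = N53628 := rfl
theorem L725056 : sm ga N53628 = N51873 := ded_17_1 (flp_h L706659) (flp_a L705829) L725054
theorem L725058 : sm gc N53628 = N52665 := ded_32_1 L713666 (flp_c L705831) L725054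
theorem L725060 : sm ge N53628 = N51793 := ded_43_1 (flp_h L705837) (flp_e L705833) L725054
theorem L725062 : sm gg N53628 = N52552 := ded_50_1 (flp_h L712825) (flp_g L705835) L725054
theorem L725064 : sm gi N53628 = N51815 := ded_54_2 (flp_h L706074) (flp_i L684727) (flp_h L684557) L705827 L725054
theorem L725066 : sm gg N51794 = N53629 := rfl
theorem L725068 : sm ga N53629 = N51878 := ded_15_1 (flp_g L706716) (flp_a L705853) L725066
theorem L725070 : sm gc N53629 = N52720 := ded_30_1 (flp_g L714074) (flp_c L705855) L725066
theorem L725072 : sm gd N53629 = N53629 := ded_36_1 (flp_g L725066) L705857 L725066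
theorem L725073 : sm gh N53629 = N51819 := ded_50_2 (flp_g L706124) (flp_h L705860) L725066
theorem L725075 : sm gf N53629 = N53629 := ded_45_1 (flp_g L725066) (flp_f L705851) L684577 L705851 L725066
theorem L725076 : sm gi N51794 = N53630 := rfl
theorem L725078 : sm ga N53630 = N51879 := ded_18_1 (flp_i L706722) (flp_a L705853) L725076
theorem L725080 : sm gc N53630 = N52699 := ded_33_1 L713919 (flp_c L705855) L725076
theorem L725082 : sm gd N53630 = N53630 := ded_39_1 (flp_i L725076) L705857 L725076
theorem L725083 : sm gf N53630 = N51795 := ded_48_1 (flp_i L705862) L705851 L725076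
theorem L725085 : sm gj N53630 = N51797 := ded_53_1 (flp_i L705887) (flp_j L705858) L725076
theorem L725087 : sm gh N51795 = N53631 := rfl
theorem L725089 : sm ga N53631 = N51880 := ded_17_1 (flp_h L706729) (flp_a L705864) L725087
theorem L725091 : sm gc N53631 = N52677 := ded_32_1 L713755 (flp_c L705866) L725087
theorem L725093 : sm ge N53631 = N51796 := ded_43_1 (flp_h L705874) (flp_e L705869) L725087
theorem L725095 : sm gg N53631 = N53631 := ded_50_1 (flp_h L725087) L705871 L725087
theorem L725096 : sm gj N53631 = N51798 := ded_52_1 (flp_h L705896) (flp_j L705872) L725087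
theorem L725098 : sm gi N53631 = N51821 := ded_54_2 (flp_h L706141) (flp_i L684778) (flp_h L684580) L705862 L725087
theorem L725100 : sm gh N51797 = N53632 := rfl
theorem L725102 : sm ga N53632 = N51887 := ded_17_1 (flp_h L706798) (flp_a L705889) L725100
theorem L725104 : sm gc N53632 = N52689 := ded_32_1 L713845 (flp_c L705891) L725100
theorem L725106 : sm gf N53632 = N51798 := ded_47_1 (flp_h L705896) (flp_f L705894) L725100
theorem L725108 : sm gi N53632 = N51825 := ded_54_2 (flp_h L706183) (flp_i L684838) (flp_h L684601) L705887 L725100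
theorem L725110 : sm gd N51798 = N53633 := rfl
theorem L725112 : sm ga N53633 = N51888 := ded_12_1 (flp_d L706804) (flp_a L705898) L725110
theorem L725114 : sm gg N53633 = N51799 := ded_36_2 (flp_d L705908) (flp_g L705904) L725110
theorem L725116 : sm gi N53633 = N51826 := ded_39_2 (flp_d L706189) (flp_i L705906) L725110
theorem L725118 : sm ge N53633 = N52541 := ded_34_2 (flp_d L712745) L691979 (flp_d L684622) (flp_e L705902) L725110
theorem L725120 : sm gh N53633 = N53633 := ded_38_2 (flp_d L725110) (flp_h L705896) L684609 L705896 L725110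
theorem L725121 : sm gc N51799 = N53634 := rfl
theorem L725123 : sm ga N53634 = N51896 := ded_11_1 (flp_c L706892) (flp_a L705910) L725121
theorem L725125 : sm ge N53634 = N52175 := ded_28_2 L709774 (flp_e L705915) L725121
theorem L725127 : sm gj N53634 = N53634 := ded_31_2 (flp_c L725121) L705912 L725121
theorem L725128 : sm gh N53634 = N53634 := ded_32_2 (flp_c L725121) L705917 L725121
theorem L725129 : sm gi N53634 = N51828 := ded_33_2 (flp_c L706207) (flp_i L705913) L725121
theorem L725131 : sm gd N53634 = N52176 := ded_27_2 L709781 L693254 (flp_c L684630) L705908 L725121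
theorem L725133 : sm ge N51800 = N53635 := rfl
theorem L725135 : sm ga N53635 = N51898 := ded_13_1 (flp_e L706913) (flp_a L705920) L725133
theorem L725137 : sm gb N53635 = N51920 := ded_21_1 L707083 L705931 L725133
theorem L725139 : sm gc N53635 = N51801 := ded_28_1 (flp_e L705933) L705918 L725133
theorem L725141 : sm gg N53635 = N51803 := ded_41_2 (flp_e L705952) (flp_g L705923) L725133
theorem L725143 : sm gj N53635 = N52553 := ded_42_2 (flp_e L712833) (flp_j L705925) L725133
theorem L725145 : sm gh N53635 = N51915 := ded_43_2 L707052 (flp_h L705927) L725133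
theorem L725147 : sm gi N51800 = N53636 := rfl
theorem L725149 : sm ga N53636 = N51899 := ded_18_1 (flp_i L706921) (flp_a L705920) L725147
theorem L725151 : sm gb N53636 = N51994 := ded_26_1 (flp_i L707763) L705931 L725147
theorem L725153 : sm gc N53636 = N51802 := ded_33_1 (flp_i L705941) L705918 L725147
theorem L725155 : sm gd N53636 = N51835 := ded_39_1 (flp_i L706271) (flp_d L705929) L725147
theorem L725157 : sm gf N53636 = N53636 := ded_48_1 (flp_i L725147) L705922 L725147
theorem L725158 : sm gg N53636 = N51804 := ded_51_1 (flp_i L705964) (flp_g L705923) L725147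
theorem L725160 : sm gj N53636 = N52554 := ded_53_1 (flp_i L712841) (flp_j L705925) L725147
theorem L725162 : sm gf N51801 = N53637 := rfl
theorem L725164 : sm ga N53637 = N51900 := ded_14_1 (flp_f L706932) (flp_a L705935) L725162
theorem L725166 : sm gj N53637 = N52555 := ded_46_2 (flp_f L712852) (flp_j L705939) L725162
theorem L725168 : sm ge N53637 = N53637 := ded_40_1 (flp_f L725162) (flp_e L705933) L684641 L705933 L725162
theorem L725169 : sm gi N51801 = N53638 := rfl
theorem L725171 : sm ga N53638 = N51901 := ded_18_1 (flp_i L706937) (flp_a L705935) L725169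
theorem L725173 : sm ge N53638 = N51802 := ded_44_1 (flp_i L705941) L705933 L725169
theorem L725175 : sm gg N53638 = N51806 := ded_51_1 (flp_i L705986) (flp_g L705937) L725169
theorem L725177 : sm gj N53638 = N52556 := ded_53_1 (flp_i L712857) (flp_j L705939) L725169
theorem L725179 : sm gh N51802 = N53639 := rfl
theorem L725181 : sm ga N53639 = N51902 := ded_17_1 (flp_h L706945) (flp_a L705943) L725179
theorem L725183 : sm gf N53639 = N53639 := ded_47_1 (flp_h L725179) L705947 L725179
theorem L725184 : sm gg N53639 = N51807 := ded_50_1 (flp_h L705994) (flp_g L705948) L725179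
theorem L725186 : sm gj N53639 = N52557 := ded_52_1 (flp_h L712865) (flp_j L705950) L725179
theorem L725188 : sm gd N51803 = N53640 := rfl
theorem L725190 : sm ga N53640 = N51906 := ded_12_1 (flp_d L706982) (flp_a L705954) L725188
theorem L725192 : sm gb N53640 = N52603 := ded_20_1 L713204 (flp_b L705956) L725188
theorem L725194 : sm gj N53640 = N51810 := ded_37_2 (flp_d L706024) (flp_j L705960) L725188
theorem L725196 : sm ge N53640 = N51837 := ded_34_2 (flp_d L706301) (flp_e L684972) (flp_d L684667) L705952 L725188
theorem L725198 : sm gh N53640 = N52598 := ded_38_2 (flp_d L713167) L692541 L692903 (flp_h L705962) L725188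
theorem L725200 : sm gf N51803 = N53641 := rfl
theorem L725202 : sm ga N53641 = N51907 := ded_14_1 (flp_f L706988) (flp_a L705954) L725200
theorem L725204 : sm gb N53641 = N52657 := ded_22_1 L713622 (flp_b L705956) L725200
theorem L725206 : sm gc N53641 = N51805 := ded_29_1 (flp_f L705978) (flp_c L705958) L725200
theorem L725208 : sm gj N53641 = N51811 := ded_46_2 (flp_f L706032) (flp_j L705960) L725200
theorem L725210 : sm gh N53641 = N52650 := ded_47_2 (flp_f L713562) (flp_h L705962) L725200
theorem L725212 : sm ge N53641 = N51816 := ded_40_1 (flp_f L706082) (flp_e L684743) (flp_f L684661) L705952 L725200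
theorem L725214 : sm gi N51803 = N53642 := rfl
theorem L725216 : sm ga N53642 = N51908 := ded_18_1 (flp_i L706996) (flp_a L705954) L725214
theorem L725218 : sm gb N53642 = N52659 := ded_26_1 (flp_i L713632) (flp_b L705956) L725214
theorem L725220 : sm gc N53642 = N51806 := ded_33_1 (flp_i L705986) (flp_c L705958) L725214
theorem L725222 : sm ge N53642 = N51804 := ded_44_1 (flp_i L705964) L705952 L725214
theorem L725224 : sm gj N53642 = N51812 := ded_53_1 (flp_i L706042) (flp_j L705960) L725214
theorem L725226 : sm gh N51804 = N53643 := rfl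
theorem L725228 : sm ga N53643 = N51909 := ded_17_1 (flp_h L707004) (flp_a L705966) L725226
theorem L725230 : sm gb N53643 = N52697 := ded_25_1 (flp_h L713899) (flp_b L705968) L725226
theorem L725232 : sm gc N53643 = N51807 := ded_32_1 (flp_h L705994) (flp_c L705970) L725226
theorem L725234 : sm gf N53643 = N51818 := ded_47_1 (flp_h L706109) (flp_f L705974) L725226
theorem L725236 : sm gj N53643 = N51813 := ded_52_1 (flp_h L706052) (flp_j L705976) L725226
theorem L725238 : sm gd N53643 = N52594 := ded_38_1 (flp_h L713135) L692509 (flp_h L684997) (flp_d L705972) L725226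
theorem L725240 : sm gi N53643 = N52642 := ded_54_2 L713518 L693288 (flp_h L684665) L705964 L725226
theorem L725242 : sm gg N51805 = N53644 := rfl
theorem L725244 : sm ga N53644 = N51910 := ded_15_1 (flp_g L707012) (flp_a L705980) L725242
theorem L725246 : sm ge N53644 = N51819 := ded_41_1 (flp_g L706124) (flp_e L705984) L725242
theorem L725248 : sm gi N51805 = N53645 := rfl
theorem L725250 : sm ga N53645 = N51911 := ded_18_1 (flp_i L707016) (flp_a L705980) L725248
theorem L725252 : sm ge N53645 = N51820 := ded_44_1 (flp_i L706131) (flp_e L705984) L725248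
theorem L725254 : sm gf N53645 = N51806 := ded_48_1 (flp_i L705986) L705978 L725248
theorem L725256 : sm gj N53645 = N51814 := ded_53_1 (flp_i L706066) (flp_j L705982) L725248
theorem L725258 : sm gh N51806 = N53646 := rfl
theorem L725260 : sm ga N53646 = N51912 := ded_17_1 (flp_h L707024) (flp_a L705988) L725258
theorem L725262 : sm ge N53646 = N51807 := ded_43_1 (flp_h L705994) (flp_e L705990) L725258
theorem L725264 : sm gj N53646 = N51815 := ded_52_1 (flp_h L706074) (flp_j L705992) L725258
theorem L725266 : sm gd N51808 = N53647 := rfl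
theorem L725268 : sm gb N53647 = N51810 := ded_20_1 (flp_d L706024) (flp_b L706004) L725266
theorem L725270 : sm gg N53647 = N52565 := ded_36_2 (flp_d L712932) (flp_g L706006) L725266
theorem L725272 : sm gj N53647 = N52603 := ded_37_2 L713204 (flp_j L706008) L725266
theorem L725274 : sm ge N53647 = N51841 := ded_34_2 (flp_d L706356) (flp_e L685024) (flp_d L684689) L706002 L725266
theorem L725276 : sm gh N53647 = N52592 := ded_38_2 (flp_d L713121) L692503 L692841 (flp_h L706010) L725266
theorem L725278 : sm gi N51808 = N53648 := rfl
theorem L725280 : sm gb N53648 = N51812 := ded_26_1 (flp_i L706042) (flp_b L706004) L725278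
theorem L725282 : sm ge N53648 = N51809 := ded_44_1 (flp_i L706012) L706002 L725278
theorem L725284 : sm gg N53648 = N52566 := ded_51_1 (flp_i L712938) (flp_g L706006) L725278
theorem L725286 : sm gj N53648 = N52659 := ded_53_1 (flp_i L713632) (flp_j L706008) L725278
theorem L725288 : sm gh N51809 = N53649 := rfl
theorem L725290 : sm gb N53649 = N51813 := ded_25_1 (flp_h L706052) (flp_b L706014) L725288
theorem L725292 : sm gf N53649 = N51822 := ded_47_1 (flp_h L706150) (flp_f L706018) L725288
theorem L725294 : sm gg N53649 = N52567 := ded_50_1 (flp_h L712944) (flp_g L706020) L725288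
theorem L725296 : sm gj N53649 = N52697 := ded_52_1 (flp_h L713899) (flp_j L706022) L725288
theorem L725298 : sm gd N53649 = N52601 := ded_38_1 (flp_h L713187) L692547 (flp_h L685047) (flp_d L706016) L725288
theorem L725300 : sm gi N53649 = N52655 := ded_54_2 L713610 (flp_i L693270) (flp_h L684697) L706012 L725288
theorem L725302 : sm gf N51810 = N53650 := rfl
theorem L725304 : sm ga N53650 = N51919 := ded_14_1 (flp_f L707076) (flp_a L706026) L725302
theorem L725306 : sm gd N53650 = N51811 := ded_35_1 (flp_f L706032) L706024 L725302
theorem L725308 : sm ge N53650 = N53650 := ded_40_1 (flp_f L725302) L706030 L685053 (flp_e L706030) L725302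
theorem L725309 : sm gh N51810 = N53651 := rfl
theorem L725311 : sm ga N53651 = N51920 := ded_17_1 (flp_h L707081) (flp_a L706026) L725309
theorem L725313 : sm gb N53651 = N52592 := ded_25_1 (flp_h L725276) L725268 L725309
theorem L725315 : sm ge N53651 = N51843 := ded_43_1 (flp_h L706381) (flp_e L706030) L725309
theorem L725317 : sm gg N53651 = N52568 := ded_50_1 (flp_h L712950) (flp_g L706028) L725309
theorem L725319 : sm gj N53651 = N52598 := ded_52_1 (flp_h L725198) L725194 L725309
theorem L725321 : sm gd N53651 = N52590 := ded_38_1 L713109 L692829 (flp_h L684707) L706024 L725309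
theorem L725323 : sm gi N51810 = N53652 := rfl
theorem L725325 : sm ga N53652 = N51921 := ded_18_1 (flp_i L707087) (flp_a L706026) L725323
theorem L725327 : sm gd N53652 = N51812 := ded_39_1 (flp_i L706042) L706024 L725323
theorem L725329 : sm ge N53652 = N51844 := ded_44_1 (flp_i L706394) (flp_e L706030) L725323
theorem L725331 : sm gg N53652 = N52569 := ded_51_1 (flp_i L712956) (flp_g L706028) L725323
theorem L725333 : sm gi N51811 = N53653 := rfl
theorem L725335 : sm ga N53653 = N51923 := ded_18_1 (flp_i L707103) (flp_a L706034) L725333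
theorem L725337 : sm gc N53653 = N51814 := ded_33_1 (flp_i L706066) (flp_c L706036) L725333
theorem L725339 : sm ge N53653 = N51823 := ded_44_1 (flp_i L706162) (flp_e L706040) L725333
theorem L725341 : sm gf N53653 = N51812 := ded_48_1 (flp_i L706042) L706032 L725333
theorem L725343 : sm gh N51812 = N53654 := rfl
theorem L725345 : sm ga N53654 = N51924 := ded_17_1 (flp_h L707111) (flp_a L706044) L725343
theorem L725347 : sm gc N53654 = N51815 := ded_32_1 (flp_h L706074) (flp_c L706046) L725343
theorem L725349 : sm ge N53654 = N51813 := ded_43_1 (flp_h L706052) (flp_e L706048) L725343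
theorem L725351 : sm gg N53654 = N52570 := ded_50_1 (flp_h L712964) (flp_g L706050) L725343
theorem L725353 : sm gi N53654 = N52665 := ded_54_2 L713666 L693302 (flp_h L684707) L706042 L725343
theorem L725355 : sm gh N51814 = N53655 := rfl
theorem L725357 : sm ga N53655 = N51928 := ded_17_1 (flp_h L707147) (flp_a L706068) L725355
theorem L725359 : sm ge N53655 = N51825 := ded_43_1 (flp_h L706183) (flp_e L706070) L725355
theorem L725361 : sm gf N53655 = N51815 := ded_47_1 (flp_h L706074) (flp_f L706072) L725355
theorem L725363 : sm gd N51815 = N53656 := rfl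
theorem L725365 : sm ga N53656 = N51929 := ded_12_1 (flp_d L707153) (flp_a L706076) L725363
theorem L725367 : sm gg N53656 = N52571 := ded_36_2 (flp_d L712972) (flp_g L706080) L725363
theorem L725369 : sm gg N51816 = N53657 := rfl
theorem L725371 : sm ga N53657 = N51934 := ded_15_1 (flp_g L707196) (flp_a L706084) L725369
theorem L725373 : sm gb N53657 = N52743 := ded_23_1 L714277 (flp_b L706086) L725369
theorem L725375 : sm gc N53657 = N51819 := ded_30_1 (flp_g L706124) (flp_c L706088) L725369
theorem L725377 : sm gd N53657 = N53657 := ded_36_1 (flp_g L725369) L706090 L725369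
theorem L725378 : sm gh N53657 = N52720 := ded_50_2 (flp_g L714074) (flp_h L706093) L725369
theorem L725380 : sm gf N53657 = N53657 := ded_45_1 (flp_g L725369) (flp_f L706082) L684751 L706082 L725369
theorem L725381 : sm gi N51816 = N53658 := rfl
theorem L725383 : sm ga N53658 = N51935 := ded_18_1 (flp_i L707202) (flp_a L706084) L725381
theorem L725385 : sm gb N53658 = N52745 := ded_26_1 (flp_i L714287) (flp_b L706086) L725381
theorem L725387 : sm gc N53658 = N51820 := ded_33_1 (flp_i L706131) (flp_c L706088) L725381
theorem L725389 : sm gd N53658 = N53658 := ded_39_1 (flp_i L725381) L706090 L725381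
theorem L725390 : sm gf N53658 = N51817 := ded_48_1 (flp_i L706095) L706082 L725381
theorem L725392 : sm gj N53658 = N51823 := ded_53_1 (flp_i L706162) (flp_j L706091) L725381
theorem L725394 : sm gh N51817 = N53659 := rfl
theorem L725396 : sm ga N53659 = N51936 := ded_17_1 (flp_h L707211) (flp_a L706097) L725394
theorem L725398 : sm gb N53659 = N52747 := ded_25_1 (flp_h L714296) (flp_b L706099) L725394
theorem L725400 : sm gc N53659 = N51821 := ded_32_1 (flp_h L706141) (flp_c L706101) L725394
theorem L725402 : sm ge N53659 = N51818 := ded_43_1 (flp_h L706109) (flp_e L706104) L725394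
theorem L725404 : sm gg N53659 = N53659 := ded_50_1 (flp_h L725394) L706106 L725394
theorem L725405 : sm gj N53659 = N51824 := ded_52_1 (flp_h L706171) (flp_j L706107) L725394
theorem L725407 : sm gi N53659 = N52677 := ded_54_2 L713755 L693311 (flp_h L684754) L706095 L725394
theorem L725409 : sm gi N51819 = N53660 := rfl
theorem L725411 : sm ga N53660 = N51939 := ded_18_1 (flp_i L707240) (flp_a L706126) L725409
theorem L725413 : sm gd N53660 = N51829 := ded_39_1 (flp_i L706214) (flp_d L706128) L725409
theorem L725415 : sm gf N53660 = N53660 := ded_48_1 (flp_i L725409) L706130 L725409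
theorem L725416 : sm gg N53660 = N51820 := ded_51_1 (flp_i L706131) L706124 L725409
theorem L725418 : sm gh N51820 = N53661 := rfl
theorem L725420 : sm ga N53661 = N51940 := ded_17_1 (flp_h L707247) (flp_a L706133) L725418
theorem L725422 : sm gf N53661 = N51821 := ded_47_1 (flp_h L706141) (flp_f L706137) L725418
theorem L725424 : sm gj N53661 = N51825 := ded_52_1 (flp_h L706183) (flp_j L706139) L725418
theorem L725426 : sm gd N51821 = N53662 := rfl
theorem L725428 : sm ga N53662 = N51941 := ded_12_1 (flp_d L707253) (flp_a L706143) L725426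
theorem L725430 : sm gg N53662 = N53662 := ded_36_2 (flp_d L725426) L706147 L725426
theorem L725431 : sm gj N53662 = N51826 := ded_37_2 (flp_d L706189) (flp_j L706148) L725426
theorem L725433 : sm gh N53662 = N51831 := ded_38_2 (flp_d L706232) (flp_h L684899) (flp_d L684782) L706141 L725426
theorem L725435 : sm gh N51823 = N53663 := rfl
theorem L725437 : sm ga N53663 = N51949 := ded_17_1 (flp_h L707320) (flp_a L706164) L725435
theorem L725439 : sm gc N53663 = N51825 := ded_32_1 (flp_h L706183) (flp_c L706166) L725435
theorem L725441 : sm gf N53663 = N51824 := ded_47_1 (flp_h L706171) (flp_f L706169) L725435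
theorem L725443 : sm gi N53663 = N52689 := ded_54_2 L713845 L693319 (flp_h L684813) L706162 L725435
theorem L725445 : sm gd N51824 = N53664 := rfl
theorem L725447 : sm ga N53664 = N51950 := ded_12_1 (flp_d L707326) (flp_a L706173) L725445
theorem L725449 : sm gg N53664 = N51827 := ded_36_2 (flp_d L706197) (flp_g L706179) L725445
theorem L725451 : sm gi N53664 = N52688 := ded_39_2 L713841 (flp_i L706181) L725445
theorem L725453 : sm ge N53664 = N52622 := ded_34_2 (flp_d L713354) L692707 (flp_d L684834) (flp_e L706177) L725445
theorem L725455 : sm gh N53664 = N53664 := ded_38_2 (flp_d L725445) (flp_h L706171) L684821 L706171 L725445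
theorem L725456 : sm gd N51825 = N53665 := rfl
theorem L725458 : sm ga N53665 = N51954 := ded_12_1 (flp_d L707357) (flp_a L706185) L725456
theorem L725460 : sm gf N53665 = N51826 := ded_35_2 (flp_d L706189) (flp_f L706187) L725456
theorem L725462 : sm gh N53665 = N51832 := ded_38_2 (flp_d L706240) (flp_h L684910) (flp_d L684842) L706183 L725456
theorem L725464 : sm gc N51826 = N53666 := rfl
theorem L725466 : sm ga N53666 = N51955 := ded_11_1 (flp_c L707363) (flp_a L706191) L725464
theorem L725468 : sm gg N53666 = N51828 := ded_30_2 (flp_c L706207) (flp_g L706193) L725464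
theorem L725470 : sm gh N53666 = N51833 := ded_32_2 (flp_c L706247) (flp_h L706195) L725464
theorem L725472 : sm gc N51827 = N53667 := rfl
theorem L725474 : sm ga N53667 = N51963 := ded_11_1 (flp_c L707441) (flp_a L706199) L725472
theorem L725476 : sm ge N53667 = N52145 := ded_28_2 L709492 (flp_e L706204) L725472
theorem L725478 : sm gj N53667 = N53667 := ded_31_2 (flp_c L725472) L706201 L725472
theorem L725479 : sm gh N53667 = N53667 := ded_32_2 (flp_c L725472) L706206 L725472
theorem L725480 : sm gi N53667 = N52176 := ded_33_2 L709781 (flp_i L706202) L725472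
theorem L725482 : sm gd N53667 = N51828 := ded_27_2 (flp_c L706207) (flp_d L684876) (flp_c L684869) L706197 L725472
theorem L725484 : sm gh N51829 = N53668 := rfl
theorem L725486 : sm ga N53668 = N51970 := ded_17_1 (flp_h L707502) (flp_a L706216) L725484
theorem L725488 : sm gc N53668 = N53668 := ded_32_1 (flp_h L725484) L706218 L725484
theorem L725489 : sm gf N53668 = N53668 := ded_47_1 (flp_h L725484) L706219 L725484
theorem L725490 : sm gg N53668 = N51830 := ded_50_1 (flp_h L706222) (flp_g L706220) L725484
theorem L725492 : sm gi N53668 = N53668 := ded_54_2 (flp_h L725484) (flp_i L706214) L684888 L706214 L725484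
theorem L725493 : sm gd N51830 = N53669 := rfl
theorem L725495 : sm ga N53669 = N51971 := ded_12_1 (flp_d L707509) (flp_a L706224) L725493
theorem L725497 : sm gf N53669 = N51831 := ded_35_2 (flp_d L706232) (flp_f L706227) L725493
theorem L725499 : sm gj N53669 = N51832 := ded_37_2 (flp_d L706240) (flp_j L706229) L725493
theorem L725501 : sm gi N53669 = N53669 := ded_39_2 (flp_d L725493) L706231 L725493
theorem L725502 : sm gc N51831 = N53670 := rfl
theorem L725504 : sm ga N53670 = N51972 := ded_11_1 (flp_c L707516) (flp_a L706234) L725502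
theorem L725506 : sm ge N53670 = N52769 := ded_28_2 (flp_c L724126) L724128 L725502
theorem L725508 : sm gg N53670 = N53670 := ded_30_2 (flp_c L725502) L706236 L725502
theorem L725509 : sm gj N53670 = N51833 := ded_31_2 (flp_c L706247) (flp_j L706237) L725502
theorem L725511 : sm gi N53670 = N53670 := ded_33_2 (flp_c L725502) L706239 L725502
theorem L725512 : sm gd N53670 = N53670 := ded_27_2 (flp_c L725502) (flp_d L706232) L684903 L706232 L725502
theorem L725513 : sm gc N51832 = N53671 := rfl
theorem L725515 : sm ga N53671 = N51975 := ded_11_1 (flp_c L707542) (flp_a L706242) L725513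
theorem L725517 : sm gf N53671 = N51833 := ded_29_2 (flp_c L706247) (flp_f L706244) L725513
theorem L725519 : sm gi N53671 = N53671 := ded_33_2 (flp_c L725513) L706246 L725513
theorem L725520 : sm gd N53671 = N53671 := ded_27_2 (flp_c L725513) (flp_d L706240) L684914 L706240 L725513
theorem L725521 : sm ge N51832 = N53672 := rfl
theorem L725523 : sm ga N53672 = N51976 := ded_13_1 (flp_e L707548) (flp_a L706242) L725521
theorem L725525 : sm gi N53672 = N53672 := ded_44_2 (flp_e L725521) L706246 L725521
theorem L725526 : sm gi N51834 = N53673 := rfl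
theorem L725528 : sm ga N53673 = N51983 := ded_18_1 (flp_i L707617) (flp_a L706257) L725526
theorem L725530 : sm gb N53673 = N52024 := ded_26_1 (flp_i L708135) (flp_b L706259) L725526
theorem L725532 : sm gc N53673 = N51836 := ded_33_1 (flp_i L706286) (flp_c L706261) L725526
theorem L725534 : sm ge N53673 = N51835 := ded_44_1 (flp_i L706271) L706255 L725526
theorem L725536 : sm gf N53673 = N51999 := ded_48_1 L707821 L706269 L725526
theorem L725538 : sm gg N53673 = N51838 := ded_51_1 (flp_i L706312) (flp_g L706263) L725526
theorem L725540 : sm gj N53673 = N51991 := ded_53_1 L707742 (flp_j L706265) L725526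
theorem L725542 : sm gh N53673 = N51985 := ded_54_1 (flp_i L707650) L686009 (flp_i L686461) (flp_h L706267) L725526
theorem L725544 : sm gi N51837 = N53674 := rfl
theorem L725546 : sm ga N53674 = N51988 := ded_18_1 (flp_i L707694) (flp_a L706303) L725544
theorem L725548 : sm gb N53674 = N52718 := ded_26_1 (flp_i L714066) (flp_b L706305) L725544
theorem L725550 : sm gd N53674 = N51838 := ded_39_1 (flp_i L706312) L706301 L725544
theorem L725552 : sm gf N53674 = N53674 := ded_48_1 (flp_i L725544) L706307 L725544
theorem L725553 : sm gj N53674 = N51844 := ded_53_1 (flp_i L706394) (flp_j L706308) L725544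
theorem L725555 : sm gd N51839 = N53675 := rfl
theorem L725557 : sm ga N53675 = N51841 := ded_12_1 (flp_d L706356) (flp_a L706329) L725555
theorem L725559 : sm gb N53675 = N51856 := ded_20_1 L706506 (flp_b L706331) L725555
theorem L725561 : sm gf N53675 = N53675 := ded_35_2 (flp_d L725555) L706340 L725555
theorem L725562 : sm gg N53675 = N51859 := ded_36_2 L706527 (flp_g L706334) L725555
theorem L725564 : sm gj N53675 = N52029 := ded_37_2 (flp_d L708198) (flp_j L706336) L725555
theorem L725566 : sm gh N53675 = N51897 := ded_38_2 L706904 L685937 (flp_d L686480) (flp_h L706338) L725555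
theorem L725568 : sm gi N51839 = N53676 := rfl
theorem L725570 : sm ga N53676 = N51842 := ded_18_1 (flp_i L706367) (flp_a L706329) L725568
theorem L725572 : sm gb N53676 = N51990 := ded_26_1 (flp_i L707713) (flp_b L706331) L725568
theorem L725574 : sm gc N53676 = N53676 := ded_33_1 (flp_i L725568) L706333 L725568
theorem L725575 : sm ge N53676 = N51840 := ded_44_1 (flp_i L706341) L706327 L725568
theorem L725577 : sm gf N53676 = N53676 := ded_48_1 (flp_i L725568) L706340 L725568
theorem L725578 : sm gg N53676 = N52018 := ded_51_1 (flp_i L708050) (flp_g L706334) L725568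
theorem L725580 : sm gj N53676 = N52028 := ded_53_1 L708196 (flp_j L706336) L725568
theorem L725582 : sm gh N53676 = N52025 := ded_54_1 (flp_i L708150) (flp_h L686717) (flp_i L686478) (flp_h L706338) L725568
theorem L725584 : sm gc N51841 = N53677 := rfl
theorem L725586 : sm gf N53677 = N53677 := ded_29_2 (flp_c L725584) L706360 L725584
theorem L725587 : sm gg N53677 = N51931 := ded_30_2 L707172 (flp_g L706361) L725584
theorem L725589 : sm gj N53677 = N52711 := ded_31_2 L714024 (flp_j L706363) L725584
theorem L725591 : sm gh N53677 = N52703 := ded_32_2 L713961 (flp_h L706365) L725584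
theorem L725593 : sm gb N53677 = N51934 := ded_19_1 L707198 (flp_b L699103) L699105 (flp_b L706358) L725584
theorem L725595 : sm gd N53677 = N53677 := ded_27_2 (flp_c L725584) (flp_d L706356) L685028 L706356 L725584
theorem L725596 : sm gi N51841 = N53678 := rfl
theorem L725598 : sm gb N53678 = N51844 := ded_26_1 (flp_i L706394) (flp_b L706358) L725596
theorem L725600 : sm gd N53678 = N51842 := ded_39_1 (flp_i L706367) L706356 L725596
theorem L725602 : sm gf N53678 = N53678 := ded_48_1 (flp_i L725596) L706360 L725596
theorem L725603 : sm gg N53678 = N52575 := ded_51_1 (flp_i L713002) (flp_g L706361) L725596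
theorem L725605 : sm gj N53678 = N52718 := ded_53_1 (flp_i L714066) (flp_j L706363) L725596
theorem L725607 : sm gi N51843 = N53679 := rfl
theorem L725609 : sm ga N53679 = N51994 := ded_18_1 (flp_i L707763) (flp_a L706383) L725607
theorem L725611 : sm gb N53679 = N52715 := ded_26_1 (flp_i L714048) (flp_b L706385) L725607
theorem L725613 : sm gd N53679 = N52007 := ded_39_1 (flp_i L707914) (flp_d L706392) L725607
theorem L725615 : sm gf N53679 = N53679 := ded_48_1 (flp_i L725607) L706387 L725607
theorem L725616 : sm gg N53679 = N52576 := ded_51_1 (flp_i L713010) (flp_g L706388) L725607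
theorem L725618 : sm gj N53679 = N52717 := ded_53_1 (flp_i L714059) (flp_j L706390) L725607
theorem L725620 : sm gh N51844 = N53680 := rfl
theorem L725622 : sm ga N53680 = N51995 := ded_17_1 (flp_h L707770) (flp_a L706396) L725620
theorem L725624 : sm gf N53680 = N53680 := ded_47_1 (flp_h L725620) L706400 L725620
theorem L725625 : sm gg N53680 = N52577 := ded_50_1 (flp_h L713018) (flp_g L706401) L725620
theorem L725627 : sm gd N53680 = N52719 := ded_38_1 (flp_h L714071) L693506 (flp_h L685067) (flp_d L706398) L725620
theorem L725629 : sm ge N51845 = N53681 := rfl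
theorem L725631 : sm ga N53681 = N52512 := ded_13_1 (flp_e L712518) (flp_a L706405) L725629
theorem L725633 : sm gb N53681 = N52608 := ded_21_1 L713238 (flp_b L706407) L725629
theorem L725635 : sm gg N53681 = N51848 := ded_41_2 (flp_e L706442) (flp_g L706411) L725629
theorem L725637 : sm gj N53681 = N52218 := ded_42_2 L710209 (flp_j L706413) L725629
theorem L725639 : sm gh N53681 = N52261 := ded_43_2 L710591 (flp_h L706415) L725629
theorem L725641 : sm gd N53681 = N51857 := ded_34_1 (flp_e L706508) (flp_d L685133) (flp_e L685091) L706403 L725629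
theorem L725643 : sm gi N51845 = N53682 := rfl
theorem L725645 : sm ga N53682 = N52513 := ded_18_1 (flp_i L712524) (flp_a L706405) L725643
theorem L725647 : sm gb N53682 = N52623 := ded_26_1 (flp_i L713361) (flp_b L706407) L725643
theorem L725649 : sm gd N53682 = N51846 := ded_39_1 (flp_i L706417) L706403 L725643
theorem L725651 : sm gf N53682 = N52233 := ded_48_1 (flp_i L710372) (flp_f L706409) L725643
theorem L725653 : sm gg N53682 = N51849 := ded_51_1 (flp_i L706448) (flp_g L706411) L725643
theorem L725655 : sm gj N53682 = N52229 := ded_53_1 (flp_i L710327) (flp_j L706413) L725643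
theorem L725657 : sm gb N51847 = N53683 := rfl
theorem L725659 : sm gd N53683 = N52008 := ded_20_2 (flp_b L707930) (flp_d L706440) L725657
theorem L725661 : sm gf N53683 = N53683 := ded_22_2 (flp_b L725657) L706437 L725657
theorem L725662 : sm gg N53683 = N52670 := ded_23_2 (flp_b L719315) L719319 L725657
theorem L725664 : sm gj N53683 = N51850 := ded_24_2 (flp_b L706455) (flp_j L706438) L725657
theorem L725666 : sm ga N53683 = N52186 := ded_10_1 L709899 L688865 (flp_b L689821) (flp_a L706435) L725657
theorem L725668 : sm ge N51847 = N53684 := rfl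
theorem L725670 : sm ga N53684 = N52250 := ded_13_1 L710520 (flp_a L706435) L725668
theorem L725672 : sm gc N53684 = N51848 := ded_28_1 (flp_e L706442) L706433 L725668
theorem L725674 : sm gj N53684 = N51851 := ded_42_2 (flp_e L706462) (flp_j L706438) L725668
theorem L725676 : sm gd N53684 = N52248 := ded_34_1 (flp_e L710500) L689392 (flp_e L686514) (flp_d L706440) L725668
theorem L725678 : sm gi N51847 = N53685 := rfl
theorem L725680 : sm ga N53685 = N52305 := ded_18_1 (flp_i L710986) (flp_a L706435) L725678
theorem L725682 : sm gc N53685 = N51849 := ded_33_1 (flp_i L706448) L706433 L725678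
theorem L725684 : sm gd N53685 = N52009 := ded_39_1 (flp_i L707943) (flp_d L706440) L725678
theorem L725686 : sm gf N53685 = N53685 := ded_48_1 (flp_i L725678) L706437 L725678
theorem L725687 : sm gj N53685 = N51852 := ded_53_1 (flp_i L706468) (flp_j L706438) L725678
theorem L725689 : sm gf N51848 = N53686 := rfl
theorem L725691 : sm gd N53686 = N51862 := ded_35_1 (flp_f L706561) (flp_d L706446) L725689
theorem L725693 : sm gj N53686 = N51853 := ded_46_2 (flp_f L706477) (flp_j L706444) L725689
theorem L725695 : sm ge N53686 = N53686 := ded_40_1 (flp_f L725689) (flp_e L706442) L685101 L706442 L725689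
theorem L725696 : sm gi N51848 = N53687 := rfl
theorem L725698 : sm gd N53687 = N51863 := ded_39_1 (flp_i L706569) (flp_d L706446) L725696
theorem L725700 : sm ge N53687 = N51849 := ded_44_1 (flp_i L706448) L706442 L725696
theorem L725702 : sm gj N53687 = N51854 := ded_53_1 (flp_i L706482) (flp_j L706444) L725696
theorem L725704 : sm gh N51849 = N53688 := rfl
theorem L725706 : sm gf N53688 = N53688 := ded_47_1 (flp_h L725704) L706452 L725704
theorem L725707 : sm gj N53688 = N51855 := ded_52_1 (flp_h L706490) (flp_j L706453) L725704
theorem L725709 : sm ga N51850 = N53689 := rfl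
theorem L725711 : sm gd N53689 = N52011 := ded_12_2 (flp_a L707965) (flp_d L706457) L725709
theorem L725713 : sm gf N53689 = N53689 := ded_14_2 (flp_a L725709) L706459 L725709
theorem L725714 : sm gg N53689 = N52578 := ded_15_2 (flp_a L713024) (flp_g L706460) L725709
theorem L725716 : sm gj N53689 = N52186 := ded_16_2 (flp_a L725666) L725664 L725709
theorem L725718 : sm gb N53689 = N52181 := ded_10_2 L709838 (flp_b L705742) L705735 L706455 L725709
theorem L725720 : sm ge N51850 = N53690 := rfl
theorem L725722 : sm gb N53690 = N51851 := ded_21_1 (flp_e L706462) L706455 L725720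
theorem L725724 : sm gg N53690 = N52579 := ded_41_2 (flp_e L713034) (flp_g L706460) L725720
theorem L725726 : sm gi N51850 = N53691 := rfl
theorem L725728 : sm gb N53691 = N51852 := ded_26_1 (flp_i L706468) L706455 L725726
theorem L725730 : sm gd N53691 = N52013 := ded_39_1 (flp_i L707992) (flp_d L706457) L725726
theorem L725732 : sm gf N53691 = N53691 := ded_48_1 (flp_i L725726) L706459 L725726
theorem L725733 : sm gg N53691 = N52580 := ded_51_1 (flp_i L713038) (flp_g L706460) L725726
theorem L725735 : sm gd N51851 = N53692 := rfl
theorem L725737 : sm ga N53692 = N52240 := ded_12_1 (flp_d L724934) L724924 L725735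
theorem L725739 : sm gg N53692 = N52581 := ded_36_2 (flp_d L713046) (flp_g L706466) L725735
theorem L725741 : sm gj N53692 = N52248 := ded_37_2 (flp_d L725676) L725674 L725735
theorem L725743 : sm gc N53692 = N51867 := ded_27_1 (flp_d L706601) L685191 (flp_d L685124) (flp_c L706464) L725735
theorem L725745 : sm ge N53692 = N52014 := ded_34_2 (flp_d L708000) (flp_e L686539) (flp_d L685118) L706462 L725735
theorem L725747 : sm gf N51851 = N53693 := rfl
theorem L725749 : sm gc N53693 = N51853 := ded_29_1 (flp_f L706477) (flp_c L706464) L725747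
theorem L725751 : sm ge N53693 = N53693 := ded_40_1 (flp_f L725747) (flp_e L706462) L685115 L706462 L725747
theorem L725752 : sm gi N51851 = N53694 := rfl
theorem L725754 : sm gc N53694 = N51854 := ded_33_1 (flp_i L706482) (flp_c L706464) L725752
theorem L725756 : sm ge N53694 = N51852 := ded_44_1 (flp_i L706468) L706462 L725752
theorem L725758 : sm gg N53694 = N52582 := ded_51_1 (flp_i L713052) (flp_g L706466) L725752
theorem L725760 : sm gh N51852 = N53695 := rfl
theorem L725762 : sm gc N53695 = N51855 := ded_32_1 (flp_h L706490) (flp_c L706470) L725760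
theorem L725764 : sm gf N53695 = N53695 := ded_47_1 (flp_h L725760) L706474 L725760
theorem L725765 : sm gg N53695 = N52583 := ded_50_1 (flp_h L713058) (flp_g L706475) L725760
theorem L725767 : sm gg N51853 = N53696 := rfl
theorem L725769 : sm gb N53696 = N52587 := ded_23_1 (flp_g L718030) L718023 L725767
theorem L725771 : sm gd N53696 = N51871 := ded_36_1 (flp_g L706645) (flp_d L706479) L725767
theorem L725773 : sm ge N53696 = N53696 := ded_41_1 (flp_g L725767) L706481 L725767
theorem L725774 : sm gh N53696 = N52237 := ded_50_2 (flp_g L722804) L722801 L725767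
theorem L725776 : sm gf N53696 = N52205 := ded_45_1 L710090 L689059 (flp_g L685122) L706477 L725767
theorem L725778 : sm gi N51853 = N53697 := rfl
theorem L725780 : sm gd N53697 = N51872 := ded_39_1 (flp_i L706653) (flp_d L706479) L725778
theorem L725782 : sm ge N53697 = N53697 := ded_44_1 (flp_i L725778) L706481 L725778
theorem L725783 : sm gf N53697 = N51854 := ded_48_1 (flp_i L706482) L706477 L725778
theorem L725785 : sm gh N51854 = N53698 := rfl
theorem L725787 : sm ge N53698 = N51855 := ded_43_1 (flp_h L706490) (flp_e L706486) L725785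
theorem L725789 : sm gg N53698 = N52584 := ded_50_1 (flp_h L713064) (flp_g L706488) L725785
theorem L725791 : sm ge N51856 = N53699 := rfl
theorem L725793 : sm ga N53699 = N51915 := ded_13_1 L707052 (flp_a L706497) L725791
theorem L725795 : sm gc N53699 = N51857 := ded_28_1 (flp_e L706508) L706495 L725791
theorem L725797 : sm gg N53699 = N51860 := ded_41_2 (flp_e L706537) (flp_g L706500) L725791
theorem L725799 : sm gj N53699 = N52585 := ded_42_2 (flp_e L713068) (flp_j L706502) L725791
theorem L725801 : sm gh N53699 = N51898 := ded_43_2 (flp_e L706913) (flp_h L706504) L725791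
theorem L725803 : sm gd N53699 = N51913 := ded_34_1 (flp_e L707030) L685497 L686081 (flp_d L706506) L725791
theorem L725805 : sm gi N51856 = N53700 := rfl
theorem L725807 : sm ga N53700 = N51992 := ded_18_1 (flp_i L707744) (flp_a L706497) L725805
theorem L725809 : sm gc N53700 = N51858 := ded_33_1 (flp_i L706516) L706495 L725805
theorem L725811 : sm gd N53700 = N51990 := ded_39_1 (flp_i L707713) (flp_d L706506) L725805
theorem L725813 : sm gf N53700 = N53700 := ded_48_1 (flp_i L725805) L706499 L725805
theorem L725814 : sm gg N53700 = N51861 := ded_51_1 (flp_i L706549) (flp_g L706500) L725805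
theorem L725816 : sm gj N53700 = N52586 := ded_53_1 (flp_i L713076) (flp_j L706502) L725805
theorem L725818 : sm gf N51857 = N53701 := rfl
theorem L725820 : sm gj N53701 = N52587 := ded_46_2 (flp_f L713085) (flp_j L706512) L725818
theorem L725822 : sm gh N53701 = N51900 := ded_47_2 (flp_f L706932) (flp_h L706514) L725818
theorem L725824 : sm ge N53701 = N53701 := ded_40_1 (flp_f L725818) (flp_e L706508) L685135 L706508 L725818
theorem L725825 : sm gi N51857 = N53702 := rfl
theorem L725827 : sm ge N53702 = N51858 := ded_44_1 (flp_i L706516) L706508 L725825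
theorem L725829 : sm gg N53702 = N51863 := ded_51_1 (flp_i L706569) (flp_g L706510) L725825
theorem L725831 : sm gj N53702 = N52588 := ded_53_1 (flp_i L713090) (flp_j L706512) L725825
theorem L725833 : sm gh N51858 = N53703 := rfl
theorem L725835 : sm gf N53703 = N53703 := ded_47_1 (flp_h L725833) L706520 L725833
theorem L725836 : sm gg N53703 = N51864 := ded_50_1 (flp_h L706575) (flp_g L706521) L725833
theorem L725838 : sm gj N53703 = N52589 := ded_52_1 (flp_h L713096) (flp_j L706523) L725833
theorem L725840 : sm gi N53703 = N51902 := ded_54_2 (flp_h L706945) (flp_i L685444) (flp_h L685140) L706516 L725833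
theorem L725842 : sm ge N51859 = N53704 := rfl
theorem L725844 : sm ga N53704 = N52565 := ded_13_1 L712936 (flp_a L706535) L725842
theorem L725846 : sm gb N53704 = N51860 := ded_21_1 (flp_e L706537) L706525 L725842
theorem L725848 : sm gj N53704 = N51865 := ded_42_2 (flp_e L706583) (flp_j L706531) L725842
theorem L725850 : sm gh N53704 = N51904 := ded_43_2 (flp_e L706966) (flp_h L706533) L725842
theorem L725852 : sm gd N53704 = N52563 := ded_34_1 (flp_e L712916) L692255 (flp_e L686583) (flp_d L706527) L725842
theorem L725854 : sm gi N51859 = N53705 := rfl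
theorem L725856 : sm ga N53705 = N52575 := ded_18_1 (flp_i L713002) (flp_a L706535) L725854
theorem L725858 : sm gb N53705 = N51861 := ded_26_1 (flp_i L706549) L706525 L725854
theorem L725860 : sm gd N53705 = N52018 := ded_39_1 (flp_i L708050) (flp_d L706527) L725854
theorem L725862 : sm gf N53705 = N51874 := ded_48_1 (flp_i L706667) (flp_f L706529) L725854
theorem L725864 : sm gj N53705 = N51866 := ded_53_1 (flp_i L706591) (flp_j L706531) L725854
theorem L725866 : sm gf N51860 = N53706 := rfl
theorem L725868 : sm ga N53706 = N52650 := ded_14_1 (flp_f L713562) (flp_a L706539) L725866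
theorem L725870 : sm gc N53706 = N51862 := ded_29_1 (flp_f L706561) (flp_c L706541) L725866
theorem L725872 : sm gd N53706 = N52647 := ded_35_1 (flp_f L713544) (flp_d L706547) L725866
theorem L725874 : sm gj N53706 = N51868 := ded_46_2 (flp_f L706611) (flp_j L706543) L725866
theorem L725876 : sm gh N53706 = N51907 := ded_47_2 (flp_f L706988) (flp_h L706545) L725866
theorem L725878 : sm ge N53706 = N51875 := ded_40_1 (flp_f L706678) (flp_e L685240) (flp_f L685155) L706537 L725866
theorem L725880 : sm gi N51860 = N53707 := rfl
theorem L725882 : sm ga N53707 = N52651 := ded_18_1 (flp_i L713572) (flp_a L706539) L725880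
theorem L725884 : sm gc N53707 = N51863 := ded_33_1 (flp_i L706569) (flp_c L706541) L725880
theorem L725886 : sm gd N53707 = N52648 := ded_39_1 (flp_i L713550) (flp_d L706547) L725880
theorem L725888 : sm ge N53707 = N51861 := ded_44_1 (flp_i L706549) L706537 L725880
theorem L725890 : sm gj N53707 = N51869 := ded_53_1 (flp_i L706621) (flp_j L706543) L725880
theorem L725892 : sm gh N51861 = N53708 := rfl
theorem L725894 : sm ga N53708 = N52642 := ded_17_1 L713518 (flp_a L706551) L725892
theorem L725896 : sm gc N53708 = N51864 := ded_32_1 (flp_h L706575) (flp_c L706553) L725892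
theorem L725898 : sm gf N53708 = N51877 := ded_47_1 (flp_h L706703) (flp_f L706557) L725892
theorem L725900 : sm gj N53708 = N51870 := ded_52_1 (flp_h L706631) (flp_j L706559) L725892
theorem L725902 : sm gd N53708 = N52561 := ded_38_1 (flp_h L712898) L692231 (flp_h L686606) (flp_d L706555) L725892
theorem L725904 : sm gi N53708 = N51909 := ded_54_2 (flp_h L707004) (flp_i L685467) (flp_h L685159) L706549 L725892
theorem L725906 : sm gg N51862 = N53709 := rfl
theorem L725908 : sm ge N53709 = N51878 := ded_41_1 (flp_g L706716) (flp_e L706567) L725906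
theorem L725910 : sm gh N53709 = N51910 := ded_50_2 (flp_g L707012) (flp_h L706565) L725906
theorem L725912 : sm gi N51862 = N53710 := rfl
theorem L725914 : sm ge N53710 = N51879 := ded_44_1 (flp_i L706722) (flp_e L706567) L725912
theorem L725916 : sm gf N53710 = N51863 := ded_48_1 (flp_i L706569) L706561 L725912
theorem L725918 : sm gj N53710 = N51872 := ded_53_1 (flp_i L706653) (flp_j L706563) L725912
theorem L725920 : sm gh N51863 = N53711 := rfl
theorem L725922 : sm ge N53711 = N51864 := ded_43_1 (flp_h L706575) (flp_e L706571) L725920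
theorem L725924 : sm gj N53711 = N51873 := ded_52_1 (flp_h L706659) (flp_j L706573) L725920
theorem L725926 : sm gi N53711 = N51912 := ded_54_2 (flp_h L707024) (flp_i L685483) (flp_h L685167) L706569 L725920
theorem L725928 : sm gd N51865 = N53712 := rfl
theorem L725930 : sm ga N53712 = N52558 := ded_12_1 (flp_d L718675) L718669 L725928
theorem L725932 : sm gb N53712 = N51867 := ded_20_1 (flp_d L706601) (flp_b L706585) L725928
theorem L725934 : sm gg N53712 = N52598 := ded_36_2 (flp_d L713167) (flp_g L706587) L725928
theorem L725936 : sm gj N53712 = N52563 := ded_37_2 (flp_d L725852) L725848 L725928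
theorem L725938 : sm ge N53712 = N52020 := ded_34_2 (flp_d L708082) (flp_e L686623) (flp_d L685179) L706583 L725928
theorem L725940 : sm gi N51865 = N53713 := rfl
theorem L725942 : sm gb N53713 = N51869 := ded_26_1 (flp_i L706621) (flp_b L706585) L725940
theorem L725944 : sm ge N53713 = N51866 := ded_44_1 (flp_i L706591) L706583 L725940
theorem L725946 : sm gg N53713 = N52600 := ded_51_1 (flp_i L713181) (flp_g L706587) L725940
theorem L725948 : sm gh N51866 = N53714 := rfl
theorem L725950 : sm gb N53714 = N51870 := ded_25_1 (flp_h L706631) (flp_b L706593) L725948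
theorem L725952 : sm gf N53714 = N51881 := ded_47_1 (flp_h L706738) (flp_f L706597) L725948
theorem L725954 : sm gg N53714 = N52601 := ded_50_1 (flp_h L713187) (flp_g L706599) L725948
theorem L725956 : sm gd N53714 = N52567 := ded_38_1 (flp_h L712944) L692269 (flp_h L686647) (flp_d L706595) L725948
theorem L725958 : sm gi N53714 = N51918 := ded_54_2 (flp_h L707068) (flp_i L685509) (flp_h L685185) L706591 L725948
theorem L725960 : sm gf N51867 = N53715 := rfl
theorem L725962 : sm ga N53715 = N52636 := ded_14_1 (flp_f L713452) (flp_a L706603) L725960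
theorem L725964 : sm gd N53715 = N51868 := ded_35_1 (flp_f L706611) L706601 L725960
theorem L725966 : sm gj N53715 = N52647 := ded_46_2 (flp_f L713544) (flp_j L706607) L725960
theorem L725968 : sm ge N53715 = N52670 := ded_40_1 (flp_f L713686) (flp_e L692989) (flp_f L686653) (flp_e L706609) L725960
theorem L725970 : sm gh N51867 = N53716 := rfl
theorem L725972 : sm ga N53716 = N52590 := ded_17_1 L713109 (flp_a L706603) L725970
theorem L725974 : sm ge N53716 = N52022 := ded_43_1 (flp_h L708111) (flp_e L706609) L725970
theorem L725976 : sm gg N53716 = N52603 := ded_50_1 (flp_h L713200) (flp_g L706605) L725970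
theorem L725978 : sm gj N53716 = N52596 := ded_52_1 L713157 (flp_j L706607) L725970
theorem L725980 : sm gd N53716 = N51920 := ded_38_1 (flp_h L707081) (flp_d L685519) (flp_h L685195) L706601 L725970
theorem L725982 : sm gi N51867 = N53717 := rfl
theorem L725984 : sm ga N53717 = N52637 := ded_18_1 (flp_i L713462) (flp_a L706603) L725982
theorem L725986 : sm gd N53717 = N51869 := ded_39_1 (flp_i L706621) L706601 L725982
theorem L725988 : sm ge N53717 = N52023 := ded_44_1 (flp_i L708123) (flp_e L706609) L725982
theorem L725990 : sm gg N53717 = N52604 := ded_51_1 (flp_i L713206) (flp_g L706605) L725982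
theorem L725992 : sm gj N53717 = N52648 := ded_53_1 (flp_i L713550) (flp_j L706607) L725982
theorem L725994 : sm gg N51868 = N53718 := rfl
theorem L725996 : sm ga N53718 = N52155 := ded_15_1 L709585 (flp_a L706613) L725994
theorem L725998 : sm gb N53718 = N52248 := ded_23_1 (flp_g L718633) L718629 L725994
theorem L726000 : sm gc N53718 = N51871 := ded_30_1 (flp_g L706645) (flp_c L706615) L725994
theorem L726002 : sm ge N53718 = N51882 := ded_41_1 (flp_g L706748) (flp_e L706619) L725994
theorem L726004 : sm gh N53718 = N51922 := ded_50_2 (flp_g L707095) (flp_h L706617) L725994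
theorem L726006 : sm gf N53718 = N52605 := ded_45_1 (flp_g L713212) (flp_f L692555) (flp_g L685193) L706611 L725994
theorem L726008 : sm gi N51868 = N53719 := rfl
theorem L726010 : sm ga N53719 = N52698 := ded_18_1 L713907 (flp_a L706613) L726008
theorem L726012 : sm gc N53719 = N51872 := ded_33_1 (flp_i L706653) (flp_c L706615) L726008
theorem L726014 : sm ge N53719 = N51883 := ded_44_1 (flp_i L706762) (flp_e L706619) L726008
theorem L726016 : sm gf N53719 = N51869 := ded_48_1 (flp_i L706621) L706611 L726008
theorem L726018 : sm gh N51869 = N53720 := rfl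
theorem L726020 : sm ga N53720 = N52665 := ded_17_1 L713666 (flp_a L706623) L726018
theorem L726022 : sm gc N53720 = N51873 := ded_32_1 (flp_h L706659) (flp_c L706625) L726018
theorem L726024 : sm ge N53720 = N51870 := ded_43_1 (flp_h L706631) (flp_e L706627) L726018
theorem L726026 : sm gg N53720 = N52607 := ded_50_1 (flp_h L713228) (flp_g L706629) L726018
theorem L726028 : sm gi N53720 = N51924 := ded_54_2 (flp_h L707111) (flp_i L685531) (flp_h L685195) L706621 L726018
theorem L726030 : sm gj N51871 = N53721 := rfl
theorem L726032 : sm ge N53721 = N51885 := ded_42_1 (flp_j L706784) (flp_e L706647) L726030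
theorem L726034 : sm gf N53721 = N52608 := ded_46_1 (flp_j L713236) (flp_f L706651) L726030
theorem L726036 : sm gh N53721 = N51926 := ded_52_2 (flp_j L707133) (flp_h L706649) L726030
theorem L726038 : sm gi N51871 = N53722 := rfl
theorem L726040 : sm ge N53722 = N51886 := ded_44_1 (flp_i L706791) (flp_e L706647) L726038
theorem L726042 : sm gf N53722 = N52609 := ded_48_1 (flp_i L713242) (flp_f L706651) L726038
theorem L726044 : sm gg N53722 = N51872 := ded_51_1 (flp_i L706653) L706645 L726038
theorem L726046 : sm gh N51872 = N53723 := rfl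
theorem L726048 : sm ge N53723 = N51887 := ded_43_1 (flp_h L706798) (flp_e L706655) L726046
theorem L726050 : sm gf N53723 = N51873 := ded_47_1 (flp_h L706659) (flp_f L706657) L726046
theorem L726052 : sm gi N53723 = N51928 := ded_54_2 (flp_h L707147) (flp_i L685553) (flp_h L685211) L706653 L726046
theorem L726054 : sm gd N51873 = N53724 := rfl
theorem L726056 : sm gg N53724 = N52611 := ded_36_2 (flp_d L713256) (flp_g L706663) L726054
theorem L726058 : sm gi N53724 = N51929 := ded_39_2 (flp_d L707153) (flp_i L706665) L726054
theorem L726060 : sm gh N51874 = N53725 := rfl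
theorem L726062 : sm ga N53725 = N52736 := ded_17_1 (flp_h L714208) (flp_a L706669) L726060
theorem L726064 : sm gb N53725 = N51877 := ded_25_1 (flp_h L706703) (flp_b L706671) L726060
theorem L726066 : sm gg N53725 = N53725 := ded_50_1 (flp_h L726060) L706675 L726060
theorem L726067 : sm gj N53725 = N51881 := ded_52_1 (flp_h L706738) (flp_j L706676) L726060
theorem L726069 : sm gd N53725 = N52573 := ded_38_1 (flp_h L712987) L692314 (flp_h L686687) (flp_d L706673) L726060
theorem L726071 : sm gi N53725 = N51933 := ded_54_2 (flp_h L707189) (flp_i L685586) (flp_h L685236) L706667 L726060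
theorem L726073 : sm gg N51875 = N53726 := rfl
theorem L726075 : sm ga N53726 = N52720 := ded_15_1 (flp_g L714074) (flp_a L706680) L726073
theorem L726077 : sm gb N53726 = N52703 := ded_23_1 (flp_g L718533) L718539 L726073
theorem L726079 : sm gc N53726 = N51878 := ded_30_1 (flp_g L706716) (flp_c L706682) L726073
theorem L726081 : sm gd N53726 = N52701 := ded_36_1 L713937 (flp_d L706684) L726073
theorem L726083 : sm gh N53726 = N51934 := ded_50_2 (flp_g L707196) (flp_h L706688) L726073
theorem L726085 : sm gf N53726 = N53726 := ded_45_1 (flp_g L726073) (flp_f L706678) L685246 L706678 L726073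
theorem L726086 : sm gj N52708 = N53726 := ded_24_0 L726077 L713959 (flp_b L714003)
theorem L726088 : sm gi N51875 = N53727 := rfl
theorem L726090 : sm ga N53727 = N52699 := ded_18_1 L713919 (flp_a L706680) L726088
theorem L726092 : sm gc N53727 = N51879 := ded_33_1 (flp_i L706722) (flp_c L706682) L726088
theorem L726094 : sm gd N53727 = N52739 := ded_39_1 L714238 (flp_d L706684) L726088
theorem L726096 : sm gf N53727 = N51876 := ded_48_1 (flp_i L706690) L706678 L726088
theorem L726098 : sm gj N53727 = N51883 := ded_53_1 (flp_i L706762) (flp_j L706686) L726088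
theorem L726100 : sm gh N51876 = N53728 := rfl
theorem L726102 : sm ga N53728 = N52677 := ded_17_1 L713755 (flp_a L706692) L726100
theorem L726104 : sm gc N53728 = N51880 := ded_32_1 (flp_h L706729) (flp_c L706694) L726100
theorem L726106 : sm ge N53728 = N51877 := ded_43_1 (flp_h L706703) (flp_e L706698) L726100
theorem L726108 : sm gg N53728 = N53728 := ded_50_1 (flp_h L726100) L706700 L726100
theorem L726109 : sm gj N53728 = N51884 := ded_52_1 (flp_h L706772) (flp_j L706701) L726100
theorem L726111 : sm gi N53728 = N51936 := ded_54_2 (flp_h L707211) (flp_i L685602) (flp_h L685249) L706690 L726100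
theorem L726113 : sm gj N51878 = N53729 := rfl
theorem L726115 : sm gb N53729 = N52716 := ded_24_1 L718281 L718273 L726113
theorem L726117 : sm gc N53729 = N52708 := ded_31_1 L726086 L726079 L726113
theorem L726119 : sm gd N53729 = N53729 := ded_37_1 (flp_j L726113) L706718 L726113
theorem L726120 : sm gf N53729 = N53729 := ded_46_1 (flp_j L726113) L706721 L726113
theorem L726121 : sm gh N53729 = N51938 := ded_52_2 (flp_j L707233) (flp_h L706719) L726113
theorem L726123 : sm gg N53729 = N51885 := ded_49_1 (flp_j L706784) (flp_g L685328) (flp_j L685267) L706716 L726113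
theorem L726125 : sm gi N51878 = N53730 := rfl
theorem L726127 : sm gd N53730 = N53730 := ded_39_1 (flp_i L726125) L706718 L726125
theorem L726128 : sm gf N53730 = N53730 := ded_48_1 (flp_i L726125) L706721 L726125
theorem L726129 : sm gg N53730 = N51879 := ded_51_1 (flp_i L706722) L706716 L726125
theorem L726131 : sm gh N51879 = N53731 := rfl
theorem L726133 : sm gf N53731 = N51880 := ded_47_1 (flp_h L706729) (flp_f L706725) L726131
theorem L726135 : sm gj N53731 = N51887 := ded_52_1 (flp_h L706798) (flp_j L706727) L726131
theorem L726137 : sm gi N53731 = N51940 := ded_54_2 (flp_h L707247) (flp_i L685624) (flp_h L685269) L706722 L726131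
theorem L726139 : sm gd N51880 = N53732 := rfl
theorem L726141 : sm gg N53732 = N53732 := ded_36_2 (flp_d L726139) L706733 L726139
theorem L726142 : sm gj N53732 = N51888 := ded_37_2 (flp_d L706804) (flp_j L706734) L726139
theorem L726144 : sm gi N53732 = N51941 := ded_39_2 (flp_d L707253) (flp_i L706736) L726139
theorem L726146 : sm gh N53732 = N53732 := ded_38_2 (flp_d L726139) (flp_h L706729) L685273 L706729 L726139
theorem L726147 : sm gj N51882 = N53733 := rfl
theorem L726149 : sm ga N53733 = N52149 := ded_16_1 L709527 (flp_a L706750) L726147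
theorem L726151 : sm gb N53733 = N52014 := ded_24_1 L708008 (flp_b L706752) L726147
theorem L726153 : sm gc N53733 = N51885 := ded_31_1 (flp_j L706784) (flp_c L706754) L726147
theorem L726155 : sm gd N53733 = N52012 := ded_37_1 L707987 (flp_d L706756) L726147
theorem L726157 : sm gf N53733 = N51889 := ded_46_1 (flp_j L706811) (flp_f L706760) L726147
theorem L726159 : sm gh N53733 = N51947 := ded_52_2 (flp_j L707304) (flp_h L706758) L726147
theorem L726161 : sm gg N53733 = N52708 := ded_49_1 L726086 (flp_g L726073) L706686 L706748 L726147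
theorem L726163 : sm gi N51882 = N53734 := rfl
theorem L726165 : sm ga N53734 = N52156 := ded_18_1 (flp_i L709587) (flp_a L706750) L726163
theorem L726167 : sm gb N53734 = N52249 := ded_26_1 (flp_i L710506) (flp_b L706752) L726163
theorem L726169 : sm gc N53734 = N51886 := ded_33_1 (flp_i L706791) (flp_c L706754) L726163
theorem L726171 : sm gd N53734 = N52185 := ded_39_1 (flp_i L709886) (flp_d L706756) L726163
theorem L726173 : sm gf N53734 = N51890 := ded_48_1 (flp_i L706826) (flp_f L706760) L726163
theorem L726175 : sm gg N53734 = N51883 := ded_51_1 (flp_i L706762) L706748 L726163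
theorem L726177 : sm gh N51883 = N53735 := rfl
theorem L726179 : sm ga N53735 = N52689 := ded_17_1 L713845 (flp_a L706764) L726177
theorem L726181 : sm gc N53735 = N51887 := ded_32_1 (flp_h L706798) (flp_c L706766) L726177
theorem L726183 : sm gf N53735 = N51884 := ded_47_1 (flp_h L706772) (flp_f L706770) L726177
theorem L726185 : sm gi N53735 = N51949 := ded_54_2 (flp_h L707320) (flp_i L685674) (flp_h L685302) L706762 L726177
theorem L726187 : sm gd N51884 = N53736 := rfl
theorem L726189 : sm ga N53736 = N52688 := ded_12_1 L713841 (flp_a L706774) L726187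
theorem L726191 : sm gg N53736 = N51892 := ded_36_2 (flp_d L706855) (flp_g L706780) L726187
theorem L726193 : sm gi N53736 = N51950 := ded_39_2 (flp_d L707326) (flp_i L706782) L726187
theorem L726195 : sm ge N53736 = N52118 := ded_34_2 (flp_d L709192) L688108 (flp_d L685324) (flp_e L706778) L726187
theorem L726197 : sm gh N53736 = N52129 := ded_38_2 L709318 L693972 (flp_d L685310) L706772 L726187
theorem L726199 : sm gc N52285 = N53736 := ded_30_3 L726191 (flp_c L706866) (flp_g L710810)
theorem L726201 : sm gi N51885 = N53737 := rfl
theorem L726203 : sm gd N53737 = N53737 := ded_39_1 (flp_i L726201) L706786 L726201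
theorem L726204 : sm gf N53737 = N51893 := ded_48_1 (flp_i L706868) (flp_f L706787) L726201
theorem L726206 : sm gj N53737 = N51886 := ded_53_1 (flp_i L706791) L706784 L726201
theorem L726208 : sm gh N51886 = N53738 := rfl
theorem L726210 : sm gf N53738 = N51894 := ded_47_1 (flp_h L706876) (flp_f L706794) L726208
theorem L726212 : sm gg N53738 = N51887 := ded_50_1 (flp_h L706798) (flp_g L706796) L726208
theorem L726214 : sm gi N53738 = N51953 := ded_54_2 (flp_h L707351) (flp_i L685707) (flp_h L685331) L706791 L726208
theorem L726216 : sm gd N51887 = N53739 := rfl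
theorem L726218 : sm gf N53739 = N51888 := ded_35_2 (flp_d L706804) (flp_f L706800) L726216
theorem L726220 : sm gi N53739 = N51954 := ded_39_2 (flp_d L707357) (flp_i L706802) L726216
theorem L726222 : sm gh N53739 = N53739 := ded_38_2 (flp_d L726216) (flp_h L706798) L685337 L706798 L726216
theorem L726223 : sm gc N51888 = N53740 := rfl
theorem L726225 : sm ge N53740 = N52284 := ded_28_2 (flp_c L724326) L724328 L726223
theorem L726227 : sm gg N53740 = N51896 := ded_30_2 (flp_c L706892) (flp_g L706806) L726223
theorem L726229 : sm gh N53740 = N53740 := ded_32_2 (flp_c L726223) L706810 L726223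
theorem L726230 : sm gi N53740 = N51955 := ded_33_2 (flp_c L707363) (flp_i L706808) L726223
theorem L726232 : sm gd N53740 = N52285 := ded_27_2 L726199 (flp_d L726187) L706776 L706804 L726223
theorem L726234 : sm gi N51889 = N53741 := rfl
theorem L726236 : sm ga N53741 = N52163 := ded_18_1 (flp_i L709647) (flp_a L706813) L726234
theorem L726238 : sm gb N53741 = N52266 := ded_26_1 (flp_i L710627) (flp_b L706815) L726234
theorem L726240 : sm gc N53741 = N51893 := ded_33_1 (flp_i L706868) (flp_c L706817) L726234
theorem L726242 : sm gd N53741 = N52192 := ded_39_1 (flp_i L709956) (flp_d L706819) L726234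
theorem L726244 : sm ge N53741 = N52626 := ded_44_1 (flp_i L713385) (flp_e L706821) L726234
theorem L726246 : sm gg N53741 = N53741 := ded_51_1 (flp_i L726234) L706825 L726234
theorem L726247 : sm gj N53741 = N51890 := ded_53_1 (flp_i L706826) L706811 L726234
theorem L726249 : sm gh N51890 = N53742 := rfl
theorem L726251 : sm ga N53742 = N52169 := ded_17_1 (flp_h L709715) (flp_a L706828) L726249
theorem L726253 : sm gb N53742 = N52276 := ded_25_1 (flp_h L710733) (flp_b L706830) L726249
theorem L726255 : sm gc N53742 = N51894 := ded_32_1 (flp_h L706876) (flp_c L706832) L726249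
theorem L726257 : sm ge N53742 = N52627 := ded_43_1 (flp_h L713393) (flp_e L706836) L726249
theorem L726259 : sm gg N53742 = N51891 := ded_50_1 (flp_h L706840) (flp_g L706838) L726249
theorem L726261 : sm gi N53742 = N51961 := ded_54_2 (flp_h L707427) (flp_i L685785) (flp_h L685371) L706826 L726249
theorem L726263 : sm gh N51893 = N53743 := rfl
theorem L726265 : sm ge N53743 = N52629 := ded_43_1 (flp_h L713409) (flp_e L706871) L726263
theorem L726267 : sm gg N53743 = N53743 := ded_50_1 (flp_h L726263) L706873 L726263
theorem L726268 : sm gj N53743 = N51894 := ded_52_1 (flp_h L706876) (flp_j L706874) L726263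
theorem L726270 : sm gi N53743 = N51965 := ded_54_2 (flp_h L707463) (flp_i L685818) (flp_h L685404) L706868 L726263
theorem L726272 : sm gd N51894 = N53744 := rfl
theorem L726274 : sm gg N53744 = N51895 := ded_36_2 (flp_d L706884) (flp_g L706880) L726272
theorem L726276 : sm gi N53744 = N51966 := ded_39_2 (flp_d L707470) (flp_i L706882) L726272
theorem L726278 : sm gh N53744 = N53744 := ded_38_2 (flp_d L726272) (flp_h L706876) L685409 L706876 L726272
theorem L726279 : sm gc N51895 = N53745 := rfl
theorem L726281 : sm ge N53745 = N52232 := ded_28_2 (flp_c L717630) L717632 L726279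
theorem L726283 : sm gf N53745 = N51896 := ded_29_2 (flp_c L706892) (flp_f L706886) L726279
theorem L726285 : sm gj N53745 = N53745 := ded_31_2 (flp_c L726279) L706888 L726279
theorem L726286 : sm gh N53745 = N53745 := ded_32_2 (flp_c L726279) L706891 L726279
theorem L726287 : sm gi N53745 = N51967 := ded_33_2 (flp_c L707476) (flp_i L706889) L726279
theorem L726289 : sm gb N53745 = N51963 := ded_19_1 (flp_c L707441) (flp_b L707413) (flp_c L718480) L718473 L726279
theorem L726291 : sm gd N53745 = N51968 := ded_27_2 (flp_c L719153) L719142 L706846 L706884 L726279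
theorem L726293 : sm gb N51896 = N53746 := rfl
theorem L726295 : sm gd N53746 = N51967 := ded_20_2 (flp_b L707485) (flp_d L706900) L726293
theorem L726297 : sm ge N53746 = N52292 := ded_21_2 L710891 (flp_e L706894) L726293
theorem L726299 : sm gf N53746 = N51963 := ded_22_2 (flp_b L726289) L726283 L726293
theorem L726301 : sm gj N53746 = N53746 := ded_24_2 (flp_b L726293) L706896 L726293
theorem L726302 : sm gh N53746 = N53746 := ded_25_2 (flp_b L726293) L706897 L726293
theorem L726303 : sm gi N53746 = N51968 := ded_26_2 (flp_b L707487) (flp_i L706898) L726293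
theorem L726305 : sm gc N53746 = N51962 := ded_19_2 L718497 (flp_c L718485) L698871 L706892 L726293
theorem L726307 : sm ge N51897 = N53747 := rfl
theorem L726309 : sm ga N53747 = N52592 := ded_13_1 L713125 (flp_a L706911) L726307
theorem L726311 : sm gb N53747 = N51898 := ded_21_1 (flp_e L706913) L706902 L726307
theorem L726313 : sm gg N53747 = N51904 := ded_41_2 (flp_e L706966) (flp_g L706907) L726307
theorem L726315 : sm gj N53747 = N52031 := ded_42_2 (flp_e L708220) (flp_j L706909) L726307
theorem L726317 : sm gd N53747 = N52026 := ded_34_1 (flp_e L708164) (flp_d L686731) L685943 (flp_d L706904) L726307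
theorem L726319 : sm gi N51897 = N53748 := rfl
theorem L726321 : sm ga N53748 = N52715 := ded_18_1 (flp_i L714048) (flp_a L706911) L726319
theorem L726323 : sm gb N53748 = N51899 := ded_26_1 (flp_i L706921) L706902 L726319
theorem L726325 : sm gd N53748 = N51981 := ded_39_1 (flp_i L707588) (flp_d L706904) L726319
theorem L726327 : sm gf N53748 = N53748 := ded_48_1 (flp_i L726319) L706906 L726319
theorem L726328 : sm gg N53748 = N51905 := ded_51_1 (flp_i L706972) (flp_g L706907) L726319
theorem L726330 : sm gj N53748 = N51996 := ded_53_1 L707784 (flp_j L706909) L726319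
theorem L726332 : sm gd N51898 = N53749 := rfl
theorem L726334 : sm gb N53749 = N52026 := ded_20_1 (flp_d L726317) L726311 L726332
theorem L726336 : sm gg N53749 = N51906 := ded_36_2 (flp_d L706982) (flp_g L706917) L726332
theorem L726338 : sm gj N53749 = N52027 := ded_37_2 L708182 (flp_j L706919) L726332
theorem L726340 : sm ge N53749 = N51982 := ded_34_2 (flp_d L707605) (flp_e L685945) (flp_d L685436) L706913 L726332
theorem L726342 : sm gh N53749 = N52558 := ded_38_2 (flp_d L718675) L718679 (flp_d L725803) L725801 L726332
theorem L726344 : sm gf N51898 = N53750 := rfl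
theorem L726346 : sm gc N53750 = N51900 := ded_29_1 (flp_f L706932) (flp_c L706915) L726344
theorem L726348 : sm gj N53750 = N52630 := ded_46_2 (flp_f L713416) (flp_j L706919) L726344
theorem L726350 : sm ge N53750 = N53750 := ded_40_1 (flp_f L726344) (flp_e L706913) L685431 L706913 L726344
theorem L726351 : sm gi N51898 = N53751 := rfl
theorem L726353 : sm gc N53751 = N51901 := ded_33_1 (flp_i L706937) (flp_c L706915) L726351
theorem L726355 : sm ge N53751 = N51899 := ded_44_1 (flp_i L706921) L706913 L726351
theorem L726357 : sm gg N53751 = N51908 := ded_51_1 (flp_i L706996) (flp_g L706917) L726351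
theorem L726359 : sm gj N53751 = N52631 := ded_53_1 (flp_i L713421) (flp_j L706919) L726351
theorem L726361 : sm gh N51899 = N53752 := rfl
theorem L726363 : sm gc N53752 = N51902 := ded_32_1 (flp_h L706945) (flp_c L706923) L726361
theorem L726365 : sm gf N53752 = N53752 := ded_47_1 (flp_h L726361) L706927 L726361
theorem L726366 : sm gg N53752 = N51909 := ded_50_1 (flp_h L707004) (flp_g L706928) L726361
theorem L726368 : sm gj N53752 = N52632 := ded_52_1 (flp_h L713429) (flp_j L706930) L726361
theorem L726370 : sm gg N51900 = N53753 := rfl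
theorem L726372 : sm ge N53753 = N53753 := ded_41_1 (flp_g L726370) L706936 L726370
theorem L726373 : sm gf N53753 = N51910 := ded_45_1 (flp_g L707012) (flp_f L685477) (flp_g L685440) L706932 L726370
theorem L726375 : sm gi N51900 = N53754 := rfl
theorem L726377 : sm ge N53754 = N53754 := ded_44_1 (flp_i L726375) L706936 L726375
theorem L726378 : sm gf N53754 = N51901 := ded_48_1 (flp_i L706937) L706932 L726375
theorem L726380 : sm gj N53754 = N52634 := ded_53_1 (flp_i L713441) (flp_j L706934) L726375
theorem L726382 : sm gh N51901 = N53755 := rfl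
theorem L726384 : sm ge N53755 = N51902 := ded_43_1 (flp_h L706945) (flp_e L706939) L726382
theorem L726386 : sm gg N53755 = N51912 := ded_50_1 (flp_h L707024) (flp_g L706941) L726382
theorem L726388 : sm gj N53755 = N52635 := ded_52_1 (flp_h L713446) (flp_j L706943) L726382
theorem L726390 : sm ge N51903 = N53756 := rfl
theorem L726392 : sm ga N53756 = N51904 := ded_13_1 (flp_e L706966) L706952 L726390
theorem L726394 : sm gb N53756 = N52568 := ded_21_1 L712954 (flp_b L706964) L726390
theorem L726396 : sm gg N53756 = N52592 := ded_41_2 L713125 (flp_g L706958) L726390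
theorem L726398 : sm gj N53756 = N51913 := ded_42_2 (flp_e L707030) (flp_j L706960) L726390
theorem L726400 : sm gh N53756 = N52565 := ded_43_2 L712936 (flp_h L706962) L726390
theorem L726402 : sm gd N53756 = N52585 := ded_34_1 (flp_e L713068) L692472 L686013 (flp_d L706954) L726390
theorem L726404 : sm gi N51903 = N53757 := rfl
theorem L726406 : sm ga N53757 = N51905 := ded_18_1 (flp_i L706972) L706952 L726404
theorem L726408 : sm gb N53757 = N52576 := ded_26_1 (flp_i L713010) (flp_b L706964) L726404
theorem L726410 : sm gd N53757 = N51985 := ded_39_1 (flp_i L707650) (flp_d L706954) L726404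
theorem L726412 : sm gf N53757 = N51930 := ded_48_1 (flp_i L707157) (flp_f L706956) L726404
theorem L726414 : sm gg N53757 = N52715 := ded_51_1 (flp_i L714048) (flp_g L706958) L726404
theorem L726416 : sm gj N53757 = N51914 := ded_53_1 (flp_i L707036) (flp_j L706960) L726404
theorem L726418 : sm gd N51904 = N53758 := rfl
theorem L726420 : sm ga N53758 = N52585 := ded_12_1 (flp_d L726402) L726392 L726418
theorem L726422 : sm gb N53758 = N51906 := ded_20_1 (flp_d L706982) (flp_b L706968) L726418
theorem L726424 : sm gg N53758 = N52026 := ded_36_2 (flp_d L726317) L726313 L726418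
theorem L726426 : sm gj N53758 = N51915 := ded_37_2 (flp_d L707046) (flp_j L706970) L726418
theorem L726428 : sm gc N53758 = N52521 := ded_27_1 (flp_d L712588) (flp_c L709087) (flp_d L718549) L718545 L726418
theorem L726430 : sm ge N53758 = N51986 := ded_34_2 (flp_d L707666) (flp_e L686015) (flp_d L685455) L706966 L726418
theorem L726432 : sm gh N53758 = N52553 := ded_38_2 (flp_d L718743) L718747 (flp_d L725852) L725850 L726418
theorem L726434 : sm gf N51904 = N53759 := rfl
theorem L726436 : sm gb N53759 = N51907 := ded_22_1 (flp_f L706988) (flp_b L706968) L726434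
theorem L726438 : sm gc N53759 = N52565 := ded_29_1 (flp_f L718551) L718545 L726434
theorem L726440 : sm gj N53759 = N51916 := ded_46_2 (flp_f L707054) (flp_j L706970) L726434
theorem L726442 : sm ge N53759 = N51931 := ded_40_1 (flp_f L707168) (flp_e L685576) (flp_f L685457) L706966 L726434
theorem L726444 : sm gi N51904 = N53760 := rfl
theorem L726446 : sm gb N53760 = N51908 := ded_26_1 (flp_i L706996) (flp_b L706968) L726444
theorem L726448 : sm ge N53760 = N51905 := ded_44_1 (flp_i L706972) L706966 L726444
theorem L726450 : sm gj N53760 = N51917 := ded_53_1 (flp_i L707060) (flp_j L706970) L726444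
theorem L726452 : sm gh N51905 = N53761 := rfl
theorem L726454 : sm gb N53761 = N51909 := ded_25_1 (flp_h L707004) (flp_b L706974) L726452
theorem L726456 : sm gf N53761 = N51933 := ded_47_1 (flp_h L707189) (flp_f L706978) L726452
theorem L726458 : sm gj N53761 = N51918 := ded_52_1 (flp_h L707068) (flp_j L706980) L726452
theorem L726460 : sm gf N51906 = N53762 := rfl
theorem L726462 : sm gd N53762 = N51907 := ded_35_1 (flp_f L706988) L706982 L726460
theorem L726464 : sm gj N53762 = N51919 := ded_46_2 (flp_f L707076) (flp_j L706984) L726460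
theorem L726466 : sm ge N53762 = N53762 := ded_40_1 (flp_f L726460) L706986 L686042 (flp_e L706986) L726460
theorem L726467 : sm gh N51906 = N53763 := rfl
theorem L726469 : sm ga N53763 = N52598 := ded_17_1 (flp_h L725198) L725190 L726467
theorem L726471 : sm gb N53763 = N52553 := ded_25_1 (flp_h L726432) L726422 L726467
theorem L726473 : sm ge N53763 = N51987 := ded_43_1 (flp_h L707681) (flp_e L706986) L726467
theorem L726475 : sm gg N53763 = N52558 := ded_50_1 (flp_h L726342) L726336 L726467
theorem L726477 : sm gj N53763 = N51920 := ded_52_1 (flp_h L707081) (flp_j L706984) L726467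
theorem L726479 : sm gd N53763 = N52596 := ded_38_1 L713157 (flp_d L706547) L706545 L706982 L726467
theorem L726481 : sm gi N51906 = N53764 := rfl
theorem L726483 : sm gd N53764 = N51908 := ded_39_1 (flp_i L706996) L706982 L726481
theorem L726485 : sm ge N53764 = N51988 := ded_44_1 (flp_i L707694) (flp_e L706986) L726481
theorem L726487 : sm gj N53764 = N51921 := ded_53_1 (flp_i L707087) (flp_j L706984) L726481
theorem L726489 : sm gg N51907 = N53765 := rfl
theorem L726491 : sm gc N53765 = N51910 := ded_30_1 (flp_g L707012) (flp_c L706990) L726489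
theorem L726493 : sm ge N53765 = N51934 := ded_41_1 (flp_g L707196) (flp_e L706994) L726489
theorem L726495 : sm gi N51907 = N53766 := rfl
theorem L726497 : sm gc N53766 = N51911 := ded_33_1 (flp_i L707016) (flp_c L706990) L726495
theorem L726499 : sm ge N53766 = N51935 := ded_44_1 (flp_i L707202) (flp_e L706994) L726495
theorem L726501 : sm gf N53766 = N51908 := ded_48_1 (flp_i L706996) L706988 L726495
theorem L726503 : sm gj N53766 = N51923 := ded_53_1 (flp_i L707103) (flp_j L706992) L726495
theorem L726505 : sm gh N51908 = N53767 := rfl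
theorem L726507 : sm gc N53767 = N51912 := ded_32_1 (flp_h L707024) (flp_c L706998) L726505
theorem L726509 : sm ge N53767 = N51909 := ded_43_1 (flp_h L707004) (flp_e L707000) L726505
theorem L726511 : sm gj N53767 = N51924 := ded_52_1 (flp_h L707111) (flp_j L707002) L726505
theorem L726513 : sm gd N51909 = N53768 := rfl
theorem L726515 : sm ga N53768 = N52594 := ded_12_1 (flp_d L725238) L725228 L726513
theorem L726517 : sm gf N53768 = N51937 := ded_35_2 (flp_d L707220) (flp_f L707008) L726513
theorem L726519 : sm gj N53768 = N51925 := ded_37_2 (flp_d L707119) (flp_j L707010) L726513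
theorem L726521 : sm gi N53768 = N52561 := ded_39_2 (flp_d L725902) L725904 L726513
theorem L726523 : sm gc N53768 = N52551 := ded_27_1 (flp_d L724416) L724410 L705140 (flp_c L707006) L726513
theorem L726525 : sm gh N53768 = N51989 := ded_38_2 (flp_d L707701) (flp_h L686054) (flp_d L685471) L707004 L726513
theorem L726527 : sm gj N51910 = N53769 := rfl
theorem L726529 : sm ge N53769 = N51938 := ded_42_1 (flp_j L707233) (flp_e L707014) L726527
theorem L726531 : sm gg N53769 = N51926 := ded_49_1 (flp_j L707133) (flp_g L685547) (flp_j L685479) L707012 L726527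
theorem L726533 : sm gi N51910 = N53770 := rfl
theorem L726535 : sm ge N53770 = N51939 := ded_44_1 (flp_i L707240) (flp_e L707014) L726533
theorem L726537 : sm gg N53770 = N51911 := ded_51_1 (flp_i L707016) L707012 L726533
theorem L726539 : sm gh N51911 = N53771 := rfl
theorem L726541 : sm ge N53771 = N51940 := ded_43_1 (flp_h L707247) (flp_e L707018) L726539
theorem L726543 : sm gf N53771 = N51912 := ded_47_1 (flp_h L707024) (flp_f L707020) L726539
theorem L726545 : sm gj N53771 = N51928 := ded_52_1 (flp_h L707147) (flp_j L707022) L726539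
theorem L726547 : sm gd N51912 = N53772 := rfl
theorem L726549 : sm gj N53772 = N51929 := ded_37_2 (flp_d L707153) (flp_j L707028) L726547
theorem L726551 : sm gi N51913 = N53773 := rfl
theorem L726553 : sm ga N53773 = N51917 := ded_18_1 (flp_i L707060) (flp_a L707032) L726551
theorem L726555 : sm ge N53773 = N51914 := ded_44_1 (flp_i L707036) L707030 L726551
theorem L726557 : sm gg N53773 = N52648 := ded_51_1 (flp_i L713550) (flp_g L707034) L726551
theorem L726559 : sm gh N51914 = N53774 := rfl
theorem L726561 : sm ga N53774 = N51918 := ded_17_1 (flp_h L707068) (flp_a L707038) L726559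
theorem L726563 : sm gf N53774 = N51942 := ded_47_1 (flp_h L707260) (flp_f L707042) L726559
theorem L726565 : sm gg N53774 = N52649 := ded_50_1 (flp_h L713556) (flp_g L707044) L726559
theorem L726567 : sm gf N51915 = N53775 := rfl
theorem L726569 : sm gb N53775 = N51919 := ded_22_1 (flp_f L707076) (flp_b L707048) L726567
theorem L726571 : sm gd N53775 = N51916 := ded_35_1 (flp_f L707054) L707046 L726567
theorem L726573 : sm ge N53775 = N53775 := ded_40_1 (flp_f L726567) L707052 L686108 (flp_e L707052) L726567
theorem L726574 : sm gi N51915 = N53776 := rfl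
theorem L726576 : sm gb N53776 = N51921 := ded_26_1 (flp_i L707087) (flp_b L707048) L726574
theorem L726578 : sm gd N53776 = N51917 := ded_39_1 (flp_i L707060) L707046 L726574
theorem L726580 : sm ge N53776 = N51992 := ded_44_1 (flp_i L707744) (flp_e L707052) L726574
theorem L726582 : sm gg N53776 = N52651 := ded_51_1 (flp_i L713572) (flp_g L707050) L726574
theorem L726584 : sm gg N51916 = N53777 := rfl
theorem L726586 : sm ga N53777 = N52212 := ded_15_1 (flp_g L718150) L718144 L726584
theorem L726588 : sm gb N53777 = N51922 := ded_23_1 (flp_g L707095) (flp_b L707056) L726584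
theorem L726590 : sm gc N53777 = N52596 := ded_30_1 L718683 L718673 L726584
theorem L726592 : sm ge N53777 = N51943 := ded_41_1 (flp_g L707266) (flp_e L707058) L726584
theorem L726594 : sm gh N53777 = N52248 := ded_50_2 (flp_g L718633) L718635 L726584
theorem L726596 : sm gf N53777 = N52652 := ded_45_1 (flp_g L713582) (flp_f L692911) (flp_g L685507) L707054 L726584
theorem L726598 : sm gi N51916 = N53778 := rfl
theorem L726600 : sm gb N53778 = N51923 := ded_26_1 (flp_i L707103) (flp_b L707056) L726598
theorem L726602 : sm ge N53778 = N51944 := ded_44_1 (flp_i L707279) (flp_e L707058) L726598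
theorem L726604 : sm gf N53778 = N51917 := ded_48_1 (flp_i L707060) L707054 L726598
theorem L726606 : sm gh N51917 = N53779 := rfl
theorem L726608 : sm gb N53779 = N51924 := ded_25_1 (flp_h L707111) (flp_b L707062) L726606
theorem L726610 : sm ge N53779 = N51918 := ded_43_1 (flp_h L707068) (flp_e L707064) L726606
theorem L726612 : sm gg N53779 = N52654 := ded_50_1 (flp_h L713596) (flp_g L707066) L726606
theorem L726614 : sm gd N51918 = N53780 := rfl
theorem L726616 : sm gb N53780 = N51925 := ded_20_1 (flp_d L707119) (flp_b L707070) L726614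
theorem L726618 : sm gf N53780 = N51946 := ded_35_2 (flp_d L707294) (flp_f L707072) L726614
theorem L726620 : sm gg N53780 = N52655 := ded_36_2 (flp_d L713602) (flp_g L707074) L726614
theorem L726622 : sm gi N53780 = N52567 := ded_39_2 (flp_d L725956) L725958 L726614
theorem L726624 : sm gh N53780 = N51993 := ded_38_2 (flp_d L707753) (flp_h L686124) (flp_d L685513) L707068 L726614
theorem L726626 : sm gg N51919 = N53781 := rfl
theorem L726628 : sm gd N53781 = N51922 := ded_36_1 (flp_g L707095) (flp_d L707078) L726626
theorem L726630 : sm ge N53781 = N53781 := ded_41_1 (flp_g L726626) L707080 L726626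
theorem L726631 : sm gf N53781 = N52656 := ded_45_1 (flp_g L713612) (flp_f L692929) (flp_g L685521) L707076 L726626
theorem L726633 : sm gh N51919 = N53782 := rfl
theorem L726635 : sm ge N53782 = N53782 := ded_43_1 (flp_h L726633) L707080 L726633
theorem L726636 : sm gf N53782 = N51920 := ded_47_1 (flp_h L707081) L707076 L726633
theorem L726638 : sm gi N51919 = N53783 := rfl
theorem L726640 : sm gd N53783 = N51923 := ded_39_1 (flp_i L707103) (flp_d L707078) L726638
theorem L726642 : sm ge N53783 = N53783 := ded_44_1 (flp_i L726638) L707080 L726638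
theorem L726643 : sm gf N53783 = N51921 := ded_48_1 (flp_i L707087) L707076 L726638
theorem L726645 : sm gi N51920 = N53784 := rfl
theorem L726647 : sm ge N53784 = N51994 := ded_44_1 (flp_i L707763) (flp_e L707083) L726645
theorem L726649 : sm gg N53784 = N52659 := ded_51_1 (flp_i L713632) (flp_g L707085) L726645
theorem L726651 : sm gh N51921 = N53785 := rfl
theorem L726653 : sm ge N53785 = N51995 := ded_43_1 (flp_h L707770) (flp_e L707091) L726651
theorem L726655 : sm gg N53785 = N52660 := ded_50_1 (flp_h L713636) (flp_g L707093) L726651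
theorem L726657 : sm gj N51922 = N53786 := rfl
theorem L726659 : sm gc N53786 = N51926 := ded_31_1 (flp_j L707133) (flp_c L707097) L726657
theorem L726661 : sm ge N53786 = N51947 := ded_42_1 (flp_j L707304) (flp_e L707099) L726657
theorem L726663 : sm gf N53786 = N52661 := ded_46_1 (flp_j L713640) (flp_f L707101) L726657
theorem L726665 : sm gi N51922 = N53787 := rfl
theorem L726667 : sm gc N53787 = N51927 := ded_33_1 (flp_i L707139) (flp_c L707097) L726665
theorem L726669 : sm ge N53787 = N51948 := ded_44_1 (flp_i L707311) (flp_e L707099) L726665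
theorem L726671 : sm gf N53787 = N52662 := ded_48_1 (flp_i L713646) (flp_f L707101) L726665
theorem L726673 : sm gg N53787 = N51923 := ded_51_1 (flp_i L707103) L707095 L726665
theorem L726675 : sm gh N51923 = N53788 := rfl
theorem L726677 : sm gc N53788 = N51928 := ded_32_1 (flp_h L707147) (flp_c L707105) L726675
theorem L726679 : sm ge N53788 = N51949 := ded_43_1 (flp_h L707320) (flp_e L707107) L726675
theorem L726681 : sm gf N53788 = N51924 := ded_47_1 (flp_h L707111) (flp_f L707109) L726675
theorem L726683 : sm gd N51924 = N53789 := rfl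
theorem L726685 : sm gg N53789 = N52664 := ded_36_2 (flp_d L713662) (flp_g L707117) L726683
theorem L726687 : sm ge N51925 = N53790 := rfl
theorem L726689 : sm ga N53790 = N52607 := ded_13_1 L713232 (flp_a L707121) L726687
theorem L726691 : sm gc N53790 = N52552 := ded_28_1 L712829 (flp_c L707129) L726687
theorem L726693 : sm gg N53790 = N52665 := ded_41_2 (flp_e L713664) (flp_g L707125) L726687
theorem L726695 : sm gh N53790 = N51997 := ded_43_2 (flp_e L707786) (flp_h L707131) L726687
theorem L726697 : sm gi N53790 = N52570 := ded_44_2 L712970 (flp_i L707127) L726687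
theorem L726699 : sm gi N51926 = N53791 := rfl
theorem L726701 : sm ge N53791 = N51952 := ded_44_1 (flp_i L707343) (flp_e L707135) L726699
theorem L726703 : sm gf N53791 = N52666 := ded_48_1 (flp_i L713668) (flp_f L707137) L726699
theorem L726705 : sm gj N53791 = N51927 := ded_53_1 (flp_i L707139) L707133 L726699
theorem L726707 : sm gh N51927 = N53792 := rfl
theorem L726709 : sm ge N53792 = N51953 := ded_43_1 (flp_h L707351) (flp_e L707141) L726707
theorem L726711 : sm gf N53792 = N52667 := ded_47_1 (flp_h L713674) (flp_f L707143) L726707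
theorem L726713 : sm gg N53792 = N51928 := ded_50_1 (flp_h L707147) (flp_g L707145) L726707
theorem L726715 : sm gd N51928 = N53793 := rfl
theorem L726717 : sm gf N53793 = N51929 := ded_35_2 (flp_d L707153) (flp_f L707151) L726715
theorem L726719 : sm gc N51929 = N53794 := rfl
theorem L726721 : sm gg N53794 = N52669 := ded_30_2 (flp_c L713684) (flp_g L707155) L726719
theorem L726723 : sm gh N51930 = N53795 := rfl
theorem L726725 : sm ga N53795 = N51933 := ded_17_1 (flp_h L707189) (flp_a L707159) L726723
theorem L726727 : sm gb N53795 = N52737 := ded_25_1 (flp_h L714213) (flp_b L707161) L726723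
theorem L726729 : sm gg N53795 = N53795 := ded_50_1 (flp_h L726723) L707165 L726723
theorem L726730 : sm gj N53795 = N51942 := ded_52_1 (flp_h L707260) (flp_j L707166) L726723
theorem L726732 : sm gi N53795 = N52736 := ded_54_2 (flp_h L714208) (flp_i L693975) (flp_h L685572) L707157 L726723
theorem L726734 : sm gi N51931 = N53796 := rfl
theorem L726736 : sm gb N53796 = N51935 := ded_26_1 (flp_i L707202) (flp_b L707170) L726734
theorem L726738 : sm gc N53796 = N52575 := ded_33_1 (flp_i L713002) (flp_c L707172) L726734
theorem L726740 : sm gd N53796 = N53796 := ded_39_1 (flp_i L726734) L707174 L726734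
theorem L726741 : sm gf N53796 = N51932 := ded_48_1 (flp_i L707177) L707168 L726734
theorem L726743 : sm gj N53796 = N51944 := ded_53_1 (flp_i L707279) (flp_j L707175) L726734
theorem L726745 : sm gh N51932 = N53797 := rfl
theorem L726747 : sm gb N53797 = N51936 := ded_25_1 (flp_h L707211) (flp_b L707179) L726745
theorem L726749 : sm gc N53797 = N52736 := ded_32_1 (flp_h L714208) (flp_c L707181) L726745
theorem L726751 : sm ge N53797 = N51933 := ded_43_1 (flp_h L707189) (flp_e L707184) L726745
theorem L726753 : sm gg N53797 = N53797 := ded_50_1 (flp_h L726745) L707186 L726745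
theorem L726754 : sm gj N53797 = N51945 := ded_52_1 (flp_h L707286) (flp_j L707187) L726745
theorem L726756 : sm gd N51933 = N53798 := rfl
theorem L726758 : sm gb N53798 = N51937 := ded_20_1 (flp_d L707220) (flp_b L707191) L726756
theorem L726760 : sm gg N53798 = N53798 := ded_36_2 (flp_d L726756) L707193 L726756
theorem L726761 : sm gj N53798 = N51946 := ded_37_2 (flp_d L707294) (flp_j L707194) L726756
theorem L726763 : sm gi N53798 = N52573 := ded_39_2 (flp_d L726069) L726071 L726756
theorem L726765 : sm gh N53798 = N52000 := ded_38_2 (flp_d L707823) (flp_h L686204) (flp_d L685590) L707189 L726756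
theorem L726767 : sm gj N51934 = N53799 := rfl
theorem L726769 : sm gb N53799 = N52711 := ded_24_1 (flp_j L725589) L725593 L726767
theorem L726771 : sm gc N53799 = N51938 := ded_31_1 (flp_j L707233) (flp_c L707198) L726767
theorem L726773 : sm gd N53799 = N53799 := ded_37_1 (flp_j L726767) L707200 L726767
theorem L726774 : sm gf N53799 = N53799 := ded_46_1 (flp_j L726767) L707201 L726767
theorem L726775 : sm gh N53799 = N52708 := ded_52_2 L726086 L726083 L726767
theorem L726777 : sm gg N53799 = N51947 := ded_49_1 (flp_j L707304) (flp_g L685667) (flp_j L685600) L707196 L726767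
theorem L726779 : sm gi N51934 = N53800 := rfl
theorem L726781 : sm gc N53800 = N51939 := ded_33_1 (flp_i L707240) (flp_c L707198) L726779
theorem L726783 : sm gd N53800 = N53800 := ded_39_1 (flp_i L726779) L707200 L726779
theorem L726784 : sm gf N53800 = N53800 := ded_48_1 (flp_i L726779) L707201 L726779
theorem L726785 : sm gg N53800 = N51935 := ded_51_1 (flp_i L707202) L707196 L726779
theorem L726787 : sm gh N51935 = N53801 := rfl
theorem L726789 : sm gc N53801 = N51940 := ded_32_1 (flp_h L707247) (flp_c L707204) L726787
theorem L726791 : sm gf N53801 = N51936 := ded_47_1 (flp_h L707211) (flp_f L707207) L726787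
theorem L726793 : sm gj N53801 = N51949 := ded_52_1 (flp_h L707320) (flp_j L707209) L726787
theorem L726795 : sm gd N51936 = N53802 := rfl
theorem L726797 : sm gg N53802 = N53802 := ded_36_2 (flp_d L726795) L707217 L726795
theorem L726798 : sm gj N53802 = N51950 := ded_37_2 (flp_d L707326) (flp_j L707218) L726795
theorem L726800 : sm gh N53802 = N53802 := ded_38_2 (flp_d L726795) (flp_h L707211) L685606 L707211 L726795
theorem L726801 : sm ge N51937 = N53803 := rfl
theorem L726803 : sm ga N53803 = N52615 := ded_13_1 L713296 (flp_a L707222) L726801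
theorem L726805 : sm gc N53803 = N52104 := ded_28_1 L709036 (flp_c L707229) L726801
theorem L726807 : sm gg N53803 = N53803 := ded_41_2 (flp_e L726801) L707224 L726801
theorem L726808 : sm gj N53803 = N51951 := ded_42_2 (flp_e L707331) (flp_j L707225) L726801
theorem L726810 : sm gh N53803 = N52001 := ded_43_2 (flp_e L707832) (flp_h L707231) L726801
theorem L726812 : sm gi N53803 = N52115 := ded_44_2 L709163 (flp_i L707227) L726801
theorem L726814 : sm gi N51938 = N53804 := rfl
theorem L726816 : sm gd N53804 = N51969 := ded_39_1 (flp_i L707494) (flp_d L707235) L726814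
theorem L726818 : sm gf N53804 = N53804 := ded_48_1 (flp_i L726814) L707237 L726814
theorem L726819 : sm gg N53804 = N51952 := ded_51_1 (flp_i L707343) (flp_g L707238) L726814
theorem L726821 : sm gj N53804 = N51939 := ded_53_1 (flp_i L707240) L707233 L726814
theorem L726823 : sm gh N51939 = N53805 := rfl
theorem L726825 : sm gf N53805 = N53805 := ded_47_1 (flp_h L726823) L707244 L726823
theorem L726826 : sm gg N53805 = N51940 := ded_50_1 (flp_h L707247) (flp_g L707245) L726823
theorem L726828 : sm gd N51940 = N53806 := rfl
theorem L726830 : sm gf N53806 = N51941 := ded_35_2 (flp_d L707253) (flp_f L707249) L726828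
theorem L726832 : sm gj N53806 = N51954 := ded_37_2 (flp_d L707357) (flp_j L707251) L726828
theorem L726834 : sm gh N53806 = N51971 := ded_38_2 (flp_d L707509) (flp_h L685858) (flp_d L685626) L707247 L726828
theorem L726836 : sm gc N51941 = N53807 := rfl
theorem L726838 : sm ge N53807 = N52768 := ded_28_2 (flp_c L724559) L724561 L726836
theorem L726840 : sm gg N53807 = N53807 := ded_30_2 (flp_c L726836) L707255 L726836
theorem L726841 : sm gj N53807 = N51955 := ded_31_2 (flp_c L707363) (flp_j L707256) L726836
theorem L726843 : sm gh N53807 = N51972 := ded_32_2 (flp_c L707516) (flp_h L707258) L726836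
theorem L726845 : sm gj N51943 = N53808 := rfl
theorem L726847 : sm ga N53808 = N52207 := ded_16_1 L710110 (flp_a L707268) L726845
theorem L726849 : sm gb N53808 = N51947 := ded_24_1 (flp_j L707304) (flp_b L707270) L726845
theorem L726851 : sm gc N53808 = N52022 := ded_31_1 L708119 (flp_c L707272) L726845
theorem L726853 : sm gd N53808 = N53808 := ded_37_1 (flp_j L726845) L707274 L726845
theorem L726854 : sm gf N53808 = N51956 := ded_46_1 (flp_j L707369) (flp_f L707277) L726845
theorem L726856 : sm gh N53808 = N52014 := ded_52_2 L708008 (flp_h L707275) L726845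
theorem L726858 : sm gg N53808 = N52711 := ded_49_1 (flp_j L725589) L725587 L707175 L707266 L726845
theorem L726860 : sm gi N51943 = N53809 := rfl
theorem L726862 : sm ga N53809 = N52213 := ded_18_1 (flp_i L710165) (flp_a L707268) L726860
theorem L726864 : sm gb N53809 = N51948 := ded_26_1 (flp_i L707311) (flp_b L707270) L726860
theorem L726866 : sm gc N53809 = N52597 := ded_33_1 (flp_i L713159) (flp_c L707272) L726860
theorem L726868 : sm gd N53809 = N53809 := ded_39_1 (flp_i L726860) L707274 L726860
theorem L726869 : sm gf N53809 = N51957 := ded_48_1 (flp_i L707383) (flp_f L707277) L726860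
theorem L726871 : sm gg N53809 = N51944 := ded_51_1 (flp_i L707279) L707266 L726860
theorem L726873 : sm gh N51944 = N53810 := rfl
theorem L726875 : sm gb N53810 = N51949 := ded_25_1 (flp_h L707320) (flp_b L707281) L726873
theorem L726877 : sm gf N53810 = N51945 := ded_47_1 (flp_h L707286) (flp_f L707284) L726873
theorem L726879 : sm gd N51945 = N53811 := rfl
theorem L726881 : sm gb N53811 = N51950 := ded_20_1 (flp_d L707326) (flp_b L707288) L726879
theorem L726883 : sm gg N53811 = N51959 := ded_36_2 (flp_d L707411) (flp_g L707292) L726879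
theorem L726885 : sm gh N53811 = N53811 := ded_38_2 (flp_d L726879) (flp_h L707286) L685656 L707286 L726879
theorem L726886 : sm gi N51947 = N53812 := rfl
theorem L726888 : sm gc N53812 = N51952 := ded_33_1 (flp_i L707343) (flp_c L707306) L726886
theorem L726890 : sm gd N53812 = N53812 := ded_39_1 (flp_i L726886) L707308 L726886
theorem L726891 : sm gf N53812 = N51960 := ded_48_1 (flp_i L707417) (flp_f L707309) L726886
theorem L726893 : sm gj N53812 = N51948 := ded_53_1 (flp_i L707311) L707304 L726886
theorem L726895 : sm gh N51948 = N53813 := rfl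
theorem L726897 : sm gc N53813 = N51953 := ded_32_1 (flp_h L707351) (flp_c L707313) L726895
theorem L726899 : sm gf N53813 = N51961 := ded_47_1 (flp_h L707427) (flp_f L707316) L726895
theorem L726901 : sm gg N53813 = N51949 := ded_50_1 (flp_h L707320) (flp_g L707318) L726895
theorem L726903 : sm gd N51949 = N53814 := rfl
theorem L726905 : sm gf N53814 = N51950 := ded_35_2 (flp_d L707326) (flp_f L707324) L726903
theorem L726907 : sm gh N53814 = N53814 := ded_38_2 (flp_d L726903) (flp_h L707320) L685678 L707320 L726903
theorem L726908 : sm gc N51950 = N53815 := rfl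
theorem L726910 : sm gg N53815 = N51963 := ded_30_2 (flp_c L707441) (flp_g L707328) L726908
theorem L726912 : sm gh N53815 = N53815 := ded_32_2 (flp_c L726908) L707330 L726908
theorem L726913 : sm gi N53815 = N52285 := ded_33_2 L726199 L726193 L726908
theorem L726915 : sm gd N53815 = N51955 := ded_27_2 (flp_c L707363) (flp_d L685719) (flp_c L685683) L707326 L726908
theorem L726917 : sm ge N52228 = N53815 := ded_41_3 L726910 (flp_e L707449) (flp_g L710322)
theorem L726919 : sm ge N51950 = N53816 := rfl
theorem L726921 : sm ga N53816 = N52622 := ded_13_1 (flp_e L725453) L725447 L726919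
theorem L726923 : sm gc N53816 = N52228 := ded_28_1 L726917 (flp_c L726908) L726919
theorem L726925 : sm gg N53816 = N51964 := ded_41_2 (flp_e L707451) (flp_g L707328) L726919
theorem L726927 : sm gh N53816 = N53816 := ded_43_2 (flp_e L726919) L707330 L726919
theorem L726928 : sm gi N53816 = N52118 := ded_44_2 (flp_e L726195) L726193 L726919
theorem L726930 : sm gd N53816 = N51951 := ded_34_1 (flp_e L707331) (flp_d L685689) (flp_e L685685) L707326 L726919
theorem L726932 : sm gf N51951 = N53817 := rfl
theorem L726934 : sm ga N53817 = N52621 := ded_14_1 L713350 (flp_a L707333) L726932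
theorem L726936 : sm gc N53817 = N52103 := ded_29_1 L709024 (flp_c L707335) L726932
theorem L726938 : sm gh N53817 = N52002 := ded_47_2 (flp_f L707844) (flp_h L707339) L726932
theorem L726940 : sm gi N53817 = N52111 := ded_48_2 L709117 (flp_i L707341) L726932
theorem L726942 : sm gh N51952 = N53818 := rfl
theorem L726944 : sm gf N53818 = N51965 := ded_47_1 (flp_h L707463) (flp_f L707347) L726942
theorem L726946 : sm gj N53818 = N51953 := ded_52_1 (flp_h L707351) (flp_j L707349) L726942
theorem L726948 : sm gd N51953 = N53819 := rfl
theorem L726950 : sm gf N53819 = N51966 := ded_35_2 (flp_d L707470) (flp_f L707353) L726948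
theorem L726952 : sm gg N53819 = N51954 := ded_36_2 (flp_d L707357) (flp_g L707355) L726948
theorem L726954 : sm gh N53819 = N51974 := ded_38_2 (flp_d L707535) (flp_h L685879) (flp_d L685709) L707351 L726948
theorem L726956 : sm gc N51954 = N53820 := rfl
theorem L726958 : sm gf N53820 = N51955 := ded_29_2 (flp_c L707363) (flp_f L707359) L726956
theorem L726960 : sm gh N53820 = N51975 := ded_32_2 (flp_c L707542) (flp_h L707361) L726956
theorem L726962 : sm ge N51954 = N53821 := rfl
theorem L726964 : sm gh N53821 = N51976 := ded_43_2 (flp_e L707548) (flp_h L707361) L726962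
theorem L726966 : sm gb N51955 = N53822 := rfl
theorem L726968 : sm gg N53822 = N51968 := ded_23_2 (flp_b L707487) (flp_g L707365) L726966
theorem L726970 : sm gh N53822 = N51977 := ded_25_2 (flp_b L707551) (flp_h L707367) L726966
theorem L726972 : sm gi N51956 = N53823 := rfl
theorem L726974 : sm ga N53823 = N52221 := ded_18_1 (flp_i L710233) (flp_a L707371) L726972
theorem L726976 : sm gb N53823 = N51960 := ded_26_1 (flp_i L707417) (flp_b L707373) L726972
theorem L726978 : sm gc N53823 = N52612 := ded_33_1 (flp_i L713260) (flp_c L707375) L726972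
theorem L726980 : sm gd N53823 = N53823 := ded_39_1 (flp_i L726972) L707377 L726972
theorem L726981 : sm ge N53823 = N52691 := ded_44_1 (flp_i L713853) (flp_e L707378) L726972
theorem L726983 : sm gg N53823 = N53823 := ded_51_1 (flp_i L726972) L707382 L726972
theorem L726984 : sm gj N53823 = N51957 := ded_53_1 (flp_i L707383) L707369 L726972
theorem L726986 : sm gh N51957 = N53824 := rfl
theorem L726988 : sm ga N53824 = N52225 := ded_17_1 (flp_h L710288) (flp_a L707385) L726986
theorem L726990 : sm gb N53824 = N51961 := ded_25_1 (flp_h L707427) (flp_b L707387) L726986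
theorem L726992 : sm gc N53824 = N52616 := ded_32_1 (flp_h L713303) (flp_c L707389) L726986
theorem L726994 : sm ge N53824 = N52692 := ded_43_1 (flp_h L713864) (flp_e L707392) L726986
theorem L726996 : sm gg N53824 = N51958 := ded_50_1 (flp_h L707396) (flp_g L707394) L726986
theorem L726998 : sm gi N53824 = N52276 := ded_54_2 (flp_h L710733) (flp_i L689546) (flp_h L685743) L707383 L726986
theorem L727000 : sm gh N51960 = N53825 := rfl
theorem L727002 : sm gc N53825 = N51965 := ded_32_1 (flp_h L707463) (flp_c L707419) L727000
theorem L727004 : sm ge N53825 = N52695 := ded_43_1 (flp_h L713886) (flp_e L707422) L727000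
theorem L727006 : sm gg N53825 = N53825 := ded_50_1 (flp_h L727000) L707424 L727000
theorem L727007 : sm gj N53825 = N51961 := ded_52_1 (flp_h L707427) (flp_j L707425) L727000
theorem L727009 : sm gd N51961 = N53826 := rfl
theorem L727011 : sm gg N53826 = N51962 := ded_36_2 (flp_d L707435) (flp_g L707433) L727009
theorem L727013 : sm gh N53826 = N53826 := ded_38_2 (flp_d L727009) (flp_h L707427) L685789 L707427 L727009
theorem L727014 : sm ge N51962 = N53827 := rfl
theorem L727016 : sm gc N53827 = N52292 := ded_28_1 (flp_e L726297) L726305 L727014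
theorem L727018 : sm gj N53827 = N53827 := ded_42_2 (flp_e L727014) L707439 L727014
theorem L727019 : sm gh N53827 = N53827 := ded_43_2 (flp_e L727014) L707440 L727014
theorem L727020 : sm gd N53827 = N52694 := ded_34_1 L713881 (flp_d L693242) (flp_e L685798) L707435 L727014
theorem L727022 : sm gd N51965 = N53828 := rfl
theorem L727024 : sm gg N53828 = N53828 := ded_36_2 (flp_d L727022) L707467 L727022
theorem L727025 : sm gj N53828 = N51966 := ded_37_2 (flp_d L707470) (flp_j L707468) L727022
theorem L727027 : sm ge N53828 = N52725 := ded_34_2 (flp_d L714105) (flp_e L698212) L698217 (flp_e L707465) L727022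
theorem L727029 : sm gh N53828 = N51978 := ded_38_2 (flp_d L707557) (flp_h L685898) (flp_d L685820) L707463 L727022
theorem L727031 : sm gc N51966 = N53829 := rfl
theorem L727033 : sm ge N53829 = N52280 := ded_28_2 (flp_c L717820) L717822 L727031
theorem L727035 : sm gg N53829 = N51967 := ded_30_2 (flp_c L707476) (flp_g L707472) L727031
theorem L727037 : sm gh N53829 = N51979 := ded_32_2 (flp_c L707565) (flp_h L707474) L727031
theorem L727039 : sm gb N52285 = N53829 := ded_21_3 L727033 L710775 L710808
theorem L727041 : sm ga N51968 = N53830 := rfl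
theorem L727043 : sm gc N53830 = N52174 := ded_11_2 (flp_a L719151) L719153 L727041
theorem L727045 : sm ge N53830 = N52693 := ded_13_2 (flp_a L719110) L719121 L727041
theorem L727047 : sm gf N53830 = N52176 := ded_14_2 L709779 (flp_f L707489) L727041
theorem L727049 : sm gj N53830 = N53830 := ded_16_2 (flp_a L727041) L707491 L727041
theorem L727050 : sm gh N53830 = N51980 := ded_17_2 (flp_a L707575) (flp_h L707492) L727041
theorem L727052 : sm gb N53830 = N52694 := ded_10_2 (flp_a L716779) L716781 L706209 L707487 L727041
theorem L727054 : sm gh N51969 = N53831 := rfl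
theorem L727056 : sm gc N53831 = N53831 := ded_32_1 (flp_h L727054) L707496 L727054
theorem L727057 : sm ge N53831 = N52727 := ded_43_1 L722623 L722615 L727054
theorem L727059 : sm gf N53831 = N53831 := ded_47_1 (flp_h L727054) L707497 L727054
theorem L727060 : sm gg N53831 = N51973 := ded_50_1 (flp_h L707525) (flp_g L707498) L727054
theorem L727062 : sm gj N53831 = N51970 := ded_52_1 (flp_h L707502) (flp_j L707500) L727054
theorem L727064 : sm gi N53831 = N53831 := ded_54_2 (flp_h L727054) (flp_i L707494) L685849 L707494 L727054
theorem L727065 : sm gd N51970 = N53832 := rfl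
theorem L727067 : sm gf N53832 = N53832 := ded_35_2 (flp_d L727065) L707505 L727065
theorem L727068 : sm gg N53832 = N51971 := ded_36_2 (flp_d L707509) (flp_g L707506) L727065
theorem L727070 : sm gi N53832 = N53832 := ded_39_2 (flp_d L727065) L707508 L727065
theorem L727071 : sm gc N51971 = N53833 := rfl
theorem L727073 : sm gf N53833 = N51972 := ded_29_2 (flp_c L707516) (flp_f L707511) L727071
theorem L727075 : sm gj N53833 = N51975 := ded_31_2 (flp_c L707542) (flp_j L707513) L727071
theorem L727077 : sm gi N53833 = N53833 := ded_33_2 (flp_c L727071) L707515 L727071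
theorem L727078 : sm gd N53833 = N53833 := ded_27_2 (flp_c L727071) (flp_d L707509) L685860 L707509 L727071
theorem L727079 : sm ge N51971 = N53834 := rfl
theorem L727081 : sm gj N53834 = N51976 := ded_42_2 (flp_e L707548) (flp_j L707513) L727079
theorem L727083 : sm gi N53834 = N53834 := ded_44_2 (flp_e L727079) L707515 L727079
theorem L727084 : sm gb N51972 = N53835 := rfl
theorem L727086 : sm gd N53835 = N53835 := ded_20_2 (flp_b L727084) L707524 L727084
theorem L727087 : sm ge N53835 = N52770 := ded_21_2 L714474 (flp_e L707518) L727084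
theorem L727089 : sm gg N53835 = N53835 := ded_23_2 (flp_b L727084) L707520 L727084
theorem L727090 : sm gj N53835 = N51977 := ded_24_2 (flp_b L707551) (flp_j L707521) L727084
theorem L727092 : sm gi N53835 = N53835 := ded_26_2 (flp_b L727084) L707523 L727084
theorem L727093 : sm gd N51973 = N53836 := rfl
theorem L727095 : sm gf N53836 = N51978 := ded_35_2 (flp_d L707557) (flp_f L707530) L727093
theorem L727097 : sm gj N53836 = N51974 := ded_37_2 (flp_d L707535) (flp_j L707532) L727093
theorem L727099 : sm gi N53836 = N53836 := ded_39_2 (flp_d L727093) L707534 L727093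
theorem L727100 : sm gc N51974 = N53837 := rfl
theorem L727102 : sm gf N53837 = N51979 := ded_29_2 (flp_c L707565) (flp_f L707537) L727100
theorem L727104 : sm gg N53837 = N51975 := ded_30_2 (flp_c L707542) (flp_g L707539) L727100
theorem L727106 : sm gi N53837 = N53837 := ded_33_2 (flp_c L727100) L707541 L727100
theorem L727107 : sm gd N53837 = N53837 := ded_27_2 (flp_c L727100) (flp_d L707535) L685881 L707535 L727100
theorem L727108 : sm gb N52315 = N53837 := ded_22_3 L727102 (flp_b L707573) L711052
theorem L727110 : sm ge N51974 = N53838 := rfl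
theorem L727112 : sm gg N53838 = N51976 := ded_41_2 (flp_e L707548) (flp_g L707539) L727110
theorem L727114 : sm gi N53838 = N53838 := ded_44_2 (flp_e L727110) L707541 L727110
theorem L727115 : sm gb N51975 = N53839 := rfl
theorem L727117 : sm gd N53839 = N53839 := ded_20_2 (flp_b L727115) L707547 L727115
theorem L727118 : sm gf N53839 = N51977 := ded_22_2 (flp_b L707551) (flp_f L707544) L727115
theorem L727120 : sm gg N53839 = N52315 := ded_23_2 L727108 L727104 L727115
theorem L727122 : sm gi N53839 = N53839 := ded_26_2 (flp_b L727115) L707546 L727115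
theorem L727123 : sm ge N51975 = N53840 := rfl
theorem L727125 : sm gc N53840 = N51976 := ded_28_1 (flp_e L707548) L707542 L727123
theorem L727127 : sm gi N53840 = N53840 := ded_44_2 (flp_e L727123) L707546 L727123
theorem L727128 : sm ga N51977 = N53841 := rfl
theorem L727130 : sm gc N53841 = N52196 := ded_11_2 (flp_a L719246) L719248 L727128
theorem L727132 : sm gd N53841 = N53841 := ded_12_2 (flp_a L727128) L707553 L727128
theorem L727133 : sm ge N53841 = N52765 := ded_13_2 (flp_a L719506) L719512 L727128
theorem L727135 : sm gg N53841 = N51980 := ded_15_2 (flp_a L707575) (flp_g L707554) L727128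
theorem L727137 : sm gi N53841 = N53841 := ded_18_2 (flp_a L727128) L707556 L727128
theorem L727138 : sm gb N53841 = N52760 := ded_10_2 (flp_a L717012) L717014 L706249 L707551 L727128
theorem L727140 : sm gc N51978 = N53842 := rfl
theorem L727142 : sm ge N53842 = N52313 := ded_28_2 L711043 (flp_e L707563) L727140
theorem L727144 : sm gg N53842 = N53842 := ded_30_2 (flp_c L727140) L707559 L727140
theorem L727145 : sm gj N53842 = N51979 := ded_31_2 (flp_c L707565) (flp_j L707560) L727140
theorem L727147 : sm gi N53842 = N53842 := ded_33_2 (flp_c L727140) L707562 L727140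
theorem L727148 : sm gd N53842 = N53842 := ded_27_2 (flp_c L727140) (flp_d L707557) L685900 L707557 L727140
theorem L727149 : sm gb N52314 = N53842 := ded_21_3 L727142 L711037 L711045
theorem L727151 : sm gi N51982 = N53843 := rfl
theorem L727153 : sm gb N53843 = N51989 := ded_26_1 L707709 (flp_b L707607) L727151
theorem L727155 : sm gd N53843 = N51983 := ded_39_1 (flp_i L707617) L707605 L727151
theorem L727157 : sm gf N53843 = N52000 := ded_48_1 L707830 (flp_f L707609) L727151
theorem L727159 : sm gg N53843 = N51988 := ded_51_1 (flp_i L707694) (flp_g L707611) L727151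
theorem L727161 : sm gj N53843 = N51993 := ded_53_1 L707761 (flp_j L707613) L727151
theorem L727163 : sm gd N51984 = N53844 := rfl
theorem L727165 : sm ga N53844 = N52586 := ded_12_1 L713080 (flp_a L707635) L727163
theorem L727167 : sm gb N53844 = N51988 := ded_20_1 L707696 (flp_b L707637) L727163
theorem L727169 : sm gf N53844 = N53844 := ded_35_2 (flp_d L727163) L707643 L727163
theorem L727170 : sm gg N53844 = N51989 := ded_36_2 (flp_d L707701) (flp_g L707644) L727163
theorem L727172 : sm gj N53844 = N51992 := ded_37_2 L707748 (flp_j L707646) L727163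
theorem L727174 : sm gi N53844 = N51986 := ded_39_2 (flp_d L707666) (flp_i L707648) L727163
theorem L727176 : sm gc N53844 = N52544 := ded_27_1 L712769 L692072 (flp_d L685995) (flp_c L707639) L727163
theorem L727178 : sm gi N51987 = N53845 := rfl
theorem L727180 : sm ga N53845 = N52717 := ded_18_1 (flp_i L714059) (flp_a L707683) L727178
theorem L727182 : sm gb N53845 = N52554 := ded_26_1 (flp_i L712841) (flp_b L707685) L727178
theorem L727184 : sm gd N53845 = N52025 := ded_39_1 (flp_i L708150) (flp_d L707692) L727178
theorem L727186 : sm gf N53845 = N53845 := ded_48_1 (flp_i L727178) L707687 L727178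
theorem L727187 : sm gg N53845 = N52559 := ded_51_1 (flp_i L712878) (flp_g L707688) L727178
theorem L727189 : sm gj N53845 = N51994 := ded_53_1 (flp_i L707763) (flp_j L707690) L727178
theorem L727191 : sm gh N51988 = N53846 := rfl
theorem L727193 : sm gf N53846 = N53846 := ded_47_1 (flp_h L727191) L707698 L727191
theorem L727194 : sm gj N53846 = N51995 := ded_52_1 (flp_h L707770) (flp_j L707699) L727191
theorem L727196 : sm ge N51989 = N53847 := rfl
theorem L727198 : sm ga N53847 = N52593 := ded_13_1 L713131 (flp_a L707703) L727196
theorem L727200 : sm gc N53847 = N52550 := ded_28_1 L712811 (flp_c L707711) L727196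
theorem L727202 : sm gj N53847 = N51997 := ded_42_2 (flp_e L707786) (flp_j L707707) L727196
theorem L727204 : sm gi N53847 = N52026 := ded_44_2 (flp_e L708164) (flp_i L707709) L727196
theorem L727206 : sm gh N51992 = N53848 := rfl
theorem L727208 : sm gb N53848 = N51995 := ded_25_1 (flp_h L707770) (flp_b L707746) L727206
theorem L727210 : sm gf N53848 = N53848 := ded_47_1 (flp_h L727206) L707750 L727206
theorem L727211 : sm gg N53848 = N52642 := ded_50_1 L713518 (flp_g L707751) L727206
theorem L727213 : sm gd N53848 = N52632 := ded_38_1 (flp_h L713429) L692804 (flp_h L686122) (flp_d L707748) L727206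
theorem L727215 : sm ge N51993 = N53849 := rfl
theorem L727217 : sm gb N53849 = N51997 := ded_21_1 (flp_e L707786) (flp_b L707755) L727215
theorem L727219 : sm gg N53849 = N52639 := ded_41_2 L713488 (flp_g L707759) L727215
theorem L727221 : sm gi N53849 = N52027 := ded_44_2 (flp_e L708174) (flp_i L707761) L727215
theorem L727223 : sm gd N53849 = N52631 := ded_34_1 L713425 L692804 (flp_e L686130) L707753 L727215
theorem L727225 : sm gh N51994 = N53850 := rfl
theorem L727227 : sm gf N53850 = N53850 := ded_47_1 (flp_h L727225) L707767 L727225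
theorem L727228 : sm gg N53850 = N52697 := ded_50_1 (flp_h L713899) (flp_g L707768) L727225
theorem L727230 : sm gi N53850 = N51995 := ded_54_2 (flp_h L707770) (flp_i L686145) L686138 L707763 L727225
theorem L727232 : sm gd N51995 = N53851 := rfl
theorem L727234 : sm ga N53851 = N52719 := ded_12_1 (flp_d L725627) L725622 L727232
theorem L727236 : sm gb N53851 = N52632 := ded_20_1 (flp_d L727213) L727208 L727232
theorem L727238 : sm gf N53851 = N53851 := ded_35_2 (flp_d L727232) L707772 L727232
theorem L727239 : sm gg N53851 = N52638 := ded_36_2 L713480 (flp_g L707773) L727232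
theorem L727241 : sm gh N53851 = N51996 := ded_38_2 (flp_d L707775) (flp_h L686152) (flp_d L686147) L707770 L727232
theorem L727243 : sm gc N51996 = N53852 := rfl
theorem L727245 : sm ga N53852 = N52712 := ded_11_1 L714030 (flp_a L707777) L727243
theorem L727247 : sm gf N53852 = N53852 := ded_29_2 (flp_c L727243) L707781 L727243
theorem L727248 : sm gg N53852 = N52241 := ded_30_2 L710440 (flp_g L707782) L727243
theorem L727250 : sm gi N53852 = N52030 := ded_33_2 (flp_c L708209) (flp_i L707784) L727243
theorem L727252 : sm gb N53852 = N52236 := ded_19_1 L710401 L689327 (flp_c L692802) (flp_b L707779) L727243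
theorem L727254 : sm gd N53852 = N51998 := ded_27_2 (flp_c L707796) (flp_d L686179) (flp_c L686158) L707775 L727243
theorem L727256 : sm ge N51996 = N53853 := rfl
theorem L727258 : sm ga N53853 = N52604 := ded_13_1 L713210 (flp_a L707777) L727256
theorem L727260 : sm gb N53853 = N52631 := ded_21_1 L713425 (flp_b L707779) L727256
theorem L727262 : sm gg N53853 = N52637 := ded_41_2 L713468 (flp_g L707782) L727256
theorem L727264 : sm gi N53853 = N52031 := ded_44_2 (flp_e L708220) (flp_i L707784) L727256
theorem L727266 : sm gd N53853 = N51997 := ded_34_1 (flp_e L707786) (flp_d L686167) (flp_e L686160) L707775 L727256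
theorem L727268 : sm gf N51997 = N53854 := rfl
theorem L727270 : sm ga N53854 = N52606 := ded_14_1 L713226 (flp_a L707788) L727268
theorem L727272 : sm gc N53854 = N52102 := ded_29_1 L709016 (flp_c L707790) L727268
theorem L727274 : sm gi N53854 = N52032 := ded_48_2 (flp_f L708230) (flp_i L707794) L727268
theorem L727276 : sm ge N53854 = N52002 := ded_40_1 (flp_f L707844) (flp_e L686248) (flp_f L686171) L707786 L727268
theorem L727278 : sm gh N52005 = N53855 := rfl
theorem L727280 : sm ga N53855 = N52016 := ded_17_1 (flp_h L708026) (flp_a L707885) L727278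
theorem L727282 : sm gb N53855 = N52301 := ded_25_1 (flp_h L710954) (flp_b L707887) L727278
theorem L727284 : sm gc N53855 = N52006 := ded_32_1 (flp_h L707898) (flp_c L707889) L727278
theorem L727286 : sm ge N53855 = N52298 := ded_43_1 (flp_h L710930) (flp_e L707891) L727278
theorem L727288 : sm gf N53855 = N53855 := ded_47_1 (flp_h L727278) L707893 L727278
theorem L727289 : sm gg N53855 = N52700 := ded_50_1 (flp_h L713921) (flp_g L707894) L727278
theorem L727291 : sm gj N53855 = N52306 := ded_52_1 (flp_h L710993) (flp_j L707896) L727278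
theorem L727293 : sm gi N53855 = N53855 := ded_54_2 (flp_h L727278) (flp_i L707883) L686431 L707883 L727278
theorem L727294 : sm gi N52008 = N53856 := rfl
theorem L727296 : sm ga N53856 = N52187 := ded_18_1 (flp_i L709904) (flp_a L707940) L727294
theorem L727298 : sm gb N53856 = N52009 := ded_26_1 (flp_i L707943) L707930 L727294
theorem L727300 : sm gc N53856 = N53856 := ded_33_1 (flp_i L727294) L707942 L727294
theorem L727301 : sm ge N53856 = N52185 := ded_44_1 (flp_i L709886) (flp_e L707932) L727294
theorem L727303 : sm gf N53856 = N53856 := ded_48_1 (flp_i L727294) L707934 L727294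
theorem L727304 : sm gg N53856 = N52738 := ded_51_1 L714227 (flp_g L707935) L727294
theorem L727306 : sm gj N53856 = N52013 := ded_53_1 (flp_i L707992) (flp_j L707937) L727294
theorem L727308 : sm gh N52009 = N53857 := rfl
theorem L727310 : sm ga N53857 = N52306 := ded_17_1 (flp_h L710993) (flp_a L707945) L727308
theorem L727312 : sm gc N53857 = N52010 := ded_32_1 (flp_h L707954) (flp_c L707947) L727308
theorem L727314 : sm ge N53857 = N52303 := ded_43_1 (flp_h L710971) (flp_e L707949) L727308
theorem L727316 : sm gf N53857 = N53857 := ded_47_1 (flp_h L727308) L707951 L727308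
theorem L727317 : sm gj N53857 = N52016 := ded_52_1 (flp_h L708026) (flp_j L707952) L727308
theorem L727319 : sm gi N53857 = N53857 := ded_54_2 (flp_h L727308) (flp_i L707943) L686519 L707943 L727308
theorem L727320 : sm gi N52011 = N53858 := rfl
theorem L727322 : sm ga N53858 = N52013 := ded_18_1 (flp_i L707992) L707965 L727320
theorem L727324 : sm gb N53858 = N52182 := ded_26_1 (flp_i L709847) (flp_b L707974) L727320
theorem L727326 : sm gc N53858 = N53858 := ded_33_1 (flp_i L727320) L707967 L727320
theorem L727327 : sm ge N53858 = N52180 := ded_44_1 (flp_i L709827) L707976 L727320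
theorem L727329 : sm gf N53858 = N53858 := ded_48_1 (flp_i L727320) L707968 L727320
theorem L727330 : sm gg N53858 = N52707 := ded_51_1 (flp_i L713990) (flp_g L707969) L727320
theorem L727332 : sm gj N53858 = N52187 := ded_53_1 (flp_i L709904) (flp_j L707971) L727320
theorem L727334 : sm gi N52012 = N53859 := rfl
theorem L727336 : sm ga N53859 = N52180 := ded_18_1 (flp_i L709827) (flp_a L707980) L727334
theorem L727338 : sm gb N53859 = N52015 := ded_26_1 (flp_i L708012) (flp_b L707982) L727334
theorem L727340 : sm gc N53859 = N53859 := ded_33_1 (flp_i L727334) L707984 L727334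
theorem L727341 : sm ge N53859 = N52013 := ded_44_1 (flp_i L707992) L707978 L727334
theorem L727343 : sm gf N53859 = N52192 := ded_48_1 (flp_i L709956) L707990 L727334
theorem L727345 : sm gg N53859 = N52709 := ded_51_1 (flp_i L714006) (flp_g L707985) L727334
theorem L727347 : sm gj N53859 = N52185 := ded_53_1 (flp_i L709886) (flp_j L707987) L727334
theorem L727349 : sm gh N52013 = N53860 := rfl
theorem L727351 : sm gb N53860 = N52016 := ded_25_1 (flp_h L708026) (flp_b L707994) L727349
theorem L727353 : sm gc N53860 = N53860 := ded_32_1 (flp_h L727349) L707996 L727349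
theorem L727354 : sm gf N53860 = N53860 := ded_47_1 (flp_h L727349) L707997 L727349
theorem L727355 : sm gg N53860 = N52710 := ded_50_1 (flp_h L714014) (flp_g L707998) L727349
theorem L727357 : sm gi N53860 = N53860 := ded_54_2 (flp_h L727349) (flp_i L707992) L686537 L707992 L727349
theorem L727358 : sm gi N52014 = N53861 := rfl
theorem L727360 : sm ga N53861 = N52241 := ded_18_1 (flp_i L710436) (flp_a L708002) L727358
theorem L727362 : sm gc N53861 = N52023 := ded_33_1 (flp_i L708123) (flp_c L708010) L727358
theorem L727364 : sm gd N53861 = N52015 := ded_39_1 (flp_i L708012) L708000 L727358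
theorem L727366 : sm gf N53861 = N52266 := ded_48_1 (flp_i L710627) (flp_f L708004) L727358
theorem L727368 : sm gg N53861 = N52712 := ded_51_1 (flp_i L714028) (flp_g L708006) L727358
theorem L727370 : sm gj N53861 = N52249 := ded_53_1 (flp_i L710506) (flp_j L708008) L727358
theorem L727372 : sm gh N52015 = N53862 := rfl
theorem L727374 : sm ga N53862 = N52298 := ded_17_1 (flp_h L710930) (flp_a L708014) L727372
theorem L727376 : sm gc N53862 = N52017 := ded_32_1 (flp_h L708034) (flp_c L708016) L727372
theorem L727378 : sm ge N53862 = N52016 := ded_43_1 (flp_h L708026) (flp_e L708018) L727372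
theorem L727380 : sm gf N53862 = N52312 := ded_47_1 (flp_h L711024) (flp_f L708020) L727372
theorem L727382 : sm gg N53862 = N52713 := ded_50_1 (flp_h L714035) (flp_g L708022) L727372
theorem L727384 : sm gj N53862 = N52303 := ded_52_1 (flp_h L710971) (flp_j L708024) L727372
theorem L727386 : sm gi N53862 = N53862 := ded_54_2 (flp_h L727372) (flp_i L708012) L686549 L708012 L727372
theorem L727387 : sm gd N52016 = N53863 := rfl
theorem L727389 : sm gf N53863 = N53863 := ded_35_2 (flp_d L727387) L708030 L727387
theorem L727390 : sm gg N53863 = N52714 := ded_36_2 (flp_d L714043) (flp_g L708031) L727387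
theorem L727392 : sm gi N53863 = N53863 := ded_39_2 (flp_d L727387) L708033 L727387
theorem L727393 : sm gi N52020 = N53864 := rfl
theorem L727395 : sm ga N53864 = N52559 := ded_18_1 (flp_i L712878) (flp_a L708084) L727393
theorem L727397 : sm gb N53864 = N52023 := ded_26_1 (flp_i L708123) (flp_b L708086) L727393
theorem L727399 : sm gd N53864 = N52021 := ded_39_1 (flp_i L708094) L708082 L727393
theorem L727401 : sm gf N53864 = N52572 := ded_48_1 (flp_i L712976) (flp_f L708088) L727393
theorem L727403 : sm gg N53864 = N52717 := ded_51_1 (flp_i L714059) (flp_g L708090) L727393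
theorem L727405 : sm gj N53864 = N52564 := ded_53_1 (flp_i L712922) (flp_j L708092) L727393
theorem L727407 : sm gi N52022 = N53865 := rfl
theorem L727409 : sm ga N53865 = N52591 := ded_18_1 (flp_i L713111) (flp_a L708113) L727407
theorem L727411 : sm gd N53865 = N52024 := ded_39_1 (flp_i L708135) (flp_d L708121) L727407
theorem L727413 : sm gf N53865 = N52612 := ded_48_1 (flp_i L713260) (flp_f L708115) L727407
theorem L727415 : sm gg N53865 = N52718 := ded_51_1 (flp_i L714066) (flp_g L708117) L727407
theorem L727417 : sm gj N53865 = N52597 := ded_53_1 (flp_i L713159) (flp_j L708119) L727407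
theorem L727419 : sm gh N52023 = N53866 := rfl
theorem L727421 : sm ga N53866 = N52638 := ded_17_1 (flp_h L713472) (flp_a L708125) L727419
theorem L727423 : sm gf N53866 = N52672 := ded_47_1 (flp_h L713705) (flp_f L708129) L727419
theorem L727425 : sm gg N53866 = N52719 := ded_50_1 (flp_h L714071) (flp_g L708131) L727419
theorem L727427 : sm gj N53866 = N52649 := ded_52_1 (flp_h L713556) (flp_j L708133) L727419
theorem L727429 : sm gd N53866 = N52577 := ded_38_1 (flp_h L713018) L692419 (flp_h L686673) (flp_d L708127) L727419
theorem L727431 : sm gd N52028 = N53867 := rfl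
theorem L727433 : sm ga N53867 = N52718 := ded_12_1 L714068 (flp_a L708186) L727431
theorem L727435 : sm gb N53867 = N52586 := ded_20_1 L713080 (flp_b L708188) L727431
theorem L727437 : sm gf N53867 = N53867 := ded_35_2 (flp_d L727431) L708193 L727431
theorem L727438 : sm gg N53867 = N52591 := ded_36_2 L713115 (flp_g L708194) L727431
theorem L727440 : sm gi N53867 = N52029 := ded_39_2 (flp_d L708198) (flp_i L708196) L727431
theorem L727442 : sm gc N52029 = N53868 := rfl
theorem L727444 : sm ga N53868 = N52711 := ded_11_1 L714024 (flp_a L708200) L727442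
theorem L727446 : sm gf N53868 = N53868 := ded_29_2 (flp_c L727442) L708204 L727442
theorem L727447 : sm gg N53868 = N52207 := ded_30_2 L710114 (flp_g L708205) L727442
theorem L727449 : sm gh N53868 = N52030 := ded_32_2 (flp_c L708209) (flp_h L708207) L727442
theorem L727451 : sm gb N53868 = N52204 := ded_19_1 (flp_c L710078) L689023 L692465 (flp_b L708202) L727442
theorem L727453 : sm gd N53868 = N53868 := ded_27_2 (flp_c L727442) (flp_d L708198) L686779 L708198 L727442
theorem L727454 : sm ge N52029 = N53869 := rfl
theorem L727456 : sm ga N53869 = N52603 := ded_13_1 L713202 (flp_a L708200) L727454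
theorem L727458 : sm gb N53869 = N52585 := ded_21_1 (flp_e L713068) (flp_b L708202) L727454
theorem L727460 : sm gg N53869 = N52590 := ded_41_2 (flp_e L713103) (flp_g L708205) L727454
theorem L727462 : sm gh N53869 = N52031 := ded_43_2 (flp_e L708220) (flp_h L708207) L727454
theorem L727464 : sm gd N53869 = N52568 := ded_34_1 L712954 L692413 (flp_e L686780) L708198 L727454
theorem L727466 : sm ge N52030 = N53870 := rfl
theorem L727468 : sm ga N53870 = N52581 := ded_13_1 L713050 (flp_a L708211) L727466
theorem L727470 : sm gb N53870 = N52235 := ded_21_1 (flp_e L710393) (flp_b L708216) L727466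
theorem L727472 : sm gc N53870 = N52031 := ded_28_1 (flp_e L708220) L708209 L727466
theorem L727474 : sm gg N53870 = N52240 := ded_41_2 (flp_e L710428) (flp_g L708214) L727466
theorem L727476 : sm gd N53870 = N52546 := ded_34_1 (flp_e L712777) L692128 (flp_e L686808) (flp_d L708218) L727466
theorem L727478 : sm gf N52031 = N53871 := rfl
theorem L727480 : sm ga N53871 = N52602 := ded_14_1 (flp_f L713195) (flp_a L708222) L727478
theorem L727482 : sm gb N53871 = N52630 := ded_22_1 (flp_f L713416) (flp_b L708224) L727478
theorem L727484 : sm gd N53871 = N52032 := ded_35_1 (flp_f L708230) (flp_d L708228) L727478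
theorem L727486 : sm ge N53871 = N53871 := ded_40_1 (flp_f L727478) (flp_e L708220) L686791 L708220 L727478
theorem L727487 : sm gh N52038 = N53872 := rfl
theorem L727489 : sm gb N53872 = N52041 := ded_25_1 (flp_h L708350) (flp_b L708314) L727487
theorem L727491 : sm gc N53872 = N52336 := ded_32_1 (flp_h L711226) (flp_c L708316) L727487
theorem L727493 : sm ge N53872 = N52039 := ded_43_1 (flp_h L708325) (flp_e L708319) L727487
theorem L727495 : sm gg N53872 = N52329 := ded_50_1 (flp_h L711183) (flp_g L708321) L727487
theorem L727497 : sm gj N53872 = N52088 := ded_52_1 (flp_h L708868) (flp_j L708323) L727487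
theorem L727499 : sm gi N53872 = N52333 := ded_54_2 (flp_h L711208) (flp_i L690184) (flp_h L686976) L708312 L727487
theorem L727501 : sm gh N52040 = N53873 := rfl
theorem L727503 : sm ga N53873 = N52332 := ded_17_1 (flp_h L711204) (flp_a L708339) L727501
theorem L727505 : sm gc N53873 = N52042 := ded_32_1 (flp_h L708362) (flp_c L708341) L727501
theorem L727507 : sm ge N53873 = N52326 := ded_43_1 (flp_h L711160) (flp_e L708344) L727501
theorem L727509 : sm gf N53873 = N52041 := ded_47_1 (flp_h L708350) (flp_f L708346) L727501
theorem L727511 : sm gj N53873 = N52090 := ded_52_1 (flp_h L708883) (flp_j L708348) L727501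
theorem L727513 : sm gi N53873 = N52331 := ded_54_2 (flp_h L711198) (flp_i L690167) (flp_h L687000) L708337 L727501
theorem L727515 : sm gd N52041 = N53874 := rfl
theorem L727517 : sm gg N53874 = N52330 := ded_36_2 (flp_d L711191) (flp_g L708356) L727515
theorem L727519 : sm gj N53874 = N52091 := ded_37_2 (flp_d L708889) (flp_j L708358) L727515
theorem L727521 : sm gi N53874 = N52334 := ded_39_2 (flp_d L711214) (flp_i L708360) L727515
theorem L727523 : sm gh N53874 = N53874 := ded_38_2 (flp_d L727515) (flp_h L708350) L687008 L708350 L727515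
theorem L727524 : sm gi N52043 = N53875 := rfl
theorem L727526 : sm ga N53875 = N52066 := ded_18_1 (flp_i L708646) (flp_a L708374) L727524
theorem L727528 : sm gb N53875 = N52366 := ded_26_1 (flp_i L711501) (flp_b L708376) L727524
theorem L727530 : sm gd N53875 = N52153 := ded_39_1 (flp_i L709563) (flp_d L708382) L727524
theorem L727532 : sm ge N53875 = N52044 := ded_44_1 (flp_i L708386) L708372 L727524
theorem L727534 : sm gf N53875 = N52396 := ded_48_1 (flp_i L711705) (flp_f L708384) L727524
theorem L727536 : sm gj N53875 = N52054 := ded_53_1 (flp_i L708518) (flp_j L708378) L727524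
theorem L727538 : sm gh N52044 = N53876 := rfl
theorem L727540 : sm ga N53876 = N52067 := ded_17_1 (flp_h L708658) (flp_a L708388) L727538
theorem L727542 : sm gb N53876 = N52367 := ded_25_1 (flp_h L711505) (flp_b L708390) L727538
theorem L727544 : sm gf N53876 = N52045 := ded_47_1 (flp_h L708398) (flp_f L708394) L727538
theorem L727546 : sm gj N53876 = N52055 := ded_52_1 (flp_h L708526) (flp_j L708396) L727538
theorem L727548 : sm gd N53876 = N52059 := ded_38_1 (flp_h L708574) L687333 (flp_h L687069) (flp_d L708392) L727538
theorem L727550 : sm gi N53876 = N52048 := ded_54_2 (flp_h L708440) (flp_i L687119) (flp_h L687053) L708386 L727538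
theorem L727552 : sm gh N52047 = N53877 := rfl
theorem L727554 : sm ga N53877 = N52450 := ded_17_1 (flp_h L712081) (flp_a L708430) L727552
theorem L727556 : sm gb N53877 = N52378 := ded_25_1 (flp_h L711584) (flp_b L708432) L727552
theorem L727558 : sm ge N53877 = N52048 := ded_43_1 (flp_h L708440) (flp_e L708436) L727552
theorem L727560 : sm gf N53877 = N52407 := ded_47_1 (flp_h L711792) (flp_f L708438) L727552
theorem L727562 : sm gi N52050 = N53878 := rfl
theorem L727564 : sm ga N53878 = N52377 := ded_18_1 (flp_i L711574) (flp_a L708464) L727562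
theorem L727566 : sm gb N53878 = N52054 := ded_26_1 (flp_i L708518) (flp_b L708466) L727562
theorem L727568 : sm gd N53878 = N52135 := ded_39_1 (flp_i L709380) (flp_d L708472) L727562
theorem L727570 : sm ge N53878 = N52051 := ded_44_1 (flp_i L708476) L708462 L727562
theorem L727572 : sm gf N53878 = N52353 := ded_48_1 (flp_i L711387) (flp_f L708474) L727562
theorem L727574 : sm gj N53878 = N52366 := ded_53_1 (flp_i L711501) (flp_j L708468) L727562
theorem L727576 : sm gh N52051 = N53879 := rfl
theorem L727578 : sm ga N53879 = N52382 := ded_17_1 (flp_h L711611) (flp_a L708478) L727576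
theorem L727580 : sm gb N53879 = N52055 := ded_25_1 (flp_h L708526) (flp_b L708480) L727576
theorem L727582 : sm gf N53879 = N52052 := ded_47_1 (flp_h L708488) (flp_f L708484) L727576
theorem L727584 : sm gj N53879 = N52367 := ded_52_1 (flp_h L711505) (flp_j L708486) L727576
theorem L727586 : sm gd N53879 = N52087 := ded_38_1 (flp_h L708858) L687588 (flp_h L687184) (flp_d L708482) L727576
theorem L727588 : sm gi N53879 = N52372 := ded_54_2 (flp_h L711542) (flp_i L690599) (flp_h L687169) L708476 L727576
theorem L727590 : sm gi N52053 = N53880 := rfl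
theorem L727592 : sm ga N53880 = N52075 := ded_18_1 (flp_i L708734) (flp_a L708506) L727590
theorem L727594 : sm gb N53880 = N52353 := ded_26_1 (flp_i L711387) (flp_b L708508) L727590
theorem L727596 : sm gd N53880 = N52161 := ded_39_1 (flp_i L709631) (flp_d L708510) L727590
theorem L727598 : sm ge N53880 = N52056 := ded_44_1 (flp_i L708534) (flp_e L708516) L727590
theorem L727600 : sm gf N53880 = N52054 := ded_48_1 (flp_i L708518) L708504 L727590
theorem L727602 : sm gj N53880 = N52396 := ded_53_1 (flp_i L711705) (flp_j L708512) L727590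
theorem L727604 : sm gh N52054 = N53881 := rfl
theorem L727606 : sm ga N53881 = N52076 := ded_17_1 (flp_h L708746) (flp_a L708520) L727604
theorem L727608 : sm ge N53881 = N52055 := ded_43_1 (flp_h L708526) (flp_e L708524) L727604
theorem L727610 : sm gh N52056 = N53882 := rfl
theorem L727612 : sm ga N53882 = N52087 := ded_17_1 (flp_h L708858) (flp_a L708536) L727610
theorem L727614 : sm gb N53882 = N52354 := ded_25_1 (flp_h L711395) (flp_b L708538) L727610
theorem L727616 : sm gf N53882 = N52057 := ded_47_1 (flp_h L708546) (flp_f L708542) L727610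
theorem L727618 : sm gj N53882 = N52397 := ded_52_1 (flp_h L711711) (flp_j L708544) L727610
theorem L727620 : sm gd N53882 = N52382 := ded_38_1 (flp_h L711611) L690669 (flp_h L687281) (flp_d L708540) L727610
theorem L727622 : sm gi N53882 = N52404 := ded_54_2 (flp_h L711768) (flp_i L690846) (flp_h L687234) L708534 L727610
theorem L727624 : sm gh N52058 = N53883 := rfl
theorem L727626 : sm gb N53883 = N52420 := ded_25_1 (flp_h L711882) (flp_b L708564) L727624
theorem L727628 : sm ge N53883 = N52059 := ded_43_1 (flp_h L708574) (flp_e L708568) L727624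
theorem L727630 : sm gf N53883 = N52435 := ded_47_1 (flp_h L711985) (flp_f L708570) L727624
theorem L727632 : sm gj N53883 = N52450 := ded_52_1 (flp_h L712081) (flp_j L708572) L727624
theorem L727634 : sm gi N53883 = N52076 := ded_54_2 (flp_h L708746) (flp_i L687473) (flp_h L687323) L708562 L727624
theorem L727636 : sm gh N52060 = N53884 := rfl
theorem L727638 : sm gb N53884 = N52085 := ded_25_1 L708846 (flp_b L708586) L727636
theorem L727640 : sm gf N53884 = N52430 := ded_47_1 (flp_h L711949) (flp_f L708590) L727636
theorem L727642 : sm gg N53884 = N52061 := ded_50_1 (flp_h L708594) (flp_g L708592) L727636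
theorem L727644 : sm gd N53884 = N52081 := ded_38_1 (flp_h L708802) L687544 L687748 (flp_d L708588) L727636
theorem L727646 : sm gi N53884 = N52093 := ded_54_2 (flp_h L708902) (flp_i L687653) (flp_h L687357) L708584 L727636
theorem L727648 : sm gi N52062 = N53885 := rfl
theorem L727650 : sm gb N53885 = N52429 := ded_26_1 (flp_i L711941) (flp_b L708608) L727648
theorem L727652 : sm gd N53885 = N52238 := ded_39_1 (flp_i L710413) (flp_d L708614) L727648
theorem L727654 : sm ge N53885 = N52063 := ded_44_1 (flp_i L708616) L708606 L727648
theorem L727656 : sm gg N53885 = N52066 := ded_51_1 (flp_i L708646) (flp_g L708610) L727648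
theorem L727658 : sm gh N52063 = N53886 := rfl
theorem L727660 : sm gb N53886 = N52430 := ded_25_1 (flp_h L711949) (flp_b L708618) L727658
theorem L727662 : sm gf N53886 = N52085 := ded_47_1 L708846 (flp_f L708622) L727658
theorem L727664 : sm gg N53886 = N52067 := ded_50_1 (flp_h L708658) (flp_g L708624) L727658
theorem L727666 : sm gd N53886 = N52073 := ded_38_1 (flp_h L708718) L687457 (flp_h L687405) (flp_d L708620) L727658
theorem L727668 : sm gi N53886 = N52463 := ded_54_2 (flp_h L712171) (flp_i L691251) (flp_h L687391) L708616 L727658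
theorem L727670 : sm gi N52064 = N53887 := rfl
theorem L727672 : sm gc N53887 = N52066 := ded_33_1 (flp_i L708646) (flp_c L708628) L727670
theorem L727674 : sm ge N53887 = N52065 := ded_44_1 (flp_i L708636) L708626 L727670
theorem L727676 : sm gf N53887 = N52418 := ded_48_1 (flp_i L711868) (flp_f L708634) L727670
theorem L727678 : sm gj N53887 = N52072 := ded_53_1 (flp_i L708712) (flp_j L708630) L727670
theorem L727680 : sm gh N52065 = N53888 := rfl
theorem L727682 : sm gc N53888 = N52067 := ded_32_1 (flp_h L708658) (flp_c L708638) L727680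
theorem L727684 : sm gf N53888 = N52078 := ded_47_1 (flp_h L708766) (flp_f L708642) L727680
theorem L727686 : sm gj N53888 = N52073 := ded_52_1 (flp_h L708718) (flp_j L708644) L727680
theorem L727688 : sm gi N53888 = N52459 := ded_54_2 (flp_h L712143) (flp_i L691223) (flp_h L687413) L708636 L727680
theorem L727690 : sm gh N52066 = N53889 := rfl
theorem L727692 : sm gb N53889 = N52435 := ded_25_1 (flp_h L711985) (flp_b L708648) L727690
theorem L727694 : sm ge N53889 = N52067 := ded_43_1 (flp_h L708658) (flp_e L708652) L727690
theorem L727696 : sm gf N53889 = N52420 := ded_47_1 (flp_h L711882) (flp_f L708654) L727690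
theorem L727698 : sm gj N53889 = N52076 := ded_52_1 (flp_h L708746) (flp_j L708656) L727690
theorem L727700 : sm gi N53889 = N52450 := ded_54_2 (flp_h L712081) (flp_i L691159) (flp_h L687423) L708646 L727690
theorem L727702 : sm gf N52068 = N53890 := rfl
theorem L727704 : sm gb N53890 = N52071 := ded_22_1 (flp_f L708702) (flp_b L708670) L727702
theorem L727706 : sm gc N53890 = N52439 := ded_29_1 (flp_f L712009) (flp_c L708672) L727702
theorem L727708 : sm gd N53890 = N52509 := ded_35_1 (flp_f L712502) (flp_d L708676) L727702
theorem L727710 : sm gj N53890 = N52415 := ded_46_2 (flp_f L721353) L721347 L727702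
theorem L727712 : sm gh N53890 = N52431 := ded_47_2 (flp_f L715426) L715422 L727702
theorem L727714 : sm ge N53890 = N52079 := ded_40_1 (flp_f L708778) (flp_e L687525) (flp_f L687443) L708668 L727702
theorem L727716 : sm gi N52068 = N53891 := rfl
theorem L727718 : sm gb N53891 = N52072 := ded_26_1 (flp_i L708712) (flp_b L708670) L727716
theorem L727720 : sm gc N53891 = N52440 := ded_33_1 (flp_i L712015) (flp_c L708672) L727716
theorem L727722 : sm gd N53891 = N52510 := ded_39_1 (flp_i L712505) (flp_d L708676) L727716
theorem L727724 : sm ge N53891 = N52069 := ded_44_1 (flp_i L708678) L708668 L727716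
theorem L727726 : sm gg N53891 = N52371 := ded_51_1 (flp_i L711534) (flp_g L708674) L727716
theorem L727728 : sm gh N52069 = N53892 := rfl
theorem L727730 : sm gb N53892 = N52073 := ded_25_1 (flp_h L708718) (flp_b L708680) L727728
theorem L727732 : sm gc N53892 = N52441 := ded_32_1 (flp_h L712021) (flp_c L708682) L727728
theorem L727734 : sm gf N53892 = N52081 := ded_47_1 (flp_h L708802) (flp_f L708686) L727728
theorem L727736 : sm gg N53892 = N52372 := ded_50_1 (flp_h L711542) (flp_g L708688) L727728
theorem L727738 : sm gd N53892 = N52430 := ded_38_1 (flp_h L711949) L691069 (flp_h L687711) (flp_d L708684) L727728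
theorem L727740 : sm gf N52070 = N53893 := rfl
theorem L727742 : sm ga N53893 = N52633 := ded_14_1 L713439 (flp_a L708692) L727740
theorem L727744 : sm gb N53893 = N52509 := ded_22_1 (flp_f L712502) (flp_b L708694) L727740
theorem L727746 : sm gc N53893 = N52254 := ded_29_1 (flp_f L710546) (flp_c L708698) L727740
theorem L727748 : sm gd N53893 = N52071 := ded_35_1 (flp_f L708702) L708690 L727740
theorem L727750 : sm gj N53893 = N52417 := ded_46_2 L716422 L716418 L727740
theorem L727752 : sm ge N53893 = N53893 := ded_40_1 (flp_f L727740) L708700 L687719 (flp_e L708700) L727740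
theorem L727753 : sm gg N53893 = N52555 := ded_45_2 (flp_f L712852) L692198 (flp_f L687979) (flp_g L708696) L727740
theorem L727755 : sm gi N52070 = N53894 := rfl
theorem L727757 : sm ga N53894 = N52644 := ded_18_1 (flp_i L713526) (flp_a L708692) L727755
theorem L727759 : sm gb N53894 = N52510 := ded_26_1 (flp_i L712505) (flp_b L708694) L727755
theorem L727761 : sm gc N53894 = N52256 := ded_33_1 (flp_i L710555) (flp_c L708698) L727755
theorem L727763 : sm gd N53894 = N52072 := ded_39_1 (flp_i L708712) L708690 L727755
theorem L727765 : sm ge N53894 = N52094 := ded_44_1 (flp_i L708908) (flp_e L708700) L727755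
theorem L727767 : sm gg N53894 = N52105 := ded_51_1 (flp_i L709045) (flp_g L708696) L727755
theorem L727769 : sm gg N52071 = N53895 := rfl
theorem L727771 : sm ga N53895 = N52428 := ded_15_1 (flp_g L715633) L715619 L727769
theorem L727773 : sm gc N53895 = N52074 := ded_30_1 (flp_g L708724) (flp_c L708704) L727769
theorem L727775 : sm gd N53895 = N52555 := ded_36_1 (flp_g L727753) L727748 L727769
theorem L727777 : sm ge N53895 = N52082 := ded_41_1 (flp_g L708810) (flp_e L708710) L727769
theorem L727779 : sm gh N53895 = N52426 := ded_50_2 L711927 (flp_h L708708) L727769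
theorem L727781 : sm gf N53895 = N52401 := ded_45_1 L711746 (flp_f L696303) L696295 L708702 L727769
theorem L727783 : sm gi N52071 = N53896 := rfl
theorem L727785 : sm gc N53896 = N52075 := ded_33_1 (flp_i L708734) (flp_c L708704) L727783
theorem L727787 : sm ge N53896 = N52083 := ded_44_1 (flp_i L708819) (flp_e L708710) L727783
theorem L727789 : sm gf N53896 = N52072 := ded_48_1 (flp_i L708712) L708702 L727783
theorem L727791 : sm gj N53896 = N52418 := ded_53_1 (flp_i L711868) (flp_j L708706) L727783
theorem L727793 : sm gh N52072 = N53897 := rfl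
theorem L727795 : sm gc N53897 = N52076 := ded_32_1 (flp_h L708746) (flp_c L708714) L727793
theorem L727797 : sm ge N53897 = N52073 := ded_43_1 (flp_h L708718) (flp_e L708716) L727793
theorem L727799 : sm gi N52074 = N53898 := rfl
theorem L727801 : sm gb N53898 = N52449 := ded_26_1 (flp_i L712073) (flp_b L708726) L727799
theorem L727803 : sm gd N53898 = N52262 := ded_39_1 (flp_i L710593) (flp_d L708728) L727799
theorem L727805 : sm ge N53898 = N52086 := ded_44_1 (flp_i L708848) (flp_e L708730) L727799
theorem L727807 : sm gg N53898 = N52075 := ded_51_1 (flp_i L708734) L708724 L727799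
theorem L727809 : sm gh N52075 = N53899 := rfl
theorem L727811 : sm gb N53899 = N52450 := ded_25_1 (flp_h L712081) (flp_b L708736) L727809
theorem L727813 : sm ge N53899 = N52087 := ded_43_1 (flp_h L708858) (flp_e L708740) L727809
theorem L727815 : sm gf N53899 = N52076 := ded_47_1 (flp_h L708746) (flp_f L708742) L727809
theorem L727817 : sm gj N53899 = N52420 := ded_52_1 (flp_h L711882) (flp_j L708744) L727809
theorem L727819 : sm gi N53899 = N52435 := ded_54_2 (flp_h L711985) (flp_i L691097) (flp_h L687469) L708734 L727809
theorem L727821 : sm gd N52076 = N53900 := rfl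
theorem L727823 : sm gb N53900 = N52451 := ded_20_1 (flp_d L712087) (flp_b L708748) L727821
theorem L727825 : sm gh N53900 = N52264 := ded_38_2 (flp_d L710609) (flp_h L689448) (flp_d L687477) L708746 L727821
theorem L727827 : sm gh N52077 = N53901 := rfl
theorem L727829 : sm gb N53901 = N52078 := ded_25_1 (flp_h L708766) (flp_b L708754) L727827
theorem L727831 : sm gc N53901 = N52452 := ded_32_1 (flp_h L712091) (flp_c L708756) L727827
theorem L727833 : sm ge N53901 = N52421 := ded_43_1 (flp_h L711888) (flp_e L708760) L727827
theorem L727835 : sm gg N53901 = N52423 := ded_50_1 (flp_h L711903) (flp_g L708762) L727827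
theorem L727837 : sm gj N53901 = N52081 := ded_52_1 (flp_h L708802) (flp_j L708764) L727827
theorem L727839 : sm gi N53901 = N52456 := ded_54_2 (flp_h L712117) (flp_i L691199) (flp_h L687497) L708752 L727827
theorem L727841 : sm gi N52079 = N53902 := rfl
theorem L727843 : sm gb N53902 = N52083 := ded_26_1 (flp_i L708819) (flp_b L708780) L727841
theorem L727845 : sm gc N53902 = N52455 := ded_33_1 (flp_i L712109) (flp_c L708782) L727841
theorem L727847 : sm gd N53902 = N53902 := ded_39_1 (flp_i L727841) L708784 L727841
theorem L727848 : sm gf N53902 = N52080 := ded_48_1 (flp_i L708789) L708778 L727841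
theorem L727850 : sm gj N53902 = N52416 := ded_53_1 (flp_i L711858) (flp_j L708785) L727841
theorem L727852 : sm gh N52080 = N53903 := rfl
theorem L727854 : sm gb N53903 = N52084 := ded_25_1 (flp_h L708828) (flp_b L708791) L727852
theorem L727856 : sm gc N53903 = N52456 := ded_32_1 (flp_h L712117) (flp_c L708793) L727852
theorem L727858 : sm ge N53903 = N52081 := ded_43_1 (flp_h L708802) (flp_e L708796) L727852
theorem L727860 : sm gg N53903 = N52088 := ded_50_1 (flp_h L708868) (flp_g L708798) L727852
theorem L727862 : sm gj N53903 = N52421 := ded_52_1 (flp_h L711888) (flp_j L708800) L727852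
theorem L727864 : sm gi N53903 = N52452 := ded_54_2 (flp_h L712091) (flp_i L691171) (flp_h L687535) L708789 L727852
theorem L727866 : sm gi N52082 = N53904 := rfl
theorem L727868 : sm gc N53904 = N52086 := ded_33_1 (flp_i L708848) (flp_c L708812) L727866
theorem L727870 : sm gd N53904 = N53904 := ded_39_1 (flp_i L727866) L708814 L727866
theorem L727871 : sm gf N53904 = N52089 := ded_48_1 (flp_i L708876) (flp_f L708817) L727866
theorem L727873 : sm gg N53904 = N52083 := ded_51_1 (flp_i L708819) L708810 L727866
theorem L727875 : sm gh N52083 = N53905 := rfl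
theorem L727877 : sm gc N53905 = N52087 := ded_32_1 (flp_h L708858) (flp_c L708821) L727875
theorem L727879 : sm gf N53905 = N52084 := ded_47_1 (flp_h L708828) (flp_f L708824) L727875
theorem L727881 : sm gj N53905 = N52419 := ded_52_1 (flp_h L711874) (flp_j L708826) L727875
theorem L727883 : sm gi N53905 = N52434 := ded_54_2 (flp_h L711977) (flp_i L691087) (flp_h L687555) L708819 L727875
theorem L727885 : sm gd N52084 = N53906 := rfl
theorem L727887 : sm gg N53906 = N52091 := ded_36_2 (flp_d L708889) (flp_g L708834) L727885
theorem L727889 : sm gj N53906 = N52422 := ded_37_2 (flp_d L711896) (flp_j L708836) L727885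
theorem L727891 : sm gi N53906 = N52453 := ded_39_2 (flp_d L712097) (flp_i L708838) L727885
theorem L727893 : sm gh N53906 = N53906 := ded_38_2 (flp_d L727885) (flp_h L708828) L687561 L708828 L727885
theorem L727894 : sm gh N52086 = N53907 := rfl
theorem L727896 : sm gb N53907 = N52463 := ded_25_1 (flp_h L712171) (flp_b L708850) L727894
theorem L727898 : sm gf N53907 = N52093 := ded_47_1 (flp_h L708902) (flp_f L708854) L727894
theorem L727900 : sm gg N53907 = N52087 := ded_50_1 (flp_h L708858) (flp_g L708856) L727894
theorem L727902 : sm gi N53907 = N52430 := ded_54_2 (flp_h L711949) (flp_i L691067) (flp_h L687580) L708848 L727894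
theorem L727904 : sm gd N52088 = N53908 := rfl
theorem L727906 : sm gb N53908 = N52091 := ded_20_1 (flp_d L708889) (flp_b L708870) L727904
theorem L727908 : sm gh N53908 = N53908 := ded_38_2 (flp_d L727904) (flp_h L708868) L687612 L708868 L727904
theorem L727909 : sm gh N52089 = N53909 := rfl
theorem L727911 : sm gc N53909 = N52093 := ded_32_1 (flp_h L708902) (flp_c L708878) L727909
theorem L727913 : sm gg N53909 = N52090 := ded_50_1 (flp_h L708883) (flp_g L708881) L727909
theorem L727915 : sm gd N52090 = N53910 := rfl
theorem L727917 : sm gf N53910 = N52091 := ded_35_2 (flp_d L708889) (flp_f L708887) L727915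
theorem L727919 : sm gi N53910 = N52468 := ded_39_2 (flp_d L715561) L715563 L727915
theorem L727921 : sm gc N53910 = N52424 := ded_27_1 (flp_d L711911) (flp_c L695910) L695914 (flp_c L708885) L727915
theorem L727923 : sm gh N53910 = N53910 := ded_38_2 (flp_d L727915) (flp_h L708883) L687630 L708883 L727915
theorem L727924 : sm gh N52092 = N53911 := rfl
theorem L727926 : sm gb N53911 = N52460 := ded_25_1 L712155 (flp_b L708894) L727924
theorem L727928 : sm gg N53911 = N52467 := ded_50_1 L712199 (flp_g L708898) L727924
theorem L727930 : sm gj N53911 = N52093 := ded_52_1 (flp_h L708902) (flp_j L708900) L727924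
theorem L727932 : sm gd N53911 = N52456 := ded_38_1 (flp_h L712117) L691203 (flp_h L687689) (flp_d L708896) L727924
theorem L727934 : sm gh N52094 = N53912 := rfl
theorem L727936 : sm ga N53912 = N52679 := ded_17_1 (flp_h L713766) (flp_a L708910) L727934
theorem L727938 : sm gb N53912 = N52511 := ded_25_1 (flp_h L712511) (flp_b L708912) L727934
theorem L727940 : sm gc N53912 = N52309 := ded_32_1 (flp_h L711014) (flp_c L708914) L727934
theorem L727942 : sm gf N53912 = N53912 := ded_47_1 (flp_h L727934) L708918 L727934
theorem L727943 : sm gg N53912 = N52106 := ded_50_1 (flp_h L709057) (flp_g L708919) L727934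
theorem L727945 : sm gd N53912 = N52239 := ded_38_1 (flp_h L710421) L689329 (flp_h L687737) (flp_d L708916) L727934
theorem L727947 : sm ge N52097 = N53913 := rfl
theorem L727949 : sm ga N53913 = N52208 := ded_13_1 (flp_e L710116) (flp_a L708947) L727947
theorem L727951 : sm gc N53913 = N52098 := ded_28_1 (flp_e L708956) L708945 L727947
theorem L727953 : sm gj N53913 = N52138 := ded_42_2 (flp_e L709415) (flp_j L708951) L727947
theorem L727955 : sm gh N53913 = N52150 := ded_43_2 (flp_e L709529) (flp_h L708953) L727947
theorem L727957 : sm gf N53913 = N52546 := ded_40_2 (flp_e L712777) L692126 (flp_e L688454) (flp_f L708949) L727947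
theorem L727959 : sm gi N52097 = N53914 := rfl
theorem L727961 : sm ga N53914 = N52209 := ded_18_1 (flp_i L710126) (flp_a L708947) L727959
theorem L727963 : sm gc N53914 = N52099 := ded_33_1 (flp_i L708970) L708945 L727959
theorem L727965 : sm gd N53914 = N53914 := ded_39_1 (flp_i L727959) L708955 L727959
theorem L727966 : sm gf N53914 = N52142 := ded_48_1 (flp_i L709448) (flp_f L708949) L727959
theorem L727968 : sm gj N53914 = N52139 := ded_53_1 (flp_i L709423) (flp_j L708951) L727959
theorem L727970 : sm gi N52098 = N53915 := rfl
theorem L727972 : sm ga N53915 = N52210 := ded_18_1 (flp_i L710135) (flp_a L708958) L727970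
theorem L727974 : sm gb N53915 = N52497 := ded_26_1 (flp_i L712409) (flp_b L708960) L727970
theorem L727976 : sm gd N53915 = N52102 := ded_39_1 (flp_i L709008) (flp_d L708966) L727970
theorem L727978 : sm ge N53915 = N52099 := ded_44_1 (flp_i L708970) L708956 L727970
theorem L727980 : sm gf N53915 = N52548 := ded_48_1 (flp_i L712793) (flp_f L708968) L727970
theorem L727982 : sm gj N53915 = N52140 := ded_53_1 (flp_i L709432) (flp_j L708962) L727970
theorem L727984 : sm gh N52099 = N53916 := rfl
theorem L727986 : sm ga N53916 = N52211 := ded_17_1 (flp_h L710147) (flp_a L708972) L727984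
theorem L727988 : sm gb N53916 = N52498 := ded_25_1 (flp_h L712415) (flp_b L708974) L727984
theorem L727990 : sm gf N53916 = N52143 := ded_47_1 (flp_h L709460) (flp_f L708978) L727984
theorem L727992 : sm gj N53916 = N52141 := ded_52_1 (flp_h L709438) (flp_j L708980) L727984
theorem L727994 : sm gd N53916 = N52203 := ded_38_1 (flp_h L710068) L689015 (flp_h L687895) (flp_d L708976) L727984
theorem L727996 : sm gi N53916 = N52154 := ded_54_2 (flp_h L709571) (flp_i L688537) (flp_h L687880) L708970 L727984
theorem L727998 : sm gi N52100 = N53917 := rfl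
theorem L728000 : sm ga N53917 = N52202 := ded_18_1 (flp_i L710056) (flp_a L708984) L727998
theorem L728002 : sm gb N53917 = N52501 := ded_26_1 (flp_i L712434) (flp_b L708986) L727998
theorem L728004 : sm gd N53917 = N52140 := ded_39_1 (flp_i L709432) (flp_d L708992) L727998
theorem L728006 : sm ge N53917 = N52101 := ded_44_1 (flp_i L708996) L708982 L727998
theorem L728008 : sm gf N53917 = N52550 := ded_48_1 (flp_i L712807) (flp_f L708994) L727998
theorem L728010 : sm gj N53917 = N52102 := ded_53_1 (flp_i L709008) (flp_j L708988) L727998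
theorem L728012 : sm gh N52101 = N53918 := rfl
theorem L728014 : sm ga N53918 = N52203 := ded_17_1 (flp_h L710068) (flp_a L708998) L728012
theorem L728016 : sm gb N53918 = N52502 := ded_25_1 (flp_h L712440) (flp_b L709000) L728012
theorem L728018 : sm gf N53918 = N52104 := ded_47_1 (flp_h L709030) (flp_f L709004) L728012
theorem L728020 : sm gj N53918 = N52103 := ded_52_1 (flp_h L709018) (flp_j L709006) L728012
theorem L728022 : sm gd N53918 = N52211 := ded_38_1 (flp_h L710147) L689065 (flp_h L687922) (flp_d L709002) L728012
theorem L728024 : sm gi N53918 = N52106 := ded_54_2 (flp_h L709057) (flp_i L687981) (flp_h L687907) L708996 L728012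
theorem L728026 : sm gh N52102 = N53919 := rfl
theorem L728028 : sm ga N53919 = N52610 := ded_17_1 (flp_h L713248) (flp_a L709010) L728026
theorem L728030 : sm gb N53919 = N52504 := ded_25_1 (flp_h L712458) (flp_b L709012) L728026
theorem L728032 : sm ge N53919 = N52103 := ded_43_1 (flp_h L709018) (flp_e L709014) L728026
theorem L728034 : sm gf N53919 = N52552 := ded_47_1 (flp_h L712825) (flp_f L709016) L728026
theorem L728036 : sm gi N53919 = N52112 := ded_54_2 (flp_h L709119) (flp_i L688019) (flp_h L687930) L709008 L728026
theorem L728038 : sm gh N52105 = N53920 := rfl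
theorem L728040 : sm ga N53920 = N52645 := ded_17_1 (flp_h L713532) (flp_a L709047) L728038
theorem L728042 : sm gb N53920 = N52520 := ded_25_1 (flp_h L712582) (flp_b L709049) L728038
theorem L728044 : sm ge N53920 = N52106 := ded_43_1 (flp_h L709057) (flp_e L709051) L728038
theorem L728046 : sm gf N53920 = N52562 := ded_47_1 (flp_h L712908) (flp_f L709053) L728038
theorem L728048 : sm gj N53920 = N52112 := ded_52_1 (flp_h L709119) (flp_j L709055) L728038
theorem L728050 : sm ge N52107 = N53921 := rfl
theorem L728052 : sm ga N53921 = N52108 := ded_13_1 (flp_e L709083) L709069 L728050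
theorem L728054 : sm gb N53921 = N52647 := ded_21_1 L713548 (flp_b L709081) L728050
theorem L728056 : sm gc N53921 = N52218 := ded_28_1 L710209 (flp_c L709071) L728050
theorem L728058 : sm gg N53921 = N52215 := ded_41_2 L710185 (flp_g L709077) L728050
theorem L728060 : sm gh N53921 = N52257 := ded_43_2 L710565 (flp_h L709079) L728050
theorem L728062 : sm gf N53921 = N52563 := ded_40_2 (flp_e L712916) L692257 (flp_e L688082) (flp_f L709075) L728050
theorem L728064 : sm gi N52107 = N53922 := rfl
theorem L728066 : sm ga N53922 = N52109 := ded_18_1 (flp_i L709091) L709069 L728064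
theorem L728068 : sm gb N53922 = N52680 := ded_26_1 (flp_i L713771) (flp_b L709081) L728064
theorem L728070 : sm gc N53922 = N52229 := ded_33_1 (flp_i L710327) (flp_c L709071) L728064
theorem L728072 : sm gd N53922 = N52121 := ded_39_1 (flp_i L709224) (flp_d L709073) L728064
theorem L728074 : sm gf N53922 = N52116 := ded_48_1 (flp_i L709168) (flp_f L709075) L728064
theorem L728076 : sm gg N53922 = N52226 := ded_51_1 (flp_i L710298) (flp_g L709077) L728064
theorem L728078 : sm gi N52108 = N53923 := rfl
theorem L728080 : sm gb N53923 = N52110 := ded_26_1 (flp_i L709101) (flp_b L709085) L728078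
theorem L728082 : sm gc N53923 = N52523 := ded_33_1 (flp_i L712608) (flp_c L709087) L728078
theorem L728084 : sm ge N53923 = N52109 := ded_44_1 (flp_i L709091) L709083 L728078
theorem L728086 : sm gf N53923 = N52566 := ded_48_1 (flp_i L712938) (flp_f L709089) L728078
theorem L728088 : sm gh N52109 = N53924 := rfl
theorem L728090 : sm gb N53924 = N52111 := ded_25_1 (flp_h L709111) (flp_b L709093) L728088
theorem L728092 : sm gc N53924 = N52524 := ded_32_1 (flp_h L712614) (flp_c L709095) L728088
theorem L728094 : sm gf N53924 = N52117 := ded_47_1 (flp_h L709182) (flp_f L709099) L728088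
theorem L728096 : sm gh N52110 = N53925 := rfl
theorem L728098 : sm ga N53925 = N52663 := ded_17_1 (flp_h L713654) (flp_a L709103) L728096
theorem L728100 : sm gc N53925 = N52112 := ded_32_1 (flp_h L709119) (flp_c L709105) L728096
theorem L728102 : sm ge N53925 = N52111 := ded_43_1 (flp_h L709111) (flp_e L709107) L728096
theorem L728104 : sm gf N53925 = N52570 := ded_47_1 (flp_h L712964) (flp_f L709109) L728096
theorem L728106 : sm gd N52111 = N53926 := rfl
theorem L728108 : sm ga N53926 = N52687 := ded_12_1 (flp_d L713829) (flp_a L709113) L728106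
theorem L728110 : sm gf N53926 = N52118 := ded_35_2 (flp_d L709192) (flp_f L709117) L728106
theorem L728112 : sm gc N53926 = N52260 := ded_27_1 (flp_d L710581) L689430 (flp_d L688037) (flp_c L709115) L728106
theorem L728114 : sm gh N53926 = N52123 := ded_38_2 (flp_d L709245) (flp_h L688164) (flp_d L688015) L709111 L728106
theorem L728116 : sm gd N52112 = N53927 := rfl
theorem L728118 : sm ga N53927 = N52668 := ded_12_1 (flp_d L713680) (flp_a L709121) L728116
theorem L728120 : sm gb N53927 = N52530 := ded_20_1 (flp_d L712653) (flp_b L709123) L728116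
theorem L728122 : sm gf N53927 = N52571 := ded_35_2 (flp_d L712972) (flp_f L709127) L728116
theorem L728124 : sm ge N53927 = N52264 := ded_34_2 (flp_d L710609) L689452 (flp_d L688037) (flp_e L709125) L728116
theorem L728126 : sm gi N52113 = N53928 := rfl
theorem L728128 : sm ga N53928 = N52114 := ded_18_1 (flp_i L709144) L709129 L728126
theorem L728130 : sm gb N53928 = N52671 := ded_26_1 (flp_i L713694) (flp_b L709142) L728126
theorem L728132 : sm gc N53928 = N52233 := ded_33_1 (flp_i L710372) (flp_c L709131) L728126
theorem L728134 : sm gd N53928 = N52124 := ded_39_1 (flp_i L709254) (flp_d L709133) L728126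
theorem L728136 : sm ge N53928 = N52572 := ded_44_1 (flp_i L712976) (flp_e L709135) L728126
theorem L728138 : sm gg N53928 = N53928 := ded_51_1 (flp_i L728126) L709137 L728126
theorem L728139 : sm gj N53928 = N52116 := ded_53_1 (flp_i L709168) (flp_j L709138) L728126
theorem L728141 : sm gh N52114 = N53929 := rfl
theorem L728143 : sm gb N53929 = N52115 := ded_25_1 (flp_h L709157) (flp_b L709146) L728141
theorem L728145 : sm gc N53929 = N52533 := ded_32_1 (flp_h L712678) (flp_c L709148) L728141
theorem L728147 : sm ge N53929 = N52573 := ded_43_1 (flp_h L712987) (flp_e L709152) L728141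
theorem L728149 : sm gg N53929 = N53929 := ded_50_1 (flp_h L728141) L709154 L728141
theorem L728150 : sm gj N53929 = N52117 := ded_52_1 (flp_h L709182) (flp_j L709155) L728141
theorem L728152 : sm gd N52115 = N53930 := rfl
theorem L728154 : sm ga N53930 = N52676 := ded_12_1 (flp_d L713741) (flp_a L709159) L728152
theorem L728156 : sm gg N53930 = N53930 := ded_36_2 (flp_d L728152) L709165 L728152
theorem L728157 : sm gj N53930 = N52118 := ded_37_2 (flp_d L709192) (flp_j L709166) L728152
theorem L728159 : sm gc N53930 = N52272 := ded_27_1 (flp_d L710690) L689507 (flp_d L688074) (flp_c L709161) L728152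
theorem L728161 : sm gh N53930 = N52126 := ded_38_2 (flp_d L709279) (flp_h L688196) (flp_d L688056) L709157 L728152
theorem L728163 : sm gh N52116 = N53931 := rfl
theorem L728165 : sm ga N53931 = N52117 := ded_17_1 (flp_h L709182) (flp_a L709170) L728163
theorem L728167 : sm gb N53931 = N52681 := ded_25_1 (flp_h L713779) (flp_b L709172) L728163
theorem L728169 : sm gc N53931 = N52234 := ded_32_1 (flp_h L710383) (flp_c L709174) L728163
theorem L728171 : sm ge N53931 = N52574 := ded_43_1 (flp_h L712994) (flp_e L709178) L728163
theorem L728173 : sm gg N53931 = N52119 := ded_50_1 (flp_h L709202) (flp_g L709180) L728163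
theorem L728175 : sm gi N53931 = N52294 := ded_54_2 (flp_h L710903) (flp_i L689704) (flp_h L688086) L709168 L728163
theorem L728177 : sm gd N52117 = N53932 := rfl
theorem L728179 : sm gb N53932 = N52118 := ded_20_1 (flp_d L709192) (flp_b L709184) L728177
theorem L728181 : sm gg N53932 = N52120 := ded_36_2 (flp_d L709217) (flp_g L709190) L728177
theorem L728183 : sm gh N53932 = N52128 := ded_38_2 (flp_d L709302) (flp_h L688220) (flp_d L688096) L709182 L728177
theorem L728185 : sm gh N52121 = N53933 := rfl
theorem L728187 : sm ga N53933 = N52122 := ded_17_1 (flp_h L709236) (flp_a L709226) L728185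
theorem L728189 : sm gb N53933 = N52757 := ded_25_1 (flp_h L714381) (flp_b L709228) L728185
theorem L728191 : sm gc N53933 = N52130 := ded_32_1 (flp_h L709320) (flp_c L709230) L728185
theorem L728193 : sm gf N53933 = N52127 := ded_47_1 (flp_h L709289) (flp_f L709232) L728185
theorem L728195 : sm gg N53933 = N52705 := ded_50_1 (flp_h L713972) (flp_g L709234) L728185
theorem L728197 : sm gi N53933 = N53933 := ded_54_2 (flp_h L728185) (flp_i L709224) L688153 L709224 L728185
theorem L728198 : sm gd N52122 = N53934 := rfl
theorem L728200 : sm gb N53934 = N52123 := ded_20_1 (flp_d L709245) (flp_b L709238) L728198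
theorem L728202 : sm gf N53934 = N52128 := ded_35_2 (flp_d L709302) (flp_f L709242) L728198
theorem L728204 : sm gi N53934 = N53934 := ded_39_2 (flp_d L728198) L709244 L728198
theorem L728205 : sm ge N52123 = N53935 := rfl
theorem L728207 : sm ga N53935 = N52762 := ded_13_1 (flp_e L714421) (flp_a L709247) L728205
theorem L728209 : sm gc N53935 = N52311 := ded_28_1 (flp_e L711021) (flp_c L709252) L728205
theorem L728211 : sm gi N53935 = N53935 := ded_44_2 (flp_e L728205) L709251 L728205
theorem L728212 : sm gh N52124 = N53936 := rfl
theorem L728214 : sm ga N53936 = N52125 := ded_17_1 (flp_h L709267) (flp_a L709256) L728212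
theorem L728216 : sm gb N53936 = N52733 := ded_25_1 L714186 (flp_b L709258) L728212
theorem L728218 : sm gc N53936 = N52132 := ded_32_1 (flp_h L709343) (flp_c L709260) L728212
theorem L728220 : sm ge N53936 = N52732 := ded_43_1 L714176 (flp_e L709262) L728212
theorem L728222 : sm gg N53936 = N53936 := ded_50_1 (flp_h L728212) L709264 L728212
theorem L728223 : sm gj N53936 = N52127 := ded_52_1 (flp_h L709289) (flp_j L709265) L728212
theorem L728225 : sm gi N53936 = N53936 := ded_54_2 (flp_h L728212) (flp_i L709254) L688182 L709254 L728212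
theorem L728226 : sm gd N52125 = N53937 := rfl
theorem L728228 : sm gb N53937 = N52126 := ded_20_1 (flp_d L709279) (flp_b L709269) L728226
theorem L728230 : sm gg N53937 = N53937 := ded_36_2 (flp_d L728226) L709275 L728226
theorem L728231 : sm gj N53937 = N52128 := ded_37_2 (flp_d L709302) (flp_j L709276) L728226
theorem L728233 : sm gi N53937 = N53937 := ded_39_2 (flp_d L728226) L709278 L728226
theorem L728234 : sm gc N53937 = N52723 := ded_27_1 (flp_d L714092) L693726 (flp_d L688317) (flp_c L709271) L728226
theorem L728236 : sm ge N52126 = N53938 := rfl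
theorem L728238 : sm ga N53938 = N52742 := ded_13_1 L714272 (flp_a L709281) L728236
theorem L728240 : sm gc N53938 = N52314 := ded_28_1 (flp_e L711045) (flp_c L709287) L728236
theorem L728242 : sm gg N53938 = N53938 := ded_41_2 (flp_e L728236) L709283 L728236
theorem L728243 : sm gj N53938 = N52129 := ded_42_2 (flp_e L709309) (flp_j L709284) L728236
theorem L728245 : sm gi N53938 = N53938 := ded_44_2 (flp_e L728236) L709286 L728236
theorem L728246 : sm gd N53938 = N52734 := ded_34_1 (flp_e L714189) (flp_d L693934) (flp_e L688202) L709279 L728236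
theorem L728248 : sm gf N52129 = N53939 := rfl
theorem L728250 : sm ga N53939 = N52763 := ded_14_1 (flp_f L714424) (flp_a L709311) L728248
theorem L728252 : sm gc N53939 = N52315 := ded_29_1 (flp_f L711052) (flp_c L709313) L728248
theorem L728254 : sm gd N53939 = N52735 := ded_35_1 (flp_f L714200) (flp_d L709318) L728248
theorem L728256 : sm gi N53939 = N53939 := ded_48_2 (flp_f L728248) L709317 L728248
theorem L728257 : sm gi N52133 = N53940 := rfl
theorem L728259 : sm ga N53940 = N52519 := ded_18_1 (flp_i L712572) (flp_a L709356) L728257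
theorem L728261 : sm gb N53940 = N52153 := ded_26_1 (flp_i L709563) (flp_b L709358) L728257
theorem L728263 : sm gd N53940 = N52366 := ded_39_1 (flp_i L711501) (flp_d L709364) L728257
theorem L728265 : sm ge N53940 = N52134 := ded_44_1 (flp_i L709368) L709354 L728257
theorem L728267 : sm gf N53940 = N52494 := ded_48_1 (flp_i L712385) (flp_f L709366) L728257
theorem L728269 : sm gj N53940 = N52135 := ded_53_1 (flp_i L709380) (flp_j L709360) L728257
theorem L728271 : sm gh N52134 = N53941 := rfl
theorem L728273 : sm ga N53941 = N52537 := ded_17_1 (flp_h L712712) (flp_a L709370) L728271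
theorem L728275 : sm gb N53941 = N52154 := ded_25_1 (flp_h L709571) (flp_b L709372) L728271
theorem L728277 : sm gf N53941 = N52137 := ded_47_1 (flp_h L709400) (flp_f L709376) L728271
theorem L728279 : sm gj N53941 = N52136 := ded_52_1 (flp_h L709390) (flp_j L709378) L728271
theorem L728281 : sm gd N53941 = N52273 := ded_38_1 (flp_h L710697) L689516 (flp_h L688382) (flp_d L709374) L728271
theorem L728283 : sm gi N53941 = N52498 := ded_54_2 (flp_h L712415) (flp_i L691667) (flp_h L688367) L709368 L728271
theorem L728285 : sm gh N52135 = N53942 := rfl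
theorem L728287 : sm ga N53942 = N52529 := ded_17_1 (flp_h L712645) (flp_a L709382) L728285
theorem L728289 : sm gb N53942 = N52162 := ded_25_1 (flp_h L709641) (flp_b L709384) L728285
theorem L728291 : sm ge N53942 = N52136 := ded_43_1 (flp_h L709390) (flp_e L709386) L728285
theorem L728293 : sm gf N53942 = N52496 := ded_47_1 (flp_h L712403) (flp_f L709388) L728285
theorem L728295 : sm gd N52138 = N53943 := rfl
theorem L728297 : sm ga N53943 = N52214 := ded_12_1 (flp_d L710174) (flp_a L709417) L728295
theorem L728299 : sm ge N53943 = N53943 := ded_34_2 (flp_d L728295) (flp_e L709415) L688435 L709415 L728295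
theorem L728300 : sm gi N52138 = N53944 := rfl
theorem L728302 : sm ga N53944 = N52216 := ded_18_1 (flp_i L710187) (flp_a L709417) L728300
theorem L728304 : sm gc N53944 = N52140 := ded_33_1 (flp_i L709432) (flp_c L709419) L728300
theorem L728306 : sm ge N53944 = N52139 := ded_44_1 (flp_i L709423) L709415 L728300
theorem L728308 : sm gh N52139 = N53945 := rfl
theorem L728310 : sm ga N53945 = N52217 := ded_17_1 (flp_h L710193) (flp_a L709425) L728308
theorem L728312 : sm gc N53945 = N52141 := ded_32_1 (flp_h L709438) (flp_c L709427) L728308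
theorem L728314 : sm gf N53945 = N52144 := ded_47_1 (flp_h L709475) (flp_f L709430) L728308
theorem L728316 : sm gi N53945 = N52160 := ded_54_2 (flp_h L709623) (flp_i L688561) (flp_h L688433) L709423 L728308
theorem L728318 : sm gh N52140 = N53946 := rfl
theorem L728320 : sm ga N53946 = N52220 := ded_17_1 (flp_h L710225) (flp_a L709434) L728318
theorem L728322 : sm ge N53946 = N52141 := ded_43_1 (flp_h L709438) (flp_e L709436) L728318
theorem L728324 : sm gi N53946 = N52162 := ded_54_2 (flp_h L709641) (flp_i L688579) (flp_h L688440) L709432 L728318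
theorem L728326 : sm gh N52142 = N53947 := rfl
theorem L728328 : sm ga N53947 = N52222 := ded_17_1 (flp_h L710245) (flp_a L709450) L728326
theorem L728330 : sm gc N53947 = N52143 := ded_32_1 (flp_h L709460) (flp_c L709452) L728326
theorem L728332 : sm ge N53947 = N52766 := ded_43_1 (flp_h L714449) (flp_e L709455) L728326
theorem L728334 : sm gg N53947 = N53947 := ded_50_1 (flp_h L728326) L709457 L728326
theorem L728335 : sm gj N53947 = N52144 := ded_52_1 (flp_h L709475) (flp_j L709458) L728326
theorem L728337 : sm gi N53947 = N52166 := ded_54_2 (flp_h L709679) (flp_i L688612) (flp_h L688459) L709448 L728326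
theorem L728339 : sm gd N52144 = N53948 := rfl
theorem L728341 : sm ga N53948 = N52228 := ded_12_1 (flp_d L710320) (flp_a L709477) L728339
theorem L728343 : sm gg N53948 = N52145 := ded_36_2 (flp_d L709485) (flp_g L709481) L728339
theorem L728345 : sm gi N53948 = N52172 := ded_39_2 (flp_d L709740) (flp_i L709483) L728339
theorem L728347 : sm gc N53948 = N52622 := ded_27_1 (flp_d L713354) L692705 (flp_d L688490) (flp_c L709479) L728339
theorem L728349 : sm gh N53948 = N53948 := ded_38_2 (flp_d L728339) (flp_h L709475) L688481 L709475 L728339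
theorem L728350 : sm gb N52146 = N53949 := rfl
theorem L728352 : sm gd N53949 = N52177 := ded_20_2 (flp_b L709786) (flp_d L709504) L728350
theorem L728354 : sm gf N53949 = N53949 := ded_22_2 (flp_b L728350) L709499 L728350
theorem L728355 : sm gg N53949 = N52149 := ded_23_2 (flp_b L709521) (flp_g L709500) L728350
theorem L728357 : sm gj N53949 = N52720 := ded_24_2 L714076 (flp_j L709502) L728350
theorem L728359 : sm ga N53949 = N52708 := ded_10_1 L714003 (flp_a L708211) L708216 (flp_a L709497) L728350
theorem L728361 : sm ge N52146 = N53950 := rfl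
theorem L728363 : sm ga N53950 = N52235 := ded_13_1 (flp_e L710393) (flp_a L709497) L728361
theorem L728365 : sm gc N53950 = N52147 := ded_28_1 (flp_e L709506) L709495 L728361
theorem L728367 : sm gg N53950 = N52150 := ded_41_2 (flp_e L709529) (flp_g L709500) L728361
theorem L728369 : sm gj N53950 = N52656 := ded_42_2 L713616 (flp_j L709502) L728361
theorem L728371 : sm gd N53950 = N52661 := ded_34_1 L713644 L693143 (flp_e L688757) (flp_d L709504) L728361
theorem L728373 : sm gi N52146 = N53951 := rfl
theorem L728375 : sm ga N53951 = N52236 := ded_18_1 (flp_i L710399) (flp_a L709497) L728373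
theorem L728377 : sm gc N53951 = N52148 := ded_33_1 (flp_i L709512) L709495 L728373
theorem L728379 : sm gd N53951 = N52178 := ded_39_1 (flp_i L709799) (flp_d L709504) L728373
theorem L728381 : sm gf N53951 = N53951 := ded_48_1 (flp_i L728373) L709499 L728373
theorem L728382 : sm gg N53951 = N52151 := ded_51_1 (flp_i L709537) (flp_g L709500) L728373
theorem L728384 : sm gj N53951 = N52744 := ded_53_1 (flp_i L714280) (flp_j L709502) L728373
theorem L728386 : sm gf N52147 = N53952 := rfl
theorem L728388 : sm ga N53952 = N52237 := ded_14_1 (flp_f L710408) (flp_a L709508) L728386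
theorem L728390 : sm ge N53952 = N53952 := ded_40_1 (flp_f L728386) (flp_e L709506) L688507 L709506 L728386
theorem L728391 : sm gi N52147 = N53953 := rfl
theorem L728393 : sm ga N53953 = N52238 := ded_18_1 (flp_i L710413) (flp_a L709508) L728391
theorem L728395 : sm ge N53953 = N52148 := ded_44_1 (flp_i L709512) L709506 L728391
theorem L728397 : sm gg N53953 = N52153 := ded_51_1 (flp_i L709563) (flp_g L709510) L728391
theorem L728399 : sm gh N52148 = N53954 := rfl
theorem L728401 : sm ga N53954 = N52239 := ded_17_1 (flp_h L710421) (flp_a L709514) L728399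
theorem L728403 : sm gf N53954 = N53954 := ded_47_1 (flp_h L728399) L709518 L728399
theorem L728404 : sm gg N53954 = N52154 := ded_50_1 (flp_h L709571) (flp_g L709519) L728399
theorem L728406 : sm gd N53954 = N52679 := ded_38_1 (flp_h L713766) L693072 (flp_h L688519) (flp_d L709516) L728399
theorem L728408 : sm ge N52149 = N53955 := rfl
theorem L728410 : sm gb N53955 = N52150 := ded_21_1 (flp_e L709529) L709521 L728408
theorem L728412 : sm gj N53955 = N52155 := ded_42_2 (flp_e L709581) (flp_j L709527) L728408
theorem L728414 : sm gi N52149 = N53956 := rfl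
theorem L728416 : sm gb N53956 = N52151 := ded_26_1 (flp_i L709537) L709521 L728414
theorem L728418 : sm gd N53956 = N52180 := ded_39_1 (flp_i L709827) (flp_d L709523) L728414
theorem L728420 : sm gf N53956 = N52163 := ded_48_1 (flp_i L709647) (flp_f L709525) L728414
theorem L728422 : sm gj N53956 = N52156 := ded_53_1 (flp_i L709587) (flp_j L709527) L728414
theorem L728424 : sm gd N52150 = N53957 := rfl
theorem L728426 : sm ga N53957 = N52242 := ded_12_1 (flp_d L710448) (flp_a L709531) L728424
theorem L728428 : sm gg N53957 = N52661 := ded_36_2 (flp_d L728371) L728367 L728424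
theorem L728430 : sm gj N53957 = N52157 := ded_37_2 (flp_d L709597) (flp_j L709535) L728424
theorem L728432 : sm gc N53957 = N52643 := ded_27_1 (flp_d L715597) L715589 L708382 (flp_c L709533) L728424
theorem L728434 : sm ge N53957 = N52181 := ded_34_2 (flp_d L709836) (flp_e L688787) (flp_d L688529) L709529 L728424
theorem L728436 : sm gf N52150 = N53958 := rfl
theorem L728438 : sm ga N53958 = N52243 := ded_14_1 (flp_f L710454) (flp_a L709531) L728436
theorem L728440 : sm gc N53958 = N52152 := ded_29_1 (flp_f L709549) (flp_c L709533) L728436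
theorem L728442 : sm gj N53958 = N52158 := ded_46_2 (flp_f L709607) (flp_j L709535) L728436
theorem L728444 : sm gh N53958 = N52546 := ded_47_2 (flp_f L727957) L727955 L728436
theorem L728446 : sm ge N53958 = N52164 := ded_40_1 (flp_f L709656) (flp_e L688600) (flp_f L688525) L709529 L728436
theorem L728448 : sm gi N52150 = N53959 := rfl
theorem L728450 : sm ga N53959 = N52244 := ded_18_1 (flp_i L710464) (flp_a L709531) L728448
theorem L728452 : sm gc N53959 = N52153 := ded_33_1 (flp_i L709563) (flp_c L709533) L728448
theorem L728454 : sm ge N53959 = N52151 := ded_44_1 (flp_i L709537) L709529 L728448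
theorem L728456 : sm gj N53959 = N52159 := ded_53_1 (flp_i L709615) (flp_j L709535) L728448
theorem L728458 : sm gh N52151 = N53960 := rfl
theorem L728460 : sm ga N53960 = N52245 := ded_17_1 (flp_h L710472) (flp_a L709539) L728458
theorem L728462 : sm gc N53960 = N52154 := ded_32_1 (flp_h L709571) (flp_c L709541) L728458
theorem L728464 : sm gf N53960 = N52166 := ded_47_1 (flp_h L709679) (flp_f L709545) L728458
theorem L728466 : sm gj N53960 = N52160 := ded_52_1 (flp_h L709623) (flp_j L709547) L728458
theorem L728468 : sm gi N52152 = N53961 := rfl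
theorem L728470 : sm ga N53961 = N52246 := ded_18_1 (flp_i L710480) (flp_a L709551) L728468
theorem L728472 : sm gb N53961 = N52494 := ded_26_1 (flp_i L712385) (flp_b L709553) L728468
theorem L728474 : sm gd N53961 = N52396 := ded_39_1 (flp_i L711705) (flp_d L709555) L728468
theorem L728476 : sm ge N53961 = N52167 := ded_44_1 (flp_i L709688) (flp_e L709561) L728468
theorem L728478 : sm gf N53961 = N52153 := ded_48_1 (flp_i L709563) L709549 L728468
theorem L728480 : sm gj N53961 = N52161 := ded_53_1 (flp_i L709631) (flp_j L709557) L728468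
theorem L728482 : sm gh N52153 = N53962 := rfl
theorem L728484 : sm ga N53962 = N52247 := ded_17_1 (flp_h L710492) (flp_a L709565) L728482
theorem L728486 : sm ge N53962 = N52154 := ded_43_1 (flp_h L709571) (flp_e L709567) L728482
theorem L728488 : sm gj N53962 = N52162 := ded_52_1 (flp_h L709641) (flp_j L709569) L728482
theorem L728490 : sm gd N52155 = N53963 := rfl
theorem L728492 : sm gb N53963 = N52157 := ded_20_1 (flp_d L709597) (flp_b L709583) L728490
theorem L728494 : sm gg N53963 = N52636 := ded_36_2 L713456 (flp_g L709585) L728490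
theorem L728496 : sm ge N53963 = N52186 := ded_34_2 (flp_d L709897) (flp_e L688845) (flp_d L688549) L709581 L728490
theorem L728498 : sm gi N52155 = N53964 := rfl
theorem L728500 : sm gb N53964 = N52159 := ded_26_1 (flp_i L709615) (flp_b L709583) L728498
theorem L728502 : sm ge N53964 = N52156 := ded_44_1 (flp_i L709587) L709581 L728498
theorem L728504 : sm gg N53964 = N52698 := ded_51_1 L713907 (flp_g L709585) L728498
theorem L728506 : sm gh N52156 = N53965 := rfl
theorem L728508 : sm gb N53965 = N52160 := ded_25_1 (flp_h L709623) (flp_b L709589) L728506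
theorem L728510 : sm gf N53965 = N52169 := ded_47_1 (flp_h L709715) (flp_f L709593) L728506
theorem L728512 : sm gg N53965 = N52689 := ded_50_1 L713845 (flp_g L709595) L728506
theorem L728514 : sm gf N52157 = N53966 := rfl
theorem L728516 : sm ga N53966 = N52254 := ded_14_1 (flp_f L710546) (flp_a L709599) L728514
theorem L728518 : sm gc N53966 = N52633 := ded_29_1 L713439 (flp_c L709603) L728514
theorem L728520 : sm gd N53966 = N52158 := ded_35_1 (flp_f L709607) L709597 L728514
theorem L728522 : sm ge N53966 = N53966 := ded_40_1 (flp_f L728514) L709605 L688867 (flp_e L709605) L728514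
theorem L728523 : sm gg N53966 = N52630 := ded_45_2 (flp_f L713416) L692798 L692849 (flp_g L709601) L728514
theorem L728525 : sm gi N52157 = N53967 := rfl
theorem L728527 : sm ga N53967 = N52256 := ded_18_1 (flp_i L710555) (flp_a L709599) L728525
theorem L728529 : sm gc N53967 = N52644 := ded_33_1 (flp_i L713526) (flp_c L709603) L728525
theorem L728531 : sm gd N53967 = N52159 := ded_39_1 (flp_i L709615) L709597 L728525
theorem L728533 : sm ge N53967 = N52189 := ded_44_1 (flp_i L709924) (flp_e L709605) L728525
theorem L728535 : sm gg N53967 = N52640 := ded_51_1 (flp_i L713492) (flp_g L709601) L728525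
theorem L728537 : sm gi N52158 = N53968 := rfl
theorem L728539 : sm ga N53968 = N52258 := ded_18_1 (flp_i L710567) (flp_a L709609) L728537
theorem L728541 : sm gc N53968 = N52161 := ded_33_1 (flp_i L709631) (flp_c L709611) L728537
theorem L728543 : sm ge N53968 = N52170 := ded_44_1 (flp_i L709721) (flp_e L709613) L728537
theorem L728545 : sm gf N53968 = N52159 := ded_48_1 (flp_i L709615) L709607 L728537
theorem L728547 : sm gh N52159 = N53969 := rfl
theorem L728549 : sm ga N53969 = N52259 := ded_17_1 (flp_h L710575) (flp_a L709617) L728547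
theorem L728551 : sm gc N53969 = N52162 := ded_32_1 (flp_h L709641) (flp_c L709619) L728547
theorem L728553 : sm ge N53969 = N52160 := ded_43_1 (flp_h L709623) (flp_e L709621) L728547
theorem L728555 : sm gd N52160 = N53970 := rfl
theorem L728557 : sm ga N53970 = N52260 := ded_12_1 (flp_d L710581) (flp_a L709625) L728555
theorem L728559 : sm gf N53970 = N52172 := ded_35_2 (flp_d L709740) (flp_f L709629) L728555
theorem L728561 : sm gc N53970 = N52687 := ded_27_1 (flp_d L713829) L693159 (flp_d L688591) (flp_c L709627) L728555
theorem L728563 : sm gh N53970 = N52191 := ded_38_2 (flp_d L709947) (flp_h L688883) (flp_d L688567) L709623 L728555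
theorem L728565 : sm gh N52161 = N53971 := rfl
theorem L728567 : sm ga N53971 = N52263 := ded_17_1 (flp_h L710601) (flp_a L709633) L728565
theorem L728569 : sm gb N53971 = N52496 := ded_25_1 (flp_h L712403) (flp_b L709635) L728565
theorem L728571 : sm ge N53971 = N52173 := ded_43_1 (flp_h L709750) (flp_e L709637) L728565
theorem L728573 : sm gf N53971 = N52162 := ded_47_1 (flp_h L709641) (flp_f L709639) L728565
theorem L728575 : sm gd N52162 = N53972 := rfl
theorem L728577 : sm ga N53972 = N52264 := ded_12_1 (flp_d L710609) (flp_a L709643) L728575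
theorem L728579 : sm ge N53972 = N52668 := ded_34_2 (flp_d L713680) L692983 (flp_d L688591) (flp_e L709645) L728575
theorem L728581 : sm gh N52163 = N53973 := rfl
theorem L728583 : sm gb N53973 = N52166 := ded_25_1 (flp_h L709679) (flp_b L709649) L728581
theorem L728585 : sm gg N53973 = N53973 := ded_50_1 (flp_h L728581) L709653 L728581
theorem L728586 : sm gj N53973 = N52169 := ded_52_1 (flp_h L709715) (flp_j L709654) L728581
theorem L728588 : sm gi N52164 = N53974 := rfl
theorem L728590 : sm ga N53974 = N52270 := ded_18_1 (flp_i L710670) (flp_a L709658) L728588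
theorem L728592 : sm gc N53974 = N52167 := ded_33_1 (flp_i L709688) (flp_c L709660) L728588
theorem L728594 : sm gd N53974 = N53974 := ded_39_1 (flp_i L728588) L709662 L728588
theorem L728595 : sm gf N53974 = N52165 := ded_48_1 (flp_i L709667) L709656 L728588
theorem L728597 : sm gj N53974 = N52170 := ded_53_1 (flp_i L709721) (flp_j L709663) L728588
theorem L728599 : sm gh N52165 = N53975 := rfl
theorem L728601 : sm ga N53975 = N52271 := ded_17_1 (flp_h L710679) (flp_a L709669) L728599
theorem L728603 : sm gc N53975 = N52168 := ded_32_1 (flp_h L709700) (flp_c L709671) L728599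
theorem L728605 : sm ge N53975 = N52166 := ded_43_1 (flp_h L709679) (flp_e L709674) L728599
theorem L728607 : sm gg N53975 = N53975 := ded_50_1 (flp_h L728599) L709676 L728599
theorem L728608 : sm gj N53975 = N52171 := ded_52_1 (flp_h L709730) (flp_j L709677) L728599
theorem L728610 : sm gi N53975 = N52766 := ded_54_2 (flp_h L714449) (flp_i L694334) (flp_h L688609) L709667 L728599
theorem L728612 : sm gd N52166 = N53976 := rfl
theorem L728614 : sm ga N53976 = N52272 := ded_12_1 (flp_d L710690) (flp_a L709681) L728612
theorem L728616 : sm gg N53976 = N53976 := ded_36_2 (flp_d L728612) L709685 L728612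
theorem L728617 : sm gj N53976 = N52172 := ded_37_2 (flp_d L709740) (flp_j L709686) L728612
theorem L728619 : sm gc N53976 = N52676 := ded_27_1 (flp_d L713741) L693047 (flp_d L688655) (flp_c L709683) L728612
theorem L728621 : sm gh N53976 = N52194 := ded_38_2 (flp_d L709977) (flp_h L688922) (flp_d L688618) L709679 L728612
theorem L728623 : sm gh N52167 = N53977 := rfl
theorem L728625 : sm ga N53977 = N52273 := ded_17_1 (flp_h L710697) (flp_a L709690) L728623
theorem L728627 : sm gb N53977 = N52495 := ded_25_1 (flp_h L712393) (flp_b L709692) L728623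
theorem L728629 : sm gf N53977 = N52168 := ded_47_1 (flp_h L709700) (flp_f L709696) L728623
theorem L728631 : sm gj N53977 = N52173 := ded_52_1 (flp_h L709750) (flp_j L709698) L728623
theorem L728633 : sm gd N53977 = N52537 := ded_38_1 (flp_h L712712) L691929 (flp_h L688751) (flp_d L709694) L728623
theorem L728635 : sm gi N53977 = N52549 := ded_54_2 (flp_h L712801) (flp_i L692136) (flp_h L688633) L709688 L728623
theorem L728637 : sm gd N52169 = N53978 := rfl
theorem L728639 : sm gb N53978 = N52172 := ded_20_1 (flp_d L709740) (flp_b L709717) L728637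
theorem L728641 : sm gg N53978 = N52174 := ded_36_2 (flp_d L709760) (flp_g L709719) L728637
theorem L728643 : sm gh N53978 = N52196 := ded_38_2 (flp_d L709998) (flp_h L688943) (flp_d L688661) L709715 L728637
theorem L728645 : sm gh N52170 = N53979 := rfl
theorem L728647 : sm ga N53979 = N52283 := ded_17_1 (flp_h L710797) (flp_a L709723) L728645
theorem L728649 : sm gc N53979 = N52173 := ded_32_1 (flp_h L709750) (flp_c L709725) L728645
theorem L728651 : sm gf N53979 = N52171 := ded_47_1 (flp_h L709730) (flp_f L709728) L728645
theorem L728653 : sm gd N52171 = N53980 := rfl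
theorem L728655 : sm ga N53980 = N52284 := ded_12_1 (flp_d L710803) (flp_a L709732) L728653
theorem L728657 : sm gg N53980 = N52175 := ded_36_2 (flp_d L709769) (flp_g L709738) L728653
theorem L728659 : sm gc N53980 = N52541 := ded_27_1 (flp_d L712745) L691977 (flp_d L688711) (flp_c L709734) L728653
theorem L728661 : sm gh N53980 = N53980 := ded_38_2 (flp_d L728653) (flp_h L709730) L688678 L709730 L728653
theorem L728662 : sm ge N52172 = N53981 := rfl
theorem L728664 : sm ga N53981 = N52285 := ded_13_1 (flp_e L710808) (flp_a L709742) L728662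
theorem L728666 : sm gc N53981 = N52688 := ded_28_1 (flp_e L713835) (flp_c L709746) L728662
theorem L728668 : sm gg N53981 = N52176 := ded_41_2 (flp_e L709777) (flp_g L709744) L728662
theorem L728670 : sm gh N53981 = N52197 := ded_43_2 (flp_e L710005) (flp_h L709748) L728662
theorem L728672 : sm ge N52174 = N53982 := rfl
theorem L728674 : sm gb N53982 = N52176 := ded_21_1 (flp_e L709777) (flp_b L709762) L728672
theorem L728676 : sm gc N53982 = N52693 := ded_28_1 (flp_e L727045) L727043 L728672
theorem L728678 : sm gj N53982 = N53982 := ded_42_2 (flp_e L728672) L709766 L728672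
theorem L728679 : sm gh N53982 = N52198 := ded_43_2 (flp_e L710015) (flp_h L709767) L728672
theorem L728681 : sm gf N53982 = N52694 := ded_40_2 L713881 L693244 L693249 (flp_f L709764) L728672
theorem L728683 : sm gi N52177 = N53983 := rfl
theorem L728685 : sm ga N53983 = N52709 := ded_18_1 (flp_i L714006) (flp_a L709796) L728683
theorem L728687 : sm gb N53983 = N52178 := ded_26_1 (flp_i L709799) L709786 L728683
theorem L728689 : sm gc N53983 = N53983 := ded_33_1 (flp_i L728683) L709798 L728683
theorem L728690 : sm ge N53983 = N52707 := ded_44_1 (flp_i L713990) (flp_e L709788) L728683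
theorem L728692 : sm gf N53983 = N53983 := ded_48_1 (flp_i L728683) L709790 L728683
theorem L728693 : sm gg N53983 = N52180 := ded_51_1 (flp_i L709827) (flp_g L709791) L728683
theorem L728695 : sm gj N53983 = N52740 := ded_53_1 (flp_i L714242) (flp_j L709793) L728683
theorem L728697 : sm gh N52178 = N53984 := rfl
theorem L728699 : sm ga N53984 = N52297 := ded_17_1 (flp_h L710922) (flp_a L709801) L728697
theorem L728701 : sm gc N53984 = N52179 := ded_32_1 (flp_h L709812) (flp_c L709803) L728697
theorem L728703 : sm ge N53984 = N52754 := ded_43_1 L714359 (flp_e L709805) L728697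
theorem L728705 : sm gf N53984 = N53984 := ded_47_1 (flp_h L728697) L709807 L728697
theorem L728706 : sm gg N53984 = N52183 := ded_50_1 (flp_h L709860) (flp_g L709808) L728697
theorem L728708 : sm gj N53984 = N52749 := ded_52_1 (flp_h L714308) (flp_j L709810) L728697
theorem L728710 : sm gi N53984 = N53984 := ded_54_2 (flp_h L728697) (flp_i L709799) L688764 L709799 L728697
theorem L728711 : sm gh N52180 = N53985 := rfl
theorem L728713 : sm gb N53985 = N52183 := ded_25_1 (flp_h L709860) (flp_b L709829) L728711
theorem L728715 : sm gc N53985 = N53985 := ded_32_1 (flp_h L728711) L709831 L728711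
theorem L728716 : sm gf N53985 = N52193 := ded_47_1 (flp_h L709967) (flp_f L709832) L728711
theorem L728718 : sm gj N53985 = N52188 := ded_52_1 (flp_h L709914) (flp_j L709834) L728711
theorem L728720 : sm gi N53985 = N53985 := ded_54_2 (flp_h L728711) (flp_i L709827) L688785 L709827 L728711
theorem L728721 : sm gi N52181 = N53986 := rfl
theorem L728723 : sm ga N53986 = N52300 := ded_18_1 (flp_i L710947) (flp_a L709838) L728721
theorem L728725 : sm gc N53986 = N52678 := ded_33_1 (flp_i L713757) (flp_c L709845) L728721
theorem L728727 : sm gd N53986 = N52182 := ded_39_1 (flp_i L709847) L709836 L728721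
theorem L728729 : sm gf N53986 = N53986 := ded_48_1 (flp_i L728721) L709840 L728721
theorem L728730 : sm gg N53986 = N52685 := ded_51_1 (flp_i L713811) (flp_g L709841) L728721
theorem L728732 : sm gj N53986 = N52189 := ded_53_1 (flp_i L709924) (flp_j L709843) L728721
theorem L728734 : sm gh N52182 = N53987 := rfl
theorem L728736 : sm ga N53987 = N52301 := ded_17_1 (flp_h L710954) (flp_a L709849) L728734
theorem L728738 : sm gc N53987 = N52184 := ded_32_1 (flp_h L709871) (flp_c L709851) L728734
theorem L728740 : sm ge N53987 = N52183 := ded_43_1 (flp_h L709860) (flp_e L709853) L728734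
theorem L728742 : sm gf N53987 = N53987 := ded_47_1 (flp_h L728734) L709855 L728734
theorem L728743 : sm gg N53987 = N52754 := ded_50_1 L714359 (flp_g L709856) L728734
theorem L728745 : sm gj N53987 = N52190 := ded_52_1 (flp_h L709935) (flp_j L709858) L728734
theorem L728747 : sm gi N53987 = N53987 := ded_54_2 (flp_h L728734) (flp_i L709847) L688797 L709847 L728734
theorem L728748 : sm gd N52183 = N53988 := rfl
theorem L728750 : sm ga N53988 = N52302 := ded_12_1 (flp_d L710964) (flp_a L709862) L728748
theorem L728752 : sm gf N53988 = N52194 := ded_35_2 (flp_d L709977) (flp_f L709866) L728748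
theorem L728754 : sm gj N53988 = N52191 := ded_37_2 (flp_d L709947) (flp_j L709868) L728748
theorem L728756 : sm gi N53988 = N53988 := ded_39_2 (flp_d L728748) L709870 L728748
theorem L728757 : sm gc N53988 = N52756 := ded_27_1 (flp_d L714374) L694173 (flp_d L688832) (flp_c L709864) L728748
theorem L728759 : sm gh N52185 = N53989 := rfl
theorem L728761 : sm ga N53989 = N52188 := ded_17_1 (flp_h L709914) (flp_a L709888) L728759
theorem L728763 : sm gb N53989 = N52303 := ded_25_1 (flp_h L710971) (flp_b L709890) L728759
theorem L728765 : sm gc N53989 = N53989 := ded_32_1 (flp_h L728759) L709892 L728759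
theorem L728766 : sm gf N53989 = N52195 := ded_47_1 (flp_h L709987) (flp_f L709893) L728759
theorem L728768 : sm gg N53989 = N52735 := ded_50_1 L714205 (flp_g L709895) L728759
theorem L728770 : sm gi N53989 = N53989 := ded_54_2 (flp_h L728759) (flp_i L709886) L688842 L709886 L728759
theorem L728771 : sm gi N52186 = N53990 := rfl
theorem L728773 : sm gb N53990 = N52189 := ded_26_1 (flp_i L709924) (flp_b L709899) L728771
theorem L728775 : sm gd N53990 = N52187 := ded_39_1 (flp_i L709904) L709897 L728771
theorem L728777 : sm gf N53990 = N53990 := ded_48_1 (flp_i L728771) L709901 L728771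
theorem L728778 : sm gg N53990 = N52673 := ded_51_1 (flp_i L713714) (flp_g L709902) L728771
theorem L728780 : sm gh N52187 = N53991 := rfl
theorem L728782 : sm gb N53991 = N52190 := ded_25_1 (flp_h L709935) (flp_b L709906) L728780
theorem L728784 : sm gc N53991 = N53991 := ded_32_1 (flp_h L728780) L709908 L728780
theorem L728785 : sm ge N53991 = N52188 := ded_43_1 (flp_h L709914) (flp_e L709909) L728780
theorem L728787 : sm gf N53991 = N53991 := ded_47_1 (flp_h L728780) L709911 L728780
theorem L728788 : sm gg N53991 = N52753 := ded_50_1 L714348 (flp_g L709912) L728780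
theorem L728790 : sm gi N53991 = N53991 := ded_54_2 (flp_h L728780) (flp_i L709904) L688852 L709904 L728780
theorem L728791 : sm gd N52188 = N53992 := rfl
theorem L728793 : sm gb N53992 = N52191 := ded_20_1 (flp_d L709947) (flp_b L709916) L728791
theorem L728795 : sm gf N53992 = N52196 := ded_35_2 (flp_d L709998) (flp_f L709919) L728791
theorem L728797 : sm gg N53992 = N52763 := ded_36_2 L714426 (flp_g L709921) L728791
theorem L728799 : sm gi N53992 = N53992 := ded_39_2 (flp_d L728791) L709923 L728791
theorem L728800 : sm gh N52189 = N53993 := rfl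
theorem L728802 : sm ga N53993 = N52309 := ded_17_1 (flp_h L711014) (flp_a L709926) L728800
theorem L728804 : sm gc N53993 = N52679 := ded_32_1 (flp_h L713766) (flp_c L709928) L728800
theorem L728806 : sm gf N53993 = N53993 := ded_47_1 (flp_h L728800) L709932 L728800
theorem L728807 : sm gg N53993 = N52675 := ded_50_1 (flp_h L713733) (flp_g L709933) L728800
theorem L728809 : sm gd N52190 = N53994 := rfl
theorem L728811 : sm ga N53994 = N52310 := ded_12_1 (flp_d L711017) (flp_a L709937) L728809
theorem L728813 : sm gf N53994 = N53994 := ded_35_2 (flp_d L728809) L709943 L728809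
theorem L728814 : sm gg N53994 = N52756 := ded_36_2 (flp_d L714374) (flp_g L709944) L728809
theorem L728816 : sm gi N53994 = N53994 := ded_39_2 (flp_d L728809) L709946 L728809
theorem L728817 : sm ge N52191 = N53995 := rfl
theorem L728819 : sm ga N53995 = N52311 := ded_13_1 (flp_e L711021) (flp_a L709949) L728817
theorem L728821 : sm gc N53995 = N52762 := ded_28_1 (flp_e L714421) (flp_c L709954) L728817
theorem L728823 : sm gi N53995 = N53995 := ded_44_2 (flp_e L728817) L709953 L728817
theorem L728824 : sm gh N52192 = N53996 := rfl
theorem L728826 : sm ga N53996 = N52193 := ded_17_1 (flp_h L709967) (flp_a L709958) L728824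
theorem L728828 : sm gb N53996 = N52312 := ded_25_1 (flp_h L711024) (flp_b L709960) L728824
theorem L728830 : sm gc N53996 = N53996 := ded_32_1 (flp_h L728824) L709962 L728824
theorem L728831 : sm ge N53996 = N53996 := ded_43_1 (flp_h L728824) L709963 L728824
theorem L728832 : sm gg N53996 = N53996 := ded_50_1 (flp_h L728824) L709964 L728824
theorem L728833 : sm gj N53996 = N52195 := ded_52_1 (flp_h L709987) (flp_j L709965) L728824
theorem L728835 : sm gi N53996 = N53996 := ded_54_2 (flp_h L728824) (flp_i L709956) L688910 L709956 L728824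
theorem L728836 : sm gd N52193 = N53997 := rfl
theorem L728838 : sm gb N53997 = N52194 := ded_20_1 (flp_d L709977) (flp_b L709969) L728836
theorem L728840 : sm gg N53997 = N53997 := ded_36_2 (flp_d L728836) L709973 L728836
theorem L728841 : sm gj N53997 = N52196 := ded_37_2 (flp_d L709998) (flp_j L709974) L728836
theorem L728843 : sm gi N53997 = N53997 := ded_39_2 (flp_d L728836) L709976 L728836
theorem L728844 : sm ge N52194 = N53998 := rfl
theorem L728846 : sm ga N53998 = N52314 := ded_13_1 (flp_e L711045) (flp_a L709979) L728844
theorem L728848 : sm gc N53998 = N52742 := ded_28_1 L714272 (flp_c L709985) L728844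
theorem L728850 : sm gg N53998 = N53998 := ded_41_2 (flp_e L728844) L709981 L728844
theorem L728851 : sm gj N53998 = N52197 := ded_42_2 (flp_e L710005) (flp_j L709982) L728844
theorem L728853 : sm gi N53998 = N53998 := ded_44_2 (flp_e L728844) L709984 L728844
theorem L728854 : sm gd N53998 = N53998 := ded_34_1 (flp_e L728844) (flp_d L709977) L688928 L709977 L728844
theorem L728855 : sm ge N52196 = N53999 := rfl
theorem L728857 : sm gb N53999 = N52197 := ded_21_1 (flp_e L710005) (flp_b L710000) L728855
theorem L728859 : sm gc N53999 = N52765 := ded_28_1 (flp_e L727133) L727130 L728855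
theorem L728861 : sm gg N53999 = N52198 := ded_41_2 (flp_e L710015) (flp_g L710002) L728855
theorem L728863 : sm gi N53999 = N53999 := ded_44_2 (flp_e L728855) L710004 L728855
theorem L728864 : sm gd N53999 = N53999 := ded_34_1 (flp_e L728855) (flp_d L709998) L688948 L709998 L728855
theorem L728865 : sm gf N52197 = N54000 := rfl
theorem L728867 : sm ga N54000 = N52315 := ded_14_1 (flp_f L711052) (flp_a L710007) L728865
theorem L728869 : sm gc N54000 = N52763 := ded_29_1 (flp_f L714424) (flp_c L710009) L728865
theorem L728871 : sm gd N54000 = N54000 := ded_35_1 (flp_f L728865) L710014 L728865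
theorem L728872 : sm gi N54000 = N54000 := ded_48_2 (flp_f L728865) L710013 L728865
theorem L728873 : sm ga N52199 = N54001 := rfl
theorem L728875 : sm gc N54001 = N52578 := ded_11_2 (flp_a L713024) (flp_c L710035) L728873
theorem L728877 : sm gd N54001 = N54001 := ded_12_2 (flp_a L728873) L710028 L728873
theorem L728878 : sm gf N54001 = N52289 := ded_14_2 L710849 (flp_f L710029) L728873
theorem L728880 : sm gj N54001 = N52277 := ded_16_2 L710743 (flp_j L710031) L728873
theorem L728882 : sm gh N54001 = N52670 := ded_17_2 L713688 (flp_h L710033) L728873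
theorem L728884 : sm gb N54001 = N52281 := ded_10_2 (flp_a L719358) L719360 L699636 L710026 L728873
theorem L728886 : sm ge N52199 = N54002 := rfl
theorem L728888 : sm gb N54002 = N52200 := ded_21_1 (flp_e L710037) L710026 L728886
theorem L728890 : sm gc N54002 = N52579 := ded_28_1 (flp_e L713034) (flp_c L710035) L728886
theorem L728892 : sm gj N54002 = N52599 := ded_42_2 L713179 (flp_j L710031) L728886
theorem L728894 : sm gh N54002 = N52636 := ded_43_2 L713460 (flp_h L710033) L728886
theorem L728896 : sm gf N54002 = N52590 := ded_40_2 (flp_e L713103) L692491 L692604 (flp_f L710029) L728886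
theorem L728898 : sm gi N52199 = N54003 := rfl
theorem L728900 : sm gb N54003 = N52201 := ded_26_1 (flp_i L710047) L710026 L728898
theorem L728902 : sm gc N54003 = N52580 := ded_33_1 (flp_i L713038) (flp_c L710035) L728898
theorem L728904 : sm gd N54003 = N54003 := ded_39_1 (flp_i L728898) L710028 L728898
theorem L728905 : sm gf N54003 = N52613 := ded_48_1 (flp_i L713269) (flp_f L710029) L728898
theorem L728907 : sm gj N54003 = N52617 := ded_53_1 (flp_i L713311) (flp_j L710031) L728898
theorem L728909 : sm gd N52200 = N54004 := rfl
theorem L728911 : sm gf N54004 = N52592 := ded_35_2 (flp_d L713121) (flp_f L710045) L728909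
theorem L728913 : sm gj N54004 = N52602 := ded_37_2 L713197 (flp_j L710041) L728909
theorem L728915 : sm gc N54004 = N52214 := ded_27_1 (flp_d L710174) L689082 (flp_d L689007) (flp_c L710039) L728909
theorem L728917 : sm ge N54004 = N54004 := ded_34_2 (flp_d L728909) (flp_e L710037) L688998 L710037 L728909
theorem L728918 : sm gi N52200 = N54005 := rfl
theorem L728920 : sm gc N54005 = N52202 := ded_33_1 (flp_i L710056) (flp_c L710039) L728918
theorem L728922 : sm ge N54005 = N52201 := ded_44_1 (flp_i L710047) L710037 L728918
theorem L728924 : sm gf N54005 = N52593 := ded_48_1 (flp_i L713127) (flp_f L710045) L728918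
theorem L728926 : sm gj N54005 = N52606 := ded_53_1 (flp_i L713220) (flp_j L710041) L728918
theorem L728928 : sm gh N52201 = N54006 := rfl
theorem L728930 : sm gc N54006 = N52203 := ded_32_1 (flp_h L710068) (flp_c L710049) L728928
theorem L728932 : sm gf N54006 = N52615 := ded_47_1 (flp_h L713292) (flp_f L710052) L728928
theorem L728934 : sm gj N54006 = N52621 := ded_52_1 (flp_h L713346) (flp_j L710054) L728928
theorem L728936 : sm gi N54006 = N52675 := ded_54_2 (flp_h L713733) (flp_i L693035) (flp_h L688996) L710047 L728928
theorem L728938 : sm gh N52202 = N54007 := rfl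
theorem L728940 : sm gb N54007 = N52584 := ded_25_1 (flp_h L713064) (flp_b L710058) L728938
theorem L728942 : sm ge N54007 = N52203 := ded_43_1 (flp_h L710068) (flp_e L710062) L728938
theorem L728944 : sm gf N54007 = N52595 := ded_47_1 (flp_h L713145) (flp_f L710064) L728938
theorem L728946 : sm gj N54007 = N52610 := ded_52_1 (flp_h L713248) (flp_j L710066) L728938
theorem L728948 : sm gi N54007 = N52645 := ded_54_2 (flp_h L713532) (flp_i L692877) (flp_h L689005) L710056 L728938
theorem L728950 : sm ge N52204 = N54008 := rfl
theorem L728952 : sm gc N54008 = N52205 := ded_28_1 (flp_e L710086) L710078 L728950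
theorem L728954 : sm gg N54008 = N52208 := ded_41_2 (flp_e L710116) (flp_g L710081) L728950
theorem L728956 : sm gh N54008 = N52235 := ded_43_2 (flp_e L710393) (flp_h L710083) L728950
theorem L728958 : sm gi N52204 = N54009 := rfl
theorem L728960 : sm gc N54009 = N52206 := ded_33_1 (flp_i L710096) L710078 L728958
theorem L728962 : sm gd N54009 = N54009 := ded_39_1 (flp_i L728958) L710085 L728958
theorem L728963 : sm gf N54009 = N54009 := ded_48_1 (flp_i L728958) L710080 L728958
theorem L728964 : sm gg N54009 = N52209 := ded_51_1 (flp_i L710126) (flp_g L710081) L728958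
theorem L728966 : sm gi N52205 = N54010 := rfl
theorem L728968 : sm gb N54010 = N52588 := ded_26_1 (flp_i L713090) (flp_b L710088) L728966
theorem L728970 : sm gd N54010 = N52609 := ded_39_1 (flp_i L713242) (flp_d L710094) L728966
theorem L728972 : sm ge N54010 = N52206 := ded_44_1 (flp_i L710096) L710086 L728966
theorem L728974 : sm gg N54010 = N52210 := ded_51_1 (flp_i L710135) (flp_g L710090) L728966
theorem L728976 : sm gh N52206 = N54011 := rfl
theorem L728978 : sm gb N54011 = N52589 := ded_25_1 (flp_h L713096) (flp_b L710098) L728976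
theorem L728980 : sm gf N54011 = N54011 := ded_47_1 (flp_h L728976) L710102 L728976
theorem L728981 : sm gg N54011 = N52211 := ded_50_1 (flp_h L710147) (flp_g L710103) L728976
theorem L728983 : sm gi N54011 = N52239 := ded_54_2 (flp_h L710421) (flp_i L689325) (flp_h L689028) L710096 L728976
theorem L728985 : sm ge N52207 = N54012 := rfl
theorem L728987 : sm gb N54012 = N52208 := ded_21_1 (flp_e L710116) L710105 L728985
theorem L728989 : sm gc N54012 = N52590 := ded_28_1 (flp_e L713103) (flp_c L710114) L728985
theorem L728991 : sm gj N54012 = N52212 := ded_42_2 (flp_e L710157) (flp_j L710110) L728985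
theorem L728993 : sm gh N54012 = N52240 := ded_43_2 (flp_e L710428) (flp_h L710112) L728985
theorem L728995 : sm gf N54012 = N52579 := ded_40_2 (flp_e L713034) L692441 (flp_e L689122) (flp_f L710108) L728985
theorem L728997 : sm gi N52207 = N54013 := rfl
theorem L728999 : sm gb N54013 = N52209 := ded_26_1 (flp_i L710126) L710105 L728997
theorem L729001 : sm gc N54013 = N52591 := ded_33_1 (flp_i L713111) (flp_c L710114) L728997
theorem L729003 : sm gd N54013 = N54013 := ded_39_1 (flp_i L728997) L710107 L728997
theorem L729004 : sm gf N54013 = N52221 := ded_48_1 (flp_i L710233) (flp_f L710108) L728997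
theorem L729006 : sm gj N54013 = N52213 := ded_53_1 (flp_i L710165) (flp_j L710110) L728997
theorem L729008 : sm gd N52208 = N54014 := rfl
theorem L729010 : sm gf N54014 = N52581 := ded_35_2 (flp_d L713046) (flp_f L710124) L729008
theorem L729012 : sm gj N54014 = N52214 := ded_37_2 (flp_d L710174) (flp_j L710120) L729008
theorem L729014 : sm gc N54014 = N52602 := ded_27_1 L713197 L692557 (flp_d L689057) (flp_c L710118) L729008
theorem L729016 : sm ge N54014 = N54014 := ded_34_2 (flp_d L729008) (flp_e L710116) L689048 L710116 L729008
theorem L729017 : sm gi N52208 = N54015 := rfl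
theorem L729019 : sm gc N54015 = N52210 := ded_33_1 (flp_i L710135) (flp_c L710118) L729017
theorem L729021 : sm ge N54015 = N52209 := ded_44_1 (flp_i L710126) L710116 L729017
theorem L729023 : sm gf N54015 = N52582 := ded_48_1 (flp_i L713052) (flp_f L710124) L729017
theorem L729025 : sm gj N54015 = N52216 := ded_53_1 (flp_i L710187) (flp_j L710120) L729017
theorem L729027 : sm gh N52209 = N54016 := rfl
theorem L729029 : sm gc N54016 = N52211 := ded_32_1 (flp_h L710147) (flp_c L710128) L729027
theorem L729031 : sm gf N54016 = N52222 := ded_47_1 (flp_h L710245) (flp_f L710131) L729027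
theorem L729033 : sm gj N54016 = N52217 := ded_52_1 (flp_h L710193) (flp_j L710133) L729027
theorem L729035 : sm gi N54016 = N52245 := ded_54_2 (flp_h L710472) (flp_i L689350) (flp_h L689046) L710126 L729027
theorem L729037 : sm gh N52210 = N54017 := rfl
theorem L729039 : sm gb N54017 = N52595 := ded_25_1 (flp_h L713145) (flp_b L710137) L729037
theorem L729041 : sm ge N54017 = N52211 := ded_43_1 (flp_h L710147) (flp_e L710141) L729037
theorem L729043 : sm gf N54017 = N52584 := ded_47_1 (flp_h L713064) (flp_f L710143) L729037
theorem L729045 : sm gj N54017 = N52220 := ded_52_1 (flp_h L710225) (flp_j L710145) L729037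
theorem L729047 : sm gi N54017 = N52247 := ded_54_2 (flp_h L710492) (flp_i L689372) (flp_h L689055) L710135 L729037
theorem L729049 : sm gd N52212 = N54018 := rfl
theorem L729051 : sm gb N54018 = N52214 := ded_20_1 (flp_d L710174) (flp_b L710159) L729049
theorem L729053 : sm ge N54018 = N54018 := ded_34_2 (flp_d L729049) (flp_e L710157) L689073 L710157 L729049
theorem L729054 : sm gf N52212 = N54019 := rfl
theorem L729056 : sm ga N54019 = N52652 := ded_14_1 (flp_f L726596) L726586 L729054
theorem L729058 : sm gb N54019 = N52215 := ded_22_1 (flp_f L710177) (flp_b L710159) L729054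
theorem L729060 : sm gc N54019 = N52599 := ded_29_1 (flp_f L713173) (flp_c L710161) L729054
theorem L729062 : sm gj N54019 = N52579 := ded_46_2 (flp_f L728995) L728991 L729054
theorem L729064 : sm gh N54019 = N52251 := ded_47_2 (flp_f L710522) (flp_h L710163) L729054
theorem L729066 : sm ge N54019 = N52223 := ded_40_1 (flp_f L710256) (flp_e L689152) (flp_f L689074) L710157 L729054
theorem L729068 : sm gg N54019 = N52647 := ded_45_2 (flp_f L713544) (flp_g L707034) (flp_f L718154) L718150 L729054
theorem L729070 : sm gi N52212 = N54020 := rfl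
theorem L729072 : sm gb N54020 = N52216 := ded_26_1 (flp_i L710187) (flp_b L710159) L729070
theorem L729074 : sm gc N54020 = N52600 := ded_33_1 (flp_i L713181) (flp_c L710161) L729070
theorem L729076 : sm ge N54020 = N52213 := ded_44_1 (flp_i L710165) L710157 L729070
theorem L729078 : sm gh N52213 = N54021 := rfl
theorem L729080 : sm gb N54021 = N52217 := ded_25_1 (flp_h L710193) (flp_b L710167) L729078
theorem L729082 : sm gc N54021 = N52601 := ded_32_1 (flp_h L713187) (flp_c L710169) L729078
theorem L729084 : sm gf N54021 = N52225 := ded_47_1 (flp_h L710288) (flp_f L710172) L729078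
theorem L729086 : sm gi N54021 = N52253 := ded_54_2 (flp_h L710538) (flp_i L689402) (flp_h L689076) L710165 L729078
theorem L729088 : sm gf N52214 = N54022 := rfl
theorem L729090 : sm gc N54022 = N52592 := ded_29_1 (flp_f L728911) L728915 L729088
theorem L729092 : sm gd N54022 = N52215 := ded_35_1 (flp_f L710177) L710174 L729088
theorem L729094 : sm gj N54022 = N52581 := ded_46_2 (flp_f L729010) L729012 L729088
theorem L729096 : sm ge N52703 = N54022 := ded_28_0 L729090 L713125 (flp_c L713961)
theorem L729098 : sm gh N52214 = N54023 := rfl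
theorem L729100 : sm ge N54023 = N54023 := ded_43_1 (flp_h L729098) L710176 L729098
theorem L729101 : sm gd N54023 = N52255 := ded_38_1 (flp_h L710551) (flp_d L689412) (flp_h L689084) L710174 L729098
theorem L729103 : sm gi N52214 = N54024 := rfl
theorem L729105 : sm gd N54024 = N52216 := ded_39_1 (flp_i L710187) L710174 L729103
theorem L729107 : sm ge N54024 = N54024 := ded_44_1 (flp_i L729103) L710176 L729103
theorem L729108 : sm gi N52215 = N54025 := rfl
theorem L729110 : sm gc N54025 = N52219 := ded_33_1 (flp_i L710213) (flp_c L710179) L729108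
theorem L729112 : sm ge N54025 = N52226 := ded_44_1 (flp_i L710298) (flp_e L710185) L729108
theorem L729114 : sm gf N54025 = N52216 := ded_48_1 (flp_i L710187) L710177 L729108
theorem L729116 : sm gj N54025 = N52582 := ded_53_1 (flp_i L713052) (flp_j L710181) L729108
theorem L729118 : sm gh N52216 = N54026 := rfl
theorem L729120 : sm gc N54026 = N52220 := ded_32_1 (flp_h L710225) (flp_c L710189) L729118
theorem L729122 : sm ge N54026 = N52217 := ded_43_1 (flp_h L710193) (flp_e L710191) L729118
theorem L729124 : sm gi N54026 = N52259 := ded_54_2 (flp_h L710575) (flp_i L689422) (flp_h L689084) L710187 L729118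
theorem L729126 : sm gd N52217 = N54027 := rfl
theorem L729128 : sm gf N54027 = N52228 := ded_35_2 (flp_d L710320) (flp_f L710197) L729126
theorem L729130 : sm gi N54027 = N52260 := ded_39_2 (flp_d L710581) (flp_i L710199) L729126
theorem L729132 : sm gh N54027 = N54027 := ded_38_2 (flp_d L729126) (flp_h L710193) L689090 L710193 L729126
theorem L729133 : sm gi N52218 = N54028 := rfl
theorem L729135 : sm ga N54028 = N52523 := ded_18_1 (flp_i L712608) (flp_a L710203) L729133
theorem L729137 : sm gb N54028 = N52609 := ded_26_1 (flp_i L713242) (flp_b L710205) L729133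
theorem L729139 : sm gd N54028 = N52588 := ded_39_1 (flp_i L713090) (flp_d L710207) L729133
theorem L729141 : sm ge N54028 = N52229 := ded_44_1 (flp_i L710327) (flp_e L710209) L729133
theorem L729143 : sm gg N54028 = N52219 := ded_51_1 (flp_i L710213) L710201 L729133
theorem L729145 : sm gh N52219 = N54029 := rfl
theorem L729147 : sm gb N54029 = N52610 := ded_25_1 (flp_h L713248) (flp_b L710215) L729145
theorem L729149 : sm ge N54029 = N52230 := ded_43_1 (flp_h L710339) (flp_e L710219) L729145
theorem L729151 : sm gf N54029 = N52220 := ded_47_1 (flp_h L710225) (flp_f L710221) L729145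
theorem L729153 : sm gj N54029 = N52584 := ded_52_1 (flp_h L713064) (flp_j L710223) L729145
theorem L729155 : sm gi N54029 = N52263 := ded_54_2 (flp_h L710601) (flp_i L689440) (flp_h L689101) L710213 L729145
theorem L729157 : sm gd N52220 = N54030 := rfl
theorem L729159 : sm gb N54030 = N52611 := ded_20_1 (flp_d L713256) (flp_b L710227) L729157
theorem L729161 : sm gi N54030 = N52264 := ded_39_2 (flp_d L710609) (flp_i L710231) L729157
theorem L729163 : sm gh N52221 = N54031 := rfl
theorem L729165 : sm gb N54031 = N52222 := ded_25_1 (flp_h L710245) (flp_b L710235) L729163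
theorem L729167 : sm gc N54031 = N52614 := ded_32_1 (flp_h L713281) (flp_c L710237) L729163
theorem L729169 : sm ge N54031 = N52767 := ded_43_1 (flp_h L714456) (flp_e L710240) L729163
theorem L729171 : sm gg N54031 = N54031 := ded_50_1 (flp_h L729163) L710242 L729163
theorem L729172 : sm gj N54031 = N52225 := ded_52_1 (flp_h L710288) (flp_j L710243) L729163
theorem L729174 : sm gi N54031 = N52269 := ded_54_2 (flp_h L710661) (flp_i L689475) (flp_h L689127) L710233 L729163
theorem L729176 : sm gd N52222 = N54032 := rfl
theorem L729178 : sm gg N54032 = N54032 := ded_36_2 (flp_d L729176) L710251 L729176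
theorem L729179 : sm gj N54032 = N52228 := ded_37_2 (flp_d L710320) (flp_j L710252) L729176
theorem L729181 : sm gi N54032 = N52272 := ded_39_2 (flp_d L710690) (flp_i L710254) L729176
theorem L729183 : sm gh N54032 = N54032 := ded_38_2 (flp_d L729176) (flp_h L710245) L689135 L710245 L729176
theorem L729184 : sm gi N52223 = N54033 := rfl
theorem L729186 : sm ga N54033 = N52682 := ded_18_1 (flp_i L713787) (flp_a L710258) L729184
theorem L729188 : sm gb N54033 = N52226 := ded_26_1 (flp_i L710298) (flp_b L710260) L729184
theorem L729190 : sm gc N54033 = N52617 := ded_33_1 (flp_i L713311) (flp_c L710262) L729184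
theorem L729192 : sm gd N54033 = N52702 := ded_39_1 (flp_i L713943) (flp_d L710264) L729184
theorem L729194 : sm gf N54033 = N52224 := ded_48_1 (flp_i L710272) L710256 L729184
theorem L729196 : sm gg N54033 = N52680 := ded_51_1 (flp_i L713771) (flp_g L710270) L729184
theorem L729198 : sm gj N54033 = N52580 := ded_53_1 (flp_i L713038) (flp_j L710266) L729184
theorem L729200 : sm gh N52224 = N54034 := rfl
theorem L729202 : sm ga N54034 = N52692 := ded_17_1 (flp_h L713864) (flp_a L710274) L729200
theorem L729204 : sm gb N54034 = N52227 := ded_25_1 (flp_h L710308) (flp_b L710276) L729200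
theorem L729206 : sm gc N54034 = N52618 := ded_32_1 (flp_h L713318) (flp_c L710278) L729200
theorem L729208 : sm ge N54034 = N52225 := ded_43_1 (flp_h L710288) (flp_e L710282) L729200
theorem L729210 : sm gg N54034 = N52231 := ded_50_1 (flp_h L710349) (flp_g L710284) L729200
theorem L729212 : sm gj N54034 = N52767 := ded_52_1 (flp_h L714456) (flp_j L710286) L729200
theorem L729214 : sm gi N54034 = N52279 := ded_54_2 (flp_h L710763) (flp_i L689563) (flp_h L689164) L710272 L729200
theorem L729216 : sm gd N52225 = N54035 := rfl
theorem L729218 : sm gb N54035 = N52228 := ded_20_1 (flp_d L710320) (flp_b L710290) L729216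
theorem L729220 : sm gg N54035 = N52232 := ded_36_2 (flp_d L710364) (flp_g L710294) L729216
theorem L729222 : sm gi N54035 = N52280 := ded_39_2 (flp_d L710773) (flp_i L710296) L729216
theorem L729224 : sm gh N54035 = N54035 := ded_38_2 (flp_d L729216) (flp_h L710288) L689174 L710288 L729216
theorem L729225 : sm gh N52226 = N54036 := rfl
theorem L729227 : sm gc N54036 = N52230 := ded_32_1 (flp_h L710339) (flp_c L710300) L729225
theorem L729229 : sm gf N54036 = N52227 := ded_47_1 (flp_h L710308) (flp_f L710304) L729225
theorem L729231 : sm gj N54036 = N52583 := ded_52_1 (flp_h L713058) (flp_j L710306) L729225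
theorem L729233 : sm gi N54036 = N52283 := ded_54_2 (flp_h L710797) (flp_i L689589) (flp_h L689185) L710298 L729225
theorem L729235 : sm gh N52229 = N54037 := rfl
theorem L729237 : sm ga N54037 = N52524 := ded_17_1 (flp_h L712614) (flp_a L710329) L729235
theorem L729239 : sm gb N54037 = N52624 := ded_25_1 (flp_h L713369) (flp_b L710331) L729235
theorem L729241 : sm gf N54037 = N52234 := ded_47_1 (flp_h L710383) (flp_f L710335) L729235
theorem L729243 : sm gg N54037 = N52230 := ded_50_1 (flp_h L710339) (flp_g L710337) L729235
theorem L729245 : sm gi N54037 = N52287 := ded_54_2 (flp_h L710824) (flp_i L689618) (flp_h L689215) L710327 L729235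
theorem L729247 : sm gh N52233 = N54038 := rfl
theorem L729249 : sm ga N54038 = N52533 := ded_17_1 (flp_h L712678) (flp_a L710374) L729247
theorem L729251 : sm gb N54038 = N52629 := ded_25_1 (flp_h L713409) (flp_b L710376) L729247
theorem L729253 : sm gg N54038 = N54038 := ded_50_1 (flp_h L729247) L710380 L729247
theorem L729254 : sm gj N54038 = N52234 := ded_52_1 (flp_h L710383) (flp_j L710381) L729247
theorem L729256 : sm gi N54038 = N52296 := ded_54_2 (flp_h L710915) (flp_i L689727) (flp_h L689288) L710372 L729247
theorem L729258 : sm gf N52235 = N54039 := rfl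
theorem L729260 : sm gc N54039 = N52237 := ded_29_1 (flp_f L710408) (flp_c L710395) L729258
theorem L729262 : sm ge N54039 = N54039 := ded_40_1 (flp_f L729258) (flp_e L710393) L689314 L710393 L729258
theorem L729263 : sm gi N52235 = N54040 := rfl
theorem L729265 : sm gc N54040 = N52238 := ded_33_1 (flp_i L710413) (flp_c L710395) L729263
theorem L729267 : sm ge N54040 = N52236 := ded_44_1 (flp_i L710399) L710393 L729263
theorem L729269 : sm gg N54040 = N52244 := ded_51_1 (flp_i L710464) (flp_g L710397) L729263
theorem L729271 : sm gh N52236 = N54041 := rfl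
theorem L729273 : sm gc N54041 = N52239 := ded_32_1 (flp_h L710421) (flp_c L710401) L729271
theorem L729275 : sm gf N54041 = N54041 := ded_47_1 (flp_h L729271) L710405 L729271
theorem L729276 : sm gg N54041 = N52245 := ded_50_1 (flp_h L710472) (flp_g L710406) L729271
theorem L729278 : sm gi N52237 = N54042 := rfl
theorem L729280 : sm gb N54042 = N52634 := ded_26_1 (flp_i L713441) (flp_b L710410) L729278
theorem L729282 : sm ge N54042 = N54042 := ded_44_1 (flp_i L729278) L710412 L729278
theorem L729283 : sm gf N54042 = N52238 := ded_48_1 (flp_i L710413) L710408 L729278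
theorem L729285 : sm gh N52238 = N54043 := rfl
theorem L729287 : sm gb N54043 = N52635 := ded_25_1 (flp_h L713446) (flp_b L710415) L729285
theorem L729289 : sm ge N54043 = N52239 := ded_43_1 (flp_h L710421) (flp_e L710417) L729285
theorem L729291 : sm gg N54043 = N52247 := ded_50_1 (flp_h L710492) (flp_g L710419) L729285
theorem L729293 : sm gf N52240 = N54044 := rfl
theorem L729295 : sm gb N54044 = N52243 := ded_22_1 (flp_f L710454) (flp_b L710430) L729293
theorem L729297 : sm gc N54044 = N52636 := ded_29_1 (flp_f L713452) (flp_c L710432) L729293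
theorem L729299 : sm gj N54044 = N52251 := ded_46_2 (flp_f L710522) (flp_j L710434) L729293
theorem L729301 : sm gh N54044 = N52579 := ded_47_2 (flp_f L728995) L728993 L729293
theorem L729303 : sm ge N54044 = N52267 := ded_40_1 (flp_f L710638) (flp_e L689463) (flp_f L689338) L710428 L729293
theorem L729305 : sm gi N52240 = N54045 := rfl
theorem L729307 : sm gb N54045 = N52244 := ded_26_1 (flp_i L710464) (flp_b L710430) L729305
theorem L729309 : sm gc N54045 = N52637 := ded_33_1 (flp_i L713462) (flp_c L710432) L729305
theorem L729311 : sm ge N54045 = N52241 := ded_44_1 (flp_i L710436) L710428 L729305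
theorem L729313 : sm gj N54045 = N52252 := ded_53_1 (flp_i L710530) (flp_j L710434) L729305
theorem L729315 : sm gh N52241 = N54046 := rfl
theorem L729317 : sm gb N54046 = N52245 := ded_25_1 (flp_h L710472) (flp_b L710438) L729315
theorem L729319 : sm gc N54046 = N52638 := ded_32_1 (flp_h L713472) (flp_c L710440) L729315
theorem L729321 : sm gf N54046 = N52269 := ded_47_1 (flp_h L710661) (flp_f L710444) L729315
theorem L729323 : sm gj N54046 = N52253 := ded_52_1 (flp_h L710538) (flp_j L710446) L729315
theorem L729325 : sm gf N52242 = N54047 := rfl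
theorem L729327 : sm gc N54047 = N52417 := ded_29_1 L716422 L716414 L729325
theorem L729329 : sm gd N54047 = N52243 := ded_35_1 (flp_f L710454) L710448 L729325
theorem L729331 : sm gj N54047 = N52254 := ded_46_2 (flp_f L710546) (flp_j L710450) L729325
theorem L729333 : sm ge N54047 = N54047 := ded_40_1 (flp_f L729325) L710452 L689780 (flp_e L710452) L729325
theorem L729334 : sm gh N52242 = N54048 := rfl
theorem L729336 : sm ge N54048 = N52299 := ded_43_1 (flp_h L710941) (flp_e L710452) L729334
theorem L729338 : sm gj N54048 = N52255 := ded_52_1 (flp_h L710551) (flp_j L710450) L729334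
theorem L729340 : sm gi N52242 = N54049 := rfl
theorem L729342 : sm gd N54049 = N52244 := ded_39_1 (flp_i L710464) L710448 L729340
theorem L729344 : sm ge N54049 = N52300 := ded_44_1 (flp_i L710947) (flp_e L710452) L729340
theorem L729346 : sm gj N54049 = N52256 := ded_53_1 (flp_i L710555) (flp_j L710450) L729340
theorem L729348 : sm gi N52243 = N54050 := rfl
theorem L729350 : sm gc N54050 = N52246 := ded_33_1 (flp_i L710480) (flp_c L710456) L729348
theorem L729352 : sm ge N54050 = N52270 := ded_44_1 (flp_i L710670) (flp_e L710462) L729348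
theorem L729354 : sm gf N54050 = N52244 := ded_48_1 (flp_i L710464) L710454 L729348
theorem L729356 : sm gj N54050 = N52258 := ded_53_1 (flp_i L710567) (flp_j L710458) L729348
theorem L729358 : sm gh N52244 = N54051 := rfl
theorem L729360 : sm gc N54051 = N52247 := ded_32_1 (flp_h L710492) (flp_c L710466) L729358
theorem L729362 : sm ge N54051 = N52245 := ded_43_1 (flp_h L710472) (flp_e L710468) L729358
theorem L729364 : sm gj N54051 = N52259 := ded_52_1 (flp_h L710575) (flp_j L710470) L729358
theorem L729366 : sm gd N52245 = N54052 := rfl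
theorem L729368 : sm gf N54052 = N52272 := ded_35_2 (flp_d L710690) (flp_f L710476) L729366
theorem L729370 : sm gj N54052 = N52260 := ded_37_2 (flp_d L710581) (flp_j L710478) L729366
theorem L729372 : sm gh N54052 = N52302 := ded_38_2 (flp_d L710964) (flp_h L689792) (flp_d L689354) L710472 L729366
theorem L729374 : sm gh N52246 = N54053 := rfl
theorem L729376 : sm gb N54053 = N52645 := ded_25_1 (flp_h L713532) (flp_b L710482) L729374
theorem L729378 : sm ge N54053 = N52273 := ded_43_1 (flp_h L710697) (flp_e L710486) L729374
theorem L729380 : sm gf N54053 = N52247 := ded_47_1 (flp_h L710492) (flp_f L710488) L729374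
theorem L729382 : sm gj N54053 = N52263 := ded_52_1 (flp_h L710601) (flp_j L710490) L729374
theorem L729384 : sm gi N54053 = N52584 := ded_54_2 (flp_h L713064) (flp_i L692455) (flp_h L689368) L710480 L729374
theorem L729386 : sm gd N52247 = N54054 := rfl
theorem L729388 : sm gb N54054 = N52646 := ded_20_1 (flp_d L713540) (flp_b L710494) L729386
theorem L729390 : sm gj N54054 = N52264 := ded_37_2 (flp_d L710609) (flp_j L710498) L729386
theorem L729392 : sm gf N52248 = N54055 := rfl
theorem L729394 : sm ga N54055 = N52251 := ded_14_1 (flp_f L710522) (flp_a L710502) L729392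
theorem L729396 : sm gb N54055 = N52605 := ded_22_1 (flp_f L726006) L725998 L729392
theorem L729398 : sm gc N54055 = N52647 := ded_29_1 (flp_f L713544) (flp_c L710504) L729392
theorem L729400 : sm gh N54055 = N52652 := ded_47_2 (flp_f L726596) L726594 L729392
theorem L729402 : sm ge N54055 = N52274 := ded_40_1 (flp_f L710707) (flp_e L689533) (flp_f L689394) L710500 L729392
theorem L729404 : sm gg N54055 = N52599 := ded_45_2 (flp_f L713173) (flp_g L706587) (flp_f L718637) L718633 L729392
theorem L729406 : sm gi N52248 = N54056 := rfl
theorem L729408 : sm ga N54056 = N52252 := ded_18_1 (flp_i L710530) (flp_a L710502) L729406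
theorem L729410 : sm gc N54056 = N52648 := ded_33_1 (flp_i L713550) (flp_c L710504) L729406
theorem L729412 : sm ge N54056 = N52249 := ded_44_1 (flp_i L710506) L710500 L729406
theorem L729414 : sm gh N52249 = N54057 := rfl
theorem L729416 : sm ga N54057 = N52253 := ded_17_1 (flp_h L710538) (flp_a L710508) L729414
theorem L729418 : sm gc N54057 = N52649 := ded_32_1 (flp_h L713556) (flp_c L710510) L729414
theorem L729420 : sm gf N54057 = N52276 := ded_47_1 (flp_h L710733) (flp_f L710514) L729414
theorem L729422 : sm gf N52250 = N54058 := rfl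
theorem L729424 : sm gb N54058 = N52254 := ded_22_1 (flp_f L710546) (flp_b L710518) L729422
theorem L729426 : sm gd N54058 = N52251 := ded_35_1 (flp_f L710522) L710516 L729422
theorem L729428 : sm ge N54058 = N54058 := ded_40_1 (flp_f L729422) L710520 L689823 (flp_e L710520) L729422
theorem L729429 : sm gh N52250 = N54059 := rfl
theorem L729431 : sm gb N54059 = N52255 := ded_25_1 (flp_h L710551) (flp_b L710518) L729429
theorem L729433 : sm ge N54059 = N52304 := ded_43_1 (flp_h L710980) (flp_e L710520) L729429
theorem L729435 : sm gi N52250 = N54060 := rfl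
theorem L729437 : sm gb N54060 = N52256 := ded_26_1 (flp_i L710555) (flp_b L710518) L729435
theorem L729439 : sm gd N54060 = N52252 := ded_39_1 (flp_i L710530) L710516 L729435
theorem L729441 : sm ge N54060 = N52305 := ded_44_1 (flp_i L710986) (flp_e L710520) L729435
theorem L729443 : sm gg N52251 = N54061 := rfl
theorem L729445 : sm ga N54061 = N52599 := ded_15_1 (flp_g L729404) L729394 L729443
theorem L729447 : sm gb N54061 = N52257 := ded_23_1 (flp_g L710561) (flp_b L710524) L729443
theorem L729449 : sm gc N54061 = N52652 := ded_30_1 (flp_g L713582) (flp_c L710526) L729443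
theorem L729451 : sm ge N54061 = N52277 := ded_41_1 (flp_g L710741) (flp_e L710528) L729443
theorem L729453 : sm gh N54061 = N52647 := ded_50_2 (flp_g L729068) L729064 L729443
theorem L729455 : sm gf N54061 = N52596 := ded_45_1 L718683 (flp_f L718667) L698980 L710522 L729443
theorem L729457 : sm gi N52251 = N54062 := rfl
theorem L729459 : sm gb N54062 = N52258 := ded_26_1 (flp_i L710567) (flp_b L710524) L729457
theorem L729461 : sm gc N54062 = N52653 := ded_33_1 (flp_i L713588) (flp_c L710526) L729457
theorem L729463 : sm ge N54062 = N52278 := ded_44_1 (flp_i L710754) (flp_e L710528) L729457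
theorem L729465 : sm gf N54062 = N52252 := ded_48_1 (flp_i L710530) L710522 L729457
theorem L729467 : sm gh N52252 = N54063 := rfl
theorem L729469 : sm gb N54063 = N52259 := ded_25_1 (flp_h L710575) (flp_b L710532) L729467
theorem L729471 : sm gc N54063 = N52654 := ded_32_1 (flp_h L713596) (flp_c L710534) L729467
theorem L729473 : sm ge N54063 = N52253 := ded_43_1 (flp_h L710538) (flp_e L710536) L729467
theorem L729475 : sm gd N52253 = N54064 := rfl
theorem L729477 : sm gb N54064 = N52260 := ded_20_1 (flp_d L710581) (flp_b L710540) L729475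
theorem L729479 : sm gf N54064 = N52280 := ded_35_2 (flp_d L710773) (flp_f L710544) L729475
theorem L729481 : sm gh N54064 = N52307 := ded_38_2 (flp_d L711003) (flp_h L689833) (flp_d L689408) L710538 L729475
theorem L729483 : sm gg N52254 = N54065 := rfl
theorem L729485 : sm ga N54065 = N52630 := ded_15_1 (flp_g L728523) L728516 L729483
theorem L729487 : sm gc N54065 = N52555 := ded_30_1 (flp_g L727753) L727746 L729483
theorem L729489 : sm gd N54065 = N52257 := ded_36_1 (flp_g L710561) (flp_d L710548) L729483
theorem L729491 : sm ge N54065 = N54065 := ded_41_1 (flp_g L729483) L710550 L729483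
theorem L729492 : sm gf N54065 = N52553 := ded_45_1 L712839 L699006 L698998 L710546 L729483
theorem L729494 : sm gh N52254 = N54066 := rfl
theorem L729496 : sm ge N54066 = N54066 := ded_43_1 (flp_h L729494) L710550 L729494
theorem L729497 : sm gf N54066 = N52255 := ded_47_1 (flp_h L710551) L710546 L729494
theorem L729499 : sm gi N52254 = N54067 := rfl
theorem L729501 : sm gd N54067 = N52258 := ded_39_1 (flp_i L710567) (flp_d L710548) L729499
theorem L729503 : sm ge N54067 = N54067 := ded_44_1 (flp_i L729499) L710550 L729499
theorem L729504 : sm gf N54067 = N52256 := ded_48_1 (flp_i L710555) L710546 L729499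
theorem L729506 : sm gi N52255 = N54068 := rfl
theorem L729508 : sm ge N54068 = N52308 := ded_44_1 (flp_i L711010) (flp_e L710553) L729506
theorem L729510 : sm gh N52256 = N54069 := rfl
theorem L729512 : sm ge N54069 = N52309 := ded_43_1 (flp_h L711014) (flp_e L710559) L729510
theorem L729514 : sm gj N52257 = N54070 := rfl
theorem L729516 : sm gc N54070 = N52261 := ded_31_1 (flp_j L710587) (flp_c L710563) L729514
theorem L729518 : sm ge N54070 = N52281 := ded_42_1 (flp_j L710781) (flp_e L710565) L729514
theorem L729520 : sm gi N52257 = N54071 := rfl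
theorem L729522 : sm gc N54071 = N52262 := ded_33_1 (flp_i L710593) (flp_c L710563) L729520
theorem L729524 : sm ge N54071 = N52282 := ded_44_1 (flp_i L710788) (flp_e L710565) L729520
theorem L729526 : sm gg N54071 = N52258 := ded_51_1 (flp_i L710567) L710561 L729520
theorem L729528 : sm gh N52258 = N54072 := rfl
theorem L729530 : sm gc N54072 = N52263 := ded_32_1 (flp_h L710601) (flp_c L710569) L729528
theorem L729532 : sm ge N54072 = N52283 := ded_43_1 (flp_h L710797) (flp_e L710571) L729528
theorem L729534 : sm gf N54072 = N52259 := ded_47_1 (flp_h L710575) (flp_f L710573) L729528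
theorem L729536 : sm gd N52259 = N54073 := rfl
theorem L729538 : sm ge N52260 = N54074 := rfl
theorem L729540 : sm gh N54074 = N52311 := ded_43_2 (flp_e L711021) (flp_h L710585) L729538
theorem L729542 : sm gi N52261 = N54075 := rfl
theorem L729544 : sm gb N54075 = N52666 := ded_26_1 (flp_i L713668) (flp_b L710589) L729542
theorem L729546 : sm ge N54075 = N52286 := ded_44_1 (flp_i L710814) (flp_e L710591) L729542
theorem L729548 : sm gj N54075 = N52262 := ded_53_1 (flp_i L710593) L710587 L729542
theorem L729550 : sm gh N52262 = N54076 := rfl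
theorem L729552 : sm gb N54076 = N52667 := ded_25_1 (flp_h L713674) (flp_b L710595) L729550
theorem L729554 : sm ge N54076 = N52287 := ded_43_1 (flp_h L710824) (flp_e L710597) L729550
theorem L729556 : sm gg N54076 = N52263 := ded_50_1 (flp_h L710601) (flp_g L710599) L729550
theorem L729558 : sm gd N52263 = N54077 := rfl
theorem L729560 : sm gb N54077 = N52668 := ded_20_1 (flp_d L713680) (flp_b L710603) L729558
theorem L729562 : sm gf N54077 = N52264 := ded_35_2 (flp_d L710609) (flp_f L710607) L729558
theorem L729564 : sm gc N52264 = N54078 := rfl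
theorem L729566 : sm gf N52265 = N54079 := rfl
theorem L729568 : sm ga N54079 = N52267 := ded_14_1 (flp_f L710638) (flp_a L710615) L729566
theorem L729570 : sm gb N54079 = N52619 := ded_22_1 L713333 (flp_b L710617) L729566
theorem L729572 : sm gc N54079 = N52670 := ded_29_1 (flp_f L713686) (flp_c L710619) L729566
theorem L729574 : sm gd N54079 = N54079 := ded_35_1 (flp_f L729566) L710626 L729566
theorem L729575 : sm gj N54079 = N52274 := ded_46_2 (flp_f L710707) (flp_j L710622) L729566
theorem L729577 : sm gh N54079 = N52578 := ded_47_2 L713028 (flp_h L710624) L729566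
theorem L729579 : sm gi N52265 = N54080 := rfl
theorem L729581 : sm ga N54080 = N52268 := ded_18_1 (flp_i L710649) (flp_a L710615) L729579
theorem L729583 : sm gb N54080 = N52626 := ded_26_1 (flp_i L713385) (flp_b L710617) L729579
theorem L729585 : sm gc N54080 = N52671 := ded_33_1 (flp_i L713694) (flp_c L710619) L729579
theorem L729587 : sm gd N54080 = N54080 := ded_39_1 (flp_i L729579) L710626 L729579
theorem L729588 : sm ge N54080 = N52266 := ded_44_1 (flp_i L710627) L710613 L729579
theorem L729590 : sm gg N54080 = N54080 := ded_51_1 (flp_i L729579) L710621 L729579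
theorem L729591 : sm gj N54080 = N52275 := ded_53_1 (flp_i L710720) (flp_j L710622) L729579
theorem L729593 : sm gh N52266 = N54081 := rfl
theorem L729595 : sm ga N54081 = N52269 := ded_17_1 (flp_h L710661) (flp_a L710629) L729593
theorem L729597 : sm gc N54081 = N52672 := ded_32_1 (flp_h L713705) (flp_c L710631) L729593
theorem L729599 : sm gg N54081 = N54081 := ded_50_1 (flp_h L729593) L710635 L729593
theorem L729600 : sm gj N54081 = N52276 := ded_52_1 (flp_h L710733) (flp_j L710636) L729593
theorem L729602 : sm gi N52267 = N54082 := rfl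
theorem L729604 : sm gb N54082 = N52270 := ded_26_1 (flp_i L710670) (flp_b L710640) L729602
theorem L729606 : sm gc N54082 = N52673 := ded_33_1 (flp_i L713714) (flp_c L710642) L729602
theorem L729608 : sm gd N54082 = N54082 := ded_39_1 (flp_i L729602) L710644 L729602
theorem L729609 : sm gf N54082 = N52268 := ded_48_1 (flp_i L710649) L710638 L729602
theorem L729611 : sm gj N54082 = N52278 := ded_53_1 (flp_i L710754) (flp_j L710645) L729602
theorem L729613 : sm gh N52268 = N54083 := rfl
theorem L729615 : sm gb N54083 = N52271 := ded_25_1 (flp_h L710679) (flp_b L710651) L729613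
theorem L729617 : sm gc N54083 = N52674 := ded_32_1 (flp_h L713724) (flp_c L710653) L729613
theorem L729619 : sm ge N54083 = N52269 := ded_43_1 (flp_h L710661) (flp_e L710656) L729613
theorem L729621 : sm gg N54083 = N54083 := ded_50_1 (flp_h L729613) L710658 L729613
theorem L729622 : sm gj N54083 = N52279 := ded_52_1 (flp_h L710763) (flp_j L710659) L729613
theorem L729624 : sm gi N54083 = N52767 := ded_54_2 (flp_h L714456) (flp_i L694348) (flp_h L689472) L710649 L729613
theorem L729626 : sm gd N52269 = N54084 := rfl
theorem L729628 : sm gb N54084 = N52272 := ded_20_1 (flp_d L710690) (flp_b L710663) L729626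
theorem L729630 : sm gg N54084 = N54084 := ded_36_2 (flp_d L729626) L710667 L729626
theorem L729631 : sm gj N54084 = N52280 := ded_37_2 (flp_d L710773) (flp_j L710668) L729626
theorem L729633 : sm gc N54084 = N52725 := ded_27_1 (flp_d L714105) L693740 (flp_d L693033) (flp_c L710665) L729626
theorem L729635 : sm gh N54084 = N52313 := ded_38_2 (flp_d L711035) (flp_h L689874) (flp_d L689481) L710661 L729626
theorem L729637 : sm gh N52270 = N54085 := rfl
theorem L729639 : sm gc N54085 = N52273 := ded_32_1 (flp_h L710697) (flp_c L710672) L729637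
theorem L729641 : sm gf N54085 = N52271 := ded_47_1 (flp_h L710679) (flp_f L710675) L729637
theorem L729643 : sm gj N54085 = N52283 := ded_52_1 (flp_h L710797) (flp_j L710677) L729637
theorem L729645 : sm gi N54085 = N52583 := ded_54_2 (flp_h L713058) (flp_i L692447) (flp_h L689493) L710670 L729637
theorem L729647 : sm gd N52271 = N54086 := rfl
theorem L729649 : sm gg N54086 = N54086 := ded_36_2 (flp_d L729647) L710685 L729647
theorem L729650 : sm gj N54086 = N52284 := ded_37_2 (flp_d L710803) (flp_j L710686) L729647
theorem L729652 : sm gi N54086 = N52768 := ded_39_2 (flp_d L714461) (flp_i L710688) L729647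
theorem L729654 : sm gh N54086 = N54086 := ded_38_2 (flp_d L729647) (flp_h L710679) L689499 L710679 L729647
theorem L729655 : sm ge N52272 = N54087 := rfl
theorem L729657 : sm gg N54087 = N54087 := ded_41_2 (flp_e L729655) L710692 L729655
theorem L729658 : sm gj N54087 = N52285 := ded_42_2 (flp_e L710808) (flp_j L710693) L729655
theorem L729660 : sm gh N54087 = N52314 := ded_43_2 (flp_e L711045) (flp_h L710695) L729655
theorem L729662 : sm gi N52274 = N54088 := rfl
theorem L729664 : sm ga N54088 = N52278 := ded_18_1 (flp_i L710754) (flp_a L710709) L729662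
theorem L729666 : sm gb N54088 = N52620 := ded_26_1 (flp_i L713337) (flp_b L710711) L729662
theorem L729668 : sm gc N54088 = N52680 := ded_33_1 (flp_i L713771) (flp_c L710713) L729662
theorem L729670 : sm gd N54088 = N54088 := ded_39_1 (flp_i L729662) L710715 L729662
theorem L729671 : sm gf N54088 = N52275 := ded_48_1 (flp_i L710720) L710707 L729662
theorem L729673 : sm gg N54088 = N52617 := ded_51_1 (flp_i L713311) (flp_g L710718) L729662
theorem L729675 : sm gh N52275 = N54089 := rfl
theorem L729677 : sm ga N54089 = N52279 := ded_17_1 (flp_h L710763) (flp_a L710722) L729675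
theorem L729679 : sm gb N54089 = N52627 := ded_25_1 (flp_h L713393) (flp_b L710724) L729675
theorem L729681 : sm gc N54089 = N52681 := ded_32_1 (flp_h L713779) (flp_c L710726) L729675
theorem L729683 : sm ge N54089 = N52276 := ded_43_1 (flp_h L710733) (flp_e L710729) L729675
theorem L729685 : sm gg N54089 = N52288 := ded_50_1 (flp_h L710832) (flp_g L710731) L729675
theorem L729687 : sm gi N54089 = N52692 := ded_54_2 (flp_h L713864) (flp_i L693205) (flp_h L689543) L710720 L729675
theorem L729689 : sm gi N52277 = N54090 := rfl
theorem L729691 : sm ga N54090 = N52617 := ded_18_1 (flp_i L713311) (flp_a L710743) L729689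
theorem L729693 : sm gb N54090 = N52282 := ded_26_1 (flp_i L710788) (flp_b L710745) L729689
theorem L729695 : sm gc N54090 = N52682 := ded_33_1 (flp_i L713787) (flp_c L710747) L729689
theorem L729697 : sm gd N54090 = N54090 := ded_39_1 (flp_i L729689) L710749 L729689
theorem L729698 : sm gf N54090 = N52290 := ded_48_1 (flp_i L710861) (flp_f L710752) L729689
theorem L729700 : sm gg N54090 = N52278 := ded_51_1 (flp_i L710754) L710741 L729689
theorem L729702 : sm gh N52278 = N54091 := rfl
theorem L729704 : sm gb N54091 = N52283 := ded_25_1 (flp_h L710797) (flp_b L710756) L729702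
theorem L729706 : sm gc N54091 = N52683 := ded_32_1 (flp_h L713797) (flp_c L710758) L729702
theorem L729708 : sm gf N54091 = N52279 := ded_47_1 (flp_h L710763) (flp_f L710761) L729702
theorem L729710 : sm gd N52279 = N54092 := rfl
theorem L729712 : sm gb N54092 = N52284 := ded_20_1 (flp_d L710803) (flp_b L710765) L729710
theorem L729714 : sm gg N54092 = N52292 := ded_36_2 (flp_d L710889) (flp_g L710771) L729710
theorem L729716 : sm gh N54092 = N54092 := ded_38_2 (flp_d L729710) (flp_h L710763) L689569 L710763 L729710
theorem L729717 : sm gi N52281 = N54093 := rfl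
theorem L729719 : sm gc N54093 = N52286 := ded_33_1 (flp_i L710814) (flp_c L710783) L729717
theorem L729721 : sm gd N54093 = N54093 := ded_39_1 (flp_i L729717) L710785 L729717
theorem L729722 : sm gf N54093 = N52293 := ded_48_1 (flp_i L710895) (flp_f L710786) L729717
theorem L729724 : sm gj N54093 = N52282 := ded_53_1 (flp_i L710788) L710781 L729717
theorem L729726 : sm gh N52282 = N54094 := rfl
theorem L729728 : sm gc N54094 = N52287 := ded_32_1 (flp_h L710824) (flp_c L710790) L729726
theorem L729730 : sm gf N54094 = N52294 := ded_47_1 (flp_h L710903) (flp_f L710793) L729726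
theorem L729732 : sm gg N54094 = N52283 := ded_50_1 (flp_h L710797) (flp_g L710795) L729726
theorem L729734 : sm gd N52283 = N54095 := rfl
theorem L729736 : sm gf N54095 = N52284 := ded_35_2 (flp_d L710803) (flp_f L710801) L729734
theorem L729738 : sm gh N54095 = N54095 := ded_38_2 (flp_d L729734) (flp_h L710797) L689593 L710797 L729734
theorem L729739 : sm gf N52285 = N54096 := rfl
theorem L729741 : sm gh N54096 = N52315 := ded_47_2 (flp_f L711052) (flp_h L710812) L729739
theorem L729743 : sm gh N52286 = N54097 := rfl
theorem L729745 : sm gb N54097 = N52690 := ded_25_1 (flp_h L713847) (flp_b L710816) L729743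
theorem L729747 : sm gf N54097 = N52296 := ded_47_1 (flp_h L710915) (flp_f L710820) L729743
theorem L729749 : sm gj N54097 = N52287 := ded_52_1 (flp_h L710824) (flp_j L710822) L729743
theorem L729751 : sm gd N52288 = N54098 := rfl
theorem L729753 : sm ga N54098 = N52292 := ded_12_1 (flp_d L710889) (flp_a L710834) L729751
theorem L729755 : sm gb N54098 = N52628 := ded_20_1 (flp_d L713401) (flp_b L710836) L729751
theorem L729757 : sm gf N54098 = N52625 := ded_35_2 (flp_d L713377) (flp_f L710842) L729751
theorem L729759 : sm gj N54098 = N54098 := ded_37_2 (flp_d L729751) L710844 L729751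
theorem L729760 : sm gi N54098 = N52693 := ded_39_2 (flp_d L713870) (flp_i L710845) L729751
theorem L729762 : sm gh N54098 = N54098 := ded_38_2 (flp_d L729751) (flp_h L710832) L689642 L710832 L729751
theorem L729763 : sm gi N52289 = N54099 := rfl
theorem L729765 : sm ga N54099 = N52613 := ded_18_1 (flp_i L713269) (flp_a L710849) L729763
theorem L729767 : sm gb N54099 = N52293 := ded_26_1 (flp_i L710895) (flp_b L710851) L729763
theorem L729769 : sm gc N54099 = N52691 := ded_33_1 (flp_i L713853) (flp_c L710853) L729763
theorem L729771 : sm gd N54099 = N54099 := ded_39_1 (flp_i L729763) L710855 L729763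
theorem L729772 : sm ge N54099 = N52612 := ded_44_1 (flp_i L713260) (flp_e L710856) L729763
theorem L729774 : sm gg N54099 = N54099 := ded_51_1 (flp_i L729763) L710860 L729763
theorem L729775 : sm gj N54099 = N52290 := ded_53_1 (flp_i L710861) L710847 L729763
theorem L729777 : sm gh N52290 = N54100 := rfl
theorem L729779 : sm ga N54100 = N52618 := ded_17_1 (flp_h L713318) (flp_a L710863) L729777
theorem L729781 : sm gb N54100 = N52294 := ded_25_1 (flp_h L710903) (flp_b L710865) L729777
theorem L729783 : sm gc N54100 = N52692 := ded_32_1 (flp_h L713864) (flp_c L710867) L729777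
theorem L729785 : sm ge N54100 = N52616 := ded_43_1 (flp_h L713303) (flp_e L710870) L729777
theorem L729787 : sm gg N54100 = N52291 := ded_50_1 (flp_h L710874) (flp_g L710872) L729777
theorem L729789 : sm gi N54100 = N52681 := ded_54_2 (flp_h L713779) (flp_i L693089) (flp_h L689666) L710861 L729777
theorem L729791 : sm gh N52293 = N54101 := rfl
theorem L729793 : sm gc N54101 = N52296 := ded_32_1 (flp_h L710915) (flp_c L710897) L729791
theorem L729795 : sm gg N54101 = N54101 := ded_50_1 (flp_h L729791) L710900 L729791
theorem L729796 : sm gj N54101 = N52294 := ded_52_1 (flp_h L710903) (flp_j L710901) L729791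
theorem L729798 : sm gd N52294 = N54102 := rfl
theorem L729800 : sm gg N54102 = N52295 := ded_36_2 (flp_d L710909) (flp_g L710907) L729798
theorem L729802 : sm gh N54102 = N54102 := ded_38_2 (flp_d L729798) (flp_h L710903) L689708 L710903 L729798
theorem L729803 : sm gd N52297 = N54103 := rfl
theorem L729805 : sm gf N54103 = N54103 := ded_35_2 (flp_d L729803) L710926 L729803
theorem L729806 : sm gg N54103 = N52302 := ded_36_2 (flp_d L710964) (flp_g L710927) L729803
theorem L729808 : sm gi N54103 = N54103 := ded_39_2 (flp_d L729803) L710929 L729803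
theorem L729809 : sm gc N54103 = N52310 := ded_27_1 (flp_d L711017) L689853 (flp_d L689765) (flp_c L710924) L729803
theorem L729811 : sm gd N52298 = N54104 := rfl
theorem L729813 : sm gb N54104 = N52302 := ded_20_1 (flp_d L710964) (flp_b L710932) L729811
theorem L729815 : sm gf N54104 = N52313 := ded_35_2 (flp_d L711035) (flp_f L710936) L729811
theorem L729817 : sm gj N54104 = N52307 := ded_37_2 (flp_d L711003) (flp_j L710938) L729811
theorem L729819 : sm gi N54104 = N54104 := ded_39_2 (flp_d L729811) L710940 L729811
theorem L729820 : sm gc N54104 = N52482 := ded_27_1 (flp_d L712302) L691427 (flp_d L689922) (flp_c L710934) L729811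
theorem L729822 : sm gi N52299 = N54105 := rfl
theorem L729824 : sm gd N54105 = N54105 := ded_39_1 (flp_i L729822) L710946 L729822
theorem L729825 : sm gf N54105 = N54105 := ded_48_1 (flp_i L729822) L710943 L729822
theorem L729826 : sm gj N54105 = N52308 := ded_53_1 (flp_i L711010) (flp_j L710944) L729822
theorem L729828 : sm gh N52300 = N54106 := rfl
theorem L729830 : sm gf N54106 = N54106 := ded_47_1 (flp_h L729828) L710951 L729828
theorem L729831 : sm gj N54106 = N52309 := ded_52_1 (flp_h L711014) (flp_j L710952) L729828
theorem L729833 : sm gd N52301 = N54107 := rfl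
theorem L729835 : sm gf N54107 = N54107 := ded_35_2 (flp_d L729833) L710960 L729833
theorem L729836 : sm gj N54107 = N52310 := ded_37_2 (flp_d L711017) (flp_j L710961) L729833
theorem L729838 : sm gi N54107 = N54107 := ded_39_2 (flp_d L729833) L710963 L729833
theorem L729839 : sm ge N52302 = N54108 := rfl
theorem L729841 : sm gj N54108 = N52311 := ded_42_2 (flp_e L711021) (flp_j L710968) L729839
theorem L729843 : sm gi N54108 = N54108 := ded_44_2 (flp_e L729839) L710970 L729839
theorem L729844 : sm gi N52304 = N54109 := rfl
theorem L729846 : sm gb N54109 = N52308 := ded_26_1 (flp_i L711010) (flp_b L710982) L729844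
theorem L729848 : sm gd N54109 = N54109 := ded_39_1 (flp_i L729844) L710985 L729844
theorem L729849 : sm gf N54109 = N54109 := ded_48_1 (flp_i L729844) L710984 L729844
theorem L729850 : sm gh N52305 = N54110 := rfl
theorem L729852 : sm gb N54110 = N52309 := ded_25_1 (flp_h L711014) (flp_b L710988) L729850
theorem L729854 : sm gf N54110 = N54110 := ded_47_1 (flp_h L729850) L710992 L729850
theorem L729855 : sm gd N52306 = N54111 := rfl
theorem L729857 : sm gb N54111 = N52310 := ded_20_1 (flp_d L711017) (flp_b L710995) L729855
theorem L729859 : sm gf N54111 = N54111 := ded_35_2 (flp_d L729855) L711001 L729855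
theorem L729860 : sm gi N54111 = N54111 := ded_39_2 (flp_d L729855) L711002 L729855
theorem L729861 : sm ge N52307 = N54112 := rfl
theorem L729863 : sm gb N54112 = N52311 := ded_21_1 (flp_e L711021) (flp_b L711005) L729861
theorem L729865 : sm gi N54112 = N54112 := ded_44_2 (flp_e L729861) L711009 L729861
theorem L729866 : sm gh N52308 = N54113 := rfl
theorem L729868 : sm gf N54113 = N54113 := ded_47_1 (flp_h L729866) L711013 L729866
theorem L729869 : sm gi N54113 = N52309 := ded_54_2 (flp_h L711014) (flp_i L689846) L689842 L711010 L729866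
theorem L729871 : sm gd N52309 = N54114 := rfl
theorem L729873 : sm gf N54114 = N54114 := ded_35_2 (flp_d L729871) L711016 L729871
theorem L729874 : sm gh N54114 = N52310 := ded_38_2 (flp_d L711017) (flp_h L689851) (flp_d L689848) L711014 L729871
theorem L729876 : sm ge N52310 = N54115 := rfl
theorem L729878 : sm gi N54115 = N54115 := ded_44_2 (flp_e L729876) L711020 L729876
theorem L729879 : sm gd N54115 = N52311 := ded_34_1 (flp_e L711021) (flp_d L689859) (flp_e L689855) L711017 L729876
theorem L729881 : sm gf N52311 = N54116 := rfl
theorem L729883 : sm gi N54116 = N54116 := ded_48_2 (flp_f L729881) L711023 L729881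
theorem L729884 : sm ge N54116 = N52315 := ded_40_1 (flp_f L711052) (flp_e L689908) (flp_f L689861) L711021 L729881
theorem L729886 : sm gf N52314 = N54117 := rfl
theorem L729888 : sm gd N54117 = N54117 := ded_35_1 (flp_f L729886) L711051 L729886
theorem L729889 : sm gj N54117 = N52315 := ded_46_2 (flp_f L711052) (flp_j L711048) L729886
theorem L729891 : sm gi N54117 = N54117 := ded_48_2 (flp_f L729886) L711050 L729886
theorem L729892 : sm gd N52318 = N54118 := rfl
theorem L729894 : sm ga N54118 = N52323 := ded_12_1 (flp_d L711134) (flp_a L711090) L729892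
theorem L729896 : sm gj N54118 = N52357 := ded_37_2 (flp_d L711427) (flp_j L711094) L729892
theorem L729898 : sm gc N54118 = N52327 := ded_27_1 (flp_d L711166) L690129 (flp_d L690023) (flp_c L711092) L729892
theorem L729900 : sm gh N54118 = N52320 := ded_38_2 (flp_d L711109) (flp_h L690033) (flp_d L690013) L711088 L729892
theorem L729902 : sm gd N52319 = N54119 := rfl
theorem L729904 : sm ga N54119 = N52345 := ded_12_1 L711298 (flp_a L711098) L729902
theorem L729906 : sm gb N54119 = N52320 := ded_20_1 (flp_d L711109) (flp_b L711100) L729902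
theorem L729908 : sm gf N54119 = N52328 := ded_35_2 L711181 (flp_f L711104) L729902
theorem L729910 : sm gj N54119 = N52362 := ded_37_2 (flp_d L711471) (flp_j L711106) L729902
theorem L729912 : sm gi N54119 = N54119 := ded_39_2 (flp_d L729902) L711108 L729902
theorem L729913 : sm ge N52320 = N54120 := rfl
theorem L729915 : sm ga N54120 = N52324 := ded_13_1 (flp_e L711142) (flp_a L711111) L729913
theorem L729917 : sm gc N54120 = N52328 := ded_28_1 (flp_e L711174) (flp_c L711116) L729913
theorem L729919 : sm gj N54120 = N52363 := ded_42_2 (flp_e L711480) (flp_j L711113) L729913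
theorem L729921 : sm gi N54120 = N54120 := ded_44_2 (flp_e L729913) L711115 L729913
theorem L729922 : sm gd N54120 = N54120 := ded_34_1 (flp_e L729913) (flp_d L711109) L690039 L711109 L729913
theorem L729923 : sm gd N52321 = N54121 := rfl
theorem L729925 : sm gj N54121 = N52370 := ded_37_2 (flp_d L711527) (flp_j L711122) L729923
theorem L729927 : sm gi N54121 = N52323 := ded_39_2 (flp_d L711134) (flp_i L711124) L729923
theorem L729929 : sm gc N54121 = N52330 := ded_27_1 (flp_d L711191) L690161 (flp_d L690054) (flp_c L711120) L729923
theorem L729931 : sm gh N54121 = N54121 := ded_38_2 (flp_d L729923) (flp_h L711118) L690047 L711118 L729923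
theorem L729932 : sm gd N52322 = N54122 := rfl
theorem L729934 : sm gj N54122 = N52386 := ded_37_2 (flp_d L711635) (flp_j L711132) L729932
theorem L729936 : sm gh N54122 = N54122 := ded_38_2 (flp_d L729932) (flp_h L711126) L690068 L711126 L729932
theorem L729937 : sm ge N52323 = N54123 := rfl
theorem L729939 : sm gc N54123 = N52340 := ded_28_1 (flp_e L711258) (flp_c L711138) L729937
theorem L729941 : sm gj N54123 = N52387 := ded_42_2 (flp_e L711638) (flp_j L711136) L729937
theorem L729943 : sm gh N54123 = N52324 := ded_43_2 (flp_e L711142) (flp_h L711140) L729937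
theorem L729945 : sm gf N52324 = N54124 := rfl
theorem L729947 : sm gc N54124 = N52345 := ded_29_1 (flp_f L711296) (flp_c L711144) L729945
theorem L729949 : sm gd N54124 = N54124 := ded_35_1 (flp_f L729945) L711149 L729945
theorem L729950 : sm gj N54124 = N52393 := ded_46_2 (flp_f L711682) (flp_j L711146) L729945
theorem L729952 : sm gi N54124 = N54124 := ded_48_2 (flp_f L729945) L711148 L729945
theorem L729953 : sm gd N52325 = N54125 := rfl
theorem L729955 : sm ga N54125 = N52330 := ded_12_1 (flp_d L711191) (flp_a L711152) L729953
theorem L729957 : sm gj N54125 = N52400 := ded_37_2 (flp_d L711735) (flp_j L711156) L729953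
theorem L729959 : sm gi N54125 = N52327 := ded_39_2 (flp_d L711166) (flp_i L711158) L729953
theorem L729961 : sm gh N54125 = N54125 := ded_38_2 (flp_d L729953) (flp_h L711150) L690100 L711150 L729953
theorem L729962 : sm ge N52327 = N54126 := rfl
theorem L729964 : sm ga N54126 = N52340 := ded_13_1 (flp_e L711258) (flp_a L711168) L729962
theorem L729966 : sm gj N54126 = N52411 := ded_42_2 (flp_e L711818) (flp_j L711170) L729962
theorem L729968 : sm gh N54126 = N52328 := ded_43_2 (flp_e L711174) (flp_h L711172) L729962
theorem L729970 : sm gd N52329 = N54127 := rfl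
theorem L729972 : sm gb N54127 = N52330 := ded_20_1 (flp_d L711191) (flp_b L711185) L729970
theorem L729974 : sm gj N54127 = N52424 := ded_37_2 (flp_d L711911) (flp_j L711187) L729970
theorem L729976 : sm gi N54127 = N52337 := ded_39_2 (flp_d L711234) (flp_i L711189) L729970
theorem L729978 : sm gh N54127 = N54127 := ded_38_2 (flp_d L729970) (flp_h L711183) L690156 L711183 L729970
theorem L729979 : sm ge N52330 = N54128 := rfl
theorem L729981 : sm gj N54128 = N52425 := ded_42_2 (flp_e L711918) (flp_j L711193) L729979
theorem L729983 : sm gh N54128 = N54128 := ded_43_2 (flp_e L729979) L711197 L729979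
theorem L729984 : sm gi N54128 = N52340 := ded_44_2 (flp_e L711258) (flp_i L711195) L729979
theorem L729986 : sm gd N52331 = N54129 := rfl
theorem L729988 : sm gf N54129 = N52334 := ded_35_2 (flp_d L711214) (flp_f L711202) L729986
theorem L729990 : sm gj N54129 = N52468 := ded_37_2 (flp_d L715561) L715559 L729986
theorem L729992 : sm gc N54129 = N52337 := ded_27_1 (flp_d L711234) (flp_c L708329) L708335 (flp_c L711200) L729986
theorem L729994 : sm gh N54129 = N52341 := ded_38_2 (flp_d L711264) (flp_h L690260) (flp_d L690171) L711198 L729986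
theorem L729996 : sm gd N52332 = N54130 := rfl
theorem L729998 : sm gh N54130 = N54130 := ded_38_2 (flp_d L729996) (flp_h L711204) L690177 L711204 L729996
theorem L729999 : sm gd N52333 = N54131 := rfl
theorem L730001 : sm gb N54131 = N52334 := ded_20_1 (flp_d L711214) (flp_b L711210) L729999
theorem L730003 : sm gg N54131 = N52337 := ded_36_2 (flp_d L711234) (flp_g L711212) L729999
theorem L730005 : sm gh N54131 = N52342 := ded_38_2 (flp_d L711273) (flp_h L690282) (flp_d L690188) L711208 L729999
theorem L730007 : sm gd N52335 = N54132 := rfl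
theorem L730009 : sm ga N54132 = N52337 := ded_12_1 (flp_d L711234) (flp_a L711222) L730007
theorem L730011 : sm gj N54132 = N52465 := ded_37_2 (flp_d L712183) (flp_j L711224) L730007
theorem L730013 : sm gh N54132 = N52343 := ded_38_2 (flp_d L711280) (flp_h L690298) (flp_d L690202) L711220 L730007
theorem L730015 : sm ge N52337 = N54133 := rfl
theorem L730017 : sm gb N54133 = N52340 := ded_21_1 (flp_e L711258) (flp_b L711236) L730015
theorem L730019 : sm gj N54133 = N52469 := ded_42_2 (flp_e L712205) (flp_j L711238) L730015
theorem L730021 : sm gh N54133 = N52344 := ded_43_2 (flp_e L711287) (flp_h L711240) L730015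
theorem L730023 : sm gf N52340 = N54134 := rfl
theorem L730025 : sm gj N54134 = N52472 := ded_46_2 (flp_f L712223) (flp_j L711260) L730023
theorem L730027 : sm gh N54134 = N52345 := ded_47_2 (flp_f L711296) (flp_h L711262) L730023
theorem L730029 : sm gi N52346 = N54135 := rfl
theorem L730031 : sm ga N54135 = N52366 := ded_18_1 (flp_i L711501) (flp_a L711305) L730029
theorem L730033 : sm gb N54135 = N52403 := ded_26_1 (flp_i L711758) (flp_b L711307) L730029
theorem L730035 : sm gd N54135 = N52519 := ded_39_1 (flp_i L712572) (flp_d L711313) L730029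
theorem L730037 : sm ge N54135 = N52347 := ded_44_1 (flp_i L711317) L711303 L730029
theorem L730039 : sm gf N54135 = N52371 := ded_48_1 (flp_i L711534) (flp_f L711315) L730029
theorem L730041 : sm gj N54135 = N52377 := ded_53_1 (flp_i L711574) (flp_j L711309) L730029
theorem L730043 : sm gh N52347 = N54136 := rfl
theorem L730045 : sm ga N54136 = N52367 := ded_17_1 (flp_h L711505) (flp_a L711319) L730043
theorem L730047 : sm gb N54136 = N52404 := ded_25_1 (flp_h L711768) (flp_b L711321) L730043
theorem L730049 : sm gf N54136 = N52348 := ded_47_1 (flp_h L711329) (flp_f L711325) L730043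
theorem L730051 : sm gj N54136 = N52382 := ded_52_1 (flp_h L711611) (flp_j L711327) L730043
theorem L730053 : sm gd N54136 = N52397 := ded_38_1 (flp_h L711711) L690788 (flp_h L690358) (flp_d L711323) L730043
theorem L730055 : sm gi N54136 = N52354 := ded_54_2 (flp_h L711395) (flp_i L690424) (flp_h L690343) L711317 L730043
theorem L730057 : sm gi N52349 = N54137 := rfl
theorem L730059 : sm ga N54137 = N52371 := ded_18_1 (flp_i L711534) (flp_a L711347) L730057
theorem L730061 : sm gb N54137 = N52396 := ded_26_1 (flp_i L711705) (flp_b L711349) L730057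
theorem L730063 : sm gd N54137 = N52494 := ded_39_1 (flp_i L712385) (flp_d L711355) L730057
theorem L730065 : sm ge N54137 = N52350 := ded_44_1 (flp_i L711359) L711345 L730057
theorem L730067 : sm gf N54137 = N52366 := ded_48_1 (flp_i L711501) (flp_f L711357) L730057
theorem L730069 : sm gj N54137 = N52353 := ded_53_1 (flp_i L711387) (flp_j L711351) L730057
theorem L730071 : sm gh N52350 = N54138 := rfl
theorem L730073 : sm ga N54138 = N52372 := ded_17_1 (flp_h L711542) (flp_a L711361) L730071
theorem L730075 : sm gb N54138 = N52397 := ded_25_1 (flp_h L711711) (flp_b L711363) L730071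
theorem L730077 : sm gf N54138 = N52355 := ded_47_1 (flp_h L711403) (flp_f L711367) L730071
theorem L730079 : sm gj N54138 = N52354 := ded_52_1 (flp_h L711395) (flp_j L711369) L730071
theorem L730081 : sm gd N54138 = N52404 := ded_38_1 (flp_h L711768) L690850 (flp_h L690408) (flp_d L711365) L730071
theorem L730083 : sm gi N54138 = N52382 := ded_54_2 (flp_h L711611) (flp_i L690665) (flp_h L690392) L711359 L730071
theorem L730085 : sm gi N52351 = N54139 := rfl
theorem L730087 : sm ga N54139 = N52375 := ded_18_1 (flp_i L711562) (flp_a L711373) L730085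
theorem L730089 : sm gc N54139 = N52353 := ded_33_1 (flp_i L711387) (flp_c L711375) L730085
theorem L730091 : sm ge N54139 = N52352 := ded_44_1 (flp_i L711377) L711371 L730085
theorem L730093 : sm gh N52352 = N54140 := rfl
theorem L730095 : sm ga N54140 = N52376 := ded_17_1 (flp_h L711568) (flp_a L711379) L730093
theorem L730097 : sm gc N54140 = N52354 := ded_32_1 (flp_h L711395) (flp_c L711381) L730093
theorem L730099 : sm gf N54140 = N52356 := ded_47_1 (flp_h L711419) (flp_f L711385) L730093
theorem L730101 : sm gh N52353 = N54141 := rfl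
theorem L730103 : sm ga N54141 = N52378 := ded_17_1 (flp_h L711584) (flp_a L711389) L730101
theorem L730105 : sm ge N54141 = N52354 := ded_43_1 (flp_h L711395) (flp_e L711393) L730101
theorem L730107 : sm gd N52356 = N54142 := rfl
theorem L730109 : sm ga N54142 = N52381 := ded_12_1 (flp_d L711603) (flp_a L711421) L730107
theorem L730111 : sm gg N54142 = N52357 := ded_36_2 (flp_d L711427) (flp_g L711425) L730107
theorem L730113 : sm gc N54142 = N52408 := ded_27_1 (flp_d L711798) L690896 (flp_d L690462) (flp_c L711423) L730107
theorem L730115 : sm gh N54142 = N52361 := ded_38_2 (flp_d L711462) (flp_h L690502) (flp_d L690452) L711419 L730107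
theorem L730117 : sm ge N52357 = N54143 := rfl
theorem L730119 : sm ga N54143 = N52387 := ded_13_1 (flp_e L711638) (flp_a L711429) L730117
theorem L730121 : sm gc N54143 = N52411 := ded_28_1 (flp_e L711818) (flp_c L711431) L730117
theorem L730123 : sm gh N54143 = N52363 := ded_43_2 (flp_e L711480) (flp_h L711433) L730117
theorem L730125 : sm gh N52358 = N54144 := rfl
theorem L730127 : sm ga N54144 = N52727 := ded_17_1 L722623 L722610 L730125
theorem L730129 : sm gb N54144 = N52359 := ded_25_1 (flp_h L711442) (flp_b L711437) L730125
theorem L730131 : sm gc N54144 = N54144 := ded_32_1 (flp_h L730125) L711439 L730125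
theorem L730132 : sm gf N54144 = N52360 := ded_47_1 (flp_h L711451) (flp_f L711440) L730125
theorem L730134 : sm gg N54144 = N52721 := ded_50_1 L715331 L715327 L730125
theorem L730136 : sm gi N54144 = N54144 := ded_54_2 (flp_h L730125) (flp_i L711435) L690474 L711435 L730125
theorem L730137 : sm gd N52359 = N54145 := rfl
theorem L730139 : sm ga N54145 = N52391 := ded_12_1 (flp_d L711667) (flp_a L711444) L730137
theorem L730141 : sm gf N54145 = N52361 := ded_35_2 (flp_d L711462) (flp_f L711448) L730137
theorem L730143 : sm gi N54145 = N54145 := ded_39_2 (flp_d L730137) L711450 L730137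
theorem L730144 : sm gc N54145 = N52413 := ded_27_1 (flp_d L711836) L690941 (flp_d L690491) (flp_c L711446) L730137
theorem L730146 : sm gd N52360 = N54146 := rfl
theorem L730148 : sm ga N54146 = N52489 := ded_12_1 L712347 (flp_a L711453) L730146
theorem L730150 : sm gb N54146 = N52361 := ded_20_1 (flp_d L711462) (flp_b L711455) L730146
theorem L730152 : sm gg N54146 = N52362 := ded_36_2 (flp_d L711471) (flp_g L711459) L730146
theorem L730154 : sm gi N54146 = N54146 := ded_39_2 (flp_d L730146) L711461 L730146
theorem L730155 : sm ge N52361 = N54147 := rfl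
theorem L730157 : sm ga N54147 = N52392 := ded_13_1 (flp_e L711674) (flp_a L711464) L730155
theorem L730159 : sm gc N54147 = N52414 := ded_28_1 (flp_e L711843) (flp_c L711469) L730155
theorem L730161 : sm gg N54147 = N52363 := ded_41_2 (flp_e L711480) (flp_g L711466) L730155
theorem L730163 : sm gi N54147 = N54147 := ded_44_2 (flp_e L730155) L711468 L730155
theorem L730164 : sm gd N54147 = N54147 := ded_34_1 (flp_e L730155) (flp_d L711462) L690508 L711462 L730155
theorem L730165 : sm gd N52364 = N54148 := rfl
theorem L730167 : sm ge N54148 = N54148 := ded_34_2 (flp_d L730165) (flp_e L711488) L690548 L711488 L730165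
theorem L730168 : sm gi N52364 = N54149 := rfl
theorem L730170 : sm gc N54149 = N52366 := ded_33_1 (flp_i L711501) (flp_c L711490) L730168
theorem L730172 : sm ge N54149 = N52365 := ded_44_1 (flp_i L711494) L711488 L730168
theorem L730174 : sm gh N52365 = N54150 := rfl
theorem L730176 : sm gc N54150 = N52367 := ded_32_1 (flp_h L711505) (flp_c L711496) L730174
theorem L730178 : sm gf N54150 = N52368 := ded_47_1 (flp_h L711513) (flp_f L711499) L730174
theorem L730180 : sm gi N54150 = N52376 := ded_54_2 (flp_h L711568) (flp_i L690611) (flp_h L690546) L711494 L730174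
theorem L730182 : sm gh N52366 = N54151 := rfl
theorem L730184 : sm ge N54151 = N52367 := ded_43_1 (flp_h L711505) (flp_e L711503) L730182
theorem L730186 : sm gi N54151 = N52378 := ded_54_2 (flp_h L711584) (flp_i L690627) (flp_h L690551) L711501 L730182
theorem L730188 : sm gd N52368 = N54152 := rfl
theorem L730190 : sm gg N54152 = N52370 := ded_36_2 (flp_d L711527) (flp_g L711517) L730188
theorem L730192 : sm gi N54152 = N52381 := ded_39_2 (flp_d L711603) (flp_i L711519) L730188
theorem L730194 : sm gc N54152 = N52422 := ded_27_1 (flp_d L711896) L691024 (flp_d L690570) (flp_c L711515) L730188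
theorem L730196 : sm gh N54152 = N54152 := ded_38_2 (flp_d L730188) (flp_h L711513) L690563 L711513 L730188
theorem L730197 : sm gd N52369 = N54153 := rfl
theorem L730199 : sm gb N54153 = N52370 := ded_20_1 (flp_d L711527) (flp_b L711523) L730197
theorem L730201 : sm gi N54153 = N52385 := ded_39_2 (flp_d L711629) (flp_i L711525) L730197
theorem L730203 : sm gh N54153 = N54153 := ded_38_2 (flp_d L730197) (flp_h L711521) L690578 L711521 L730197
theorem L730204 : sm ge N52370 = N54154 := rfl
theorem L730206 : sm gc N54154 = N52425 := ded_28_1 (flp_e L711918) (flp_c L711531) L730204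
theorem L730208 : sm gh N54154 = N54154 := ded_43_2 (flp_e L730204) L711533 L730204
theorem L730209 : sm gi N54154 = N52387 := ded_44_2 (flp_e L711638) (flp_i L711529) L730204
theorem L730211 : sm gh N52371 = N54155 := rfl
theorem L730213 : sm ge N54155 = N52372 := ded_43_1 (flp_h L711542) (flp_e L711538) L730211
theorem L730215 : sm gj N54155 = N52378 := ded_52_1 (flp_h L711584) (flp_j L711540) L730211
theorem L730217 : sm gf N52373 = N54156 := rfl
theorem L730219 : sm gc N54156 = N52525 := ded_29_1 (flp_f L712620) (flp_c L711552) L730217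
theorem L730221 : sm gd N54156 = N52374 := ded_35_1 (flp_f L711556) L711550 L730217
theorem L730223 : sm ge N54156 = N54156 := ded_40_1 (flp_f L730217) L711554 L690714 (flp_e L711554) L730217
theorem L730224 : sm gh N52373 = N54157 := rfl
theorem L730226 : sm gc N54157 = N52518 := ded_32_1 L712570 (flp_c L711552) L730224
theorem L730228 : sm ge N54157 = N52388 := ded_43_1 (flp_h L711644) (flp_e L711554) L730224
theorem L730230 : sm gg N54157 = N52515 := ded_50_1 L721423 L721415 L730224
theorem L730232 : sm gi N52373 = N54158 := rfl
theorem L730234 : sm gc N54158 = N52526 := ded_33_1 (flp_i L712625) (flp_c L711552) L730232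
theorem L730236 : sm gd N54158 = N52375 := ded_39_1 (flp_i L711562) L711550 L730232
theorem L730238 : sm ge N54158 = N52389 := ded_44_1 (flp_i L711652) (flp_e L711554) L730232
theorem L730240 : sm gi N52374 = N54159 := rfl
theorem L730242 : sm gc N54159 = N52377 := ded_33_1 (flp_i L711574) (flp_c L711558) L730240
theorem L730244 : sm ge N54159 = N52379 := ded_44_1 (flp_i L711588) (flp_e L711560) L730240
theorem L730246 : sm gf N54159 = N52375 := ded_48_1 (flp_i L711562) L711556 L730240
theorem L730248 : sm gh N52375 = N54160 := rfl
theorem L730250 : sm gc N54160 = N52378 := ded_32_1 (flp_h L711584) (flp_c L711564) L730248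
theorem L730252 : sm ge N54160 = N52376 := ded_43_1 (flp_h L711568) (flp_e L711566) L730248
theorem L730254 : sm gd N52376 = N54161 := rfl
theorem L730256 : sm gf N54161 = N52381 := ded_35_2 (flp_d L711603) (flp_f L711572) L730254
theorem L730258 : sm gc N54161 = N52447 := ded_27_1 (flp_d L712061) L691149 (flp_d L690637) (flp_c L711570) L730254
theorem L730260 : sm gh N54161 = N52391 := ded_38_2 (flp_d L711667) (flp_h L690724) (flp_d L690615) L711568 L730254
theorem L730262 : sm gh N52377 = N54162 := rfl
theorem L730264 : sm gb N54162 = N52407 := ded_25_1 (flp_h L711792) (flp_b L711576) L730262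
theorem L730266 : sm ge N54162 = N52382 := ded_43_1 (flp_h L711611) (flp_e L711580) L730262
theorem L730268 : sm gf N54162 = N52378 := ded_47_1 (flp_h L711584) (flp_f L711582) L730262
theorem L730270 : sm gd N52378 = N54163 := rfl
theorem L730272 : sm ge N54163 = N52451 := ded_34_2 (flp_d L712087) L691169 (flp_d L690637) (flp_e L711586) L730270
theorem L730274 : sm gh N54163 = N52530 := ded_38_2 (flp_d L712653) (flp_h L691869) (flp_d L690629) L711584 L730270
theorem L730276 : sm gh N52379 = N54164 := rfl
theorem L730278 : sm gc N54164 = N52382 := ded_32_1 (flp_h L711611) (flp_c L711590) L730276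
theorem L730280 : sm gf N54164 = N52380 := ded_47_1 (flp_h L711595) (flp_f L711593) L730276
theorem L730282 : sm gd N52380 = N54165 := rfl
theorem L730284 : sm gg N54165 = N52386 := ded_36_2 (flp_d L711635) (flp_g L711601) L730282
theorem L730286 : sm gh N54165 = N54165 := ded_38_2 (flp_d L730282) (flp_h L711595) L690654 L711595 L730282
theorem L730287 : sm ge N52381 = N54166 := rfl
theorem L730289 : sm gc N54166 = N52461 := ded_28_1 (flp_e L712157) (flp_c L711607) L730287
theorem L730291 : sm gg N54166 = N52387 := ded_41_2 (flp_e L711638) (flp_g L711605) L730287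
theorem L730293 : sm gh N54166 = N52392 := ded_43_2 (flp_e L711674) (flp_h L711609) L730287
theorem L730295 : sm gd N52384 = N54167 := rfl
theorem L730297 : sm gb N54167 = N52386 := ded_20_1 (flp_d L711635) (flp_b L711623) L730295
theorem L730299 : sm gh N54167 = N54167 := ded_38_2 (flp_d L730295) (flp_h L711621) L690693 L711621 L730295
theorem L730300 : sm ge N52386 = N54168 := rfl
theorem L730302 : sm gh N54168 = N54168 := ded_43_2 (flp_e L730300) L711637 L730300
theorem L730303 : sm gd N54168 = N52387 := ded_34_1 (flp_e L711638) (flp_d L690706) (flp_e L690704) L711635 L730300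
theorem L730305 : sm gf N52387 = N54169 := rfl
theorem L730307 : sm gc N54169 = N52472 := ded_29_1 (flp_f L712223) (flp_c L711640) L730305
theorem L730309 : sm gh N54169 = N52393 := ded_47_2 (flp_f L711682) (flp_h L711642) L730305
theorem L730311 : sm gi N52388 = N54170 := rfl
theorem L730313 : sm gc N54170 = N52536 := ded_33_1 (flp_i L712703) (flp_c L711646) L730311
theorem L730315 : sm gd N54170 = N54170 := ded_39_1 (flp_i L730311) L711651 L730311
theorem L730316 : sm gf N54170 = N54170 := ded_48_1 (flp_i L730311) L711648 L730311
theorem L730317 : sm gg N54170 = N52534 := ded_51_1 (flp_i L712685) (flp_g L711649) L730311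
theorem L730319 : sm gh N52389 = N54171 := rfl
theorem L730321 : sm gc N54171 = N52545 := ded_32_1 (flp_h L712774) (flp_c L711654) L730319
theorem L730323 : sm gf N54171 = N54171 := ded_47_1 (flp_h L730319) L711658 L730319
theorem L730324 : sm gd N52390 = N54172 := rfl
theorem L730326 : sm gf N54172 = N54172 := ded_35_2 (flp_d L730324) L711665 L730324
theorem L730327 : sm gi N54172 = N54172 := ded_39_2 (flp_d L730324) L711666 L730324
theorem L730328 : sm ge N52391 = N54173 := rfl
theorem L730330 : sm gc N54173 = N52483 := ded_28_1 (flp_e L712307) (flp_c L711672) L730328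
theorem L730332 : sm gi N54173 = N54173 := ded_44_2 (flp_e L730328) L711671 L730328
theorem L730333 : sm gf N52392 = N54174 := rfl
theorem L730335 : sm gc N54174 = N52488 := ded_29_1 (flp_f L712340) (flp_c L711676) L730333
theorem L730337 : sm gd N54174 = N54174 := ded_35_1 (flp_f L730333) L711681 L730333
theorem L730338 : sm gi N54174 = N54174 := ded_48_2 (flp_f L730333) L711680 L730333
theorem L730339 : sm gg N52393 = N54175 := rfl
theorem L730341 : sm gc N54175 = N52489 := ded_30_1 (flp_g L712345) (flp_c L711684) L730339
theorem L730343 : sm gd N54175 = N54175 := ded_36_1 (flp_g L730339) L711686 L730339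
theorem L730344 : sm gi N54175 = N54175 := ded_51_2 (flp_g L730339) L711687 L730339
theorem L730345 : sm gd N52394 = N54176 := rfl
theorem L730347 : sm ga N54176 = N52417 := ded_12_1 (flp_d L711865) (flp_a L711690) L730345
theorem L730349 : sm gf N54176 = N52643 := ded_35_2 (flp_d L715597) L715599 L730345
theorem L730351 : sm gj N54176 = N52633 := ded_37_2 (flp_d L715625) L715627 L730345
theorem L730353 : sm ge N54176 = N54176 := ded_34_2 (flp_d L730345) (flp_e L711688) L690777 L711688 L730345
theorem L730354 : sm gi N52394 = N54177 := rfl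
theorem L730356 : sm ga N54177 = N52418 := ded_18_1 (flp_i L711868) (flp_a L711690) L730354
theorem L730358 : sm gc N54177 = N52396 := ded_33_1 (flp_i L711705) (flp_c L711692) L730354
theorem L730360 : sm ge N54177 = N52395 := ded_44_1 (flp_i L711696) L711688 L730354
theorem L730362 : sm gh N52395 = N54178 := rfl
theorem L730364 : sm ga N54178 = N52419 := ded_17_1 (flp_h L711874) (flp_a L711698) L730362
theorem L730366 : sm gc N54178 = N52397 := ded_32_1 (flp_h L711711) (flp_c L711700) L730362
theorem L730368 : sm gf N54178 = N52398 := ded_47_1 (flp_h L711719) (flp_f L711703) L730362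
theorem L730370 : sm gi N54178 = N52406 := ded_54_2 (flp_h L711784) (flp_i L690862) (flp_h L690775) L711696 L730362
theorem L730372 : sm gh N52396 = N54179 := rfl
theorem L730374 : sm ga N54179 = N52420 := ded_17_1 (flp_h L711882) (flp_a L711707) L730372
theorem L730376 : sm ge N54179 = N52397 := ded_43_1 (flp_h L711711) (flp_e L711709) L730372
theorem L730378 : sm gi N54179 = N52407 := ded_54_2 (flp_h L711792) (flp_i L690872) (flp_h L690782) L711705 L730372
theorem L730380 : sm gd N52398 = N54180 := rfl
theorem L730382 : sm ga N54180 = N52422 := ded_12_1 (flp_d L711896) (flp_a L711721) L730380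
theorem L730384 : sm gg N54180 = N52400 := ded_36_2 (flp_d L711735) (flp_g L711725) L730380
theorem L730386 : sm gi N54180 = N52408 := ded_39_2 (flp_d L711798) (flp_i L711727) L730380
theorem L730388 : sm gh N54180 = N54180 := ded_38_2 (flp_d L730380) (flp_h L711719) L690798 L711719 L730380
theorem L730389 : sm gd N52399 = N54181 := rfl
theorem L730391 : sm gb N54181 = N52400 := ded_20_1 (flp_d L711735) (flp_b L711731) L730389
theorem L730393 : sm gi N54181 = N52410 := ded_39_2 (flp_d L711812) (flp_i L711733) L730389
theorem L730395 : sm gh N54181 = N54181 := ded_38_2 (flp_d L730389) (flp_h L711729) L690813 L711729 L730389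
theorem L730396 : sm gi N52401 = N54182 := rfl
theorem L730398 : sm ga N54182 = N52429 := ded_18_1 (flp_i L711941) (flp_a L711744) L730396
theorem L730400 : sm gd N54182 = N52556 := ded_39_1 (flp_i L712857) (flp_d L711748) L730396
theorem L730402 : sm ge N54182 = N52402 := ded_44_1 (flp_i L711750) L711742 L730396
theorem L730404 : sm gg N54182 = N52403 := ded_51_1 (flp_i L711758) (flp_g L711746) L730396
theorem L730406 : sm gh N52402 = N54183 := rfl
theorem L730408 : sm ga N54183 = N52430 := ded_17_1 (flp_h L711949) (flp_a L711752) L730406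
theorem L730410 : sm gg N54183 = N52404 := ded_50_1 (flp_h L711768) (flp_g L711756) L730406
theorem L730412 : sm gh N52403 = N54184 := rfl
theorem L730414 : sm ga N54184 = N52435 := ded_17_1 (flp_h L711985) (flp_a L711760) L730412
theorem L730416 : sm ge N54184 = N52404 := ded_43_1 (flp_h L711768) (flp_e L711764) L730412
theorem L730418 : sm gj N54184 = N52407 := ded_52_1 (flp_h L711792) (flp_j L711766) L730412
theorem L730420 : sm gh N52405 = N54185 := rfl
theorem L730422 : sm ga N54185 = N52446 := ded_17_1 (flp_h L712055) (flp_a L711778) L730420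
theorem L730424 : sm gc N54185 = N52407 := ded_32_1 (flp_h L711792) (flp_c L711780) L730420
theorem L730426 : sm ge N54185 = N52406 := ded_43_1 (flp_h L711784) (flp_e L711782) L730420
theorem L730428 : sm gd N52406 = N54186 := rfl
theorem L730430 : sm ga N54186 = N52447 := ded_12_1 (flp_d L712061) (flp_a L711786) L730428
theorem L730432 : sm gf N54186 = N52408 := ded_35_2 (flp_d L711798) (flp_f L711790) L730428
theorem L730434 : sm gh N54186 = N52413 := ded_38_2 (flp_d L711836) (flp_h L690937) (flp_d L690868) L711784 L730428
theorem L730436 : sm gd N52407 = N54187 := rfl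
theorem L730438 : sm ga N54187 = N52451 := ded_12_1 (flp_d L712087) (flp_a L711794) L730436
theorem L730440 : sm gh N54187 = N52571 := ded_38_2 (flp_d L712972) (flp_h L692295) (flp_d L690876) L711792 L730436
theorem L730442 : sm ge N52408 = N54188 := rfl
theorem L730444 : sm ga N54188 = N52461 := ded_13_1 (flp_e L712157) (flp_a L711800) L730442
theorem L730446 : sm gg N54188 = N52411 := ded_41_2 (flp_e L711818) (flp_g L711802) L730442
theorem L730448 : sm gh N54188 = N52414 := ded_43_2 (flp_e L711843) (flp_h L711804) L730442
theorem L730450 : sm ge N52413 = N54189 := rfl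
theorem L730452 : sm ga N54189 = N52483 := ded_13_1 (flp_e L712307) (flp_a L711838) L730450
theorem L730454 : sm gi N54189 = N54189 := ded_44_2 (flp_e L730450) L711842 L730450
theorem L730455 : sm gf N52414 = N54190 := rfl
theorem L730457 : sm ga N54190 = N52488 := ded_14_1 (flp_f L712340) (flp_a L711845) L730455
theorem L730459 : sm gd N54190 = N52721 := ded_35_1 (flp_f L714081) (flp_d L711850) L730455
theorem L730461 : sm gi N54190 = N54190 := ded_48_2 (flp_f L730455) L711849 L730455
theorem L730462 : sm gi N52415 = N54191 := rfl
theorem L730464 : sm gb N54191 = N52418 := ded_26_1 (flp_i L711868) (flp_b L711854) L730462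
theorem L730466 : sm ge N54191 = N52416 := ded_44_1 (flp_i L711858) L711852 L730462
theorem L730468 : sm gh N52416 = N54192 := rfl
theorem L730470 : sm gb N54192 = N52419 := ded_25_1 (flp_h L711874) (flp_b L711860) L730468
theorem L730472 : sm gf N54192 = N52421 := ded_47_1 (flp_h L711888) (flp_f L711863) L730468
theorem L730474 : sm gi N54192 = N52441 := ded_54_2 (flp_h L712021) (flp_i L691121) (flp_h L690990) L711858 L730468
theorem L730476 : sm gh N52417 = N54193 := rfl
theorem L730478 : sm ge N54193 = N54193 := ded_43_1 (flp_h L730476) L711867 L730476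
theorem L730479 : sm gd N54193 = N52442 := ded_38_1 (flp_h L712027) (flp_d L691129) (flp_h L690996) L711865 L730476
theorem L730481 : sm gi N52417 = N54194 := rfl
theorem L730483 : sm gd N54194 = N52418 := ded_39_1 (flp_i L711868) L711865 L730481
theorem L730485 : sm ge N54194 = N54194 := ded_44_1 (flp_i L730481) L711867 L730481
theorem L730486 : sm gh N52418 = N54195 := rfl
theorem L730488 : sm gc N54195 = N52420 := ded_32_1 (flp_h L711882) (flp_c L711870) L730486
theorem L730490 : sm ge N54195 = N52419 := ded_43_1 (flp_h L711874) (flp_e L711872) L730486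
theorem L730492 : sm gi N54195 = N52446 := ded_54_2 (flp_h L712055) (flp_i L691141) (flp_h L690996) L711868 L730486
theorem L730494 : sm gd N52419 = N54196 := rfl
theorem L730496 : sm gf N54196 = N52422 := ded_35_2 (flp_d L711896) (flp_f L711878) L730494
theorem L730498 : sm gi N54196 = N52447 := ded_39_2 (flp_d L712061) (flp_i L711880) L730494
theorem L730500 : sm gh N54196 = N54196 := ded_38_2 (flp_d L730494) (flp_h L711874) L691002 L711874 L730494
theorem L730501 : sm gd N52420 = N54197 := rfl
theorem L730503 : sm gi N54197 = N52451 := ded_39_2 (flp_d L712087) (flp_i L711886) L730501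
theorem L730505 : sm gd N52421 = N54198 := rfl
theorem L730507 : sm gb N54198 = N52422 := ded_20_1 (flp_d L711896) (flp_b L711890) L730505
theorem L730509 : sm gg N54198 = N52424 := ded_36_2 (flp_d L711911) (flp_g L711892) L730505
theorem L730511 : sm gi N54198 = N52457 := ded_39_2 (flp_d L712125) (flp_i L711894) L730505
theorem L730513 : sm gh N54198 = N54198 := ded_38_2 (flp_d L730505) (flp_h L711888) L691019 L711888 L730505
theorem L730514 : sm ge N52422 = N54199 := rfl
theorem L730516 : sm gg N54199 = N52425 := ded_41_2 (flp_e L711918) (flp_g L711898) L730514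
theorem L730518 : sm gh N54199 = N54199 := ded_43_2 (flp_e L730514) L711902 L730514
theorem L730519 : sm gi N54199 = N52461 := ded_44_2 (flp_e L712157) (flp_i L711900) L730514
theorem L730521 : sm ge N52424 = N54200 := rfl
theorem L730523 : sm gb N54200 = N52425 := ded_21_1 (flp_e L711918) (flp_b L711913) L730521
theorem L730525 : sm gh N54200 = N54200 := ded_43_2 (flp_e L730521) L711917 L730521
theorem L730526 : sm gi N54200 = N52469 := ded_44_2 (flp_e L712205) (flp_i L711915) L730521
theorem L730528 : sm gi N52426 = N54201 := rfl
theorem L730530 : sm gc N54201 = N52429 := ded_33_1 (flp_i L711941) (flp_c L711925) L730528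
theorem L730532 : sm ge N54201 = N52427 := ded_44_1 (flp_i L711929) L711923 L730528
theorem L730534 : sm gg N54201 = N52433 := ded_51_1 (flp_i L711969) (flp_g L711927) L730528
theorem L730536 : sm gh N52427 = N54202 := rfl
theorem L730538 : sm gc N54202 = N52430 := ded_32_1 (flp_h L711949) (flp_c L711931) L730536
theorem L730540 : sm gg N54202 = N52434 := ded_50_1 (flp_h L711977) (flp_g L711935) L730536
theorem L730542 : sm gi N52428 = N54203 := rfl
theorem L730544 : sm gd N54203 = N52634 := ded_39_1 (flp_i L713441) (flp_d L711939) L730542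
theorem L730546 : sm gf N54203 = N52429 := ded_48_1 (flp_i L711941) L711937 L730542
theorem L730548 : sm gh N52429 = N54204 := rfl
theorem L730550 : sm ge N54204 = N52430 := ded_43_1 (flp_h L711949) (flp_e L711945) L730548
theorem L730552 : sm gg N54204 = N52435 := ded_50_1 (flp_h L711985) (flp_g L711947) L730548
theorem L730554 : sm gi N52431 = N54205 := rfl
theorem L730556 : sm gb N54205 = N52433 := ded_26_1 (flp_i L711969) (flp_b L711955) L730554
theorem L730558 : sm ge N54205 = N52432 := ded_44_1 (flp_i L711959) L711953 L730554
theorem L730560 : sm gj N54205 = N52440 := ded_53_1 (flp_i L712015) (flp_j L711957) L730554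
theorem L730562 : sm gh N52432 = N54206 := rfl
theorem L730564 : sm gb N54206 = N52434 := ded_25_1 (flp_h L711977) (flp_b L711961) L730562
theorem L730566 : sm gf N54206 = N52452 := ded_47_1 (flp_h L712091) (flp_f L711965) L730562
theorem L730568 : sm gj N54206 = N52441 := ded_52_1 (flp_h L712021) (flp_j L711967) L730562
theorem L730570 : sm gh N52433 = N54207 := rfl
theorem L730572 : sm gc N54207 = N52435 := ded_32_1 (flp_h L711985) (flp_c L711971) L730570
theorem L730574 : sm ge N54207 = N52434 := ded_43_1 (flp_h L711977) (flp_e L711973) L730570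
theorem L730576 : sm gj N54207 = N52446 := ded_52_1 (flp_h L712055) (flp_j L711975) L730570
theorem L730578 : sm gd N52434 = N54208 := rfl
theorem L730580 : sm gf N54208 = N52453 := ded_35_2 (flp_d L712097) (flp_f L711981) L730578
theorem L730582 : sm gj N54208 = N52447 := ded_37_2 (flp_d L712061) (flp_j L711983) L730578
theorem L730584 : sm gh N54208 = N52475 := ded_38_2 (flp_d L712247) (flp_h L691368) (flp_d L691091) L711977 L730578
theorem L730586 : sm gd N52435 = N54209 := rfl
theorem L730588 : sm gj N54209 = N52451 := ded_37_2 (flp_d L712087) (flp_j L711989) L730586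
theorem L730590 : sm gh N54209 = N52646 := ded_38_2 (flp_d L713540) (flp_h L692885) (flp_d L691099) L711985 L730586
theorem L730592 : sm gi N52436 = N54210 := rfl
theorem L730594 : sm ga N54210 = N52440 := ded_18_1 (flp_i L712015) (flp_a L711993) L730592
theorem L730596 : sm ge N54210 = N52437 := ded_44_1 (flp_i L711995) L711991 L730592
theorem L730598 : sm gh N52437 = N54211 := rfl
theorem L730600 : sm ga N54211 = N52441 := ded_17_1 (flp_h L712021) (flp_a L711997) L730598
theorem L730602 : sm gf N54211 = N52454 := ded_47_1 (flp_h L712103) (flp_f L712001) L730598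
theorem L730604 : sm gi N52438 = N54212 := rfl
theorem L730606 : sm gb N54212 = N52443 := ded_26_1 (flp_i L712033) (flp_b L712005) L730604
theorem L730608 : sm gd N54212 = N52440 := ded_39_1 (flp_i L712015) L712003 L730604
theorem L730610 : sm ge N54212 = N52477 := ded_44_1 (flp_i L712263) (flp_e L712007) L730604
theorem L730612 : sm gi N52439 = N54213 := rfl
theorem L730614 : sm gb N54213 = N52445 := ded_26_1 (flp_i L712047) (flp_b L712011) L730612
theorem L730616 : sm ge N54213 = N52455 := ded_44_1 (flp_i L712109) (flp_e L712013) L730612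
theorem L730618 : sm gf N54213 = N52440 := ded_48_1 (flp_i L712015) L712009 L730612
theorem L730620 : sm gh N52440 = N54214 := rfl
theorem L730622 : sm gb N54214 = N52446 := ded_25_1 (flp_h L712055) (flp_b L712017) L730620
theorem L730624 : sm ge N54214 = N52441 := ded_43_1 (flp_h L712021) (flp_e L712019) L730620
theorem L730626 : sm gd N52441 = N54215 := rfl
theorem L730628 : sm gb N54215 = N52447 := ded_20_1 (flp_d L712061) (flp_b L712023) L730626
theorem L730630 : sm gf N54215 = N52457 := ded_35_2 (flp_d L712125) (flp_f L712025) L730626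
theorem L730632 : sm gh N54215 = N52479 := ded_38_2 (flp_d L712282) (flp_h L691401) (flp_d L691125) L712021 L730626
theorem L730634 : sm gi N52442 = N54216 := rfl
theorem L730636 : sm gc N54216 = N52659 := ded_33_1 (flp_i L713632) (flp_c L712029) L730634
theorem L730638 : sm ge N54216 = N52480 := ded_44_1 (flp_i L712289) (flp_e L712031) L730634
theorem L730640 : sm gh N52443 = N54217 := rfl
theorem L730642 : sm gc N54217 = N52660 := ded_32_1 (flp_h L713636) (flp_c L712035) L730640
theorem L730644 : sm ge N54217 = N52481 := ded_43_1 (flp_h L712296) (flp_e L712039) L730640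
theorem L730646 : sm gi N52444 = N54218 := rfl
theorem L730648 : sm gc N54218 = N52449 := ded_33_1 (flp_i L712073) (flp_c L712043) L730646
theorem L730650 : sm ge N54218 = N52458 := ded_44_1 (flp_i L712133) (flp_e L712045) L730646
theorem L730652 : sm gg N54218 = N52445 := ded_51_1 (flp_i L712047) L712041 L730646
theorem L730654 : sm gh N52445 = N54219 := rfl
theorem L730656 : sm gc N54219 = N52450 := ded_32_1 (flp_h L712081) (flp_c L712049) L730654
theorem L730658 : sm ge N54219 = N52459 := ded_43_1 (flp_h L712143) (flp_e L712051) L730654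
theorem L730660 : sm gf N54219 = N52446 := ded_47_1 (flp_h L712055) (flp_f L712053) L730654
theorem L730662 : sm gd N52446 = N54220 := rfl
theorem L730664 : sm ge N52447 = N54221 := rfl
theorem L730666 : sm gh N54221 = N52483 := ded_43_2 (flp_e L712307) (flp_h L712065) L730664
theorem L730668 : sm gi N52448 = N54222 := rfl
theorem L730670 : sm gd N54222 = N52666 := ded_39_1 (flp_i L713668) (flp_d L712069) L730668
theorem L730672 : sm ge N54222 = N52462 := ded_44_1 (flp_i L712163) (flp_e L712071) L730668
theorem L730674 : sm gj N54222 = N52449 := ded_53_1 (flp_i L712073) L712067 L730668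
theorem L730676 : sm gh N52449 = N54223 := rfl
theorem L730678 : sm ge N54223 = N52463 := ded_43_1 (flp_h L712171) (flp_e L712077) L730676
theorem L730680 : sm gg N54223 = N52450 := ded_50_1 (flp_h L712081) (flp_g L712079) L730676
theorem L730682 : sm gd N52450 = N54224 := rfl
theorem L730684 : sm gf N54224 = N52451 := ded_35_2 (flp_d L712087) (flp_f L712085) L730682
theorem L730686 : sm gh N54224 = N52668 := ded_38_2 (flp_d L713680) (flp_h L692981) (flp_d L691161) L712081 L730682
theorem L730688 : sm gc N52451 = N54225 := rfl
theorem L730690 : sm gh N54225 = N52669 := ded_32_2 (flp_c L713684) (flp_h L712089) L730688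
theorem L730692 : sm gd N52452 = N54226 := rfl
theorem L730694 : sm gb N54226 = N52453 := ded_20_1 (flp_d L712097) (flp_b L712093) L730692
theorem L730696 : sm gj N54226 = N52457 := ded_37_2 (flp_d L712125) (flp_j L712095) L730692
theorem L730698 : sm gh N54226 = N52484 := ded_38_2 (flp_d L712310) (flp_h L691439) (flp_d L691175) L712091 L730692
theorem L730700 : sm gd N52454 = N54227 := rfl
theorem L730702 : sm ga N54227 = N52457 := ded_12_1 (flp_d L712125) (flp_a L712105) L730700
theorem L730704 : sm gg N54227 = N52465 := ded_36_2 (flp_d L712183) (flp_g L712107) L730700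
theorem L730706 : sm gh N54227 = N52485 := ded_38_2 (flp_d L712317) (flp_h L691455) (flp_d L691189) L712103 L730700
theorem L730708 : sm gh N52455 = N54228 := rfl
theorem L730710 : sm gb N54228 = N52459 := ded_25_1 (flp_h L712143) (flp_b L712111) L730708
theorem L730712 : sm gf N54228 = N52456 := ded_47_1 (flp_h L712117) (flp_f L712115) L730708
theorem L730714 : sm gc N52457 = N54229 := rfl
theorem L730716 : sm gg N54229 = N52468 := ded_30_2 (flp_c L712201) (flp_g L712129) L730714
theorem L730718 : sm gh N54229 = N52486 := ded_32_2 (flp_c L712324) (flp_h L712131) L730714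
theorem L730720 : sm ge N52457 = N54230 := rfl
theorem L730722 : sm gb N54230 = N52461 := ded_21_1 (flp_e L712157) (flp_b L712127) L730720
theorem L730724 : sm gg N54230 = N52469 := ded_41_2 (flp_e L712205) (flp_g L712129) L730720
theorem L730726 : sm gh N54230 = N52487 := ded_43_2 (flp_e L712331) (flp_h L712131) L730720
theorem L730728 : sm gh N52458 = N54231 := rfl
theorem L730730 : sm gc N54231 = N52463 := ded_32_1 (flp_h L712171) (flp_c L712135) L730728
theorem L730732 : sm gf N54231 = N52470 := ded_47_1 (flp_h L712211) (flp_f L712139) L730728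
theorem L730734 : sm gg N54231 = N52459 := ded_50_1 (flp_h L712143) (flp_g L712141) L730728
theorem L730736 : sm gd N52459 = N54232 := rfl
theorem L730738 : sm gf N54232 = N52460 := ded_35_2 (flp_d L712149) (flp_f L712147) L730736
theorem L730740 : sm gj N54232 = N52463 := ded_37_2 (flp_d L715525) L715523 L730736
theorem L730742 : sm gh N54232 = N52462 := ded_38_2 L712165 L691339 (flp_d L691227) L712143 L730736
theorem L730744 : sm gf N52461 = N54233 := rfl
theorem L730746 : sm gh N54233 = N52488 := ded_47_2 (flp_f L712340) (flp_h L712161) L730744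
theorem L730748 : sm gg N52472 = N54234 := rfl
theorem L730750 : sm gh N54234 = N52489 := ded_50_2 (flp_g L712345) (flp_h L712225) L730748
theorem L730752 : sm gd N52473 = N54235 := rfl
theorem L730754 : sm gf N54235 = N52486 := ded_35_2 L712329 (flp_f L712231) L730752
theorem L730756 : sm gg N54235 = N52475 := ded_36_2 (flp_d L712247) (flp_g L712233) L730752
theorem L730758 : sm gi N54235 = N54235 := ded_39_2 (flp_d L730752) L712235 L730752
theorem L730759 : sm gc N54235 = N52479 := ded_27_1 (flp_d L712282) L691405 (flp_d L691355) (flp_c L712229) L730752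
theorem L730761 : sm gd N52474 = N54236 := rfl
theorem L730763 : sm gb N54236 = N52475 := ded_20_1 (flp_d L712247) (flp_b L712238) L730761
theorem L730765 : sm gf N54236 = N52484 := ded_35_2 (flp_d L712310) (flp_f L712242) L730761
theorem L730767 : sm gj N54236 = N52479 := ded_37_2 (flp_d L712282) (flp_j L712244) L730761
theorem L730769 : sm gi N54236 = N54236 := ded_39_2 (flp_d L730761) L712246 L730761
theorem L730770 : sm ge N52475 = N54237 := rfl
theorem L730772 : sm gj N54237 = N52483 := ded_42_2 (flp_e L712307) (flp_j L712251) L730770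
theorem L730774 : sm gi N54237 = N54237 := ded_44_2 (flp_e L730770) L712253 L730770
theorem L730775 : sm gd N52476 = N54238 := rfl
theorem L730777 : sm ga N54238 = N52479 := ded_12_1 (flp_d L712282) (flp_a L712256) L730775
theorem L730779 : sm gf N54238 = N52485 := ded_35_2 (flp_d L712317) (flp_f L712260) L730775
theorem L730781 : sm gi N54238 = N54238 := ded_39_2 (flp_d L730775) L712262 L730775
theorem L730782 : sm gh N52477 = N54239 := rfl
theorem L730784 : sm gb N54239 = N52481 := ded_25_1 (flp_h L712296) (flp_b L712265) L730782
theorem L730786 : sm gf N54239 = N52722 := ded_47_1 (flp_h L714087) (flp_f L712269) L730782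
theorem L730788 : sm gd N52478 = N54240 := rfl
theorem L730790 : sm gb N54240 = N52482 := ded_20_1 (flp_d L712302) (flp_b L712273) L730788
theorem L730792 : sm gf N54240 = N52723 := ded_35_2 (flp_d L714092) (flp_f L712279) L730788
theorem L730794 : sm gi N54240 = N54240 := ded_39_2 (flp_d L730788) L712281 L730788
theorem L730795 : sm ge N52479 = N54241 := rfl
theorem L730797 : sm gb N54241 = N52483 := ded_21_1 (flp_e L712307) (flp_b L712284) L730795
theorem L730799 : sm gi N54241 = N54241 := ded_44_2 (flp_e L730795) L712288 L730795
theorem L730800 : sm gh N52480 = N54242 := rfl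
theorem L730802 : sm gc N54242 = N52697 := ded_32_1 (flp_h L713899) (flp_c L712291) L730800
theorem L730804 : sm gf N54242 = N52724 := ded_47_1 (flp_h L714098) (flp_f L712294) L730800
theorem L730806 : sm gi N54242 = N52481 := ded_54_2 (flp_h L712296) (flp_i L691417) L691410 L712289 L730800
theorem L730808 : sm gd N52481 = N54243 := rfl
theorem L730810 : sm gf N54243 = N52725 := ded_35_2 (flp_d L714105) (flp_f L712300) L730808
theorem L730812 : sm gh N54243 = N52482 := ded_38_2 (flp_d L712302) (flp_h L691425) (flp_d L691421) L712296 L730808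
theorem L730814 : sm ge N52482 = N54244 := rfl
theorem L730816 : sm gi N54244 = N54244 := ded_44_2 (flp_e L730814) L712306 L730814
theorem L730817 : sm gd N54244 = N52483 := ded_34_1 (flp_e L712307) (flp_d L691434) (flp_e L691429) L712302 L730814
theorem L730819 : sm gf N52483 = N54245 := rfl
theorem L730821 : sm gi N54245 = N54245 := ded_48_2 (flp_f L730819) L712309 L730819
theorem L730822 : sm ge N54245 = N52488 := ded_40_1 (flp_f L712340) (flp_e L691473) (flp_f L691436) L712307 L730819
theorem L730824 : sm gf N52487 = N54246 := rfl
theorem L730826 : sm gb N54246 = N52488 := ded_22_1 (flp_f L712340) (flp_b L712333) L730824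
theorem L730828 : sm gd N54246 = N52726 := ded_35_1 (flp_f L714110) (flp_d L712338) L730824
theorem L730830 : sm gi N54246 = N54246 := ded_48_2 (flp_f L730824) L712337 L730824
theorem L730831 : sm gg N52488 = N54247 := rfl
theorem L730833 : sm gd N54247 = N52727 := ded_36_1 (flp_g L714115) (flp_d L712342) L730831
theorem L730835 : sm gi N54247 = N54247 := ded_51_2 (flp_g L730831) L712344 L730831
theorem L730836 : sm gf N54247 = N52489 := ded_45_1 (flp_g L712345) (flp_f L691497) (flp_g L691475) L712340 L730831
theorem L730838 : sm gf N52492 = N54248 := rfl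
theorem L730840 : sm ga N54248 = N52509 := ded_14_1 (flp_f L712502) (flp_a L712372) L730838
theorem L730842 : sm ge N54248 = N54248 := ded_40_1 (flp_f L730838) (flp_e L712370) L691610 L712370 L730838
theorem L730843 : sm gi N52492 = N54249 := rfl
theorem L730845 : sm ga N54249 = N52510 := ded_18_1 (flp_i L712505) (flp_a L712372) L730843
theorem L730847 : sm ge N54249 = N52493 := ded_44_1 (flp_i L712376) L712370 L730843
theorem L730849 : sm gg N54249 = N52494 := ded_51_1 (flp_i L712385) (flp_g L712374) L730843
theorem L730851 : sm gh N52493 = N54250 := rfl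
theorem L730853 : sm ga N54250 = N52511 := ded_17_1 (flp_h L712511) (flp_a L712378) L730851
theorem L730855 : sm gf N54250 = N54250 := ded_47_1 (flp_h L730851) L712382 L730851
theorem L730856 : sm gg N54250 = N52495 := ded_50_1 (flp_h L712393) (flp_g L712383) L730851
theorem L730858 : sm gd N54250 = N52557 := ded_38_1 (flp_h L712865) L692204 (flp_h L691622) (flp_d L712380) L730851
theorem L730860 : sm gh N52494 = N54251 := rfl
theorem L730862 : sm ga N54251 = N52520 := ded_17_1 (flp_h L712582) (flp_a L712387) L730860
theorem L730864 : sm ge N54251 = N52495 := ded_43_1 (flp_h L712393) (flp_e L712389) L730860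
theorem L730866 : sm gj N54251 = N52496 := ded_52_1 (flp_h L712403) (flp_j L712391) L730860
theorem L730868 : sm gd N52496 = N54252 := rfl
theorem L730870 : sm ga N54252 = N52530 := ded_12_1 (flp_d L712653) (flp_a L712405) L730868
theorem L730872 : sm ge N54252 = N52571 := ded_34_2 (flp_d L712972) L692299 (flp_d L691652) (flp_e L712407) L730868
theorem L730874 : sm gh N52497 = N54253 := rfl
theorem L730876 : sm ge N54253 = N52498 := ded_43_1 (flp_h L712415) (flp_e L712413) L730874
theorem L730878 : sm gi N52499 = N54254 := rfl
theorem L730880 : sm ge N54254 = N52500 := ded_44_1 (flp_i L712427) L712421 L730878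
theorem L730882 : sm gg N54254 = N52501 := ded_51_1 (flp_i L712434) (flp_g L712423) L730878
theorem L730884 : sm gh N52500 = N54255 := rfl
theorem L730886 : sm gf N54255 = N54255 := ded_47_1 (flp_h L730884) L712431 L730884
theorem L730887 : sm gg N54255 = N52502 := ded_50_1 (flp_h L712440) (flp_g L712432) L730884
theorem L730889 : sm gd N54255 = N52589 := ded_38_1 (flp_h L713096) L692482 (flp_h L691687) (flp_d L712429) L730884
theorem L730891 : sm gi N54255 = N52511 := ded_54_2 (flp_h L712511) (flp_i L691774) (flp_h L691678) L712427 L730884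
theorem L730893 : sm gh N52501 = N54256 := rfl
theorem L730895 : sm ge N54256 = N52502 := ded_43_1 (flp_h L712440) (flp_e L712436) L730893
theorem L730897 : sm gj N54256 = N52504 := ded_52_1 (flp_h L712458) (flp_j L712438) L730893
theorem L730899 : sm gi N54256 = N52520 := ded_54_2 (flp_h L712582) (flp_i L691813) (flp_h L691693) L712434 L730893
theorem L730901 : sm gh N52503 = N54257 := rfl
theorem L730903 : sm gb N54257 = N52552 := ded_25_1 (flp_h L712825) (flp_b L712452) L730901
theorem L730905 : sm ge N54257 = N52506 := ded_43_1 (flp_h L712479) (flp_e L712454) L730901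
theorem L730907 : sm gf N54257 = N52504 := ded_47_1 (flp_h L712458) (flp_f L712456) L730901
theorem L730909 : sm gi N54257 = N52529 := ded_54_2 (flp_h L712645) (flp_i L691861) (flp_h L691707) L712450 L730901
theorem L730911 : sm gd N52504 = N54258 := rfl
theorem L730913 : sm gi N54258 = N52530 := ded_39_2 (flp_d L712653) (flp_i L712462) L730911
theorem L730915 : sm ge N54258 = N52611 := ded_34_2 (flp_d L713256) L692591 (flp_d L691719) (flp_e L712460) L730911
theorem L730917 : sm gf N52507 = N54259 := rfl
theorem L730919 : sm gc N54259 = N52509 := ded_29_1 (flp_f L712502) (flp_c L712489) L730917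
theorem L730921 : sm ge N54259 = N54259 := ded_40_1 (flp_f L730917) (flp_e L712487) L691765 L712487 L730917
theorem L730922 : sm gi N52507 = N54260 := rfl
theorem L730924 : sm gc N54260 = N52510 := ded_33_1 (flp_i L712505) (flp_c L712489) L730922
theorem L730926 : sm ge N54260 = N52508 := ded_44_1 (flp_i L712493) L712487 L730922
theorem L730928 : sm gg N54260 = N52516 := ded_51_1 (flp_i L712548) (flp_g L712491) L730922
theorem L730930 : sm gh N52508 = N54261 := rfl
theorem L730932 : sm gc N54261 = N52511 := ded_32_1 (flp_h L712511) (flp_c L712495) L730930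
theorem L730934 : sm gf N54261 = N54261 := ded_47_1 (flp_h L730930) L712499 L730930
theorem L730935 : sm gg N54261 = N52517 := ded_50_1 (flp_h L712556) (flp_g L712500) L730930
theorem L730937 : sm gg N52509 = N54262 := rfl
theorem L730939 : sm gb N54262 = N52555 := ded_23_1 (flp_g L727753) L727744 L730937
theorem L730941 : sm ge N54262 = N54262 := ded_41_1 (flp_g L730937) L712504 L730937
theorem L730942 : sm gh N54262 = N52525 := ded_50_2 (flp_g L724848) (flp_h L724851) L730937
theorem L730944 : sm gf N54262 = N52518 := ded_45_1 (flp_g L712564) (flp_f L691805) (flp_g L691772) L712502 L730937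
theorem L730946 : sm gi N52509 = N54263 := rfl
theorem L730948 : sm ge N54263 = N54263 := ded_44_1 (flp_i L730946) L712504 L730946
theorem L730949 : sm gf N54263 = N52510 := ded_48_1 (flp_i L712505) L712502 L730946
theorem L730951 : sm gh N52510 = N54264 := rfl
theorem L730953 : sm ge N54264 = N52511 := ded_43_1 (flp_h L712511) (flp_e L712507) L730951
theorem L730955 : sm gg N54264 = N52520 := ded_50_1 (flp_h L712582) (flp_g L712509) L730951
theorem L730957 : sm gf N52512 = N54265 := rfl
theorem L730959 : sm gb N54265 = N52515 := ded_22_1 (flp_f L712540) (flp_b L712520) L730957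
theorem L730961 : sm gc N54265 = N52558 := ded_29_1 L718665 L718663 L730957
theorem L730963 : sm gj N54265 = N52522 := ded_46_2 (flp_f L712600) (flp_j L712522) L730957
theorem L730965 : sm ge N54265 = N52531 := ded_40_1 (flp_f L712657) (flp_e L691873) (flp_f L691785) L712518 L730957
theorem L730967 : sm gi N52512 = N54266 := rfl
theorem L730969 : sm gb N54266 = N52516 := ded_26_1 (flp_i L712548) (flp_b L712520) L730967
theorem L730971 : sm ge N54266 = N52513 := ded_44_1 (flp_i L712524) L712518 L730967
theorem L730973 : sm gj N54266 = N52523 := ded_53_1 (flp_i L712608) (flp_j L712522) L730967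
theorem L730975 : sm gh N52513 = N54267 := rfl
theorem L730977 : sm gb N54267 = N52517 := ded_25_1 (flp_h L712556) (flp_b L712526) L730975
theorem L730979 : sm gf N54267 = N52533 := ded_47_1 (flp_h L712678) (flp_f L712530) L730975
theorem L730981 : sm gj N54267 = N52524 := ded_52_1 (flp_h L712614) (flp_j L712532) L730975
theorem L730983 : sm gf N52514 = N54268 := rfl
theorem L730985 : sm gd N54268 = N52515 := ded_35_1 (flp_f L712540) L712534 L730983
theorem L730987 : sm gj N54268 = N52525 := ded_46_2 (flp_f L712620) (flp_j L712536) L730983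
theorem L730989 : sm ge N54268 = N54268 := ded_40_1 (flp_f L730983) L712538 L692029 (flp_e L712538) L730983
theorem L730990 : sm gi N52514 = N54269 := rfl
theorem L730992 : sm gd N54269 = N52516 := ded_39_1 (flp_i L712548) L712534 L730990
theorem L730994 : sm ge N54269 = N52543 := ded_44_1 (flp_i L712756) (flp_e L712538) L730990
theorem L730996 : sm gj N54269 = N52526 := ded_53_1 (flp_i L712625) (flp_j L712536) L730990
theorem L730998 : sm gi N52515 = N54270 := rfl
theorem L731000 : sm gc N54270 = N52519 := ded_33_1 (flp_i L712572) (flp_c L712542) L730998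
theorem L731002 : sm ge N54270 = N52534 := ded_44_1 (flp_i L712685) (flp_e L712546) L730998
theorem L731004 : sm gf N54270 = N52516 := ded_48_1 (flp_i L712548) L712540 L730998
theorem L731006 : sm gj N54270 = N52527 := ded_53_1 (flp_i L712631) (flp_j L712544) L730998
theorem L731008 : sm gh N52516 = N54271 := rfl
theorem L731010 : sm gc N54271 = N52520 := ded_32_1 (flp_h L712582) (flp_c L712550) L731008
theorem L731012 : sm ge N54271 = N52517 := ded_43_1 (flp_h L712556) (flp_e L712552) L731008
theorem L731014 : sm gj N54271 = N52528 := ded_52_1 (flp_h L712639) (flp_j L712554) L731008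
theorem L731016 : sm gi N52518 = N54272 := rfl
theorem L731018 : sm gb N54272 = N52556 := ded_26_1 (flp_i L712857) (flp_b L712566) L731016
theorem L731020 : sm ge N54272 = N52536 := ded_44_1 (flp_i L712703) (flp_e L712568) L731016
theorem L731022 : sm gg N54272 = N52519 := ded_51_1 (flp_i L712572) L712564 L731016
theorem L731024 : sm gh N52519 = N54273 := rfl
theorem L731026 : sm gb N54273 = N52562 := ded_25_1 (flp_h L712908) (flp_b L712574) L731024
theorem L731028 : sm ge N54273 = N52537 := ded_43_1 (flp_h L712712) (flp_e L712576) L731024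
theorem L731030 : sm gf N54273 = N52520 := ded_47_1 (flp_h L712582) (flp_f L712578) L731024
theorem L731032 : sm gj N54273 = N52529 := ded_52_1 (flp_h L712645) (flp_j L712580) L731024
theorem L731034 : sm gd N52520 = N54274 := rfl
theorem L731036 : sm gj N54274 = N52530 := ded_37_2 (flp_d L712653) (flp_j L712586) L731034
theorem L731038 : sm ge N54274 = N52646 := ded_34_2 (flp_d L713540) L692887 (flp_d L691825) (flp_e L712584) L731034
theorem L731040 : sm gf N52521 = N54275 := rfl
theorem L731042 : sm ga N54275 = N52587 := ded_14_1 (flp_f L713085) (flp_a L712590) L731040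
theorem L731044 : sm gb N54275 = N52525 := ded_22_1 (flp_f L712620) (flp_b L712592) L731040
theorem L731046 : sm gd N54275 = N52522 := ded_35_1 (flp_f L712600) L712588 L731040
theorem L731048 : sm gh N54275 = N52555 := ded_47_2 (flp_f L712852) L712598 L731040
theorem L731050 : sm ge N54275 = N54275 := ded_40_1 (flp_f L731040) L712596 L692061 (flp_e L712596) L731040
theorem L731051 : sm gi N52521 = N54276 := rfl
theorem L731053 : sm ga N54276 = N52588 := ded_18_1 (flp_i L713090) (flp_a L712590) L731051
theorem L731055 : sm gb N54276 = N52526 := ded_26_1 (flp_i L712625) (flp_b L712592) L731051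
theorem L731057 : sm gd N54276 = N52523 := ded_39_1 (flp_i L712608) L712588 L731051
theorem L731059 : sm ge N54276 = N52544 := ded_44_1 (flp_i L712763) (flp_e L712596) L731051
theorem L731061 : sm gg N54276 = N52550 := ded_51_1 (flp_i L712807) (flp_g L712594) L731051
theorem L731063 : sm gi N52522 = N54277 := rfl
theorem L731065 : sm gb N54277 = N52527 := ded_26_1 (flp_i L712631) (flp_b L712602) L731063
theorem L731067 : sm gc N54277 = N52566 := ded_33_1 (flp_i L712938) (flp_c L712604) L731063
theorem L731069 : sm ge N54277 = N52538 := ded_44_1 (flp_i L712720) (flp_e L712606) L731063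
theorem L731071 : sm gf N54277 = N52523 := ded_48_1 (flp_i L712608) L712600 L731063
theorem L731073 : sm gh N52523 = N54278 := rfl
theorem L731075 : sm gb N54278 = N52528 := ded_25_1 (flp_h L712639) (flp_b L712610) L731073
theorem L731077 : sm ge N54278 = N52524 := ded_43_1 (flp_h L712614) (flp_e L712612) L731073
theorem L731079 : sm gi N52525 = N54279 := rfl
theorem L731081 : sm gd N54279 = N52527 := ded_39_1 (flp_i L712631) (flp_d L712622) L731079
theorem L731083 : sm ge N54279 = N54279 := ded_44_1 (flp_i L731079) L712624 L731079
theorem L731084 : sm gf N54279 = N52526 := ded_48_1 (flp_i L712625) L712620 L731079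
theorem L731086 : sm gh N52526 = N54280 := rfl
theorem L731088 : sm ge N54280 = N52545 := ded_43_1 (flp_h L712774) (flp_e L712629) L731086
theorem L731090 : sm gh N52527 = N54281 := rfl
theorem L731092 : sm gc N54281 = N52529 := ded_32_1 (flp_h L712645) (flp_c L712633) L731090
theorem L731094 : sm ge N54281 = N52540 := ded_43_1 (flp_h L712739) (flp_e L712635) L731090
theorem L731096 : sm gf N54281 = N52528 := ded_47_1 (flp_h L712639) (flp_f L712637) L731090
theorem L731098 : sm gd N52528 = N54282 := rfl
theorem L731100 : sm gd N52529 = N54283 := rfl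
theorem L731102 : sm gb N54283 = N52571 := ded_20_1 (flp_d L712972) (flp_b L712647) L731100
theorem L731104 : sm gf N54283 = N52530 := ded_35_2 (flp_d L712653) (flp_f L712651) L731100
theorem L731106 : sm gc N52530 = N54284 := rfl
theorem L731108 : sm ge N54284 = N52669 := ded_28_2 (flp_c L713684) (flp_e L712655) L731106
theorem L731110 : sm gi N52531 = N54285 := rfl
theorem L731112 : sm gb N54285 = N52534 := ded_26_1 (flp_i L712685) (flp_b L712659) L731110
theorem L731114 : sm gc N54285 = N52559 := ded_33_1 (flp_i L712878) (flp_c L712661) L731110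
theorem L731116 : sm gd N54285 = N54285 := ded_39_1 (flp_i L731110) L712663 L731110
theorem L731117 : sm gf N54285 = N52532 := ded_48_1 (flp_i L712666) L712657 L731110
theorem L731119 : sm gj N54285 = N52538 := ded_53_1 (flp_i L712720) (flp_j L712664) L731110
theorem L731121 : sm gh N52532 = N54286 := rfl
theorem L731123 : sm gb N54286 = N52535 := ded_25_1 (flp_h L712694) (flp_b L712668) L731121
theorem L731125 : sm gc N54286 = N52573 := ded_32_1 (flp_h L712987) (flp_c L712670) L731121
theorem L731127 : sm ge N54286 = N52533 := ded_43_1 (flp_h L712678) (flp_e L712673) L731121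
theorem L731129 : sm gg N54286 = N54286 := ded_50_1 (flp_h L731121) L712675 L731121
theorem L731130 : sm gj N54286 = N52539 := ded_52_1 (flp_h L712729) (flp_j L712676) L731121
theorem L731132 : sm gh N52534 = N54287 := rfl
theorem L731134 : sm gc N54287 = N52537 := ded_32_1 (flp_h L712712) (flp_c L712687) L731132
theorem L731136 : sm gf N54287 = N52535 := ded_47_1 (flp_h L712694) (flp_f L712690) L731132
theorem L731138 : sm gj N54287 = N52540 := ded_52_1 (flp_h L712739) (flp_j L712692) L731132
theorem L731140 : sm gd N52535 = N54288 := rfl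
theorem L731142 : sm gg N54288 = N54288 := ded_36_2 (flp_d L731140) L712700 L731140
theorem L731143 : sm gj N54288 = N52541 := ded_37_2 (flp_d L712745) (flp_j L712701) L731140
theorem L731145 : sm gh N54288 = N54288 := ded_38_2 (flp_d L731140) (flp_h L712694) L691903 L712694 L731140
theorem L731146 : sm gh N52536 = N54289 := rfl
theorem L731148 : sm gb N54289 = N52557 := ded_25_1 (flp_h L712865) (flp_b L712705) L731146
theorem L731150 : sm gf N54289 = N54289 := ded_47_1 (flp_h L731146) L712709 L731146
theorem L731151 : sm gg N54289 = N52537 := ded_50_1 (flp_h L712712) (flp_g L712710) L731146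
theorem L731153 : sm gi N54289 = N52545 := ded_54_2 (flp_h L712774) (flp_i L692079) (flp_h L691922) L712703 L731146
theorem L731155 : sm gh N52538 = N54290 := rfl
theorem L731157 : sm gb N54290 = N52540 := ded_25_1 (flp_h L712739) (flp_b L712722) L731155
theorem L731159 : sm gc N54290 = N52567 := ded_32_1 (flp_h L712944) (flp_c L712724) L731155
theorem L731161 : sm gf N54290 = N52539 := ded_47_1 (flp_h L712729) (flp_f L712727) L731155
theorem L731163 : sm gd N52539 = N54291 := rfl
theorem L731165 : sm gb N54291 = N52541 := ded_20_1 (flp_d L712745) (flp_b L712731) L731163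
theorem L731167 : sm gg N54291 = N52542 := ded_36_2 (flp_d L712750) (flp_g L712737) L731163
theorem L731169 : sm gh N54291 = N54291 := ded_38_2 (flp_d L731163) (flp_h L712729) L691957 L712729 L731163
theorem L731170 : sm gd N52540 = N54292 := rfl
theorem L731172 : sm gf N54292 = N52541 := ded_35_2 (flp_d L712745) (flp_f L712743) L731170
theorem L731174 : sm gh N54292 = N54292 := ded_38_2 (flp_d L731170) (flp_h L712739) L691972 L712739 L731170
theorem L731175 : sm gh N52543 = N54293 := rfl
theorem L731177 : sm gf N54293 = N54293 := ded_47_1 (flp_h L731175) L712760 L731175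
theorem L731178 : sm gj N54293 = N52545 := ded_52_1 (flp_h L712774) (flp_j L712761) L731175
theorem L731180 : sm gh N52544 = N54294 := rfl
theorem L731182 : sm ga N54294 = N52589 := ded_17_1 (flp_h L713096) (flp_a L712765) L731180
theorem L731184 : sm gb N54294 = N52545 := ded_25_1 (flp_h L712774) (flp_b L712767) L731180
theorem L731186 : sm gf N54294 = N54294 := ded_47_1 (flp_h L731180) L712771 L731180
theorem L731187 : sm gg N54294 = N52551 := ded_50_1 (flp_h L712815) (flp_g L712772) L731180
theorem L731189 : sm gi N54294 = N52557 := ded_54_2 (flp_h L712865) (flp_i L692200) (flp_h L692064) L712763 L731180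
theorem L731191 : sm gi N52546 = N54295 := rfl
theorem L731193 : sm ga N54295 = N52582 := ded_18_1 (flp_i L713052) (flp_a L712779) L731191
theorem L731195 : sm gc N54295 = N52548 := ded_33_1 (flp_i L712793) (flp_c L712781) L731191
theorem L731197 : sm ge N54295 = N52547 := ded_44_1 (flp_i L712783) L712777 L731191
theorem L731199 : sm gh N52547 = N54296 := rfl
theorem L731201 : sm ga N54296 = N52583 := ded_17_1 (flp_h L713058) (flp_a L712785) L731199
theorem L731203 : sm gc N54296 = N52549 := ded_32_1 (flp_h L712801) (flp_c L712787) L731199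
theorem L731205 : sm gf N54296 = N52766 := ded_47_1 (flp_h L714449) (flp_f L712791) L731199
theorem L731207 : sm gh N52548 = N54297 := rfl
theorem L731209 : sm ga N54297 = N52584 := ded_17_1 (flp_h L713064) (flp_a L712795) L731207
theorem L731211 : sm ge N54297 = N52549 := ded_43_1 (flp_h L712801) (flp_e L712799) L731207
theorem L731213 : sm gh N52550 = N54298 := rfl
theorem L731215 : sm ga N54298 = N52595 := ded_17_1 (flp_h L713145) (flp_a L712809) L731213
theorem L731217 : sm ge N54298 = N52551 := ded_43_1 (flp_h L712815) (flp_e L712811) L731213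
theorem L731219 : sm gj N54298 = N52552 := ded_52_1 (flp_h L712825) (flp_j L712813) L731213
theorem L731221 : sm gi N54298 = N52562 := ded_54_2 (flp_h L712908) (flp_i L692237) (flp_h L692150) L712807 L731213
theorem L731223 : sm gd N52552 = N54299 := rfl
theorem L731225 : sm ga N54299 = N52611 := ded_12_1 (flp_d L713256) (flp_a L712827) L731223
theorem L731227 : sm gi N54299 = N52571 := ded_39_2 (flp_d L712972) (flp_i L712831) L731223
theorem L731229 : sm gi N52553 = N54300 := rfl
theorem L731231 : sm ga N54300 = N52631 := ded_18_1 (flp_i L713421) (flp_a L712835) L731229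
theorem L731233 : sm gc N54300 = N52556 := ded_33_1 (flp_i L712857) (flp_c L712837) L731229
theorem L731235 : sm ge N54300 = N52554 := ded_44_1 (flp_i L712841) L712833 L731229
theorem L731237 : sm gg N54300 = N52560 := ded_51_1 (flp_i L712888) (flp_g L712839) L731229
theorem L731239 : sm gh N52554 = N54301 := rfl
theorem L731241 : sm ga N54301 = N52632 := ded_17_1 (flp_h L713429) (flp_a L712843) L731239
theorem L731243 : sm gc N54301 = N52557 := ded_32_1 (flp_h L712865) (flp_c L712845) L731239
theorem L731245 : sm gf N54301 = N54301 := ded_47_1 (flp_h L731239) L712849 L731239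
theorem L731246 : sm gg N54301 = N52561 := ded_50_1 (flp_h L712898) (flp_g L712850) L731239
theorem L731248 : sm gi N52555 = N54302 := rfl
theorem L731250 : sm ga N54302 = N52634 := ded_18_1 (flp_i L713441) (flp_a L712854) L731248
theorem L731252 : sm ge N54302 = N54302 := ded_44_1 (flp_i L731248) L712856 L731248
theorem L731253 : sm gf N54302 = N52556 := ded_48_1 (flp_i L712857) L712852 L731248
theorem L731255 : sm gh N52556 = N54303 := rfl
theorem L731257 : sm ga N54303 = N52635 := ded_17_1 (flp_h L713446) (flp_a L712859) L731255
theorem L731259 : sm ge N54303 = N52557 := ded_43_1 (flp_h L712865) (flp_e L712861) L731255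
theorem L731261 : sm gg N54303 = N52562 := ded_50_1 (flp_h L712908) (flp_g L712863) L731255
theorem L731263 : sm gi N52558 = N54304 := rfl
theorem L731265 : sm gb N54304 = N52560 := ded_26_1 (flp_i L712888) (flp_b L712874) L731263
theorem L731267 : sm ge N54304 = N52559 := ded_44_1 (flp_i L712878) L712872 L731263
theorem L731269 : sm gj N54304 = N52566 := ded_53_1 (flp_i L712938) (flp_j L712876) L731263
theorem L731271 : sm gh N52559 = N54305 := rfl
theorem L731273 : sm gb N54305 = N52561 := ded_25_1 (flp_h L712898) (flp_b L712880) L731271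
theorem L731275 : sm gf N54305 = N52573 := ded_47_1 (flp_h L712987) (flp_f L712884) L731271
theorem L731277 : sm gj N54305 = N52567 := ded_52_1 (flp_h L712944) (flp_j L712886) L731271
theorem L731279 : sm gh N52560 = N54306 := rfl
theorem L731281 : sm ga N54306 = N52641 := ded_17_1 (flp_h L713502) (flp_a L712890) L731279
theorem L731283 : sm gc N54306 = N52562 := ded_32_1 (flp_h L712908) (flp_c L712892) L731279
theorem L731285 : sm ge N54306 = N52561 := ded_43_1 (flp_h L712898) (flp_e L712894) L731279
theorem L731287 : sm gj N54306 = N52570 := ded_52_1 (flp_h L712964) (flp_j L712896) L731279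
theorem L731289 : sm gd N52562 = N54307 := rfl
theorem L731291 : sm ga N54307 = N52646 := ded_12_1 (flp_d L713540) (flp_a L712910) L731289
theorem L731293 : sm gj N54307 = N52571 := ded_37_2 (flp_d L712972) (flp_j L712914) L731289
theorem L731295 : sm gi N52563 = N54308 := rfl
theorem L731297 : sm ga N54308 = N52566 := ded_18_1 (flp_i L712938) (flp_a L712918) L731295
theorem L731299 : sm gb N54308 = N52648 := ded_26_1 (flp_i L713550) (flp_b L712920) L731295
theorem L731301 : sm ge N54308 = N52564 := ded_44_1 (flp_i L712922) L712916 L731295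
theorem L731303 : sm gh N52564 = N54309 := rfl
theorem L731305 : sm ga N54309 = N52567 := ded_17_1 (flp_h L712944) (flp_a L712924) L731303
theorem L731307 : sm gb N54309 = N52649 := ded_25_1 (flp_h L713556) (flp_b L712926) L731303
theorem L731309 : sm gf N54309 = N52574 := ded_47_1 (flp_h L712994) (flp_f L712930) L731303
theorem L731311 : sm gi N52565 = N54310 := rfl
theorem L731313 : sm gb N54310 = N52569 := ded_26_1 (flp_i L712956) (flp_b L712934) L731311
theorem L731315 : sm gd N54310 = N52566 := ded_39_1 (flp_i L712938) L712932 L731311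
theorem L731317 : sm ge N54310 = N52575 := ded_44_1 (flp_i L713002) (flp_e L712936) L731311
theorem L731319 : sm gh N52566 = N54311 := rfl
theorem L731321 : sm gb N54311 = N52570 := ded_25_1 (flp_h L712964) (flp_b L712940) L731319
theorem L731323 : sm ge N54311 = N52567 := ded_43_1 (flp_h L712944) (flp_e L712942) L731319
theorem L731325 : sm gi N52568 = N54312 := rfl
theorem L731327 : sm ga N54312 = N52659 := ded_18_1 (flp_i L713632) (flp_a L712952) L731325
theorem L731329 : sm ge N54312 = N52576 := ded_44_1 (flp_i L713010) (flp_e L712954) L731325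
theorem L731331 : sm gh N52569 = N54313 := rfl
theorem L731333 : sm ga N54313 = N52660 := ded_17_1 (flp_h L713636) (flp_a L712958) L731331
theorem L731335 : sm ge N54313 = N52577 := ded_43_1 (flp_h L713018) (flp_e L712962) L731331
theorem L731337 : sm gd N52570 = N54314 := rfl
theorem L731339 : sm ga N54314 = N52664 := ded_12_1 (flp_d L713662) (flp_a L712966) L731337
theorem L731341 : sm gc N52571 = N54315 := rfl
theorem L731343 : sm ga N54315 = N52669 := ded_11_1 (flp_c L713684) (flp_a L712974) L731341
theorem L731345 : sm gh N52572 = N54316 := rfl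
theorem L731347 : sm ga N54316 = N52573 := ded_17_1 (flp_h L712987) (flp_a L712978) L731345
theorem L731349 : sm gb N54316 = N52672 := ded_25_1 (flp_h L713705) (flp_b L712980) L731345
theorem L731351 : sm gg N54316 = N54316 := ded_50_1 (flp_h L731345) L712984 L731345
theorem L731352 : sm gj N54316 = N52574 := ded_52_1 (flp_h L712994) (flp_j L712985) L731345
theorem L731354 : sm gd N54316 = N52736 := ded_38_1 (flp_h L714208) L693979 (flp_h L692435) (flp_d L712982) L731345
theorem L731356 : sm gh N52575 = N54317 := rfl
theorem L731358 : sm gb N54317 = N52577 := ded_25_1 (flp_h L713018) (flp_b L713004) L731356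
theorem L731360 : sm gf N54317 = N52736 := ded_47_1 (flp_h L714208) (flp_f L713008) L731356
theorem L731362 : sm gh N52576 = N54318 := rfl
theorem L731364 : sm ga N54318 = N52697 := ded_17_1 (flp_h L713899) (flp_a L713012) L731362
theorem L731366 : sm gf N54318 = N52737 := ded_47_1 (flp_h L714213) (flp_f L713016) L731362
theorem L731368 : sm gi N54318 = N52577 := ded_54_2 (flp_h L713018) (flp_i L692415) L692407 L713010 L731362
theorem L731370 : sm ge N52578 = N54319 := rfl
theorem L731372 : sm ga N54319 = N52579 := ded_13_1 (flp_e L713034) L713024 L731370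
theorem L731374 : sm gb N54319 = N52661 := ded_21_1 L713644 (flp_b L713032) L731370
theorem L731376 : sm gj N54319 = N52652 := ded_42_2 L713586 (flp_j L713030) L731370
theorem L731378 : sm gi N52578 = N54320 := rfl
theorem L731380 : sm ga N54320 = N52580 := ded_18_1 (flp_i L713038) L713024 L731378
theorem L731382 : sm gb N54320 = N52685 := ded_26_1 (flp_i L713811) (flp_b L713032) L731378
theorem L731384 : sm gd N54320 = N52707 := ded_39_1 (flp_i L713990) (flp_d L713026) L731378
theorem L731386 : sm gf N54320 = N52691 := ded_48_1 (flp_i L713853) (flp_f L713028) L731378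
theorem L731388 : sm gj N54320 = N52682 := ded_53_1 (flp_i L713787) (flp_j L713030) L731378
theorem L731390 : sm gd N52579 = N54321 := rfl
theorem L731392 : sm gb N54321 = N52581 := ded_20_1 (flp_d L713046) (flp_b L713036) L731390
theorem L731394 : sm ge N54321 = N52708 := ded_34_2 (flp_d L714001) (flp_e L693407) (flp_d L692439) L713034 L731390
theorem L731396 : sm gi N52579 = N54322 := rfl
theorem L731398 : sm gb N54322 = N52582 := ded_26_1 (flp_i L713052) (flp_b L713036) L731396
theorem L731400 : sm ge N54322 = N52580 := ded_44_1 (flp_i L713038) L713034 L731396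
theorem L731402 : sm gh N52580 = N54323 := rfl
theorem L731404 : sm gb N54323 = N52583 := ded_25_1 (flp_h L713058) (flp_b L713040) L731402
theorem L731406 : sm gf N54323 = N52767 := ded_47_1 (flp_h L714456) (flp_f L713044) L731402
theorem L731408 : sm gh N52581 = N54324 := rfl
theorem L731410 : sm gc N54324 = N52603 := ded_32_1 (flp_h L713200) (flp_c L713048) L731408
theorem L731412 : sm ge N54324 = N52711 := ded_43_1 (flp_h L714022) (flp_e L713050) L731408
theorem L731414 : sm gi N52581 = N54325 := rfl
theorem L731416 : sm gc N54325 = N52604 := ded_33_1 (flp_i L713206) (flp_c L713048) L731414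
theorem L731418 : sm gd N54325 = N52582 := ded_39_1 (flp_i L713052) L713046 L731414
theorem L731420 : sm ge N54325 = N52712 := ded_44_1 (flp_i L714028) (flp_e L713050) L731414
theorem L731422 : sm gh N52582 = N54326 := rfl
theorem L731424 : sm gc N54326 = N52584 := ded_32_1 (flp_h L713064) (flp_c L713054) L731422
theorem L731426 : sm ge N54326 = N52583 := ded_43_1 (flp_h L713058) (flp_e L713056) L731422
theorem L731428 : sm gd N52583 = N54327 := rfl
theorem L731430 : sm gf N54327 = N52768 := ded_35_2 (flp_d L714461) (flp_f L713062) L731428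
theorem L731432 : sm gh N54327 = N52714 := ded_38_2 (flp_d L714043) (flp_h L693433) (flp_d L692451) L713058 L731428
theorem L731434 : sm gd N52584 = N54328 := rfl
theorem L731436 : sm gh N54328 = N52611 := ded_38_2 (flp_d L713256) (flp_h L692589) (flp_d L692457) L713064 L731434
theorem L731438 : sm gf N52585 = N54329 := rfl
theorem L731440 : sm gc N54329 = N52587 := ded_29_1 (flp_f L713085) (flp_c L713070) L731438
theorem L731442 : sm gh N54329 = N52630 := ded_47_2 (flp_f L713416) (flp_h L713074) L731438
theorem L731444 : sm ge N54329 = N54329 := ded_40_1 (flp_f L731438) (flp_e L713068) L692467 L713068 L731438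
theorem L731445 : sm gi N52585 = N54330 := rfl
theorem L731447 : sm gc N54330 = N52588 := ded_33_1 (flp_i L713090) (flp_c L713070) L731445
theorem L731449 : sm ge N54330 = N52586 := ded_44_1 (flp_i L713076) L713068 L731445
theorem L731451 : sm gg N54330 = N52593 := ded_51_1 (flp_i L713127) (flp_g L713072) L731445
theorem L731453 : sm gh N52586 = N54331 := rfl
theorem L731455 : sm gc N54331 = N52589 := ded_32_1 (flp_h L713096) (flp_c L713078) L731453
theorem L731457 : sm gf N54331 = N54331 := ded_47_1 (flp_h L731453) L713082 L731453
theorem L731458 : sm gg N54331 = N52594 := ded_50_1 (flp_h L713135) (flp_g L713083) L731453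
theorem L731460 : sm gi N54331 = N52632 := ded_54_2 (flp_h L713429) (flp_i L692800) (flp_h L692470) L713076 L731453
theorem L731462 : sm gi N52587 = N54332 := rfl
theorem L731464 : sm ge N54332 = N54332 := ded_44_1 (flp_i L731462) L713089 L731462
theorem L731465 : sm gf N54332 = N52588 := ded_48_1 (flp_i L713090) L713085 L731462
theorem L731467 : sm gh N52588 = N54333 := rfl
theorem L731469 : sm ge N54333 = N52589 := ded_43_1 (flp_h L713096) (flp_e L713092) L731467
theorem L731471 : sm gg N54333 = N52595 := ded_50_1 (flp_h L713145) (flp_g L713094) L731467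
theorem L731473 : sm gi N54333 = N52635 := ded_54_2 (flp_h L713446) (flp_i L692812) (flp_h L692478) L713090 L731467
theorem L731475 : sm gi N52590 = N54334 := rfl
theorem L731477 : sm gb N54334 = N52593 := ded_26_1 (flp_i L713127) (flp_b L713105) L731475
theorem L731479 : sm ge N54334 = N52591 := ded_44_1 (flp_i L713111) L713103 L731475
theorem L731481 : sm gj N54334 = N52600 := ded_53_1 (flp_i L713181) (flp_j L713107) L731475
theorem L731483 : sm gh N52591 = N54335 := rfl
theorem L731485 : sm gb N54335 = N52594 := ded_25_1 (flp_h L713135) (flp_b L713113) L731483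
theorem L731487 : sm gf N54335 = N52614 := ded_47_1 (flp_h L713281) (flp_f L713117) L731483
theorem L731489 : sm gj N54335 = N52601 := ded_52_1 (flp_h L713187) (flp_j L713119) L731483
theorem L731491 : sm gd N54335 = N52697 := ded_38_1 (flp_h L713899) L693292 (flp_h L693463) (flp_d L713115) L731483
theorem L731493 : sm gi N54335 = N52638 := ded_54_2 (flp_h L713472) (flp_i L692831) (flp_h L692495) L713111 L731483
theorem L731495 : sm gi N52592 = N54336 := rfl
theorem L731497 : sm gd N54336 = N52593 := ded_39_1 (flp_i L713127) L713121 L731495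
theorem L731499 : sm ge N54336 = N52715 := ded_44_1 (flp_i L714048) (flp_e L713125) L731495
theorem L731501 : sm gj N54336 = N52604 := ded_53_1 (flp_i L713206) (flp_j L713123) L731495
theorem L731503 : sm gh N52593 = N54337 := rfl
theorem L731505 : sm gc N54337 = N52595 := ded_32_1 (flp_h L713145) (flp_c L713129) L731503
theorem L731507 : sm ge N54337 = N52594 := ded_43_1 (flp_h L713135) (flp_e L713131) L731503
theorem L731509 : sm gj N54337 = N52607 := ded_52_1 (flp_h L713228) (flp_j L713133) L731503
theorem L731511 : sm gi N54337 = N52641 := ded_54_2 (flp_h L713502) (flp_i L692857) (flp_h L692503) L713127 L731503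
theorem L731513 : sm gd N52595 = N54338 := rfl
theorem L731515 : sm gj N54338 = N52611 := ded_37_2 (flp_d L713256) (flp_j L713149) L731513
theorem L731517 : sm gi N54338 = N52646 := ded_39_2 (flp_d L713540) (flp_i L713151) L731513
theorem L731519 : sm gi N52596 = N54339 := rfl
theorem L731521 : sm ga N54339 = N52600 := ded_18_1 (flp_i L713181) (flp_a L713155) L731519
theorem L731523 : sm ge N54339 = N52597 := ded_44_1 (flp_i L713159) L713153 L731519
theorem L731525 : sm gh N52597 = N54340 := rfl
theorem L731527 : sm ga N54340 = N52601 := ded_17_1 (flp_h L713187) (flp_a L713161) L731525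
theorem L731529 : sm gf N54340 = N52616 := ded_47_1 (flp_h L713303) (flp_f L713165) L731525
theorem L731531 : sm gi N54340 = N52649 := ded_54_2 (flp_h L713556) (flp_i L692895) (flp_h L692535) L713159 L731525
theorem L731533 : sm gc N52598 = N54341 := rfl
theorem L731535 : sm ge N54341 = N52716 := ded_28_2 (flp_c L714055) (flp_e L713171) L731533
theorem L731537 : sm gf N52598 = N54342 := rfl
theorem L731539 : sm gb N54342 = N52602 := ded_22_1 (flp_f L713195) (flp_b L713169) L731537
theorem L731541 : sm gd N54342 = N52599 := ded_35_1 (flp_f L713173) L713167 L731537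
theorem L731543 : sm ge N54342 = N54342 := ded_40_1 (flp_f L731537) L713171 L693490 (flp_e L713171) L731537
theorem L731544 : sm gi N52598 = N54343 := rfl
theorem L731546 : sm gb N54343 = N52604 := ded_26_1 (flp_i L713206) (flp_b L713169) L731544
theorem L731548 : sm gd N54343 = N52600 := ded_39_1 (flp_i L713181) L713167 L731544
theorem L731550 : sm ge N54343 = N52717 := ded_44_1 (flp_i L714059) (flp_e L713171) L731544
theorem L731552 : sm gi N52599 = N54344 := rfl
theorem L731554 : sm gb N54344 = N52606 := ded_26_1 (flp_i L713220) (flp_b L713175) L731552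
theorem L731556 : sm ge N54344 = N52617 := ded_44_1 (flp_i L713311) (flp_e L713179) L731552
theorem L731558 : sm gf N54344 = N52600 := ded_48_1 (flp_i L713181) L713173 L731552
theorem L731560 : sm gh N52600 = N54345 := rfl
theorem L731562 : sm gb N54345 = N52607 := ded_25_1 (flp_h L713228) (flp_b L713183) L731560
theorem L731564 : sm ge N54345 = N52601 := ded_43_1 (flp_h L713187) (flp_e L713185) L731560
theorem L731566 : sm gi N54345 = N52654 := ded_54_2 (flp_h L713596) (flp_i L692917) (flp_h L692541) L713181 L731560
theorem L731568 : sm gg N52602 = N54346 := rfl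
theorem L731570 : sm gd N54346 = N52605 := ded_36_1 (flp_g L713212) (flp_d L713197) L731568
theorem L731572 : sm ge N54346 = N54346 := ded_41_1 (flp_g L731568) L713199 L731568
theorem L731573 : sm gh N52602 = N54347 := rfl
theorem L731575 : sm ge N54347 = N54347 := ded_43_1 (flp_h L731573) L713199 L731573
theorem L731576 : sm gf N54347 = N52603 := ded_47_1 (flp_h L713200) L713195 L731573
theorem L731578 : sm gd N54347 = N52657 := ded_38_1 (flp_h L713618) L692931 (flp_h L692559) (flp_d L713197) L731573
theorem L731580 : sm gi N52602 = N54348 := rfl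
theorem L731582 : sm gd N54348 = N52606 := ded_39_1 (flp_i L713220) (flp_d L713197) L731580
theorem L731584 : sm ge N54348 = N54348 := ded_44_1 (flp_i L731580) L713199 L731580
theorem L731585 : sm gf N54348 = N52604 := ded_48_1 (flp_i L713206) L713195 L731580
theorem L731587 : sm gi N52603 = N54349 := rfl
theorem L731589 : sm gd N54349 = N52659 := ded_39_1 (flp_i L713632) (flp_d L713204) L731587
theorem L731591 : sm ge N54349 = N52718 := ded_44_1 (flp_i L714066) (flp_e L713202) L731587
theorem L731593 : sm gh N52604 = N54350 := rfl
theorem L731595 : sm ge N54350 = N52719 := ded_43_1 (flp_h L714071) (flp_e L713210) L731593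
theorem L731597 : sm gj N52605 = N54351 := rfl
theorem L731599 : sm gc N54351 = N52608 := ded_31_1 (flp_j L713236) (flp_c L713214) L731597
theorem L731601 : sm ge N54351 = N52619 := ded_42_1 (flp_j L713328) (flp_e L713216) L731597
theorem L731603 : sm gh N54351 = N52661 := ded_52_2 (flp_j L713640) (flp_h L713218) L731597
theorem L731605 : sm gi N52605 = N54352 := rfl
theorem L731607 : sm gc N54352 = N52609 := ded_33_1 (flp_i L713242) (flp_c L713214) L731605
theorem L731609 : sm ge N54352 = N52620 := ded_44_1 (flp_i L713337) (flp_e L713216) L731605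
theorem L731611 : sm gg N54352 = N52606 := ded_51_1 (flp_i L713220) L713212 L731605
theorem L731613 : sm gh N52606 = N54353 := rfl
theorem L731615 : sm gc N54353 = N52610 := ded_32_1 (flp_h L713248) (flp_c L713222) L731613
theorem L731617 : sm ge N54353 = N52621 := ded_43_1 (flp_h L713346) (flp_e L713224) L731613
theorem L731619 : sm gf N54353 = N52607 := ded_47_1 (flp_h L713228) (flp_f L713226) L731613
theorem L731621 : sm gi N54353 = N52663 := ded_54_2 (flp_h L713654) (flp_i L692951) (flp_h L692559) L713220 L731613
theorem L731623 : sm gd N52607 = N54354 := rfl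
theorem L731625 : sm gi N54354 = N52664 := ded_39_2 (flp_d L713662) (flp_i L713234) L731623
theorem L731627 : sm gi N52608 = N54355 := rfl
theorem L731629 : sm ge N54355 = N52623 := ded_44_1 (flp_i L713361) (flp_e L713238) L731627
theorem L731631 : sm gj N54355 = N52609 := ded_53_1 (flp_i L713242) L713236 L731627
theorem L731633 : sm gh N52609 = N54356 := rfl
theorem L731635 : sm ge N54356 = N52624 := ded_43_1 (flp_h L713369) (flp_e L713244) L731633
theorem L731637 : sm gg N54356 = N52610 := ded_50_1 (flp_h L713248) (flp_g L713246) L731633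
theorem L731639 : sm gi N54356 = N52667 := ded_54_2 (flp_h L713674) (flp_i L692975) (flp_h L692581) L713242 L731633
theorem L731641 : sm gd N52610 = N54357 := rfl
theorem L731643 : sm gf N54357 = N52611 := ded_35_2 (flp_d L713256) (flp_f L713252) L731641
theorem L731645 : sm gi N54357 = N52668 := ded_39_2 (flp_d L713680) (flp_i L713254) L731641
theorem L731647 : sm gc N52611 = N54358 := rfl
theorem L731649 : sm gi N54358 = N52669 := ded_33_2 (flp_c L713684) (flp_i L713258) L731647
theorem L731651 : sm gh N52612 = N54359 := rfl
theorem L731653 : sm ga N54359 = N52614 := ded_17_1 (flp_h L713281) (flp_a L713262) L731651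
theorem L731655 : sm gg N54359 = N54359 := ded_50_1 (flp_h L731651) L713266 L731651
theorem L731656 : sm gj N54359 = N52616 := ded_52_1 (flp_h L713303) (flp_j L713267) L731651
theorem L731658 : sm gd N54359 = N52737 := ded_38_1 (flp_h L714213) L693986 (flp_h L693518) (flp_d L713264) L731651
theorem L731660 : sm gi N54359 = N52672 := ded_54_2 (flp_h L713705) (flp_i L692998) (flp_h L692602) L713260 L731651
theorem L731662 : sm gh N52613 = N54360 := rfl
theorem L731664 : sm gb N54360 = N52615 := ded_25_1 (flp_h L713292) (flp_b L713271) L731662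
theorem L731666 : sm gc N54360 = N52767 := ded_32_1 (flp_h L714456) (flp_c L713273) L731662
theorem L731668 : sm ge N54360 = N52614 := ded_43_1 (flp_h L713281) (flp_e L713276) L731662
theorem L731670 : sm gg N54360 = N54360 := ded_50_1 (flp_h L731662) L713278 L731662
theorem L731671 : sm gj N54360 = N52618 := ded_52_1 (flp_h L713318) (flp_j L713279) L731662
theorem L731673 : sm gi N54360 = N52674 := ded_54_2 (flp_h L713724) (flp_i L693015) (flp_h L692613) L713269 L731662
theorem L731675 : sm gd N52615 = N54361 := rfl
theorem L731677 : sm gg N54361 = N54361 := ded_36_2 (flp_d L731675) L713298 L731675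
theorem L731678 : sm gj N54361 = N52622 := ded_37_2 (flp_d L713354) (flp_j L713299) L731675
theorem L731680 : sm gi N54361 = N52676 := ded_39_2 (flp_d L713741) (flp_i L713301) L731675
theorem L731682 : sm gh N54361 = N54361 := ded_38_2 (flp_d L731675) (flp_h L713292) L692629 L713292 L731675
theorem L731683 : sm gh N52617 = N54362 := rfl
theorem L731685 : sm gb N54362 = N52621 := ded_25_1 (flp_h L713346) (flp_b L713313) L731683
theorem L731687 : sm gf N54362 = N52618 := ded_47_1 (flp_h L713318) (flp_f L713316) L731683
theorem L731689 : sm gi N54362 = N52683 := ded_54_2 (flp_h L713797) (flp_i L693113) (flp_h L692668) L713311 L731683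
theorem L731691 : sm gd N52618 = N54363 := rfl
theorem L731693 : sm gb N54363 = N52622 := ded_20_1 (flp_d L713354) (flp_b L713320) L731691
theorem L731695 : sm gg N54363 = N52625 := ded_36_2 (flp_d L713377) (flp_g L713324) L731691
theorem L731697 : sm gi N54363 = N52684 := ded_39_2 (flp_d L713803) (flp_i L713326) L731691
theorem L731699 : sm gh N54363 = N54363 := ded_38_2 (flp_d L731691) (flp_h L713318) L692674 L713318 L731691
theorem L731700 : sm gi N52619 = N54364 := rfl
theorem L731702 : sm gc N54364 = N52623 := ded_33_1 (flp_i L713361) (flp_c L713330) L731700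
theorem L731704 : sm gd N54364 = N54364 := ded_39_1 (flp_i L731700) L713332 L731700
theorem L731705 : sm gf N54364 = N52626 := ded_48_1 (flp_i L713385) (flp_f L713333) L731700
theorem L731707 : sm gj N54364 = N52620 := ded_53_1 (flp_i L713337) L713328 L731700
theorem L731709 : sm gh N52620 = N54365 := rfl
theorem L731711 : sm gc N54365 = N52624 := ded_32_1 (flp_h L713369) (flp_c L713339) L731709
theorem L731713 : sm gf N54365 = N52627 := ded_47_1 (flp_h L713393) (flp_f L713342) L731709
theorem L731715 : sm gg N54365 = N52621 := ded_50_1 (flp_h L713346) (flp_g L713344) L731709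
theorem L731717 : sm gi N54365 = N52686 := ded_54_2 (flp_h L713821) (flp_i L693147) (flp_h L692692) L713337 L731709
theorem L731719 : sm gd N52621 = N54366 := rfl
theorem L731721 : sm gf N54366 = N52622 := ded_35_2 (flp_d L713354) (flp_f L713350) L731719
theorem L731723 : sm gi N54366 = N52687 := ded_39_2 (flp_d L713829) (flp_i L713352) L731719
theorem L731725 : sm gh N54366 = N54366 := ded_38_2 (flp_d L731719) (flp_h L713346) L692700 L713346 L731719
theorem L731726 : sm gh N52623 = N54367 := rfl
theorem L731728 : sm gf N54367 = N52629 := ded_47_1 (flp_h L713409) (flp_f L713365) L731726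
theorem L731730 : sm gj N54367 = N52624 := ded_52_1 (flp_h L713369) (flp_j L713367) L731726
theorem L731732 : sm gi N54367 = N52690 := ded_54_2 (flp_h L713847) (flp_i L693175) (flp_h L692719) L713361 L731726
theorem L731734 : sm gc N52625 = N54368 := rfl
theorem L731736 : sm ge N54368 = N52628 := ded_28_2 (flp_c L717614) L717616 L731734
theorem L731738 : sm gj N54368 = N54368 := ded_31_2 (flp_c L731734) L713381 L731734
theorem L731739 : sm gh N54368 = N54368 := ded_32_2 (flp_c L731734) L713384 L731734
theorem L731740 : sm gi N54368 = N52694 := ded_33_2 (flp_c L713879) (flp_i L713382) L731734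
theorem L731742 : sm gh N52626 = N54369 := rfl
theorem L731744 : sm gc N54369 = N52629 := ded_32_1 (flp_h L713409) (flp_c L713387) L731742
theorem L731746 : sm gg N54369 = N54369 := ded_50_1 (flp_h L731742) L713390 L731742
theorem L731747 : sm gj N54369 = N52627 := ded_52_1 (flp_h L713393) (flp_j L713391) L731742
theorem L731749 : sm gi N54369 = N52695 := ded_54_2 (flp_h L713886) (flp_i L693227) (flp_h L692756) L713385 L731742
theorem L731751 : sm gd N52627 = N54370 := rfl
theorem L731753 : sm gg N54370 = N52628 := ded_36_2 (flp_d L713401) (flp_g L713397) L731751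
theorem L731755 : sm gi N54370 = N52696 := ded_39_2 (flp_d L713893) (flp_i L713399) L731751
theorem L731757 : sm gh N54370 = N54370 := ded_38_2 (flp_d L731751) (flp_h L713393) L692763 L713393 L731751
theorem L731758 : sm gi N52630 = N54371 := rfl
theorem L731760 : sm gc N54371 = N52634 := ded_33_1 (flp_i L713441) (flp_c L713418) L731758
theorem L731762 : sm ge N54371 = N54371 := ded_44_1 (flp_i L731758) L713420 L731758
theorem L731763 : sm gf N54371 = N52631 := ded_48_1 (flp_i L713421) L713416 L731758
theorem L731765 : sm gh N52631 = N54372 := rfl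
theorem L731767 : sm gc N54372 = N52635 := ded_32_1 (flp_h L713446) (flp_c L713423) L731765
theorem L731769 : sm ge N54372 = N52632 := ded_43_1 (flp_h L713429) (flp_e L713425) L731765
theorem L731771 : sm gg N54372 = N52641 := ded_50_1 (flp_h L713502) (flp_g L713427) L731765
theorem L731773 : sm gi N52633 = N54373 := rfl
theorem L731775 : sm ge N54373 = N54373 := ded_44_1 (flp_i L731773) L713438 L731773
theorem L731776 : sm gf N54373 = N52644 := ded_48_1 (flp_i L713526) (flp_f L713439) L731773
theorem L731778 : sm gg N54373 = N52634 := ded_51_1 (flp_i L713441) L713436 L731773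
theorem L731780 : sm gh N52634 = N54374 := rfl
theorem L731782 : sm ge N54374 = N54374 := ded_43_1 (flp_h L731780) L713443 L731780
theorem L731783 : sm gf N54374 = N52635 := ded_47_1 (flp_h L713446) (flp_f L713444) L731780
theorem L731785 : sm gd N52635 = N54375 := rfl
theorem L731787 : sm gg N54375 = N52646 := ded_36_2 (flp_d L713540) (flp_g L713450) L731785
theorem L731789 : sm gi N52636 = N54376 := rfl
theorem L731791 : sm gb N54376 = N52640 := ded_26_1 (flp_i L713492) (flp_b L713454) L731789
theorem L731793 : sm gd N54376 = N52698 := ded_39_1 L713907 (flp_d L713456) L731789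
theorem L731795 : sm ge N54376 = N52673 := ded_44_1 (flp_i L713714) (flp_e L713460) L731789
theorem L731797 : sm gf N54376 = N52637 := ded_48_1 (flp_i L713462) L713452 L731789
theorem L731799 : sm gj N54376 = N52653 := ded_53_1 (flp_i L713588) (flp_j L713458) L731789
theorem L731801 : sm gh N52637 = N54377 := rfl
theorem L731803 : sm gb N54377 = N52641 := ded_25_1 (flp_h L713502) (flp_b L713464) L731801
theorem L731805 : sm ge N54377 = N52638 := ded_43_1 (flp_h L713472) (flp_e L713468) L731801
theorem L731807 : sm gj N54377 = N52654 := ded_52_1 (flp_h L713596) (flp_j L713470) L731801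
theorem L731809 : sm gh N52639 = N54378 := rfl
theorem L731811 : sm gb N54378 = N52665 := ded_25_1 L713666 (flp_b L713484) L731809
theorem L731813 : sm ge N54378 = N52655 := ded_43_1 L713610 (flp_e L713488) L731809
theorem L731815 : sm gj N54378 = N52660 := ded_52_1 (flp_h L713636) (flp_j L713490) L731809
theorem L731817 : sm gh N52640 = N54379 := rfl
theorem L731819 : sm gc N54379 = N52645 := ded_32_1 (flp_h L713532) (flp_c L713494) L731817
theorem L731821 : sm ge N54379 = N52675 := ded_43_1 (flp_h L713733) (flp_e L713496) L731817
theorem L731823 : sm gf N54379 = N52641 := ded_47_1 (flp_h L713502) (flp_f L713498) L731817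
theorem L731825 : sm gj N54379 = N52663 := ded_52_1 (flp_h L713654) (flp_j L713500) L731817
theorem L731827 : sm gd N52641 = N54380 := rfl
theorem L731829 : sm gj N54380 = N52664 := ded_37_2 (flp_d L713662) (flp_j L713508) L731827
theorem L731831 : sm ge N52642 = N54381 := rfl
theorem L731833 : sm gb N54381 = N52660 := ded_21_1 L713638 (flp_b L713512) L731831
theorem L731835 : sm gj N54381 = N52665 := ded_42_2 (flp_e L713664) (flp_j L713516) L731831
theorem L731837 : sm gh N54381 = N52651 := ded_43_2 L713578 (flp_h L713518) L731831
theorem L731839 : sm gi N52643 = N54382 := rfl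
theorem L731841 : sm ge N54382 = N52678 := ded_44_1 (flp_i L713757) (flp_e L713522) L731839
theorem L731843 : sm gg N54382 = N52666 := ded_51_1 (flp_i L713668) (flp_g L713524) L731839
theorem L731845 : sm gj N54382 = N52644 := ded_53_1 (flp_i L713526) L713520 L731839
theorem L731847 : sm gh N52644 = N54383 := rfl
theorem L731849 : sm ge N54383 = N52679 := ded_43_1 (flp_h L713766) (flp_e L713528) L731847
theorem L731851 : sm gg N54383 = N52645 := ded_50_1 (flp_h L713532) (flp_g L713530) L731847
theorem L731853 : sm gd N52645 = N54384 := rfl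
theorem L731855 : sm gf N54384 = N52646 := ded_35_2 (flp_d L713540) (flp_f L713536) L731853
theorem L731857 : sm gj N54384 = N52668 := ded_37_2 (flp_d L713680) (flp_j L713538) L731853
theorem L731859 : sm gc N52646 = N54385 := rfl
theorem L731861 : sm gj N54385 = N52669 := ded_31_2 (flp_c L713684) (flp_j L713542) L731859
theorem L731863 : sm gi N52647 = N54386 := rfl
theorem L731865 : sm ga N54386 = N52653 := ded_18_1 (flp_i L713588) (flp_a L713546) L731863
theorem L731867 : sm ge N54386 = N52680 := ded_44_1 (flp_i L713771) (flp_e L713548) L731863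
theorem L731869 : sm gf N54386 = N52648 := ded_48_1 (flp_i L713550) L713544 L731863
theorem L731871 : sm gh N52648 = N54387 := rfl
theorem L731873 : sm ga N54387 = N52654 := ded_17_1 (flp_h L713596) (flp_a L713552) L731871
theorem L731875 : sm ge N54387 = N52649 := ded_43_1 (flp_h L713556) (flp_e L713554) L731871
theorem L731877 : sm gg N52650 = N54388 := rfl
theorem L731879 : sm gb N54388 = N52656 := ded_23_1 (flp_g L713612) (flp_b L713564) L731877
theorem L731881 : sm gd N54388 = N52652 := ded_36_1 (flp_g L713582) (flp_d L713566) L731877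
theorem L731883 : sm ge N54388 = N52720 := ded_41_1 (flp_g L714074) (flp_e L713570) L731877
theorem L731885 : sm gi N52650 = N54389 := rfl
theorem L731887 : sm gb N54389 = N52658 := ded_26_1 (flp_i L713624) (flp_b L713564) L731885
theorem L731889 : sm gd N54389 = N52653 := ded_39_1 (flp_i L713588) (flp_d L713566) L731885
theorem L731891 : sm ge N54389 = N52699 := ded_44_1 L713919 (flp_e L713570) L731885
theorem L731893 : sm gf N54389 = N52651 := ded_48_1 (flp_i L713572) L713562 L731885
theorem L731895 : sm gj N54389 = N52698 := ded_53_1 L713907 (flp_j L713568) L731885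
theorem L731897 : sm gi N52652 = N54390 := rfl
theorem L731899 : sm gb N54390 = N52662 := ded_26_1 (flp_i L713646) (flp_b L713584) L731897
theorem L731901 : sm ge N54390 = N52682 := ded_44_1 (flp_i L713787) (flp_e L713586) L731897
theorem L731903 : sm gg N54390 = N52653 := ded_51_1 (flp_i L713588) L713582 L731897
theorem L731905 : sm gh N52653 = N54391 := rfl
theorem L731907 : sm gb N54391 = N52663 := ded_25_1 (flp_h L713654) (flp_b L713590) L731905
theorem L731909 : sm ge N54391 = N52683 := ded_43_1 (flp_h L713797) (flp_e L713592) L731905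
theorem L731911 : sm gf N54391 = N52654 := ded_47_1 (flp_h L713596) (flp_f L713594) L731905
theorem L731913 : sm gd N52654 = N54392 := rfl
theorem L731915 : sm gb N54392 = N52664 := ded_20_1 (flp_d L713662) (flp_b L713598) L731913
theorem L731917 : sm gh N52656 = N54393 := rfl
theorem L731919 : sm ge N54393 = N52743 := ded_43_1 (flp_h L714274) (flp_e L713616) L731917
theorem L731921 : sm gg N54393 = N52657 := ded_50_1 (flp_h L713618) L713612 L731917
theorem L731923 : sm gi N52656 = N54394 := rfl
theorem L731925 : sm gd N54394 = N52662 := ded_39_1 (flp_i L713646) (flp_d L713614) L731923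
theorem L731927 : sm ge N54394 = N52744 := ded_44_1 (flp_i L714280) (flp_e L713616) L731923
theorem L731929 : sm gg N54394 = N52658 := ded_51_1 (flp_i L713624) L713612 L731923
theorem L731931 : sm gi N52657 = N54395 := rfl
theorem L731933 : sm ge N54395 = N52745 := ded_44_1 (flp_i L714287) (flp_e L713620) L731931
theorem L731935 : sm gf N54395 = N52659 := ded_48_1 (flp_i L713632) (flp_f L713622) L731931
theorem L731937 : sm gh N52658 = N54396 := rfl
theorem L731939 : sm ge N54396 = N52746 := ded_43_1 (flp_h L714292) (flp_e L713628) L731937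
theorem L731941 : sm gf N54396 = N52660 := ded_47_1 (flp_h L713636) (flp_f L713630) L731937
theorem L731943 : sm gh N52659 = N54397 := rfl
theorem L731945 : sm ge N54397 = N52697 := ded_43_1 (flp_h L713899) (flp_e L713634) L731943
theorem L731947 : sm gi N54397 = N52660 := ded_54_2 (flp_h L713636) (flp_i L692939) L692935 L713632 L731943
theorem L731949 : sm gd N52660 = N54398 := rfl
theorem L731951 : sm gh N54398 = N52664 := ded_38_2 (flp_d L713662) (flp_h L692959) (flp_d L692941) L713636 L731949
theorem L731953 : sm gi N52661 = N54399 := rfl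
theorem L731955 : sm gc N54399 = N52666 := ded_33_1 (flp_i L713668) (flp_c L713642) L731953
theorem L731957 : sm ge N54399 = N52685 := ded_44_1 (flp_i L713811) (flp_e L713644) L731953
theorem L731959 : sm gj N54399 = N52662 := ded_53_1 (flp_i L713646) L713640 L731953
theorem L731961 : sm gh N52662 = N54400 := rfl
theorem L731963 : sm gc N54400 = N52667 := ded_32_1 (flp_h L713674) (flp_c L713648) L731961
theorem L731965 : sm ge N54400 = N52686 := ded_43_1 (flp_h L713821) (flp_e L713650) L731961
theorem L731967 : sm gg N54400 = N52663 := ded_50_1 (flp_h L713654) (flp_g L713652) L731961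
theorem L731969 : sm gd N52663 = N54401 := rfl
theorem L731971 : sm gf N54401 = N52664 := ded_35_2 (flp_d L713662) (flp_f L713660) L731969
theorem L731973 : sm gc N52664 = N54402 := rfl
theorem L731975 : sm gd N54402 = N52669 := ded_27_2 (flp_c L713684) (flp_d L692987) (flp_c L692961) L713662 L731973
theorem L731977 : sm ge N52664 = N54403 := rfl
theorem L731979 : sm gd N54403 = N52665 := ded_34_1 (flp_e L713664) (flp_d L692965) (flp_e L692963) L713662 L731977
theorem L731981 : sm gf N52665 = N54404 := rfl
theorem L731983 : sm gh N54404 = N52698 := ded_47_2 (flp_f L713905) (flp_h L713666) L731981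
theorem L731985 : sm ge N54404 = N52689 := ded_40_1 (flp_f L713843) (flp_e L693169) (flp_f L692967) L713664 L731981
theorem L731987 : sm gh N52666 = N54405 := rfl
theorem L731989 : sm ge N54405 = N52690 := ded_43_1 (flp_h L713847) (flp_e L713670) L731987
theorem L731991 : sm gj N54405 = N52667 := ded_52_1 (flp_h L713674) (flp_j L713672) L731987
theorem L731993 : sm gd N52667 = N54406 := rfl
theorem L731995 : sm gg N54406 = N52668 := ded_36_2 (flp_d L713680) (flp_g L713678) L731993
theorem L731997 : sm gc N52668 = N54407 := rfl
theorem L731999 : sm gf N54407 = N52669 := ded_29_2 (flp_c L713684) (flp_f L713682) L731997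
theorem L732001 : sm gb N52669 = N54408 := rfl
theorem L732003 : sm gi N52670 = N54409 := rfl
theorem L732005 : sm ga N54409 = N52673 := ded_18_1 (flp_i L713714) (flp_a L713688) L732003
theorem L732007 : sm gd N54409 = N52738 := ded_39_1 L714227 (flp_d L713690) L732003
theorem L732009 : sm gf N54409 = N52671 := ded_48_1 (flp_i L713694) L713686 L732003
theorem L732011 : sm gj N54409 = N52680 := ded_53_1 (flp_i L713771) (flp_j L713692) L732003
theorem L732013 : sm gh N52671 = N54410 := rfl
theorem L732015 : sm ga N54410 = N52674 := ded_17_1 (flp_h L713724) (flp_a L713696) L732013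
theorem L732017 : sm ge N54410 = N52672 := ded_43_1 (flp_h L713705) (flp_e L713700) L732013
theorem L732019 : sm gg N54410 = N54410 := ded_50_1 (flp_h L732013) L713702 L732013
theorem L732020 : sm gj N54410 = N52681 := ded_52_1 (flp_h L713779) (flp_j L713703) L732013
theorem L732022 : sm gh N52673 = N54411 := rfl
theorem L732024 : sm gb N54411 = N52675 := ded_25_1 (flp_h L713733) (flp_b L713716) L732022
theorem L732026 : sm gf N54411 = N52674 := ded_47_1 (flp_h L713724) (flp_f L713720) L732022
theorem L732028 : sm gj N54411 = N52683 := ded_52_1 (flp_h L713797) (flp_j L713722) L732022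
theorem L732030 : sm gd N52674 = N54412 := rfl
theorem L732032 : sm gb N54412 = N52676 := ded_20_1 (flp_d L713741) (flp_b L713726) L732030
theorem L732034 : sm gg N54412 = N54412 := ded_36_2 (flp_d L732030) L713730 L732030
theorem L732035 : sm gj N54412 = N52684 := ded_37_2 (flp_d L713803) (flp_j L713731) L732030
theorem L732037 : sm ge N54412 = N52748 := ded_34_2 (flp_d L714303) L694086 (flp_d L693033) (flp_e L713728) L732030
theorem L732039 : sm gh N54412 = N52752 := ded_38_2 L714339 L694119 (flp_d L693019) L713724 L732030
theorem L732041 : sm gd N52675 = N54413 := rfl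
theorem L732043 : sm gf N54413 = N52676 := ded_35_2 (flp_d L713741) (flp_f L713737) L732041
theorem L732045 : sm gj N54413 = N52687 := ded_37_2 (flp_d L713829) (flp_j L713739) L732041
theorem L732047 : sm gh N54413 = N52756 := ded_38_2 (flp_d L714374) (flp_h L694171) (flp_d L693039) L713733 L732041
theorem L732049 : sm ge N52676 = N54414 := rfl
theorem L732051 : sm gb N54414 = N52748 := ded_21_1 (flp_e L732037) L732032 L732049
theorem L732053 : sm gg N54414 = N54414 := ded_41_2 (flp_e L732049) L713743 L732049
theorem L732054 : sm gj N54414 = N52688 := ded_42_2 (flp_e L713835) (flp_j L713744) L732049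
theorem L732056 : sm gh N54414 = N52742 := ded_43_2 L714272 (flp_h L713746) L732049
theorem L732058 : sm gd N54414 = N52677 := ded_34_1 (flp_e L713748) (flp_d L693054) (flp_e L693049) L713741 L732049
theorem L732060 : sm gf N52677 = N54415 := rfl
theorem L732062 : sm gb N54415 = N52746 := ded_22_1 L714294 (flp_b L713750) L732060
theorem L732064 : sm gj N54415 = N52689 := ded_46_2 (flp_f L713843) (flp_j L713753) L732060
theorem L732066 : sm gh N54415 = N52699 := ded_47_2 (flp_f L713911) (flp_h L713755) L732060
theorem L732068 : sm gh N52678 = N54416 := rfl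
theorem L732070 : sm gf N54416 = N54416 := ded_47_1 (flp_h L732068) L713761 L732068
theorem L732071 : sm gg N54416 = N52690 := ded_50_1 (flp_h L713847) (flp_g L713762) L732068
theorem L732073 : sm gj N54416 = N52679 := ded_52_1 (flp_h L713766) (flp_j L713764) L732068
theorem L732075 : sm gh N52680 = N54417 := rfl
theorem L732077 : sm ga N54417 = N52683 := ded_17_1 (flp_h L713797) (flp_a L713773) L732075
theorem L732079 : sm gf N54417 = N52681 := ded_47_1 (flp_h L713779) (flp_f L713777) L732075
theorem L732081 : sm gh N52682 = N54418 := rfl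
theorem L732083 : sm gb N54418 = N52686 := ded_25_1 (flp_h L713821) (flp_b L713789) L732081
theorem L732085 : sm gf N54418 = N52692 := ded_47_1 (flp_h L713864) (flp_f L713793) L732081
theorem L732087 : sm gg N54418 = N52683 := ded_50_1 (flp_h L713797) (flp_g L713795) L732081
theorem L732089 : sm gd N52683 = N54419 := rfl
theorem L732091 : sm gb N54419 = N52687 := ded_20_1 (flp_d L713829) (flp_b L713799) L732089
theorem L732093 : sm gf N54419 = N52684 := ded_35_2 (flp_d L713803) (flp_f L713801) L732089
theorem L732095 : sm gh N54419 = N52759 := ded_38_2 (flp_d L714399) (flp_h L694212) (flp_d L693117) L713797 L732089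
theorem L732097 : sm gc N52684 = N54420 := rfl
theorem L732099 : sm ge N54420 = N52696 := ded_28_2 (flp_c L717766) L717768 L732097
theorem L732101 : sm gg N54420 = N52694 := ded_30_2 (flp_c L713879) (flp_g L713807) L732097
theorem L732103 : sm gh N54420 = N52760 := ded_32_2 (flp_c L714406) (flp_h L713809) L732097
theorem L732105 : sm gh N52685 = N54421 := rfl
theorem L732107 : sm gc N54421 = N52690 := ded_32_1 (flp_h L713847) (flp_c L713813) L732105
theorem L732109 : sm gf N54421 = N52695 := ded_47_1 (flp_h L713886) (flp_f L713817) L732105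
theorem L732111 : sm gj N54421 = N52686 := ded_52_1 (flp_h L713821) (flp_j L713819) L732105
theorem L732113 : sm gd N52686 = N54422 := rfl
theorem L732115 : sm gf N54422 = N52696 := ded_35_2 (flp_d L713893) (flp_f L713825) L732113
theorem L732117 : sm gg N54422 = N52687 := ded_36_2 (flp_d L713829) (flp_g L713827) L732113
theorem L732119 : sm gh N54422 = N52761 := ded_38_2 (flp_d L714414) (flp_h L694235) (flp_d L693151) L713821 L732113
theorem L732121 : sm ge N52687 = N54423 := rfl
theorem L732123 : sm gh N54423 = N52762 := ded_43_2 (flp_e L714421) (flp_h L713833) L732121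
theorem L732125 : sm gf N52688 = N54424 := rfl
theorem L732127 : sm gd N54424 = N52689 := ded_35_1 (flp_f L713843) (flp_d L713841) L732125
theorem L732129 : sm gh N54424 = N52763 := ded_47_2 (flp_f L714424) (flp_h L713839) L732125
theorem L732131 : sm gh N52691 = N54425 := rfl
theorem L732133 : sm ga N54425 = N52767 := ded_17_1 (flp_h L714456) (flp_a L713855) L732131
theorem L732135 : sm gb N54425 = N52695 := ded_25_1 (flp_h L713886) (flp_b L713857) L732131
theorem L732137 : sm gg N54425 = N54425 := ded_50_1 (flp_h L732131) L713861 L732131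
theorem L732138 : sm gj N54425 = N52692 := ded_52_1 (flp_h L713864) (flp_j L713862) L732131
theorem L732140 : sm gd N52692 = N54426 := rfl
theorem L732142 : sm gb N54426 = N52696 := ded_20_1 (flp_d L713893) (flp_b L713866) L732140
theorem L732144 : sm gg N54426 = N52693 := ded_36_2 (flp_d L713870) (flp_g L713868) L732140
theorem L732146 : sm gh N54426 = N52765 := ded_38_2 (flp_d L714442) (flp_h L694295) (flp_d L693209) L713864 L732140
theorem L732148 : sm gd N52695 = N54427 := rfl
theorem L732150 : sm gg N54427 = N54427 := ded_36_2 (flp_d L732148) L713890 L732148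
theorem L732151 : sm gj N54427 = N52696 := ded_37_2 (flp_d L713893) (flp_j L713891) L732148
theorem L732153 : sm gc N54427 = N52748 := ded_27_1 (flp_d L714303) (flp_c L698210) L698217 (flp_c L713888) L732148
theorem L732155 : sm gh N54427 = N52751 := ded_38_2 L714329 L694147 (flp_d L693231) L713886 L732148
theorem L732157 : sm gg N52699 = N54428 := rfl
theorem L732159 : sm gb N54428 = N52744 := ded_23_1 L714285 (flp_b L713913) L732157
theorem L732161 : sm gd N54428 = N52740 := ded_36_1 L714250 (flp_d L713915) L732157
theorem L732163 : sm gi N54428 = N52720 := ded_51_2 (flp_g L714074) (flp_i L713919) L732157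
theorem L732165 : sm gf N54428 = N54428 := ded_45_1 (flp_g L732157) (flp_f L713911) L693308 L713911 L732157
theorem L732166 : sm gd N52700 = N54429 := rfl
theorem L732168 : sm ga N54429 = N52714 := ded_12_1 (flp_d L714043) (flp_a L713923) L732166
theorem L732170 : sm gf N54429 = N52769 := ded_35_2 (flp_d L714466) (flp_f L713927) L732166
theorem L732172 : sm gi N54429 = N54429 := ded_39_2 (flp_d L732166) L713929 L732166
theorem L732173 : sm gi N52701 = N54430 := rfl
theorem L732175 : sm ga N54430 = N52740 := ded_18_1 (flp_i L714242) (flp_a L713932) L732173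
theorem L732177 : sm gb N54430 = N52704 := ded_26_1 (flp_i L713963) (flp_b L713934) L732173
theorem L732179 : sm gc N54430 = N54430 := ded_33_1 (flp_i L732173) L713936 L732173
theorem L732180 : sm ge N54430 = N52702 := ded_44_1 (flp_i L713943) L713930 L732173
theorem L732182 : sm gf N54430 = N54430 := ded_48_1 (flp_i L732173) L713942 L732173
theorem L732183 : sm gg N54430 = N52739 := ded_51_1 L714238 (flp_g L713937) L732173
theorem L732185 : sm gj N54430 = N52709 := ded_53_1 (flp_i L714006) (flp_j L713939) L732173
theorem L732187 : sm gh N52702 = N54431 := rfl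
theorem L732189 : sm ga N54431 = N52758 := ded_17_1 (flp_h L714389) (flp_a L713945) L732187
theorem L732191 : sm gb N54431 = N52705 := ded_25_1 (flp_h L713972) (flp_b L713947) L732187
theorem L732193 : sm gc N54431 = N54431 := ded_32_1 (flp_h L732187) L713949 L732187
theorem L732194 : sm gf N54431 = N52764 := ded_47_1 (flp_h L714429) (flp_f L713950) L732187
theorem L732196 : sm gg N54431 = N52757 := ded_50_1 (flp_h L714381) (flp_g L713952) L732187
theorem L732198 : sm gj N54431 = N52710 := ded_52_1 (flp_h L714014) (flp_j L713954) L732187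
theorem L732200 : sm gi N54431 = N54431 := ded_54_2 (flp_h L732187) (flp_i L713943) L693359 L713943 L732187
theorem L732201 : sm gi N52703 = N54432 := rfl
theorem L732203 : sm gc N54432 = N52715 := ded_33_1 (flp_i L714048) (flp_c L713961) L732201
theorem L732205 : sm gd N54432 = N52704 := ded_39_1 (flp_i L713963) L713956 L732201
theorem L732207 : sm gf N54432 = N54432 := ded_48_1 (flp_i L732201) L713958 L732201
theorem L732208 : sm gj N54432 = N52712 := ded_53_1 (flp_i L714028) (flp_j L713959) L732201
theorem L732210 : sm gh N52704 = N54433 := rfl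
theorem L732212 : sm gc N54433 = N52706 := ded_32_1 (flp_h L713981) (flp_c L713965) L732210
theorem L732214 : sm ge N54433 = N52705 := ded_43_1 (flp_h L713972) (flp_e L713967) L732210
theorem L732216 : sm gf N54433 = N54433 := ded_47_1 (flp_h L732210) L713969 L732210
theorem L732217 : sm gj N54433 = N52713 := ded_52_1 (flp_h L714035) (flp_j L713970) L732210
theorem L732219 : sm gi N54433 = N54433 := ded_54_2 (flp_h L732210) (flp_i L713963) L693369 L713963 L732210
theorem L732220 : sm gh N52707 = N54434 := rfl
theorem L732222 : sm ga N54434 = N52710 := ded_17_1 (flp_h L714014) (flp_a L713992) L732220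
theorem L732224 : sm gb N54434 = N52754 := ded_25_1 L714359 (flp_b L713994) L732220
theorem L732226 : sm gc N54434 = N54434 := ded_32_1 (flp_h L732220) L713996 L732220
theorem L732227 : sm gf N54434 = N52755 := ded_47_1 L714368 (flp_f L713997) L732220
theorem L732229 : sm gj N54434 = N52758 := ded_52_1 (flp_h L714389) (flp_j L713999) L732220
theorem L732231 : sm gi N54434 = N54434 := ded_54_2 (flp_h L732220) (flp_i L713990) L693404 L713990 L732220
theorem L732232 : sm gi N52708 = N54435 := rfl
theorem L732234 : sm gb N54435 = N52712 := ded_26_1 (flp_i L714028) (flp_b L714003) L732232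
theorem L732236 : sm gd N54435 = N52709 := ded_39_1 (flp_i L714006) L714001 L732232
theorem L732238 : sm gf N54435 = N54435 := ded_48_1 (flp_i L732232) L714005 L732232
theorem L732239 : sm gh N52709 = N54436 := rfl
theorem L732241 : sm gb N54436 = N52713 := ded_25_1 (flp_h L714035) (flp_b L714008) L732239
theorem L732243 : sm gc N54436 = N54436 := ded_32_1 (flp_h L732239) L714010 L732239
theorem L732244 : sm ge N54436 = N52710 := ded_43_1 (flp_h L714014) (flp_e L714011) L732239
theorem L732246 : sm gf N54436 = N54436 := ded_47_1 (flp_h L732239) L714013 L732239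
theorem L732247 : sm gi N54436 = N54436 := ded_54_2 (flp_h L732239) (flp_i L714006) L693412 L714006 L732239
theorem L732248 : sm gd N52710 = N54437 := rfl
theorem L732250 : sm gb N54437 = N52714 := ded_20_1 (flp_d L714043) (flp_b L714016) L732248
theorem L732252 : sm gf N54437 = N52770 := ded_35_2 (flp_d L714472) (flp_f L714019) L732248
theorem L732254 : sm gi N54437 = N54437 := ded_39_2 (flp_d L732248) L714021 L732248
theorem L732255 : sm gi N52711 = N54438 := rfl
theorem L732257 : sm gc N54438 = N52718 := ded_33_1 (flp_i L714066) (flp_c L714024) L732255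
theorem L732259 : sm gd N54438 = N54438 := ded_39_1 (flp_i L732255) L714027 L732255
theorem L732260 : sm gf N54438 = N54438 := ded_48_1 (flp_i L732255) L714026 L732255
theorem L732261 : sm gh N52712 = N54439 := rfl
theorem L732263 : sm gc N54439 = N52719 := ded_32_1 (flp_h L714071) (flp_c L714030) L732261
theorem L732265 : sm gf N54439 = N54439 := ded_47_1 (flp_h L732261) L714034 L732261
theorem L732266 : sm gd N52713 = N54440 := rfl
theorem L732268 : sm gf N54440 = N54440 := ded_35_2 (flp_d L732266) L714041 L732266
theorem L732269 : sm gi N54440 = N54440 := ded_39_2 (flp_d L732266) L714042 L732266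
theorem L732270 : sm ge N52714 = N54441 := rfl
theorem L732272 : sm gi N54441 = N54441 := ded_44_2 (flp_e L732270) L714047 L732270
theorem L732273 : sm gh N52715 = N54442 := rfl
theorem L732275 : sm gf N54442 = N54442 := ded_47_1 (flp_h L732273) L714052 L732273
theorem L732276 : sm gj N54442 = N52719 := ded_52_1 (flp_h L714071) (flp_j L714053) L732273
theorem L732278 : sm gi N52716 = N54443 := rfl
theorem L732280 : sm gc N54443 = N52717 := ded_33_1 (flp_i L714059) L714055 L732278
theorem L732282 : sm gd N54443 = N54443 := ded_39_1 (flp_i L732278) L714058 L732278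
theorem L732283 : sm gf N54443 = N54443 := ded_48_1 (flp_i L732278) L714057 L732278
theorem L732284 : sm gh N52717 = N54444 := rfl
theorem L732286 : sm gb N54444 = N52719 := ded_25_1 (flp_h L714071) (flp_b L714061) L732284
theorem L732288 : sm gf N54444 = N54444 := ded_47_1 (flp_h L732284) L714065 L732284
theorem L732289 : sm gh N52718 = N54445 := rfl
theorem L732291 : sm gf N54445 = N54445 := ded_47_1 (flp_h L732289) L714070 L732289
theorem L732292 : sm gi N54445 = N52719 := ded_54_2 (flp_h L714071) (flp_i L693504) L693499 L714066 L732289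
theorem L732294 : sm gd N52722 = N54446 := rfl
theorem L732296 : sm gb N54446 = N52725 := ded_20_1 (flp_d L714105) (flp_b L714089) L732294
theorem L732298 : sm gg N54446 = N54446 := ded_36_2 (flp_d L732294) L714091 L732294
theorem L732299 : sm gh N54446 = N52723 := ded_38_2 (flp_d L714092) (flp_h L693722) (flp_d L693719) L714087 L732294
theorem L732301 : sm gd N52724 = N54447 := rfl
theorem L732303 : sm gg N54447 = N54447 := ded_36_2 (flp_d L732301) L714102 L732301
theorem L732304 : sm gi N54447 = N52725 := ded_39_2 (flp_d L714105) (flp_i L714103) L732301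
theorem L732306 : sm gh N54447 = N54447 := ded_38_2 (flp_d L732301) (flp_h L714098) L693736 L714098 L732301
theorem L732307 : sm gf N52733 = N54448 := rfl
theorem L732309 : sm ga N54448 = N52753 := ded_14_1 (flp_f L714341) (flp_a L714180) L732307
theorem L732311 : sm gc N54448 = N54448 := ded_29_1 (flp_f L732307) L714182 L732307
theorem L732312 : sm gj N54448 = N52757 := ded_46_2 L714386 (flp_j L714184) L732307
theorem L732314 : sm gh N54448 = N52738 := ded_47_2 (flp_f L714220) (flp_h L714186) L732307
theorem L732316 : sm gi N54448 = N54448 := ded_48_2 (flp_f L732307) L714188 L732307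
theorem L732317 : sm ge N54448 = N52735 := ded_40_1 (flp_f L714200) (flp_e L693965) (flp_f L693904) L714178 L732307
theorem L732319 : sm gf N52734 = N54449 := rfl
theorem L732321 : sm ga N54449 = N52741 := ded_14_1 L714259 (flp_a L714191) L732319
theorem L732323 : sm gc N54449 = N54449 := ded_29_1 (flp_f L732319) L714193 L732319
theorem L732324 : sm gj N54449 = N52735 := ded_46_2 (flp_f L714200) (flp_j L714195) L732319
theorem L732326 : sm gh N54449 = N52739 := ded_47_2 (flp_f L714231) (flp_h L714197) L732319
theorem L732328 : sm gi N54449 = N54449 := ded_48_2 (flp_f L732319) L714199 L732319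
theorem L732329 : sm ge N54449 = N52757 := ded_40_1 L714386 L694198 (flp_f L693938) L714189 L732319
theorem L732331 : sm gh N52740 = N54450 := rfl
theorem L732333 : sm gb N54450 = N52749 := ded_25_1 (flp_h L714308) (flp_b L714244) L732331
theorem L732335 : sm gc N54450 = N54450 := ded_32_1 (flp_h L732331) L714246 L732331
theorem L732336 : sm ge N54450 = N52758 := ded_43_1 (flp_h L714389) (flp_e L714247) L732331
theorem L732338 : sm gf N54450 = N54450 := ded_47_1 (flp_h L732331) L714249 L732331
theorem L732339 : sm gg N54450 = N52741 := ded_50_1 (flp_h L714252) (flp_g L714250) L732331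
theorem L732341 : sm gi N54450 = N54450 := ded_54_2 (flp_h L732331) (flp_i L714242) L694038 L714242 L732331
theorem L732342 : sm gd N52741 = N54451 := rfl
theorem L732344 : sm gb N54451 = N52750 := ded_20_1 (flp_d L714318) (flp_b L714254) L732342
theorem L732346 : sm gf N54451 = N52742 := ded_35_2 (flp_d L714264) (flp_f L714259) L732342
theorem L732348 : sm gj N54451 = N52763 := ded_37_2 L714426 (flp_j L714261) L732342
theorem L732350 : sm gi N54451 = N54451 := ded_39_2 (flp_d L732342) L714263 L732342
theorem L732351 : sm gi N52743 = N54452 := rfl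
theorem L732353 : sm gd N54452 = N54452 := ded_39_1 (flp_i L732351) L714279 L732351
theorem L732354 : sm gf N54452 = N54452 := ded_48_1 (flp_i L732351) L714276 L732351
theorem L732355 : sm gg N54452 = N52745 := ded_51_1 (flp_i L714287) (flp_g L714277) L732351
theorem L732357 : sm gh N52744 = N54453 := rfl
theorem L732359 : sm gf N54453 = N54453 := ded_47_1 (flp_h L732357) L714284 L732357
theorem L732360 : sm gg N54453 = N52746 := ded_50_1 (flp_h L714292) (flp_g L714285) L732357
theorem L732362 : sm gh N52745 = N54454 := rfl
theorem L732364 : sm gf N54454 = N52747 := ded_47_1 (flp_h L714296) (flp_f L714290) L732362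
theorem L732366 : sm gi N54454 = N52746 := ded_54_2 (flp_h L714292) (flp_i L694072) L694067 L714287 L732362
theorem L732368 : sm gd N52746 = N54455 := rfl
theorem L732370 : sm gf N54455 = N52748 := ded_35_2 (flp_d L714303) (flp_f L714294) L732368
theorem L732372 : sm gh N54455 = N52750 := ded_38_2 (flp_d L714318) (flp_h L694098) (flp_d L694074) L714292 L732368
theorem L732374 : sm gd N52747 = N54456 := rfl
theorem L732376 : sm gg N54456 = N54456 := ded_36_2 (flp_d L732374) L714300 L732374
theorem L732377 : sm gi N54456 = N52748 := ded_39_2 (flp_d L714303) (flp_i L714301) L732374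
theorem L732379 : sm gh N54456 = N54456 := ded_38_2 (flp_d L732374) (flp_h L714296) L694080 L714296 L732374
theorem L732380 : sm gd N52749 = N54457 := rfl
theorem L732382 : sm gf N54457 = N54457 := ded_35_2 (flp_d L732380) L714314 L732380
theorem L732383 : sm gg N54457 = N52750 := ded_36_2 (flp_d L714318) (flp_g L714315) L732380
theorem L732385 : sm gi N54457 = N54457 := ded_39_2 (flp_d L732380) L714317 L732380
theorem L732386 : sm gc N52750 = N54458 := rfl
theorem L732388 : sm gf N54458 = N52751 := ded_29_2 (flp_c L714323) (flp_f L714320) L732386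
theorem L732390 : sm gj N54458 = N52761 := ded_31_2 (flp_c L717954) L717951 L732386
theorem L732392 : sm gi N54458 = N54458 := ded_33_2 (flp_c L732386) L714322 L732386
theorem L732393 : sm gd N54458 = N52754 := ded_27_2 (flp_c L714353) (flp_d L694131) (flp_c L694100) L714318 L732386
theorem L732395 : sm ge N52750 = N54459 := rfl
theorem L732397 : sm gi N54459 = N54459 := ded_44_2 (flp_e L732395) L714322 L732395
theorem L732398 : sm gd N54459 = N52762 := ded_34_1 (flp_e L714421) (flp_d L694244) (flp_e L694102) L714318 L732395
theorem L732400 : sm gb N52751 = N54460 := rfl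
theorem L732402 : sm gd N54460 = N52755 := ded_20_2 (flp_b L714362) (flp_d L714329) L732400
theorem L732404 : sm gg N54460 = N54460 := ded_23_2 (flp_b L732400) L714325 L732400
theorem L732405 : sm gj N54460 = N52765 := ded_24_2 L714444 (flp_j L714326) L732400
theorem L732407 : sm gi N54460 = N54460 := ded_26_2 (flp_b L732400) L714328 L732400
theorem L732408 : sm ga N54460 = N52770 := ded_10_1 L714474 (flp_a L714468) (flp_b L716987) L716985 L732400
theorem L732410 : sm ge N52751 = N54461 := rfl
theorem L732412 : sm gc N54461 = N52752 := ded_28_1 (flp_e L714331) L714323 L732410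
theorem L732414 : sm gg N54461 = N54461 := ded_41_2 (flp_e L732410) L714325 L732410
theorem L732415 : sm gj N54461 = N52760 := ded_42_2 L714408 (flp_j L714326) L732410
theorem L732417 : sm gi N54461 = N54461 := ded_44_2 (flp_e L732410) L714328 L732410
theorem L732418 : sm gd N54461 = N54461 := ded_34_1 (flp_e L732410) L714329 L694143 (flp_d L714329) L732410
theorem L732419 : sm gf N52752 = N54462 := rfl
theorem L732421 : sm gb N54462 = N52756 := ded_22_1 L714376 (flp_b L714333) L732419
theorem L732423 : sm gd N54462 = N52753 := ded_35_1 (flp_f L714341) (flp_d L714339) L732419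
theorem L732425 : sm gj N54462 = N52759 := ded_46_2 L714403 (flp_j L714336) L732419
theorem L732427 : sm gi N54462 = N54462 := ded_48_2 (flp_f L732419) L714338 L732419
theorem L732428 : sm ge N52756 = N54463 := rfl
theorem L732430 : sm gj N54463 = N52762 := ded_42_2 (flp_e L714421) (flp_j L714378) L732428
theorem L732432 : sm gi N54463 = N54463 := ded_44_2 (flp_e L732428) L714380 L732428
theorem L732433 : sm gd N52758 = N54464 := rfl
theorem L732435 : sm gb N54464 = N52761 := ded_20_1 (flp_d L714414) (flp_b L714391) L732433
theorem L732437 : sm gf N54464 = N52765 := ded_35_2 (flp_d L714442) (flp_f L714394) L732433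
theorem L732439 : sm gg N54464 = N52759 := ded_36_2 (flp_d L714399) (flp_g L714396) L732433
theorem L732441 : sm gi N54464 = N54464 := ded_39_2 (flp_d L732433) L714398 L732433
theorem L732442 : sm gc N52759 = N54465 := rfl
theorem L732444 : sm gf N54465 = N52760 := ded_29_2 (flp_c L714406) (flp_f L714403) L732442
theorem L732446 : sm gi N54465 = N54465 := ded_33_2 (flp_c L732442) L714405 L732442
theorem L732447 : sm gd N54465 = N54465 := ded_27_2 (flp_c L732442) (flp_d L714399) L694216 L714399 L732442
theorem L732448 : sm ge N52759 = N54466 := rfl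
theorem L732450 : sm gb N54466 = N52762 := ded_21_1 (flp_e L714421) (flp_b L714401) L732448
theorem L732452 : sm gi N54466 = N54466 := ded_44_2 (flp_e L732448) L714405 L732448
theorem L732453 : sm ge N52761 = N54467 := rfl
theorem L732455 : sm gg N54467 = N52762 := ded_41_2 (flp_e L714421) (flp_g L714418) L732453
theorem L732457 : sm gi N54467 = N54467 := ded_44_2 (flp_e L732453) L714420 L732453
theorem L732458 : sm gf N52762 = N54468 := rfl
theorem L732460 : sm gi N54468 = N54468 := ded_48_2 (flp_f L732458) L714423 L732458
theorem L732461 : sm ge N54468 = N52763 := ded_40_1 (flp_f L714424) (flp_e L694249) (flp_f L694246) L714421 L732458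
theorem L732463 : sm gd N52766 = N54469 := rfl
theorem L732465 : sm ga N54469 = N52768 := ded_12_1 (flp_d L714461) (flp_a L714451) L732463
theorem L732467 : sm gg N54469 = N54469 := ded_36_2 (flp_d L732463) L714455 L732463
theorem L732468 : sm gh N54469 = N52769 := ded_38_2 (flp_d L714466) (flp_h L694375) (flp_d L694340) L714449 L732463
theorem L732470 : sm gd N52767 = N54470 := rfl
theorem L732472 : sm gb N54470 = N52768 := ded_20_1 (flp_d L714461) (flp_b L714458) L732470
theorem L732474 : sm gg N54470 = N54470 := ded_36_2 (flp_d L732470) L714460 L732470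
theorem L732475 : sm gh N54470 = N52770 := ded_38_2 (flp_d L714472) (flp_h L694392) (flp_d L694352) L714456 L732470
theorem L732477 : sm gc N52770 = N54471 := rfl
theorem L732479 : sm gg N54471 = N54471 := ded_30_2 (flp_c L732477) L714476 L732477
theorem L732480 : sm gi N54471 = N54471 := ded_33_2 (flp_c L732477) L714477 L732477
theorem L732481 : sm gd N54471 = N54471 := ded_27_2 (flp_c L732477) (flp_d L714472) L694396 L714472 L732477
theorem L732482 : sm gh N52772 = N54472 := rfl
theorem L732484 : sm ga N54472 = N53144 := ded_17_1 L719544 (flp_a L714498) L732482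
theorem L732486 : sm gb N54472 = N54472 := ded_25_1 (flp_h L732482) L714500 L732482
theorem L732487 : sm gc N54472 = N53116 := ded_32_1 (flp_h L719205) (flp_c L714501) L732482
theorem L732489 : sm ge N54472 = N53319 := ded_43_1 (flp_h L721756) (flp_e L714505) L732482
theorem L732491 : sm gf N54472 = N52774 := ded_47_1 (flp_h L714529) (flp_f L714507) L732482
theorem L732493 : sm gg N54472 = N53398 := ded_50_1 (flp_h L722640) (flp_g L714509) L732482
theorem L732495 : sm gj N54472 = N52773 := ded_52_1 (flp_h L714513) (flp_j L714511) L732482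
theorem L732497 : sm gd N54472 = N53143 := ded_38_1 (flp_h L719517) L699776 (flp_h L706299) (flp_d L714503) L732482
theorem L732499 : sm gi N54472 = N54472 := ded_54_2 (flp_h L732482) (flp_i L714496) L694622 L714496 L732482
theorem L732500 : sm gh N52780 = N54473 := rfl
theorem L732502 : sm ga N54473 = N53204 := ded_17_1 (flp_h L720378) (flp_a L714631) L732500
theorem L732504 : sm gb N54473 = N53162 := ded_25_1 (flp_h L719818) (flp_b L714633) L732500
theorem L732506 : sm gc N54473 = N53216 := ded_32_1 (flp_h L720502) (flp_c L714635) L732500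
theorem L732508 : sm ge N54473 = N52781 := ded_43_1 (flp_h L714646) (flp_e L714638) L732500
theorem L732510 : sm gf N54473 = N53183 := ded_47_1 (flp_h L720121) (flp_f L714640) L732500
theorem L732512 : sm gg N54473 = N53213 := ded_50_1 (flp_h L720481) (flp_g L714642) L732500
theorem L732514 : sm gj N54473 = N52801 := ded_52_1 (flp_h L714974) (flp_j L714644) L732500
theorem L732516 : sm gi N54473 = N52786 := ded_54_2 (flp_h L714735) (flp_i L694971) (flp_h L694883) L714629 L732500
theorem L732518 : sm gh N52782 = N54474 := rfl
theorem L732520 : sm ga N54474 = N53216 := ded_17_1 (flp_h L720502) (flp_a L714666) L732518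
theorem L732522 : sm gb N54474 = N53154 := ded_25_1 (flp_h L719696) (flp_b L714668) L732518
theorem L732524 : sm gc N54474 = N53204 := ded_32_1 (flp_h L720378) (flp_c L714670) L732518
theorem L732526 : sm ge N54474 = N52783 := ded_43_1 (flp_h L714682) (flp_e L714674) L732518
theorem L732528 : sm gf N54474 = N53202 := ded_47_1 (flp_h L720357) (flp_f L714676) L732518
theorem L732530 : sm gg N54474 = N52786 := ded_50_1 (flp_h L714735) (flp_g L714678) L732518
theorem L732532 : sm gj N54474 = N53253 := ded_52_1 (flp_h L721000) (flp_j L714680) L732518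
theorem L732534 : sm gd N54474 = N54126 := ded_38_1 L729968 L711181 L695012 (flp_d L714672) L732518
theorem L732536 : sm gi N54474 = N53213 := ded_54_2 (flp_h L720481) (flp_i L701142) (flp_h L694916) L714664 L732518
theorem L732538 : sm gh N52784 = N54475 := rfl
theorem L732540 : sm ga N54475 = N53213 := ded_17_1 (flp_h L720481) (flp_a L714702) L732538
theorem L732542 : sm gb N54475 = N53206 := ded_25_1 (flp_h L720397) (flp_b L714704) L732538
theorem L732544 : sm gc N54475 = N52786 := ded_32_1 (flp_h L714735) (flp_c L714706) L732538
theorem L732546 : sm ge N54475 = N52785 := ded_43_1 (flp_h L714717) (flp_e L714709) L732538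
theorem L732548 : sm gf N54475 = N53190 := ded_47_1 (flp_h L720203) (flp_f L714711) L732538
theorem L732550 : sm gg N54475 = N53204 := ded_50_1 (flp_h L720378) (flp_g L714713) L732538
theorem L732552 : sm gj N54475 = N52823 := ded_52_1 (flp_h L715290) (flp_j L714715) L732538
theorem L732554 : sm gi N54475 = N53216 := ded_54_2 (flp_h L720502) (flp_i L701169) (flp_h L694950) L714700 L732538
theorem L732556 : sm gd N54475 = N54128 := ded_55_8 L729984 L711262 L690321 L693582 L693588 (flp_d L711298) L719940 (flp_c L719925) (flp_d L700486) L679113 (flp_h L679107) (flp_d L679046) (flp_f L700457) L700455 L679278 L657318 L358728 (flp_d L358878) (flp_i L358873) L246912 (flp_d L246902) L170118 L124289 L85812 L61028 (flp_c L88193) (flp_d L592704) L177109 L177117 L122287 L122288 (flp_e L116099) (flp_d L166564) L166562 L115027 L115028 (flp_i L80368) (flp_h L55720) (flp_d L38738) L38748 (flp_e L55521) (flp_d L80040) (flp_b L115613) (flp_c L167472) L167474 (flp_i L242723) L644914 L204226 L140723 L98505 (flp_d L142601) L142600 (flp_c L644746) L167371 (flp_i L644779) L142587 L98539 L621021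 L83847 (flp_d L84452) L84450 L58493 L41236 (flp_i L41158) L41157 (flp_d L59313) L59317 (flp_e L85722) L85721 (flp_b L124109) (flp_c L180075) L617602 (flp_i L611973) (flp_h L611995) (flp_d L374698) L664642 (flp_e L674051) L674045 L652582 L359027 (flp_d L657783) L679890 L701179 L720512 L720514 (flp_e L719904) (flp_d L719900) (flp_b L714739) (flp_c L732544)
theorem L732558 : sm gd N52786 = N54476 := rfl
theorem L732560 : sm ga N54476 = N53217 := ded_12_1 (flp_d L720512) (flp_a L714737) L732558
theorem L732562 : sm gb N54476 = N53168 := ded_20_1 (flp_d L719900) (flp_b L714739) L732558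
theorem L732564 : sm gf N54476 = N53192 := ded_35_2 (flp_d L720223) (flp_f L714743) L732558
theorem L732566 : sm gg N54476 = N54126 := ded_36_2 (flp_d L732534) L732530 L732558
theorem L732568 : sm gj N54476 = N52824 := ded_37_2 (flp_d L715304) (flp_j L714745) L732558
theorem L732570 : sm ge N54476 = N52793 := ded_34_2 (flp_d L714854) L695229 (flp_d L694995) (flp_e L714741) L732558
theorem L732572 : sm gh N54476 = N52787 := ded_38_2 (flp_d L714747) (flp_h L695014) (flp_d L694977) L714735 L732558
theorem L732574 : sm gc N52787 = N54477 := rfl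
theorem L732576 : sm ga N54477 = N53219 := ded_11_1 (flp_c L720530) (flp_a L714749) L732574
theorem L732578 : sm ge N54477 = N52795 := ded_28_2 (flp_c L714883) (flp_e L714760) L732574
theorem L732580 : sm gf N54477 = N53194 := ded_29_2 (flp_c L720246) (flp_f L714753) L732574
theorem L732582 : sm gg N54477 = N54120 := ded_30_2 L729917 (flp_g L714755) L732574
theorem L732584 : sm gj N54477 = N52828 := ded_31_2 (flp_c L715362) (flp_j L714757) L732574
theorem L732586 : sm gi N54477 = N54477 := ded_33_2 (flp_c L732574) L714759 L732574
theorem L732587 : sm gb N54477 = N54124 := ded_19_1 L729947 L719940 (flp_c L719925) (flp_b L714751) L732574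
theorem L732589 : sm gd N54477 = N54477 := ded_27_2 (flp_c L732574) (flp_d L714747) L695020 L714747 L732574
theorem L732590 : sm gd N52790 = N54478 := rfl
theorem L732592 : sm ga N54478 = N53874 := ded_12_1 (flp_d L727515) (flp_a L714804) L732590
theorem L732594 : sm gb N54478 = N53205 := ded_20_1 (flp_d L720390) (flp_b L714806) L732590
theorem L732596 : sm gf N54478 = N54130 := ded_35_2 (flp_d L729996) (flp_f L714812) L732590
theorem L732598 : sm gg N54478 = N54125 := ded_36_2 (flp_d L729953) (flp_g L714814) L732590
theorem L732600 : sm gj N54478 = N52852 := ded_37_2 (flp_d L715754) (flp_j L714816) L732590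
theorem L732602 : sm gi N54478 = N52793 := ded_39_2 (flp_d L714854) (flp_i L714818) L732590
theorem L732604 : sm gc N54478 = N54122 := ded_27_1 (flp_d L729932) L711128 (flp_d L708284) (flp_c L714808) L732590
theorem L732606 : sm gh N54478 = N54478 := ded_38_2 (flp_d L732590) (flp_h L714802) L695130 L714802 L732590
theorem L732607 : sm gh N52791 = N54479 := rfl
theorem L732609 : sm ga N54479 = N53165 := ded_17_1 (flp_h L719864) (flp_a L714822) L732607
theorem L732611 : sm gb N54479 = N53216 := ded_25_1 (flp_h L720502) (flp_b L714824) L732607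
theorem L732613 : sm gc N54479 = N53184 := ded_32_1 (flp_h L720131) (flp_c L714826) L732607
theorem L732615 : sm ge N54479 = N53197 := ded_43_1 (flp_h L720283) (flp_e L714830) L732607
theorem L732617 : sm gf N54479 = N53186 := ded_47_1 (flp_h L720155) (flp_f L714832) L732607
theorem L732619 : sm gg N54479 = N52792 := ded_50_1 (flp_h L714838) (flp_g L714834) L732607
theorem L732621 : sm gj N54479 = N53300 := ded_52_1 (flp_h L721509) (flp_j L714836) L732607
theorem L732623 : sm gd N54479 = N54133 := ded_38_1 L730021 L711294 L695251 (flp_d L714828) L732607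
theorem L732625 : sm gi N54479 = N53206 := ded_54_2 (flp_h L720397) (flp_i L701041) (flp_h L695199) L714820 L732607
theorem L732627 : sm gd N52792 = N54480 := rfl
theorem L732629 : sm ga N54480 = N54129 := ded_12_1 (flp_d L729986) (flp_a L714840) L732627
theorem L732631 : sm gb N54480 = N53217 := ded_20_1 (flp_d L720512) (flp_b L714842) L732627
theorem L732633 : sm gf N54480 = N52793 := ded_35_2 (flp_d L714854) (flp_f L714848) L732627
theorem L732635 : sm gg N54480 = N54133 := ded_36_2 (flp_d L732623) L732619 L732627
theorem L732637 : sm gj N54480 = N52868 := ded_37_2 (flp_d L715977) (flp_j L714850) L732627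
theorem L732639 : sm gi N54480 = N54130 := ded_39_2 (flp_d L729996) (flp_i L714852) L732627
theorem L732641 : sm gc N54480 = N54132 := ded_27_1 (flp_d L730007) (flp_c L719980) L719986 (flp_c L714844) L732627
theorem L732643 : sm ge N54480 = N54131 := ded_34_2 (flp_d L729999) (flp_e L714770) L714778 (flp_e L714846) L732627
theorem L732645 : sm gh N54480 = N52794 := ded_38_2 (flp_d L714866) (flp_h L695253) (flp_d L695213) L714838 L732627
theorem L732647 : sm gc N52793 = N54481 := rfl
theorem L732649 : sm ga N54481 = N53212 := ded_11_1 L720477 (flp_a L714856) L732647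
theorem L732651 : sm gf N54481 = N54132 := ded_29_2 (flp_c L732641) L732633 L732647
theorem L732653 : sm gg N54481 = N54118 := ded_30_2 L729898 (flp_g L714860) L732647
theorem L732655 : sm gj N54481 = N52869 := ded_31_2 (flp_c L715989) (flp_j L714862) L732647
theorem L732657 : sm gh N54481 = N52795 := ded_32_2 (flp_c L714883) (flp_h L714864) L732647
theorem L732659 : sm gi N54481 = N54122 := ded_33_2 (flp_c L732604) L732602 L732647
theorem L732661 : sm gd N54481 = N53210 := ded_27_2 L720439 L711084 (flp_c L695227) L714854 L732647
theorem L732663 : sm gb N52795 = N54482 := rfl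
theorem L732665 : sm gd N54482 = N53193 := ded_20_2 L720235 (flp_d L714894) L732663
theorem L732667 : sm ge N54482 = N54124 := ded_21_2 (flp_b L732587) L732578 L732663
theorem L732669 : sm gf N54482 = N53172 := ded_22_2 L719963 (flp_f L714887) L732663
theorem L732671 : sm gg N54482 = N54119 := ded_23_2 L729906 (flp_g L714889) L732663
theorem L732673 : sm gj N54482 = N52875 := ded_24_2 (flp_b L716073) (flp_j L714891) L732663
theorem L732675 : sm gi N54482 = N54482 := ded_26_2 (flp_b L732663) L714893 L732663
theorem L732676 : sm ga N54482 = N53195 := ded_10_1 L720262 L700920 (flp_b L701244) (flp_a L714885) L732663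
theorem L732678 : sm gc N54482 = N53220 := ded_19_2 (flp_b L720544) (flp_c L701213) (flp_b L695274) L714883 L732663
theorem L732680 : sm gf N52796 = N54483 := rfl
theorem L732682 : sm ga N54483 = N53428 := ded_14_1 L722968 (flp_a L714898) L732680
theorem L732684 : sm gb N54483 = N53268 := ded_22_1 (flp_f L721191) (flp_b L714900) L732680
theorem L732686 : sm gc N54483 = N53469 := ded_29_1 L723355 (flp_c L714902) L732680
theorem L732688 : sm gd N54483 = N53952 := ded_35_1 (flp_f L728386) (flp_d L714910) L732680
theorem L732690 : sm gj N54483 = N53465 := ded_46_2 L723323 (flp_j L714906) L732680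
theorem L732692 : sm gh N54483 = N52806 := ded_47_2 (flp_f L715052) (flp_h L714908) L732680
theorem L732694 : sm ge N54483 = N52798 := ded_40_1 (flp_f L714928) (flp_e L695315) (flp_f L695287) L714896 L732680
theorem L732696 : sm gg N54483 = N53346 := ded_45_2 (flp_f L722083) L702860 (flp_f L708384) (flp_g L714904) L732680
theorem L732698 : sm gi N52796 = N54484 := rfl
theorem L732700 : sm ga N54484 = N53885 := ded_18_1 (flp_i L727648) (flp_a L714898) L732698
theorem L732702 : sm gb N54484 = N53269 := ded_26_1 (flp_i L721197) (flp_b L714900) L732698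
theorem L732704 : sm gc N54484 = N54222 := ded_33_1 (flp_i L730668) (flp_c L714902) L732698
theorem L732706 : sm gd N54484 = N53953 := ded_39_1 (flp_i L728391) (flp_d L714910) L732698
theorem L732708 : sm ge N54484 = N52797 := ded_44_1 (flp_i L714912) L714896 L732698
theorem L732710 : sm gg N54484 = N53875 := ded_51_1 (flp_i L727524) (flp_g L714904) L732698
theorem L732712 : sm gj N54484 = N54218 := ded_53_1 (flp_i L730646) (flp_j L714906) L732698
theorem L732714 : sm gh N52797 = N54485 := rfl
theorem L732716 : sm ga N54485 = N53886 := ded_17_1 (flp_h L727658) (flp_a L714914) L732714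
theorem L732718 : sm gb N54485 = N53270 := ded_25_1 (flp_h L721203) (flp_b L714916) L732714
theorem L732720 : sm gc N54485 = N54232 := ded_32_1 L730742 (flp_c L714918) L732714
theorem L732722 : sm gf N54485 = N52800 := ded_47_1 (flp_h L714958) (flp_f L714922) L732714
theorem L732724 : sm gg N54485 = N53876 := ded_50_1 (flp_h L727538) (flp_g L714924) L732714
theorem L732726 : sm gj N54485 = N54231 := ded_52_1 (flp_h L730728) (flp_j L714926) L732714
theorem L732728 : sm gd N54485 = N52845 := ded_38_1 (flp_h L715649) L696157 (flp_h L695313) (flp_d L714920) L732714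
theorem L732730 : sm gi N54485 = N52808 := ded_54_2 (flp_h L715076) (flp_i L695471) (flp_h L695295) L714912 L732714
theorem L732732 : sm gi N52798 = N54486 := rfl
theorem L732734 : sm ga N54486 = N53438 := ded_18_1 (flp_i L723062) (flp_a L714930) L732732
theorem L732736 : sm gb N54486 = N53275 := ded_26_1 (flp_i L721259) (flp_b L714932) L732732
theorem L732738 : sm gc N54486 = N53486 := ded_33_1 (flp_i L723511) (flp_c L714934) L732732
theorem L732740 : sm gd N54486 = N54486 := ded_39_1 (flp_i L732732) L714936 L732732
theorem L732741 : sm gf N54486 = N52799 := ded_48_1 (flp_i L714943) L714928 L732732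
theorem L732743 : sm gg N54486 = N53355 := ded_51_1 (flp_i L722189) (flp_g L714941) L732732
theorem L732745 : sm gj N54486 = N53482 := ded_53_1 (flp_i L723485) (flp_j L714937) L732732
theorem L732747 : sm gh N52799 = N54487 := rfl
theorem L732749 : sm ga N54487 = N53444 := ded_17_1 (flp_h L723112) (flp_a L714945) L732747
theorem L732751 : sm gb N54487 = N53276 := ded_25_1 (flp_h L721264) (flp_b L714947) L732747
theorem L732753 : sm gc N54487 = N53497 := ded_32_1 (flp_h L723595) (flp_c L714949) L732747
theorem L732755 : sm ge N54487 = N52800 := ded_43_1 (flp_h L714958) (flp_e L714952) L732747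
theorem L732757 : sm gg N54487 = N52801 := ded_50_1 (flp_h L714974) (flp_g L714954) L732747
theorem L732759 : sm gj N54487 = N53492 := ded_52_1 (flp_h L723558) (flp_j L714956) L732747
theorem L732761 : sm gi N54487 = N52819 := ded_54_2 (flp_h L715235) (flp_i L695562) (flp_h L695327) L714943 L732747
theorem L732763 : sm gd N52801 = N54488 := rfl
theorem L732765 : sm ga N54488 = N53445 := ded_12_1 (flp_d L723120) (flp_a L714976) L732763
theorem L732767 : sm gb N54488 = N53282 := ded_20_1 (flp_d L721332) (flp_b L714978) L732763
theorem L732769 : sm gf N54488 = N53360 := ded_35_2 (flp_d L722245) (flp_f L714984) L732763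
theorem L732771 : sm gi N54488 = N52824 := ded_39_2 (flp_d L715304) (flp_i L714986) L732763
theorem L732773 : sm gc N54488 = N54168 := ded_27_1 L730303 L711640 (flp_d L712221) (flp_c L714980) L732763
theorem L732775 : sm ge N54488 = N52852 := ded_34_2 (flp_d L715754) L696255 (flp_d L695407) (flp_e L714982) L732763
theorem L732777 : sm gh N54488 = N54488 := ded_38_2 (flp_d L732763) (flp_h L714974) L695392 L714974 L732763
theorem L732778 : sm gf N52802 = N54489 := rfl
theorem L732780 : sm ga N54489 = N53469 := ded_14_1 L723355 (flp_a L714990) L732778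
theorem L732782 : sm gb N54489 = N53244 := ded_22_1 L720894 (flp_b L714992) L732778
theorem L732784 : sm gc N54489 = N53428 := ded_29_1 L722968 (flp_c L714994) L732778
theorem L732786 : sm gd N54489 = N52904 := ded_35_1 (flp_f L716469) (flp_d L715002) L732778
theorem L732788 : sm gj N54489 = N52806 := ded_46_2 (flp_f L715052) (flp_j L714998) L732778
theorem L732790 : sm gh N54489 = N53465 := ded_47_2 L723323 (flp_h L715000) L732778
theorem L732792 : sm ge N54489 = N52809 := ded_40_1 (flp_f L715088) (flp_e L695483) (flp_f L695417) L714988 L732778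
theorem L732794 : sm gg N54489 = N53425 := ded_45_2 (flp_f L722930) L703621 (flp_f L708634) (flp_g L714996) L732778
theorem L732796 : sm gi N52802 = N54490 := rfl
theorem L732798 : sm ga N54490 = N54222 := ded_18_1 (flp_i L730668) (flp_a L714990) L732796
theorem L732800 : sm gb N54490 = N53285 := ded_26_1 (flp_i L721369) (flp_b L714992) L732796
theorem L732802 : sm gc N54490 = N53885 := ded_33_1 (flp_i L727648) (flp_c L714994) L732796
theorem L732804 : sm gd N54490 = N52905 := ded_39_1 (flp_i L716479) (flp_d L715002) L732796
theorem L732806 : sm ge N54490 = N52803 := ded_44_1 (flp_i L715004) L714988 L732796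
theorem L732808 : sm gg N54490 = N53887 := ded_51_1 (flp_i L727670) (flp_g L714996) L732796
theorem L732810 : sm gj N54490 = N52807 := ded_53_1 (flp_i L715064) (flp_j L714998) L732796
theorem L732812 : sm gh N52803 = N54491 := rfl
theorem L732814 : sm ga N54491 = N54232 := ded_17_1 L730742 (flp_a L715006) L732812
theorem L732816 : sm gb N54491 = N53286 := ded_25_1 (flp_h L721377) (flp_b L715008) L732812
theorem L732818 : sm gc N54491 = N53886 := ded_32_1 (flp_h L727658) (flp_c L715010) L732812
theorem L732820 : sm gf N54491 = N52811 := ded_47_1 (flp_h L715120) (flp_f L715014) L732812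
theorem L732822 : sm gg N54491 = N53888 := ded_50_1 (flp_h L727680) (flp_g L715016) L732812
theorem L732824 : sm gj N54491 = N52808 := ded_52_1 (flp_h L715076) (flp_j L715018) L732812
theorem L732826 : sm gd N54491 = N52854 := ded_38_1 (flp_h L715781) L696281 (flp_h L695443) (flp_d L715012) L732812
theorem L732828 : sm gi N54491 = N54231 := ded_54_2 (flp_h L730728) (flp_i L712133) (flp_h L695425) L715004 L732812
theorem L732830 : sm gf N52804 = N54492 := rfl
theorem L732832 : sm ga N54492 = N53465 := ded_14_1 L723323 (flp_a L715022) L732830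
theorem L732834 : sm gb N54492 = N53447 := ded_22_1 (flp_f L723134) (flp_b L715024) L732830
theorem L732836 : sm gc N54492 = N52806 := ded_29_1 (flp_f L715052) (flp_c L715026) L732830
theorem L732838 : sm gd N54492 = N53058 := ded_35_1 (flp_f L718499) (flp_d L715034) L732830
theorem L732840 : sm gj N54492 = N53428 := ded_46_2 L722968 (flp_j L715030) L732830
theorem L732842 : sm gh N54492 = N53469 := ded_47_2 L723355 (flp_h L715032) L732830
theorem L732844 : sm ge N54492 = N52815 := ded_40_1 (flp_f L715183) (flp_e L695527) (flp_f L695449) L715020 L732830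
theorem L732846 : sm gg N54492 = N53371 := ded_45_2 (flp_f L722356) L703068 (flp_f L696271) (flp_g L715028) L732830
theorem L732848 : sm gi N52804 = N54493 := rfl
theorem L732850 : sm ga N54493 = N54218 := ded_18_1 (flp_i L730646) (flp_a L715022) L732848
theorem L732852 : sm gb N54493 = N53448 := ded_26_1 (flp_i L723140) (flp_b L715024) L732848
theorem L732854 : sm gc N54493 = N52807 := ded_33_1 (flp_i L715064) (flp_c L715026) L732848
theorem L732856 : sm gd N54493 = N53059 := ded_39_1 (flp_i L718506) (flp_d L715034) L732848
theorem L732858 : sm ge N54493 = N52805 := ded_44_1 (flp_i L715036) L715020 L732848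
theorem L732860 : sm gg N54493 = N52853 := ded_51_1 (flp_i L715765) (flp_g L715028) L732848
theorem L732862 : sm gj N54493 = N53885 := ded_53_1 (flp_i L727648) (flp_j L715030) L732848
theorem L732864 : sm gh N52805 = N54494 := rfl
theorem L732866 : sm ga N54494 = N54231 := ded_17_1 (flp_h L730728) (flp_a L715038) L732864
theorem L732868 : sm gb N54494 = N53449 := ded_25_1 (flp_h L723150) (flp_b L715040) L732864
theorem L732870 : sm gc N54494 = N52808 := ded_32_1 (flp_h L715076) (flp_c L715042) L732864
theorem L732872 : sm gf N54494 = N52817 := ded_47_1 (flp_h L715209) (flp_f L715046) L732864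
theorem L732874 : sm gg N54494 = N52854 := ded_50_1 (flp_h L715781) (flp_g L715048) L732864
theorem L732876 : sm gj N54494 = N53886 := ded_52_1 (flp_h L727658) (flp_j L715050) L732864
theorem L732878 : sm gd N54494 = N53888 := ded_38_1 (flp_h L727680) L708640 (flp_h L695743) (flp_d L715044) L732864
theorem L732880 : sm gi N54494 = N54232 := ded_54_2 L730742 (flp_i L712163) (flp_h L695455) L715036 L732864
theorem L732882 : sm gi N52806 = N54495 := rfl
theorem L732884 : sm ga N54495 = N53470 := ded_18_1 (flp_i L723357) (flp_a L715054) L732882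
theorem L732886 : sm gb N54495 = N53293 := ded_26_1 (flp_i L721455) (flp_b L715056) L732882
theorem L732888 : sm gd N54495 = N52913 := ded_39_1 (flp_i L716579) (flp_d L715058) L732882
theorem L732890 : sm ge N54495 = N52818 := ded_44_1 (flp_i L715223) (flp_e L715060) L732882
theorem L732892 : sm gf N54495 = N52807 := ded_48_1 (flp_i L715064) L715052 L732882
theorem L732894 : sm gg N54495 = N53374 := ded_51_1 (flp_i L722384) (flp_g L715062) L732882
theorem L732896 : sm gh N52807 = N54496 := rfl
theorem L732898 : sm ga N54496 = N54223 := ded_17_1 (flp_h L730676) (flp_a L715066) L732896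
theorem L732900 : sm gb N54496 = N53294 := ded_25_1 (flp_h L721463) (flp_b L715068) L732896
theorem L732902 : sm ge N54496 = N52808 := ded_43_1 (flp_h L715076) (flp_e L715072) L732896
theorem L732904 : sm gg N54496 = N53877 := ded_50_1 (flp_h L727552) (flp_g L715074) L732896
theorem L732906 : sm gi N52809 = N54497 := rfl
theorem L732908 : sm ga N54497 = N53486 := ded_18_1 (flp_i L723511) (flp_a L715090) L732906
theorem L732910 : sm gb N54497 = N53245 := ded_26_1 (flp_i L720896) (flp_b L715092) L732906
theorem L732912 : sm gc N54497 = N53438 := ded_33_1 (flp_i L723062) (flp_c L715094) L732906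
theorem L732914 : sm gd N54497 = N52825 := ded_39_1 (flp_i L715316) (flp_d L715096) L732906
theorem L732916 : sm gf N54497 = N52810 := ded_48_1 (flp_i L715104) L715088 L732906
theorem L732918 : sm gg N54497 = N53435 := ded_51_1 (flp_i L723033) (flp_g L715102) L732906
theorem L732920 : sm gj N54497 = N52818 := ded_53_1 (flp_i L715223) (flp_j L715098) L732906
theorem L732922 : sm gh N52810 = N54498 := rfl
theorem L732924 : sm ga N54498 = N53497 := ded_17_1 (flp_h L723595) (flp_a L715106) L732922
theorem L732926 : sm gb N54498 = N53250 := ded_25_1 (flp_h L720960) (flp_b L715108) L732922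
theorem L732928 : sm gc N54498 = N53444 := ded_32_1 (flp_h L723112) (flp_c L715110) L732922
theorem L732930 : sm ge N54498 = N52811 := ded_43_1 (flp_h L715120) (flp_e L715114) L732922
theorem L732932 : sm gg N54498 = N53253 := ded_50_1 (flp_h L721000) (flp_g L715116) L732922
theorem L732934 : sm gj N54498 = N52819 := ded_52_1 (flp_h L715235) (flp_j L715118) L732922
theorem L732936 : sm gd N54498 = N54188 := ded_38_1 L730448 L711850 L695687 (flp_d L715112) L732922
theorem L732938 : sm gi N54498 = N53492 := ded_54_2 (flp_h L723558) (flp_i L704145) (flp_h L695495) L715104 L732922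
theorem L732940 : sm gi N52812 = N54499 := rfl
theorem L732942 : sm ga N54499 = N52814 := ded_18_1 (flp_i L715169) L715136 L732940
theorem L732944 : sm gb N54499 = N53233 := ded_26_1 (flp_i L720727) (flp_b L715150) L732940
theorem L732946 : sm gc N54499 = N52866 := ded_33_1 (flp_i L715955) (flp_c L715138) L732940
theorem L732948 : sm gd N54499 = N52829 := ded_39_1 (flp_i L715374) (flp_d L715140) L732940
theorem L732950 : sm ge N54499 = N53272 := ded_44_1 (flp_i L721225) L715152 L732940
theorem L732952 : sm gf N54499 = N53362 := ded_48_1 (flp_i L722262) (flp_f L715142) L732940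
theorem L732954 : sm gg N54499 = N52820 := ded_51_1 (flp_i L715245) (flp_g L715144) L732940
theorem L732956 : sm gj N54499 = N52864 := ded_53_1 (flp_i L715921) (flp_j L715146) L732940
theorem L732958 : sm gf N52813 = N54500 := rfl
theorem L732960 : sm ga N54500 = N53265 := ded_14_1 L721164 (flp_a L715156) L732958
theorem L732962 : sm gb N54500 = N52815 := ded_22_1 (flp_f L715183) (flp_b L715158) L732958
theorem L732964 : sm gc N54500 = N53222 := ded_29_1 L720578 (flp_c L715160) L732958
theorem L732966 : sm gd N54500 = N54500 := ded_35_1 (flp_f L732958) L715168 L732958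
theorem L732967 : sm gj N54500 = N52847 := ded_46_2 L715694 (flp_j L715164) L732958
theorem L732969 : sm gh N54500 = N52860 := ded_47_2 L715879 (flp_h L715166) L732958
theorem L732971 : sm ge N54500 = N53447 := ded_40_1 (flp_f L723134) (flp_e L703807) (flp_f L695517) L715154 L732958
theorem L732973 : sm gg N54500 = N53340 := ded_45_2 L722020 L702880 (flp_f L695613) (flp_g L715162) L732958
theorem L732975 : sm gi N52813 = N54501 := rfl
theorem L732977 : sm ga N54501 = N53272 := ded_18_1 (flp_i L721225) (flp_a L715156) L732975
theorem L732979 : sm gb N54501 = N52816 := ded_26_1 (flp_i L715196) (flp_b L715158) L732975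
theorem L732981 : sm gc N54501 = N53226 := ded_33_1 (flp_i L720631) (flp_c L715160) L732975
theorem L732983 : sm gd N54501 = N54501 := ded_39_1 (flp_i L732975) L715168 L732975
theorem L732984 : sm ge N54501 = N52814 := ded_44_1 (flp_i L715169) L715154 L732975
theorem L732986 : sm gg N54501 = N52821 := ded_51_1 (flp_i L715261) (flp_g L715162) L732975
theorem L732988 : sm gj N54501 = N52850 := ded_53_1 (flp_i L715725) (flp_j L715164) L732975
theorem L732990 : sm gh N52814 = N54502 := rfl
theorem L732992 : sm gb N54502 = N52817 := ded_25_1 (flp_h L715209) (flp_b L715171) L732990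
theorem L732994 : sm gc N54502 = N53295 := ded_32_1 (flp_h L721469) (flp_c L715173) L732990
theorem L732996 : sm gf N54502 = N53449 := ded_47_1 (flp_h L723150) (flp_f L715177) L732990
theorem L732998 : sm gg N54502 = N52822 := ded_50_1 (flp_h L715276) (flp_g L715179) L732990
theorem L733000 : sm gj N54502 = N53884 := ded_52_1 (flp_h L727636) (flp_j L715181) L732990
theorem L733002 : sm gd N54502 = N53901 := ded_38_1 (flp_h L727827) L708758 (flp_h L695773) (flp_d L715175) L732990
theorem L733004 : sm gi N54502 = N53911 := ded_54_2 (flp_h L727924) (flp_i L708892) (flp_h L695523) L715169 L732990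
theorem L733006 : sm gi N52815 = N54503 := rfl
theorem L733008 : sm ga N54503 = N53482 := ded_18_1 (flp_i L723485) (flp_a L715185) L733006
theorem L733010 : sm gc N54503 = N52818 := ded_33_1 (flp_i L715223) (flp_c L715187) L733006
theorem L733012 : sm gd N54503 = N54503 := ded_39_1 (flp_i L733006) L715189 L733006
theorem L733013 : sm gf N54503 = N52816 := ded_48_1 (flp_i L715196) L715183 L733006
theorem L733015 : sm gg N54503 = N53381 := ded_51_1 (flp_i L722458) (flp_g L715194) L733006
theorem L733017 : sm gj N54503 = N53438 := ded_53_1 (flp_i L723062) (flp_j L715190) L733006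
theorem L733019 : sm gh N52816 = N54504 := rfl
theorem L733021 : sm ga N54504 = N53492 := ded_17_1 (flp_h L723558) (flp_a L715198) L733019
theorem L733023 : sm gc N54504 = N52819 := ded_32_1 (flp_h L715235) (flp_c L715200) L733019
theorem L733025 : sm ge N54504 = N52817 := ded_43_1 (flp_h L715209) (flp_e L715203) L733019
theorem L733027 : sm gg N54504 = N52823 := ded_50_1 (flp_h L715290) (flp_g L715205) L733019
theorem L733029 : sm gj N54504 = N53444 := ded_52_1 (flp_h L723112) (flp_j L715207) L733019
theorem L733031 : sm gi N54504 = N53497 := ded_54_2 (flp_h L723595) (flp_i L704169) (flp_h L695537) L715196 L733019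
theorem L733033 : sm gd N54199 = N54504 := ded_34_5 L733025 L715219 L708770 L711896 L730514
theorem L733035 : sm gh N52818 = N54505 := rfl
theorem L733037 : sm ga N54505 = N53487 := ded_17_1 (flp_h L723519) (flp_a L715225) L733035
theorem L733039 : sm gb N54505 = N53298 := ded_25_1 (flp_h L721497) (flp_b L715227) L733035
theorem L733041 : sm gf N54505 = N52819 := ded_47_1 (flp_h L715235) (flp_f L715231) L733035
theorem L733043 : sm gg N54505 = N53384 := ded_50_1 (flp_h L722485) (flp_g L715233) L733035
theorem L733045 : sm gd N52819 = N54506 := rfl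
theorem L733047 : sm ga N54506 = N53498 := ded_12_1 (flp_d L723605) (flp_a L715237) L733045
theorem L733049 : sm gb N54506 = N53299 := ded_20_1 (flp_d L721501) (flp_b L715239) L733045
theorem L733051 : sm gg N54506 = N52824 := ded_36_2 (flp_d L715304) (flp_g L715243) L733045
theorem L733053 : sm gj N54506 = N54188 := ded_37_2 (flp_d L732936) L732934 L733045
theorem L733055 : sm ge N54506 = N52863 := ded_34_2 (flp_d L715909) L696419 (flp_d L695582) (flp_e L715241) L733045
theorem L733057 : sm gh N54506 = N52827 := ded_38_2 (flp_d L715349) (flp_h L695702) (flp_d L695568) L715235 L733045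
theorem L733059 : sm gh N52820 = N54507 := rfl
theorem L733061 : sm ga N54507 = N52822 := ded_17_1 (flp_h L715276) (flp_a L715247) L733059
theorem L733063 : sm gb N54507 = N53278 := ded_25_1 (flp_h L721282) (flp_b L715249) L733059
theorem L733065 : sm gc N54507 = N53300 := ded_32_1 (flp_h L721509) (flp_c L715251) L733059
theorem L733067 : sm ge N54507 = N53277 := ded_43_1 (flp_h L721272) (flp_e L715255) L733059
theorem L733069 : sm gf N54507 = N53185 := ded_47_1 (flp_h L720139) (flp_f L715257) L733059
theorem L733071 : sm gj N54507 = N53184 := ded_52_1 (flp_h L720131) (flp_j L715259) L733059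
theorem L733073 : sm gd N54507 = N53304 := ded_38_1 (flp_h L721559) (flp_d L715408) (flp_h L715391) (flp_d L715253) L733059
theorem L733075 : sm gi N54507 = N53301 := ded_54_2 (flp_h L721521) (flp_i L702257) (flp_h L695594) L715245 L733059
theorem L733077 : sm gh N52821 = N54508 := rfl
theorem L733079 : sm ga N54508 = N53277 := ded_17_1 (flp_h L721272) (flp_a L715263) L733077
theorem L733081 : sm gb N54508 = N52823 := ded_25_1 (flp_h L715290) (flp_b L715265) L733077
theorem L733083 : sm gc N54508 = N53301 := ded_32_1 (flp_h L721521) (flp_c L715267) L733077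
theorem L733085 : sm ge N54508 = N52822 := ded_43_1 (flp_h L715276) (flp_e L715270) L733077
theorem L733087 : sm gf N54508 = N53387 := ded_47_1 (flp_h L722513) (flp_f L715272) L733077
theorem L733089 : sm gj N54508 = N53206 := ded_52_1 (flp_h L720397) (flp_j L715274) L733077
theorem L733091 : sm gi N54508 = N53300 := ded_54_2 (flp_h L721509) (flp_i L702245) (flp_h L695610) L715261 L733077
theorem L733093 : sm gd N54200 = N54508 := ded_20_0 L733081 L715302 (flp_b L730523)
theorem L733095 : sm gc N52824 = N54509 := rfl
theorem L733097 : sm ga N54509 = N53491 := ded_11_1 L723552 (flp_a L715306) L733095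
theorem L733099 : sm ge N54509 = N52869 := ded_28_2 (flp_c L715989) (flp_e L715312) L733095
theorem L733101 : sm gf N54509 = N53391 := ded_29_2 (flp_c L722548) (flp_f L715310) L733095
theorem L733103 : sm gh N54509 = N52828 := ded_32_2 (flp_c L715362) (flp_h L715314) L733095
theorem L733105 : sm gi N54509 = N54168 := ded_33_2 (flp_c L732773) L732771 L733095
theorem L733107 : sm gb N54509 = N54169 := ded_19_1 L730307 L721619 (flp_c L721607) (flp_b L715308) L733095
theorem L733109 : sm gd N54509 = N54154 := ded_27_2 L730206 (flp_d L715302) L715294 L715304 L733095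
theorem L733111 : sm gd N52826 = N54510 := rfl
theorem L733113 : sm ga N54510 = N53500 := ded_12_1 (flp_d L723624) (flp_a L715335) L733111
theorem L733115 : sm gb N54510 = N53310 := ded_20_1 (flp_d L721638) (flp_b L715337) L733111
theorem L733117 : sm gf N54510 = N52827 := ded_35_2 (flp_d L715349) (flp_f L715342) L733111
theorem L733119 : sm gg N54510 = N53394 := ded_36_2 (flp_d L722587) (flp_g L715344) L733111
theorem L733121 : sm gj N54510 = N54190 := ded_37_2 L730459 (flp_j L715346) L733111
theorem L733123 : sm gi N54510 = N54510 := ded_39_2 (flp_d L733111) L715348 L733111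
theorem L733124 : sm gc N52827 = N54511 := rfl
theorem L733126 : sm ga N54511 = N53504 := ded_11_1 (flp_c L723652) (flp_a L715351) L733124
theorem L733128 : sm ge N54511 = N52873 := ded_28_2 (flp_c L716047) (flp_e L715360) L733124
theorem L733130 : sm gg N54511 = N52828 := ded_30_2 (flp_c L715362) (flp_g L715355) L733124
theorem L733132 : sm gj N54511 = N54147 := ded_31_2 L730159 (flp_j L715357) L733124
theorem L733134 : sm gi N54511 = N54511 := ded_33_2 (flp_c L733124) L715359 L733124
theorem L733135 : sm gb N54511 = N54175 := ded_19_1 L730341 L721656 (flp_c L721643) (flp_b L715353) L733124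
theorem L733137 : sm gd N54511 = N54511 := ded_27_2 (flp_c L733124) (flp_d L715349) L695708 L715349 L733124
theorem L733138 : sm gi N52831 = N54512 := rfl
theorem L733140 : sm ga N54512 = N53328 := ded_18_1 (flp_i L721872) (flp_a L715412) L733138
theorem L733142 : sm gb N54512 = N52836 := ded_26_1 (flp_i L715497) (flp_b L715414) L733138
theorem L733144 : sm gc N54512 = N54191 := ded_33_1 (flp_i L730462) (flp_c L715416) L733138
theorem L733146 : sm gd N54512 = N52964 := ded_39_1 (flp_i L717263) (flp_d L715424) L733138
theorem L733148 : sm ge N54512 = N52832 := ded_44_1 (flp_i L715428) L715410 L733138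
theorem L733150 : sm gf N54512 = N54205 := ded_48_1 (flp_i L730554) (flp_f L715426) L733138
theorem L733152 : sm gg N54512 = N53878 := ded_51_1 (flp_i L727562) (flp_g L715418) L733138
theorem L733154 : sm gj N54512 = N54213 := ded_53_1 (flp_i L730612) (flp_j L715420) L733138
theorem L733156 : sm gh N52832 = N54513 := rfl
theorem L733158 : sm ga N54513 = N53329 := ded_17_1 (flp_h L721882) (flp_a L715430) L733156
theorem L733160 : sm gb N54513 = N52837 := ded_25_1 (flp_h L715513) (flp_b L715432) L733156
theorem L733162 : sm gc N54513 = N54192 := ded_32_1 (flp_h L730468) (flp_c L715434) L733156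
theorem L733164 : sm gf N54513 = N52833 := ded_47_1 (flp_h L715444) (flp_f L715438) L733156
theorem L733166 : sm gg N54513 = N53879 := ded_50_1 (flp_h L727576) (flp_g L715440) L733156
theorem L733168 : sm gj N54513 = N54228 := ded_52_1 (flp_h L730708) (flp_j L715442) L733156
theorem L733170 : sm gd N54513 = N53907 := ded_38_1 (flp_h L727894) L708852 (flp_h L695868) (flp_d L715436) L733156
theorem L733172 : sm gi N54513 = N53892 := ded_54_2 (flp_h L727728) (flp_i L708678) (flp_h L695849) L715428 L733156
theorem L733174 : sm gd N52834 = N54514 := rfl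
theorem L733176 : sm ga N54514 = N53307 := ded_12_1 (flp_d L721595) (flp_a L715464) L733174
theorem L733178 : sm gb N54514 = N52840 := ded_20_1 (flp_d L715565) (flp_b L715466) L733174
theorem L733180 : sm gf N54514 = N53255 := ded_35_2 (flp_d L721030) (flp_f L715472) L733174
theorem L733182 : sm gg N54514 = N54226 := ded_36_2 (flp_d L730692) (flp_g L715474) L733174
theorem L733184 : sm gj N54514 = N54131 := ded_37_2 (flp_d L729999) (flp_j L715476) L733174
theorem L733186 : sm gi N54514 = N53908 := ded_39_2 (flp_d L727904) (flp_i L715478) L733174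
theorem L733188 : sm gc N54514 = N53302 := ded_27_1 (flp_d L721531) (flp_c L715280) L715286 (flp_c L715468) L733174
theorem L733190 : sm ge N54514 = N52868 := ded_34_2 (flp_d L715977) L696521 (flp_d L695914) (flp_e L715470) L733174
theorem L733192 : sm gh N54514 = N52835 := ded_38_2 (flp_d L715480) (flp_h L695918) (flp_d L695894) L715462 L733174
theorem L733194 : sm gh N52836 = N54515 := rfl
theorem L733196 : sm ga N54515 = N52859 := ded_17_1 (flp_h L715861) (flp_a L715499) L733194
theorem L733198 : sm gc N54515 = N53883 := ded_32_1 (flp_h L727624) (flp_c L715501) L733194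
theorem L733200 : sm ge N54515 = N52837 := ded_43_1 (flp_h L715513) (flp_e L715505) L733194
theorem L733202 : sm gf N54515 = N54207 := ded_47_1 (flp_h L730570) (flp_f L715507) L733194
theorem L733204 : sm gg N54515 = N53881 := ded_50_1 (flp_h L727604) (flp_g L715509) L733194
theorem L733206 : sm gj N54515 = N54219 := ded_52_1 (flp_h L730654) (flp_j L715511) L733194
theorem L733208 : sm gi N54515 = N53897 := ded_54_2 (flp_h L727793) (flp_i L708712) (flp_h L695945) L715497 L733194
theorem L733210 : sm gh N52838 = N54516 := rfl
theorem L733212 : sm ga N54516 = N52867 := ded_17_1 (flp_h L715969) (flp_a L715531) L733210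
theorem L733214 : sm gb N54516 = N53252 := ded_25_1 (flp_h L720988) (flp_b L715533) L733210
theorem L733216 : sm gc N54516 = N53884 := ded_32_1 (flp_h L727636) (flp_c L715535) L733210
theorem L733218 : sm ge N54516 = N53227 := ded_43_1 (flp_h L720645) (flp_e L715539) L733210
theorem L733220 : sm gf N54516 = N54202 := ded_47_1 (flp_h L730536) (flp_f L715541) L733210
theorem L733222 : sm gg N54516 = N52839 := ded_50_1 (flp_h L715547) (flp_g L715543) L733210
theorem L733224 : sm gj N54516 = N53295 := ded_52_1 (flp_h L721469) (flp_j L715545) L733210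
theorem L733226 : sm gd N54516 = N54229 := ded_38_1 L730718 L712329 L696045 (flp_d L715537) L733210
theorem L733228 : sm gi N54516 = N53909 := ded_54_2 (flp_h L727909) (flp_i L708876) (flp_h L695993) L715529 L733210
theorem L733230 : sm gi N52841 = N54517 := rfl
theorem L733232 : sm ga N54517 = N53887 := ded_18_1 (flp_i L727670) (flp_a L715585) L733230
theorem L733234 : sm gb N54517 = N53420 := ded_26_1 (flp_i L722880) (flp_b L715587) L733230
theorem L733236 : sm gc N54517 = N53875 := ded_33_1 (flp_i L727524) (flp_c L715589) L733230
theorem L733238 : sm gd N54517 = N54382 := ded_39_1 (flp_i L731839) (flp_d L715597) L733230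
theorem L733240 : sm ge N54517 = N52842 := ded_44_1 (flp_i L715601) L715583 L733230
theorem L733242 : sm gf N54517 = N54177 := ded_48_1 (flp_i L730354) (flp_f L715599) L733230
theorem L733244 : sm gg N54517 = N54222 := ded_51_1 (flp_i L730668) (flp_g L715591) L733230
theorem L733246 : sm gj N54517 = N52844 := ded_53_1 (flp_i L715635) (flp_j L715593) L733230
theorem L733248 : sm gh N52842 = N54518 := rfl
theorem L733250 : sm ga N54518 = N53888 := ded_17_1 (flp_h L727680) (flp_a L715603) L733248
theorem L733252 : sm gb N54518 = N53421 := ded_25_1 (flp_h L722886) (flp_b L715605) L733248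
theorem L733254 : sm gc N54518 = N53876 := ded_32_1 (flp_h L727538) (flp_c L715607) L733248
theorem L733256 : sm gf N54518 = N52846 := ded_47_1 (flp_h L715663) (flp_f L715611) L733248
theorem L733258 : sm gg N54518 = N54232 := ded_50_1 L730742 (flp_g L715613) L733248
theorem L733260 : sm gj N54518 = N52845 := ded_52_1 (flp_h L715649) (flp_j L715615) L733248
theorem L733262 : sm gd N54518 = N54231 := ded_38_1 (flp_h L730728) L712137 (flp_h L696133) (flp_d L715609) L733248
theorem L733264 : sm gi N54518 = N52854 := ded_54_2 (flp_h L715781) (flp_i L696273) (flp_h L696115) L715601 L733248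
theorem L733266 : sm gi N52843 = N54519 := rfl
theorem L733268 : sm ga N54519 = N53896 := ded_18_1 (flp_i L727783) (flp_a L715619) L733266
theorem L733270 : sm gb N54519 = N53429 := ded_26_1 (flp_i L722970) (flp_b L715621) L733266
theorem L733272 : sm gc N54519 = N53880 := ded_33_1 (flp_i L727590) (flp_c L715623) L733266
theorem L733274 : sm gd N54519 = N54373 := ded_39_1 (flp_i L731773) (flp_d L715625) L733266
theorem L733276 : sm ge N54519 = N52848 := ded_44_1 (flp_i L715696) (flp_e L715631) L733266
theorem L733278 : sm gf N54519 = N52844 := ded_48_1 (flp_i L715635) L715617 L733266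
theorem L733280 : sm gg N54519 = N54203 := ded_51_1 (flp_i L730542) (flp_g L715633) L733266
theorem L733282 : sm gj N54519 = N54177 := ded_53_1 (flp_i L730354) (flp_j L715627) L733266
theorem L733284 : sm gh N52844 = N54520 := rfl
theorem L733286 : sm ga N54520 = N53897 := ded_17_1 (flp_h L727793) (flp_a L715637) L733284
theorem L733288 : sm gb N54520 = N53430 := ded_25_1 (flp_h L722976) (flp_b L715639) L733284
theorem L733290 : sm gc N54520 = N53881 := ded_32_1 (flp_h L727604) (flp_c L715641) L733284
theorem L733292 : sm ge N54520 = N52845 := ded_43_1 (flp_h L715649) (flp_e L715645) L733284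
theorem L733294 : sm gg N54520 = N53883 := ded_50_1 (flp_h L727624) (flp_g L715647) L733284
theorem L733296 : sm gi N54520 = N52859 := ded_54_2 (flp_h L715861) (flp_i L696335) (flp_h L696145) L715635 L733284
theorem L733298 : sm gi N52847 = N54521 := rfl
theorem L733300 : sm ga N54521 = N53904 := ded_18_1 (flp_i L727866) (flp_a L715683) L733298
theorem L733302 : sm gb N54521 = N53438 := ded_26_1 (flp_i L723062) (flp_b L715685) L733298
theorem L733304 : sm gc N54521 = N53225 := ded_33_1 (flp_i L720619) (flp_c L715687) L733298
theorem L733306 : sm gd N54521 = N54521 := ded_39_1 (flp_i L733298) L715689 L733298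
theorem L733307 : sm ge N54521 = N54203 := ded_44_1 (flp_i L730542) (flp_e L715690) L733298
theorem L733309 : sm gf N54521 = N52850 := ded_48_1 (flp_i L715725) (flp_f L715694) L733298
theorem L733311 : sm gg N54521 = N52848 := ded_51_1 (flp_i L715696) L715681 L733298
theorem L733313 : sm gh N52848 = N54522 := rfl
theorem L733315 : sm ga N54522 = N53905 := ded_17_1 (flp_h L727875) (flp_a L715698) L733313
theorem L733317 : sm gb N54522 = N53439 := ded_25_1 (flp_h L723069) (flp_b L715700) L733313
theorem L733319 : sm gc N54522 = N53882 := ded_32_1 (flp_h L727610) (flp_c L715702) L733313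
theorem L733321 : sm gf N54522 = N52849 := ded_47_1 (flp_h L715709) (flp_f L715705) L733313
theorem L733323 : sm gj N54522 = N54178 := ded_52_1 (flp_h L730362) (flp_j L715707) L733313
theorem L733325 : sm gi N54522 = N52862 := ded_54_2 (flp_h L715897) (flp_i L696397) (flp_h L696190) L715696 L733313
theorem L733327 : sm gd N52849 = N54523 := rfl
theorem L733329 : sm ga N54523 = N53906 := ded_12_1 (flp_d L727885) (flp_a L715711) L733327
theorem L733331 : sm gb N54523 = N53440 := ded_20_1 (flp_d L723075) (flp_b L715713) L733327
theorem L733333 : sm gg N54523 = N52852 := ded_36_2 (flp_d L715754) (flp_g L715719) L733327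
theorem L733335 : sm gj N54523 = N54180 := ded_37_2 (flp_d L730380) (flp_j L715721) L733327
theorem L733337 : sm gi N54523 = N52863 := ded_39_2 (flp_d L715909) (flp_i L715723) L733327
theorem L733339 : sm gc N54523 = N54165 := ded_27_1 (flp_d L730282) L711597 (flp_d L708558) (flp_c L715715) L733327
theorem L733341 : sm gh N54523 = N54523 := ded_38_2 (flp_d L733327) (flp_h L715709) L696200 L715709 L733327
theorem L733342 : sm gh N52850 = N54524 := rfl
theorem L733344 : sm ga N54524 = N53909 := ded_17_1 (flp_h L727909) (flp_a L715727) L733342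
theorem L733346 : sm gb N54524 = N53444 := ded_25_1 (flp_h L723112) (flp_b L715729) L733342
theorem L733348 : sm gc N54524 = N53227 := ded_32_1 (flp_h L720645) (flp_c L715731) L733342
theorem L733350 : sm ge N54524 = N53884 := ded_43_1 (flp_h L727636) (flp_e L715734) L733342
theorem L733352 : sm gg N54524 = N52851 := ded_50_1 (flp_h L715738) (flp_g L715736) L733342
theorem L733354 : sm gi N54524 = N52867 := ded_54_2 (flp_h L715969) (flp_i L696507) (flp_h L696230) L715725 L733342
theorem L733356 : sm gd N52851 = N54525 := rfl
theorem L733358 : sm ga N54525 = N53910 := ded_12_1 (flp_d L727915) (flp_a L715740) L733356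
theorem L733360 : sm gb N54525 = N53445 := ded_20_1 (flp_d L723120) (flp_b L715742) L733356
theorem L733362 : sm gf N54525 = N52852 := ded_35_2 (flp_d L715754) (flp_f L715748) L733356
theorem L733364 : sm gj N54525 = N54130 := ded_37_2 (flp_d L729996) (flp_j L715750) L733356
theorem L733366 : sm gi N54525 = N52868 := ded_39_2 (flp_d L715977) (flp_i L715752) L733356
theorem L733368 : sm gc N54525 = N53334 := ded_27_1 (flp_d L721939) L702781 (flp_d L701502) (flp_c L715744) L733356
theorem L733370 : sm ge N54525 = N53908 := ded_34_2 (flp_d L727904) L708874 (flp_d L708602) (flp_e L715746) L733356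
theorem L733372 : sm gh N54525 = N54525 := ded_38_2 (flp_d L733356) (flp_h L715738) L696240 L715738 L733356
theorem L733373 : sm gh N52853 = N54526 := rfl
theorem L733375 : sm ga N54526 = N54219 := ded_17_1 (flp_h L730654) (flp_a L715767) L733373
theorem L733377 : sm gb N54526 = N53455 := ded_25_1 (flp_h L723208) (flp_b L715769) L733373
theorem L733379 : sm gc N54526 = N53877 := ded_32_1 (flp_h L727552) (flp_c L715771) L733373
theorem L733381 : sm ge N54526 = N52854 := ded_43_1 (flp_h L715781) (flp_e L715775) L733373
theorem L733383 : sm gf N54526 = N54185 := ded_47_1 (flp_h L730420) (flp_f L715777) L733373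
theorem L733385 : sm gj N54526 = N52859 := ded_52_1 (flp_h L715861) (flp_j L715779) L733373
theorem L733387 : sm gh N52855 = N54527 := rfl
theorem L733389 : sm ga N54527 = N53883 := ded_17_1 (flp_h L727624) (flp_a L715795) L733387
theorem L733391 : sm gb N54527 = N54155 := ded_25_1 (flp_h L730211) (flp_b L715797) L733387
theorem L733393 : sm gc N54527 = N52859 := ded_32_1 (flp_h L715861) (flp_c L715799) L733387
theorem L733395 : sm ge N54527 = N52856 := ded_43_1 (flp_h L715811) (flp_e L715803) L733387
theorem L733397 : sm gf N54527 = N54184 := ded_47_1 (flp_h L730412) (flp_f L715805) L733387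
theorem L733399 : sm gg N54527 = N53897 := ded_50_1 (flp_h L727793) (flp_g L715807) L733387
theorem L733401 : sm gj N54527 = N53877 := ded_52_1 (flp_h L727552) (flp_j L715809) L733387
theorem L733403 : sm gi N54527 = N53881 := ded_54_2 (flp_h L727604) (flp_i L708518) (flp_h L696299) L715793 L733387
theorem L733405 : sm gj N52857 = N54528 := rfl
theorem L733407 : sm ga N54528 = N53287 := ded_16_1 L721393 (flp_a L715831) L733405
theorem L733409 : sm gb N54528 = N53469 := ded_24_1 (flp_j L723349) (flp_b L715833) L733405
theorem L733411 : sm gc N54528 = N53361 := ded_31_1 L722258 (flp_c L715835) L733405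
theorem L733413 : sm gd N54528 = N53081 := ded_37_1 (flp_j L718781) (flp_d L715837) L733405
theorem L733415 : sm ge N54528 = N52860 := ded_42_1 (flp_j L715869) (flp_e L715839) L733405
theorem L733417 : sm gf N54528 = N53415 := ded_46_1 L722831 (flp_f L715843) L733405
theorem L733419 : sm gh N54528 = N53447 := ded_52_2 L723138 (flp_h L715841) L733405
theorem L733421 : sm gg N54528 = N53363 := ded_49_1 L722278 L703068 (flp_j L696331) L715829 L733405
theorem L733423 : sm gi N52857 = N54529 := rfl
theorem L733425 : sm ga N54529 = N54201 := ded_18_1 (flp_i L730528) (flp_a L715831) L733423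
theorem L733427 : sm gb N54529 = N53470 := ded_26_1 (flp_i L723357) (flp_b L715833) L733423
theorem L733429 : sm gc N54529 = N54182 := ded_33_1 (flp_i L730396) (flp_c L715835) L733423
theorem L733431 : sm gd N54529 = N53082 := ded_39_1 (flp_i L718789) (flp_d L715837) L733423
theorem L733433 : sm ge N54529 = N52861 := ded_44_1 (flp_i L715883) (flp_e L715839) L733423
theorem L733435 : sm gf N54529 = N53898 := ded_48_1 (flp_i L727799) (flp_f L715843) L733423
theorem L733437 : sm gg N54529 = N52858 := ded_51_1 (flp_i L715845) L715829 L733423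
theorem L733439 : sm gh N52858 = N54530 := rfl
theorem L733441 : sm ga N54530 = N54207 := ded_17_1 (flp_h L730570) (flp_a L715847) L733439
theorem L733443 : sm gb N54530 = N53471 := ded_25_1 (flp_h L723367) (flp_b L715849) L733439
theorem L733445 : sm gc N54530 = N54184 := ded_32_1 (flp_h L730412) (flp_c L715851) L733439
theorem L733447 : sm ge N54530 = N52862 := ded_43_1 (flp_h L715897) (flp_e L715855) L733439
theorem L733449 : sm gf N54530 = N52859 := ded_47_1 (flp_h L715861) (flp_f L715857) L733439
theorem L733451 : sm gj N54530 = N54185 := ded_52_1 (flp_h L730420) (flp_j L715859) L733439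
theorem L733453 : sm gd N52859 = N54531 := rfl
theorem L733455 : sm gb N54531 = N53472 := ded_20_1 (flp_d L723373) (flp_b L715863) L733453
theorem L733457 : sm gg N54531 = N53900 := ded_36_2 (flp_d L727821) (flp_g L715867) L733453
theorem L733459 : sm gh N54531 = N53084 := ded_38_2 (flp_d L718807) (flp_h L699052) (flp_d L696339) L715861 L733453
theorem L733461 : sm gi N52860 = N54532 := rfl
theorem L733463 : sm ga N54532 = N53288 := ded_18_1 (flp_i L721395) (flp_a L715871) L733461
theorem L733465 : sm gb N54532 = N53486 := ded_26_1 (flp_i L723511) (flp_b L715873) L733461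
theorem L733467 : sm gc N54532 = N53362 := ded_33_1 (flp_i L722262) (flp_c L715875) L733461
theorem L733469 : sm gd N54532 = N52870 := ded_39_1 (flp_i L716001) (flp_d L715877) L733461
theorem L733471 : sm gf N54532 = N52866 := ded_48_1 (flp_i L715955) (flp_f L715879) L733461
theorem L733473 : sm gg N54532 = N53364 := ded_51_1 (flp_i L722280) (flp_g L715881) L733461
theorem L733475 : sm gj N54532 = N52861 := ded_53_1 (flp_i L715883) L715869 L733461
theorem L733477 : sm gh N52861 = N54533 := rfl
theorem L733479 : sm ga N54533 = N54202 := ded_17_1 (flp_h L730536) (flp_a L715885) L733477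
theorem L733481 : sm gb N54533 = N53487 := ded_25_1 (flp_h L723519) (flp_b L715887) L733477
theorem L733483 : sm gc N54533 = N54183 := ded_32_1 (flp_h L730406) (flp_c L715889) L733477
theorem L733485 : sm gf N54533 = N52867 := ded_47_1 (flp_h L715969) (flp_f L715893) L733477
theorem L733487 : sm gg N54533 = N52862 := ded_50_1 (flp_h L715897) (flp_g L715895) L733477
theorem L733489 : sm gd N52862 = N54534 := rfl
theorem L733491 : sm ga N54534 = N54208 := ded_12_1 (flp_d L730578) (flp_a L715899) L733489
theorem L733493 : sm gb N54534 = N53488 := ded_20_1 (flp_d L723525) (flp_b L715901) L733489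
theorem L733495 : sm gf N54534 = N52863 := ded_35_2 (flp_d L715909) (flp_f L715905) L733489
theorem L733497 : sm gj N54534 = N54186 := ded_37_2 (flp_d L730428) (flp_j L715907) L733489
theorem L733499 : sm gh N54534 = N52872 := ded_38_2 (flp_d L716036) (flp_h L696560) (flp_d L696405) L715897 L733489
theorem L733501 : sm gc N52863 = N54535 := rfl
theorem L733503 : sm ga N54535 = N53481 := ded_11_1 L723481 (flp_a L715911) L733501
theorem L733505 : sm gg N54535 = N52869 := ded_30_2 (flp_c L715989) (flp_g L715915) L733501
theorem L733507 : sm gj N54535 = N54142 := ded_31_2 L730113 (flp_j L715917) L733501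
theorem L733509 : sm gh N54535 = N52873 := ded_32_2 (flp_c L716047) (flp_h L715919) L733501
theorem L733511 : sm gi N54535 = N54165 := ded_33_2 (flp_c L733339) L733337 L733501
theorem L733513 : sm gd N54535 = N53478 := ded_27_2 L723434 L711415 (flp_c L696417) L715909 L733501
theorem L733515 : sm gh N52864 = N54536 := rfl
theorem L733517 : sm ga N54536 = N53884 := ded_17_1 (flp_h L727636) (flp_a L715923) L733515
theorem L733519 : sm gb N54536 = N53237 := ded_25_1 (flp_h L720786) (flp_b L715925) L733515
theorem L733521 : sm gc N54536 = N52867 := ded_32_1 (flp_h L715969) (flp_c L715927) L733515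
theorem L733523 : sm ge N54536 = N53909 := ded_43_1 (flp_h L727909) (flp_e L715931) L733515
theorem L733525 : sm gf N54536 = N54183 := ded_47_1 (flp_h L730406) (flp_f L715933) L733515
theorem L733527 : sm gg N54536 = N52865 := ded_50_1 (flp_h L715937) (flp_g L715935) L733515
theorem L733529 : sm gd N54536 = N53322 := ded_38_1 (flp_h L721800) L702654 (flp_h L701413) (flp_d L715929) L733515
theorem L733531 : sm gi N54536 = N53227 := ded_54_2 (flp_h L720645) (flp_i L701484) (flp_h L696457) L715921 L733515
theorem L733533 : sm gh N52866 = N54537 := rfl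
theorem L733535 : sm ga N54537 = N53295 := ded_17_1 (flp_h L721469) (flp_a L715957) L733533
theorem L733537 : sm gb N54537 = N53497 := ded_25_1 (flp_h L723595) (flp_b L715959) L733533
theorem L733539 : sm ge N54537 = N53911 := ded_43_1 (flp_h L727924) (flp_e L715963) L733533
theorem L733541 : sm gg N54537 = N53300 := ded_50_1 (flp_h L721509) (flp_g L715965) L733533
theorem L733543 : sm gj N54537 = N52867 := ded_52_1 (flp_h L715969) (flp_j L715967) L733533
theorem L733545 : sm gd N54537 = N54230 := ded_38_1 L730726 L712338 L696600 (flp_d L715961) L733533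
theorem L733547 : sm gd N52867 = N54538 := rfl
theorem L733549 : sm ga N54538 = N54229 := ded_12_1 (flp_d L733226) L733212 L733547
theorem L733551 : sm gb N54538 = N53498 := ded_20_1 (flp_d L723605) (flp_b L715971) L733547
theorem L733553 : sm gg N54538 = N52868 := ded_36_2 (flp_d L715977) (flp_g L715975) L733547
theorem L733555 : sm gj N54538 = N54230 := ded_37_2 (flp_d L733545) L733543 L733547
theorem L733557 : sm gc N54538 = N54227 := ded_27_1 (flp_d L730700) (flp_c L721806) (flp_d L733529) L733521 L733547
theorem L733559 : sm ge N54538 = N54226 := ded_34_2 (flp_d L730692) (flp_e L715452) L715458 (flp_e L715973) L733547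
theorem L733561 : sm gh N54538 = N52874 := ded_38_2 (flp_d L716058) (flp_h L696602) (flp_d L696511) L715969 L733547
theorem L733563 : sm gb N52869 = N54539 := rfl
theorem L733565 : sm gd N54539 = N53386 := ded_20_2 L722503 (flp_d L715999) L733563
theorem L733567 : sm ge N54539 = N54169 := ded_21_2 (flp_b L733107) L733099 L733563
theorem L733569 : sm gf N54539 = N53305 := ded_22_2 L721575 (flp_f L715993) L733563
theorem L733571 : sm gh N54539 = N52875 := ded_25_2 (flp_b L716073) (flp_h L715995) L733563
theorem L733573 : sm gi N54539 = N54167 := ded_26_2 L730297 (flp_i L715997) L733563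
theorem L733575 : sm ga N54539 = N53388 := ded_10_1 L722525 L703255 (flp_b L704139) (flp_a L715991) L733563
theorem L733577 : sm gc N54539 = N53496 := ded_19_2 L723589 (flp_c L704191) (flp_b L696527) L715989 L733563
theorem L733579 : sm gd N52871 = N54540 := rfl
theorem L733581 : sm ga N54540 = N54235 := ded_12_1 (flp_d L730752) (flp_a L716021) L733579
theorem L733583 : sm gb N54540 = N53500 := ded_20_1 (flp_d L723624) (flp_b L716023) L733579
theorem L733585 : sm gf N54540 = N52874 := ded_35_2 (flp_d L716058) (flp_f L716029) L733579
theorem L733587 : sm gg N54540 = N52872 := ded_36_2 (flp_d L716036) (flp_g L716031) L733579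
theorem L733589 : sm gj N54540 = N54246 := ded_37_2 L730828 (flp_j L716033) L733579
theorem L733591 : sm gi N54540 = N54540 := ded_39_2 (flp_d L733579) L716035 L733579
theorem L733592 : sm gc N54540 = N54238 := ded_27_1 (flp_d L730775) L712258 (flp_d L711833) (flp_c L716025) L733579
theorem L733594 : sm gc N52872 = N54541 := rfl
theorem L733596 : sm ga N54541 = N53515 := ded_11_1 L723801 (flp_a L716038) L733594
theorem L733598 : sm gf N54541 = N52873 := ded_29_2 (flp_c L716047) (flp_f L716042) L733594
theorem L733600 : sm gg N54541 = N54238 := ded_30_2 (flp_c L733592) L733587 L733594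
theorem L733602 : sm gj N54541 = N54145 := ded_31_2 L730144 (flp_j L716044) L733594
theorem L733604 : sm gi N54541 = N54541 := ded_33_2 (flp_c L733594) L716046 L733594
theorem L733605 : sm gd N54541 = N53511 := ded_27_2 L723742 L704492 (flp_c L696566) L716036 L733594
theorem L733607 : sm ge N52872 = N54542 := rfl
theorem L733609 : sm ga N54542 = N54237 := ded_13_1 (flp_e L730770) (flp_a L716038) L733607
theorem L733611 : sm gb N54542 = N53502 := ded_21_1 (flp_e L723639) (flp_b L716040) L733607
theorem L733613 : sm gj N54542 = N54189 := ded_42_2 (flp_e L730450) (flp_j L716044) L733607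
theorem L733615 : sm gi N54542 = N54542 := ded_44_2 (flp_e L733607) L716046 L733607
theorem L733616 : sm gd N54542 = N53119 := ded_34_1 (flp_e L719234) (flp_d L699471) (flp_e L696568) L716036 L733607
theorem L733618 : sm gb N52873 = N54543 := rfl
theorem L733620 : sm gd N54543 = N53401 := ded_20_2 L722680 (flp_d L716056) L733618
theorem L733622 : sm ge N54543 = N54175 := ded_21_2 (flp_b L733135) L733128 L733618
theorem L733624 : sm gg N54543 = N52875 := ded_23_2 (flp_b L716073) (flp_g L716051) L733618
theorem L733626 : sm gj N54543 = N54146 := ded_24_2 L730150 (flp_j L716053) L733618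
theorem L733628 : sm gi N54543 = N54543 := ded_26_2 (flp_b L733618) L716055 L733618
theorem L733629 : sm ga N54543 = N53402 := ded_10_1 L722691 L703469 (flp_b L704452) (flp_a L716049) L733618
theorem L733631 : sm gc N54543 = N53503 := ded_19_2 (flp_b L723644) (flp_c L704244) (flp_b L696579) L716047 L733618
theorem L733633 : sm ge N52876 = N54544 := rfl
theorem L733635 : sm ga N54544 = N53022 := ded_13_1 (flp_e L718051) (flp_a L716088) L733633
theorem L733637 : sm gb N54544 = N53545 := ded_21_1 (flp_e L724137) (flp_b L716090) L733633
theorem L733639 : sm gc N54544 = N54393 := ded_28_1 L731919 L716099 L733633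
theorem L733641 : sm gg N54544 = N52977 := ded_41_2 (flp_e L717450) (flp_g L716093) L733633
theorem L733643 : sm gj N54544 = N52879 := ded_42_2 (flp_e L716129) (flp_j L716095) L733633
theorem L733645 : sm gh N54544 = N52990 := ded_43_2 (flp_e L717635) (flp_h L716097) L733633
theorem L733647 : sm gd N54544 = N52884 := ded_34_1 (flp_e L716198) (flp_d L696690) (flp_e L696644) L716086 L733633
theorem L733649 : sm gi N52876 = N54545 := rfl
theorem L733651 : sm ga N54545 = N53023 := ded_18_1 (flp_i L718063) (flp_a L716088) L733649
theorem L733653 : sm gb N54545 = N53546 := ded_26_1 (flp_i L724145) (flp_b L716090) L733649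
theorem L733655 : sm gc N54545 = N54452 := ded_33_1 (flp_i L732351) L716099 L733649
theorem L733657 : sm gd N54545 = N52877 := ded_39_1 (flp_i L716101) L716086 L733649
theorem L733659 : sm gf N54545 = N54545 := ded_48_1 (flp_i L733649) L716092 L733649
theorem L733660 : sm gg N54545 = N52978 := ded_51_1 (flp_i L717462) (flp_g L716093) L733649
theorem L733662 : sm gj N54545 = N52880 := ded_53_1 (flp_i L716141) (flp_j L716095) L733649
theorem L733664 : sm gb N52878 = N54546 := rfl
theorem L733666 : sm gd N54546 = N54546 := ded_20_2 (flp_b L733664) L716128 L733664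
theorem L733667 : sm gf N54546 = N54546 := ded_22_2 (flp_b L733664) L716121 L733664
theorem L733668 : sm gg N54546 = N52915 := ded_23_2 L716605 (flp_g L716122) L733664
theorem L733670 : sm gj N54546 = N53657 := ded_24_2 L725373 (flp_j L716124) L733664
theorem L733672 : sm gh N54546 = N53949 := ded_25_2 (flp_b L728350) (flp_h L716126) L733664

end Cfsg.Agent.Helper28.FicA
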