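import Cfsg.Agent.Helper28.FicB40

/-! # The Fi₂₃ presentation, cosets of the subgroup generated by a, …, i: the coset enumeration, part 41 (helper28; generated) -/

set_option autoImplicit false

noncomputable section

namespace Cfsg.Agent.Helper28.FicA

open Cfsg.Agent.Helper28.CosetTable

theorem L733674 : sm ga N54546 = N53799 := ded_10_1 L726769 (flp_a L727444) L727451 (flp_a L716119) L733664
theorem L733676 : sm gc N54546 = N52918 := ded_19_2 L716643 (flp_c L704883) (flp_b L696655) L716117 L733664
theorem L733678 : sm ge N52878 = N54547 := rfl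
theorem L733680 : sm ga N54547 = N54008 := ded_13_1 (flp_e L728950) (flp_a L716119) L733678
theorem L733682 : sm gc N54547 = N52879 := ded_28_1 (flp_e L716129) L716117 L733678
theorem L733684 : sm gg N54547 = N53913 := ded_41_2 (flp_e L727947) (flp_g L716122) L733678
theorem L733686 : sm gj N54547 = N54393 := ded_42_2 L731919 (flp_j L716124) L733678
theorem L733688 : sm gh N54547 = N53950 := ded_43_2 (flp_e L728361) (flp_h L716126) L733678
theorem L733690 : sm gi N52878 = N54548 := rfl
theorem L733692 : sm ga N54548 = N54009 := ded_18_1 (flp_i L728958) (flp_a L716119) L733690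
theorem L733694 : sm gc N54548 = N52880 := ded_33_1 (flp_i L716141) L716117 L733690
theorem L733696 : sm gd N54548 = N54548 := ded_39_1 (flp_i L733690) L716128 L733690
theorem L733697 : sm gf N54548 = N54548 := ded_48_1 (flp_i L733690) L716121 L733690
theorem L733698 : sm gg N54548 = N53914 := ded_51_1 (flp_i L727959) (flp_g L716122) L733690
theorem L733700 : sm gj N54548 = N54452 := ded_53_1 (flp_i L732351) (flp_j L716124) L733690
theorem L733702 : sm gf N52879 = N54549 := rfl
theorem L733704 : sm ga N54549 = N53696 := ded_14_1 L725776 (flp_a L716131) L733702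
theorem L733706 : sm gb N54549 = N53549 := ded_22_1 (flp_f L724175) (flp_b L716133) L733702
theorem L733708 : sm gd N54549 = N52888 := ded_35_1 (flp_f L716247) (flp_d L716139) L733702
theorem L733710 : sm gh N54549 = N53952 := ded_47_2 (flp_f L728386) (flp_h L716137) L733702
theorem L733712 : sm ge N54549 = N54549 := ded_40_1 (flp_f L733702) (flp_e L716129) L696657 L716129 L733702
theorem L733713 : sm gg N54549 = N53619 := ded_45_2 (flp_f L724951) L705750 (flp_f L708968) (flp_g L716135) L733702
theorem L733715 : sm gi N52879 = N54550 := rfl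
theorem L733717 : sm ga N54550 = N54010 := ded_18_1 (flp_i L728966) (flp_a L716131) L733715
theorem L733719 : sm gb N54550 = N53550 := ded_26_1 (flp_i L724182) (flp_b L716133) L733715
theorem L733721 : sm gd N54550 = N52889 := ded_39_1 (flp_i L716261) (flp_d L716139) L733715
theorem L733723 : sm ge N54550 = N52880 := ded_44_1 (flp_i L716141) L716129 L733715
theorem L733725 : sm gg N54550 = N53915 := ded_51_1 (flp_i L727970) (flp_g L716135) L733715
theorem L733727 : sm gh N52880 = N54551 := rfl
theorem L733729 : sm ga N54551 = N54011 := ded_17_1 (flp_h L728976) (flp_a L716143) L733727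
theorem L733731 : sm gb N54551 = N53551 := ded_25_1 (flp_h L724192) (flp_b L716145) L733727
theorem L733733 : sm gf N54551 = N54551 := ded_47_1 (flp_h L733727) L716149 L733727
theorem L733734 : sm gg N54551 = N53916 := ded_50_1 (flp_h L727984) (flp_g L716150) L733727
theorem L733736 : sm gd N54551 = N53021 := ded_38_1 (flp_h L718042) L698529 (flp_h L696674) (flp_d L716147) L733727
theorem L733738 : sm gi N54551 = N53954 := ded_54_2 (flp_h L728399) (flp_i L709512) (flp_h L696660) L716141 L733727
theorem L733740 : sm ge N52881 = N54552 := rfl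
theorem L733742 : sm ga N54552 = N53014 := ded_13_1 (flp_e L717968) (flp_a L716154) L733740
theorem L733744 : sm gb N54552 = N53552 := ded_21_1 (flp_e L724201) (flp_b L716156) L733740
theorem L733746 : sm gc N54552 = N54048 := ded_28_1 L729336 L716165 L733740
theorem L733748 : sm gg N54552 = N52884 := ded_41_2 (flp_e L716198) (flp_g L716159) L733740
theorem L733750 : sm gj N54552 = N52975 := ded_42_2 (flp_e L717423) (flp_j L716161) L733740
theorem L733752 : sm gh N54552 = N52900 := ded_43_2 (flp_e L716408) (flp_h L716163) L733740
theorem L733754 : sm gd N54552 = N52977 := ded_34_1 (flp_e L717450) (flp_d L697940) (flp_e L696683) L716152 L733740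
theorem L733756 : sm gf N54193 = N54552 := ded_47_3 L733752 (flp_f L716422) L730476
theorem L733758 : sm gi N52881 = N54553 := rfl
theorem L733760 : sm ga N54553 = N53015 := ded_18_1 (flp_i L717980) (flp_a L716154) L733758
theorem L733762 : sm gb N54553 = N53553 := ded_26_1 (flp_i L724213) (flp_b L716156) L733758
theorem L733764 : sm gc N54553 = N54105 := ded_33_1 (flp_i L729822) L716165 L733758
theorem L733766 : sm gd N54553 = N52882 := ded_39_1 (flp_i L716167) L716152 L733758
theorem L733768 : sm gf N54553 = N54553 := ded_48_1 (flp_i L733758) L716158 L733758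
theorem L733769 : sm gg N54553 = N52885 := ded_51_1 (flp_i L716208) (flp_g L716159) L733758
theorem L733771 : sm gj N54553 = N52976 := ded_53_1 (flp_i L717437) (flp_j L716161) L733758
theorem L733773 : sm ge N52883 = N54554 := rfl
theorem L733775 : sm ga N54554 = N54351 := ded_13_1 L731601 (flp_a L716185) L733773
theorem L733777 : sm gb N54554 = N53958 := ded_21_1 L728446 (flp_b L716195) L733773
theorem L733779 : sm gc N54554 = N52884 := ded_28_1 (flp_e L716198) L716183 L733773
theorem L733781 : sm gg N54554 = N54048 := ded_41_2 L729336 (flp_g L716189) L733773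
theorem L733783 : sm gj N54554 = N52886 := ded_42_2 (flp_e L716220) (flp_j L716191) L733773
theorem L733785 : sm gh N54554 = N52902 := ded_43_2 (flp_e L716439) (flp_h L716193) L733773
theorem L733787 : sm gf N54554 = N53955 := ded_40_2 (flp_e L728408) L709525 L696762 (flp_f L716187) L733773
theorem L733789 : sm gi N52883 = N54555 := rfl
theorem L733791 : sm ga N54555 = N54364 := ded_18_1 (flp_i L731700) (flp_a L716185) L733789
theorem L733793 : sm gb N54555 = N53974 := ded_26_1 (flp_i L728588) (flp_b L716195) L733789
theorem L733795 : sm gc N54555 = N52885 := ded_33_1 (flp_i L716208) L716183 L733789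
theorem L733797 : sm gd N54555 = N54555 := ded_39_1 (flp_i L733789) L716197 L733789
theorem L733798 : sm gf N54555 = N52891 := ded_48_1 (flp_i L716285) (flp_f L716187) L733789
theorem L733800 : sm gg N54555 = N54105 := ded_51_1 (flp_i L729822) (flp_g L716189) L733789
theorem L733802 : sm gj N54555 = N52887 := ded_53_1 (flp_i L716234) (flp_j L716191) L733789
theorem L733804 : sm gf N52884 = N54556 := rfl
theorem L733806 : sm ga N54556 = N53721 := ded_14_1 L726034 (flp_a L716200) L733804
theorem L733808 : sm gb N54556 = N53554 := ded_22_1 (flp_f L724226) (flp_b L716202) L733804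
theorem L733810 : sm gc N54556 = N53955 := ded_29_1 (flp_f L733787) L733779 L733804
theorem L733812 : sm gj N54556 = N52888 := ded_46_2 (flp_f L716247) (flp_j L716204) L733804
theorem L733814 : sm gh N54556 = N52904 := ded_47_2 (flp_f L716469) (flp_h L716206) L733804
theorem L733816 : sm ge N54556 = N52892 := ded_40_1 (flp_f L716299) (flp_e L696764) (flp_f L696696) L716198 L733804
theorem L733818 : sm gi N52884 = N54557 := rfl
theorem L733820 : sm ga N54557 = N54355 := ded_18_1 (flp_i L731627) (flp_a L716200) L733818
theorem L733822 : sm gb N54557 = N53555 := ded_26_1 (flp_i L724238) (flp_b L716202) L733818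
theorem L733824 : sm ge N54557 = N52885 := ded_44_1 (flp_i L716208) L716198 L733818
theorem L733826 : sm gj N54557 = N52889 := ded_53_1 (flp_i L716261) (flp_j L716204) L733818
theorem L733828 : sm gh N52885 = N54558 := rfl
theorem L733830 : sm ga N54558 = N54367 := ded_17_1 (flp_h L731726) (flp_a L716210) L733828
theorem L733832 : sm gb N54558 = N53556 := ded_25_1 (flp_h L724248) (flp_b L716212) L733828
theorem L733834 : sm gf N54558 = N52894 := ded_47_1 (flp_h L716326) (flp_f L716216) L733828
theorem L733836 : sm gj N54558 = N52890 := ded_52_1 (flp_h L716271) (flp_j L716218) L733828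
theorem L733838 : sm gd N54558 = N53029 := ded_38_1 (flp_h L718132) L698580 (flp_h L696713) (flp_d L716214) L733828
theorem L733840 : sm gi N54558 = N52906 := ded_54_2 (flp_h L716489) (flp_i L696922) (flp_h L696700) L716208 L733828
theorem L733842 : sm gd N52886 = N54559 := rfl
theorem L733844 : sm ga N54559 = N54346 := ded_12_1 L731570 (flp_a L716222) L733842
theorem L733846 : sm gb N54559 = N53966 := ded_20_1 L728520 (flp_b L716224) L733842
theorem L733848 : sm gf N54559 = N53963 := ded_35_2 (flp_d L728490) (flp_f L716232) L733842
theorem L733850 : sm gg N54559 = N53871 := ded_36_2 L727484 (flp_g L716228) L733842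
theorem L733852 : sm ge N54559 = N54559 := ded_34_2 (flp_d L733842) (flp_e L716220) L696727 L716220 L733842
theorem L733853 : sm gi N52886 = N54560 := rfl
theorem L733855 : sm ga N54560 = N54352 := ded_18_1 (flp_i L731605) (flp_a L716222) L733853
theorem L733857 : sm gb N54560 = N53968 := ded_26_1 (flp_i L728537) (flp_b L716224) L733853
theorem L733859 : sm gc N54560 = N52889 := ded_33_1 (flp_i L716261) (flp_c L716226) L733853
theorem L733861 : sm ge N54560 = N52887 := ded_44_1 (flp_i L716234) L716220 L733853
theorem L733863 : sm gf N54560 = N53964 := ded_48_1 (flp_i L728498) (flp_f L716232) L733853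
theorem L733865 : sm gg N54560 = N53854 := ded_51_1 L727274 (flp_g L716228) L733853
theorem L733867 : sm gh N52887 = N54561 := rfl
theorem L733869 : sm ga N54561 = N54365 := ded_17_1 (flp_h L731709) (flp_a L716236) L733867
theorem L733871 : sm gb N54561 = N53979 := ded_25_1 (flp_h L728645) (flp_b L716238) L733867
theorem L733873 : sm gc N54561 = N52890 := ded_32_1 (flp_h L716271) (flp_c L716240) L733867
theorem L733875 : sm gf N54561 = N52895 := ded_47_1 (flp_h L716339) (flp_f L716243) L733867
theorem L733877 : sm gg N54561 = N53817 := ded_50_1 L726938 (flp_g L716245) L733867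
theorem L733879 : sm gi N54561 = N52912 := ded_54_2 (flp_h L716569) (flp_i L696958) (flp_h L696723) L716234 L733867
theorem L733881 : sm gi N52888 = N54562 := rfl
theorem L733883 : sm ga N54562 = N53722 := ded_18_1 (flp_i L726038) (flp_a L716249) L733881
theorem L733885 : sm gb N54562 = N53557 := ded_26_1 (flp_i L724262) (flp_b L716251) L733881
theorem L733887 : sm gc N54562 = N53964 := ded_33_1 (flp_i L728498) (flp_c L716253) L733881
theorem L733889 : sm ge N54562 = N52896 := ded_44_1 (flp_i L716353) (flp_e L716257) L733881
theorem L733891 : sm gf N54562 = N52889 := ded_48_1 (flp_i L716261) L716247 L733881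
theorem L733893 : sm gg N54562 = N53627 := ded_51_1 (flp_i L725044) (flp_g L716259) L733881
theorem L733895 : sm gh N52889 = N54563 := rfl
theorem L733897 : sm ga N54563 = N54356 := ded_17_1 (flp_h L731633) (flp_a L716263) L733895
theorem L733899 : sm gb N54563 = N53558 := ded_25_1 (flp_h L724272) (flp_b L716265) L733895
theorem L733901 : sm ge N54563 = N52890 := ded_43_1 (flp_h L716271) (flp_e L716267) L733895
theorem L733903 : sm gg N54563 = N53919 := ded_50_1 (flp_h L728026) (flp_g L716269) L733895
theorem L733905 : sm gi N54563 = N52914 := ded_54_2 (flp_h L716591) (flp_i L696980) (flp_h L696736) L716261 L733895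
theorem L733907 : sm gh N52891 = N54564 := rfl
theorem L733909 : sm ga N54564 = N54369 := ded_17_1 (flp_h L731742) (flp_a L716287) L733907
theorem L733911 : sm gb N54564 = N53975 := ded_25_1 (flp_h L728599) (flp_b L716289) L733907
theorem L733913 : sm gc N54564 = N52894 := ded_32_1 (flp_h L716326) (flp_c L716291) L733907
theorem L733915 : sm ge N54564 = N53973 := ded_43_1 (flp_h L728581) (flp_e L716294) L733907
theorem L733917 : sm gg N54564 = N54564 := ded_50_1 (flp_h L733907) L716296 L733907
theorem L733918 : sm gj N54564 = N52895 := ded_52_1 (flp_h L716339) (flp_j L716297) L733907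
theorem L733920 : sm gi N54564 = N52917 := ded_54_2 (flp_h L716628) (flp_i L697016) (flp_h L696757) L716285 L733907
theorem L733922 : sm gg N52892 = N54565 := rfl
theorem L733924 : sm ga N54565 = N53729 := ded_15_1 L726123 (flp_a L716301) L733922
theorem L733926 : sm gb N54565 = N53260 := ded_23_1 L721111 (flp_b L716303) L733922
theorem L733928 : sm gc N54565 = N53949 := ded_30_1 L728355 (flp_c L716305) L733922
theorem L733930 : sm gd N54565 = N54565 := ded_36_1 (flp_g L733922) L716307 L733922
theorem L733931 : sm gh N54565 = N52918 := ded_50_2 (flp_g L716639) (flp_h L716310) L733922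
theorem L733933 : sm gf N54565 = N54565 := ded_45_1 (flp_g L733922) (flp_f L716299) L696772 L716299 L733922
theorem L733934 : sm gj N54565 = N53629 := ded_49_2 (flp_g L725066) L705858 (flp_g L696813) (flp_j L716308) L733922
theorem L733936 : sm gi N52892 = N54566 := rfl
theorem L733938 : sm ga N54566 = N53737 := ded_18_1 (flp_i L726201) (flp_a L716301) L733936
theorem L733940 : sm gb N54566 = N53559 := ded_26_1 (flp_i L724284) (flp_b L716303) L733936
theorem L733942 : sm gc N54566 = N53956 := ded_33_1 (flp_i L728414) (flp_c L716305) L733936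
theorem L733944 : sm gd N54566 = N54566 := ded_39_1 (flp_i L733936) L716307 L733936
theorem L733945 : sm gf N54566 = N52893 := ded_48_1 (flp_i L716312) L716299 L733936
theorem L733947 : sm gj N54566 = N52896 := ded_53_1 (flp_i L716353) (flp_j L716308) L733936
theorem L733949 : sm gh N52893 = N54567 := rfl
theorem L733951 : sm ga N54567 = N53743 := ded_17_1 (flp_h L726263) (flp_a L716314) L733949
theorem L733953 : sm gb N54567 = N53560 := ded_25_1 (flp_h L724295) (flp_b L716316) L733949
theorem L733955 : sm gc N54567 = N53973 := ded_32_1 (flp_h L728581) (flp_c L716318) L733949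
theorem L733957 : sm ge N54567 = N52894 := ded_43_1 (flp_h L716326) (flp_e L716321) L733949
theorem L733959 : sm gg N54567 = N54567 := ded_50_1 (flp_h L733949) L716323 L733949
theorem L733960 : sm gj N54567 = N52897 := ded_52_1 (flp_h L716366) (flp_j L716324) L733949
theorem L733962 : sm gi N54567 = N52920 := ded_54_2 (flp_h L716662) (flp_i L697039) (flp_h L696775) L716312 L733949
theorem L733964 : sm gd N52895 = N54568 := rfl
theorem L733966 : sm ga N54568 = N54370 := ded_12_1 (flp_d L731751) (flp_a L716341) L733964
theorem L733968 : sm gb N54568 = N53980 := ded_20_1 (flp_d L728653) (flp_b L716343) L733964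
theorem L733970 : sm gg N54568 = N52898 := ded_36_2 (flp_d L716380) (flp_g L716349) L733964
theorem L733972 : sm gi N54568 = N52924 := ded_39_2 (flp_d L716716) (flp_i L716351) L733964
theorem L733974 : sm gc N54568 = N53047 := ded_27_1 (flp_d L718359) L698751 (flp_d L696836) (flp_c L716345) L733964
theorem L733976 : sm gh N54568 = N54568 := ded_38_2 (flp_d L733964) (flp_h L716339) L696797 L716339 L733964
theorem L733977 : sm gh N52896 = N54569 := rfl
theorem L733979 : sm ga N54569 = N53738 := ded_17_1 (flp_h L726208) (flp_a L716355) L733977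
theorem L733981 : sm gb N54569 = N53561 := ded_25_1 (flp_h L724308) (flp_b L716357) L733977
theorem L733983 : sm gc N54569 = N53965 := ded_32_1 (flp_h L728506) (flp_c L716359) L733977
theorem L733985 : sm gf N54569 = N52897 := ded_47_1 (flp_h L716366) (flp_f L716362) L733977
theorem L733987 : sm gg N54569 = N53632 := ded_50_1 (flp_h L725100) (flp_g L716364) L733977
theorem L733989 : sm gi N54569 = N52925 := ded_54_2 (flp_h L716726) (flp_i L697113) (flp_h L696811) L716353 L733977
theorem L733991 : sm gd N52897 = N54570 := rfl
theorem L733993 : sm ga N54570 = N53744 := ded_12_1 (flp_d L726272) (flp_a L716368) L733991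
theorem L733995 : sm gb N54570 = N53562 := ded_20_1 (flp_d L724318) (flp_b L716370) L733991
theorem L733997 : sm gg N54570 = N52899 := ded_36_2 (flp_d L716394) (flp_g L716376) L733991
theorem L733999 : sm gi N54570 = N52926 := ded_39_2 (flp_d L716736) (flp_i L716378) L733991
theorem L734001 : sm ge N54570 = N53051 := ded_34_2 (flp_d L718402) L698781 (flp_d L696836) (flp_e L716374) L733991
theorem L734003 : sm gh N54570 = N54570 := ded_38_2 (flp_d L733991) (flp_h L716366) L696823 L716366 L733991
theorem L734004 : sm ge N52898 = N54571 := rfl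
theorem L734006 : sm ga N54571 = N54368 := ded_13_1 L731736 (flp_a L716382) L734004
theorem L734008 : sm gb N54571 = N53634 := ded_21_1 L725125 (flp_b L716384) L734004
theorem L734010 : sm gc N54571 = N53053 := ded_28_1 (flp_e L718427) (flp_c L716391) L734004
theorem L734012 : sm gj N54571 = N54571 := ded_42_2 (flp_e L734004) L716388 L734004
theorem L734013 : sm gh N54571 = N54571 := ded_43_2 (flp_e L734004) L716393 L734004
theorem L734014 : sm gi N54571 = N52929 := ded_44_2 (flp_e L716777) (flp_i L716389) L734004
theorem L734016 : sm gd N54571 = N53982 := ded_34_1 (flp_e L728672) (flp_d L709760) (flp_e L696848) L716380 L734004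
theorem L734018 : sm gf N54571 = N53827 := ded_40_2 (flp_e L727014) L707437 L707451 (flp_f L716386) L734004
theorem L734020 : sm gc N52899 = N54572 := rfl
theorem L734022 : sm ga N54572 = N53745 := ded_11_1 (flp_c L726279) (flp_a L716396) L734020
theorem L734024 : sm ge N54572 = N53057 := ded_28_2 (flp_c L718485) (flp_e L716405) L734020
theorem L734026 : sm gf N54572 = N53634 := ded_29_2 (flp_c L725121) (flp_f L716400) L734020
theorem L734028 : sm gj N54572 = N54572 := ded_31_2 (flp_c L734020) L716402 L734020
theorem L734029 : sm gh N54572 = N54572 := ded_32_2 (flp_c L734020) L716407 L734020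
theorem L734030 : sm gi N54572 = N52930 := ded_33_2 (flp_c L716788) (flp_i L716403) L734020
theorem L734032 : sm gb N54572 = N53827 := ded_19_1 L727016 L710891 (flp_c L705055) (flp_b L716398) L734020
theorem L734034 : sm gd N54572 = N53830 := ded_27_2 L727043 (flp_d L709760) (flp_c L696861) L716394 L734020
theorem L734036 : sm gi N52900 = N54573 := rfl
theorem L734038 : sm ga N54573 = N54382 := ded_18_1 (flp_i L731839) (flp_a L716410) L734036
theorem L734040 : sm gb N54573 = N53566 := ded_26_1 (flp_i L724371) (flp_b L716412) L734036
theorem L734042 : sm gc N54573 = N54049 := ded_33_1 (flp_i L729340) (flp_c L716414) L734036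
theorem L734044 : sm gd N54573 = N53887 := ded_39_1 (flp_i L727670) (flp_d L716420) L734036
theorem L734046 : sm ge N54573 = N52901 := ded_44_1 (flp_i L716424) L716408 L734036
theorem L734048 : sm gf N54573 = N54194 := ded_48_1 (flp_i L730481) L716422 L734036
theorem L734050 : sm gg N54573 = N52905 := ded_51_1 (flp_i L716479) (flp_g L716416) L734036
theorem L734052 : sm gj N54573 = N53894 := ded_53_1 (flp_i L727755) (flp_j L716418) L734036
theorem L734054 : sm gh N52901 = N54574 := rfl
theorem L734056 : sm ga N54574 = N54416 := ded_17_1 (flp_h L732068) (flp_a L716426) L734054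
theorem L734058 : sm gb N54574 = N53567 := ded_25_1 (flp_h L724379) (flp_b L716428) L734054
theorem L734060 : sm gc N54574 = N54106 := ded_32_1 (flp_h L729828) (flp_c L716430) L734054
theorem L734062 : sm gf N54574 = N54574 := ded_47_1 (flp_h L734054) L716434 L734054
theorem L734063 : sm gg N54574 = N52906 := ded_50_1 (flp_h L716489) (flp_g L716435) L734054
theorem L734065 : sm gj N54574 = N53912 := ded_52_1 (flp_h L727934) (flp_j L716437) L734054
theorem L734067 : sm gd N54574 = N53060 := ded_38_1 (flp_h L718516) L698889 (flp_h L696898) (flp_d L716432) L734054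
theorem L734069 : sm gf N52902 = N54575 := rfl
theorem L734071 : sm ga N54575 = N53786 := ded_14_1 L726663 (flp_a L716441) L734069
theorem L734073 : sm gb N54575 = N53913 := ded_22_1 L727957 (flp_b L716443) L734069
theorem L734075 : sm gc N54575 = N52904 := ded_29_1 (flp_f L716469) (flp_c L716445) L734069
theorem L734077 : sm gd N54575 = N54039 := ded_35_1 (flp_f L729258) (flp_d L716451) L734069
theorem L734079 : sm gj N54575 = N52910 := ded_46_2 (flp_f L716545) (flp_j L716449) L734069
theorem L734081 : sm gh N54575 = N53955 := ded_47_2 (flp_f L733787) L733785 L734069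
theorem L734083 : sm ge N54575 = N52915 := ded_40_1 (flp_f L716601) (flp_e L697002) (flp_f L696904) L716439 L734069
theorem L734085 : sm gi N52902 = N54576 := rfl
theorem L734087 : sm ga N54576 = N54399 := ded_18_1 (flp_i L731953) (flp_a L716441) L734085
theorem L734089 : sm gb N54576 = N54295 := ded_26_1 (flp_i L731191) (flp_b L716443) L734085
theorem L734091 : sm gc N54576 = N52905 := ded_33_1 (flp_i L716479) (flp_c L716445) L734085
theorem L734093 : sm gd N54576 = N54040 := ded_39_1 (flp_i L729263) (flp_d L716451) L734085
theorem L734095 : sm ge N54576 = N52903 := ded_44_1 (flp_i L716453) L716439 L734085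
theorem L734097 : sm gg N54576 = N54049 := ded_51_1 (flp_i L729340) (flp_g L716447) L734085
theorem L734099 : sm gj N54576 = N52911 := ded_53_1 (flp_i L716559) (flp_j L716449) L734085
theorem L734101 : sm gh N52903 = N54577 := rfl
theorem L734103 : sm ga N54577 = N54421 := ded_17_1 (flp_h L732105) (flp_a L716455) L734101
theorem L734105 : sm gb N54577 = N54296 := ded_25_1 (flp_h L731199) (flp_b L716457) L734101
theorem L734107 : sm gc N54577 = N52906 := ded_32_1 (flp_h L716489) (flp_c L716459) L734101
theorem L734109 : sm gf N54577 = N52917 := ded_47_1 (flp_h L716628) (flp_f L716463) L734101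
theorem L734111 : sm gg N54577 = N54106 := ded_50_1 (flp_h L729828) (flp_g L716465) L734101
theorem L734113 : sm gj N54577 = N52912 := ded_52_1 (flp_h L716569) (flp_j L716467) L734101
theorem L734115 : sm gg N52904 = N54578 := rfl
theorem L734117 : sm ga N54578 = N53769 := ded_15_1 L726531 (flp_a L716471) L734115
theorem L734119 : sm gb N54578 = N53547 := ded_23_1 L724160 (flp_b L716473) L734115
theorem L734121 : sm gd N54578 = N53425 := ded_36_1 (flp_g L732794) L732786 L734115
theorem L734123 : sm ge N54578 = N52918 := ded_41_1 (flp_g L716639) (flp_e L716477) L734115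
theorem L734125 : sm gf N54578 = N53424 := ded_45_1 L722927 L716422 L716416 L716469 L734115
theorem L734127 : sm gj N54578 = N53644 := ded_49_2 (flp_g L725242) L705982 (flp_g L696978) (flp_j L716475) L734115
theorem L734129 : sm gi N52904 = N54579 := rfl
theorem L734131 : sm ga N54579 = N53791 := ded_18_1 (flp_i L726699) (flp_a L716471) L734129
theorem L734133 : sm gb N54579 = N53570 := ded_26_1 (flp_i L724420) (flp_b L716473) L734129
theorem L734135 : sm ge N54579 = N52919 := ded_44_1 (flp_i L716650) (flp_e L716477) L734129
theorem L734137 : sm gf N54579 = N52905 := ded_48_1 (flp_i L716479) L716469 L734129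
theorem L734139 : sm gj N54579 = N52913 := ded_53_1 (flp_i L716579) (flp_j L716475) L734129
theorem L734141 : sm gh N52905 = N54580 := rfl
theorem L734143 : sm ga N54580 = N54405 := ded_17_1 (flp_h L731987) (flp_a L716481) L734141
theorem L734145 : sm gb N54580 = N53571 := ded_25_1 (flp_h L724430) (flp_b L716483) L734141
theorem L734147 : sm ge N54580 = N52906 := ded_43_1 (flp_h L716489) (flp_e L716485) L734141
theorem L734149 : sm gj N54580 = N52914 := ded_52_1 (flp_h L716591) (flp_j L716487) L734141
theorem L734151 : sm gd N52907 = N54581 := rfl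
theorem L734153 : sm ga N54581 = N54022 := ded_12_1 L729092 (flp_a L716503) L734151
theorem L734155 : sm gb N54581 = N52909 := ded_20_1 (flp_d L716533) (flp_b L716505) L734151
theorem L734157 : sm gf N54581 = N53943 := ded_35_2 (flp_d L728295) (flp_f L716515) L734151
theorem L734159 : sm gg N54581 = N53062 := ded_36_2 L718549 (flp_g L716509) L734151
theorem L734161 : sm gj N54581 = N53870 := ded_37_2 L727476 (flp_j L716511) L734151
theorem L734163 : sm gc N54581 = N53747 := ded_27_1 L726317 L708168 (flp_d L705154) (flp_c L716507) L734151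
theorem L734165 : sm ge N54581 = N52938 := ded_34_2 (flp_d L716890) (flp_e L697293) (flp_d L696936) L716501 L734151
theorem L734167 : sm gi N52907 = N54582 := rfl
theorem L734169 : sm ga N54582 = N54025 := ded_18_1 (flp_i L729108) (flp_a L716503) L734167
theorem L734171 : sm gb N54582 = N52911 := ded_26_1 (flp_i L716559) (flp_b L716505) L734167
theorem L734173 : sm gc N54582 = N53572 := ded_33_1 (flp_i L724436) (flp_c L716507) L734167
theorem L734175 : sm ge N54582 = N52908 := ded_44_1 (flp_i L716517) L716501 L734167
theorem L734177 : sm gf N54582 = N53944 := ded_48_1 (flp_i L728300) (flp_f L716515) L734167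
theorem L734179 : sm gg N54582 = N53923 := ded_51_1 (flp_i L728078) (flp_g L716509) L734167
theorem L734181 : sm gj N54582 = N54295 := ded_53_1 (flp_i L731191) (flp_j L716511) L734167
theorem L734183 : sm gh N52908 = N54583 := rfl
theorem L734185 : sm ga N54583 = N54036 := ded_17_1 (flp_h L729225) (flp_a L716519) L734183
theorem L734187 : sm gb N54583 = N52912 := ded_25_1 (flp_h L716569) (flp_b L716521) L734183
theorem L734189 : sm gc N54583 = N53573 := ded_32_1 (flp_h L724452) (flp_c L716523) L734183
theorem L734191 : sm gf N54583 = N52921 := ded_47_1 (flp_h L716673) (flp_f L716527) L734183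
theorem L734193 : sm gg N54583 = N53924 := ded_50_1 (flp_h L728088) (flp_g L716529) L734183
theorem L734195 : sm gj N54583 = N54296 := ded_52_1 (flp_h L731199) (flp_j L716531) L734183
theorem L734197 : sm gi N54583 = N53979 := ded_54_2 (flp_h L728645) (flp_i L709721) (flp_h L696944) L716517 L734183
theorem L734199 : sm gf N52909 = N54584 := rfl
theorem L734201 : sm ga N54584 = N53781 := ded_14_1 L726631 (flp_a L716535) L734199
theorem L734203 : sm gb N54584 = N53943 := ded_22_1 (flp_f L734157) L734155 L734199
theorem L734205 : sm gc N54584 = N53058 := ded_29_1 (flp_f L718499) (flp_c L716541) L734199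
theorem L734207 : sm gd N54584 = N52910 := ded_35_1 (flp_f L716545) L716533 L734199
theorem L734209 : sm gj N54584 = N54039 := ded_46_2 (flp_f L729258) (flp_j L716539) L734199
theorem L734211 : sm ge N54584 = N54584 := ded_40_1 (flp_f L734199) L716543 L697325 (flp_e L716543) L734199
theorem L734212 : sm gg N54584 = N53650 := ded_45_2 (flp_f L725302) L706028 (flp_f L698916) (flp_g L716537) L734199
theorem L734214 : sm gh N52909 = N54585 := rfl
theorem L734216 : sm ga N54585 = N54393 := ded_17_1 (flp_h L731917) (flp_a L716535) L734214
theorem L734218 : sm gc N54585 = N53022 := ded_32_1 L718059 (flp_c L716541) L734214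
theorem L734220 : sm ge N54585 = N52941 := ded_43_1 (flp_h L716933) (flp_e L716543) L734214
theorem L734222 : sm gg N54585 = N53025 := ded_50_1 L718095 (flp_g L716537) L734214
theorem L734224 : sm gj N54585 = N54008 := ded_52_1 L728956 (flp_j L716539) L734214
theorem L734226 : sm gi N52909 = N54586 := rfl
theorem L734228 : sm ga N54586 = N54394 := ded_18_1 (flp_i L731923) (flp_a L716535) L734226
theorem L734230 : sm gc N54586 = N53059 := ded_33_1 (flp_i L718506) (flp_c L716541) L734226
theorem L734232 : sm gd N54586 = N52911 := ded_39_1 (flp_i L716559) L716533 L734226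
theorem L734234 : sm ge N54586 = N52942 := ded_44_1 (flp_i L716945) (flp_e L716543) L734226
theorem L734236 : sm gg N54586 = N53064 := ded_51_1 (flp_i L718565) (flp_g L716537) L734226
theorem L734238 : sm gj N54586 = N54040 := ded_53_1 (flp_i L729263) (flp_j L716539) L734226
theorem L734240 : sm gi N52910 = N54587 := rfl
theorem L734242 : sm ga N54587 = N53787 := ded_18_1 (flp_i L726665) (flp_a L716547) L734240
theorem L734244 : sm gb N54587 = N53944 := ded_26_1 (flp_i L728300) (flp_b L716549) L734240
theorem L734246 : sm gc N54587 = N52913 := ded_33_1 (flp_i L716579) (flp_c L716551) L734240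
theorem L734248 : sm ge N54587 = N52922 := ded_44_1 (flp_i L716689) (flp_e L716555) L734240
theorem L734250 : sm gf N54587 = N52911 := ded_48_1 (flp_i L716559) L716545 L734240
theorem L734252 : sm gg N54587 = N53653 := ded_51_1 (flp_i L725333) (flp_g L716557) L734240
theorem L734254 : sm gh N52911 = N54588 := rfl
theorem L734256 : sm ga N54588 = N54400 := ded_17_1 (flp_h L731961) (flp_a L716561) L734254
theorem L734258 : sm gc N54588 = N52914 := ded_32_1 (flp_h L716591) (flp_c L716563) L734254
theorem L734260 : sm ge N54588 = N52912 := ded_43_1 (flp_h L716569) (flp_e L716565) L734254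
theorem L734262 : sm gg N54588 = N53925 := ded_50_1 (flp_h L728096) (flp_g L716567) L734254
theorem L734264 : sm gd N52912 = N54589 := rfl
theorem L734266 : sm ga N54589 = N54422 := ded_12_1 (flp_d L732113) (flp_a L716571) L734264
theorem L734268 : sm gf N54589 = N52924 := ded_35_2 (flp_d L716716) (flp_f L716575) L734264
theorem L734270 : sm gg N54589 = N53926 := ded_36_2 (flp_d L728106) (flp_g L716577) L734264
theorem L734272 : sm gc N54589 = N53080 := ded_27_1 (flp_d L718773) L699030 (flp_d L697000) (flp_c L716573) L734264
theorem L734274 : sm gh N54589 = N52944 := ded_38_2 (flp_d L716972) (flp_h L697345) (flp_d L696964) L716569 L734264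
theorem L734276 : sm gh N52913 = N54590 := rfl
theorem L734278 : sm ga N54590 = N53792 := ded_17_1 (flp_h L726707) (flp_a L716581) L734276
theorem L734280 : sm gb N54590 = N53579 := ded_25_1 (flp_h L724534) (flp_b L716583) L734276
theorem L734282 : sm ge N54590 = N52925 := ded_43_1 (flp_h L716726) (flp_e L716585) L734276
theorem L734284 : sm gf N54590 = N52914 := ded_47_1 (flp_h L716591) (flp_f L716587) L734276
theorem L734286 : sm gg N54590 = N53655 := ded_50_1 (flp_h L725355) (flp_g L716589) L734276
theorem L734288 : sm gd N52914 = N54591 := rfl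
theorem L734290 : sm ga N54591 = N54406 := ded_12_1 (flp_d L731993) (flp_a L716593) L734288
theorem L734292 : sm gb N54591 = N53580 := ded_20_1 (flp_d L724540) (flp_b L716595) L734288
theorem L734294 : sm gg N54591 = N53927 := ded_36_2 (flp_d L728116) (flp_g L716599) L734288
theorem L734296 : sm ge N54591 = N53084 := ded_34_2 (flp_d L718807) L699056 (flp_d L697000) (flp_e L716597) L734288
theorem L734298 : sm gi N52915 = N54592 := rfl
theorem L734300 : sm ga N54592 = N53812 := ded_18_1 (flp_i L726886) (flp_a L716603) L734298
theorem L734302 : sm gb N54592 = N53914 := ded_26_1 (flp_i L727959) (flp_b L716605) L734298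
theorem L734304 : sm gc N54592 = N52919 := ded_33_1 (flp_i L716650) (flp_c L716607) L734298
theorem L734306 : sm gd N54592 = N54592 := ded_39_1 (flp_i L734298) L716609 L734298
theorem L734307 : sm gf N54592 = N52916 := ded_48_1 (flp_i L716614) L716601 L734298
theorem L734309 : sm gj N54592 = N52922 := ded_53_1 (flp_i L716689) (flp_j L716610) L734298
theorem L734311 : sm gh N52916 = N54593 := rfl
theorem L734313 : sm ga N54593 = N53825 := ded_17_1 (flp_h L727000) (flp_a L716616) L734311
theorem L734315 : sm gb N54593 = N53947 := ded_25_1 (flp_h L728326) (flp_b L716618) L734311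
theorem L734317 : sm gc N54593 = N52920 := ded_32_1 (flp_h L716662) (flp_c L716620) L734311
theorem L734319 : sm ge N54593 = N52917 := ded_43_1 (flp_h L716628) (flp_e L716623) L734311
theorem L734321 : sm gg N54593 = N54593 := ded_50_1 (flp_h L734311) L716625 L734311
theorem L734322 : sm gj N54593 = N52923 := ded_52_1 (flp_h L716702) (flp_j L716626) L734311
theorem L734324 : sm gi N54593 = N53973 := ded_54_2 (flp_h L728581) (flp_i L709647) (flp_h L697013) L716614 L734311
theorem L734326 : sm gd N52917 = N54594 := rfl
theorem L734328 : sm ga N54594 = N54427 := ded_12_1 (flp_d L732148) (flp_a L716630) L734326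
theorem L734330 : sm gb N54594 = N54469 := ded_20_1 (flp_d L732463) (flp_b L716632) L734326
theorem L734332 : sm gg N54594 = N54594 := ded_36_2 (flp_d L734326) L716636 L734326
theorem L734333 : sm gj N54594 = N52924 := ded_37_2 (flp_d L716716) (flp_j L716637) L734326
theorem L734335 : sm gc N54594 = N53087 := ded_27_1 (flp_d L718839) L699092 (flp_d L697061) (flp_c L716634) L734326
theorem L734337 : sm gh N54594 = N52945 := ded_38_2 (flp_d L716983) (flp_h L697372) (flp_d L697024) L716628 L734326
theorem L734339 : sm gi N52918 = N54595 := rfl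
theorem L734341 : sm ga N54595 = N53804 := ded_18_1 (flp_i L726814) (flp_a L716641) L734339
theorem L734343 : sm gb N54595 = N53548 := ded_26_1 (flp_i L724164) (flp_b L716643) L734339
theorem L734345 : sm gd N54595 = N52931 := ded_39_1 (flp_i L716799) (flp_d L716645) L734339
theorem L734347 : sm gf N54595 = N54595 := ded_48_1 (flp_i L734339) L716647 L734339
theorem L734348 : sm gg N54595 = N52919 := ded_51_1 (flp_i L716650) L716639 L734339
theorem L734350 : sm gj N54595 = N53660 := ded_53_1 (flp_i L725409) (flp_j L716648) L734339
theorem L734352 : sm gh N52919 = N54596 := rfl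
theorem L734354 : sm ga N54596 = N53818 := ded_17_1 (flp_h L726942) (flp_a L716652) L734352
theorem L734356 : sm gb N54596 = N53581 := ded_25_1 (flp_h L724546) (flp_b L716654) L734352
theorem L734358 : sm gf N54596 = N52920 := ded_47_1 (flp_h L716662) (flp_f L716658) L734352
theorem L734360 : sm gj N54596 = N52925 := ded_52_1 (flp_h L716726) (flp_j L716660) L734352
theorem L734362 : sm gd N52920 = N54597 := rfl
theorem L734364 : sm ga N54597 = N53828 := ded_12_1 (flp_d L727022) (flp_a L716664) L734362
theorem L734366 : sm gb N54597 = N53582 := ded_20_1 (flp_d L724554) (flp_b L716666) L734362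
theorem L734368 : sm gg N54597 = N54597 := ded_36_2 (flp_d L734362) L716670 L734362
theorem L734369 : sm gj N54597 = N52926 := ded_37_2 (flp_d L716736) (flp_j L716671) L734362
theorem L734371 : sm ge N54597 = N53091 := ded_34_2 (flp_d L718888) L699132 (flp_d L697061) (flp_e L716668) L734362
theorem L734373 : sm gh N54597 = N52933 := ded_38_2 (flp_d L716827) (flp_h L697213) (flp_d L697045) L716662 L734362
theorem L734375 : sm gd N52921 = N54598 := rfl
theorem L734377 : sm ga N54598 = N53587 := ded_12_1 L724619 (flp_a L716675) L734375
theorem L734379 : sm gb N54598 = N52924 := ded_20_1 (flp_d L716716) (flp_b L716677) L734375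
theorem L734381 : sm gg N54598 = N52927 := ded_36_2 (flp_d L716748) (flp_g L716683) L734375
theorem L734383 : sm gj N54598 = N54469 := ded_37_2 (flp_d L732463) (flp_j L716685) L734375
theorem L734385 : sm gi N54598 = N53980 := ded_39_2 (flp_d L728653) (flp_i L716687) L734375
theorem L734387 : sm gc N54598 = N53542 := ded_27_1 (flp_d L724106) L704816 (flp_d L705296) (flp_c L716679) L734375
theorem L734389 : sm gh N54598 = N52946 := ded_38_2 (flp_d L716995) (flp_h L697385) (flp_d L697071) L716673 L734375
theorem L734391 : sm ge N53666 = N54598 := ded_13_0 L734377 L724609 (flp_a L725466)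
theorem L734393 : sm gh N52922 = N54599 := rfl
theorem L734395 : sm ga N54599 = N53813 := ded_17_1 (flp_h L726895) (flp_a L716691) L734393
theorem L734397 : sm gb N54599 = N53945 := ded_25_1 (flp_h L728308) (flp_b L716693) L734393
theorem L734399 : sm gc N54599 = N52925 := ded_32_1 (flp_h L716726) (flp_c L716695) L734393
theorem L734401 : sm gf N54599 = N52923 := ded_47_1 (flp_h L716702) (flp_f L716698) L734393
theorem L734403 : sm gg N54599 = N53663 := ded_50_1 (flp_h L725435) (flp_g L716700) L734393
theorem L734405 : sm gi N54599 = N53965 := ded_54_2 (flp_h L728506) (flp_i L709587) (flp_h L697088) L716689 L734393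
theorem L734407 : sm gd N52923 = N54600 := rfl
theorem L734409 : sm ga N54600 = N53826 := ded_12_1 (flp_d L727009) (flp_a L716704) L734407
theorem L734411 : sm gb N54600 = N53948 := ded_20_1 (flp_d L728339) (flp_b L716706) L734407
theorem L734413 : sm gg N54600 = N52928 := ded_36_2 (flp_d L716765) (flp_g L716712) L734407
theorem L734415 : sm gi N54600 = N53978 := ded_39_2 (flp_d L728637) (flp_i L716714) L734407
theorem L734417 : sm gh N54600 = N54600 := ded_38_2 (flp_d L734407) (flp_h L716702) L697100 L716702 L734407
theorem L734418 : sm ge N52924 = N54601 := rfl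
theorem L734420 : sm ga N54601 = N54420 := ded_13_1 L732099 (flp_a L716718) L734418
theorem L734422 : sm gb N54601 = N53666 := ded_21_1 L734391 L734379 L734418
theorem L734424 : sm gc N54601 = N53099 := ded_28_1 (flp_e L718997) (flp_c L716722) L734418
theorem L734426 : sm gg N54601 = N52929 := ded_41_2 (flp_e L716777) (flp_g L716720) L734418
theorem L734428 : sm gh N54601 = N52947 := ded_43_2 (flp_e L717010) (flp_h L716724) L734418
theorem L734430 : sm gd N52925 = N54602 := rfl
theorem L734432 : sm ga N54602 = N53819 := ded_12_1 (flp_d L726948) (flp_a L716728) L734430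
theorem L734434 : sm gb N54602 = N53586 := ded_20_1 (flp_d L724601) (flp_b L716730) L734430
theorem L734436 : sm gf N54602 = N52926 := ded_35_2 (flp_d L716736) (flp_f L716732) L734430
theorem L734438 : sm gg N54602 = N53665 := ded_36_2 (flp_d L725456) (flp_g L716734) L734430
theorem L734440 : sm gh N54602 = N52934 := ded_38_2 (flp_d L716839) (flp_h L697226) (flp_d L697119) L716726 L734430
theorem L734442 : sm gc N52926 = N54603 := rfl
theorem L734444 : sm ga N54603 = N53829 := ded_11_1 (flp_c L727031) (flp_a L716738) L734442
theorem L734446 : sm ge N54603 = N53103 := ded_28_2 (flp_c L719033) (flp_e L716744) L734442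
theorem L734448 : sm gg N54603 = N52930 := ded_30_2 (flp_c L716788) (flp_g L716742) L734442
theorem L734450 : sm gh N54603 = N52935 := ded_32_2 (flp_c L716850) (flp_h L716746) L734442
theorem L734452 : sm gc N52928 = N54604 := rfl
theorem L734454 : sm ga N54604 = N53746 := ded_11_1 L726305 (flp_a L716767) L734452
theorem L734456 : sm gf N54604 = N53667 := ded_29_2 (flp_c L725472) (flp_f L716771) L734452
theorem L734458 : sm gj N54604 = N54604 := ded_31_2 (flp_c L734452) L716773 L734452
theorem L734459 : sm gh N54604 = N54604 := ded_32_2 (flp_c L734452) L716776 L734452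
theorem L734460 : sm gi N54604 = N53830 := ded_33_2 L727043 (flp_i L716774) L734452
theorem L734462 : sm gb N54604 = N54368 := ded_19_1 (flp_c L731734) L713379 (flp_c L709492) (flp_b L716769) L734452
theorem L734464 : sm gd N54604 = N52930 := ded_27_2 (flp_c L716788) (flp_d L697176) (flp_c L697156) L716765 L734452
theorem L734466 : sm ge N54098 = N54604 := ded_13_0 L734454 L726297 (flp_a L729753)
theorem L734468 : sm ge N52928 = N54605 := rfl
theorem L734470 : sm ga N54605 = N53827 := ded_13_1 (flp_e L727014) (flp_a L716767) L734468
theorem L734472 : sm gb N54605 = N53667 := ded_21_1 L725476 (flp_b L716769) L734468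
theorem L734474 : sm gc N54605 = N54098 := ded_28_1 L734466 (flp_c L734452) L734468
theorem L734476 : sm gj N54605 = N54605 := ded_42_2 (flp_e L734468) L716773 L734468
theorem L734477 : sm gh N54605 = N54605 := ded_43_2 (flp_e L734468) L716776 L734468
theorem L734478 : sm gi N54605 = N53982 := ded_44_2 (flp_e L728672) (flp_i L716774) L734468
theorem L734480 : sm gd N54605 = N52929 := ded_34_1 (flp_e L716777) (flp_d L697165) (flp_e L697158) L716765 L734468
theorem L734482 : sm gf N54605 = N54368 := ded_40_2 L731736 L713403 (flp_e L706204) (flp_f L716771) L734468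
theorem L734484 : sm gf N52929 = N54606 := rfl
theorem L734486 : sm ga N54606 = N53982 := ded_14_1 L728681 (flp_a L716779) L734484
theorem L734488 : sm gb N54606 = N52930 := ded_22_1 L716794 (flp_b L716781) L734484
theorem L734490 : sm gc N54606 = N53108 := ded_29_1 (flp_f L719108) (flp_c L716783) L734484
theorem L734492 : sm gd N54606 = N54368 := ded_35_1 (flp_f L734482) L734480 L734484
theorem L734494 : sm gj N54606 = N54606 := ded_46_2 (flp_f L734484) L716785 L734484
theorem L734495 : sm gh N54606 = N52936 := ded_47_2 L716865 (flp_h L716786) L734484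
theorem L734497 : sm gi N54606 = N53827 := ded_48_2 (flp_f L734018) L734014 L734484
theorem L734499 : sm ge N54606 = N53111 := ded_40_1 L719144 L706862 (flp_f L697169) L716777 L734484
theorem L734501 : sm gh N52931 = N54607 := rfl
theorem L734503 : sm ga N54607 = N53831 := ded_17_1 (flp_h L727054) (flp_a L716801) L734501
theorem L734505 : sm gb N54607 = N53590 := ded_25_1 (flp_h L724640) (flp_b L716803) L734501
theorem L734507 : sm gc N54607 = N54607 := ded_32_1 (flp_h L734501) L716805 L734501
theorem L734508 : sm ge N54607 = N54144 := ded_43_1 (flp_h L730125) (flp_e L716806) L734501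
theorem L734510 : sm gf N54607 = N54607 := ded_47_1 (flp_h L734501) L716808 L734501
theorem L734511 : sm gg N54607 = N52932 := ded_50_1 (flp_h L716813) (flp_g L716809) L734501
theorem L734513 : sm gj N54607 = N53668 := ded_52_1 (flp_h L725484) (flp_j L716811) L734501
theorem L734515 : sm gi N54607 = N54607 := ded_54_2 (flp_h L734501) (flp_i L716799) L697198 L716799 L734501
theorem L734516 : sm gd N52932 = N54608 := rfl
theorem L734518 : sm ga N54608 = N53836 := ded_12_1 (flp_d L727093) (flp_a L716815) L734516
theorem L734520 : sm gb N54608 = N53591 := ded_20_1 (flp_d L724652) (flp_b L716817) L734516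
theorem L734522 : sm gf N54608 = N52933 := ded_35_2 (flp_d L716827) (flp_f L716822) L734516
theorem L734524 : sm gj N54608 = N52934 := ded_37_2 (flp_d L716839) (flp_j L716824) L734516
theorem L734526 : sm gi N54608 = N54608 := ded_39_2 (flp_d L734516) L716826 L734516
theorem L734527 : sm gc N52933 = N54609 := rfl
theorem L734529 : sm ga N54609 = N53842 := ded_11_1 (flp_c L727140) (flp_a L716829) L734527
theorem L734531 : sm ge N54609 = N53115 := ded_28_2 (flp_c L719195) (flp_e L716837) L734527
theorem L734533 : sm gg N54609 = N54609 := ded_30_2 (flp_c L734527) L716833 L734527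
theorem L734534 : sm gj N54609 = N52935 := ded_31_2 (flp_c L716850) (flp_j L716834) L734527
theorem L734536 : sm gi N54609 = N54609 := ded_33_2 (flp_c L734527) L716836 L734527
theorem L734537 : sm gb N54609 = N54471 := ded_19_1 (flp_c L732477) L714474 (flp_c L705431) (flp_b L716831) L734527
theorem L734539 : sm gd N54609 = N54609 := ded_27_2 (flp_c L734527) (flp_d L716827) L697219 L716827 L734527
theorem L734540 : sm gc N52934 = N54610 := rfl
theorem L734542 : sm ga N54610 = N53837 := ded_11_1 (flp_c L727100) (flp_a L716841) L734540
theorem L734544 : sm gf N54610 = N52935 := ded_29_2 (flp_c L716850) (flp_f L716845) L734540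
theorem L734546 : sm gg N54610 = N53671 := ded_30_2 (flp_c L725513) (flp_g L716847) L734540
theorem L734548 : sm gi N54610 = N54610 := ded_33_2 (flp_c L734540) L716849 L734540
theorem L734549 : sm gd N54610 = N54610 := ded_27_2 (flp_c L734540) (flp_d L716839) L697232 L716839 L734540
theorem L734550 : sm ge N52934 = N54611 := rfl
theorem L734552 : sm ga N54611 = N53838 := ded_13_1 (flp_e L727110) (flp_a L716841) L734550
theorem L734554 : sm gb N54611 = N53595 := ded_21_1 (flp_e L724694) (flp_b L716843) L734550
theorem L734556 : sm gg N54611 = N53672 := ded_41_2 (flp_e L725521) (flp_g L716847) L734550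
theorem L734558 : sm gi N54611 = N54611 := ded_44_2 (flp_e L734550) L716849 L734550
theorem L734559 : sm gf N54611 = N53119 := ded_40_2 (flp_e L719234) L699475 (flp_e L697247) (flp_f L716845) L734550
theorem L734561 : sm gb N52935 = N54612 := rfl
theorem L734563 : sm gd N54612 = N54612 := ded_20_2 (flp_b L734561) L716859 L734561
theorem L734564 : sm ge N54612 = N53120 := ded_21_2 (flp_b L719239) (flp_e L716854) L734561
theorem L734566 : sm gg N54612 = N52936 := ded_23_2 (flp_b L716860) (flp_g L716856) L734561
theorem L734568 : sm gj N54612 = N54471 := ded_24_2 (flp_b L734537) L734534 L734561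
theorem L734570 : sm gi N54612 = N54612 := ded_26_2 (flp_b L734561) L716858 L734561
theorem L734571 : sm ga N54612 = N53999 := ded_10_1 L728857 L710007 L707573 (flp_a L716852) L734561
theorem L734573 : sm gc N54612 = N53142 := ded_19_2 L719508 (flp_c L705463) (flp_b L697242) L716850 L734561
theorem L734575 : sm gd N52937 = N54613 := rfl
theorem L734577 : sm ga N54613 = N54458 := ded_12_1 L732393 (flp_a L716875) L734575
theorem L734579 : sm gb N54613 = N54429 := ded_20_1 (flp_d L732166) (flp_b L716877) L734575
theorem L734581 : sm gf N54613 = N52945 := ded_35_2 (flp_d L716983) (flp_f L716883) L734575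
theorem L734583 : sm gg N54613 = N54107 := ded_36_2 (flp_d L729833) (flp_g L716885) L734575
theorem L734585 : sm gj N54613 = N52944 := ded_37_2 (flp_d L716972) (flp_j L716887) L734575
theorem L734587 : sm gi N54613 = N54613 := ded_39_2 (flp_d L734575) L716889 L734575
theorem L734588 : sm gc N54613 = N53125 := ded_27_1 (flp_d L719302) L699561 (flp_d L697290) (flp_c L716879) L734575
theorem L734590 : sm gh N52938 = N54614 := rfl
theorem L734592 : sm ga N54614 = N53677 := ded_17_1 L725591 (flp_a L716892) L734590
theorem L734594 : sm gb N54614 = N52941 := ded_25_1 (flp_h L716933) (flp_b L716894) L734590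
theorem L734596 : sm gc N54614 = N53675 := ded_32_1 L725566 (flp_c L716901) L734590
theorem L734598 : sm gf N54614 = N54614 := ded_47_1 (flp_h L734590) L716896 L734590
theorem L734599 : sm gg N54614 = N53024 := ded_50_1 L718081 (flp_g L716897) L734590
theorem L734601 : sm gj N54614 = N53868 := ded_52_1 L727449 (flp_j L716899) L734590
theorem L734603 : sm gd N54614 = N54614 := ded_38_1 (flp_h L734590) (flp_d L716890) L697305 L716890 L734590
theorem L734604 : sm gi N52938 = N54615 := rfl
theorem L734606 : sm ga N54615 = N54432 := ded_18_1 (flp_i L732201) (flp_a L716892) L734604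
theorem L734608 : sm gb N54615 = N52942 := ded_26_1 (flp_i L716945) (flp_b L716894) L734604
theorem L734610 : sm gc N54615 = N53748 := ded_33_1 (flp_i L726319) (flp_c L716901) L734604
theorem L734612 : sm gd N54615 = N52939 := ded_39_1 (flp_i L716903) L716890 L734604
theorem L734614 : sm gf N54615 = N54615 := ded_48_1 (flp_i L734604) L716896 L734604
theorem L734615 : sm gg N54615 = N53063 := ded_51_1 (flp_i L718553) (flp_g L716897) L734604
theorem L734617 : sm gj N54615 = N53852 := ded_53_1 L727250 (flp_j L716899) L734604
theorem L734619 : sm gh N52939 = N54616 := rfl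
theorem L734621 : sm ga N54616 = N54433 := ded_17_1 (flp_h L732210) (flp_a L716905) L734619
theorem L734623 : sm gb N54616 = N52943 := ded_25_1 (flp_h L716958) (flp_b L716907) L734619
theorem L734625 : sm gc N54616 = N52948 := ded_32_1 (flp_h L717022) (flp_c L716909) L734619
theorem L734627 : sm ge N54616 = N52940 := ded_43_1 (flp_h L716918) (flp_e L716911) L734619
theorem L734629 : sm gf N54616 = N54616 := ded_47_1 (flp_h L734619) L716913 L734619
theorem L734630 : sm gg N54616 = N53124 := ded_50_1 (flp_h L719289) (flp_g L716914) L734619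
theorem L734632 : sm gj N54616 = N53520 := ded_52_1 L723838 (flp_j L716916) L734619
theorem L734634 : sm gi N54616 = N54616 := ded_54_2 (flp_h L734619) (flp_i L716903) L697305 L716903 L734619
theorem L734635 : sm gd N52940 = N54617 := rfl
theorem L734637 : sm ga N54617 = N53594 := ded_12_1 L724692 (flp_a L716920) L734635
theorem L734639 : sm gb N54617 = N52944 := ded_20_1 (flp_d L716972) (flp_b L716922) L734635
theorem L734641 : sm gf N54617 = N52946 := ded_35_2 (flp_d L716995) (flp_f L716926) L734635
theorem L734643 : sm gg N54617 = N53934 := ded_36_2 (flp_d L728198) (flp_g L716928) L734635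
theorem L734645 : sm gj N54617 = N54429 := ded_37_2 (flp_d L732166) (flp_j L716930) L734635
theorem L734647 : sm gi N54617 = N54617 := ded_39_2 (flp_d L734635) L716932 L734635
theorem L734648 : sm gc N54617 = N53544 := ded_27_1 (flp_d L724130) L717055 (flp_d L717038) (flp_c L716924) L734635
theorem L734650 : sm gi N52941 = N54618 := rfl
theorem L734652 : sm ga N54618 = N54452 := ded_18_1 (flp_i L732351) (flp_a L716935) L734650
theorem L734654 : sm gc N54618 = N53023 := ded_33_1 (flp_i L718063) (flp_c L716937) L734650
theorem L734656 : sm gd N54618 = N54618 := ded_39_1 (flp_i L734650) L716944 L734650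
theorem L734657 : sm gf N54618 = N54618 := ded_48_1 (flp_i L734650) L716939 L734650
theorem L734658 : sm gg N54618 = N53026 := ded_51_1 (flp_i L718099) (flp_g L716940) L734650
theorem L734660 : sm gj N54618 = N54009 := ded_53_1 (flp_i L728958) (flp_j L716942) L734650
theorem L734662 : sm gh N52942 = N54619 := rfl
theorem L734664 : sm ga N54619 = N54453 := ded_17_1 (flp_h L732357) (flp_a L716947) L734662
theorem L734666 : sm gc N54619 = N53060 := ded_32_1 (flp_h L718516) (flp_c L716949) L734662
theorem L734668 : sm gf N54619 = N54619 := ded_47_1 (flp_h L734662) L716953 L734662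
theorem L734669 : sm gg N54619 = N53065 := ded_50_1 (flp_h L718579) (flp_g L716954) L734662
theorem L734671 : sm gj N54619 = N54041 := ded_52_1 (flp_h L729271) (flp_j L716956) L734662
theorem L734673 : sm gd N52943 = N54620 := rfl
theorem L734675 : sm ga N54620 = N54457 := ded_12_1 (flp_d L732380) (flp_a L716960) L734673
theorem L734677 : sm gf N54620 = N54620 := ded_35_2 (flp_d L734673) L716966 L734673
theorem L734678 : sm gg N54620 = N53125 := ded_36_2 (flp_d L719302) (flp_g L716967) L734673
theorem L734680 : sm gj N54620 = N54103 := ded_37_2 (flp_d L729803) (flp_j L716969) L734673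
theorem L734682 : sm gi N54620 = N54620 := ded_39_2 (flp_d L734673) L716971 L734673
theorem L734683 : sm gc N54620 = N54107 := ded_27_1 (flp_d L729833) L710956 (flp_d L697369) (flp_c L716962) L734673
theorem L734685 : sm ge N52944 = N54621 := rfl
theorem L734687 : sm ga N54621 = N54467 := ded_13_1 (flp_e L732453) (flp_a L716974) L734685
theorem L734689 : sm gc N54621 = N53136 := ded_28_1 (flp_e L719447) (flp_c L716981) L734685
theorem L734691 : sm gg N54621 = N53935 := ded_41_2 (flp_e L728205) (flp_g L716978) L734685
theorem L734693 : sm gi N54621 = N54621 := ded_44_2 (flp_e L734685) L716980 L734685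
theorem L734694 : sm ge N52945 = N54622 := rfl
theorem L734696 : sm ga N54622 = N54461 := ded_13_1 (flp_e L732410) (flp_a L716985) L734694
theorem L734698 : sm gb N54622 = N53670 := ded_21_1 L725506 (flp_b L716987) L734694
theorem L734700 : sm gc N54622 = N53139 := ded_28_1 (flp_e L719474) (flp_c L716993) L734694
theorem L734702 : sm gg N54622 = N54622 := ded_41_2 (flp_e L734694) L716989 L734694
theorem L734703 : sm gj N54622 = N52947 := ded_42_2 (flp_e L717010) (flp_j L716990) L734694
theorem L734705 : sm gi N54622 = N54622 := ded_44_2 (flp_e L734694) L716992 L734694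
theorem L734706 : sm gd N54622 = N54622 := ded_34_1 (flp_e L734694) (flp_d L716983) L697380 L716983 L734694
theorem L734707 : sm gf N52947 = N54623 := rfl
theorem L734709 : sm ga N54623 = N54465 := ded_14_1 L732444 (flp_a L717012) L734707
theorem L734711 : sm gb N54623 = N53671 := ded_22_1 L725517 (flp_b L717014) L734707
theorem L734713 : sm gc N54623 = N53141 := ded_29_1 (flp_f L719497) (flp_c L717016) L734707
theorem L734715 : sm gd N54623 = N54623 := ded_35_1 (flp_f L734707) L717021 L734707
theorem L734716 : sm gi N54623 = N54623 := ded_48_2 (flp_f L734707) L717020 L734707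
theorem L734717 : sm ge N52950 = N54624 := rfl
theorem L734719 : sm ga N54624 = N53598 := ded_13_1 (flp_e L724725) (flp_a L717059) L734717
theorem L734721 : sm gb N54624 = N52977 := ded_21_1 (flp_e L717450) (flp_b L717061) L734717
theorem L734723 : sm gc N54624 = N53577 := ded_28_1 L724520 (flp_c L717069) L734717
theorem L734725 : sm gg N54624 = N53545 := ded_41_2 (flp_e L724137) (flp_g L717065) L734717
theorem L734727 : sm gj N54624 = N52952 := ded_42_2 (flp_e L717091) (flp_j L717067) L734717
theorem L734729 : sm gh N54624 = N52959 := ded_43_2 (flp_e L717194) (flp_h L717071) L734717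
theorem L734731 : sm gd N54624 = N53552 := ded_34_1 (flp_e L724201) (flp_d L704909) (flp_e L697586) L717057 L734717
theorem L734733 : sm gf N54624 = N53605 := ded_40_2 (flp_e L724807) L705618 L697637 (flp_f L717063) L734717
theorem L734735 : sm gi N52950 = N54625 := rfl
theorem L734737 : sm ga N54625 = N53599 := ded_18_1 (flp_i L724739) (flp_a L717059) L734735
theorem L734739 : sm gb N54625 = N52978 := ded_26_1 (flp_i L717462) (flp_b L717061) L734735
theorem L734741 : sm gc N54625 = N53584 := ded_33_1 (flp_i L724581) (flp_c L717069) L734735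
theorem L734743 : sm gd N54625 = N52951 := ded_39_1 (flp_i L717073) L717057 L734735
theorem L734745 : sm gf N54625 = N52954 := ded_48_1 (flp_i L717121) (flp_f L717063) L734735
theorem L734747 : sm gg N54625 = N53546 := ded_51_1 (flp_i L724145) (flp_g L717065) L734735
theorem L734749 : sm gj N54625 = N52953 := ded_53_1 (flp_i L717107) (flp_j L717067) L734735
theorem L734751 : sm gi N52952 = N54626 := rfl
theorem L734753 : sm ga N54626 = N53600 := ded_18_1 (flp_i L724753) (flp_a L717093) L734751
theorem L734755 : sm gb N54626 = N52982 := ded_26_1 (flp_i L717521) (flp_b L717095) L734751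
theorem L734757 : sm gc N54626 = N53578 := ded_33_1 (flp_i L724524) (flp_c L717097) L734751
theorem L734759 : sm gd N54626 = N54254 := ded_39_1 (flp_i L730878) (flp_d L717103) L734751
theorem L734761 : sm ge N54626 = N52953 := ded_44_1 (flp_i L717107) L717091 L734751
theorem L734763 : sm gf N54626 = N53610 := ded_48_1 (flp_i L724853) (flp_f L717105) L734751
theorem L734765 : sm gg N54626 = N53575 := ded_51_1 (flp_i L724484) (flp_g L717099) L734751
theorem L734767 : sm gh N52953 = N54627 := rfl
theorem L734769 : sm ga N54627 = N53601 := ded_17_1 (flp_h L724761) (flp_a L717109) L734767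
theorem L734771 : sm gb N54627 = N52983 := ded_25_1 (flp_h L717529) (flp_b L717111) L734767
theorem L734773 : sm gc N54627 = N53585 := ded_32_1 (flp_h L724593) (flp_c L717113) L734767
theorem L734775 : sm gf N54627 = N52955 := ded_47_1 (flp_h L717136) (flp_f L717117) L734767
theorem L734777 : sm gg N54627 = N53583 := ded_50_1 (flp_h L724565) (flp_g L717119) L734767
theorem L734779 : sm gd N54627 = N54037 := ded_38_1 (flp_h L729235) L710333 (flp_h L697622) (flp_d L717115) L734767
theorem L734781 : sm gi N54627 = N52965 := ded_54_2 (flp_h L717273) (flp_i L697744) (flp_h L697606) L717107 L734767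
theorem L734783 : sm gh N52954 = N54628 := rfl
theorem L734785 : sm ga N54628 = N53602 := ded_17_1 (flp_h L724773) (flp_a L717123) L734783
theorem L734787 : sm gb N54628 = N52984 := ded_25_1 (flp_h L717541) (flp_b L717125) L734783
theorem L734789 : sm gc N54628 = N53588 := ded_32_1 (flp_h L724621) (flp_c L717127) L734783
theorem L734791 : sm ge N54628 = N53613 := ded_43_1 (flp_h L724877) (flp_e L717131) L734783
theorem L734793 : sm gg N54628 = N54628 := ded_50_1 (flp_h L734783) L717133 L734783
theorem L734794 : sm gj N54628 = N52955 := ded_52_1 (flp_h L717136) (flp_j L717134) L734783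
theorem L734796 : sm gd N54628 = N54038 := ded_38_1 (flp_h L729247) L710378 (flp_h L697651) (flp_d L717129) L734783
theorem L734798 : sm gi N54628 = N52967 := ded_54_2 (flp_h L717299) (flp_i L697770) (flp_h L697635) L717121 L734783
theorem L734800 : sm gc N52956 = N54629 := rfl
theorem L734802 : sm ga N54629 = N53512 := ded_11_1 L723755 (flp_a L717154) L734800
theorem L734804 : sm gf N54629 = N54629 := ded_29_2 (flp_c L734800) L717158 L734800
theorem L734805 : sm gg N54629 = N52958 := ded_30_2 (flp_c L717181) (flp_g L717159) L734800
theorem L734807 : sm gj N54629 = N53260 := ded_31_2 (flp_c L721106) (flp_j L717161) L734800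
theorem L734809 : sm gh N54629 = N53509 := ded_32_2 L723721 (flp_h L717163) L734800
theorem L734811 : sm gb N54629 = N53629 := ded_19_1 L725070 L714076 (flp_c L698103) (flp_b L717156) L734800
theorem L734813 : sm gd N54629 = N54629 := ded_27_2 (flp_c L734800) (flp_d L717152) L697690 L717152 L734800
theorem L734814 : sm ge N52956 = N54630 := rfl
theorem L734816 : sm ga N54630 = N53603 := ded_13_1 (flp_e L724786) (flp_a L717154) L734814
theorem L734818 : sm gb N54630 = N52990 := ded_21_1 (flp_e L717635) (flp_b L717156) L734814
theorem L734820 : sm gg N54630 = N52959 := ded_41_2 (flp_e L717194) (flp_g L717159) L734814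
theorem L734822 : sm gj N54630 = N53261 := ded_42_2 (flp_e L721116) (flp_j L717161) L734814
theorem L734824 : sm gh N54630 = N53545 := ded_43_2 (flp_e L724137) (flp_h L717163) L734814
theorem L734826 : sm gd N54630 = N53263 := ded_34_1 (flp_e L721139) (flp_d L701948) (flp_e L697691) L717152 L734814
theorem L734828 : sm gi N52956 = N54631 := rfl
theorem L734830 : sm ga N54631 = N53604 := ded_18_1 (flp_i L724796) (flp_a L717154) L734828
theorem L734832 : sm gb N54631 = N52991 := ded_26_1 (flp_i L717647) (flp_b L717156) L734828
theorem L734834 : sm gd N54631 = N52957 := ded_39_1 (flp_i L717165) L717152 L734828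
theorem L734836 : sm gf N54631 = N54631 := ded_48_1 (flp_i L734828) L717158 L734828
theorem L734837 : sm gg N54631 = N52960 := ded_51_1 (flp_i L717206) (flp_g L717159) L734828
theorem L734839 : sm gj N54631 = N53262 := ded_53_1 (flp_i L721128) (flp_j L717161) L734828
theorem L734841 : sm ge N52958 = N54632 := rfl
theorem L734843 : sm ga N54632 = N53605 := ded_13_1 (flp_e L724807) (flp_a L717183) L734841
theorem L734845 : sm gb N54632 = N53624 := ded_21_1 L725018 (flp_b L717191) L734841
theorem L734847 : sm gc N54632 = N52959 := ded_28_1 (flp_e L717194) L717181 L734841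
theorem L734849 : sm gj N54632 = N52961 := ded_42_2 (flp_e L717218) (flp_j L717187) L734841
theorem L734851 : sm gh N54632 = N53577 := ded_43_2 L724520 (flp_h L717189) L734841
theorem L734853 : sm gf N54632 = N53598 := ded_40_2 (flp_e L724725) L705530 (flp_e L697760) (flp_f L717185) L734841
theorem L734855 : sm gd N54632 = N54259 := ded_56_3 L730919 (flp_b L727744) L727742 (flp_h L718027) (flp_f L718021) (flp_e L698515) (flp_d L677199) L655448 L655446 (flp_a L662016) (flp_h L662014) L363416 (flp_e L363408) L249974 L172199 L118815 L118813 L118987 L118991 L82258 L56994 (flp_c L82206) (flp_b L116893) (flp_a L169266) (flp_h L169264) (flp_f L168575) (flp_e L244555) (flp_d L355345) L640390 L256649 L176749 L176753 (flp_f L178419) L259211 L259214 (flp_c L261372) (flp_b L380289) (flp_a L663851) L663859 L663854 L663857 L380281 (flp_c L387747) (flp_b L670488) (flp_a L670481) L386961 L268553 L184792 L129824 L129827 (flp_b L129822) L89606 (flp_h L89398) (flp_f L129504) L188018 L273311 (flp_c L649986) (flp_b L671974) (flp_a L684046) (flp_h L697765) (flp_f L717185) L734841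
theorem L734857 : sm gi N52958 = N54633 := rfl
theorem L734859 : sm ga N54633 = N53606 := ded_18_1 (flp_i L724817) (flp_a L717183) L734857
theorem L734861 : sm gb N54633 = N53630 := ded_26_1 (flp_i L725076) (flp_b L717191) L734857
theorem L734863 : sm gc N54633 = N52960 := ded_33_1 (flp_i L717206) L717181 L734857
theorem L734865 : sm gd N54633 = N54633 := ded_39_1 (flp_i L734857) L717193 L734857
theorem L734866 : sm gf N54633 = N52966 := ded_48_1 (flp_i L717285) (flp_f L717185) L734857
theorem L734868 : sm gj N54633 = N52962 := ded_53_1 (flp_i L717232) (flp_j L717187) L734857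
theorem L734870 : sm gi N52959 = N54634 := rfl
theorem L734872 : sm ga N54634 = N53607 := ded_18_1 (flp_i L724828) (flp_a L717196) L734870
theorem L734874 : sm gb N54634 = N52992 := ded_26_1 (flp_i L717660) (flp_b L717198) L734870
theorem L734876 : sm gd N54634 = N54213 := ded_39_1 (flp_i L730612) (flp_d L717202) L734870
theorem L734878 : sm ge N54634 = N52960 := ded_44_1 (flp_i L717206) L717194 L734870
theorem L734880 : sm gf N54634 = N54212 := ded_48_1 (flp_i L730604) (flp_f L717204) L734870
theorem L734882 : sm gj N54634 = N52964 := ded_53_1 (flp_i L717263) (flp_j L717200) L734870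
theorem L734884 : sm gh N52960 = N54635 := rfl
theorem L734886 : sm ga N54635 = N53608 := ded_17_1 (flp_h L724836) (flp_a L717208) L734884
theorem L734888 : sm gb N54635 = N52993 := ded_25_1 (flp_h L717674) (flp_b L717210) L734884
theorem L734890 : sm gf N54635 = N52967 := ded_47_1 (flp_h L717299) (flp_f L717214) L734884
theorem L734892 : sm gj N54635 = N52965 := ded_52_1 (flp_h L717273) (flp_j L717216) L734884
theorem L734894 : sm gd N54635 = N54097 := ded_38_1 (flp_h L729743) L710818 (flp_h L697721) (flp_d L717212) L734884
theorem L734896 : sm gd N52961 = N54636 := rfl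
theorem L734898 : sm ga N54636 = N53609 := ded_12_1 (flp_d L724844) (flp_a L717220) L734896
theorem L734900 : sm gb N54636 = N53619 := ded_20_1 L724955 (flp_b L717222) L734896
theorem L734902 : sm gf N54636 = N53563 := ded_35_2 L724345 (flp_f L717230) L734896
theorem L734904 : sm gg N54636 = N53549 := ded_36_2 L724179 (flp_g L717226) L734896
theorem L734906 : sm gj N54636 = N54259 := ded_37_2 (flp_d L734855) L734849 L734896
theorem L734908 : sm gc N54636 = N53565 := ded_27_1 L724366 (flp_c L715416) L715424 (flp_c L717224) L734896
theorem L734910 : sm ge N54636 = N54636 := ded_34_2 (flp_d L734896) (flp_e L717218) L697735 L717218 L734896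
theorem L734911 : sm gh N54248 = N54636 := ded_17_0 L734898 (flp_h L724851) (flp_a L730840)
theorem L734913 : sm gi N52961 = N54637 := rfl
theorem L734915 : sm ga N54637 = N53610 := ded_18_1 (flp_i L724853) (flp_a L717220) L734913
theorem L734917 : sm gb N54637 = N53627 := ded_26_1 (flp_i L725044) (flp_b L717222) L734913
theorem L734919 : sm gc N54637 = N52964 := ded_33_1 (flp_i L717263) (flp_c L717224) L734913
theorem L734921 : sm ge N54637 = N52962 := ded_44_1 (flp_i L717232) L717218 L734913
theorem L734923 : sm gf N54637 = N53600 := ded_48_1 (flp_i L724753) (flp_f L717230) L734913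
theorem L734925 : sm gg N54637 = N53557 := ded_51_1 (flp_i L724262) (flp_g L717226) L734913
theorem L734927 : sm gh N52962 = N54638 := rfl
theorem L734929 : sm ga N54638 = N53611 := ded_17_1 (flp_h L724861) (flp_a L717234) L734927
theorem L734931 : sm gb N54638 = N53632 := ded_25_1 (flp_h L725100) (flp_b L717236) L734927
theorem L734933 : sm gc N54638 = N52965 := ded_32_1 (flp_h L717273) (flp_c L717238) L734927
theorem L734935 : sm gf N54638 = N52968 := ded_47_1 (flp_h L717312) (flp_f L717241) L734927
theorem L734937 : sm gg N54638 = N53561 := ded_50_1 (flp_h L724308) (flp_g L717243) L734927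
theorem L734939 : sm gi N54638 = N53585 := ded_54_2 (flp_h L724593) (flp_i L705342) (flp_h L697731) L717232 L734927
theorem L734941 : sm gi N52963 = N54639 := rfl
theorem L734943 : sm ga N54639 = N53578 := ded_18_1 (flp_i L724524) (flp_a L717247) L734941
theorem L734945 : sm gb N54639 = N52997 := ded_26_1 (flp_i L717734) (flp_b L717249) L734941
theorem L734947 : sm gc N54639 = N53600 := ded_33_1 (flp_i L724753) (flp_c L717251) L734941
theorem L734949 : sm gd N54639 = N54205 := ded_39_1 (flp_i L730554) (flp_d L717253) L734941
theorem L734951 : sm ge N54639 = N52969 := ded_44_1 (flp_i L717326) (flp_e L717259) L734941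
theorem L734953 : sm gf N54639 = N52964 := ded_48_1 (flp_i L717263) L717245 L734941
theorem L734955 : sm gg N54639 = N53538 := ded_51_1 (flp_i L724061) (flp_g L717261) L734941
theorem L734957 : sm gj N54639 = N54212 := ded_53_1 (flp_i L730604) (flp_j L717255) L734941
theorem L734959 : sm gh N52964 = N54640 := rfl
theorem L734961 : sm ga N54640 = N53612 := ded_17_1 (flp_h L724869) (flp_a L717265) L734959
theorem L734963 : sm gb N54640 = N52998 := ded_25_1 (flp_h L717748) (flp_b L717267) L734959
theorem L734965 : sm ge N54640 = N52965 := ded_43_1 (flp_h L717273) (flp_e L717269) L734959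
theorem L734967 : sm gg N54640 = N53942 := ded_50_1 (flp_h L728285) (flp_g L717271) L734959
theorem L734969 : sm gh N52966 = N54641 := rfl
theorem L734971 : sm ga N54641 = N53613 := ded_17_1 (flp_h L724877) (flp_a L717287) L734969
theorem L734973 : sm gb N54641 = N53631 := ded_25_1 (flp_h L725087) (flp_b L717289) L734969
theorem L734975 : sm gc N54641 = N52967 := ded_32_1 (flp_h L717299) (flp_c L717291) L734969
theorem L734977 : sm ge N54641 = N53602 := ded_43_1 (flp_h L724773) (flp_e L717294) L734969
theorem L734979 : sm gg N54641 = N54641 := ded_50_1 (flp_h L734969) L717296 L734969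
theorem L734980 : sm gj N54641 = N52968 := ded_52_1 (flp_h L717312) (flp_j L717297) L734969
theorem L734982 : sm gi N54641 = N53588 := ded_54_2 (flp_h L724621) (flp_i L705364) (flp_h L697765) L717285 L734969
theorem L734984 : sm gd N52968 = N54642 := rfl
theorem L734986 : sm ga N54642 = N53614 := ded_12_1 (flp_d L724888) (flp_a L717314) L734984
theorem L734988 : sm gb N54642 = N53633 := ded_20_1 (flp_d L725110) (flp_b L717316) L734984
theorem L734990 : sm gg N54642 = N52971 := ded_36_2 (flp_d L717358) (flp_g L717322) L734984
theorem L734992 : sm gi N54642 = N53589 := ded_39_2 (flp_d L724632) (flp_i L717324) L734984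
theorem L734994 : sm gc N54642 = N54102 := ded_27_1 (flp_d L729798) L710905 (flp_d L697836) (flp_c L717318) L734984
theorem L734996 : sm ge N54642 = N54291 := ded_34_2 (flp_d L731163) L712735 (flp_d L705591) (flp_e L717320) L734984
theorem L734998 : sm gh N54642 = N54642 := ded_38_2 (flp_d L734984) (flp_h L717312) L697791 L717312 L734984
theorem L734999 : sm gh N52969 = N54643 := rfl
theorem L735001 : sm ga N54643 = N53585 := ded_17_1 (flp_h L724593) (flp_a L717328) L734999
theorem L735003 : sm gb N54643 = N53002 := ded_25_1 (flp_h L717802) (flp_b L717330) L734999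
theorem L735005 : sm gc N54643 = N53601 := ded_32_1 (flp_h L724761) (flp_c L717332) L734999
theorem L735007 : sm gf N54643 = N52970 := ded_47_1 (flp_h L717342) (flp_f L717336) L734999
theorem L735009 : sm gg N54643 = N53541 := ded_50_1 (flp_h L724096) (flp_g L717338) L734999
theorem L735011 : sm gj N54643 = N54239 := ded_52_1 (flp_h L730782) (flp_j L717340) L734999
theorem L735013 : sm gi N54643 = N53611 := ded_54_2 (flp_h L724861) (flp_i L705649) (flp_h L697808) L717326 L734999
theorem L735015 : sm gd N52970 = N54644 := rfl
theorem L735017 : sm ga N54644 = N53589 := ded_12_1 (flp_d L724632) (flp_a L717344) L735015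
theorem L735019 : sm gb N54644 = N53003 := ded_20_1 (flp_d L717812) (flp_b L717346) L735015
theorem L735021 : sm gg N54644 = N52972 := ded_36_2 (flp_d L717374) (flp_g L717352) L735015
theorem L735023 : sm gj N54644 = N54446 := ded_37_2 (flp_d L732294) (flp_j L717354) L735015
theorem L735025 : sm gi N54644 = N53614 := ded_39_2 (flp_d L724888) (flp_i L717356) L735015
theorem L735027 : sm gc N54644 = N53932 := ded_27_1 (flp_d L728177) L709186 (flp_d L705591) (flp_c L717348) L735015
theorem L735029 : sm ge N54644 = N53110 := ded_34_2 (flp_d L719132) L699380 (flp_d L697836) (flp_e L717350) L735015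
theorem L735031 : sm gh N54644 = N52974 := ded_38_2 (flp_d L717408) (flp_h L697884) (flp_d L697820) L717342 L735015
theorem L735033 : sm gd N52973 = N54645 := rfl
theorem L735035 : sm ga N54645 = N53593 := ded_12_1 (flp_d L724676) (flp_a L717393) L735033
theorem L735037 : sm gb N54645 = N53009 := ded_20_1 (flp_d L717903) (flp_b L717395) L735033
theorem L735039 : sm gf N54645 = N52974 := ded_35_2 (flp_d L717408) (flp_f L717401) L735033
theorem L735041 : sm gg N54645 = N53544 := ded_36_2 (flp_d L724130) (flp_g L717403) L735033
theorem L735043 : sm gj N54645 = N54240 := ded_37_2 (flp_d L730788) (flp_j L717405) L735033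
theorem L735045 : sm gi N54645 = N54645 := ded_39_2 (flp_d L735033) L717407 L735033
theorem L735046 : sm gc N54645 = N53934 := ded_27_1 (flp_d L728198) L709240 L709330 (flp_c L717397) L735033
theorem L735048 : sm gf N52975 = N54646 := rfl
theorem L735050 : sm ga N54646 = N53019 := ded_14_1 (flp_f L718021) (flp_a L717425) L735048
theorem L735052 : sm gb N54646 = N53609 := ded_22_1 L724846 (flp_b L717427) L735048
theorem L735054 : sm gc N54646 = N54066 := ded_29_1 L729497 (flp_c L717429) L735048
theorem L735056 : sm gd N54646 = N52981 := ded_35_1 (flp_f L717505) (flp_d L717435) L735048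
theorem L735058 : sm gj N54646 = N54193 := ded_46_2 L733756 L733750 L735048
theorem L735060 : sm gh N54646 = N53893 := ded_47_2 (flp_f L727740) (flp_h L717433) L735048
theorem L735062 : sm ge N54646 = N54646 := ded_40_1 (flp_f L735048) (flp_e L717423) L697919 L717423 L735048
theorem L735063 : sm gg N54646 = N54275 := ded_45_2 (flp_f L731040) L712594 (flp_f L708994) (flp_g L717431) L735048
theorem L735065 : sm gi N52975 = N54647 := rfl
theorem L735067 : sm ga N54647 = N53020 := ded_18_1 (flp_i L718032) (flp_a L717425) L735065
theorem L735069 : sm gb N54647 = N54254 := ded_26_1 (flp_i L730878) (flp_b L717427) L735065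
theorem L735071 : sm gc N54647 = N54068 := ded_33_1 (flp_i L729506) (flp_c L717429) L735065
theorem L735073 : sm gd N54647 = N52982 := ded_39_1 (flp_i L717521) (flp_d L717435) L735065
theorem L735075 : sm ge N54647 = N52976 := ded_44_1 (flp_i L717437) L717423 L735065
theorem L735077 : sm gg N54647 = N53917 := ded_51_1 (flp_i L727998) (flp_g L717431) L735065
theorem L735079 : sm gh N52976 = N54648 := rfl
theorem L735081 : sm ga N54648 = N53021 := ded_17_1 (flp_h L718042) (flp_a L717439) L735079
theorem L735083 : sm gb N54648 = N54255 := ded_25_1 (flp_h L730884) (flp_b L717441) L735079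
theorem L735085 : sm gc N54648 = N54113 := ded_32_1 (flp_h L729866) (flp_c L717443) L735079
theorem L735087 : sm gf N54648 = N54648 := ded_47_1 (flp_h L735079) L717447 L735079
theorem L735088 : sm gg N54648 = N53918 := ded_50_1 (flp_h L728012) (flp_g L717448) L735079
theorem L735090 : sm gd N54648 = N54011 := ded_38_1 (flp_h L728976) L710100 (flp_h L697938) (flp_d L717445) L735079
theorem L735092 : sm gi N54648 = N53912 := ded_54_2 (flp_h L727934) (flp_i L708908) (flp_h L697922) L717437 L735079
theorem L735094 : sm gi N52977 = N54649 := rfl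
theorem L735096 : sm ga N54649 = N53028 := ded_18_1 (flp_i L718124) (flp_a L717452) L735094
theorem L735098 : sm gc N54649 = N54395 := ded_33_1 (flp_i L731931) (flp_c L717454) L735094
theorem L735100 : sm ge N54649 = N52978 := ded_44_1 (flp_i L717462) L717450 L735094
theorem L735102 : sm gf N54649 = N54216 := ded_48_1 (flp_i L730634) (flp_f L717460) L735094
theorem L735104 : sm gj N54649 = N52982 := ded_53_1 (flp_i L717521) (flp_j L717456) L735094
theorem L735106 : sm gh N52978 = N54650 := rfl
theorem L735108 : sm ga N54650 = N53029 := ded_17_1 (flp_h L718132) (flp_a L717464) L735106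
theorem L735110 : sm gc N54650 = N54454 := ded_32_1 (flp_h L732362) (flp_c L717466) L735106
theorem L735112 : sm gf N54650 = N52984 := ded_47_1 (flp_h L717541) (flp_f L717470) L735106
theorem L735114 : sm gj N54650 = N52983 := ded_52_1 (flp_h L717529) (flp_j L717472) L735106
theorem L735116 : sm gd N54650 = N54367 := ded_38_1 (flp_h L731726) L713363 (flp_h L697961) (flp_d L717468) L735106
theorem L735118 : sm gi N54650 = N52993 := ded_54_2 (flp_h L717674) (flp_i L698132) (flp_h L697948) L717462 L735106
theorem L735120 : sm gd N52979 = N54651 := rfl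
theorem L735122 : sm ga N54651 = N53032 := ded_12_1 (flp_d L718169) (flp_a L717476) L735120
theorem L735124 : sm gb N54651 = N53650 := ded_20_1 L725306 (flp_b L717478) L735120
theorem L735126 : sm gf N54651 = N53647 := ded_35_2 (flp_d L725266) (flp_f L717488) L735120
theorem L735128 : sm gg N54651 = N53943 := ded_36_2 (flp_d L728295) (flp_g L717482) L735120
theorem L735130 : sm gj N54651 = N54347 := ded_37_2 L731578 (flp_j L717484) L735120
theorem L735132 : sm gc N54651 = N54023 := ded_27_1 L729101 (flp_c L717429) L717435 (flp_c L717480) L735120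
theorem L735134 : sm ge N54651 = N54651 := ded_34_2 (flp_d L735120) (flp_e L717474) L697977 L717474 L735120
theorem L735135 : sm gh N54651 = N54004 := ded_38_2 (flp_d L728909) L710043 (flp_d L698156) (flp_h L717486) L735120
theorem L735137 : sm gi N52979 = N54652 := rfl
theorem L735139 : sm ga N54652 = N53034 := ded_18_1 (flp_i L718190) (flp_a L717476) L735137
theorem L735141 : sm gb N54652 = N53653 := ded_26_1 (flp_i L725333) (flp_b L717478) L735137
theorem L735143 : sm gc N54652 = N52982 := ded_33_1 (flp_i L717521) (flp_c L717480) L735137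
theorem L735145 : sm ge N54652 = N52980 := ded_44_1 (flp_i L717490) L717474 L735137
theorem L735147 : sm gf N54652 = N53648 := ded_48_1 (flp_i L725278) (flp_f L717488) L735137
theorem L735149 : sm gg N54652 = N53944 := ded_51_1 (flp_i L728300) (flp_g L717482) L735137
theorem L735151 : sm gj N54652 = N54395 := ded_53_1 (flp_i L731931) (flp_j L717484) L735137
theorem L735153 : sm gh N52980 = N54653 := rfl
theorem L735155 : sm ga N54653 = N53035 := ded_17_1 (flp_h L718198) (flp_a L717492) L735153
theorem L735157 : sm gb N54653 = N53663 := ded_25_1 (flp_h L725435) (flp_b L717494) L735153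
theorem L735159 : sm gc N54653 = N52983 := ded_32_1 (flp_h L717529) (flp_c L717496) L735153
theorem L735161 : sm gf N54653 = N52985 := ded_47_1 (flp_h L717556) (flp_f L717499) L735153
theorem L735163 : sm gg N54653 = N53945 := ded_50_1 (flp_h L728308) (flp_g L717501) L735153
theorem L735165 : sm gj N54653 = N54454 := ded_52_1 (flp_h L732362) (flp_j L717503) L735153
theorem L735167 : sm gi N54653 = N52995 := ded_54_2 (flp_h L717704) (flp_i L698160) (flp_h L697973) L717490 L735153
theorem L735169 : sm gi N52981 = N54654 := rfl
theorem L735171 : sm ga N54654 = N53037 := ded_18_1 (flp_i L718224) (flp_a L717507) L735169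
theorem L735173 : sm gb N54654 = N53610 := ded_26_1 (flp_i L724853) (flp_b L717509) L735169
theorem L735175 : sm gc N54654 = N53648 := ded_33_1 (flp_i L725278) (flp_c L717511) L735169
theorem L735177 : sm ge N54654 = N52986 := ded_44_1 (flp_i L717572) (flp_e L717517) L735169
theorem L735179 : sm gf N54654 = N52982 := ded_48_1 (flp_i L717521) L717505 L735169
theorem L735181 : sm gg N54654 = N54277 := ded_51_1 (flp_i L731063) (flp_g L717519) L735169
theorem L735183 : sm gj N54654 = N54216 := ded_53_1 (flp_i L730634) (flp_j L717513) L735169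
theorem L735185 : sm gh N52982 = N54655 := rfl
theorem L735187 : sm ga N54655 = N53038 := ded_17_1 (flp_h L718232) (flp_a L717523) L735185
theorem L735189 : sm ge N54655 = N52983 := ded_43_1 (flp_h L717529) (flp_e L717525) L735185
theorem L735191 : sm gg N54655 = N53946 := ded_50_1 (flp_h L728318) (flp_g L717527) L735185
theorem L735193 : sm gi N54655 = N52998 := ded_54_2 (flp_h L717748) (flp_i L698188) (flp_h L697984) L717521 L735185
theorem L735195 : sm gd N52985 = N54656 := rfl
theorem L735197 : sm ga N54656 = N53047 := ded_12_1 (flp_d L718359) (flp_a L717558) L735195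
theorem L735199 : sm gb N54656 = N53664 := ded_20_1 (flp_d L725445) (flp_b L717560) L735195
theorem L735201 : sm gg N54656 = N52988 := ded_36_2 (flp_d L717603) (flp_g L717566) L735195
theorem L735203 : sm gj N54656 = N54456 := ded_37_2 (flp_d L732374) (flp_j L717568) L735195
theorem L735205 : sm gi N54656 = N52999 := ded_39_2 (flp_d L717756) (flp_i L717570) L735195
theorem L735207 : sm gc N54656 = N54370 := ded_27_1 (flp_d L731751) L713395 (flp_d L698060) (flp_c L717562) L735195
theorem L735209 : sm ge N54656 = N54363 := ded_34_2 (flp_d L731691) L713322 (flp_d L706158) (flp_e L717564) L735195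
theorem L735211 : sm gh N54656 = N54656 := ded_38_2 (flp_d L735195) (flp_h L717556) L698017 L717556 L735195
theorem L735212 : sm gh N52986 = N54657 := rfl
theorem L735214 : sm ga N54657 = N53050 := ded_17_1 (flp_h L718394) (flp_a L717574) L735212
theorem L735216 : sm gb N54657 = N53611 := ded_25_1 (flp_h L724861) (flp_b L717576) L735212
theorem L735218 : sm gc N54657 = N53649 := ded_32_1 (flp_h L725288) (flp_c L717578) L735212
theorem L735220 : sm gf N54657 = N52987 := ded_47_1 (flp_h L717587) (flp_f L717581) L735212
theorem L735222 : sm gg N54657 = N54290 := ded_50_1 (flp_h L731155) (flp_g L717583) L735212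
theorem L735224 : sm gj N54657 = N54242 := ded_52_1 (flp_h L730800) (flp_j L717585) L735212
theorem L735226 : sm gi N54657 = N53002 := ded_54_2 (flp_h L717802) (flp_i L698247) (flp_h L698035) L717572 L735212
theorem L735228 : sm gd N52987 = N54658 := rfl
theorem L735230 : sm ga N54658 = N53051 := ded_12_1 (flp_d L718402) (flp_a L717589) L735228
theorem L735232 : sm gb N54658 = N53614 := ded_20_1 (flp_d L724888) (flp_b L717591) L735228
theorem L735234 : sm gg N54658 = N52989 := ded_36_2 (flp_d L717619) (flp_g L717597) L735228
theorem L735236 : sm gj N54658 = N54447 := ded_37_2 (flp_d L732301) (flp_j L717599) L735228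
theorem L735238 : sm gi N54658 = N53003 := ded_39_2 (flp_d L717812) (flp_i L717601) L735228
theorem L735240 : sm gc N54658 = N54035 := ded_27_1 (flp_d L729216) L710292 (flp_d L706158) (flp_c L717593) L735228
theorem L735242 : sm ge N54658 = N53744 := ded_34_2 (flp_d L726272) L706878 (flp_d L698060) (flp_e L717595) L735228
theorem L735244 : sm gh N54658 = N54658 := ded_38_2 (flp_d L735228) (flp_h L717587) L698047 L717587 L735228
theorem L735245 : sm gf N52990 = N54659 := rfl
theorem L735247 : sm ga N54659 = N53058 := ded_14_1 (flp_f L718499) (flp_a L717637) L735245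
theorem L735249 : sm gc N54659 = N53781 := ded_29_1 L726631 (flp_c L717639) L735245
theorem L735251 : sm gd N54659 = N53465 := ded_35_1 L723323 (flp_d L717645) L735245
theorem L735253 : sm gj N54659 = N53952 := ded_46_2 (flp_f L728386) (flp_j L717643) L735245
theorem L735255 : sm ge N54659 = N54659 := ded_40_1 (flp_f L735245) (flp_e L717635) L698098 L717635 L735245
theorem L735256 : sm gg N54659 = N53462 := ded_45_2 (flp_f L723292) L703907 (flp_f L698130) (flp_g L717641) L735245
theorem L735258 : sm gi N52990 = N54660 := rfl
theorem L735260 : sm ga N54660 = N53059 := ded_18_1 (flp_i L718506) (flp_a L717637) L735258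
theorem L735262 : sm gc N54660 = N54394 := ded_33_1 (flp_i L731923) (flp_c L717639) L735258
theorem L735264 : sm gd N54660 = N54218 := ded_39_1 (flp_i L730646) (flp_d L717645) L735258
theorem L735266 : sm ge N54660 = N52991 := ded_44_1 (flp_i L717647) L717635 L735258
theorem L735268 : sm gg N54660 = N52992 := ded_51_1 (flp_i L717660) (flp_g L717641) L735258
theorem L735270 : sm gj N54660 = N53953 := ded_53_1 (flp_i L728391) (flp_j L717643) L735258
theorem L735272 : sm gh N52991 = N54661 := rfl
theorem L735274 : sm ga N54661 = N53060 := ded_17_1 (flp_h L718516) (flp_a L717649) L735272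
theorem L735276 : sm gc N54661 = N54453 := ded_32_1 (flp_h L732357) (flp_c L717651) L735272
theorem L735278 : sm gf N54661 = N54661 := ded_47_1 (flp_h L735272) L717655 L735272
theorem L735279 : sm gg N54661 = N52993 := ded_50_1 (flp_h L717674) (flp_g L717656) L735272
theorem L735281 : sm gj N54661 = N53954 := ded_52_1 (flp_h L728399) (flp_j L717658) L735272
theorem L735283 : sm gd N54661 = N54416 := ded_38_1 (flp_h L732068) L713759 (flp_h L698118) (flp_d L717653) L735272
theorem L735285 : sm gh N52992 = N54662 := rfl
theorem L735287 : sm ga N54662 = N53068 := ded_17_1 (flp_h L718617) (flp_a L717662) L735285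
theorem L735289 : sm gc N54662 = N54396 := ded_32_1 (flp_h L731937) (flp_c L717664) L735285
theorem L735291 : sm ge N54662 = N52993 := ded_43_1 (flp_h L717674) (flp_e L717668) L735285
theorem L735293 : sm gf N54662 = N54217 := ded_47_1 (flp_h L730640) (flp_f L717670) L735285
theorem L735295 : sm gj N54662 = N52998 := ded_52_1 (flp_h L717748) (flp_j L717672) L735285
theorem L735297 : sm gh N52994 = N54663 := rfl
theorem L735299 : sm ga N54663 = N53079 := ded_17_1 (flp_h L718765) (flp_a L717688) L735297
theorem L735301 : sm gb N54663 = N54404 := ded_25_1 L731983 (flp_b L717690) L735297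
theorem L735303 : sm gc N54663 = N52998 := ded_32_1 (flp_h L717748) (flp_c L717692) L735297
theorem L735305 : sm ge N54663 = N52995 := ded_43_1 (flp_h L717704) (flp_e L717696) L735297
theorem L735307 : sm gf N54663 = N54378 := ded_47_1 (flp_h L731809) (flp_f L717698) L735297
theorem L735309 : sm gg N54663 = N53969 := ded_50_1 (flp_h L728547) (flp_g L717700) L735297
theorem L735311 : sm gj N54663 = N54396 := ded_52_1 (flp_h L731937) (flp_j L717702) L735297
theorem L735313 : sm gd N52995 = N54664 := rfl
theorem L735315 : sm ga N54664 = N53080 := ded_12_1 (flp_d L718773) (flp_a L717706) L735313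
theorem L735317 : sm gb N54664 = N54424 := ded_20_1 L732127 (flp_b L717708) L735313
theorem L735319 : sm gf N54664 = N52999 := ded_35_2 (flp_d L717756) (flp_f L717712) L735313
theorem L735321 : sm gg N54664 = N53970 := ded_36_2 (flp_d L728555) (flp_g L717714) L735313
theorem L735323 : sm gj N54664 = N54455 := ded_37_2 (flp_d L732368) (flp_j L717716) L735313
theorem L735325 : sm gc N54664 = N54422 := ded_27_1 (flp_d L732113) L713823 (flp_d L698204) (flp_c L717710) L735313
theorem L735327 : sm gh N54664 = N53012 := ded_38_2 (flp_d L717941) (flp_h L698450) (flp_d L698168) L717704 L735313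
theorem L735329 : sm gj N52996 = N54665 := rfl
theorem L735331 : sm ga N54665 = N53081 := ded_16_1 (flp_j L718781) (flp_a L717720) L735329
theorem L735333 : sm gb N54665 = N53289 := ded_24_1 L721417 (flp_b L717722) L735329
theorem L735335 : sm gc N54665 = N53749 := ded_31_1 L726338 (flp_c L717724) L735329
theorem L735337 : sm gd N54665 = N53287 := ded_37_1 L721393 (flp_d L717726) L735329
theorem L735339 : sm ge N54665 = N53000 := ded_42_1 (flp_j L717772) (flp_e L717728) L735329
theorem L735341 : sm gf N54665 = N53524 := ded_46_1 L723886 (flp_f L717732) L735329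
theorem L735343 : sm gh N54665 = N54265 := ded_52_2 L730963 (flp_h L717730) L735329
theorem L735345 : sm gg N54665 = N53450 := ded_49_1 L723160 L703907 (flp_j L698184) L717718 L735329
theorem L735347 : sm gi N52996 = N54666 := rfl
theorem L735349 : sm ga N54666 = N53082 := ded_18_1 (flp_i L718789) (flp_a L717720) L735347
theorem L735351 : sm gb N54666 = N53538 := ded_26_1 (flp_i L724061) (flp_b L717722) L735347
theorem L735353 : sm gc N54666 = N53849 := ded_33_1 L727221 (flp_c L717724) L735347
theorem L735355 : sm gd N54666 = N54201 := ded_39_1 (flp_i L730528) (flp_d L717726) L735347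
theorem L735357 : sm ge N54666 = N53001 := ded_44_1 (flp_i L717788) (flp_e L717728) L735347
theorem L735359 : sm gf N54666 = N53528 := ded_48_1 (flp_i L723931) (flp_f L717732) L735347
theorem L735361 : sm gg N54666 = N52997 := ded_51_1 (flp_i L717734) L717718 L735347
theorem L735363 : sm gh N52997 = N54667 := rfl
theorem L735365 : sm ga N54667 = N53083 := ded_17_1 (flp_h L718799) (flp_a L717736) L735363
theorem L735367 : sm gc N54667 = N54378 := ded_32_1 (flp_h L731809) (flp_c L717738) L735363
theorem L735369 : sm ge N54667 = N53002 := ded_43_1 (flp_h L717802) (flp_e L717742) L735363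
theorem L735371 : sm gf N54667 = N52998 := ded_47_1 (flp_h L717748) (flp_f L717744) L735363
theorem L735373 : sm gj N54667 = N54217 := ded_52_1 (flp_h L730640) (flp_j L717746) L735363
theorem L735375 : sm gd N52998 = N54668 := rfl
theorem L735377 : sm ga N54668 = N53084 := ded_12_1 (flp_d L718807) (flp_a L717750) L735375
theorem L735379 : sm gg N54668 = N53972 := ded_36_2 (flp_d L728575) (flp_g L717754) L735375
theorem L735381 : sm ge N54668 = N54406 := ded_34_2 (flp_d L731993) L713676 (flp_d L698204) (flp_e L717752) L735375
theorem L735383 : sm gi N53000 = N54669 := rfl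
theorem L735385 : sm ga N54669 = N53100 := ded_18_1 (flp_i L719007) (flp_a L717774) L735383
theorem L735387 : sm gb N54669 = N53314 := ded_26_1 (flp_i L721688) (flp_b L717776) L735383
theorem L735389 : sm gc N54669 = N53843 := ded_33_1 (flp_i L727151) (flp_c L717778) L735383
theorem L735391 : sm gd N54669 = N53007 := ded_39_1 (flp_i L717872) (flp_d L717780) L735383
theorem L735393 : sm gf N54669 = N53004 := ded_48_1 (flp_i L717826) (flp_f L717782) L735383
theorem L735395 : sm gg N54669 = N53506 := ded_51_1 (flp_i L723678) (flp_g L717786) L735383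
theorem L735397 : sm gj N54669 = N53001 := ded_53_1 (flp_i L717788) L717772 L735383
theorem L735399 : sm gh N53001 = N54670 := rfl
theorem L735401 : sm ga N54670 = N53101 := ded_17_1 (flp_h L719017) (flp_a L717790) L735399
theorem L735403 : sm gb N54670 = N53541 := ded_25_1 (flp_h L724096) (flp_b L717792) L735399
theorem L735405 : sm gc N54670 = N53780 := ded_32_1 L726624 (flp_c L717794) L735399
theorem L735407 : sm gf N54670 = N53005 := ded_47_1 (flp_h L717841) (flp_f L717798) L735399
theorem L735409 : sm gg N54670 = N53002 := ded_50_1 (flp_h L717802) (flp_g L717800) L735399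
theorem L735411 : sm gi N54670 = N54290 := ded_54_2 (flp_h L731155) (flp_i L712720) (flp_h L698243) L717788 L735399
theorem L735413 : sm gd N53002 = N54671 := rfl
theorem L735415 : sm ga N54671 = N53102 := ded_12_1 (flp_d L719025) (flp_a L717804) L735413
theorem L735417 : sm gf N54671 = N53003 := ded_35_2 (flp_d L717812) (flp_f L717808) L735413
theorem L735419 : sm gj N54671 = N54243 := ded_37_2 (flp_d L730808) (flp_j L717810) L735413
theorem L735421 : sm gc N54671 = N54064 := ded_27_1 (flp_d L729475) L710542 L713602 (flp_c L717806) L735413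
theorem L735423 : sm gh N54671 = N53009 := ded_38_2 (flp_d L717903) (flp_h L698370) (flp_d L698253) L717802 L735413
theorem L735425 : sm gh N53004 = N54672 := rfl
theorem L735427 : sm ga N54672 = N53109 := ded_17_1 (flp_h L719123) (flp_a L717828) L735425
theorem L735429 : sm gb N54672 = N53540 := ded_25_1 (flp_h L724083) (flp_b L717830) L735425
theorem L735431 : sm gc N54672 = N53798 := ded_32_1 L726765 (flp_c L717832) L735425
theorem L735433 : sm ge N54672 = N53531 := ded_43_1 (flp_h L723969) (flp_e L717836) L735425
theorem L735435 : sm gg N54672 = N54672 := ded_50_1 (flp_h L735425) L717838 L735425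
theorem L735436 : sm gj N54672 = N53005 := ded_52_1 (flp_h L717841) (flp_j L717839) L735425
theorem L735438 : sm gi N54672 = N54286 := ded_54_2 (flp_h L731121) (flp_i L712666) (flp_h L698298) L717826 L735425
theorem L735440 : sm gd N53005 = N54673 := rfl
theorem L735442 : sm ga N54673 = N53110 := ded_12_1 (flp_d L719132) (flp_a L717843) L735440
theorem L735444 : sm gb N54673 = N53542 := ded_20_1 (flp_d L724106) (flp_b L717845) L735440
theorem L735446 : sm gg N54673 = N53006 := ded_36_2 (flp_d L717855) (flp_g L717851) L735440
theorem L735448 : sm gi N54673 = N54291 := ded_39_2 (flp_d L731163) (flp_i L717853) L735440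
theorem L735450 : sm gc N54673 = N53095 := ded_27_1 (flp_d L718947) L699187 L707294 (flp_c L717847) L735440
theorem L735452 : sm ge N54673 = N53589 := ded_34_2 (flp_d L724632) L705381 (flp_d L704675) (flp_e L717849) L735440
theorem L735454 : sm gh N54673 = N53011 := ded_38_2 (flp_d L717928) (flp_h L698409) (flp_d L698309) L717841 L735440
theorem L735456 : sm gh N53007 = N54674 := rfl
theorem L735458 : sm ga N54674 = N53116 := ded_17_1 (flp_h L719205) (flp_a L717874) L735456
theorem L735460 : sm gb N54674 = N53315 := ded_25_1 (flp_h L721702) (flp_b L717876) L735456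
theorem L735462 : sm gc N54674 = N53144 := ded_32_1 L719544 (flp_c L717878) L735456
theorem L735464 : sm ge N54674 = N53313 := ded_43_1 (flp_h L721673) (flp_e L717880) L735456
theorem L735466 : sm gf N54674 = N53010 := ded_47_1 (flp_h L717914) (flp_f L717882) L735456
theorem L735468 : sm gg N54674 = N53507 := ded_50_1 (flp_h L723689) (flp_g L717884) L735456
theorem L735470 : sm gj N54674 = N53008 := ded_52_1 (flp_h L717888) (flp_j L717886) L735456
theorem L735472 : sm gi N54674 = N54674 := ded_54_2 (flp_h L735456) (flp_i L717872) L698353 L717872 L735456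
theorem L735473 : sm gd N53008 = N54675 := rfl
theorem L735475 : sm ga N54675 = N53117 := ded_12_1 (flp_d L719216) (flp_a L717890) L735473
theorem L735477 : sm gb N54675 = N53544 := ded_20_1 (flp_d L724130) (flp_b L717892) L735473
theorem L735479 : sm gf N54675 = N53011 := ded_35_2 (flp_d L717928) (flp_f L717898) L735473
theorem L735481 : sm gg N54675 = N53009 := ded_36_2 (flp_d L717903) (flp_g L717900) L735473
theorem L735483 : sm gi N54675 = N54675 := ded_39_2 (flp_d L735473) L717902 L735473
theorem L735484 : sm gc N54675 = N53132 := ded_27_1 (flp_d L719400) L699627 L699853 (flp_c L717894) L735473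
theorem L735486 : sm ge N53009 = N54676 := rfl
theorem L735488 : sm ga N54676 = N53119 := ded_13_1 (flp_e L719234) (flp_a L717905) L735486
theorem L735490 : sm gc N54676 = N54112 := ded_28_1 (flp_e L729861) (flp_c L717912) L735486
theorem L735492 : sm gj N54676 = N54244 := ded_42_2 (flp_e L730814) (flp_j L717909) L735486
theorem L735494 : sm gi N54676 = N54676 := ded_44_2 (flp_e L735486) L717911 L735486
theorem L735495 : sm gd N54676 = N54237 := ded_34_1 (flp_e L730770) (flp_d L712247) (flp_e L698376) L717903 L735486
theorem L735497 : sm gf N54676 = N53838 := ded_40_2 (flp_e L727110) L707537 (flp_e L698394) (flp_f L717907) L735486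
theorem L735499 : sm gd N53010 = N54677 := rfl
theorem L735501 : sm ga N54677 = N53121 := ded_12_1 (flp_d L719250) (flp_a L717916) L735499
theorem L735503 : sm gb N54677 = N53543 := ded_20_1 (flp_d L724118) (flp_b L717918) L735499
theorem L735505 : sm gg N54677 = N54677 := ded_36_2 (flp_d L735499) L717924 L735499
theorem L735506 : sm gj N54677 = N53011 := ded_37_2 (flp_d L717928) (flp_j L717925) L735499
theorem L735508 : sm gi N54677 = N54677 := ded_39_2 (flp_d L735499) L717927 L735499
theorem L735509 : sm gc N54677 = N53138 := ded_27_1 (flp_d L719466) L699700 L699875 (flp_c L717920) L735499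
theorem L735511 : sm ge N54677 = N53596 := ded_34_2 (flp_d L724699) L705482 (flp_d L698447) (flp_e L717922) L735499
theorem L735513 : sm ge N53012 = N54678 := rfl
theorem L735515 : sm ga N54678 = N53136 := ded_13_1 (flp_e L719447) (flp_a L717943) L735513
theorem L735517 : sm gb N54678 = N54468 := ded_21_1 L732461 (flp_b L717945) L735513
theorem L735519 : sm gc N54678 = N54467 := ded_28_1 (flp_e L732453) (flp_c L717954) L735513
theorem L735521 : sm gg N54678 = N53995 := ded_41_2 (flp_e L728817) (flp_g L717949) L735513
theorem L735523 : sm gj N54678 = N54459 := ded_42_2 (flp_e L732395) (flp_j L717951) L735513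
theorem L735525 : sm gi N54678 = N54678 := ded_44_2 (flp_e L735513) L717953 L735513
theorem L735526 : sm gd N54678 = N54463 := ded_34_1 (flp_e L732428) (flp_d L714374) (flp_e L698458) L717941 L735513
theorem L735528 : sm gf N54678 = N54466 := ded_40_2 (flp_e L732448) L714403 (flp_e L698480) (flp_f L717947) L735513
theorem L735530 : sm gb N53013 = N54679 := rfl
theorem L735532 : sm gd N54679 = N54679 := ded_20_2 (flp_b L735530) L717967 L735530
theorem L735533 : sm gf N54679 = N54679 := ded_22_2 (flp_b L735530) L717960 L735530
theorem L735534 : sm gg N54679 = N54079 := ded_23_2 L729570 (flp_g L717961) L735530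
theorem L735536 : sm gj N54679 = N53016 := ded_24_2 (flp_b L717991) (flp_j L717963) L735530
theorem L735538 : sm gh N54679 = N53689 := ded_25_2 L725718 (flp_h L717965) L735530
theorem L735540 : sm ga N54679 = N53409 := ded_10_1 (flp_b L722769) (flp_a L721981) L721990 (flp_a L717958) L735530
theorem L735542 : sm gc N54679 = N53683 := ded_19_2 (flp_b L725657) (flp_c L706433) (flp_b L698484) L717956 L735530
theorem L735544 : sm ge N53013 = N54680 := rfl
theorem L735546 : sm ga N54680 = N54048 := ded_13_1 L729336 (flp_a L717958) L735544
theorem L735548 : sm gc N54680 = N53014 := ded_28_1 (flp_e L717968) L717956 L735544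
theorem L735550 : sm gg N54680 = N54351 := ded_41_2 L731601 (flp_g L717961) L735544
theorem L735552 : sm gj N54680 = N53017 := ded_42_2 (flp_e L718001) (flp_j L717963) L735544
theorem L735554 : sm gh N54680 = N53957 := ded_43_2 L728434 (flp_h L717965) L735544
theorem L735556 : sm gi N53013 = N54681 := rfl
theorem L735558 : sm ga N54681 = N54105 := ded_18_1 (flp_i L729822) (flp_a L717958) L735556
theorem L735560 : sm gc N54681 = N53015 := ded_33_1 (flp_i L717980) L717956 L735556
theorem L735562 : sm gd N54681 = N54681 := ded_39_1 (flp_i L735556) L717967 L735556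
theorem L735563 : sm gf N54681 = N54681 := ded_48_1 (flp_i L735556) L717960 L735556
theorem L735564 : sm gg N54681 = N54364 := ded_51_1 (flp_i L731700) (flp_g L717961) L735556
theorem L735566 : sm gj N54681 = N53018 := ded_53_1 (flp_i L718011) (flp_j L717963) L735556
theorem L735568 : sm gf N53014 = N54682 := rfl
theorem L735570 : sm ga N54682 = N54193 := ded_14_1 L733756 L733742 L735568
theorem L735572 : sm gb N54682 = N53686 := ded_22_1 (flp_f L725689) (flp_b L717970) L735568
theorem L735574 : sm gd N54682 = N53027 := ded_35_1 (flp_f L718110) (flp_d L717978) L735568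
theorem L735576 : sm gj N54682 = N53019 := ded_46_2 (flp_f L718021) (flp_j L717974) L735568
theorem L735578 : sm gh N54682 = N54176 := ded_47_2 L730349 (flp_h L717976) L735568
theorem L735580 : sm ge N54682 = N54682 := ded_40_1 (flp_f L735568) (flp_e L717968) L698486 L717968 L735568
theorem L735581 : sm gi N53014 = N54683 := rfl
theorem L735583 : sm gb N54683 = N53687 := ded_26_1 (flp_i L725696) (flp_b L717970) L735581
theorem L735585 : sm gd N54683 = N53028 := ded_39_1 (flp_i L718124) (flp_d L717978) L735581
theorem L735587 : sm ge N54683 = N53015 := ded_44_1 (flp_i L717980) L717968 L735581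
theorem L735589 : sm gg N54683 = N54355 := ded_51_1 (flp_i L731627) (flp_g L717972) L735581
theorem L735591 : sm gj N54683 = N53020 := ded_53_1 (flp_i L718032) (flp_j L717974) L735581
theorem L735593 : sm gh N53015 = N54684 := rfl
theorem L735595 : sm gb N54684 = N53688 := ded_25_1 (flp_h L725704) (flp_b L717982) L735593
theorem L735597 : sm gf N54684 = N54684 := ded_47_1 (flp_h L735593) L717986 L735593
theorem L735598 : sm gg N54684 = N54367 := ded_50_1 (flp_h L731726) (flp_g L717987) L735593
theorem L735600 : sm gj N54684 = N53021 := ded_52_1 (flp_h L718042) (flp_j L717989) L735593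
theorem L735602 : sm gi N54684 = N54416 := ded_54_2 (flp_h L732068) (flp_i L713757) (flp_h L698491) L717980 L735593
theorem L735604 : sm ga N53016 = N54685 := rfl
theorem L735606 : sm gc N54685 = N53689 := ded_11_2 (flp_a L725709) (flp_c L717999) L735604
theorem L735608 : sm gd N54685 = N54685 := ded_12_2 (flp_a L735604) L717993 L735604
theorem L735609 : sm gf N54685 = N54685 := ded_14_2 (flp_a L735604) L717994 L735604
theorem L735610 : sm gg N54685 = N54001 := ded_15_2 (flp_a L728873) (flp_g L717995) L735604
theorem L735612 : sm gj N54685 = N53409 := ded_16_2 (flp_a L735540) L735536 L735604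
theorem L735614 : sm gh N54685 = N53683 := ded_17_2 L725666 (flp_h L717997) L735604
theorem L735616 : sm gb N54685 = N53406 := ded_10_2 L722736 L710982 (flp_a L698507) L717991 L735604
theorem L735618 : sm ge N53016 = N54686 := rfl
theorem L735620 : sm gb N54686 = N53017 := ded_21_1 (flp_e L718001) L717991 L735618
theorem L735622 : sm gc N54686 = N53690 := ded_28_1 (flp_e L725720) (flp_c L717999) L735618
theorem L735624 : sm gg N54686 = N54002 := ded_41_2 (flp_e L728886) (flp_g L717995) L735618
theorem L735626 : sm gh N54686 = N53963 := ded_43_2 L728496 (flp_h L717997) L735618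
theorem L735628 : sm gi N53016 = N54687 := rfl
theorem L735630 : sm gb N54687 = N53018 := ded_26_1 (flp_i L718011) L717991 L735628
theorem L735632 : sm gc N54687 = N53691 := ded_33_1 (flp_i L725726) (flp_c L717999) L735628
theorem L735634 : sm gd N54687 = N54687 := ded_39_1 (flp_i L735628) L717993 L735628
theorem L735635 : sm gf N54687 = N54687 := ded_48_1 (flp_i L735628) L717994 L735628
theorem L735636 : sm gg N54687 = N54003 := ded_51_1 (flp_i L728898) (flp_g L717995) L735628
theorem L735638 : sm gd N53017 = N54688 := rfl
theorem L735640 : sm ga N54688 = N54023 := ded_12_1 L729101 (flp_a L718003) L735638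
theorem L735642 : sm gg N54688 = N54004 := ded_36_2 (flp_d L728909) (flp_g L718007) L735638
theorem L735644 : sm gc N54688 = N53032 := ded_27_1 (flp_d L718169) L698601 (flp_d L698523) (flp_c L718005) L735638
theorem L735646 : sm ge N54688 = N54688 := ded_34_2 (flp_d L735638) (flp_e L718001) L698514 L718001 L735638
theorem L735647 : sm gh N54688 = N53943 := ded_38_2 (flp_d L728295) L709421 L709597 (flp_h L718009) L735638
theorem L735649 : sm gf N53017 = N54689 := rfl
theorem L735651 : sm ga N54689 = N54066 := ded_14_1 L729497 (flp_a L718003) L735649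
theorem L735653 : sm gc N54689 = N53019 := ded_29_1 (flp_f L718021) (flp_c L718005) L735649
theorem L735655 : sm gh N54689 = N53966 := ded_47_2 (flp_f L728514) (flp_h L718009) L735649
theorem L735657 : sm ge N54689 = N54689 := ded_40_1 (flp_f L735649) (flp_e L718001) L698509 L718001 L735649
theorem L735658 : sm gg N54689 = N54329 := ded_45_2 (flp_f L731438) L713072 (flp_f L710045) (flp_g L718007) L735649
theorem L735660 : sm gi N53017 = N54690 := rfl
theorem L735662 : sm ga N54690 = N54068 := ded_18_1 (flp_i L729506) (flp_a L718003) L735660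
theorem L735664 : sm gc N54690 = N53020 := ded_33_1 (flp_i L718032) (flp_c L718005) L735660
theorem L735666 : sm ge N54690 = N53018 := ded_44_1 (flp_i L718011) L718001 L735660
theorem L735668 : sm gg N54690 = N54005 := ded_51_1 (flp_i L728918) (flp_g L718007) L735660
theorem L735670 : sm gh N53018 = N54691 := rfl
theorem L735672 : sm ga N54691 = N54113 := ded_17_1 (flp_h L729866) (flp_a L718013) L735670
theorem L735674 : sm gc N54691 = N53021 := ded_32_1 (flp_h L718042) (flp_c L718015) L735670
theorem L735676 : sm gf N54691 = N54691 := ded_47_1 (flp_h L735670) L718018 L735670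
theorem L735677 : sm gg N54691 = N54006 := ded_50_1 (flp_h L728928) (flp_g L718019) L735670
theorem L735679 : sm gi N54691 = N53993 := ded_54_2 (flp_h L728800) (flp_i L709924) (flp_h L698512) L718011 L735670
theorem L735681 : sm gi N53019 = N54692 := rfl
theorem L735683 : sm gb N54692 = N53697 := ded_26_1 (flp_i L725778) (flp_b L718023) L735681
theorem L735685 : sm gd N54692 = N53037 := ded_39_1 (flp_i L718224) (flp_d L718025) L735681
theorem L735687 : sm ge N54692 = N54692 := ded_44_1 (flp_i L735681) L718029 L735681
theorem L735688 : sm gf N54692 = N53020 := ded_48_1 (flp_i L718032) L718021 L735681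
theorem L735690 : sm gg N54692 = N54332 := ded_51_1 (flp_i L731462) (flp_g L718030) L735681
theorem L735692 : sm gh N53020 = N54693 := rfl
theorem L735694 : sm gb N54693 = N53698 := ded_25_1 (flp_h L725785) (flp_b L718034) L735692
theorem L735696 : sm ge N54693 = N53021 := ded_43_1 (flp_h L718042) (flp_e L718038) L735692
theorem L735698 : sm gg N54693 = N54007 := ded_50_1 (flp_h L728938) (flp_g L718040) L735692
theorem L735700 : sm gi N54693 = N54383 := ded_54_2 (flp_h L731847) (flp_i L713526) (flp_h L698521) L718032 L735692
theorem L735702 : sm gf N53022 = N54694 := rfl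
theorem L735704 : sm gb N54694 = N53701 := ded_22_1 (flp_f L725818) (flp_b L718053) L735702
theorem L735706 : sm gd N54694 = N53721 := ded_35_1 L726034 (flp_d L718061) L735702
theorem L735708 : sm gj N54694 = N53696 := ded_46_2 L725776 (flp_j L718057) L735702
theorem L735710 : sm gh N54694 = N53058 := ded_47_2 (flp_f L718499) (flp_h L718059) L735702
theorem L735712 : sm ge N54694 = N54694 := ded_40_1 (flp_f L735702) (flp_e L718051) L698538 L718051 L735702
theorem L735713 : sm gi N53022 = N54695 := rfl
theorem L735715 : sm gb N54695 = N53702 := ded_26_1 (flp_i L725825) (flp_b L718053) L735713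
theorem L735717 : sm gd N54695 = N54355 := ded_39_1 (flp_i L731627) (flp_d L718061) L735713
theorem L735719 : sm ge N54695 = N53023 := ded_44_1 (flp_i L718063) L718051 L735713
theorem L735721 : sm gg N54695 = N53028 := ded_51_1 (flp_i L718124) (flp_g L718055) L735713
theorem L735723 : sm gj N54695 = N54010 := ded_53_1 (flp_i L728966) (flp_j L718057) L735713
theorem L735725 : sm gh N53023 = N54696 := rfl
theorem L735727 : sm gb N54696 = N53703 := ded_25_1 (flp_h L725833) (flp_b L718065) L735725
theorem L735729 : sm gf N54696 = N54696 := ded_47_1 (flp_h L735725) L718069 L735725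
theorem L735730 : sm gg N54696 = N53029 := ded_50_1 (flp_h L718132) (flp_g L718070) L735725
theorem L735732 : sm gj N54696 = N54011 := ded_52_1 (flp_h L728976) (flp_j L718072) L735725
theorem L735734 : sm gi N54696 = N53060 := ded_54_2 (flp_h L718516) (flp_i L698885) (flp_h L698543) L718063 L735725
theorem L735736 : sm ge N53024 = N54697 := rfl
theorem L735738 : sm ga N54697 = N53759 := ded_13_1 L726442 (flp_a L718083) L735736
theorem L735740 : sm gb N54697 = N53025 := ded_21_1 (flp_e L718087) L718074 L735736
theorem L735742 : sm gc N54697 = N53704 := ded_28_1 (flp_e L725842) (flp_c L718085) L735736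
theorem L735744 : sm gj N54697 = N53030 := ded_42_2 (flp_e L718142) (flp_j L718079) L735736
theorem L735746 : sm gh N54697 = N53062 := ded_43_2 (flp_e L718541) (flp_h L718081) L735736
theorem L735748 : sm gf N54697 = N53756 := ded_40_2 (flp_e L726390) L706956 (flp_e L698645) (flp_f L718077) L735736
theorem L735750 : sm gd N54697 = N54329 := ded_56_3 L731440 (flp_b L725769) (flp_a L733704) L733710 (flp_f L728386) (flp_e L709506) (flp_d L688503) L666351 L379505 L379503 (flp_h L261216) L179753 (flp_e L259107) (flp_d L373229) (flp_c L648477) L298400 (flp_a L648706) L651954 L651963 L353295 L243201 L644722 L205299 L641436 (flp_h L634449) L176720 (flp_e L256660) (flp_d L373284) (flp_c L649081) L648941 (flp_a L658398) L680418 L680427 L668715 L670279 L692185 (flp_b L707685) L707683 (flp_h L706310) L706307 (flp_e L725196) (flp_d L725188) L705958 (flp_b L705629) (flp_a L717196) (flp_h L734729) L734733 (flp_e L724807) L705626 (flp_c L705616) L684398 L662156 (flp_h L662581) L662577 L662628 L662635 (flp_c L685244) (flp_b L699073) (flp_a L699060) (flp_h L698650) (flp_f L718077) L735736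
theorem L735752 : sm gi N53024 = N54698 := rfl
theorem L735754 : sm ga N54698 = N53796 := ded_18_1 (flp_i L726734) (flp_a L718083) L735752
theorem L735756 : sm gb N54698 = N53026 := ded_26_1 (flp_i L718099) L718074 L735752
theorem L735758 : sm gc N54698 = N53705 := ded_33_1 (flp_i L725854) (flp_c L718085) L735752
theorem L735760 : sm gd N54698 = N54698 := ded_39_1 (flp_i L735752) L718076 L735752
theorem L735761 : sm gf N54698 = N53039 := ded_48_1 (flp_i L718242) (flp_f L718077) L735752
theorem L735763 : sm gj N54698 = N53031 := ded_53_1 (flp_i L718156) (flp_j L718079) L735752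
theorem L735765 : sm gd N53025 = N54699 := rfl
theorem L735767 : sm ga N54699 = N54347 := ded_12_1 L731578 (flp_a L718089) L735765
theorem L735769 : sm gb N54699 = N54329 := ded_20_1 (flp_d L735750) L735740 L735765
theorem L735771 : sm gf N54699 = N53869 := ded_35_2 L727464 (flp_f L718097) L735765
theorem L735773 : sm gj N54699 = N53032 := ded_37_2 (flp_d L718169) (flp_j L718093) L735765
theorem L735775 : sm ge N54699 = N54699 := ded_34_2 (flp_d L735765) (flp_e L718087) L698567 L718087 L735765
theorem L735776 : sm gh N54699 = N53871 := ded_38_2 L727484 L708236 (flp_d L698914) (flp_h L718095) L735765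
theorem L735778 : sm gi N53025 = N54700 := rfl
theorem L735780 : sm ga N54700 = N54395 := ded_18_1 (flp_i L731931) (flp_a L718089) L735778
theorem L735782 : sm gc N54700 = N53028 := ded_33_1 (flp_i L718124) (flp_c L718091) L735778
theorem L735784 : sm ge N54700 = N53026 := ded_44_1 (flp_i L718099) L718087 L735778
theorem L735786 : sm gf N54700 = N54312 := ded_48_1 (flp_i L731325) (flp_f L718097) L735778
theorem L735788 : sm gj N54700 = N53034 := ded_53_1 (flp_i L718190) (flp_j L718093) L735778
theorem L735790 : sm gh N53026 = N54701 := rfl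
theorem L735792 : sm ga N54701 = N54454 := ded_17_1 (flp_h L732362) (flp_a L718101) L735790
theorem L735794 : sm gc N54701 = N53029 := ded_32_1 (flp_h L718132) (flp_c L718103) L735790
theorem L735796 : sm gf N54701 = N53040 := ded_47_1 (flp_h L718256) (flp_f L718106) L735790
theorem L735798 : sm gj N54701 = N53035 := ded_52_1 (flp_h L718198) (flp_j L718108) L735790
theorem L735800 : sm gi N54701 = N53065 := ded_54_2 (flp_h L718579) (flp_i L698918) (flp_h L698565) L718099 L735790
theorem L735802 : sm gg N53027 = N54702 := rfl
theorem L735804 : sm ga N54702 = N53463 := ded_15_1 L723305 (flp_a L718112) L735802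
theorem L735806 : sm gb N54702 = N53709 := ded_23_1 (flp_g L725906) (flp_b L718114) L735802
theorem L735808 : sm gc N54702 = N53651 := ded_30_1 L725317 (flp_c L718116) L735802
theorem L735810 : sm ge N54702 = N53041 := ded_41_1 (flp_g L718269) (flp_e L718122) L735802
theorem L735812 : sm gh N54702 = N53066 := ded_50_2 (flp_g L718589) (flp_h L718120) L735802
theorem L735814 : sm gj N54341 = N54702 := ded_31_0 L735808 L725319 L731533
theorem L735816 : sm gi N53027 = N54703 := rfl
theorem L735818 : sm ga N54703 = N54216 := ded_18_1 (flp_i L730634) (flp_a L718112) L735816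
theorem L735820 : sm gb N54703 = N53710 := ded_26_1 (flp_i L725912) (flp_b L718114) L735816
theorem L735822 : sm gc N54703 = N54312 := ded_33_1 (flp_i L731325) (flp_c L718116) L735816
theorem L735824 : sm ge N54703 = N53042 := ded_44_1 (flp_i L718283) (flp_e L718122) L735816
theorem L735826 : sm gf N54703 = N53028 := ded_48_1 (flp_i L718124) L718110 L735816
theorem L735828 : sm gj N54703 = N53037 := ded_53_1 (flp_i L718224) (flp_j L718118) L735816
theorem L735830 : sm gh N53028 = N54704 := rfl
theorem L735832 : sm gb N54704 = N53711 := ded_25_1 (flp_h L725920) (flp_b L718126) L735830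
theorem L735834 : sm ge N54704 = N53029 := ded_43_1 (flp_h L718132) (flp_e L718128) L735830
theorem L735836 : sm gj N54704 = N53038 := ded_52_1 (flp_h L718232) (flp_j L718130) L735830
theorem L735838 : sm gi N54704 = N53068 := ded_54_2 (flp_h L718617) (flp_i L698944) (flp_h L698574) L718124 L735830
theorem L735840 : sm gd N53030 = N54705 := rfl
theorem L735842 : sm ga N54705 = N53775 := ded_12_1 L726571 (flp_a L718144) L735840
theorem L735844 : sm gb N54705 = N53032 := ded_20_1 (flp_d L718169) (flp_b L718146) L735840
theorem L735846 : sm gf N54705 = N53699 := ded_35_2 L725803 (flp_f L718154) L735840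
theorem L735848 : sm gg N54705 = N54018 := ded_36_2 (flp_d L729049) (flp_g L718150) L735840
theorem L735850 : sm gj N54705 = N54329 := ded_37_2 (flp_d L735750) L735744 L735840
theorem L735852 : sm ge N54705 = N54705 := ded_34_2 (flp_d L735840) (flp_e L718142) L698588 L718142 L735840
theorem L735853 : sm gh N54705 = N53750 := ded_56_7 (flp_f L726344) (flp_e L706913) L685436 (flp_c L663125) L364262 L250660 L250666 L175007 L254144 L254151 (flp_c L647131) (flp_b L254014) (flp_a L562332) (flp_h L268710) L268706 L184887 (flp_d L184881) (flp_c L182975) (flp_b L260951) (flp_a L379230) (flp_h L379228) (flp_f L615165) (flp_e L378350) L260078 L179012 L123412 L85260 L123475 L123480 L85282 (flp_d L85089) L85086 (flp_b L592392) L61579 (flp_h L42773) (flp_f L42521) (flp_e L61323) (flp_d L88674) L88673 L88672 (flp_a L643895) L115139 L80577 L56086 (flp_d L80899) (flp_c L116887) L116885 (flp_a L118762) L172240 (flp_f L248149) (flp_e L360659) L659625 L681989 (flp_b L702916) L702914 L682488 L682744 (flp_e L703917) (flp_d L723296) L723294 (flp_b L726569) (flp_a L735842)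
theorem L735855 : sm gc N53701 = N54705 := ded_29_3 L735846 L725795 L725818
theorem L735857 : sm gi N53030 = N54706 := rfl
theorem L735859 : sm ga N54706 = N53778 := ded_18_1 (flp_i L726598) (flp_a L718144) L735857
theorem L735861 : sm gb N54706 = N53034 := ded_26_1 (flp_i L718190) (flp_b L718146) L735857
theorem L735863 : sm gc N54706 = N53713 := ded_33_1 (flp_i L725940) (flp_c L718148) L735857
theorem L735865 : sm ge N54706 = N53031 := ded_44_1 (flp_i L718156) L718142 L735857
theorem L735867 : sm gf N54706 = N53773 := ded_48_1 (flp_i L726551) (flp_f L718154) L735857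
theorem L735869 : sm gg N54706 = N54020 := ded_51_1 (flp_i L729070) (flp_g L718150) L735857
theorem L735871 : sm gh N53031 = N54707 := rfl
theorem L735873 : sm ga N54707 = N53810 := ded_17_1 (flp_h L726873) (flp_a L718158) L735871
theorem L735875 : sm gb N54707 = N53035 := ded_25_1 (flp_h L718198) (flp_b L718160) L735871
theorem L735877 : sm gc N54707 = N53714 := ded_32_1 (flp_h L725948) (flp_c L718162) L735871
theorem L735879 : sm gf N54707 = N53044 := ded_47_1 (flp_h L718311) (flp_f L718165) L735871
theorem L735881 : sm gg N54707 = N54021 := ded_50_1 (flp_h L729078) (flp_g L718167) L735871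
theorem L735883 : sm gi N54707 = N53074 := ded_54_2 (flp_h L718695) (flp_i L698982) (flp_h L698593) L718156 L735871
theorem L735885 : sm gf N53032 = N54708 := rfl
theorem L735887 : sm ga N54708 = N53647 := ded_14_1 (flp_f L735126) L735122 L735885
theorem L735889 : sm gb N54708 = N53699 := ded_22_1 (flp_f L735846) L735844 L735885
theorem L735891 : sm gd N54708 = N53033 := ded_35_1 (flp_f L718174) L718169 L735885
theorem L735893 : sm gj N54708 = N53869 := ded_46_2 (flp_f L735771) L735773 L735885
theorem L735895 : sm ge N53675 = N54708 := ded_13_0 L735887 L725274 (flp_a L725557)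
theorem L735897 : sm gg N53704 = N54708 := ded_15_0 L735887 L725270 (flp_a L725844)
theorem L735899 : sm gh N53747 = N54708 := ded_17_0 L735887 L725276 (flp_a L726309)
theorem L735901 : sm gh N53032 = N54709 := rfl
theorem L735903 : sm ga N54709 = N54004 := ded_17_1 (flp_h L735135) L735122 L735901
theorem L735905 : sm gb N54709 = N53750 := ded_25_1 (flp_h L735853) L735844 L735901
theorem L735907 : sm gc N54709 = N53943 := ded_32_1 (flp_h L735647) L735644 L735901
theorem L735909 : sm ge N54709 = N54709 := ded_43_1 (flp_h L735901) L718173 L735901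
theorem L735910 : sm gf N54709 = N53747 := ded_47_1 L735899 (flp_f L735885) L735901
theorem L735912 : sm gg N54709 = N54023 := ded_50_1 (flp_h L729098) (flp_g L718171) L735901
theorem L735914 : sm gj N54709 = N53871 := ded_52_1 (flp_h L735776) L735773 L735901
theorem L735916 : sm gd N54709 = N53075 := ded_38_1 (flp_h L718705) (flp_d L698994) (flp_h L698605) L718169 L735901
theorem L735918 : sm gi N53032 = N54710 := rfl
theorem L735920 : sm gd N54710 = N53034 := ded_39_1 (flp_i L718190) L718169 L735918
theorem L735922 : sm ge N54710 = N54710 := ded_44_1 (flp_i L735918) L718173 L735918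
theorem L735923 : sm gg N54710 = N54024 := ded_51_1 (flp_i L729103) (flp_g L718171) L735918
theorem L735925 : sm gi N53033 = N54711 := rfl
theorem L735927 : sm ga N54711 = N53648 := ded_18_1 (flp_i L725278) (flp_a L718176) L735925
theorem L735929 : sm gb N54711 = N53773 := ded_26_1 (flp_i L726551) (flp_b L718178) L735925
theorem L735931 : sm gc N54711 = N53037 := ded_33_1 (flp_i L718224) (flp_c L718180) L735925
theorem L735933 : sm ge N54711 = N53045 := ded_44_1 (flp_i L718325) (flp_e L718186) L735925
theorem L735935 : sm gf N54711 = N53034 := ded_48_1 (flp_i L718190) L718174 L735925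
theorem L735937 : sm gg N54711 = N54308 := ded_51_1 (flp_i L731295) L718188 L735925
theorem L735939 : sm gj N54711 = N54312 := ded_53_1 (flp_i L731325) (flp_j L718182) L735925
theorem L735941 : sm gh N53034 = N54712 := rfl
theorem L735943 : sm gc N54712 = N53038 := ded_32_1 (flp_h L718232) (flp_c L718192) L735941
theorem L735945 : sm ge N54712 = N53035 := ded_43_1 (flp_h L718198) (flp_e L718194) L735941
theorem L735947 : sm gg N54712 = N54026 := ded_50_1 (flp_h L729118) (flp_g L718196) L735941
theorem L735949 : sm gi N54712 = N53079 := ded_54_2 (flp_h L718765) (flp_i L699020) (flp_h L698605) L718190 L735941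
theorem L735951 : sm gd N53035 = N54713 := rfl
theorem L735953 : sm gf N54713 = N53047 := ded_35_2 (flp_d L718359) (flp_f L718202) L735951
theorem L735955 : sm gg N54713 = N54027 := ded_36_2 (flp_d L729126) (flp_g L718204) L735951
theorem L735957 : sm gi N54713 = N53080 := ded_39_2 (flp_d L718773) (flp_i L718206) L735951
theorem L735959 : sm gh N54713 = N54713 := ded_38_2 (flp_d L735951) (flp_h L718198) L698611 L718198 L735951
theorem L735960 : sm gj N53036 = N54714 := rfl
theorem L735962 : sm ga N54714 = N54265 := ded_16_1 L730963 (flp_a L718210) L735960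
theorem L735964 : sm gb N54714 = N53721 := ded_24_1 (flp_j L726030) (flp_b L718212) L735960
theorem L735966 : sm gc N54714 = N53712 := ded_31_1 L725936 (flp_c L718214) L735960
theorem L735968 : sm gd N54714 = N53701 := ded_37_1 L725820 (flp_d L718216) L735960
theorem L735970 : sm ge N54714 = N53048 := ded_42_1 (flp_j L718366) (flp_e L718218) L735960
theorem L735972 : sm gf N54714 = N53681 := ded_46_1 L725637 (flp_f L718222) L735960
theorem L735974 : sm gh N54714 = N53081 := ded_52_2 (flp_j L718781) (flp_h L718220) L735960
theorem L735976 : sm gg N54714 = N54341 := ded_49_1 L735814 (flp_g L735802) L718118 L718208 L735960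
theorem L735978 : sm gi N53036 = N54715 := rfl
theorem L735980 : sm ga N54715 = N54277 := ded_18_1 (flp_i L731063) (flp_a L718210) L735978
theorem L735982 : sm gb N54715 = N53722 := ded_26_1 (flp_i L726038) (flp_b L718212) L735978
theorem L735984 : sm gc N54715 = N54308 := ded_33_1 (flp_i L731295) (flp_c L718214) L735978
theorem L735986 : sm gd N54715 = N54332 := ded_39_1 (flp_i L731462) (flp_d L718216) L735978
theorem L735988 : sm ge N54715 = N53049 := ded_44_1 (flp_i L718381) (flp_e L718218) L735978
theorem L735990 : sm gf N54715 = N54028 := ded_48_1 (flp_i L729133) (flp_f L718222) L735978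
theorem L735992 : sm gg N54715 = N53037 := ded_51_1 (flp_i L718224) L718208 L735978
theorem L735994 : sm gh N53037 = N54716 := rfl
theorem L735996 : sm gb N54716 = N53723 := ded_25_1 (flp_h L726046) (flp_b L718226) L735994
theorem L735998 : sm ge N54716 = N53050 := ded_43_1 (flp_h L718394) (flp_e L718228) L735994
theorem L736000 : sm gf N54716 = N53038 := ded_47_1 (flp_h L718232) (flp_f L718230) L735994
theorem L736002 : sm gi N54716 = N53083 := ded_54_2 (flp_h L718799) (flp_i L699044) (flp_h L698620) L718224 L735994
theorem L736004 : sm gd N53038 = N54717 := rfl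
theorem L736006 : sm gb N54717 = N53724 := ded_20_1 (flp_d L726054) (flp_b L718234) L736004
theorem L736008 : sm gg N54717 = N54030 := ded_36_2 (flp_d L729157) (flp_g L718238) L736004
theorem L736010 : sm gi N54717 = N53084 := ded_39_2 (flp_d L718807) (flp_i L718240) L736004
theorem L736012 : sm gh N53039 = N54718 := rfl
theorem L736014 : sm ga N54718 = N53797 := ded_17_1 (flp_h L726745) (flp_a L718244) L736012
theorem L736016 : sm gb N54718 = N53040 := ded_25_1 (flp_h L718256) (flp_b L718246) L736012
theorem L736018 : sm gc N54718 = N53725 := ded_32_1 (flp_h L726060) (flp_c L718248) L736012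
theorem L736020 : sm ge N54718 = N53795 := ded_43_1 (flp_h L726723) (flp_e L718251) L736012
theorem L736022 : sm gg N54718 = N54718 := ded_50_1 (flp_h L736012) L718253 L736012
theorem L736023 : sm gj N54718 = N53044 := ded_52_1 (flp_h L718311) (flp_j L718254) L736012
theorem L736025 : sm gi N54718 = N53086 := ded_54_2 (flp_h L718828) (flp_i L699075) (flp_h L698650) L718242 L736012
theorem L736027 : sm gd N53040 = N54719 := rfl
theorem L736029 : sm ga N54719 = N54456 := ded_12_1 (flp_d L732374) (flp_a L718258) L736027
theorem L736031 : sm gg N54719 = N54719 := ded_36_2 (flp_d L736027) L718264 L736027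
theorem L736032 : sm gj N54719 = N53047 := ded_37_2 (flp_d L718359) (flp_j L718265) L736027
theorem L736034 : sm gi N54719 = N53087 := ded_39_2 (flp_d L718839) (flp_i L718267) L736027
theorem L736036 : sm gh N54719 = N54719 := ded_38_2 (flp_d L736027) (flp_h L718256) L698662 L718256 L736027
theorem L736037 : sm gi N53041 = N54720 := rfl
theorem L736039 : sm ga N54720 = N53516 := ded_18_1 (flp_i L723803) (flp_a L718271) L736037
theorem L736041 : sm gb N54720 = N53730 := ded_26_1 (flp_i L726125) (flp_b L718273) L736037
theorem L736043 : sm gc N54720 = N53679 := ded_33_1 (flp_i L725607) (flp_c L718275) L736037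
theorem L736045 : sm gd N54720 = N54720 := ded_39_1 (flp_i L736037) L718277 L736037
theorem L736046 : sm gf N54720 = N54720 := ded_48_1 (flp_i L736037) L718280 L736037
theorem L736047 : sm gg N54720 = N53042 := ded_51_1 (flp_i L718283) L718269 L736037
theorem L736049 : sm gj N54720 = N54443 := ded_53_1 (flp_i L732278) L718281 L736037
theorem L736051 : sm gh N53042 = N54721 := rfl
theorem L736053 : sm ga N54721 = N54242 := ded_17_1 (flp_h L730800) (flp_a L718285) L736051
theorem L736055 : sm gb N54721 = N53731 := ded_25_1 (flp_h L726131) (flp_b L718287) L736051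
theorem L736057 : sm gc N54721 = N54318 := ded_32_1 (flp_h L731362) (flp_c L718289) L736051
theorem L736059 : sm gf N54721 = N53043 := ded_47_1 (flp_h L718296) (flp_f L718292) L736051
theorem L736061 : sm gj N54721 = N53050 := ded_52_1 (flp_h L718394) (flp_j L718294) L736051
theorem L736063 : sm gi N54721 = N53090 := ded_54_2 (flp_h L718876) (flp_i L699110) (flp_h L698679) L718283 L736051
theorem L736065 : sm gd N53043 = N54722 := rfl
theorem L736067 : sm ga N54722 = N54447 := ded_12_1 (flp_d L732301) (flp_a L718298) L736065
theorem L736069 : sm gb N54722 = N53732 := ded_20_1 (flp_d L726139) (flp_b L718300) L736065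
theorem L736071 : sm gg N54722 = N54722 := ded_36_2 (flp_d L736065) L718306 L736065
theorem L736072 : sm gj N54722 = N53051 := ded_37_2 (flp_d L718402) (flp_j L718307) L736065
theorem L736074 : sm gi N54722 = N53091 := ded_39_2 (flp_d L718888) (flp_i L718309) L736065
theorem L736076 : sm gh N54722 = N54722 := ded_38_2 (flp_d L736065) (flp_h L718296) L698689 L718296 L736065
theorem L736077 : sm gd N53044 = N54723 := rfl
theorem L736079 : sm ga N54723 = N53811 := ded_12_1 (flp_d L726879) (flp_a L718313) L736077
theorem L736081 : sm gb N54723 = N53047 := ded_20_1 (flp_d L718359) (flp_b L718315) L736077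
theorem L736083 : sm gg N54723 = N53052 := ded_36_2 (flp_d L718411) (flp_g L718321) L736077
theorem L736085 : sm gi N54723 = N53095 := ded_39_2 (flp_d L718947) (flp_i L718323) L736077
theorem L736087 : sm gc N54723 = N54291 := ded_27_1 (flp_d L731163) L712733 (flp_d L706744) (flp_c L718317) L736077
theorem L736089 : sm ge N54723 = N54102 := ded_34_2 (flp_d L729798) (flp_e L719100) L719104 (flp_e L718319) L736077
theorem L736091 : sm gh N54723 = N54723 := ded_38_2 (flp_d L736077) (flp_h L718311) L698712 L718311 L736077
theorem L736092 : sm gh N53045 = N54724 := rfl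
theorem L736094 : sm ga N54724 = N53649 := ded_17_1 (flp_h L725288) (flp_a L718327) L736092
theorem L736096 : sm gb N54724 = N53774 := ded_25_1 (flp_h L726559) (flp_b L718329) L736092
theorem L736098 : sm gc N54724 = N53050 := ded_32_1 (flp_h L718394) (flp_c L718331) L736092
theorem L736100 : sm gf N54724 = N53046 := ded_47_1 (flp_h L718341) (flp_f L718335) L736092
theorem L736102 : sm gg N54724 = N54309 := ded_50_1 (flp_h L731303) (flp_g L718337) L736092
theorem L736104 : sm gj N54724 = N54318 := ded_52_1 (flp_h L731362) (flp_j L718339) L736092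
theorem L736106 : sm gd N54724 = N54340 := ded_38_1 (flp_h L731525) L713163 (flp_h L706354) (flp_d L718333) L736092
theorem L736108 : sm gi N54724 = N53098 := ded_54_2 (flp_h L718985) (flp_i L699205) (flp_h L698729) L718325 L736092
theorem L736110 : sm ge N53047 = N54725 := rfl
theorem L736112 : sm ga N54725 = N54363 := ded_13_1 (flp_e L735209) L735197 L736110
theorem L736114 : sm gb N54725 = N54102 := ded_21_1 (flp_e L736089) L736081 L736110
theorem L736116 : sm gg N54725 = N53053 := ded_41_2 (flp_e L718427) (flp_g L718361) L736110
theorem L736118 : sm gh N54725 = N54725 := ded_43_2 (flp_e L736110) L718365 L736110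
theorem L736119 : sm gi N54725 = N53099 := ded_44_2 (flp_e L718997) (flp_i L718363) L736110
theorem L736121 : sm gd N54725 = N54100 := ded_34_1 L729785 (flp_d L718355) L718349 L718359 L736110
theorem L736123 : sm gi N53048 = N54726 := rfl
theorem L736125 : sm ga N54726 = N54285 := ded_18_1 (flp_i L731110) (flp_a L718368) L736123
theorem L736127 : sm gb N54726 = N53737 := ded_26_1 (flp_i L726201) (flp_b L718370) L736123
theorem L736129 : sm gc N54726 = N53864 := ded_33_1 (flp_i L727393) (flp_c L718372) L736123
theorem L736131 : sm gd N54726 = N54726 := ded_39_1 (flp_i L736123) L718374 L736123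
theorem L736132 : sm gf N54726 = N53054 := ded_48_1 (flp_i L718441) (flp_f L718375) L736123
theorem L736134 : sm gg N54726 = N54443 := ded_51_1 (flp_i L732278) (flp_g L718379) L736123
theorem L736136 : sm gj N54726 = N53049 := ded_53_1 (flp_i L718381) L718366 L736123
theorem L736138 : sm gh N53049 = N54727 := rfl
theorem L736140 : sm ga N54727 = N54290 := ded_17_1 (flp_h L731155) (flp_a L718383) L736138
theorem L736142 : sm gb N54727 = N53738 := ded_25_1 (flp_h L726208) (flp_b L718385) L736138
theorem L736144 : sm gc N54727 = N54309 := ded_32_1 (flp_h L731303) (flp_c L718387) L736138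
theorem L736146 : sm gf N54727 = N53055 := ded_47_1 (flp_h L718455) (flp_f L718390) L736138
theorem L736148 : sm gg N54727 = N53050 := ded_50_1 (flp_h L718394) (flp_g L718392) L736138
theorem L736150 : sm gi N54727 = N53101 := ded_54_2 (flp_h L719017) (flp_i L699245) (flp_h L698766) L718381 L736138
theorem L736152 : sm gd N53050 = N54728 := rfl
theorem L736154 : sm gb N54728 = N53739 := ded_20_1 (flp_d L726216) (flp_b L718396) L736152
theorem L736156 : sm gf N54728 = N53051 := ded_35_2 (flp_d L718402) (flp_f L718398) L736152
theorem L736158 : sm gi N54728 = N53102 := ded_39_2 (flp_d L719025) (flp_i L718400) L736152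
theorem L736160 : sm gh N54728 = N54728 := ded_38_2 (flp_d L736152) (flp_h L718394) L698774 L718394 L736152
theorem L736161 : sm gc N53051 = N54729 := rfl
theorem L736163 : sm ga N54729 = N54035 := ded_11_1 (flp_c L735240) L735230 L736161
theorem L736165 : sm gg N54729 = N53057 := ded_30_2 (flp_c L718485) (flp_g L718406) L736161
theorem L736167 : sm gh N54729 = N54729 := ded_32_2 (flp_c L736161) L718410 L736161
theorem L736168 : sm gi N54729 = N53103 := ded_33_2 (flp_c L719033) (flp_i L718408) L736161
theorem L736170 : sm gd N54729 = N53824 := ded_27_2 L726992 (flp_d L718355) L718347 L718402 L736161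
theorem L736172 : sm gb N53826 = N54729 := ded_10_0 L736163 L729218 (flp_a L728341) (flp_b L734411) L734409
theorem L736174 : sm gh N53054 = N54730 := rfl
theorem L736176 : sm ga N54730 = N54286 := ded_17_1 (flp_h L731121) (flp_a L718443) L736174
theorem L736178 : sm gb N54730 = N53743 := ded_25_1 (flp_h L726263) (flp_b L718445) L736174
theorem L736180 : sm gc N54730 = N54316 := ded_32_1 (flp_h L731345) (flp_c L718447) L736174
theorem L736182 : sm ge N54730 = N54038 := ded_43_1 (flp_h L729247) (flp_e L718450) L736174
theorem L736184 : sm gg N54730 = N54730 := ded_50_1 (flp_h L736174) L718452 L736174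
theorem L736185 : sm gj N54730 = N53055 := ded_52_1 (flp_h L718455) (flp_j L718453) L736174
theorem L736187 : sm gi N54730 = N53109 := ded_54_2 (flp_h L719123) (flp_i L699365) (flp_h L698838) L718441 L736174
theorem L736189 : sm gd N53055 = N54731 := rfl
theorem L736191 : sm ga N54731 = N54291 := ded_12_1 (flp_d L731163) (flp_a L718457) L736189
theorem L736193 : sm gb N54731 = N53744 := ded_20_1 (flp_d L726272) (flp_b L718459) L736189
theorem L736195 : sm gg N54731 = N53056 := ded_36_2 (flp_d L718469) (flp_g L718465) L736189
theorem L736197 : sm gi N54731 = N53110 := ded_39_2 (flp_d L719132) (flp_i L718467) L736189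
theorem L736199 : sm gc N54731 = N53811 := ded_27_1 (flp_d L726879) (flp_c L718935) L718943 (flp_c L718461) L736189
theorem L736201 : sm ge N54731 = N53614 := ded_34_2 (flp_d L724888) (flp_e L717144) L717148 (flp_e L718463) L736189
theorem L736203 : sm gh N54731 = N54731 := ded_38_2 (flp_d L736189) (flp_h L718455) L698849 L718455 L736189
theorem L736204 : sm gg N53058 = N54732 := rfl
theorem L736206 : sm ga N54732 = N53462 := ded_15_1 (flp_g L735256) L735247 L736204
theorem L736208 : sm gb N54732 = N53753 := ded_23_1 (flp_g L726370) (flp_b L718501) L736204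
theorem L736210 : sm gc N54732 = N53650 := ded_30_1 (flp_g L734212) L734205 L736204
theorem L736212 : sm gd N54732 = N53371 := ded_36_1 (flp_g L732846) L732838 L736204
theorem L736214 : sm ge N54732 = N54732 := ded_41_1 (flp_g L736204) L718505 L736204
theorem L736215 : sm gf N54732 = N53066 := ded_45_1 (flp_g L718589) (flp_f L698930) (flp_g L698881) L718499 L736204
theorem L736217 : sm gi N53058 = N54733 := rfl
theorem L736219 : sm gb N54733 = N53754 := ded_26_1 (flp_i L726375) (flp_b L718501) L736217
theorem L736221 : sm ge N54733 = N54733 := ded_44_1 (flp_i L736217) L718505 L736217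
theorem L736222 : sm gf N54733 = N53059 := ded_48_1 (flp_i L718506) L718499 L736217
theorem L736224 : sm gj N54733 = N54042 := ded_53_1 (flp_i L729278) (flp_j L718503) L736217
theorem L736226 : sm gh N53059 = N54734 := rfl
theorem L736228 : sm gb N54734 = N53755 := ded_25_1 (flp_h L726382) (flp_b L718508) L736226
theorem L736230 : sm ge N54734 = N53060 := ded_43_1 (flp_h L718516) (flp_e L718510) L736226
theorem L736232 : sm gg N54734 = N53068 := ded_50_1 (flp_h L718617) (flp_g L718512) L736226
theorem L736234 : sm gj N54734 = N54043 := ded_52_1 (flp_h L729285) (flp_j L718514) L736226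
theorem L736236 : sm ge N53061 = N54735 := rfl
theorem L736238 : sm ga N54735 = N53062 := ded_13_1 (flp_e L718541) L718525 L736236
theorem L736240 : sm gb N54735 = N53706 := ded_21_1 L725878 (flp_b L718539) L736236
theorem L736242 : sm gc N54735 = N53756 := ded_28_1 (flp_e L726390) (flp_c L718527) L736236
theorem L736244 : sm gg N54735 = N54022 := ded_41_2 (flp_e L729096) (flp_g L718533) L736236
theorem L736246 : sm gj N54735 = N53069 := ded_42_2 (flp_e L718625) (flp_j L718535) L736236
theorem L736248 : sm gh N54735 = N53759 := ded_43_2 L726442 (flp_h L718537) L736236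
theorem L736250 : sm gd N54735 = N53921 := ded_34_1 (flp_e L728050) L709073 (flp_e L699534) (flp_d L718529) L736236
theorem L736252 : sm gf N54735 = N53704 := ded_40_2 (flp_e L725842) L706529 (flp_e L699066) (flp_f L718531) L736236
theorem L736254 : sm gi N53061 = N54736 := rfl
theorem L736256 : sm ga N54736 = N53063 := ded_18_1 (flp_i L718553) L718525 L736254
theorem L736258 : sm gb N54736 = N53727 := ded_26_1 (flp_i L726088) (flp_b L718539) L736254
theorem L736260 : sm gc N54736 = N53757 := ded_33_1 (flp_i L726404) (flp_c L718527) L736254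
theorem L736262 : sm gd N54736 = N53123 := ded_39_1 (flp_i L719273) (flp_d L718529) L736254
theorem L736264 : sm gf N54736 = N53085 := ded_48_1 (flp_i L718813) (flp_f L718531) L736254
theorem L736266 : sm gg N54736 = N54432 := ded_51_1 (flp_i L732201) (flp_g L718533) L736254
theorem L736268 : sm gj N54736 = N53070 := ded_53_1 (flp_i L718639) (flp_j L718535) L736254
theorem L736270 : sm gi N53062 = N54737 := rfl
theorem L736272 : sm gb N54737 = N53064 := ded_26_1 (flp_i L718565) (flp_b L718543) L736270
theorem L736274 : sm gc N54737 = N53760 := ded_33_1 (flp_i L726444) (flp_c L718545) L736270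
theorem L736276 : sm gd N54737 = N53923 := ded_39_1 (flp_i L728078) (flp_d L718549) L736270
theorem L736278 : sm ge N54737 = N53063 := ded_44_1 (flp_i L718553) L718541 L736270
theorem L736280 : sm gf N54737 = N54310 := ded_48_1 (flp_i L731311) (flp_f L718551) L736270
theorem L736282 : sm gj N54737 = N53073 := ded_53_1 (flp_i L718685) (flp_j L718547) L736270
theorem L736284 : sm gh N53063 = N54738 := rfl
theorem L736286 : sm gb N54738 = N53065 := ded_25_1 (flp_h L718579) (flp_b L718555) L736284
theorem L736288 : sm gc N54738 = N53761 := ded_32_1 (flp_h L726452) (flp_c L718557) L736284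
theorem L736290 : sm gf N54738 = N53086 := ded_47_1 (flp_h L718828) (flp_f L718561) L736284
theorem L736292 : sm gj N54738 = N53074 := ded_52_1 (flp_h L718695) (flp_j L718563) L736284
theorem L736294 : sm gh N53064 = N54739 := rfl
theorem L736296 : sm ga N54739 = N54396 := ded_17_1 (flp_h L731937) (flp_a L718567) L736294
theorem L736298 : sm gc N54739 = N53068 := ded_32_1 (flp_h L718617) (flp_c L718569) L736294
theorem L736300 : sm ge N54739 = N53065 := ded_43_1 (flp_h L718579) (flp_e L718573) L736294
theorem L736302 : sm gf N54739 = N54313 := ded_47_1 (flp_h L731331) (flp_f L718575) L736294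
theorem L736304 : sm gj N54739 = N53079 := ded_52_1 (flp_h L718765) (flp_j L718577) L736294
theorem L736306 : sm gd N53065 = N54740 := rfl
theorem L736308 : sm ga N54740 = N54455 := ded_12_1 (flp_d L732368) (flp_a L718581) L736306
theorem L736310 : sm gf N54740 = N53087 := ded_35_2 (flp_d L718839) (flp_f L718585) L736306
theorem L736312 : sm gj N54740 = N53080 := ded_37_2 (flp_d L718773) (flp_j L718587) L736306
theorem L736314 : sm gh N54740 = N53125 := ded_38_2 (flp_d L719302) (flp_h L699557) (flp_d L698924) L718579 L736306
theorem L736316 : sm gj N53066 = N54741 := rfl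
theorem L736318 : sm ga N54741 = N53450 := ded_16_1 L723160 (flp_a L718591) L736316
theorem L736320 : sm gb N54741 = N53769 := ded_24_1 (flp_j L726527) (flp_b L718593) L736316
theorem L736322 : sm gc N54741 = N53640 := ded_31_1 L725194 (flp_c L718595) L736316
theorem L736324 : sm gd N54741 = N53363 := ded_37_1 L722278 (flp_d L718597) L736316
theorem L736326 : sm ge N54741 = N53088 := ded_42_1 (flp_j L718848) (flp_e L718599) L736316
theorem L736328 : sm gh N54741 = N54341 := ded_52_2 L735814 L735812 L736316
theorem L736330 : sm gg N54741 = N53081 := ded_49_1 (flp_j L718781) (flp_g L699036) (flp_j L698940) L718589 L736316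
theorem L736332 : sm gi N53066 = N54742 := rfl
theorem L736334 : sm ga N54742 = N53464 := ded_18_1 (flp_i L723307) (flp_a L718591) L736332
theorem L736336 : sm gb N54742 = N53770 := ded_26_1 (flp_i L726533) (flp_b L718593) L736332
theorem L736338 : sm gc N54742 = N53652 := ded_33_1 (flp_i L725323) (flp_c L718595) L736332
theorem L736340 : sm gd N54742 = N53372 := ded_39_1 (flp_i L722364) (flp_d L718597) L736332
theorem L736342 : sm ge N54742 = N53089 := ded_44_1 (flp_i L718863) (flp_e L718599) L736332
theorem L736344 : sm gg N54742 = N53067 := ded_51_1 (flp_i L718601) L718589 L736332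
theorem L736346 : sm gh N53067 = N54743 := rfl
theorem L736348 : sm ga N54743 = N54217 := ded_17_1 (flp_h L730640) (flp_a L718603) L736346
theorem L736350 : sm gb N54743 = N53771 := ded_25_1 (flp_h L726539) (flp_b L718605) L736346
theorem L736352 : sm gc N54743 = N54313 := ded_32_1 (flp_h L731331) (flp_c L718607) L736346
theorem L736354 : sm ge N54743 = N53090 := ded_43_1 (flp_h L718876) (flp_e L718611) L736346
theorem L736356 : sm gf N54743 = N53068 := ded_47_1 (flp_h L718617) (flp_f L718613) L736346
theorem L736358 : sm gj N54743 = N53083 := ded_52_1 (flp_h L718799) (flp_j L718615) L736346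
theorem L736360 : sm gd N53068 = N54744 := rfl
theorem L736362 : sm gb N54744 = N53772 := ded_20_1 (flp_d L726547) (flp_b L718619) L736360
theorem L736364 : sm gj N54744 = N53084 := ded_37_2 (flp_d L718807) (flp_j L718623) L736360
theorem L736366 : sm gd N53069 = N54745 := rfl
theorem L736368 : sm ga N54745 = N53071 := ded_12_1 (flp_d L718653) (flp_a L718627) L736366
theorem L736370 : sm gb N54745 = N53715 := ded_20_1 L725964 (flp_b L718629) L736366
theorem L736372 : sm gf N54745 = N53712 := ded_35_2 (flp_d L725928) (flp_f L718637) L736366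
theorem L736374 : sm gg N54745 = N53684 := ded_36_2 L725676 (flp_g L718633) L736366
theorem L736376 : sm gj N54745 = N53921 := ded_37_2 (flp_d L736250) L736246 L736366
theorem L736378 : sm gc N54745 = N53681 := ded_27_1 L725641 (flp_c L725795) L725803 (flp_c L718631) L736366
theorem L736380 : sm ge N54745 = N53126 := ded_34_2 (flp_d L719311) (flp_e L699570) (flp_d L698964) L718625 L736366
theorem L736382 : sm gh N54070 = N54745 := ded_52_0 L736376 L728060 L729514
theorem L736384 : sm gi N53069 = N54746 := rfl
theorem L736386 : sm ga N54746 = N53073 := ded_18_1 (flp_i L718685) (flp_a L718627) L736384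
theorem L736388 : sm gb N54746 = N53719 := ded_26_1 (flp_i L726008) (flp_b L718629) L736384
theorem L736390 : sm gc N54746 = N53773 := ded_33_1 (flp_i L726551) (flp_c L718631) L736384
theorem L736392 : sm ge N54746 = N53070 := ded_44_1 (flp_i L718639) L718625 L736384
theorem L736394 : sm gf N54746 = N53713 := ded_48_1 (flp_i L725940) (flp_f L718637) L736384
theorem L736396 : sm gg N54746 = N54056 := ded_51_1 (flp_i L729406) (flp_g L718633) L736384
theorem L736398 : sm gh N53070 = N54747 := rfl
theorem L736400 : sm ga N54747 = N53074 := ded_17_1 (flp_h L718695) (flp_a L718641) L736398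
theorem L736402 : sm gb N54747 = N53735 := ded_25_1 (flp_h L726177) (flp_b L718643) L736398
theorem L736404 : sm gc N54747 = N53774 := ded_32_1 (flp_h L726559) (flp_c L718645) L736398
theorem L736406 : sm gf N54747 = N53092 := ded_47_1 (flp_h L718899) (flp_f L718649) L736398
theorem L736408 : sm gg N54747 = N54057 := ded_50_1 (flp_h L729414) (flp_g L718651) L736398
theorem L736410 : sm gi N54747 = N53810 := ded_54_2 (flp_h L726873) (flp_i L707279) (flp_h L698970) L718639 L736398
theorem L736412 : sm gh N53071 = N54748 := rfl
theorem L736414 : sm ga N54748 = N54070 := ded_17_1 L736382 L736368 L736412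
theorem L736416 : sm gb N54748 = N53075 := ded_25_1 (flp_h L718705) (flp_b L718655) L736412
theorem L736418 : sm gc N54748 = N53524 := ded_32_1 L723888 (flp_c L718663) L736412
theorem L736420 : sm ge N54748 = N53129 := ded_43_1 (flp_h L719356) (flp_e L718661) L736412
theorem L736422 : sm gf N54748 = N53749 := ded_47_1 L726342 L718665 L736412
theorem L736424 : sm gg N54748 = N54059 := ded_50_1 (flp_h L729429) (flp_g L718657) L736412
theorem L736426 : sm gj N54748 = N53526 := ded_52_1 L723912 (flp_j L718659) L736412
theorem L736428 : sm gd N54748 = N53750 := ded_38_1 (flp_h L735853) (flp_d L735840) L718152 L718653 L736412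
theorem L736430 : sm gi N53071 = N54749 := rfl
theorem L736432 : sm gb N54749 = N53076 := ded_26_1 (flp_i L718719) (flp_b L718655) L736430
theorem L736434 : sm gc N54749 = N54266 := ded_33_1 (flp_i L730967) (flp_c L718663) L736430
theorem L736436 : sm gd N54749 = N53073 := ded_39_1 (flp_i L718685) L718653 L736430
theorem L736438 : sm ge N54749 = N53130 := ded_44_1 (flp_i L719371) (flp_e L718661) L736430
theorem L736440 : sm gf N54749 = N54304 := ded_48_1 (flp_i L731263) L718665 L736430
theorem L736442 : sm gg N54749 = N54060 := ded_51_1 (flp_i L729435) (flp_g L718657) L736430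
theorem L736444 : sm gj N54749 = N53923 := ded_53_1 (flp_i L728078) (flp_j L718659) L736430
theorem L736446 : sm gi N53072 = N54750 := rfl
theorem L736448 : sm ga N54750 = N53713 := ded_18_1 (flp_i L725940) (flp_a L718669) L736446
theorem L736450 : sm gb N54750 = N53078 := ded_26_1 (flp_i L718751) (flp_b L718671) L736446
theorem L736452 : sm gc N54750 = N53778 := ded_33_1 (flp_i L726598) (flp_c L718673) L736446
theorem L736454 : sm gd N54750 = N54304 := ded_39_1 (flp_i L731263) (flp_d L718675) L736446
theorem L736456 : sm ge N54750 = N53093 := ded_44_1 (flp_i L718913) (flp_e L718681) L736446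
theorem L736458 : sm gf N54750 = N53073 := ded_48_1 (flp_i L718685) L718667 L736446
theorem L736460 : sm gg N54750 = N54339 := ded_51_1 (flp_i L731519) L718683 L736446
theorem L736462 : sm gj N54750 = N54310 := ded_53_1 (flp_i L731311) (flp_j L718677) L736446
theorem L736464 : sm gh N53073 = N54751 := rfl
theorem L736466 : sm gb N54751 = N53079 := ded_25_1 (flp_h L718765) (flp_b L718687) L736464
theorem L736468 : sm gc N54751 = N53779 := ded_32_1 (flp_h L726606) (flp_c L718689) L736464
theorem L736470 : sm ge N54751 = N53074 := ded_43_1 (flp_h L718695) (flp_e L718691) L736464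
theorem L736472 : sm gg N54751 = N54063 := ded_50_1 (flp_h L729467) (flp_g L718693) L736464
theorem L736474 : sm gd N53074 = N54752 := rfl
theorem L736476 : sm gb N54752 = N53080 := ded_20_1 (flp_d L718773) (flp_b L718697) L736474
theorem L736478 : sm gf N54752 = N53095 := ded_35_2 (flp_d L718947) (flp_f L718701) L736474
theorem L736480 : sm gg N54752 = N54064 := ded_36_2 (flp_d L729475) (flp_g L718703) L736474
theorem L736482 : sm gh N54752 = N53132 := ded_38_2 (flp_d L719400) (flp_h L699623) (flp_d L698988) L718695 L736474
theorem L736484 : sm gi N53075 = N54753 := rfl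
theorem L736486 : sm ga N54753 = N54005 := ded_18_1 (flp_i L728918) (flp_a L718707) L736484
theorem L736488 : sm gc N54753 = N53917 := ded_33_1 (flp_i L727998) (flp_c L718709) L736484
theorem L736490 : sm ge N54753 = N53133 := ded_44_1 (flp_i L719409) (flp_e L718711) L736484
theorem L736492 : sm gf N54753 = N53847 := ded_48_1 L727204 (flp_f L718713) L736484
theorem L736494 : sm gg N54753 = N54068 := ded_51_1 (flp_i L729506) (flp_g L718715) L736484
theorem L736496 : sm gj N54753 = N53854 := ded_53_1 L727274 (flp_j L718717) L736484
theorem L736498 : sm gh N53076 = N54754 := rfl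
theorem L736500 : sm ga N54754 = N54379 := ded_17_1 (flp_h L731817) (flp_a L718721) L736498
theorem L736502 : sm gc N54754 = N53920 := ded_32_1 (flp_h L728038) (flp_c L718723) L736498
theorem L736504 : sm ge N54754 = N53134 := ded_43_1 (flp_h L719422) (flp_e L718727) L736498
theorem L736506 : sm gf N54754 = N54306 := ded_47_1 (flp_h L731279) (flp_f L718729) L736498
theorem L736508 : sm gg N54754 = N54069 := ded_50_1 (flp_h L729510) (flp_g L718731) L736498
theorem L736510 : sm gj N54754 = N53925 := ded_52_1 (flp_h L728096) (flp_j L718733) L736498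
theorem L736512 : sm gj N53077 = N54755 := rfl
theorem L736514 : sm ga N54755 = N53749 := ded_16_1 L726338 (flp_a L718737) L736512
theorem L736516 : sm gb N54755 = N53716 := ded_24_1 L725978 (flp_b L718739) L736512
theorem L736518 : sm gc N54755 = N53081 := ded_31_1 (flp_j L718781) (flp_c L718741) L736512
theorem L736520 : sm gd N54755 = N53635 := ded_37_1 L725143 (flp_d L718743) L736512
theorem L736522 : sm ge N54755 = N53096 := ded_42_1 (flp_j L718955) (flp_e L718745) L736512
theorem L736524 : sm gf N54755 = N54070 := ded_46_1 (flp_j L729514) (flp_f L718749) L736512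
theorem L736526 : sm gh N54755 = N53712 := ded_52_2 L725936 (flp_h L718747) L736512
theorem L736528 : sm gg N54755 = N53640 := ded_49_1 L725194 L706028 (flp_j L699016) L718735 L736512
theorem L736530 : sm gi N53077 = N54756 := rfl
theorem L736532 : sm ga N54756 = N53849 := ded_18_1 L727221 (flp_a L718737) L736530
theorem L736534 : sm gb N54756 = N54339 := ded_26_1 (flp_i L731519) (flp_b L718739) L736530
theorem L736536 : sm gc N54756 = N53082 := ded_33_1 (flp_i L718789) (flp_c L718741) L736530
theorem L736538 : sm gd N54756 = N54300 := ded_39_1 (flp_i L731229) (flp_d L718743) L736530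
theorem L736540 : sm ge N54756 = N53097 := ded_44_1 (flp_i L718971) (flp_e L718745) L736530
theorem L736542 : sm gf N54756 = N54071 := ded_48_1 (flp_i L729520) (flp_f L718749) L736530
theorem L736544 : sm gg N54756 = N53078 := ded_51_1 (flp_i L718751) L718735 L736530
theorem L736546 : sm gh N53078 = N54757 := rfl
theorem L736548 : sm ga N54757 = N54378 := ded_17_1 (flp_h L731809) (flp_a L718753) L736546
theorem L736550 : sm gc N54757 = N53083 := ded_32_1 (flp_h L718799) (flp_c L718755) L736546
theorem L736552 : sm ge N54757 = N53098 := ded_43_1 (flp_h L718985) (flp_e L718759) L736546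
theorem L736554 : sm gf N54757 = N53079 := ded_47_1 (flp_h L718765) (flp_f L718761) L736546
theorem L736556 : sm gj N54757 = N54313 := ded_52_1 (flp_h L731331) (flp_j L718763) L736546
theorem L736558 : sm gd N53079 = N54758 := rfl
theorem L736560 : sm gg N54758 = N54073 := ded_36_2 (flp_d L729536) (flp_g L718771) L736558
theorem L736562 : sm ge N53080 = N54759 := rfl
theorem L736564 : sm gg N54759 = N54074 := ded_41_2 (flp_e L729538) (flp_g L718777) L736562
theorem L736566 : sm gh N54759 = N53136 := ded_43_2 (flp_e L719447) (flp_h L718779) L736562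
theorem L736568 : sm gi N53081 = N54760 := rfl
theorem L736570 : sm gb N54760 = N53791 := ded_26_1 (flp_i L726699) (flp_b L718783) L736568
theorem L736572 : sm ge N54760 = N53100 := ded_44_1 (flp_i L719007) (flp_e L718785) L736568
theorem L736574 : sm gf N54760 = N54075 := ded_48_1 (flp_i L729542) (flp_f L718787) L736568
theorem L736576 : sm gj N54760 = N53082 := ded_53_1 (flp_i L718789) L718781 L736568
theorem L736578 : sm gh N53082 = N54761 := rfl
theorem L736580 : sm gb N54761 = N53792 := ded_25_1 (flp_h L726707) (flp_b L718791) L736578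
theorem L736582 : sm ge N54761 = N53101 := ded_43_1 (flp_h L719017) (flp_e L718793) L736578
theorem L736584 : sm gf N54761 = N54076 := ded_47_1 (flp_h L729550) (flp_f L718795) L736578
theorem L736586 : sm gg N54761 = N53083 := ded_50_1 (flp_h L718799) (flp_g L718797) L736578
theorem L736588 : sm gd N53083 = N54762 := rfl
theorem L736590 : sm gb N54762 = N53793 := ded_20_1 (flp_d L726715) (flp_b L718801) L736588
theorem L736592 : sm gf N54762 = N53084 := ded_35_2 (flp_d L718807) (flp_f L718805) L736588
theorem L736594 : sm gc N53084 = N54763 := rfl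
theorem L736596 : sm gg N54763 = N54078 := ded_30_2 (flp_c L729564) (flp_g L718811) L736594
theorem L736598 : sm gh N53085 = N54764 := rfl
theorem L736600 : sm ga N54764 = N53086 := ded_17_1 (flp_h L718828) (flp_a L718815) L736598
theorem L736602 : sm gb N54764 = N53728 := ded_25_1 (flp_h L726100) (flp_b L718817) L736598
theorem L736604 : sm gc N54764 = N53795 := ded_32_1 (flp_h L726723) (flp_c L718819) L736598
theorem L736606 : sm ge N54764 = N53725 := ded_43_1 (flp_h L726060) (flp_e L718823) L736598
theorem L736608 : sm gg N54764 = N54764 := ded_50_1 (flp_h L736598) L718825 L736598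
theorem L736609 : sm gj N54764 = N53092 := ded_52_1 (flp_h L718899) (flp_j L718826) L736598
theorem L736611 : sm gi N54764 = N53797 := ded_54_2 (flp_h L726745) (flp_i L707177) (flp_h L699071) L718813 L736598
theorem L736613 : sm gd N53086 = N54765 := rfl
theorem L736615 : sm gb N54765 = N53087 := ded_20_1 (flp_d L718839) (flp_b L718830) L736613
theorem L736617 : sm gg N54765 = N54765 := ded_36_2 (flp_d L736613) L718836 L736613
theorem L736618 : sm gj N54765 = N53095 := ded_37_2 (flp_d L718947) (flp_j L718837) L736613
theorem L736620 : sm gh N54765 = N53138 := ded_38_2 (flp_d L719466) (flp_h L699696) (flp_d L699081) L718828 L736613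
theorem L736622 : sm ge N53087 = N54766 := rfl
theorem L736624 : sm ga N54766 = N54412 := ded_13_1 L732037 (flp_a L718841) L736622
theorem L736626 : sm gg N54766 = N54766 := ded_41_2 (flp_e L736622) L718843 L736622
theorem L736627 : sm gj N54766 = N53099 := ded_42_2 (flp_e L718997) (flp_j L718844) L736622
theorem L736629 : sm gh N54766 = N53139 := ded_43_2 (flp_e L719474) (flp_h L718846) L736622
theorem L736631 : sm gd N54766 = N54410 := ded_34_1 L732017 L713712 (flp_e L699094) L718839 L736622
theorem L736633 : sm gi N53088 = N54767 := rfl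
theorem L736635 : sm ga N54767 = N53506 := ded_18_1 (flp_i L723678) (flp_a L718850) L736633
theorem L736637 : sm gb N54767 = N53804 := ded_26_1 (flp_i L726814) (flp_b L718852) L736633
theorem L736639 : sm gc N54767 = N53674 := ded_33_1 (flp_i L725544) (flp_c L718854) L736633
theorem L736641 : sm gd N54767 = N53112 := ded_39_1 (flp_i L719155) (flp_d L718856) L736633
theorem L736643 : sm gf N54767 = N54767 := ded_48_1 (flp_i L736633) L718858 L736633
theorem L736644 : sm gg N54767 = N53100 := ded_51_1 (flp_i L719007) (flp_g L718861) L736633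
theorem L736646 : sm gj N54767 = N53089 := ded_53_1 (flp_i L718863) L718848 L736633
theorem L736648 : sm gh N53089 = N54768 := rfl
theorem L736650 : sm ga N54768 = N53517 := ded_17_1 (flp_h L723811) (flp_a L718865) L736648
theorem L736652 : sm gb N54768 = N53805 := ded_25_1 (flp_h L726823) (flp_b L718867) L736648
theorem L736654 : sm gc N54768 = N53680 := ded_32_1 (flp_h L725620) (flp_c L718869) L736648
theorem L736656 : sm gf N54768 = N54768 := ded_47_1 (flp_h L736648) L718873 L736648
theorem L736657 : sm gg N54768 = N53090 := ded_50_1 (flp_h L718876) (flp_g L718874) L736648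
theorem L736659 : sm gd N53090 = N54769 := rfl
theorem L736661 : sm ga N54769 = N54243 := ded_12_1 (flp_d L730808) (flp_a L718878) L736659
theorem L736663 : sm gb N54769 = N53806 := ded_20_1 (flp_d L726828) (flp_b L718880) L736659
theorem L736665 : sm gf N54769 = N53091 := ded_35_2 (flp_d L718888) (flp_f L718884) L736659
theorem L736667 : sm gj N54769 = N53102 := ded_37_2 (flp_d L719025) (flp_j L718886) L736659
theorem L736669 : sm gh N54769 = N53114 := ded_38_2 (flp_d L719184) (flp_h L699429) (flp_d L699118) L718876 L736659
theorem L736671 : sm gc N53091 = N54770 := rfl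
theorem L736673 : sm ga N54770 = N54084 := ded_11_1 L729633 (flp_a L718890) L736671
theorem L736675 : sm gg N54770 = N54770 := ded_30_2 (flp_c L736671) L718894 L736671
theorem L736676 : sm gj N54770 = N53103 := ded_31_2 (flp_c L719033) (flp_j L718895) L736671
theorem L736678 : sm gh N54770 = N53115 := ded_32_2 (flp_c L719195) (flp_h L718897) L736671
theorem L736680 : sm gd N54770 = N54081 := ded_27_2 L729597 L713712 (flp_c L699130) L718888 L736671
theorem L736682 : sm gd N53092 = N54771 := rfl
theorem L736684 : sm ga N54771 = N53095 := ded_12_1 (flp_d L718947) (flp_a L718901) L736682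
theorem L736686 : sm gb N54771 = N53736 := ded_20_1 (flp_d L726187) (flp_b L718903) L736682
theorem L736688 : sm gg N54771 = N53104 := ded_36_2 (flp_d L719043) (flp_g L718909) L736682
theorem L736690 : sm gi N54771 = N53811 := ded_39_2 (flp_d L726879) (flp_i L718911) L736682
theorem L736692 : sm gc N54771 = N53110 := ded_27_1 (flp_d L719132) (flp_c L719098) L719104 (flp_c L718905) L736682
theorem L736694 : sm ge N54771 = N53932 := ded_34_2 (flp_d L728177) L709188 (flp_d L706744) (flp_e L718907) L736682
theorem L736696 : sm gh N54771 = N53122 := ded_38_2 L719271 (flp_h L699716) (flp_d L699145) L718899 L736682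
theorem L736698 : sm gh N53093 = N54772 := rfl
theorem L736700 : sm ga N54772 = N53714 := ded_17_1 (flp_h L725948) (flp_a L718915) L736698
theorem L736702 : sm gb N54772 = N53098 := ded_25_1 (flp_h L718985) (flp_b L718917) L736698
theorem L736704 : sm gc N54772 = N53810 := ded_32_1 (flp_h L726873) (flp_c L718919) L736698
theorem L736706 : sm gf N54772 = N53094 := ded_47_1 (flp_h L718929) (flp_f L718923) L736698
theorem L736708 : sm gg N54772 = N54340 := ded_50_1 (flp_h L731525) (flp_g L718925) L736698
theorem L736710 : sm gj N54772 = N54317 := ded_52_1 (flp_h L731356) (flp_j L718927) L736698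
theorem L736712 : sm gd N54772 = N54309 := ded_38_1 (flp_h L731303) L712928 (flp_h L708080) (flp_d L718921) L736698
theorem L736714 : sm gi N54772 = N53774 := ded_54_2 (flp_h L726559) (flp_i L707036) (flp_h L699163) L718913 L736698
theorem L736716 : sm ge N53095 = N54773 := rfl
theorem L736718 : sm ga N54773 = N53932 := ded_13_1 (flp_e L736694) L736684 L736716
theorem L736720 : sm gb N54773 = N53099 := ded_21_1 (flp_e L718997) (flp_b L718949) L736716
theorem L736722 : sm gc N54773 = N53589 := ded_28_1 (flp_e L735452) L735450 L736716
theorem L736724 : sm gg N54773 = N53105 := ded_41_2 (flp_e L719060) (flp_g L718951) L736716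
theorem L736726 : sm gh N54773 = N53140 := ded_43_2 (flp_e L719484) (flp_h L718953) L736716
theorem L736728 : sm gi N54773 = N54102 := ded_44_2 (flp_e L736089) L736085 L736716
theorem L736730 : sm gd N54773 = N53931 := ded_34_1 L728171 (flp_d L718943) L718937 L718947 L736716
theorem L736732 : sm gi N53096 = N54774 := rfl
theorem L736734 : sm ga N54774 = N53843 := ded_18_1 (flp_i L727151) (flp_a L718957) L736732
theorem L736736 : sm gb N54774 = N53865 := ded_26_1 (flp_i L727407) (flp_b L718959) L736732
theorem L736738 : sm gc N54774 = N53100 := ded_33_1 (flp_i L719007) (flp_c L718961) L736732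
theorem L736740 : sm gd N54774 = N53673 := ded_39_1 (flp_i L725526) (flp_d L718963) L736732
theorem L736742 : sm gf N54774 = N53106 := ded_48_1 (flp_i L719077) (flp_f L718965) L736732
theorem L736744 : sm gg N54774 = N53674 := ded_51_1 (flp_i L725544) (flp_g L718969) L736732
theorem L736746 : sm gj N54774 = N53097 := ded_53_1 (flp_i L718971) L718955 L736732
theorem L736748 : sm gh N53097 = N54775 := rfl
theorem L736750 : sm ga N54775 = N53780 := ded_17_1 L726624 (flp_a L718973) L736748
theorem L736752 : sm gb N54775 = N54340 := ded_25_1 (flp_h L731525) (flp_b L718975) L736748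
theorem L736754 : sm gc N54775 = N53101 := ded_32_1 (flp_h L719017) (flp_c L718977) L736748
theorem L736756 : sm gf N54775 = N53107 := ded_47_1 (flp_h L719092) (flp_f L718981) L736748
theorem L736758 : sm gg N54775 = N53098 := ded_50_1 (flp_h L718985) (flp_g L718983) L736748
theorem L736760 : sm gd N54775 = N53774 := ded_38_1 (flp_h L726559) L707040 L707728 (flp_d L718979) L736748
theorem L736762 : sm gi N54775 = N54309 := ded_54_2 (flp_h L731303) (flp_i L712922) (flp_h L699201) L718971 L736748
theorem L736764 : sm gf N53099 = N54776 := rfl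
theorem L736766 : sm ga N54776 = N54419 := ded_14_1 L732093 (flp_a L718999) L736764
theorem L736768 : sm gd N54776 = N54417 := ded_35_1 L732079 (flp_d L719005) L736764
theorem L736770 : sm gh N54776 = N53141 := ded_47_2 (flp_f L719497) (flp_h L719003) L736764
theorem L736772 : sm gh N53100 = N54777 := rfl
theorem L736774 : sm gb N54777 = N53818 := ded_25_1 (flp_h L726942) (flp_b L719009) L736772
theorem L736776 : sm gf N54777 = N53109 := ded_47_1 (flp_h L719123) (flp_f L719013) L736772
theorem L736778 : sm gj N54777 = N53101 := ded_52_1 (flp_h L719017) (flp_j L719015) L736772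
theorem L736780 : sm gd N53101 = N54778 := rfl
theorem L736782 : sm gb N54778 = N53819 := ded_20_1 (flp_d L726948) (flp_b L719019) L736780
theorem L736784 : sm gf N54778 = N53110 := ded_35_2 (flp_d L719132) (flp_f L719021) L736780
theorem L736786 : sm gg N54778 = N53102 := ded_36_2 (flp_d L719025) (flp_g L719023) L736780
theorem L736788 : sm gh N54778 = N53117 := ded_38_2 (flp_d L719216) (flp_h L699462) (flp_d L699249) L719017 L736780
theorem L736790 : sm gc N53102 = N54779 := rfl
theorem L736792 : sm ga N54779 = N54064 := ded_11_1 (flp_c L735421) L735415 L736790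
theorem L736794 : sm gf N54779 = N53103 := ded_29_2 (flp_c L719033) (flp_f L719029) L736790
theorem L736796 : sm gh N54779 = N53118 := ded_32_2 (flp_c L719225) (flp_h L719031) L736790
theorem L736798 : sm gd N54779 = N54057 := ded_27_2 L729418 (flp_d L718995) L718989 L719025 L736790
theorem L736800 : sm ge N53102 = N54780 := rfl
theorem L736802 : sm gb N54780 = N53821 := ded_21_1 (flp_e L726962) (flp_b L719027) L736800
theorem L736804 : sm gh N54780 = N53119 := ded_43_2 (flp_e L719234) (flp_h L719031) L736800
theorem L736806 : sm gb N53103 = N54781 := rfl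
theorem L736808 : sm gd N54781 = N53742 := ded_20_2 L726253 (flp_d L719041) L736806
theorem L736810 : sm gg N54781 = N53111 := ded_23_2 (flp_b L719140) (flp_g L719037) L736806
theorem L736812 : sm gh N54781 = N53120 := ded_25_2 (flp_b L719239) (flp_h L719039) L736806
theorem L736814 : sm gi N54781 = N53826 := ded_26_2 L736172 L736168 L736806
theorem L736816 : sm ga N54781 = N53978 := ded_10_1 L728639 L709742 (flp_b L710775) (flp_a L719035) L736806
theorem L736818 : sm gc N54781 = N53822 := ded_19_2 (flp_b L726966) (flp_c L707363) (flp_b L699263) L719033 L736806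
theorem L736820 : sm gh N53106 = N54782 := rfl
theorem L736822 : sm ga N54782 = N53798 := ded_17_1 L726765 (flp_a L719079) L736820
theorem L736824 : sm gb N54782 = N54359 := ded_25_1 (flp_h L731651) (flp_b L719081) L736820
theorem L736826 : sm gc N54782 = N53109 := ded_32_1 (flp_h L719123) (flp_c L719083) L736820
theorem L736828 : sm ge N54782 = N54101 := ded_43_1 (flp_h L729791) (flp_e L719087) L736820
theorem L736830 : sm gg N54782 = N54782 := ded_50_1 (flp_h L736820) L719089 L736820
theorem L736831 : sm gj N54782 = N53107 := ded_52_1 (flp_h L719092) (flp_j L719090) L736820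
theorem L736833 : sm gd N54782 = N53795 := ded_38_1 (flp_h L726723) L707163 L707809 (flp_d L719085) L736820
theorem L736835 : sm gi N54782 = N54316 := ded_54_2 (flp_h L731345) (flp_i L712976) (flp_h L699322) L719077 L736820
theorem L736837 : sm gg N53108 = N54783 := rfl
theorem L736839 : sm ga N54783 = N54426 := ded_15_1 L732144 (flp_a L719110) L736837
theorem L736841 : sm gb N54783 = N53587 := ded_23_1 L724611 (flp_b L719112) L736837
theorem L736843 : sm gd N54783 = N54034 := ded_36_1 L729210 (flp_d L719114) L736837
theorem L736845 : sm ge N54783 = N53822 := ded_41_1 L726968 (flp_e L719121) L736837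
theorem L736847 : sm gh N54783 = N53142 := ded_50_2 (flp_g L719504) (flp_h L719117) L736837
theorem L736849 : sm gi N54783 = N54092 := ded_51_2 L729714 (flp_i L719119) L736837
theorem L736851 : sm gj N54470 = N54783 := ded_24_0 L736841 L724613 (flp_b L732472)
theorem L736853 : sm gd N53109 = N54784 := rfl
theorem L736855 : sm gb N54784 = N53828 := ded_20_1 (flp_d L727022) (flp_b L719125) L736853
theorem L736857 : sm gg N54784 = N54784 := ded_36_2 (flp_d L736853) L719129 L736853
theorem L736858 : sm gj N54784 = N53110 := ded_37_2 (flp_d L719132) (flp_j L719130) L736853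
theorem L736860 : sm ge N54784 = N54446 := ded_34_2 (flp_d L732294) (flp_e L717305) L717310 (flp_e L719127) L736853
theorem L736862 : sm gh N54784 = N53121 := ded_38_2 (flp_d L719250) (flp_h L699487) (flp_d L699369) L719123 L736853
theorem L736864 : sm gh N53112 = N54785 := rfl
theorem L736866 : sm ga N54785 = N53507 := ded_17_1 (flp_h L723689) (flp_a L719157) L736864
theorem L736868 : sm gb N54785 = N53831 := ded_25_1 (flp_h L727054) (flp_b L719159) L736864
theorem L736870 : sm gc N54785 = N53398 := ded_32_1 (flp_h L722640) (flp_c L719161) L736864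
theorem L736872 : sm ge N54785 = N53397 := ded_43_1 (flp_h L722625) (flp_e L719163) L736864
theorem L736874 : sm gf N54785 = N54785 := ded_47_1 (flp_h L736864) L719165 L736864
theorem L736875 : sm gg N54785 = N53116 := ded_50_1 (flp_h L719205) (flp_g L719166) L736864
theorem L736877 : sm gj N54785 = N53113 := ded_52_1 (flp_h L719170) (flp_j L719168) L736864
theorem L736879 : sm gi N54785 = N54785 := ded_54_2 (flp_h L736864) (flp_i L719155) L699413 L719155 L736864
theorem L736880 : sm gd N53113 = N54786 := rfl
theorem L736882 : sm ga N54786 = N53518 := ded_12_1 (flp_d L723818) (flp_a L719172) L736880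
theorem L736884 : sm gb N54786 = N53832 := ded_20_1 (flp_d L727065) (flp_b L719174) L736880
theorem L736886 : sm gf N54786 = N54786 := ded_35_2 (flp_d L736880) L719180 L736880
theorem L736887 : sm gg N54786 = N53114 := ded_36_2 (flp_d L719184) (flp_g L719181) L736880
theorem L736889 : sm gi N54786 = N54786 := ded_39_2 (flp_d L736880) L719183 L736880
theorem L736890 : sm gc N54786 = N54440 := ded_27_1 (flp_d L732266) L714037 (flp_d L703413) (flp_c L719176) L736880
theorem L736892 : sm gc N53114 = N54787 := rfl
theorem L736894 : sm ga N54787 = N54104 := ded_11_1 L729820 (flp_a L719186) L736892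
theorem L736896 : sm gf N54787 = N53115 := ded_29_2 (flp_c L719195) (flp_f L719190) L736892
theorem L736898 : sm gg N54787 = N54440 := ded_30_2 (flp_c L736890) L736887 L736892
theorem L736900 : sm gj N54787 = N53118 := ded_31_2 (flp_c L719225) (flp_j L719192) L736892
theorem L736902 : sm gi N54787 = N54787 := ded_33_2 (flp_c L736892) L719194 L736892
theorem L736903 : sm gd N54787 = N53862 := ded_27_2 L727376 L708047 (flp_c L699435) L719184 L736892
theorem L736905 : sm ge N53114 = N54788 := rfl
theorem L736907 : sm ga N54788 = N54244 := ded_13_1 (flp_e L730814) (flp_a L719186) L736905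
theorem L736909 : sm gb N54788 = N53834 := ded_21_1 (flp_e L727079) (flp_b L719188) L736905
theorem L736911 : sm gj N54788 = N53119 := ded_42_2 (flp_e L719234) (flp_j L719192) L736905
theorem L736913 : sm gi N54788 = N54788 := ded_44_2 (flp_e L736905) L719194 L736905
theorem L736914 : sm gd N54788 = N54189 := ded_34_1 (flp_e L730450) (flp_d L711836) (flp_e L699437) L719184 L736905
theorem L736916 : sm gb N53115 = N54789 := rfl
theorem L736918 : sm gd N54789 = N53996 := ded_20_2 L728828 (flp_d L719203) L736916
theorem L736920 : sm ge N54789 = N54471 := ded_21_2 (flp_b L734537) L734531 L736916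
theorem L736922 : sm gg N54789 = N54789 := ded_23_2 (flp_b L736916) L719199 L736916
theorem L736923 : sm gj N54789 = N53120 := ded_24_2 (flp_b L719239) (flp_j L719200) L736916
theorem L736925 : sm gi N54789 = N54789 := ded_26_2 (flp_b L736916) L719202 L736916
theorem L736926 : sm ga N54789 = N53997 := ded_10_1 L728838 L709979 (flp_b L711037) (flp_a L719197) L736916
theorem L736928 : sm gc N54789 = N53835 := ded_19_2 (flp_b L727084) (flp_c L707516) (flp_b L699448) L719195 L736916
theorem L736930 : sm gd N53116 = N54790 := rfl
theorem L736932 : sm gb N54790 = N53836 := ded_20_1 (flp_d L727093) (flp_b L719207) L736930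
theorem L736934 : sm gf N54790 = N53121 := ded_35_2 (flp_d L719250) (flp_f L719211) L736930
theorem L736936 : sm gj N54790 = N53117 := ded_37_2 (flp_d L719216) (flp_j L719213) L736930
theorem L736938 : sm gi N54790 = N54790 := ded_39_2 (flp_d L736930) L719215 L736930
theorem L736939 : sm gc N53117 = N54791 := rfl
theorem L736941 : sm ga N54791 = N53132 := ded_11_1 (flp_c L735484) L735475 L736939
theorem L736943 : sm gf N54791 = N53122 := ded_29_2 (flp_c L719260) (flp_f L719220) L736939
theorem L736945 : sm gg N54791 = N53118 := ded_30_2 (flp_c L719225) (flp_g L719222) L736939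
theorem L736947 : sm gi N54791 = N54791 := ded_33_2 (flp_c L736939) L719224 L736939
theorem L736948 : sm gb N54791 = N53939 := ded_19_1 L728252 L727108 (flp_c L727100) (flp_b L719218) L736939
theorem L736950 : sm gd N54791 = N53128 := ded_27_2 L719349 (flp_d L714526) L714518 L719216 L736939
theorem L736952 : sm ge N53117 = N54792 := rfl
theorem L736954 : sm gb N54792 = N53838 := ded_21_1 (flp_e L727110) (flp_b L719218) L736952
theorem L736956 : sm gg N54792 = N53119 := ded_41_2 (flp_e L719234) (flp_g L719222) L736952
theorem L736958 : sm gi N54792 = N54792 := ded_44_2 (flp_e L736952) L719224 L736952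
theorem L736959 : sm gb N53118 = N54793 := rfl
theorem L736961 : sm gd N54793 = N53989 := ded_20_2 L728763 (flp_d L719232) L736959
theorem L736963 : sm gf N54793 = N53120 := ded_22_2 (flp_b L719239) (flp_f L719229) L736959
theorem L736965 : sm gg N54793 = N53939 := ded_23_2 (flp_b L736948) L736945 L736959
theorem L736967 : sm gi N54793 = N54793 := ded_26_2 (flp_b L736959) L719231 L736959
theorem L736968 : sm ga N54793 = N53992 := ded_10_1 L728793 L709949 (flp_b L711005) (flp_a L719227) L736959
theorem L736970 : sm gc N54793 = N53839 := ded_19_2 (flp_b L727115) (flp_c L707542) (flp_b L699473) L719225 L736959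
theorem L736972 : sm ge N53118 = N54794 := rfl
theorem L736974 : sm ga N54794 = N54112 := ded_13_1 (flp_e L729861) (flp_a L719227) L736972
theorem L736976 : sm gc N54794 = N53119 := ded_28_1 (flp_e L719234) L719225 L736972
theorem L736978 : sm gi N54794 = N54794 := ded_44_2 (flp_e L736972) L719231 L736972
theorem L736979 : sm gc N53121 = N54795 := rfl
theorem L736981 : sm ga N54795 = N53138 := ded_11_1 (flp_c L735509) L735501 L736979
theorem L736983 : sm ge N54795 = N53937 := ded_28_2 L728234 (flp_e L719258) L736979
theorem L736985 : sm gg N54795 = N54795 := ded_30_2 (flp_c L736979) L719254 L736979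
theorem L736986 : sm gj N54795 = N53122 := ded_31_2 (flp_c L719260) (flp_j L719255) L736979
theorem L736988 : sm gi N54795 = N54795 := ded_33_2 (flp_c L736979) L719257 L736979
theorem L736989 : sm gb N54795 = N53938 := ded_19_1 L728240 L727149 (flp_c L727140) (flp_b L719252) L736979
theorem L736991 : sm gd N54795 = N53137 := ded_27_2 L719458 (flp_d L714541) L714534 L719250 L736979
theorem L736993 : sm gh N53123 = N54796 := rfl
theorem L736995 : sm ga N54796 = N53124 := ded_17_1 (flp_h L719289) (flp_a L719275) L736993
theorem L736997 : sm gb N54796 = N54449 := ded_25_1 L732326 (flp_b L719277) L736993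
theorem L736999 : sm gc N54796 = N53143 := ded_32_1 (flp_h L719517) (flp_c L719279) L736993
theorem L737001 : sm ge N54796 = N53933 := ded_43_1 (flp_h L728185) (flp_e L719281) L736993
theorem L737003 : sm gf N54796 = N53137 := ded_47_1 (flp_h L719452) (flp_f L719283) L736993
theorem L737005 : sm gg N54796 = N54433 := ded_50_1 (flp_h L732210) (flp_g L719285) L736993
theorem L737007 : sm gj N54796 = N53128 := ded_52_1 (flp_h L719343) (flp_j L719287) L736993
theorem L737009 : sm gi N54796 = N54796 := ded_54_2 (flp_h L736993) (flp_i L719273) L699542 L719273 L736993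
theorem L737010 : sm gd N53124 = N54797 := rfl
theorem L737012 : sm gb N54797 = N53125 := ded_20_1 (flp_d L719302) (flp_b L719291) L737010
theorem L737014 : sm gf N54797 = N53138 := ded_35_2 (flp_d L719466) (flp_f L719297) L737010
theorem L737016 : sm gj N54797 = N53132 := ded_37_2 (flp_d L719400) (flp_j L719299) L737010
theorem L737018 : sm gi N54797 = N54797 := ded_39_2 (flp_d L737010) L719301 L737010
theorem L737019 : sm ge N53125 = N54798 := rfl
theorem L737021 : sm ga N54798 = N54459 := ded_13_1 (flp_e L732395) (flp_a L719304) L737019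
theorem L737023 : sm gj N54798 = N53136 := ded_42_2 (flp_e L719447) (flp_j L719308) L737019
theorem L737025 : sm gi N54798 = N54798 := ded_44_2 (flp_e L737019) L719310 L737019
theorem L737026 : sm gd N54798 = N53935 := ded_34_1 (flp_e L728205) (flp_d L709245) (flp_e L699563) L719302 L737019
theorem L737028 : sm gi N53126 = N54799 := rfl
theorem L737030 : sm ga N54799 = N53130 := ded_18_1 (flp_i L719371) (flp_a L719313) L737028
theorem L737032 : sm gb N54799 = N54409 := ded_26_1 (flp_i L732003) (flp_b L719315) L737028
theorem L737034 : sm gc N54799 = N53682 := ded_33_1 (flp_i L725643) (flp_c L719323) L737028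
theorem L737036 : sm gd N54799 = N53127 := ded_39_1 (flp_i L719327) L719311 L737028
theorem L737038 : sm gf N54799 = N53928 := ded_48_1 (flp_i L728126) (flp_f L719317) L737028
theorem L737040 : sm gg N54799 = N53685 := ded_51_1 (flp_i L725678) (flp_g L719319) L737028
theorem L737042 : sm gj N54799 = N53922 := ded_53_1 (flp_i L728064) (flp_j L719321) L737028
theorem L737044 : sm gh N53127 = N54800 := rfl
theorem L737046 : sm ga N54800 = N53131 := ded_17_1 (flp_h L719385) (flp_a L719329) L737044
theorem L737048 : sm gb N54800 = N54448 := ded_25_1 L732314 (flp_b L719331) L737044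
theorem L737050 : sm gc N54800 = N53145 := ded_32_1 (flp_h L719546) (flp_c L719333) L737044
theorem L737052 : sm ge N54800 = N53128 := ded_43_1 (flp_h L719343) (flp_e L719335) L737044
theorem L737054 : sm gf N54800 = N53936 := ded_47_1 (flp_h L728212) (flp_f L719337) L737044
theorem L737056 : sm gg N54800 = N53857 := ded_50_1 (flp_h L727308) (flp_g L719339) L737044
theorem L737058 : sm gj N54800 = N53933 := ded_52_1 (flp_h L728185) (flp_j L719341) L737044
theorem L737060 : sm gi N54800 = N54800 := ded_54_2 (flp_h L737044) (flp_i L719327) L699582 L719327 L737044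
theorem L737061 : sm gi N53129 = N54801 := rfl
theorem L737063 : sm ga N54801 = N54093 := ded_18_1 (flp_i L729717) (flp_a L719358) L737061
theorem L737065 : sm gb N54801 = N53133 := ded_26_1 (flp_i L719409) (flp_b L719360) L737061
theorem L737067 : sm gc N54801 = N53525 := ded_33_1 (flp_i L723890) (flp_c L719362) L737061
theorem L737069 : sm gd N54801 = N54801 := ded_39_1 (flp_i L737061) L719370 L737061
theorem L737070 : sm gf N54801 = N53530 := ded_48_1 (flp_i L723955) (flp_f L719364) L737061
theorem L737072 : sm gg N54801 = N54109 := ded_51_1 (flp_i L729844) (flp_g L719366) L737061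
theorem L737074 : sm gj N54801 = N53527 := ded_53_1 (flp_i L723918) (flp_j L719368) L737061
theorem L737076 : sm gh N53130 = N54802 := rfl
theorem L737078 : sm gb N54802 = N53134 := ded_25_1 (flp_h L719422) (flp_b L719373) L737076
theorem L737080 : sm gc N54802 = N54267 := ded_32_1 (flp_h L730975) (flp_c L719375) L737076
theorem L737082 : sm gf N54802 = N53929 := ded_47_1 (flp_h L728141) (flp_f L719379) L737076
theorem L737084 : sm gg N54802 = N54110 := ded_50_1 (flp_h L729850) (flp_g L719381) L737076
theorem L737086 : sm gj N54802 = N53924 := ded_52_1 (flp_h L728088) (flp_j L719383) L737076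
theorem L737088 : sm gd N53131 = N54803 := rfl
theorem L737090 : sm gb N54803 = N53135 := ded_20_1 (flp_d L719434) (flp_b L719387) L737088
theorem L737092 : sm gf N54803 = N53937 := ded_35_2 (flp_d L728226) (flp_f L719393) L737088
theorem L737094 : sm gg N54803 = N54111 := ded_36_2 (flp_d L729855) (flp_g L719395) L737088
theorem L737096 : sm gj N54803 = N53934 := ded_37_2 (flp_d L728198) (flp_j L719397) L737088
theorem L737098 : sm gi N54803 = N54803 := ded_39_2 (flp_d L737088) L719399 L737088
theorem L737099 : sm gc N54803 = N54240 := ded_27_1 (flp_d L730788) L712275 (flp_d L699850) (flp_c L719389) L737088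
theorem L737101 : sm ge N53132 = N54804 := rfl
theorem L737103 : sm gb N54804 = N53136 := ded_21_1 (flp_e L719447) (flp_b L719402) L737101
theorem L737105 : sm gg N54804 = N54112 := ded_41_2 (flp_e L729861) (flp_g L719406) L737101
theorem L737107 : sm gi N54804 = N54804 := ded_44_2 (flp_e L737101) L719408 L737101
theorem L737108 : sm gh N53133 = N54805 := rfl
theorem L737110 : sm ga N54805 = N54006 := ded_17_1 (flp_h L728928) (flp_a L719411) L737108
theorem L737112 : sm gc N54805 = N53918 := ded_32_1 (flp_h L728012) (flp_c L719413) L737108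
theorem L737114 : sm gf N54805 = N53803 := ded_47_1 L726810 (flp_f L719416) L737108
theorem L737116 : sm gg N54805 = N54113 := ded_50_1 (flp_h L729866) (flp_g L719418) L737108
theorem L737118 : sm gj N54805 = N53817 := ded_52_1 L726938 (flp_j L719420) L737108
theorem L737120 : sm gi N54805 = N53134 := ded_54_2 (flp_h L719422) (flp_i L699647) L699634 L719409 L737108
theorem L737122 : sm gd N53134 = N54806 := rfl
theorem L737124 : sm ga N54806 = N54413 := ded_12_1 (flp_d L732041) (flp_a L719424) L737122
theorem L737126 : sm gf N54806 = N53930 := ded_35_2 (flp_d L728152) (flp_f L719428) L737122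
theorem L737128 : sm gg N54806 = N54114 := ded_36_2 (flp_d L729871) (flp_g L719430) L737122
theorem L737130 : sm gj N54806 = N53926 := ded_37_2 (flp_d L728106) (flp_j L719432) L737122
theorem L737132 : sm gc N54806 = N54052 := ded_27_1 (flp_d L729366) L710474 (flp_d L709067) (flp_c L719426) L737122
theorem L737134 : sm gh N54806 = N53135 := ded_38_2 (flp_d L719434) (flp_h L699661) (flp_d L699653) L719422 L737122
theorem L737136 : sm ge N53135 = N54807 := rfl
theorem L737138 : sm ga N54807 = N54463 := ded_13_1 (flp_e L732428) (flp_a L719436) L737136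
theorem L737140 : sm gc N54807 = N54108 := ded_28_1 (flp_e L729839) (flp_c L719445) L737136
theorem L737142 : sm gg N54807 = N54115 := ded_41_2 (flp_e L729876) (flp_g L719440) L737136
theorem L737144 : sm gj N54807 = N53935 := ded_42_2 (flp_e L728205) (flp_j L719442) L737136
theorem L737146 : sm gi N54807 = N54807 := ded_44_2 (flp_e L737136) L719444 L737136
theorem L737147 : sm gd N54807 = N53136 := ded_34_1 (flp_e L719447) (flp_d L699676) (flp_e L699667) L719434 L737136
theorem L737149 : sm gf N53136 = N54808 := rfl
theorem L737151 : sm ga N54808 = N54466 := ded_14_1 (flp_f L735528) L735515 L737149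
theorem L737153 : sm gi N54808 = N54808 := ded_48_2 (flp_f L737149) L719451 L737149
theorem L737154 : sm ge N54808 = N53141 := ded_40_1 (flp_f L719497) (flp_e L699736) (flp_f L699678) L719447 L737149
theorem L737156 : sm ge N53138 = N54809 := rfl
theorem L737158 : sm ga N54809 = N53937 := ded_13_1 (flp_e L736983) L736981 L737156
theorem L737160 : sm gb N54809 = N53139 := ded_21_1 (flp_e L719474) (flp_b L719468) L737156
theorem L737162 : sm gc N54809 = N53596 := ded_28_1 (flp_e L735511) L735509 L737156
theorem L737164 : sm gg N54809 = N54809 := ded_41_2 (flp_e L737156) L719470 L737156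
theorem L737165 : sm gj N54809 = N53140 := ded_42_2 (flp_e L719484) (flp_j L719471) L737156
theorem L737167 : sm gi N54809 = N54809 := ded_44_2 (flp_e L737156) L719473 L737156
theorem L737168 : sm gd N54809 = N53936 := ded_34_1 L728220 (flp_d L714164) (flp_e L699702) L719466 L737156
theorem L737170 : sm gf N53139 = N54810 := rfl
theorem L737172 : sm ga N54810 = N54462 := ded_14_1 (flp_f L732419) (flp_a L719476) L737170
theorem L737174 : sm gd N54810 = N54448 := ded_35_1 (flp_f L732307) (flp_d L719482) L737170
theorem L737176 : sm gj N54810 = N53141 := ded_46_2 (flp_f L719497) (flp_j L719479) L737170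
theorem L737178 : sm gi N54810 = N54810 := ded_48_2 (flp_f L737170) L719481 L737170
theorem L737179 : sm gf N53140 = N54811 := rfl
theorem L737181 : sm ga N54811 = N53934 := ded_14_1 L728202 (flp_a L719486) L737179
theorem L737183 : sm gb N54811 = N53141 := ded_22_1 (flp_f L719497) (flp_b L719488) L737179
theorem L737185 : sm gc N54811 = N53593 := ded_29_1 L724680 (flp_c L719490) L737179
theorem L737187 : sm gd N54811 = N53933 := ded_35_1 L728193 (flp_d L719495) L737179
theorem L737189 : sm gi N54811 = N54811 := ded_48_2 (flp_f L737179) L719494 L737179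
theorem L737190 : sm gg N54811 = N53594 := ded_45_2 L724687 L705467 (flp_f L699757) (flp_g L719492) L737179
theorem L737192 : sm gg N53141 = N54812 := rfl
theorem L737194 : sm ga N54812 = N54464 := ded_15_1 L732439 (flp_a L719499) L737192
theorem L737196 : sm gb N54812 = N53594 := ded_23_1 (flp_g L737190) L737183 L737192
theorem L737198 : sm gd N54812 = N54431 := ded_36_1 L732196 (flp_d L719501) L737192
theorem L737200 : sm gi N54812 = N54812 := ded_51_2 (flp_g L737192) L719503 L737192
theorem L737201 : sm gf N54812 = N53142 := ded_45_1 (flp_g L719504) (flp_f L699759) (flp_g L699740) L719497 L737192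
theorem L737203 : sm gj N54437 = N54812 := ded_24_0 L737196 L724689 (flp_b L732250)
theorem L737205 : sm gh N53146 = N54813 := rfl
theorem L737207 : sm ga N54813 = N53197 := ded_17_1 (flp_h L720283) (flp_a L719564) L737205
theorem L737209 : sm gb N54813 = N53153 := ded_25_1 (flp_h L719682) (flp_b L719566) L737205
theorem L737211 : sm gc N54813 = N53206 := ded_32_1 (flp_h L720397) (flp_c L719568) L737205
theorem L737213 : sm ge N54813 = N53165 := ded_43_1 (flp_h L719864) (flp_e L719572) L737205
theorem L737215 : sm gf N54813 = N53179 := ded_47_1 (flp_h L720066) (flp_f L719574) L737205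
theorem L737217 : sm gg N54813 = N53147 := ded_50_1 (flp_h L719580) (flp_g L719576) L737205
theorem L737219 : sm gj N54813 = N53301 := ded_52_1 (flp_h L721521) (flp_j L719578) L737205
theorem L737221 : sm gd N54813 = N53174 := ded_38_1 (flp_h L719990) L700557 (flp_h L700055) (flp_d L719570) L737205
theorem L737223 : sm gi N54813 = N53184 := ded_54_2 (flp_h L720131) (flp_i L700723) (flp_h L700036) L719562 L737205
theorem L737225 : sm gh N53148 = N54814 := rfl
theorem L737227 : sm ga N54814 = N53158 := ded_17_1 (flp_h L719760) (flp_a L719600) L737225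
theorem L737229 : sm gb N54814 = N53184 := ded_25_1 (flp_h L720131) (flp_b L719602) L737225
theorem L737231 : sm gc N54814 = N53162 := ded_32_1 (flp_h L719818) (flp_c L719604) L737225
theorem L737233 : sm ge N54814 = N53160 := ded_43_1 (flp_h L719791) (flp_e L719608) L737225
theorem L737235 : sm gf N54814 = N53174 := ded_47_1 (flp_h L719990) (flp_f L719610) L737225
theorem L737237 : sm gg N54814 = N53151 := ded_50_1 (flp_h L719650) (flp_g L719612) L737225
theorem L737239 : sm gj N54814 = N53278 := ded_52_1 (flp_h L721282) (flp_j L719614) L737225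
theorem L737241 : sm gd N54814 = N53179 := ded_38_1 (flp_h L720066) L700654 (flp_h L700105) (flp_d L719606) L737225
theorem L737243 : sm gi N54814 = N53153 := ded_54_2 (flp_h L719682) (flp_i L700221) (flp_h L700085) L719598 L737225
theorem L737245 : sm gh N53149 = N54815 := rfl
theorem L737247 : sm ga N54815 = N53160 := ded_17_1 (flp_h L719791) (flp_a L719618) L737245
theorem L737249 : sm gb N54815 = N53213 := ded_25_1 (flp_h L720481) (flp_b L719620) L737245
theorem L737251 : sm gc N54815 = N53151 := ded_32_1 (flp_h L719650) (flp_c L719622) L737245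
theorem L737253 : sm ge N54815 = N53158 := ded_43_1 (flp_h L719760) (flp_e L719625) L737245
theorem L737255 : sm gf N54815 = N53211 := ded_47_1 (flp_h L720451) (flp_f L719627) L737245
theorem L737257 : sm gg N54815 = N53162 := ded_50_1 (flp_h L719818) (flp_g L719629) L737245
theorem L737259 : sm gj N54815 = N53238 := ded_52_1 (flp_h L720796) (flp_j L719631) L737245
theorem L737261 : sm gi N54815 = N53154 := ded_54_2 (flp_h L719696) (flp_i L700235) (flp_h L700117) L719616 L737245
theorem L737263 : sm gh N53150 = N54816 := rfl
theorem L737265 : sm ga N54816 = N53162 := ded_17_1 (flp_h L719818) (flp_a L719635) L737263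
theorem L737267 : sm gb N54816 = N53873 := ded_25_1 (flp_h L727501) (flp_b L719637) L737263
theorem L737269 : sm gc N54816 = N53158 := ded_32_1 (flp_h L719760) (flp_c L719639) L737263
theorem L737271 : sm ge N54816 = N53151 := ded_43_1 (flp_h L719650) (flp_e L719642) L737263
theorem L737273 : sm gf N54816 = N53872 := ded_47_1 (flp_h L727487) (flp_f L719644) L737263
theorem L737275 : sm gg N54816 = N53160 := ded_50_1 (flp_h L719791) (flp_g L719646) L737263
theorem L737277 : sm gj N54816 = N53239 := ded_52_1 (flp_h L720810) (flp_j L719648) L737263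
theorem L737279 : sm gi N54816 = N53155 := ded_54_2 (flp_h L719710) (flp_i L700251) (flp_h L700136) L719633 L737263
theorem L737281 : sm gh N53152 = N54817 := rfl
theorem L737283 : sm ga N54817 = N53163 := ded_17_1 (flp_h L719826) (flp_a L719666) L737281
theorem L737285 : sm gb N54817 = N53179 := ded_25_1 (flp_h L720066) (flp_b L719668) L737281
theorem L737287 : sm gc N54817 = N53167 := ded_32_1 (flp_h L719886) (flp_c L719670) L737281
theorem L737289 : sm ge N54817 = N53176 := ded_43_1 (flp_h L720019) (flp_e L719674) L737281
theorem L737291 : sm gf N54817 = N53153 := ded_47_1 (flp_h L719682) (flp_f L719676) L737281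
theorem L737293 : sm gg N54817 = N53173 := ded_50_1 (flp_h L719974) (flp_g L719678) L737281
theorem L737295 : sm gj N54817 = N53304 := ded_52_1 (flp_h L721559) (flp_j L719680) L737281
theorem L737297 : sm gd N54817 = N53184 := ded_38_1 (flp_h L720131) L700727 (flp_h L700201) (flp_d L719672) L737281
theorem L737299 : sm gi N54817 = N53174 := ded_54_2 (flp_h L719990) (flp_i L700551) (flp_h L700184) L719664 L737281
theorem L737301 : sm gd N53154 = N54818 := rfl
theorem L737303 : sm ga N54818 = N53166 := ded_12_1 (flp_d L719876) (flp_a L719698) L737301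
theorem L737305 : sm gb N54818 = N54126 := ded_20_1 (flp_d L732534) L732522 L737301
theorem L737307 : sm gf N54818 = N54118 := ded_35_2 (flp_d L729892) (flp_f L719704) L737301
theorem L737309 : sm gg N54818 = N53168 := ded_36_2 (flp_d L719900) (flp_g L719706) L737301
theorem L737311 : sm gj N54818 = N53254 := ded_37_2 (flp_d L721016) (flp_j L719708) L737301
theorem L737313 : sm gc N54818 = N53191 := ded_27_1 (flp_d L720213) L700824 (flp_d L700277) (flp_c L719700) L737301
theorem L737315 : sm ge N54818 = N53209 := ded_34_2 (flp_d L720425) L701093 (flp_d L700423) (flp_e L719702) L737301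
theorem L737317 : sm gh N54818 = N53157 := ded_38_2 (flp_d L719743) (flp_h L700296) (flp_d L700241) L719696 L737301
theorem L737319 : sm gd N53155 = N54819 := rfl
theorem L737321 : sm ga N54819 = N53168 := ded_12_1 (flp_d L719900) (flp_a L719712) L737319
theorem L737323 : sm gb N54819 = N54129 := ded_20_1 (flp_d L729986) (flp_b L719714) L737319
theorem L737325 : sm gf N54819 = N54131 := ded_35_2 (flp_d L729999) (flp_f L719720) L737319
theorem L737327 : sm gg N54819 = N53166 := ded_36_2 (flp_d L719876) (flp_g L719722) L737319
theorem L737329 : sm gj N54819 = N53255 := ded_37_2 (flp_d L721030) (flp_j L719724) L737319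
theorem L737331 : sm gc N54819 = N53208 := ded_27_1 (flp_d L720415) L701083 (flp_d L700423) (flp_c L719716) L737319
theorem L737333 : sm ge N54819 = N53192 := ded_34_2 (flp_d L720223) L700834 (flp_d L700277) (flp_e L719718) L737319
theorem L737335 : sm gh N54819 = N53156 := ded_38_2 (flp_d L719726) (flp_h L700279) (flp_d L700259) L719710 L737319
theorem L737337 : sm gh N53159 = N54820 := rfl
theorem L737339 : sm ga N54820 = N53206 := ded_17_1 (flp_h L720397) (flp_a L719776) L737337
theorem L737341 : sm gb N54820 = N53160 := ded_25_1 (flp_h L719791) (flp_b L719778) L737337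
theorem L737343 : sm gc N54820 = N53197 := ded_32_1 (flp_h L720283) (flp_c L719780) L737337
theorem L737345 : sm ge N54820 = N53184 := ded_43_1 (flp_h L720131) (flp_e L719783) L737337
theorem L737347 : sm gf N54820 = N53199 := ded_47_1 (flp_h L720315) (flp_f L719785) L737337
theorem L737349 : sm gg N54820 = N53873 := ded_50_1 (flp_h L727501) (flp_g L719787) L737337
theorem L737351 : sm gj N54820 = N53277 := ded_52_1 (flp_h L721272) (flp_j L719789) L737337
theorem L737353 : sm gi N54820 = N53165 := ded_54_2 (flp_h L719864) (flp_i L700425) (flp_h L700336) L719774 L737337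
theorem L737355 : sm gd N53160 = N54821 := rfl
theorem L737357 : sm gf N54821 = N54121 := ded_35_2 (flp_d L729923) (flp_f L719795) L737355
theorem L737359 : sm gj N54821 = N53279 := ded_37_2 (flp_d L721294) (flp_j L719797) L737355
theorem L737361 : sm gi N54821 = N53166 := ded_39_2 (flp_d L719876) (flp_i L719799) L737355
theorem L737363 : sm gc N54821 = N53203 := ded_27_1 (flp_d L720369) L701014 (flp_d L700381) (flp_c L719793) L737355
theorem L737365 : sm gh N54821 = N54821 := ded_38_2 (flp_d L737355) (flp_h L719791) L700346 L719791 L737355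
theorem L737366 : sm gh N53161 = N54822 := rfl
theorem L737368 : sm ga N54822 = N53872 := ded_17_1 (flp_h L727487) (flp_a L719803) L737366
theorem L737370 : sm gb N54822 = N53183 := ded_25_1 (flp_h L720121) (flp_b L719805) L737366
theorem L737372 : sm gc N54822 = N53174 := ded_32_1 (flp_h L719990) (flp_c L719807) L737366
theorem L737374 : sm ge N54822 = N53173 := ded_43_1 (flp_h L719974) (flp_e L719810) L737366
theorem L737376 : sm gf N54822 = N53162 := ded_47_1 (flp_h L719818) (flp_f L719812) L737366
theorem L737378 : sm gg N54822 = N53176 := ded_50_1 (flp_h L720019) (flp_g L719814) L737366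
theorem L737380 : sm gj N54822 = N53281 := ded_52_1 (flp_h L721318) (flp_j L719816) L737366
theorem L737382 : sm gi N54822 = N53167 := ded_54_2 (flp_h L719886) (flp_i L700447) (flp_h L700362) L719801 L737366
theorem L737384 : sm gd N53162 = N54823 := rfl
theorem L737386 : sm gj N54823 = N53282 := ded_37_2 (flp_d L721332) (flp_j L719822) L737384
theorem L737388 : sm gi N54823 = N53168 := ded_39_2 (flp_d L719900) (flp_i L719824) L737384
theorem L737390 : sm ge N54823 = N53205 := ded_34_2 (flp_d L720390) L701035 (flp_d L700381) (flp_e L719820) L737384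
theorem L737392 : sm gh N54823 = N54823 := ded_38_2 (flp_d L737384) (flp_h L719818) L700370 L719818 L737384
theorem L737393 : sm gd N53165 = N54824 := rfl
theorem L737395 : sm ga N54824 = N54133 := ded_12_1 (flp_d L732623) L732609 L737393
theorem L737397 : sm gb N54824 = N53166 := ded_20_1 (flp_d L719876) (flp_b L719866) L737393
theorem L737399 : sm gf N54824 = N53208 := ded_35_2 (flp_d L720415) (flp_f L719870) L737393
theorem L737401 : sm gg N54824 = N54129 := ded_36_2 (flp_d L729986) (flp_g L719872) L737393
theorem L737403 : sm gj N54824 = N53302 := ded_37_2 (flp_d L721531) (flp_j L719874) L737393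
theorem L737405 : sm gc N54824 = N54131 := ded_27_1 (flp_d L729999) (flp_c L719830) L719840 (flp_c L719868) L737393
theorem L737407 : sm ge N54824 = N54132 := ded_34_2 (flp_d L730007) (flp_e L719996) (flp_d L737221) L737213 L737393
theorem L737409 : sm gh N54824 = N53171 := ded_38_2 (flp_d L719942) (flp_h L700493) (flp_d L700431) L719864 L737393
theorem L737411 : sm ge N53166 = N54825 := rfl
theorem L737413 : sm ga N54825 = N53209 := ded_13_1 (flp_e L737315) L737303 L737411
theorem L737415 : sm gb N54825 = N54132 := ded_21_1 (flp_e L737407) L737397 L737411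
theorem L737417 : sm gc N54825 = N53215 := ded_28_1 (flp_e L720496) (flp_c L719882) L737411
theorem L737419 : sm gg N54825 = N53192 := ded_41_2 (flp_e L737333) L737327 L737411
theorem L737421 : sm gj N54825 = N53305 := ded_42_2 (flp_e L721571) (flp_j L719880) L737411
theorem L737423 : sm gh N54825 = N53172 := ded_43_2 (flp_e L719959) (flp_h L719884) L737411
theorem L737425 : sm gd N54825 = N53188 := ded_34_1 L720189 (flp_d L719694) L719688 L719876 L737411
theorem L737427 : sm gd N53167 = N54826 := rfl
theorem L737429 : sm ga N54826 = N54131 := ded_12_1 (flp_d L729999) (flp_a L719888) L737427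
theorem L737431 : sm gb N54826 = N53192 := ded_20_1 (flp_d L720223) (flp_b L719890) L737427
theorem L737433 : sm gf N54826 = N53168 := ded_35_2 (flp_d L719900) (flp_f L719894) L737427
theorem L737435 : sm gg N54826 = N54132 := ded_36_2 (flp_d L730007) (flp_g L719896) L737427
theorem L737437 : sm gj N54826 = N53307 := ded_37_2 (flp_d L721595) (flp_j L719898) L737427
theorem L737439 : sm gc N54826 = N54133 := ded_27_1 (flp_d L732623) L732613 (flp_d L737297) L737287 L737427
theorem L737441 : sm ge N54826 = N54129 := ded_34_2 (flp_d L729986) (flp_e L719588) L719594 (flp_e L719892) L737427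
theorem L737443 : sm gh N54826 = N53169 := ded_38_2 (flp_d L719908) (flp_h L700469) (flp_d L700453) L719886 L737427
theorem L737445 : sm gc N53168 = N54827 := rfl
theorem L737447 : sm ga N54827 = N53208 := ded_11_1 (flp_c L737331) L737321 L737445
theorem L737449 : sm ge N54827 = N53218 := ded_28_2 (flp_c L720524) (flp_e L719904) L737445
theorem L737451 : sm gf N54827 = N54133 := ded_29_2 (flp_c L737439) L737433 L737445
theorem L737453 : sm gg N54827 = N53191 := ded_30_2 (flp_c L737313) L737309 L737445
theorem L737455 : sm gj N54827 = N53308 := ded_31_2 (flp_c L721607) (flp_j L719902) L737445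
theorem L737457 : sm gh N54827 = N53170 := ded_32_2 (flp_c L719925) (flp_h L719906) L737445
theorem L737459 : sm gd N54827 = N53186 := ded_27_2 L720159 (flp_d L719694) L719686 L719900 L737445
theorem L737461 : sm gb N54134 = N54827 := ded_22_3 L737451 L730017 L730023
theorem L737463 : sm gh N53175 = N54828 := rfl
theorem L737465 : sm ga N54828 = N53200 := ded_17_1 (flp_h L720327) (flp_a L720004) L737463
theorem L737467 : sm gb N54828 = N53176 := ded_25_1 (flp_h L720019) (flp_b L720006) L737463
theorem L737469 : sm gc N54828 = N53189 := ded_32_1 (flp_h L720195) (flp_c L720008) L737463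
theorem L737471 : sm ge N54828 = N53179 := ded_43_1 (flp_h L720066) (flp_e L720011) L737463
theorem L737473 : sm gf N54828 = N53207 := ded_47_1 (flp_h L720403) (flp_f L720013) L737463
theorem L737475 : sm gg N54828 = N53183 := ded_50_1 (flp_h L720121) (flp_g L720015) L737463
theorem L737477 : sm gj N54828 = N53333 := ded_52_1 (flp_h L721927) (flp_j L720017) L737463
theorem L737479 : sm gi N54828 = N53188 := ded_54_2 (flp_h L720183) (flp_i L700779) (flp_h L700576) L720002 L737463
theorem L737481 : sm gd N53176 = N54829 := rfl
theorem L737483 : sm ga N54829 = N54127 := ded_12_1 (flp_d L729970) (flp_a L720021) L737481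
theorem L737485 : sm gf N54829 = N54122 := ded_35_2 (flp_d L729932) (flp_f L720025) L737481
theorem L737487 : sm gj N54829 = N53334 := ded_37_2 (flp_d L721939) (flp_j L720027) L737481
theorem L737489 : sm gi N54829 = N54132 := ded_39_2 (flp_d L730007) (flp_i L720029) L737481
theorem L737491 : sm gc N54829 = N54130 := ded_27_1 (flp_d L729996) (flp_c L719586) L719594 (flp_c L720023) L737481
theorem L737493 : sm gh N54829 = N54829 := ded_38_2 (flp_d L737481) (flp_h L720019) L700588 L720019 L737481
theorem L737494 : sm gh N53177 = N54830 := rfl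
theorem L737496 : sm ga N54830 = N53198 := ded_17_1 (flp_h L720297) (flp_a L720033) L737494
theorem L737498 : sm gb N54830 = N53304 := ded_25_1 (flp_h L721559) (flp_b L720035) L737494
theorem L737500 : sm gc N54830 = N53387 := ded_32_1 (flp_h L722513) (flp_c L720037) L737494
theorem L737502 : sm ge N54830 = N53333 := ded_43_1 (flp_h L721927) (flp_e L720041) L737494
theorem L737504 : sm gf N54830 = N53301 := ded_47_1 (flp_h L721521) (flp_f L720043) L737494
theorem L737506 : sm gg N54830 = N53350 := ded_50_1 (flp_h L722124) (flp_g L720045) L737494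
theorem L737508 : sm gj N54830 = N53179 := ded_52_1 (flp_h L720066) (flp_j L720047) L737494
theorem L737510 : sm gd N54830 = N53278 := ded_38_1 (flp_h L721282) L702059 (flp_h L700631) (flp_d L720039) L737494
theorem L737512 : sm gi N54830 = N53185 := ded_54_2 (flp_h L720139) (flp_i L700733) (flp_h L700613) L720031 L737494
theorem L737514 : sm gh N53178 = N54831 := rfl
theorem L737516 : sm ga N54831 = N53199 := ded_17_1 (flp_h L720315) (flp_a L720051) L737514
theorem L737518 : sm gb N54831 = N53190 := ded_25_1 (flp_h L720203) (flp_b L720053) L737514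
theorem L737520 : sm gc N54831 = N53179 := ded_32_1 (flp_h L720066) (flp_c L720055) L737514
theorem L737522 : sm ge N54831 = N53189 := ded_43_1 (flp_h L720195) (flp_e L720058) L737514
theorem L737524 : sm gf N54831 = N53206 := ded_47_1 (flp_h L720397) (flp_f L720060) L737514
theorem L737526 : sm gg N54831 = N53182 := ded_50_1 (flp_h L720109) (flp_g L720062) L737514
theorem L737528 : sm gj N54831 = N53387 := ded_52_1 (flp_h L722513) (flp_j L720064) L737514
theorem L737530 : sm gi N54831 = N53186 := ded_54_2 (flp_h L720155) (flp_i L700749) (flp_h L700645) L720049 L737514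
theorem L737532 : sm gh N53180 = N54832 := rfl
theorem L737534 : sm ga N54832 = N53207 := ded_17_1 (flp_h L720403) (flp_a L720076) L737532
theorem L737536 : sm gb N54832 = N53182 := ded_25_1 (flp_h L720109) (flp_b L720078) L737532
theorem L737538 : sm gc N54832 = N53188 := ded_32_1 (flp_h L720183) (flp_c L720080) L737532
theorem L737540 : sm ge N54832 = N53186 := ded_43_1 (flp_h L720155) (flp_e L720083) L737532
theorem L737542 : sm gf N54832 = N53200 := ded_47_1 (flp_h L720327) (flp_f L720085) L737532
theorem L737544 : sm gg N54832 = N53190 := ded_50_1 (flp_h L720203) (flp_g L720087) L737532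
theorem L737546 : sm gj N54832 = N53357 := ded_52_1 (flp_h L722206) (flp_j L720089) L737532
theorem L737548 : sm gi N54832 = N53189 := ded_54_2 (flp_h L720195) (flp_i L700799) (flp_h L700667) L720074 L737532
theorem L737550 : sm gh N53181 = N54833 := rfl
theorem L737552 : sm ga N54833 = N53202 := ded_17_1 (flp_h L720357) (flp_a L720093) L737550
theorem L737554 : sm gb N54833 = N53186 := ded_25_1 (flp_h L720155) (flp_b L720095) L737550
theorem L737556 : sm gc N54833 = N53183 := ded_32_1 (flp_h L720121) (flp_c L720097) L737550
theorem L737558 : sm ge N54833 = N53182 := ded_43_1 (flp_h L720109) (flp_e L720101) L737550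
theorem L737560 : sm gf N54833 = N53216 := ded_47_1 (flp_h L720502) (flp_f L720103) L737550
theorem L737562 : sm gg N54833 = N53189 := ded_50_1 (flp_h L720195) (flp_g L720105) L737550
theorem L737564 : sm gj N54833 = N53358 := ded_52_1 (flp_h L722220) (flp_j L720107) L737550
theorem L737566 : sm gd N54833 = N54134 := ded_38_1 L730027 L711298 (flp_h L700887) (flp_d L720099) L737550
theorem L737568 : sm gi N54833 = N53190 := ded_54_2 (flp_h L720203) (flp_i L700809) (flp_h L700687) L720091 L737550
theorem L737570 : sm gd N53182 = N54834 := rfl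
theorem L737572 : sm ga N54834 = N53203 := ded_12_1 (flp_d L720369) (flp_a L720111) L737570
theorem L737574 : sm gf N54834 = N54125 := ded_35_2 (flp_d L729953) (flp_f L720115) L737570
theorem L737576 : sm gj N54834 = N53359 := ded_37_2 (flp_d L722236) (flp_j L720117) L737570
theorem L737578 : sm gi N54834 = N53191 := ded_39_2 (flp_d L720213) (flp_i L720119) L737570
theorem L737580 : sm gh N54834 = N54834 := ded_38_2 (flp_d L737570) (flp_h L720109) L700699 L720109 L737570
theorem L737581 : sm gd N53183 = N54835 := rfl
theorem L737583 : sm ga N54835 = N53205 := ded_12_1 (flp_d L720390) (flp_a L720123) L737581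
theorem L737585 : sm gj N54835 = N53360 := ded_37_2 (flp_d L722245) (flp_j L720127) L737581
theorem L737587 : sm gi N54835 = N53192 := ded_39_2 (flp_d L720223) (flp_i L720129) L737581
theorem L737589 : sm gh N54835 = N54835 := ded_38_2 (flp_d L737581) (flp_h L720121) L700708 L720121 L737581
theorem L737590 : sm gh N53187 = N54836 := rfl
theorem L737592 : sm ga N54836 = N53189 := ded_17_1 (flp_h L720195) (flp_a L720167) L737590
theorem L737594 : sm gb N54836 = N53210 := ded_25_1 (flp_h L720435) (flp_b L720169) L737590
theorem L737596 : sm gc N54836 = N53200 := ded_32_1 (flp_h L720327) (flp_c L720171) L737590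
theorem L737598 : sm ge N54836 = N53199 := ded_43_1 (flp_h L720315) (flp_e L720175) L737590
theorem L737600 : sm gf N54836 = N53188 := ded_47_1 (flp_h L720183) (flp_f L720177) L737590
theorem L737602 : sm gg N54836 = N53202 := ded_50_1 (flp_h L720357) (flp_g L720179) L737590
theorem L737604 : sm gj N54836 = N53386 := ded_52_1 (flp_h L722499) (flp_j L720181) L737590
theorem L737606 : sm gi N54836 = N53207 := ded_54_2 (flp_h L720403) (flp_i L701066) (flp_h L700773) L720165 L737590
theorem L737608 : sm gd N53189 = N54837 := rfl
theorem L737610 : sm gb N54837 = N53191 := ded_20_1 (flp_d L720213) (flp_b L720197) L737608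
theorem L737612 : sm gf N54837 = N53209 := ded_35_2 (flp_d L720425) (flp_f L720199) L737608
theorem L737614 : sm gg N54837 = N54134 := ded_36_2 (flp_d L737566) L737562 L737608
theorem L737616 : sm gj N54837 = N53388 := ded_37_2 (flp_d L722523) (flp_j L720201) L737608
theorem L737618 : sm gh N54837 = N53195 := ded_38_2 (flp_d L720260) (flp_h L700905) (flp_d L700803) L720195 L737608
theorem L737620 : sm gd N53190 = N54838 := rfl
theorem L737622 : sm ga N54838 = N53214 := ded_12_1 (flp_d L720491) (flp_a L720205) L737620
theorem L737624 : sm gf N54838 = N54128 := ded_35_2 (flp_d L732556) L732548 L737620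
theorem L737626 : sm gj N54838 = N53389 := ded_37_2 (flp_d L722531) (flp_j L720211) L737620
theorem L737628 : sm gi N54838 = N54134 := ded_39_2 (flp_d L737566) L737568 L737620
theorem L737630 : sm gh N54838 = N54838 := ded_38_2 (flp_d L737620) (flp_h L720203) L700815 L720203 L737620
theorem L737631 : sm ge N53191 = N54839 := rfl
theorem L737633 : sm ga N54839 = N53215 := ded_13_1 (flp_e L720496) (flp_a L720215) L737631
theorem L737635 : sm gc N54839 = N53209 := ded_28_1 (flp_e L737315) L737313 L737631
theorem L737637 : sm gg N54839 = N53218 := ded_41_2 (flp_e L737449) L737453 L737631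
theorem L737639 : sm gj N54839 = N53390 := ded_42_2 (flp_e L722540) (flp_j L720219) L737631
theorem L737641 : sm gh N54839 = N53196 := ded_43_2 (flp_e L720271) (flp_h L720221) L737631
theorem L737643 : sm gc N53192 = N54840 := rfl
theorem L737645 : sm ga N54840 = N53218 := ded_11_1 (flp_c L720524) (flp_a L720225) L737643
theorem L737647 : sm ge N54840 = N53208 := ded_28_2 (flp_c L737331) L737333 L737643
theorem L737649 : sm gg N54840 = N53215 := ded_30_2 (flp_c L737417) L737419 L737643
theorem L737651 : sm gj N54840 = N53391 := ded_31_2 (flp_c L722548) (flp_j L720227) L737643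
theorem L737653 : sm gh N54840 = N53194 := ded_32_2 (flp_c L720246) (flp_h L720229) L737643
theorem L737655 : sm gb N54840 = N54123 := ded_19_1 L729939 (flp_b L730017) (flp_c L737439) L737431 L737643
theorem L737657 : sm gc N53195 = N54841 := rfl
theorem L737659 : sm ga N54841 = N53220 := ded_11_1 (flp_c L732678) L732676 L737657
theorem L737661 : sm gf N54841 = N53196 := ded_29_2 L720275 (flp_f L720264) L737657
theorem L737663 : sm gg N54841 = N54124 := ded_30_2 L729947 (flp_g L720266) L737657
theorem L737665 : sm gj N54841 = N53404 := ded_31_2 (flp_c L722710) (flp_j L720268) L737657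
theorem L737667 : sm gi N54841 = N54841 := ded_33_2 (flp_c L737657) L720270 L737657
theorem L737668 : sm gb N54841 = N54120 := ded_19_1 L729917 (flp_b L719747) L719756 (flp_b L720262) L737657
theorem L737670 : sm gd N54841 = N54841 := ded_27_2 (flp_c L737657) (flp_d L720260) L700909 L720260 L737657
theorem L737671 : sm ge N54119 = N54841 := ded_56_2 L737670 (flp_c L737657) L720262 L700920 (flp_h L701167) L701163 L711258 (flp_d L720510) (flp_c L732506) L732504 (flp_a L737265) (flp_h L737263) L719644 L708319 L686985 L664727 L374992 L257828 L641276 L180683 L124490 L85965 L61198 (flp_b L88405) (flp_a L127902) L127908 L127905 (flp_e L185666) (flp_d L269873) L649313 L354525 (flp_a L358775) L657507 L657512 (flp_e L652231) L652236 (flp_c L651316) L651315 L651313 (flp_h L649498) L270250 (flp_e L262531) L262529 (flp_c L262351) (flp_b L374678) (flp_a L664430) L664442 (flp_f L652504) L652503 (flp_d L673997) L673995 (flp_b L686888) L686886 L690079 (flp_f L700597) (flp_e L719892) L737427 L737439 L730017 (flp_a L729964) L729968 (flp_f L729908)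
theorem L737673 : sm ge N53195 = N54842 := rfl
theorem L737675 : sm ga N54842 = N54124 := ded_13_1 (flp_e L732667) L732676 L737673
theorem L737677 : sm gb N54842 = N53196 := ded_21_1 (flp_e L720271) (flp_b L720262) L737673
theorem L737679 : sm gc N54842 = N54119 := ded_28_1 L737671 (flp_c L737657) L737673
theorem L737681 : sm gg N54842 = N53220 := ded_41_2 L720547 (flp_g L720266) L737673
theorem L737683 : sm gj N54842 = N53405 := ded_42_2 (flp_e L722722) (flp_j L720268) L737673
theorem L737685 : sm gi N54842 = N54842 := ded_44_2 (flp_e L737673) L720270 L737673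
theorem L737686 : sm gd N54842 = N54842 := ded_34_1 (flp_e L737673) (flp_d L720260) L700910 L720260 L737673
theorem L737687 : sm gf N54842 = N54120 := ded_40_2 (flp_e L729913) (flp_f L719749) L719758 (flp_f L720264) L737673
theorem L737689 : sm gd N53199 = N54843 := rfl
theorem L737691 : sm gb N54843 = N54121 := ded_20_1 (flp_d L729923) (flp_b L720317) L737689
theorem L737693 : sm gg N54843 = N53203 := ded_36_2 (flp_d L720369) (flp_g L720321) L737689
theorem L737695 : sm gj N54843 = N54153 := ded_37_2 (flp_d L730197) (flp_j L720323) L737689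
theorem L737697 : sm gi N54843 = N53208 := ded_39_2 (flp_d L720415) (flp_i L720325) L737689
theorem L737699 : sm gh N54843 = N54843 := ded_38_2 (flp_d L737689) (flp_h L720315) L700961 L720315 L737689
theorem L737700 : sm gd N53200 = N54844 := rfl
theorem L737702 : sm gb N54844 = N54125 := ded_20_1 (flp_d L729953) (flp_b L720329) L737700
theorem L737704 : sm gg N54844 = N53205 := ded_36_2 (flp_d L720390) (flp_g L720333) L737700
theorem L737706 : sm gj N54844 = N54181 := ded_37_2 (flp_d L730389) (flp_j L720335) L737700
theorem L737708 : sm gi N54844 = N53209 := ded_39_2 (flp_d L720425) (flp_i L720337) L737700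
theorem L737710 : sm gh N54844 = N54844 := ded_38_2 (flp_d L737700) (flp_h L720327) L700970 L720327 L737700
theorem L737711 : sm gd N53201 = N54845 := rfl
theorem L737713 : sm ga N54845 = N54122 := ded_12_1 (flp_d L729932) (flp_a L720341) L737711
theorem L737715 : sm gb N54845 = N53203 := ded_20_1 (flp_d L720369) (flp_b L720343) L737711
theorem L737717 : sm gf N54845 = N54127 := ded_35_2 (flp_d L729970) (flp_f L720349) L737711
theorem L737719 : sm gg N54845 = N54121 := ded_36_2 (flp_d L729923) (flp_g L720351) L737711
theorem L737721 : sm gj N54845 = N53441 := ded_37_2 (flp_d L723082) (flp_j L720353) L737711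
theorem L737723 : sm gi N54845 = N53212 := ded_39_2 (flp_d L720467) (flp_i L720355) L737711
theorem L737725 : sm gc N54845 = N53874 := ded_27_1 (flp_d L727515) L708352 (flp_d L708268) (flp_c L720345) L737711
theorem L737727 : sm gh N54845 = N54845 := ded_38_2 (flp_d L737711) (flp_h L720339) L700991 L720339 L737711
theorem L737728 : sm gd N53202 = N54846 := rfl
theorem L737730 : sm ga N54846 = N54134 := ded_12_1 (flp_d L737566) L737552 L737728
theorem L737732 : sm gb N54846 = N54118 := ded_20_1 (flp_d L729892) (flp_b L720359) L737728
theorem L737734 : sm gf N54846 = N54126 := ded_35_2 (flp_d L732534) L732528 L737728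
theorem L737736 : sm gj N54846 = N53442 := ded_37_2 (flp_d L723095) (flp_j L720365) L737728
theorem L737738 : sm gi N54846 = N53214 := ded_39_2 (flp_d L720491) (flp_i L720367) L737728
theorem L737740 : sm gh N54846 = N54119 := ded_38_2 (flp_d L729902) (flp_h L711096) (flp_d L701006) L720357 L737728
theorem L737742 : sm ge N53203 = N54847 := rfl
theorem L737744 : sm gj N54847 = N53443 := ded_42_2 (flp_e L723107) (flp_j L720373) L737742
theorem L737746 : sm gh N54847 = N54847 := ded_43_2 (flp_e L737742) L720377 L737742
theorem L737747 : sm gi N54847 = N53215 := ded_44_2 (flp_e L720496) (flp_i L720375) L737742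
theorem L737749 : sm gd N53204 = N54848 := rfl
theorem L737751 : sm gb N54848 = N54130 := ded_20_1 (flp_d L729996) (flp_b L720380) L737749
theorem L737753 : sm gf N54848 = N53205 := ded_35_2 (flp_d L720390) (flp_f L720384) L737749
theorem L737755 : sm gg N54848 = N54128 := ded_36_2 (flp_d L732556) L732550 L737749
theorem L737757 : sm gj N54848 = N53445 := ded_37_2 (flp_d L723120) (flp_j L720386) L737749
theorem L737759 : sm gi N54848 = N53217 := ded_39_2 (flp_d L720512) (flp_i L720388) L737749
theorem L737761 : sm ge N54848 = N53874 := ded_34_2 (flp_d L727515) L708354 (flp_d L708296) (flp_e L720382) L737749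
theorem L737763 : sm gh N54848 = N54848 := ded_38_2 (flp_d L737749) (flp_h L720378) L701026 L720378 L737749
theorem L737764 : sm gc N53205 = N54849 := rfl
theorem L737766 : sm gj N54849 = N53446 := ded_31_2 (flp_c L723129) (flp_j L720392) L737764
theorem L737768 : sm gh N54849 = N54849 := ded_32_2 (flp_c L737764) L720396 L737764
theorem L737769 : sm gi N54849 = N53218 := ded_33_2 (flp_c L720524) (flp_i L720394) L737764
theorem L737771 : sm gd N53206 = N54850 := rfl
theorem L737773 : sm gb N54850 = N54128 := ded_20_1 (flp_d L732556) L732542 L737771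
theorem L737775 : sm gg N54850 = N54130 := ded_36_2 (flp_d L729996) (flp_g L720401) L737771
theorem L737777 : sm gj N54850 = N54200 := ded_37_2 L733093 L733089 L737771
theorem L737779 : sm gi N54850 = N54133 := ded_39_2 (flp_d L732623) L732625 L737771
theorem L737781 : sm ge N54850 = N54127 := ded_34_2 (flp_d L729970) (flp_e L719832) L719840 (flp_e L720399) L737771
theorem L737783 : sm gh N54850 = N54850 := ded_38_2 (flp_d L737771) (flp_h L720397) L701043 L720397 L737771
theorem L737784 : sm gd N53207 = N54851 := rfl
theorem L737786 : sm gb N54851 = N54122 := ded_20_1 (flp_d L729932) (flp_b L720405) L737784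
theorem L737788 : sm gg N54851 = N53214 := ded_36_2 (flp_d L720491) (flp_g L720411) L737784
theorem L737790 : sm gj N54851 = N54167 := ded_37_2 (flp_d L730295) (flp_j L720413) L737784
theorem L737792 : sm gh N54851 = N54851 := ded_38_2 (flp_d L737784) (flp_h L720403) L701072 L720403 L737784
theorem L737793 : sm gd N53211 = N54852 := rfl
theorem L737795 : sm ga N54852 = N54121 := ded_12_1 (flp_d L729923) (flp_a L720453) L737793
theorem L737797 : sm gb N54852 = N53214 := ded_20_1 (flp_d L720491) (flp_b L720455) L737793
theorem L737799 : sm gg N54852 = N54122 := ded_36_2 (flp_d L729932) (flp_g L720461) L737793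
theorem L737801 : sm gj N54852 = N53490 := ded_37_2 (flp_d L723537) (flp_j L720463) L737793
theorem L737803 : sm gi N54852 = N54118 := ded_39_2 (flp_d L729892) (flp_i L720465) L737793
theorem L737805 : sm gc N54852 = N54125 := ded_27_1 (flp_d L729953) L711154 (flp_d L711068) (flp_c L720457) L737793
theorem L737807 : sm gh N54852 = N54852 := ded_38_2 (flp_d L737793) (flp_h L720451) L701123 L720451 L737793
theorem L737808 : sm ge N53212 = N54853 := rfl
theorem L737810 : sm gb N54853 = N53215 := ded_21_1 (flp_e L720496) (flp_b L720469) L737808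
theorem L737812 : sm gc N54853 = N53217 := ded_28_1 L720520 (flp_c L720477) L737808
theorem L737814 : sm gg N54853 = N54123 := ded_41_2 (flp_e L729937) (flp_g L720473) L737808
theorem L737816 : sm gj N54853 = N53491 := ded_42_2 (flp_e L723548) (flp_j L720475) L737808
theorem L737818 : sm gh N54853 = N53219 := ded_43_2 L720532 (flp_h L720479) L737808
theorem L737820 : sm gf N54853 = N53218 := ded_40_2 (flp_e L737449) L737451 (flp_e L730015) (flp_f L720471) L737808
theorem L737822 : sm gd N53213 = N54854 := rfl
theorem L737824 : sm ga N54854 = N54128 := ded_12_1 (flp_d L732556) L732540 L737822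
theorem L737826 : sm gf N54854 = N53214 := ded_35_2 (flp_d L720491) (flp_f L720487) L737822
theorem L737828 : sm gj N54854 = N53493 := ded_37_2 (flp_d L723566) (flp_j L720489) L737822
theorem L737830 : sm gi N54854 = N54126 := ded_39_2 (flp_d L732534) L732536 L737822
theorem L737832 : sm ge N54854 = N54125 := ded_34_2 (flp_d L729953) (flp_e L714790) L714798 (flp_e L720485) L737822
theorem L737834 : sm gh N54854 = N54854 := ded_38_2 (flp_d L737822) (flp_h L720481) L701146 L720481 L737822
theorem L737835 : sm gc N53214 = N54855 := rfl
theorem L737837 : sm gj N54855 = N53494 := ded_31_2 (flp_c L723577) (flp_j L720493) L737835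
theorem L737839 : sm gh N54855 = N54855 := ded_32_2 (flp_c L737835) L720495 L737835
theorem L737840 : sm gd N54855 = N53218 := ded_27_2 (flp_c L720524) (flp_d L701187) (flp_c L701155) L720491 L737835
theorem L737842 : sm ge N53214 = N54856 := rfl
theorem L737844 : sm gj N54856 = N53495 := ded_42_2 (flp_e L723582) (flp_j L720493) L737842
theorem L737846 : sm gh N54856 = N54856 := ded_43_2 (flp_e L737842) L720495 L737842
theorem L737847 : sm gd N54856 = N53215 := ded_34_1 (flp_e L720496) (flp_d L701161) (flp_e L701157) L720491 L737842
theorem L737849 : sm gf N53215 = N54857 := rfl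
theorem L737851 : sm gb N54857 = N53218 := ded_22_1 (flp_f L737820) L737810 L737849
theorem L737853 : sm gj N54857 = N53496 := ded_46_2 (flp_f L723587) (flp_j L720498) L737849
theorem L737855 : sm gh N54857 = N53220 := ded_47_2 L720549 (flp_h L720500) L737849
theorem L737857 : sm ge N54857 = N54134 := ded_40_1 (flp_f L730023) (flp_e L711258) (flp_f L701163) L720496 L737849
theorem L737859 : sm ge N53222 = N54858 := rfl
theorem L737861 : sm ga N54858 = N53415 := ded_13_1 (flp_e L722825) (flp_a L720574) L737859
theorem L737863 : sm gb N54858 = N53242 := ded_21_1 (flp_e L720858) (flp_b L720576) L737859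
theorem L737865 : sm gc N54858 = N53447 := ded_28_1 (flp_e L732971) L732964 L737859
theorem L737867 : sm gg N54858 = N53341 := ded_41_2 (flp_e L722029) (flp_g L720580) L737859
theorem L737869 : sm gj N54858 = N53224 := ded_42_2 (flp_e L720603) (flp_j L720582) L737859
theorem L737871 : sm gh N54858 = N53361 := ded_43_2 (flp_e L722252) (flp_h L720584) L737859
theorem L737873 : sm gd N54858 = N53524 := ded_34_1 (flp_e L723880) (flp_d L704569) (flp_e L701422) L720572 L737859
theorem L737875 : sm gf N54858 = N53287 := ded_40_2 (flp_e L721385) L702155 (flp_e L701467) (flp_f L720578) L737859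
theorem L737877 : sm gi N53222 = N54859 := rfl
theorem L737879 : sm ga N54859 = N53416 := ded_18_1 (flp_i L722837) (flp_a L720574) L737877
theorem L737881 : sm gb N54859 = N53243 := ded_26_1 (flp_i L720870) (flp_b L720576) L737877
theorem L737883 : sm gd N54859 = N53223 := ded_39_1 (flp_i L720586) L720572 L737877
theorem L737885 : sm gf N54859 = N53226 := ded_48_1 (flp_i L720631) (flp_f L720578) L737877
theorem L737887 : sm gg N54859 = N53342 := ded_51_1 (flp_i L722037) (flp_g L720580) L737877
theorem L737889 : sm gj N54859 = N53225 := ded_53_1 (flp_i L720619) (flp_j L720582) L737877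
theorem L737891 : sm gi N53224 = N54860 := rfl
theorem L737893 : sm ga N54860 = N53898 := ded_18_1 (flp_i L727799) (flp_a L720605) L737891
theorem L737895 : sm gb N54860 = N53247 := ded_26_1 (flp_i L720926) (flp_b L720607) L737891
theorem L737897 : sm gc N54860 = N54203 := ded_33_1 (flp_i L730542) (flp_c L720609) L737891
theorem L737899 : sm gd N54860 = N53528 := ded_39_1 (flp_i L723931) (flp_d L720615) L737891
theorem L737901 : sm ge N54860 = N53225 := ded_44_1 (flp_i L720619) L720603 L737891
theorem L737903 : sm gf N54860 = N54201 := ded_48_1 (flp_i L730528) (flp_f L720617) L737891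
theorem L737905 : sm gg N54860 = N53880 := ded_51_1 (flp_i L727590) (flp_g L720611) L737891
theorem L737907 : sm gh N53225 = N54861 := rfl
theorem L737909 : sm ga N54861 = N53907 := ded_17_1 (flp_h L727894) (flp_a L720621) L737907
theorem L737911 : sm gb N54861 = N53248 := ded_25_1 (flp_h L720936) (flp_b L720623) L737907
theorem L737913 : sm gf N54861 = N53227 := ded_47_1 (flp_h L720645) (flp_f L720627) L737907
theorem L737915 : sm gg N54861 = N53882 := ded_50_1 (flp_h L727610) (flp_g L720629) L737907
theorem L737917 : sm gd N54861 = N53329 := ded_38_1 (flp_h L721882) L702716 (flp_h L701455) (flp_d L720625) L737907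
theorem L737919 : sm gi N54861 = N54183 := ded_54_2 (flp_h L730406) (flp_i L711750) (flp_h L701440) L720619 L737907
theorem L737921 : sm gh N53226 = N54862 := rfl
theorem L737923 : sm ga N54862 = N53911 := ded_17_1 (flp_h L727924) (flp_a L720633) L737921
theorem L737925 : sm gb N54862 = N53249 := ded_25_1 (flp_h L720946) (flp_b L720635) L737921
theorem L737927 : sm ge N54862 = N53295 := ded_43_1 (flp_h L721469) (flp_e L720639) L737921
theorem L737929 : sm gg N54862 = N53301 := ded_50_1 (flp_h L721521) (flp_g L720641) L737921
theorem L737931 : sm gj N54862 = N53227 := ded_52_1 (flp_h L720645) (flp_j L720643) L737921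
theorem L737933 : sm gd N54862 = N53330 := ded_38_1 (flp_h L721890) L702728 (flp_h L701482) (flp_d L720637) L737921
theorem L737935 : sm ge N53228 = N54863 := rfl
theorem L737937 : sm ga N54863 = N53263 := ded_13_1 (flp_e L721139) (flp_a L720657) L737935
theorem L737939 : sm gb N54863 = N53361 := ded_21_1 (flp_e L722252) (flp_b L720659) L737935
theorem L737941 : sm gc N54863 = N53268 := ded_28_1 L721195 (flp_c L720669) L737935
theorem L737943 : sm gg N54863 = N53323 := ded_41_2 (flp_e L721812) (flp_g L720663) L737935
theorem L737945 : sm gj N54863 = N53231 := ded_42_2 (flp_e L720703) (flp_j L720665) L737935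
theorem L737947 : sm gh N54863 = N53242 := ded_43_2 (flp_e L720858) (flp_h L720667) L737935
theorem L737949 : sm gd N54863 = N53603 := ded_34_1 (flp_e L724786) (flp_d L705595) (flp_e L701511) L720655 L737935
theorem L737951 : sm gf N54863 = N53266 := ded_40_2 (flp_e L721174) L701975 L701558 (flp_f L720661) L737935
theorem L737953 : sm gi N53228 = N54864 := rfl
theorem L737955 : sm ga N54864 = N53264 := ded_18_1 (flp_i L721149) (flp_a L720657) L737953
theorem L737957 : sm gb N54864 = N53362 := ded_26_1 (flp_i L722262) (flp_b L720659) L737953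
theorem L737959 : sm gc N54864 = N53275 := ded_33_1 (flp_i L721259) (flp_c L720669) L737953
theorem L737961 : sm gd N54864 = N53229 := ded_39_1 (flp_i L720671) L720655 L737953
theorem L737963 : sm gf N54864 = N53233 := ded_48_1 (flp_i L720727) (flp_f L720661) L737953
theorem L737965 : sm gg N54864 = N53324 := ded_51_1 (flp_i L721824) (flp_g L720663) L737953
theorem L737967 : sm gj N54864 = N53232 := ded_53_1 (flp_i L720715) (flp_j L720665) L737953
theorem L737969 : sm ge N53230 = N54865 := rfl
theorem L737971 : sm ga N54865 = N53266 := ded_13_1 (flp_e L721174) (flp_a L720690) L737969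
theorem L737973 : sm gb N54865 = N53465 := ded_21_1 L723321 (flp_b L720700) L737969
theorem L737975 : sm gc N54865 = N53231 := ded_28_1 (flp_e L720703) L720688 L737969
theorem L737977 : sm gg N54865 = N53459 := ded_41_2 L723266 (flp_g L720694) L737969
theorem L737979 : sm gj N54865 = N53268 := ded_42_2 L721195 (flp_j L720696) L737969
theorem L737981 : sm gh N54865 = N53244 := ded_43_2 (flp_e L720882) (flp_h L720698) L737969
theorem L737983 : sm gf N54865 = N53263 := ded_40_2 (flp_e L721139) L701952 L701585 (flp_f L720692) L737969
theorem L737985 : sm gi N53230 = N54866 := rfl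
theorem L737987 : sm ga N54866 = N53267 := ded_18_1 (flp_i L721182) (flp_a L720690) L737985
theorem L737989 : sm gb N54866 = N53482 := ded_26_1 (flp_i L723485) (flp_b L720700) L737985
theorem L737991 : sm gc N54866 = N53232 := ded_33_1 (flp_i L720715) L720688 L737985
theorem L737993 : sm gd N54866 = N54866 := ded_39_1 (flp_i L737985) L720702 L737985
theorem L737994 : sm gf N54866 = N53234 := ded_48_1 (flp_i L720741) (flp_f L720692) L737985
theorem L737996 : sm gg N54866 = N53479 := ded_51_1 (flp_i L723444) (flp_g L720694) L737985
theorem L737998 : sm gj N54866 = N53275 := ded_53_1 (flp_i L721259) (flp_j L720696) L737985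
theorem L738000 : sm gf N53231 = N54867 := rfl
theorem L738002 : sm ga N54867 = N53268 := ded_14_1 (flp_f L721191) (flp_a L720705) L738000
theorem L738004 : sm gb N54867 = N53895 := ded_22_1 L727781 (flp_b L720707) L738000
theorem L738006 : sm gc N54867 = N53263 := ded_29_1 (flp_f L737983) L737975 L738000
theorem L738008 : sm gd N54867 = N54262 := ded_35_1 L730944 (flp_d L720713) L738000
theorem L738010 : sm gj N54867 = N53266 := ded_46_2 (flp_f L737951) L737945 L738000
theorem L738012 : sm gh N54867 = N53246 := ded_47_2 (flp_f L720910) (flp_h L720711) L738000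
theorem L738014 : sm ge N54867 = N53235 := ded_40_1 (flp_f L720756) (flp_e L701587) (flp_f L701525) L720703 L738000
theorem L738016 : sm gg N54867 = N53890 := ded_45_2 (flp_f L727702) L708674 (flp_f L711315) (flp_g L720709) L738000
theorem L738018 : sm gi N53231 = N54868 := rfl
theorem L738020 : sm ga N54868 = N53269 := ded_18_1 (flp_i L721197) (flp_a L720705) L738018
theorem L738022 : sm gb N54868 = N54182 := ded_26_1 (flp_i L730396) (flp_b L720707) L738018
theorem L738024 : sm gd N54868 = N54272 := ded_39_1 (flp_i L731016) (flp_d L720713) L738018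
theorem L738026 : sm ge N54868 = N53232 := ded_44_1 (flp_i L720715) L720703 L738018
theorem L738028 : sm gg N54868 = N54135 := ded_51_1 (flp_i L730029) (flp_g L720709) L738018
theorem L738030 : sm gh N53232 = N54869 := rfl
theorem L738032 : sm ga N54869 = N53270 := ded_17_1 (flp_h L721203) (flp_a L720717) L738030
theorem L738034 : sm gb N54869 = N54183 := ded_25_1 (flp_h L730406) (flp_b L720719) L738030
theorem L738036 : sm gf N54869 = N53237 := ded_47_1 (flp_h L720786) (flp_f L720723) L738030
theorem L738038 : sm gg N54869 = N54136 := ded_50_1 (flp_h L730043) (flp_g L720725) L738030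
theorem L738040 : sm gd N54869 = N53348 := ded_38_1 (flp_h L722099) L702868 (flp_h L701544) (flp_d L720721) L738030
theorem L738042 : sm gi N54869 = N53248 := ded_54_2 (flp_h L720936) (flp_i L701706) (flp_h L701529) L720715 L738030
theorem L738044 : sm gh N53233 = N54870 := rfl
theorem L738046 : sm ga N54870 = N53271 := ded_17_1 (flp_h L721213) (flp_a L720729) L738044
theorem L738048 : sm gc N54870 = N53276 := ded_32_1 (flp_h L721264) (flp_c L720731) L738044
theorem L738050 : sm ge N54870 = N53273 := ded_43_1 (flp_h L721236) (flp_e L720735) L738044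
theorem L738052 : sm gg N54870 = N53278 := ded_50_1 (flp_h L721282) (flp_g L720737) L738044
theorem L738054 : sm gj N54870 = N53237 := ded_52_1 (flp_h L720786) (flp_j L720739) L738044
theorem L738056 : sm gd N54870 = N53350 := ded_38_1 (flp_h L722124) L702893 (flp_h L701570) (flp_d L720733) L738044
theorem L738058 : sm gi N54870 = N53249 := ded_54_2 (flp_h L720946) (flp_i L701716) (flp_h L701554) L720727 L738044
theorem L738060 : sm gh N53234 = N54871 := rfl
theorem L738062 : sm ga N54871 = N53273 := ded_17_1 (flp_h L721236) (flp_a L720743) L738060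
theorem L738064 : sm gb N54871 = N53492 := ded_25_1 (flp_h L723558) (flp_b L720745) L738060
theorem L738066 : sm gc N54871 = N53237 := ded_32_1 (flp_h L720786) (flp_c L720747) L738060
theorem L738068 : sm ge N54871 = N53271 := ded_43_1 (flp_h L721213) (flp_e L720750) L738060
theorem L738070 : sm gg N54871 = N53238 := ded_50_1 (flp_h L720796) (flp_g L720752) L738060
theorem L738072 : sm gj N54871 = N53276 := ded_52_1 (flp_h L721264) (flp_j L720754) L738060
theorem L738074 : sm gi N54871 = N53250 := ded_54_2 (flp_h L720960) (flp_i L701730) (flp_h L701580) L720741 L738060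
theorem L738076 : sm gi N53235 = N54872 := rfl
theorem L738078 : sm ga N54872 = N53275 := ded_18_1 (flp_i L721259) (flp_a L720758) L738076
theorem L738080 : sm gb N54872 = N53904 := ded_26_1 (flp_i L727866) (flp_b L720760) L738076
theorem L738082 : sm gc N54872 = N53264 := ded_33_1 (flp_i L721149) (flp_c L720762) L738076
theorem L738084 : sm gd N54872 = N54872 := ded_39_1 (flp_i L738076) L720764 L738076
theorem L738085 : sm gf N54872 = N53236 := ded_48_1 (flp_i L720771) L720756 L738076
theorem L738087 : sm gg N54872 = N53902 := ded_51_1 (flp_i L727841) (flp_g L720769) L738076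
theorem L738089 : sm gj N54872 = N53267 := ded_53_1 (flp_i L721182) (flp_j L720765) L738076
theorem L738091 : sm gh N53236 = N54873 := rfl
theorem L738093 : sm ga N54873 = N53276 := ded_17_1 (flp_h L721264) (flp_a L720773) L738091
theorem L738095 : sm gb N54873 = N53909 := ded_25_1 (flp_h L727909) (flp_b L720775) L738091
theorem L738097 : sm gc N54873 = N53271 := ded_32_1 (flp_h L721213) (flp_c L720777) L738091
theorem L738099 : sm ge N54873 = N53237 := ded_43_1 (flp_h L720786) (flp_e L720780) L738091
theorem L738101 : sm gg N54873 = N53239 := ded_50_1 (flp_h L720810) (flp_g L720782) L738091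
theorem L738103 : sm gj N54873 = N53273 := ded_52_1 (flp_h L721236) (flp_j L720784) L738091
theorem L738105 : sm gi N54873 = N53252 := ded_54_2 (flp_h L720988) (flp_i L701758) (flp_h L701599) L720771 L738091
theorem L738107 : sm gd N53238 = N54874 := rfl
theorem L738109 : sm ga N54874 = N53279 := ded_12_1 (flp_d L721294) (flp_a L720798) L738107
theorem L738111 : sm gb N54874 = N53493 := ded_20_1 (flp_d L723566) (flp_b L720800) L738107
theorem L738113 : sm gf N54874 = N53490 := ded_35_2 (flp_d L723537) (flp_f L720806) L738107
theorem L738115 : sm gi N54874 = N53254 := ded_39_2 (flp_d L721016) (flp_i L720808) L738107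
theorem L738117 : sm gc N54874 = N53359 := ded_27_1 (flp_d L722236) L702992 (flp_d L701642) (flp_c L720802) L738107
theorem L738119 : sm ge N54874 = N54181 := ded_34_2 (flp_d L730389) (flp_e L720303) L720311 (flp_e L720804) L738107
theorem L738121 : sm gh N54874 = N54874 := ded_38_2 (flp_d L738107) (flp_h L720796) L701618 L720796 L738107
theorem L738122 : sm gd N53239 = N54875 := rfl
theorem L738124 : sm ga N54875 = N53282 := ded_12_1 (flp_d L721332) (flp_a L720812) L738122
theorem L738126 : sm gb N54875 = N53910 := ded_20_1 (flp_d L727915) (flp_b L720814) L738122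
theorem L738128 : sm gf N54875 = N53908 := ded_35_2 (flp_d L727904) (flp_f L720820) L738122
theorem L738130 : sm gi N54875 = N53255 := ded_39_2 (flp_d L721030) (flp_i L720822) L738122
theorem L738132 : sm gc N54875 = N54153 := ded_27_1 (flp_d L730197) (flp_c L720301) L720311 (flp_c L720816) L738122
theorem L738134 : sm ge N54875 = N53360 := ded_34_2 (flp_d L722245) L703002 (flp_d L701642) (flp_e L720818) L738122
theorem L738136 : sm gh N54875 = N54875 := ded_38_2 (flp_d L738122) (flp_h L720810) L701631 L720810 L738122
theorem L738137 : sm ge N53240 = N54876 := rfl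
theorem L738139 : sm ga N54876 = N53283 := ded_13_1 (flp_e L721339) (flp_a L720826) L738137
theorem L738141 : sm gb N54876 = N53341 := ded_21_1 (flp_e L722029) (flp_b L720828) L738137
theorem L738143 : sm gc N54876 = N53292 := ded_28_1 L721449 (flp_c L720836) L738137
theorem L738145 : sm gg N54876 = N53242 := ded_41_2 (flp_e L720858) (flp_g L720832) L738137
theorem L738147 : sm gj N54876 = N53320 := ded_42_2 (flp_e L721772) (flp_j L720834) L738137
theorem L738149 : sm gh N54876 = N53323 := ded_43_2 (flp_e L721812) (flp_h L720838) L738137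
theorem L738151 : sm gd N54876 = N53534 := ded_34_1 (flp_e L724012) (flp_d L704694) (flp_e L701654) L720824 L738137
theorem L738153 : sm gf N54876 = N53326 := ded_40_2 (flp_e L721851) L702697 (flp_e L702283) (flp_f L720830) L738137
theorem L738155 : sm gi N53240 = N54877 := rfl
theorem L738157 : sm ga N54877 = N53284 := ded_18_1 (flp_i L721355) (flp_a L720826) L738155
theorem L738159 : sm gb N54877 = N53342 := ded_26_1 (flp_i L722037) (flp_b L720828) L738155
theorem L738161 : sm gc N54877 = N53297 := ded_33_1 (flp_i L721483) (flp_c L720836) L738155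
theorem L738163 : sm gd N54877 = N53241 := ded_39_1 (flp_i L720840) L720824 L738155
theorem L738165 : sm gf N54877 = N53303 := ded_48_1 (flp_i L721543) (flp_f L720830) L738155
theorem L738167 : sm gg N54877 = N53243 := ded_51_1 (flp_i L720870) (flp_g L720832) L738155
theorem L738169 : sm gj N54877 = N53321 := ded_53_1 (flp_i L721786) (flp_j L720834) L738155
theorem L738171 : sm gi N53242 = N54878 := rfl
theorem L738173 : sm ga N54878 = N53285 := ded_18_1 (flp_i L721369) (flp_a L720860) L738171
theorem L738175 : sm gc N54878 = N53293 := ded_33_1 (flp_i L721455) (flp_c L720862) L738171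
theorem L738177 : sm gd N54878 = N53536 := ded_39_1 (flp_i L724037) (flp_d L720866) L738171
theorem L738179 : sm ge N54878 = N53243 := ded_44_1 (flp_i L720870) L720858 L738171
theorem L738181 : sm gf N54878 = N53290 := ded_48_1 (flp_i L721425) (flp_f L720868) L738171
theorem L738183 : sm gj N54878 = N53247 := ded_53_1 (flp_i L720926) (flp_j L720864) L738171
theorem L738185 : sm gh N53243 = N54879 := rfl
theorem L738187 : sm ga N54879 = N53286 := ded_17_1 (flp_h L721377) (flp_a L720872) L738185
theorem L738189 : sm gc N54879 = N53298 := ded_32_1 (flp_h L721497) (flp_c L720874) L738185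
theorem L738191 : sm gf N54879 = N53249 := ded_47_1 (flp_h L720946) (flp_f L720878) L738185
theorem L738193 : sm gj N54879 = N53248 := ded_52_1 (flp_h L720936) (flp_j L720880) L738185
theorem L738195 : sm gd N54879 = N53367 := ded_38_1 (flp_h L722314) L703048 (flp_h L701684) (flp_d L720876) L738185
theorem L738197 : sm gi N53244 = N54880 := rfl
theorem L738199 : sm ga N54880 = N53290 := ded_18_1 (flp_i L721425) (flp_a L720884) L738197
theorem L738201 : sm gc N54880 = N53247 := ded_33_1 (flp_i L720926) (flp_c L720886) L738197
theorem L738203 : sm gd N54880 = N53570 := ded_39_1 (flp_i L724420) (flp_d L720892) L738197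
theorem L738205 : sm ge N54880 = N53245 := ded_44_1 (flp_i L720896) L720882 L738197
theorem L738207 : sm gf N54880 = N53285 := ded_48_1 (flp_i L721369) (flp_f L720894) L738197
theorem L738209 : sm gg N54880 = N54139 := ded_51_1 (flp_i L730085) (flp_g L720888) L738197
theorem L738211 : sm gj N54880 = N53293 := ded_53_1 (flp_i L721455) (flp_j L720890) L738197
theorem L738213 : sm gh N53245 = N54881 := rfl
theorem L738215 : sm ga N54881 = N53291 := ded_17_1 (flp_h L721433) (flp_a L720898) L738213
theorem L738217 : sm gc N54881 = N53248 := ded_32_1 (flp_h L720936) (flp_c L720900) L738213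
theorem L738219 : sm gf N54881 = N53250 := ded_47_1 (flp_h L720960) (flp_f L720904) L738213
theorem L738221 : sm gg N54881 = N54140 := ded_50_1 (flp_h L730093) (flp_g L720906) L738213
theorem L738223 : sm gj N54881 = N53298 := ded_52_1 (flp_h L721497) (flp_j L720908) L738213
theorem L738225 : sm gi N53246 = N54882 := rfl
theorem L738227 : sm ga N54882 = N53293 := ded_18_1 (flp_i L721455) (flp_a L720912) L738225
theorem L738229 : sm gb N54882 = N54201 := ded_26_1 (flp_i L730528) (flp_b L720914) L738225
theorem L738231 : sm gc N54882 = N53285 := ded_33_1 (flp_i L721369) (flp_c L720916) L738225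
theorem L738233 : sm gd N54882 = N53538 := ded_39_1 (flp_i L724061) (flp_d L720918) L738225
theorem L738235 : sm ge N54882 = N53251 := ded_44_1 (flp_i L720972) (flp_e L720922) L738225
theorem L738237 : sm gf N54882 = N53247 := ded_48_1 (flp_i L720926) L720910 L738225
theorem L738239 : sm gg N54882 = N54205 := ded_51_1 (flp_i L730554) (flp_g L720924) L738225
theorem L738241 : sm gj N54882 = N53290 := ded_53_1 (flp_i L721425) (flp_j L720920) L738225
theorem L738243 : sm gh N53247 = N54883 := rfl
theorem L738245 : sm ga N54883 = N53294 := ded_17_1 (flp_h L721463) (flp_a L720928) L738243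
theorem L738247 : sm ge N54883 = N53248 := ded_43_1 (flp_h L720936) (flp_e L720932) L738243
theorem L738249 : sm gg N54883 = N54141 := ded_50_1 (flp_h L730101) (flp_g L720934) L738243
theorem L738251 : sm gd N53250 = N54884 := rfl
theorem L738253 : sm ga N54884 = N53296 := ded_12_1 (flp_d L721475) (flp_a L720962) L738251
theorem L738255 : sm gb N54884 = N54188 := ded_20_1 (flp_d L732936) L732926 L738251
theorem L738257 : sm gg N54884 = N53254 := ded_36_2 (flp_d L721016) (flp_g L720968) L738251
theorem L738259 : sm gj N54884 = N53299 := ded_37_2 (flp_d L721501) (flp_j L720970) L738251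
theorem L738261 : sm gc N54884 = N53383 := ded_27_1 (flp_d L722477) L703196 (flp_d L701778) (flp_c L720964) L738251
theorem L738263 : sm ge N54884 = N53477 := ded_34_2 (flp_d L723420) L704003 (flp_d L702205) (flp_e L720966) L738251
theorem L738265 : sm gh N54884 = N53259 := ded_38_2 (flp_d L721091) (flp_h L701895) (flp_d L701736) L720960 L738251
theorem L738267 : sm gh N53251 = N54885 := rfl
theorem L738269 : sm ga N54885 = N53298 := ded_17_1 (flp_h L721497) (flp_a L720974) L738267
theorem L738271 : sm gb N54885 = N54202 := ded_25_1 (flp_h L730536) (flp_b L720976) L738267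
theorem L738273 : sm gc N54885 = N53286 := ded_32_1 (flp_h L721377) (flp_c L720978) L738267
theorem L738275 : sm gf N54885 = N53252 := ded_47_1 (flp_h L720988) (flp_f L720982) L738267
theorem L738277 : sm gg N54885 = N54206 := ded_50_1 (flp_h L730562) (flp_g L720984) L738267
theorem L738279 : sm gj N54885 = N53291 := ded_52_1 (flp_h L721433) (flp_j L720986) L738267
theorem L738281 : sm gd N53252 = N54886 := rfl
theorem L738283 : sm ga N54886 = N53299 := ded_12_1 (flp_d L721501) (flp_a L720990) L738281
theorem L738285 : sm gb N54886 = N54229 := ded_20_1 (flp_d L733226) L733214 L738281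
theorem L738287 : sm gg N54886 = N53255 := ded_36_2 (flp_d L721030) (flp_g L720996) L738281
theorem L738289 : sm gj N54886 = N53296 := ded_37_2 (flp_d L721475) (flp_j L720998) L738281
theorem L738291 : sm gc N54886 = N53475 := ded_27_1 (flp_d L723402) L703983 (flp_d L702205) (flp_c L720992) L738281
theorem L738293 : sm ge N54886 = N53385 := ded_34_2 (flp_d L722491) L703212 (flp_d L701778) (flp_e L720994) L738281
theorem L738295 : sm gh N54886 = N53257 := ded_38_2 (flp_d L721059) (flp_h L701824) (flp_d L701764) L720988 L738281
theorem L738297 : sm gd N53256 = N54887 := rfl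
theorem L738299 : sm ga N54887 = N53310 := ded_12_1 (flp_d L721638) (flp_a L721044) L738297
theorem L738301 : sm gb N54887 = N54235 := ded_20_1 (flp_d L730752) (flp_b L721046) L738297
theorem L738303 : sm gf N54887 = N53257 := ded_35_2 (flp_d L721059) (flp_f L721052) L738297
theorem L738305 : sm gg N54887 = N54236 := ded_36_2 (flp_d L730761) (flp_g L721054) L738297
theorem L738307 : sm gj N54887 = N53316 := ded_37_2 (flp_d L721717) (flp_j L721056) L738297
theorem L738309 : sm gi N54887 = N54887 := ded_39_2 (flp_d L738297) L721058 L738297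
theorem L738310 : sm gc N54887 = N53508 := ded_27_1 (flp_d L723701) L704301 (flp_d L702438) (flp_c L721048) L738297
theorem L738312 : sm gd N53258 = N54888 := rfl
theorem L738314 : sm ga N54888 = N53316 := ded_12_1 (flp_d L721717) (flp_a L721076) L738312
theorem L738316 : sm gb N54888 = N54190 := ded_20_1 L730459 (flp_b L721078) L738312
theorem L738318 : sm gf N54888 = N53259 := ded_35_2 (flp_d L721091) (flp_f L721084) L738312
theorem L738320 : sm gg N54888 = N54145 := ded_36_2 (flp_d L730137) (flp_g L721086) L738312
theorem L738322 : sm gj N54888 = N53310 := ded_37_2 (flp_d L721638) (flp_j L721088) L738312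
theorem L738324 : sm gi N54888 = N54888 := ded_39_2 (flp_d L738312) L721090 L738312
theorem L738325 : sm gc N54888 = N53400 := ded_27_1 (flp_d L722667) L703396 (flp_d L701892) (flp_c L721080) L738312
theorem L738327 : sm ge N53260 = N54889 := rfl
theorem L738329 : sm ga N54889 = N54157 := ded_13_1 L730228 (flp_a L721108) L738327
theorem L738331 : sm gc N54889 = N53261 := ded_28_1 (flp_e L721116) L721106 L738327
theorem L738333 : sm gg N54889 = N53554 := ded_41_2 L724236 (flp_g L721111) L738327
theorem L738335 : sm gh N54889 = N53547 := ded_43_2 (flp_e L724154) (flp_h L721113) L738327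
theorem L738337 : sm gi N53260 = N54890 := rfl
theorem L738339 : sm ga N54890 = N54170 := ded_18_1 (flp_i L730311) (flp_a L721108) L738337
theorem L738341 : sm gc N54890 = N53262 := ded_33_1 (flp_i L721128) L721106 L738337
theorem L738343 : sm gd N54890 = N54890 := ded_39_1 (flp_i L738337) L721115 L738337
theorem L738344 : sm gf N54890 = N54890 := ded_48_1 (flp_i L738337) L721110 L738337
theorem L738345 : sm gg N54890 = N53559 := ded_51_1 (flp_i L724284) (flp_g L721111) L738337
theorem L738347 : sm gf N53261 = N54891 := rfl
theorem L738349 : sm ga N54891 = N54262 := ded_14_1 L730944 (flp_a L721118) L738347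
theorem L738351 : sm gb N54891 = N53952 := ded_22_1 (flp_f L728386) (flp_b L721120) L738347
theorem L738353 : sm gd N54891 = N53268 := ded_35_1 (flp_f L721191) (flp_d L721126) L738347
theorem L738355 : sm gh N54891 = N53549 := ded_47_2 (flp_f L724175) (flp_h L721124) L738347
theorem L738357 : sm ge N54891 = N54891 := ded_40_1 (flp_f L738347) (flp_e L721116) L701929 L721116 L738347
theorem L738358 : sm gg N54891 = N54248 := ded_45_2 (flp_f L730838) L712374 (flp_f L709366) (flp_g L721122) L738347
theorem L738360 : sm gi N53261 = N54892 := rfl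
theorem L738362 : sm ga N54892 = N54272 := ded_18_1 (flp_i L731016) (flp_a L721118) L738360
theorem L738364 : sm gb N54892 = N53953 := ded_26_1 (flp_i L728391) (flp_b L721120) L738360
theorem L738366 : sm gd N54892 = N53269 := ded_39_1 (flp_i L721197) (flp_d L721126) L738360
theorem L738368 : sm ge N54892 = N53262 := ded_44_1 (flp_i L721128) L721116 L738360
theorem L738370 : sm gg N54892 = N53940 := ded_51_1 (flp_i L728257) (flp_g L721122) L738360
theorem L738372 : sm gh N53262 = N54893 := rfl
theorem L738374 : sm ga N54893 = N54289 := ded_17_1 (flp_h L731146) (flp_a L721130) L738372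
theorem L738376 : sm gb N54893 = N53954 := ded_25_1 (flp_h L728399) (flp_b L721132) L738372
theorem L738378 : sm gf N54893 = N54893 := ded_47_1 (flp_h L738372) L721136 L738372
theorem L738379 : sm gg N54893 = N53941 := ded_50_1 (flp_h L728271) (flp_g L721137) L738372
theorem L738381 : sm gd N54893 = N53414 := ded_38_1 (flp_h L722816) L703545 (flp_h L701946) (flp_d L721134) L738372
theorem L738383 : sm gi N54893 = N53551 := ded_54_2 (flp_h L724192) (flp_i L704900) (flp_h L701932) L721128 L738372
theorem L738385 : sm gi N53263 = N54894 := rfl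
theorem L738387 : sm gb N54894 = N54218 := ded_26_1 (flp_i L730646) (flp_b L721141) L738385
theorem L738389 : sm ge N54894 = N53264 := ded_44_1 (flp_i L721149) L721139 L738385
theorem L738391 : sm gg N54894 = N54213 := ded_51_1 (flp_i L730612) (flp_g L721143) L738385
theorem L738393 : sm gj N54894 = N53269 := ded_53_1 (flp_i L721197) (flp_j L721145) L738385
theorem L738395 : sm gh N53264 = N54895 := rfl
theorem L738397 : sm gb N54895 = N54231 := ded_25_1 (flp_h L730728) (flp_b L721151) L738395
theorem L738399 : sm gf N54895 = N53271 := ded_47_1 (flp_h L721213) (flp_f L721155) L738395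
theorem L738401 : sm gg N54895 = N54228 := ded_50_1 (flp_h L730708) (flp_g L721157) L738395
theorem L738403 : sm gj N54895 = N53270 := ded_52_1 (flp_h L721203) (flp_j L721159) L738395
theorem L738405 : sm gd N54895 = N53421 := ded_38_1 (flp_h L722886) L703596 (flp_h L701971) (flp_d L721153) L738395
theorem L738407 : sm gi N54895 = N53286 := ded_54_2 (flp_h L721377) (flp_i L702143) (flp_h L701958) L721149 L738395
theorem L738409 : sm ge N53265 = N54896 := rfl
theorem L738411 : sm ga N54896 = N53447 := ded_13_1 (flp_e L732971) L732960 L738409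
theorem L738413 : sm gb N54896 = N53266 := ded_21_1 (flp_e L721174) L721161 L738409
theorem L738415 : sm gc N54896 = N53415 := ded_28_1 (flp_e L722825) (flp_c L721172) L738409
theorem L738417 : sm gg N54896 = N53417 := ded_41_2 (flp_e L722849) (flp_g L721166) L738409
theorem L738419 : sm gj N54896 = N53895 := ded_42_2 L727777 (flp_j L721168) L738409
theorem L738421 : sm gh N54896 = N53287 := ded_43_2 (flp_e L721385) (flp_h L721170) L738409
theorem L738423 : sm gf N54896 = N53361 := ded_40_2 (flp_e L722252) (flp_f L715142) (flp_e L715152) (flp_f L721164) L738409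
theorem L738425 : sm gd N53637 = N54896 := ded_12_0 L738411 L723136 (flp_a L725164)
theorem L738427 : sm gi N53265 = N54897 := rfl
theorem L738429 : sm gb N54897 = N53267 := ded_26_1 (flp_i L721182) L721161 L738427
theorem L738431 : sm gc N54897 = N53416 := ded_33_1 (flp_i L722837) (flp_c L721172) L738427
theorem L738433 : sm gd N54897 = N54897 := ded_39_1 (flp_i L738427) L721163 L738427
theorem L738434 : sm gf N54897 = N53272 := ded_48_1 (flp_i L721225) (flp_f L721164) L738427
theorem L738436 : sm gg N54897 = N53418 := ded_51_1 (flp_i L722859) (flp_g L721166) L738427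
theorem L738438 : sm gj N54897 = N53904 := ded_53_1 (flp_i L727866) (flp_j L721168) L738427
theorem L738440 : sm gd N53266 = N54898 := rfl
theorem L738442 : sm gb N54898 = N53637 := ded_20_1 L738425 L738413 L738440
theorem L738444 : sm gf N54898 = N53603 := ded_35_2 (flp_d L737949) L737951 L738440
theorem L738446 : sm gg N54898 = N54148 := ded_36_2 (flp_d L730165) (flp_g L721178) L738440
theorem L738448 : sm gj N54898 = N54262 := ded_37_2 (flp_d L738008) L738010 L738440
theorem L738450 : sm ge N54898 = N54898 := ded_34_2 (flp_d L738440) (flp_e L721174) L701981 L721174 L738440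
theorem L738451 : sm gh N54898 = N54268 := ded_38_2 L730985 L721423 (flp_d L721409) (flp_h L721180) L738440
theorem L738453 : sm gi N53266 = N54899 := rfl
theorem L738455 : sm gc N54899 = N53269 := ded_33_1 (flp_i L721197) (flp_c L721176) L738453
theorem L738457 : sm ge N54899 = N53267 := ded_44_1 (flp_i L721182) L721174 L738453
theorem L738459 : sm gg N54899 = N54149 := ded_51_1 (flp_i L730168) (flp_g L721178) L738453
theorem L738461 : sm gh N53267 = N54900 := rfl
theorem L738463 : sm gc N54900 = N53270 := ded_32_1 (flp_h L721203) (flp_c L721184) L738461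
theorem L738465 : sm gf N54900 = N53273 := ded_47_1 (flp_h L721236) (flp_f L721187) L738461
theorem L738467 : sm gg N54900 = N54150 := ded_50_1 (flp_h L730174) (flp_g L721189) L738461
theorem L738469 : sm gi N54900 = N53291 := ded_54_2 (flp_h L721433) (flp_i L702169) (flp_h L701979) L721182 L738461
theorem L738471 : sm gg N53268 = N54901 := rfl
theorem L738473 : sm ga N54901 = N53890 := ded_15_1 (flp_g L738016) L738002 L738471
theorem L738475 : sm gb N54901 = N53346 := ded_23_1 (flp_g L732696) L732684 L738471
theorem L738477 : sm gc N54901 = N53323 := ded_30_1 (flp_g L737943) L737941 L738471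
theorem L738479 : sm gd N54901 = N54248 := ded_36_1 (flp_g L738358) L738353 L738471
theorem L738481 : sm ge N54901 = N53274 := ded_41_1 (flp_g L721244) (flp_e L721195) L738471
theorem L738483 : sm gh N54901 = N53292 := ded_50_2 (flp_g L721441) (flp_h L721193) L738471
theorem L738485 : sm gf N54901 = N53320 := ded_45_1 L721780 L711357 (flp_g L701984) L721191 L738471
theorem L738487 : sm gj N54901 = N53326 := ded_49_2 L721857 (flp_j L723262) (flp_g L737977) L737979 L738471
theorem L738489 : sm gi N53268 = N54902 := rfl
theorem L738491 : sm ge N54902 = N53275 := ded_44_1 (flp_i L721259) (flp_e L721195) L738489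
theorem L738493 : sm gf N54902 = N53269 := ded_48_1 (flp_i L721197) L721191 L738489
theorem L738495 : sm gh N53269 = N54903 := rfl
theorem L738497 : sm ge N54903 = N53270 := ded_43_1 (flp_h L721203) (flp_e L721199) L738495
theorem L738499 : sm gg N54903 = N54151 := ded_50_1 (flp_h L730182) (flp_g L721201) L738495
theorem L738501 : sm gi N54903 = N53294 := ded_54_2 (flp_h L721463) (flp_i L702185) (flp_h L701986) L721197 L738495
theorem L738503 : sm gh N53272 = N54904 := rfl
theorem L738505 : sm gb N54904 = N53273 := ded_25_1 (flp_h L721236) (flp_b L721227) L738503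
theorem L738507 : sm gc N54904 = N53911 := ded_32_1 (flp_h L727924) (flp_c L721229) L738503
theorem L738509 : sm gg N54904 = N53277 := ded_50_1 (flp_h L721272) (flp_g L721232) L738503
theorem L738511 : sm gj N54904 = N53909 := ded_52_1 (flp_h L727909) (flp_j L721234) L738503
theorem L738513 : sm gi N54904 = N53295 := ded_54_2 (flp_h L721469) (flp_i L702207) (flp_h L702013) L721225 L738503
theorem L738515 : sm gd N53273 = N54905 := rfl
theorem L738517 : sm gg N54905 = N53279 := ded_36_2 (flp_d L721294) (flp_g L721240) L738515
theorem L738519 : sm gi N54905 = N53296 := ded_39_2 (flp_d L721475) (flp_i L721242) L738515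
theorem L738521 : sm gc N54905 = N53437 := ded_27_1 (flp_d L723055) L703730 (flp_d L702040) (flp_c L721238) L738515
theorem L738523 : sm gh N54905 = N54905 := ded_38_2 (flp_d L738515) (flp_h L721236) L702021 L721236 L738515
theorem L738524 : sm gi N53274 = N54906 := rfl
theorem L738526 : sm ga N54906 = N53902 := ded_18_1 (flp_i L727841) (flp_a L721246) L738524
theorem L738528 : sm gb N54906 = N53355 := ded_26_1 (flp_i L722189) (flp_b L721248) L738524
theorem L738530 : sm gc N54906 = N53324 := ded_33_1 (flp_i L721824) (flp_c L721250) L738524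
theorem L738532 : sm gd N54906 = N54906 := ded_39_1 (flp_i L738524) L721252 L738524
theorem L738533 : sm gf N54906 = N53280 := ded_48_1 (flp_i L721303) (flp_f L721255) L738524
theorem L738535 : sm gg N54906 = N53275 := ded_51_1 (flp_i L721259) L721244 L738524
theorem L738537 : sm gj N54906 = N53327 := ded_53_1 (flp_i L721861) (flp_j L721257) L738524
theorem L738539 : sm gh N53275 = N54907 := rfl
theorem L738541 : sm gf N54907 = N53276 := ded_47_1 (flp_h L721264) (flp_f L721262) L738539
theorem L738543 : sm gi N54907 = N53298 := ded_54_2 (flp_h L721497) (flp_i L702233) (flp_h L702027) L721259 L738539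
theorem L738545 : sm gd N53276 = N54908 := rfl
theorem L738547 : sm gg N54908 = N53282 := ded_36_2 (flp_d L721332) (flp_g L721268) L738545
theorem L738549 : sm gi N54908 = N53299 := ded_39_2 (flp_d L721501) (flp_i L721270) L738545
theorem L738551 : sm ge N54908 = N53440 := ded_34_2 (flp_d L723075) L703750 (flp_d L702040) (flp_e L721266) L738545
theorem L738553 : sm gh N54908 = N54908 := ded_38_2 (flp_d L738545) (flp_h L721264) L702031 L721264 L738545
theorem L738554 : sm gd N53277 = N54909 := rfl
theorem L738556 : sm ga N54909 = N54200 := ded_12_1 L733093 L733079 L738554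
theorem L738558 : sm gb N54909 = N53279 := ded_20_1 (flp_d L721294) (flp_b L721274) L738554
theorem L738560 : sm gf N54909 = N54153 := ded_35_2 (flp_d L730197) (flp_f L721278) L738554
theorem L738562 : sm gi N54909 = N53302 := ded_39_2 (flp_d L721531) (flp_i L721280) L738554
theorem L738564 : sm gc N54909 = N53908 := ded_27_1 (flp_d L727904) L708872 L712195 (flp_c L721276) L738554
theorem L738566 : sm ge N54909 = N53334 := ded_34_2 (flp_d L721939) (flp_e L721565) (flp_d L733073) L733067 L738554
theorem L738568 : sm gh N54909 = N54909 := ded_38_2 (flp_d L738554) (flp_h L721272) L702050 L721272 L738554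
theorem L738569 : sm ge N53279 = N54910 := rfl
theorem L738571 : sm ga N54910 = N54181 := ded_13_1 (flp_e L738119) L738109 L738569
theorem L738573 : sm gb N54910 = N53334 := ded_21_1 (flp_e L738566) L738558 L738569
theorem L738575 : sm gc N54910 = N53443 := ded_28_1 (flp_e L723107) (flp_c L721300) L738569
theorem L738577 : sm gh N54910 = N54910 := ded_43_2 (flp_e L738569) L721302 L738569
theorem L738578 : sm gi N54910 = N53305 := ded_44_2 (flp_e L721571) (flp_i L721298) L738569
theorem L738580 : sm gd N54910 = N53333 := ded_34_1 (flp_e L737502) L737510 L721288 L721294 L738569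
theorem L738582 : sm gf N54167 = N54910 := ded_55_3 (flp_e L738569) (flp_d L721294) (flp_b L721274) L721276 (flp_d L712195) (flp_i L711909) (flp_h L711903) L695803 L695795 L678994 (flp_d L679068) L679064 L671823 (flp_d L671818) (flp_i L652171) (flp_h L652158) L354013 L354014 (flp_e L652110) L652108 (flp_b L656889) L656891 L656892 L358320 L358949 L657702 (flp_f L674397) L695600 L695612 L695604 L674407 L652811 L652876 L674512 L695716 L695722 (flp_e L701848) (flp_d L701839) L680813 (flp_c L669576) (flp_d L384516) L264264 (flp_h L264258) (flp_d L259273) (flp_f L355902) L641262 L261876 L261874 L641249 L241928 (flp_i L166813) (flp_h L115149) (flp_d L114904) L114906 (flp_e L114900) L79549 (flp_b L79538) L79540 (flp_d L114878) L114880 (flp_h L644672) L644670 L115844 L80168 L58263 L58260 L40456 L40458 L58294 (flp_h L84079) (flp_d L121537) (flp_f L644003) L167427 (flp_d L168045) (flp_b L243720) (flp_c L354011) L354013 L354015 (flp_h L642452) L186377 L128477 (flp_e L181456) (flp_d L263561) L383532 (flp_c L668540) L668542 L690687 L711621 L730295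
theorem L738584 : sm gh N53280 = N54911 := rfl
theorem L738586 : sm ga N54911 = N53903 := ded_17_1 (flp_h L727852) (flp_a L721305) L738584
theorem L738588 : sm gb N54911 = N53356 := ded_25_1 (flp_h L722196) (flp_b L721307) L738584
theorem L738590 : sm gc N54911 = N53330 := ded_32_1 (flp_h L721890) (flp_c L721309) L738584
theorem L738592 : sm ge N54911 = N53322 := ded_43_1 (flp_h L721800) (flp_e L721312) L738584
theorem L738594 : sm gg N54911 = N53281 := ded_50_1 (flp_h L721318) (flp_g L721314) L738584
theorem L738596 : sm gj N54911 = N53332 := ded_52_1 (flp_h L721917) (flp_j L721316) L738584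
theorem L738598 : sm gi N54911 = N53306 := ded_54_2 (flp_h L721583) (flp_i L702313) (flp_h L702084) L721303 L738584
theorem L738600 : sm gd N53281 = N54912 := rfl
theorem L738602 : sm ga N54912 = N53908 := ded_12_1 (flp_d L727904) (flp_a L721320) L738600
theorem L738604 : sm gb N54912 = N53360 := ded_20_1 (flp_d L722245) (flp_b L721322) L738600
theorem L738606 : sm gf N54912 = N53282 := ded_35_2 (flp_d L721332) (flp_f L721328) L738600
theorem L738608 : sm gi N54912 = N53307 := ded_39_2 (flp_d L721595) (flp_i L721330) L738600
theorem L738610 : sm gc N54912 = N54200 := ded_27_1 L733093 L733083 L721529 (flp_c L721324) L738600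
theorem L738612 : sm ge N54912 = N53910 := ded_34_2 (flp_d L727915) (flp_e L715945) L715951 (flp_e L721326) L738600
theorem L738614 : sm gh N54912 = N54912 := ded_38_2 (flp_d L738600) (flp_h L721318) L702096 L721318 L738600
theorem L738615 : sm gc N53282 = N54913 := rfl
theorem L738617 : sm ga N54913 = N54153 := ded_11_1 (flp_c L738132) L738124 L738615
theorem L738619 : sm ge N54913 = N53446 := ded_28_2 (flp_c L723129) (flp_e L721336) L738615
theorem L738621 : sm gf N54913 = N54200 := ded_29_2 (flp_c L738610) L738606 L738615
theorem L738623 : sm gh N54913 = N54913 := ded_32_2 (flp_c L738615) L721338 L738615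
theorem L738624 : sm gi N54913 = N53308 := ded_33_2 (flp_c L721607) (flp_i L721334) L738615
theorem L738626 : sm gd N54913 = N53387 := ded_27_2 (flp_c L737500) L737510 L721286 L721332 L738615
theorem L738628 : sm gb N53389 = N54913 := ded_55_6 (flp_c L738615) (flp_d L721332) L702105 (flp_h L681210) L658952 (flp_f L659009) L659007 (flp_d L553567) L248054 L170973 L117987 (flp_i L117982) (flp_h L81570) L56521 (flp_f L39279) (flp_e L27347) L19101 L14015 L14008 L10702 (flp_i L15284) L15283 L15279 L15280 L21898 L31466 L31470 L589594 L31549 (flp_i L31545) (flp_h L21934) (flp_d L15297) L15306 L15315 (flp_d L21930) (flp_b L31496) (flp_c L45350) (flp_d L59528) L59530 L59701 L86313 L86315 L86327 (flp_d L118043) (flp_b L168704) (flp_c L241802) L241807 L351256 L651431 L673160 L673165 (flp_e L672192) (flp_d L650182) L271890 (flp_c L650053) L672048 L672053 L680254 L680249 L671928 (flp_e L693705) (flp_d L702263) L702261 L681178 L658952 (flp_i L360211) L247823 (flp_d L360168) L658942 L658948 (flp_d L360488) L248021 L170936 L171023 L248271 L360886 (flp_d L658779) L658777 L382635 L382636 L263770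 (flp_c L383815) L668896 L668900 (flp_h L690916) (flp_d L690912) (flp_f L682112) (flp_e L703251) L722531
theorem L738630 : sm gi N53283 = N54914 := rfl
theorem L738632 : sm gb N54914 = N53887 := ded_26_1 (flp_i L727670) (flp_b L721341) L738630
theorem L738634 : sm gc N54914 = N54205 := ded_33_1 (flp_i L730554) (flp_c L721343) L738630
theorem L738636 : sm gd N54914 = N53566 := ded_39_1 (flp_i L724371) (flp_d L721351) L738630
theorem L738638 : sm ge N54914 = N53284 := ded_44_1 (flp_i L721355) L721339 L738630
theorem L738640 : sm gf N54914 = N54191 := ded_48_1 (flp_i L730462) (flp_f L721353) L738630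
theorem L738642 : sm gg N54914 = N53285 := ded_51_1 (flp_i L721369) (flp_g L721345) L738630
theorem L738644 : sm gj N54914 = N53891 := ded_53_1 (flp_i L727716) (flp_j L721347) L738630
theorem L738646 : sm gh N53284 = N54915 := rfl
theorem L738648 : sm gb N54915 = N53888 := ded_25_1 (flp_h L727680) (flp_b L721357) L738646
theorem L738650 : sm gc N54915 = N54206 := ded_32_1 (flp_h L730562) (flp_c L721359) L738646
theorem L738652 : sm gf N54915 = N53901 := ded_47_1 (flp_h L727827) (flp_f L721363) L738646
theorem L738654 : sm gg N54915 = N53286 := ded_50_1 (flp_h L721377) (flp_g L721365) L738646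
theorem L738656 : sm gj N54915 = N53892 := ded_52_1 (flp_h L727728) (flp_j L721367) L738646
theorem L738658 : sm gd N54915 = N53449 := ded_38_1 (flp_h L723150) L703817 (flp_h L702135) (flp_d L721361) L738646
theorem L738660 : sm gi N54915 = N54228 := ded_54_2 (flp_h L730708) (flp_i L712109) (flp_h L702119) L721355 L738646
theorem L738662 : sm gh N53285 = N54916 := rfl
theorem L738664 : sm ge N54916 = N53286 := ded_43_1 (flp_h L721377) (flp_e L721373) L738662
theorem L738666 : sm gj N54916 = N53294 := ded_52_1 (flp_h L721463) (flp_j L721375) L738662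
theorem L738668 : sm gi N53287 = N54917 := rfl
theorem L738670 : sm gb N54917 = N53290 := ded_26_1 (flp_i L721425) (flp_b L721387) L738668
theorem L738672 : sm gc N54917 = N53448 := ded_33_1 (flp_i L723140) (flp_c L721389) L738668
theorem L738674 : sm ge N54917 = N53288 := ded_44_1 (flp_i L721395) L721385 L738668
theorem L738676 : sm gg N54917 = N53452 := ded_51_1 (flp_i L723176) (flp_g L721391) L738668
theorem L738678 : sm gj N54917 = N54201 := ded_53_1 (flp_i L730528) (flp_j L721393) L738668
theorem L738680 : sm gh N53288 = N54918 := rfl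
theorem L738682 : sm gb N54918 = N53291 := ded_25_1 (flp_h L721433) (flp_b L721397) L738680
theorem L738684 : sm gc N54918 = N53449 := ded_32_1 (flp_h L723150) (flp_c L721399) L738680
theorem L738686 : sm gf N54918 = N53295 := ded_47_1 (flp_h L721469) (flp_f L721403) L738680
theorem L738688 : sm gg N54918 = N53453 := ded_50_1 (flp_h L723186) (flp_g L721405) L738680
theorem L738690 : sm gj N54918 = N54202 := ded_52_1 (flp_h L730536) (flp_j L721407) L738680
theorem L738692 : sm gi N53289 = N54919 := rfl
theorem L738694 : sm ga N54919 = N53570 := ded_18_1 (flp_i L724420) (flp_a L721411) L738692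
theorem L738696 : sm gc N54919 = N53574 := ded_33_1 (flp_i L724468) (flp_c L721419) L738692
theorem L738698 : sm gd N54919 = N53290 := ded_39_1 (flp_i L721425) L721409 L738692
theorem L738700 : sm ge N54919 = N53314 := ded_44_1 (flp_i L721688) (flp_e L721421) L738692
theorem L738702 : sm gf N54919 = N53536 := ded_48_1 (flp_i L724037) (flp_f L721413) L738692
theorem L738704 : sm gg N54919 = N54158 := ded_51_1 (flp_i L730232) (flp_g L721415) L738692
theorem L738706 : sm gj N54919 = N53538 := ded_53_1 (flp_i L724061) (flp_j L721417) L738692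
theorem L738708 : sm gh N53290 = N54920 := rfl
theorem L738710 : sm gc N54920 = N53294 := ded_32_1 (flp_h L721463) (flp_c L721427) L738708
theorem L738712 : sm ge N54920 = N53291 := ded_43_1 (flp_h L721433) (flp_e L721429) L738708
theorem L738714 : sm gg N54920 = N54160 := ded_50_1 (flp_h L730248) (flp_g L721431) L738708
theorem L738716 : sm gd N53291 = N54921 := rfl
theorem L738718 : sm gf N54921 = N53296 := ded_35_2 (flp_d L721475) (flp_f L721437) L738716
theorem L738720 : sm gg N54921 = N54161 := ded_36_2 (flp_d L730254) (flp_g L721439) L738716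
theorem L738722 : sm gc N54921 = N53468 := ded_27_1 (flp_d L723341) L703929 (flp_d L702199) (flp_c L721435) L738716
theorem L738724 : sm gh N54921 = N53316 := ded_38_2 (flp_d L721717) (flp_h L702481) (flp_d L702173) L721433 L738716
theorem L738726 : sm gi N53292 = N54922 := rfl
theorem L738728 : sm ga N54922 = N54205 := ded_18_1 (flp_i L730554) (flp_a L721443) L738726
theorem L738730 : sm gb N54922 = N53374 := ded_26_1 (flp_i L722384) (flp_b L721445) L738726
theorem L738732 : sm gd N54922 = N53578 := ded_39_1 (flp_i L724524) (flp_d L721447) L738726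
theorem L738734 : sm ge N54922 = N53297 := ded_44_1 (flp_i L721483) (flp_e L721449) L738726
theorem L738736 : sm gf N54922 = N53328 := ded_48_1 (flp_i L721872) (flp_f L721451) L738726
theorem L738738 : sm gg N54922 = N53293 := ded_51_1 (flp_i L721455) L721441 L738726
theorem L738740 : sm gj N54922 = N54210 := ded_53_1 (flp_i L730592) L721453 L738726
theorem L738742 : sm gh N53293 = N54923 := rfl
theorem L738744 : sm ge N54923 = N53298 := ded_43_1 (flp_h L721497) (flp_e L721459) L738742
theorem L738746 : sm gf N54923 = N53294 := ded_47_1 (flp_h L721463) (flp_f L721461) L738742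
theorem L738748 : sm gd N53294 = N54924 := rfl
theorem L738750 : sm gg N54924 = N54163 := ded_36_2 (flp_d L730270) (flp_g L721467) L738748
theorem L738752 : sm ge N54924 = N53472 := ded_34_2 (flp_d L723373) L703953 (flp_d L702199) (flp_e L721465) L738748
theorem L738754 : sm gh N54924 = N53580 := ded_38_2 (flp_d L724540) (flp_h L705242) (flp_d L702187) L721463 L738748
theorem L738756 : sm gd N53295 = N54925 := rfl
theorem L738758 : sm ga N54925 = N54230 := ded_12_1 (flp_d L733545) L733535 L738756
theorem L738760 : sm gb N54925 = N53296 := ded_20_1 (flp_d L721475) (flp_b L721471) L738756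
theorem L738762 : sm gg N54925 = N53302 := ded_36_2 (flp_d L721531) (flp_g L721473) L738756
theorem L738764 : sm gj N54925 = N54229 := ded_37_2 (flp_d L733226) L733224 L738756
theorem L738766 : sm gc N54925 = N54226 := ded_27_1 (flp_d L730692) (flp_c L727831) (flp_d L733002) L732994 L738756
theorem L738768 : sm ge N54925 = N54227 := ded_34_2 (flp_d L730700) (flp_e L721896) (flp_d L737933) L737927 L738756
theorem L738770 : sm gh N54925 = N53317 := ded_38_2 (flp_d L721726) (flp_h L702505) (flp_d L702211) L721469 L738756
theorem L738772 : sm ge N53296 = N54926 := rfl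
theorem L738774 : sm ga N54926 = N53477 := ded_13_1 (flp_e L738263) L738253 L738772
theorem L738776 : sm gb N54926 = N54227 := ded_21_1 (flp_e L738768) L738760 L738772
theorem L738778 : sm gc N54926 = N53485 := ded_28_1 (flp_e L723505) (flp_c L721479) L738772
theorem L738780 : sm gg N54926 = N53305 := ded_41_2 (flp_e L721571) (flp_g L721477) L738772
theorem L738782 : sm gj N54926 = N53385 := ded_42_2 (flp_e L738293) L738289 L738772
theorem L738784 : sm gh N54926 = N53318 := ded_43_2 (flp_e L721741) (flp_h L721481) L738772
theorem L738786 : sm gd N54926 = N53378 := ded_34_1 L722430 (flp_d L720958) L720952 L721475 L738772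
theorem L738788 : sm gh N53297 = N54927 := rfl
theorem L738790 : sm ga N54927 = N54206 := ded_17_1 (flp_h L730562) (flp_a L721485) L738788
theorem L738792 : sm gb N54927 = N53384 := ded_25_1 (flp_h L722485) (flp_b L721487) L738788
theorem L738794 : sm gf N54927 = N53306 := ded_47_1 (flp_h L721583) (flp_f L721491) L738788
theorem L738796 : sm gg N54927 = N53298 := ded_50_1 (flp_h L721497) (flp_g L721493) L738788
theorem L738798 : sm gj N54927 = N54211 := ded_52_1 (flp_h L730598) (flp_j L721495) L738788
theorem L738800 : sm gd N53298 = N54928 := rfl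
theorem L738802 : sm gf N54928 = N53299 := ded_35_2 (flp_d L721501) (flp_f L721499) L738800
theorem L738804 : sm gh N54928 = N53310 := ded_38_2 (flp_d L721638) (flp_h L702357) (flp_d L702235) L721497 L738800
theorem L738806 : sm gc N53299 = N54929 := rfl
theorem L738808 : sm ga N54929 = N53475 := ded_11_1 (flp_c L738291) L738283 L738806
theorem L738810 : sm ge N54929 = N53489 := ded_28_2 (flp_c L723531) (flp_e L721505) L738806
theorem L738812 : sm gg N54929 = N53308 := ded_30_2 (flp_c L721607) (flp_g L721503) L738806
theorem L738814 : sm gj N54929 = N53383 := ded_31_2 (flp_c L738261) L738259 L738806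
theorem L738816 : sm gh N54929 = N53311 := ded_32_2 (flp_c L721643) (flp_h L721507) L738806
theorem L738818 : sm gd N54929 = N53376 := ded_27_2 L722406 (flp_d L720958) L720950 L721501 L738806
theorem L738820 : sm gb N54234 = N54929 := ded_23_3 L738812 (flp_b L721619) L730748
theorem L738822 : sm gh N53303 = N54930 := rfl
theorem L738824 : sm ga N54930 = N53901 := ded_17_1 (flp_h L727827) (flp_a L721545) L738822
theorem L738826 : sm gb N54930 = N53350 := ded_25_1 (flp_h L722124) (flp_b L721547) L738822
theorem L738828 : sm gc N54930 = N53306 := ded_32_1 (flp_h L721583) (flp_c L721549) L738822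
theorem L738830 : sm ge N54930 = N53332 := ded_43_1 (flp_h L721917) (flp_e L721553) L738822
theorem L738832 : sm gg N54930 = N53304 := ded_50_1 (flp_h L721559) (flp_g L721555) L738822
theorem L738834 : sm gj N54930 = N53322 := ded_52_1 (flp_h L721800) (flp_j L721557) L738822
theorem L738836 : sm gi N54930 = N53330 := ded_54_2 (flp_h L721890) (flp_i L702722) (flp_h L702285) L721543 L738822
theorem L738838 : sm gd N53306 = N54931 := rfl
theorem L738840 : sm ga N54931 = N54226 := ded_12_1 (flp_d L730692) (flp_a L721585) L738838
theorem L738842 : sm gb N54931 = N53385 := ded_20_1 (flp_d L722491) (flp_b L721587) L738838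
theorem L738844 : sm gg N54931 = N53307 := ded_36_2 (flp_d L721595) (flp_g L721591) L738838
theorem L738846 : sm gj N54931 = N54227 := ded_37_2 (flp_d L730700) (flp_j L721593) L738838
theorem L738848 : sm ge N54931 = N54229 := ded_34_2 (flp_d L733226) L733218 L720653 (flp_e L721589) L738838
theorem L738850 : sm gh N54931 = N53312 := ded_38_2 (flp_d L721658) (flp_h L702371) (flp_d L702319) L721583 L738838
theorem L738852 : sm gc N54230 = N54931 := ded_11_0 L738840 (flp_c L738766) L738758
theorem L738854 : sm gd N53309 = N54932 := rfl
theorem L738856 : sm ga N54932 = N54236 := ded_12_1 (flp_d L730761) (flp_a L721623) L738854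
theorem L738858 : sm gb N54932 = N53394 := ded_20_1 (flp_d L722587) (flp_b L721625) L738854
theorem L738860 : sm gf N54932 = N53312 := ded_35_2 (flp_d L721658) (flp_f L721631) L738854
theorem L738862 : sm gg N54932 = N53310 := ded_36_2 (flp_d L721638) (flp_g L721633) L738854
theorem L738864 : sm gj N54932 = N54238 := ded_37_2 (flp_d L730775) (flp_j L721635) L738854
theorem L738866 : sm gi N54932 = N54932 := ded_39_2 (flp_d L738854) L721637 L738854
theorem L738867 : sm gc N54932 = N54246 := ded_27_1 L730828 (flp_c L721761) L721769 (flp_c L721627) L738854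
theorem L738869 : sm gc N53310 = N54933 := rfl
theorem L738871 : sm ga N54933 = N53508 := ded_11_1 (flp_c L738310) L738299 L738869
theorem L738873 : sm gf N54933 = N53311 := ded_29_2 (flp_c L721643) (flp_f L721640) L738869
theorem L738875 : sm gg N54933 = N54246 := ded_30_2 (flp_c L738867) L738862 L738869
theorem L738877 : sm gj N54933 = N53400 := ded_31_2 (flp_c L738325) L738322 L738869
theorem L738879 : sm gi N54933 = N54933 := ded_33_2 (flp_c L738869) L721642 L738869
theorem L738880 : sm gd N54933 = N53397 := ded_27_2 L722631 (flp_d L720569) L720559 L721638 L738869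
theorem L738882 : sm gb N54247 = N54933 := ded_22_3 L738873 (flp_b L721656) (flp_f L730836)
theorem L738884 : sm ge N53310 = N54934 := rfl
theorem L738886 : sm gi N54934 = N54934 := ded_44_2 (flp_e L738884) L721642 L738884
theorem L738887 : sm gd N54934 = N53595 := ded_34_1 (flp_e L724694) (flp_d L705458) (flp_e L702359) L721638 L738884
theorem L738889 : sm gf N54934 = N53502 := ded_40_2 (flp_e L723639) L704241 (flp_e L702369) (flp_f L721640) L738884
theorem L738891 : sm gd N53313 = N54935 := rfl
theorem L738893 : sm ga N54935 = N54246 := ded_12_1 L730828 (flp_a L721675) L738891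
theorem L738895 : sm gb N54935 = N53316 := ded_20_1 (flp_d L721717) (flp_b L721677) L738891
theorem L738897 : sm gf N54935 = N53317 := ded_35_2 (flp_d L721726) (flp_f L721681) L738891
theorem L738899 : sm gg N54935 = N53508 := ded_36_2 (flp_d L723701) (flp_g L721683) L738891
theorem L738901 : sm gj N54935 = N54235 := ded_37_2 (flp_d L730752) (flp_j L721685) L738891
theorem L738903 : sm gi N54935 = N54935 := ded_39_2 (flp_d L738891) L721687 L738891
theorem L738904 : sm gc N54935 = N54236 := ded_27_1 (flp_d L730761) L712240 (flp_d L702586) (flp_c L721679) L738891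
theorem L738906 : sm gh N53314 = N54936 := rfl
theorem L738908 : sm ga N54936 = N53581 := ded_17_1 (flp_h L724546) (flp_a L721690) L738906
theorem L738910 : sm gc N54936 = N53597 := ded_32_1 (flp_h L724709) (flp_c L721692) L738906
theorem L738912 : sm gf N54936 = N53540 := ded_47_1 (flp_h L724083) (flp_f L721696) L738906
theorem L738914 : sm gg N54936 = N54171 := ded_50_1 (flp_h L730319) (flp_g L721698) L738906
theorem L738916 : sm gj N54936 = N53541 := ded_52_1 (flp_h L724096) (flp_j L721700) L738906
theorem L738918 : sm gi N54936 = N54287 := ded_54_2 (flp_h L731132) (flp_i L712685) L702465 L721688 L738906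
theorem L738920 : sm gd N53315 = N54937 := rfl
theorem L738922 : sm ga N54937 = N53591 := ded_12_1 (flp_d L724652) (flp_a L721704) L738920
theorem L738924 : sm gf N54937 = N53543 := ded_35_2 (flp_d L724118) (flp_f L721710) L738920
theorem L738926 : sm gg N54937 = N54172 := ded_36_2 (flp_d L730324) (flp_g L721712) L738920
theorem L738928 : sm gj N54937 = N53544 := ded_37_2 (flp_d L724130) (flp_j L721714) L738920
theorem L738930 : sm gi N54937 = N54937 := ded_39_2 (flp_d L738920) L721716 L738920
theorem L738931 : sm gc N54937 = N54429 := ded_27_1 (flp_d L732166) L713925 (flp_d L702502) (flp_c L721706) L738920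
theorem L738933 : sm ge N53316 = N54938 := rfl
theorem L738935 : sm gc N54938 = N53519 := ded_28_1 (flp_e L723824) (flp_c L721724) L738933
theorem L738937 : sm gg N54938 = N54173 := ded_41_2 (flp_e L730328) (flp_g L721721) L738933
theorem L738939 : sm gi N54938 = N54938 := ded_44_2 (flp_e L738933) L721723 L738933
theorem L738940 : sm gf N53318 = N54939 := rfl
theorem L738942 : sm ga N54939 = N53499 := ded_14_1 L723619 (flp_a L721743) L738940
theorem L738944 : sm gb N54939 = N54238 := ded_22_1 L730779 (flp_b L721745) L738940
theorem L738946 : sm gc N54939 = N53521 := ded_29_1 (flp_f L723843) (flp_c L721747) L738940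
theorem L738948 : sm gd N54939 = N53393 := ded_35_1 L722582 (flp_d L721754) L738940
theorem L738950 : sm gj N54939 = N53394 := ded_46_2 L722591 (flp_j L721751) L738940
theorem L738952 : sm gi N54939 = N54939 := ded_48_2 (flp_f L738940) L721753 L738940
theorem L738953 : sm gi N53320 = N54940 := rfl
theorem L738955 : sm ga N54940 = N53891 := ded_18_1 (flp_i L727716) (flp_a L721774) L738953
theorem L738957 : sm gb N54940 = N53347 := ded_26_1 (flp_i L722091) (flp_b L721776) L738953
theorem L738959 : sm gc N54940 = N54210 := ded_33_1 (flp_i L730592) (flp_c L721778) L738953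
theorem L738961 : sm gd N54940 = N54249 := ded_39_1 (flp_i L730843) (flp_d L721784) L738953
theorem L738963 : sm ge N54940 = N53321 := ded_44_1 (flp_i L721786) L721772 L738953
theorem L738965 : sm gg N54940 = N54137 := ded_51_1 (flp_i L730057) (flp_g L721780) L738953
theorem L738967 : sm gh N53321 = N54941 := rfl
theorem L738969 : sm ga N54941 = N53892 := ded_17_1 (flp_h L727728) (flp_a L721788) L738967
theorem L738971 : sm gb N54941 = N53348 := ded_25_1 (flp_h L722099) (flp_b L721790) L738967
theorem L738973 : sm gc N54941 = N54211 := ded_32_1 (flp_h L730598) (flp_c L721792) L738967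
theorem L738975 : sm gf N54941 = N53322 := ded_47_1 (flp_h L721800) (flp_f L721796) L738967
theorem L738977 : sm gg N54941 = N54138 := ded_50_1 (flp_h L730071) (flp_g L721798) L738967
theorem L738979 : sm gd N54941 = N54183 := ded_38_1 (flp_h L730406) L711754 (flp_h L702633) (flp_d L721794) L738967
theorem L738981 : sm gi N54941 = N53329 := ded_54_2 (flp_h L721882) (flp_i L702712) (flp_h L702617) L721786 L738967
theorem L738983 : sm gi N53323 = N54942 := rfl
theorem L738985 : sm ga N54942 = N54213 := ded_18_1 (flp_i L730612) (flp_a L721814) L738983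
theorem L738987 : sm gb N54942 = N53366 := ded_26_1 (flp_i L722304) (flp_b L721816) L738983
theorem L738989 : sm gd N54942 = N53607 := ded_39_1 (flp_i L724828) (flp_d L721820) L738983
theorem L738991 : sm ge N54942 = N53324 := ded_44_1 (flp_i L721824) L721812 L738983
theorem L738993 : sm gf N54942 = N54210 := ded_48_1 (flp_i L730592) (flp_f L721822) L738983
theorem L738995 : sm gj N54942 = N53328 := ded_53_1 (flp_i L721872) (flp_j L721818) L738983
theorem L738997 : sm gh N53324 = N54943 := rfl
theorem L738999 : sm ga N54943 = N54228 := ded_17_1 (flp_h L730708) (flp_a L721826) L738997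
theorem L739001 : sm gb N54943 = N53367 := ded_25_1 (flp_h L722314) (flp_b L721828) L738997
theorem L739003 : sm gf N54943 = N53330 := ded_47_1 (flp_h L721890) (flp_f L721832) L738997
theorem L739005 : sm gj N54943 = N53329 := ded_52_1 (flp_h L721882) (flp_j L721834) L738997
theorem L739007 : sm ge N53325 = N54944 := rfl
theorem L739009 : sm ga N54944 = N53419 := ded_13_1 L722878 (flp_a L721847) L739007
theorem L739011 : sm gb N54944 = N53326 := ded_21_1 (flp_e L721851) L721836 L739007
theorem L739013 : sm gc N54944 = N53369 := ded_28_1 (flp_e L722338) (flp_c L721849) L739007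
theorem L739015 : sm gg N54944 = N53451 := ded_41_2 L723174 (flp_g L721841) L739007
theorem L739017 : sm gj N54944 = N53346 := ded_42_2 L722089 (flp_j L721843) L739007
theorem L739019 : sm gh N54944 = N53365 := ded_43_2 L722302 (flp_h L721845) L739007
theorem L739021 : sm gf N54944 = N53341 := ded_40_2 (flp_e L722029) L702830 (flp_e L702739) (flp_f L721839) L739007
theorem L739023 : sm gi N53325 = N54945 := rfl
theorem L739025 : sm ga N54945 = N53432 := ded_18_1 (flp_i L722996) (flp_a L721847) L739023
theorem L739027 : sm gb N54945 = N53327 := ded_26_1 (flp_i L721861) L721836 L739023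
theorem L739029 : sm gc N54945 = N53370 := ded_33_1 (flp_i L722346) (flp_c L721849) L739023
theorem L739031 : sm gd N54945 = N54945 := ded_39_1 (flp_i L739023) L721838 L739023
theorem L739032 : sm gf N54945 = N53331 := ded_48_1 (flp_i L721902) (flp_f L721839) L739023
theorem L739034 : sm gg N54945 = N53473 := ded_51_1 (flp_i L723379) (flp_g L721841) L739023
theorem L739036 : sm gj N54945 = N53355 := ded_53_1 (flp_i L722189) (flp_j L721843) L739023
theorem L739038 : sm gd N53326 = N54946 := rfl
theorem L739040 : sm ga N54946 = N53565 := ded_12_1 L724366 (flp_a L721853) L739038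
theorem L739042 : sm gf N54946 = N53534 := ded_35_2 (flp_d L738151) L738153 L739038
theorem L739044 : sm gg N54946 = N54156 := ded_36_2 L730221 (flp_g L721857) L739038
theorem L739046 : sm gj N54946 = N54248 := ded_37_2 (flp_d L738479) L738487 L739038
theorem L739048 : sm gc N54946 = N53609 := ded_27_1 (flp_d L724844) L705645 (flp_d L702710) (flp_c L721855) L739038
theorem L739050 : sm ge N54946 = N54946 := ded_34_2 (flp_d L739038) (flp_e L721851) L702703 L721851 L739038
theorem L739051 : sm gh N54946 = N54259 := ded_38_2 (flp_d L734855) L734851 L724518 (flp_h L721859) L739038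
theorem L739053 : sm gi N53326 = N54947 := rfl
theorem L739055 : sm ga N54947 = N54191 := ded_18_1 (flp_i L730462) (flp_a L721853) L739053
theorem L739057 : sm gc N54947 = N53328 := ded_33_1 (flp_i L721872) (flp_c L721855) L739053
theorem L739059 : sm ge N54947 = N53327 := ded_44_1 (flp_i L721861) L721851 L739053
theorem L739061 : sm gg N54947 = N54159 := ded_51_1 (flp_i L730240) (flp_g L721857) L739053
theorem L739063 : sm gh N53327 = N54948 := rfl
theorem L739065 : sm ga N54948 = N54192 := ded_17_1 (flp_h L730468) (flp_a L721863) L739063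
theorem L739067 : sm gc N54948 = N53329 := ded_32_1 (flp_h L721882) (flp_c L721865) L739063
theorem L739069 : sm gf N54948 = N53332 := ded_47_1 (flp_h L721917) (flp_f L721868) L739063
theorem L739071 : sm gg N54948 = N54164 := ded_50_1 (flp_h L730276) (flp_g L721870) L739063
theorem L739073 : sm gi N54948 = N54211 := ded_54_2 (flp_h L730598) (flp_i L711995) (flp_h L702701) L721861 L739063
theorem L739075 : sm gh N53328 = N54949 := rfl
theorem L739077 : sm gb N54949 = N53375 := ded_25_1 (flp_h L722394) (flp_b L721874) L739075
theorem L739079 : sm ge N54949 = N53329 := ded_43_1 (flp_h L721882) (flp_e L721878) L739075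
theorem L739081 : sm gg N54949 = N54162 := ded_50_1 (flp_h L730262) (flp_g L721880) L739075
theorem L739083 : sm gh N53331 = N54950 := rfl
theorem L739085 : sm ga N54950 = N53433 := ded_17_1 (flp_h L723005) (flp_a L721904) L739083
theorem L739087 : sm gb N54950 = N53332 := ded_25_1 (flp_h L721917) (flp_b L721906) L739083
theorem L739089 : sm gc N54950 = N53380 := ded_32_1 (flp_h L722452) (flp_c L721908) L739083
theorem L739091 : sm ge N54950 = N53350 := ded_43_1 (flp_h L722124) (flp_e L721911) L739083
theorem L739093 : sm gg N54950 = N53333 := ded_50_1 (flp_h L721927) (flp_g L721913) L739083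
theorem L739095 : sm gj N54950 = N53356 := ded_52_1 (flp_h L722196) (flp_j L721915) L739083
theorem L739097 : sm gi N54950 = N53378 := ded_54_2 (flp_h L722424) (flp_i L703130) (flp_h L702745) L721902 L739083
theorem L739099 : sm gd N53332 = N54951 := rfl
theorem L739101 : sm ga N54951 = N54198 := ded_12_1 (flp_d L730505) (flp_a L721919) L739099
theorem L739103 : sm gg N54951 = N53334 := ded_36_2 (flp_d L721939) (flp_g L721923) L739099
theorem L739105 : sm gi N54951 = N54227 := ded_39_2 (flp_d L730700) (flp_i L721925) L739099
theorem L739107 : sm gh N54951 = N54951 := ded_38_2 (flp_d L739099) (flp_h L721917) L702757 L721917 L739099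
theorem L739108 : sm ge N53335 = N54952 := rfl
theorem L739110 : sm ga N54952 = N53407 := ded_13_1 (flp_e L722746) (flp_a L721950) L739108
theorem L739112 : sm gb N54952 = N53534 := ded_21_1 (flp_e L724012) (flp_b L721952) L739108
theorem L739114 : sm gc N54952 = N54059 := ded_28_1 L729433 (flp_c L721961) L739108
theorem L739116 : sm gg N54952 = N53524 := ded_41_2 (flp_e L723880) (flp_g L721955) L739108
theorem L739118 : sm gj N54952 = N53338 := ded_42_2 (flp_e L721993) (flp_j L721957) L739108
theorem L739120 : sm gh N54952 = N53615 := ded_43_2 (flp_e L724893) (flp_h L721959) L739108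
theorem L739122 : sm gd N54952 = N53341 := ded_34_1 (flp_e L722029) (flp_d L702826) (flp_e L702794) L721948 L739108
theorem L739124 : sm gi N53335 = N54953 := rfl
theorem L739126 : sm ga N54953 = N53408 := ded_18_1 (flp_i L722758) (flp_a L721950) L739124
theorem L739128 : sm gb N54953 = N53535 := ded_26_1 (flp_i L724024) (flp_b L721952) L739124
theorem L739130 : sm gc N54953 = N54109 := ded_33_1 (flp_i L729844) (flp_c L721961) L739124
theorem L739132 : sm gd N54953 = N53336 := ded_39_1 (flp_i L721963) L721948 L739124
theorem L739134 : sm gf N54953 = N54953 := ded_48_1 (flp_i L739124) L721954 L739124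
theorem L739135 : sm gg N54953 = N53525 := ded_51_1 (flp_i L723890) (flp_g L721955) L739124
theorem L739137 : sm gj N54953 = N53339 := ded_53_1 (flp_i L722005) (flp_j L721957) L739124
theorem L739139 : sm ge N53337 = N54954 := rfl
theorem L739141 : sm ga N54954 = N53410 := ded_13_1 (flp_e L722779) (flp_a L721981) L739139
theorem L739143 : sm gb N54954 = N54048 := ded_21_1 L729336 (flp_b L721990) L739139
theorem L739145 : sm gc N54954 = N53338 := ded_28_1 (flp_e L721993) L721979 L739139
theorem L739147 : sm gg N54954 = N53958 := ded_41_2 L728446 (flp_g L721984) L739139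
theorem L739149 : sm gj N54954 = N54059 := ded_42_2 L729433 (flp_j L721986) L739139
theorem L739151 : sm gh N54954 = N53617 := ded_43_2 (flp_e L724922) (flp_h L721988) L739139
theorem L739153 : sm gi N53337 = N54955 := rfl
theorem L739155 : sm ga N54955 = N53411 := ded_18_1 (flp_i L722787) (flp_a L721981) L739153
theorem L739157 : sm gb N54955 = N54105 := ded_26_1 (flp_i L729822) (flp_b L721990) L739153
theorem L739159 : sm gc N54955 = N53339 := ded_33_1 (flp_i L722005) L721979 L739153
theorem L739161 : sm gd N54955 = N54955 := ded_39_1 (flp_i L739153) L721992 L739153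
theorem L739162 : sm gf N54955 = N54955 := ded_48_1 (flp_i L739153) L721983 L739153
theorem L739163 : sm gg N54955 = N53974 := ded_51_1 (flp_i L728588) (flp_g L721984) L739153
theorem L739165 : sm gj N54955 = N54109 := ded_53_1 (flp_i L729844) (flp_j L721986) L739153
theorem L739167 : sm gf N53338 = N54956 := rfl
theorem L739169 : sm ga N54956 = N53412 := ded_14_1 (flp_f L722795) (flp_a L721995) L739167
theorem L739171 : sm gb N54956 = N54248 := ded_22_1 (flp_f L730838) (flp_b L721997) L739167
theorem L739173 : sm gd N54956 = N53346 := ded_35_1 (flp_f L722083) (flp_d L722003) L739167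
theorem L739175 : sm gh N54956 = N53619 := ded_47_2 (flp_f L724951) (flp_h L722001) L739167
theorem L739177 : sm ge N54956 = N54956 := ded_40_1 (flp_f L739167) (flp_e L721993) L702807 L721993 L739167
theorem L739178 : sm gg N54956 = N53952 := ded_45_2 (flp_f L728386) L709510 L709549 (flp_g L721999) L739167
theorem L739180 : sm gi N53338 = N54957 := rfl
theorem L739182 : sm ga N54957 = N53413 := ded_18_1 (flp_i L722806) (flp_a L721995) L739180
theorem L739184 : sm gb N54957 = N54249 := ded_26_1 (flp_i L730843) (flp_b L721997) L739180
theorem L739186 : sm gd N54957 = N53347 := ded_39_1 (flp_i L722091) (flp_d L722003) L739180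
theorem L739188 : sm ge N54957 = N53339 := ded_44_1 (flp_i L722005) L721993 L739180
theorem L739190 : sm gg N54957 = N53961 := ded_51_1 (flp_i L728468) (flp_g L721999) L739180
theorem L739192 : sm gh N53339 = N54958 := rfl
theorem L739194 : sm ga N54958 = N53414 := ded_17_1 (flp_h L722816) (flp_a L722007) L739192
theorem L739196 : sm gb N54958 = N54250 := ded_25_1 (flp_h L730851) (flp_b L722009) L739192
theorem L739198 : sm gf N54958 = N54958 := ded_47_1 (flp_h L739192) L722013 L739192
theorem L739199 : sm gg N54958 = N53977 := ded_50_1 (flp_h L728623) (flp_g L722014) L739192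
theorem L739201 : sm gd N54958 = N54289 := ded_38_1 (flp_h L731146) L712707 (flp_h L702824) (flp_d L722011) L739192
theorem L739203 : sm gi N54958 = N53621 := ded_54_2 (flp_h L724968) (flp_i L705754) (flp_h L702810) L722005 L739192
theorem L739205 : sm ge N53340 = N54959 := rfl
theorem L739207 : sm ga N54959 = N53417 := ded_13_1 (flp_e L722849) (flp_a L722018) L739205
theorem L739209 : sm gb N54959 = N53371 := ded_21_1 L722362 (flp_b L722026) L739205
theorem L739211 : sm gc N54959 = N53341 := ded_28_1 (flp_e L722029) L722016 L739205
theorem L739213 : sm gg N54959 = N53447 := ded_41_2 (flp_e L732971) L732973 L739205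
theorem L739215 : sm gj N54959 = N53344 := ded_42_2 (flp_e L722062) (flp_j L722022) L739205
theorem L739217 : sm gh N54959 = N53363 := ded_43_2 (flp_e L722272) (flp_h L722024) L739205
theorem L739219 : sm gf N54959 = N53369 := ded_40_2 (flp_e L722338) L703058 (flp_e L702878) (flp_f L722020) L739205
theorem L739221 : sm gd N53753 = N54959 := ded_20_0 L739209 (flp_d L736212) L736208
theorem L739223 : sm gi N53340 = N54960 := rfl
theorem L739225 : sm ga N54960 = N53418 := ded_18_1 (flp_i L722859) (flp_a L722018) L739223
theorem L739227 : sm gb N54960 = N53381 := ded_26_1 (flp_i L722458) (flp_b L722026) L739223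
theorem L739229 : sm gc N54960 = N53342 := ded_33_1 (flp_i L722037) L722016 L739223
theorem L739231 : sm gd N54960 = N54960 := ded_39_1 (flp_i L739223) L722028 L739223
theorem L739232 : sm gf N54960 = N53349 := ded_48_1 (flp_i L722109) (flp_f L722020) L739223
theorem L739234 : sm gj N54960 = N53345 := ded_53_1 (flp_i L722072) (flp_j L722022) L739223
theorem L739236 : sm gi N53341 = N54961 := rfl
theorem L739238 : sm ga N54961 = N53420 := ded_18_1 (flp_i L722880) (flp_a L722031) L739236
theorem L739240 : sm ge N54961 = N53342 := ded_44_1 (flp_i L722037) L722029 L739236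
theorem L739242 : sm gj N54961 = N53347 := ded_53_1 (flp_i L722091) (flp_j L722033) L739236
theorem L739244 : sm gh N53342 = N54962 := rfl
theorem L739246 : sm ga N54962 = N53421 := ded_17_1 (flp_h L722886) (flp_a L722039) L739244
theorem L739248 : sm gf N54962 = N53350 := ded_47_1 (flp_h L722124) (flp_f L722043) L739244
theorem L739250 : sm gj N54962 = N53348 := ded_52_1 (flp_h L722099) (flp_j L722045) L739244
theorem L739252 : sm gi N54962 = N53367 := ded_54_2 (flp_h L722314) (flp_i L703044) (flp_h L702834) L722037 L739244
theorem L739254 : sm ge N53343 = N54963 := rfl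
theorem L739256 : sm ga N54963 = N53451 := ded_13_1 L723174 (flp_a L722058) L739254
theorem L739258 : sm gb N54963 = N53344 := ded_21_1 (flp_e L722062) L722047 L739254
theorem L739260 : sm gc N54963 = N53365 := ded_28_1 L722302 (flp_c L722060) L739254
theorem L739262 : sm gg N54963 = N53419 := ded_41_2 L722878 (flp_g L722052) L739254
theorem L739264 : sm gj N54963 = N53371 := ded_42_2 L722362 (flp_j L722054) L739254
theorem L739266 : sm gh N54963 = N53369 := ded_43_2 (flp_e L722338) (flp_h L722056) L739254
theorem L739268 : sm gf N54963 = N53363 := ded_40_2 (flp_e L722272) L703030 L702910 (flp_f L722050) L739254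
theorem L739270 : sm gi N53343 = N54964 := rfl
theorem L739272 : sm ga N54964 = N53473 := ded_18_1 (flp_i L723379) (flp_a L722058) L739270
theorem L739274 : sm gb N54964 = N53345 := ded_26_1 (flp_i L722072) L722047 L739270
theorem L739276 : sm gc N54964 = N53377 := ded_33_1 (flp_i L722412) (flp_c L722060) L739270
theorem L739278 : sm gd N54964 = N54964 := ded_39_1 (flp_i L739270) L722049 L739270
theorem L739279 : sm gf N54964 = N53351 := ded_48_1 (flp_i L722132) (flp_f L722050) L739270
theorem L739281 : sm gg N54964 = N53432 := ded_51_1 (flp_i L722996) (flp_g L722052) L739270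
theorem L739283 : sm gj N54964 = N53381 := ded_53_1 (flp_i L722458) (flp_j L722054) L739270
theorem L739285 : sm gd N53344 = N54965 := rfl
theorem L739287 : sm ga N54965 = N53424 := ded_12_1 (flp_d L722925) (flp_a L722064) L739285
theorem L739289 : sm gg N54965 = N54176 := ded_36_2 (flp_d L730345) (flp_g L722068) L739285
theorem L739291 : sm gj N54965 = N53753 := ded_37_2 L739221 L739215 L739285
theorem L739293 : sm ge N54965 = N54965 := ded_34_2 (flp_d L739285) (flp_e L722062) L702855 L722062 L739285
theorem L739294 : sm gf N53769 = N54965 := ded_14_0 L739287 (flp_f L734125) L734117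
theorem L739296 : sm gf N53344 = N54966 := rfl
theorem L739298 : sm ga N54966 = N53425 := ded_14_1 (flp_f L722930) (flp_a L722064) L739296
theorem L739300 : sm gb N54966 = N53363 := ded_22_1 (flp_f L739268) L739258 L739296
theorem L739302 : sm gc N54966 = N53346 := ded_29_1 (flp_f L722083) (flp_c L722066) L739296
theorem L739304 : sm gd N54966 = N53769 := ded_35_1 L739294 (flp_d L739285) L739296
theorem L739306 : sm gj N54966 = N53369 := ded_46_2 (flp_f L739219) L739215 L739296
theorem L739308 : sm gh N54966 = N53371 := ded_47_2 (flp_f L722356) (flp_h L722070) L739296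
theorem L739310 : sm ge N54966 = N53352 := ded_40_1 (flp_f L722147) (flp_e L702912) (flp_f L702849) L722062 L739296
theorem L739312 : sm gg N54966 = N53469 := ded_45_2 L723355 (flp_g L715591) L715599 (flp_g L722068) L739296
theorem L739314 : sm gi N53344 = N54967 := rfl
theorem L739316 : sm ga N54967 = N53426 := ded_18_1 (flp_i L722940) (flp_a L722064) L739314
theorem L739318 : sm gc N54967 = N53347 := ded_33_1 (flp_i L722091) (flp_c L722066) L739314
theorem L739320 : sm ge N54967 = N53345 := ded_44_1 (flp_i L722072) L722062 L739314
theorem L739322 : sm gg N54967 = N54177 := ded_51_1 (flp_i L730354) (flp_g L722068) L739314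
theorem L739324 : sm gh N53345 = N54968 := rfl
theorem L739326 : sm ga N54968 = N53427 := ded_17_1 (flp_h L722948) (flp_a L722074) L739324
theorem L739328 : sm gc N54968 = N53348 := ded_32_1 (flp_h L722099) (flp_c L722076) L739324
theorem L739330 : sm gf N54968 = N53354 := ded_47_1 (flp_h L722179) (flp_f L722079) L739324
theorem L739332 : sm gg N54968 = N54178 := ded_50_1 (flp_h L730362) (flp_g L722081) L739324
theorem L739334 : sm gi N54968 = N53373 := ded_54_2 (flp_h L722374) (flp_i L703070) (flp_h L702853) L722072 L739324
theorem L739336 : sm gi N53346 = N54969 := rfl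
theorem L739338 : sm ga N54969 = N53429 := ded_18_1 (flp_i L722970) (flp_a L722085) L739336
theorem L739340 : sm ge N54969 = N53355 := ded_44_1 (flp_i L722189) (flp_e L722089) L739336
theorem L739342 : sm gf N54969 = N53347 := ded_48_1 (flp_i L722091) L722083 L739336
theorem L739344 : sm gh N53347 = N54970 := rfl
theorem L739346 : sm ga N54970 = N53430 := ded_17_1 (flp_h L722976) (flp_a L722093) L739344
theorem L739348 : sm ge N54970 = N53348 := ded_43_1 (flp_h L722099) (flp_e L722095) L739344
theorem L739350 : sm gg N54970 = N54179 := ded_50_1 (flp_h L730372) (flp_g L722097) L739344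
theorem L739352 : sm gi N54970 = N53375 := ded_54_2 (flp_h L722394) (flp_i L703090) (flp_h L702862) L722091 L739344
theorem L739354 : sm gh N53349 = N54971 := rfl
theorem L739356 : sm ga N54971 = N53431 := ded_17_1 (flp_h L722984) (flp_a L722111) L739354
theorem L739358 : sm gb N54971 = N53382 := ded_25_1 (flp_h L722467) (flp_b L722113) L739354
theorem L739360 : sm gc N54971 = N53350 := ded_32_1 (flp_h L722124) (flp_c L722115) L739354
theorem L739362 : sm ge N54971 = N53380 := ded_43_1 (flp_h L722452) (flp_e L722118) L739354
theorem L739364 : sm gg N54971 = N53387 := ded_50_1 (flp_h L722513) (flp_g L722120) L739354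
theorem L739366 : sm gj N54971 = N53354 := ded_52_1 (flp_h L722179) (flp_j L722122) L739354
theorem L739368 : sm gi N54971 = N53376 := ded_54_2 (flp_h L722402) (flp_i L703108) (flp_h L702884) L722109 L739354
theorem L739370 : sm gh N53351 = N54972 := rfl
theorem L739372 : sm ga N54972 = N53474 := ded_17_1 (flp_h L723390) (flp_a L722134) L739370
theorem L739374 : sm gb N54972 = N53354 := ded_25_1 (flp_h L722179) (flp_b L722136) L739370
theorem L739376 : sm gc N54972 = N53378 := ded_32_1 (flp_h L722424) (flp_c L722138) L739370
theorem L739378 : sm ge N54972 = N53376 := ded_43_1 (flp_h L722402) (flp_e L722141) L739370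
theorem L739380 : sm gg N54972 = N53357 := ded_50_1 (flp_h L722206) (flp_g L722143) L739370
theorem L739382 : sm gj N54972 = N53382 := ded_52_1 (flp_h L722467) (flp_j L722145) L739370
theorem L739384 : sm gi N54972 = N53380 := ded_54_2 (flp_h L722452) (flp_i L703166) (flp_h L702904) L722132 L739370
theorem L739386 : sm gi N53352 = N54973 := rfl
theorem L739388 : sm ga N54973 = N53435 := ded_18_1 (flp_i L723033) (flp_a L722149) L739386
theorem L739390 : sm gb N54973 = N53364 := ded_26_1 (flp_i L722280) (flp_b L722151) L739386
theorem L739392 : sm gc N54973 = N53355 := ded_33_1 (flp_i L722189) (flp_c L722153) L739386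
theorem L739394 : sm gd N54973 = N53396 := ded_39_1 (flp_i L722608) (flp_d L722155) L739386
theorem L739396 : sm gf N54973 = N53353 := ded_48_1 (flp_i L722163) L722147 L739386
theorem L739398 : sm gg N54973 = N53486 := ded_51_1 (flp_i L723511) (flp_g L722161) L739386
theorem L739400 : sm gj N54973 = N53370 := ded_53_1 (flp_i L722346) (flp_j L722157) L739386
theorem L739402 : sm gh N53353 = N54974 := rfl
theorem L739404 : sm ga N54974 = N53436 := ded_17_1 (flp_h L723043) (flp_a L722165) L739402
theorem L739406 : sm gb N54974 = N53376 := ded_25_1 (flp_h L722402) (flp_b L722167) L739402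
theorem L739408 : sm gc N54974 = N53356 := ded_32_1 (flp_h L722196) (flp_c L722169) L739402
theorem L739410 : sm ge N54974 = N53354 := ded_43_1 (flp_h L722179) (flp_e L722173) L739402
theorem L739412 : sm gg N54974 = N53358 := ded_50_1 (flp_h L722220) (flp_g L722175) L739402
theorem L739414 : sm gj N54974 = N53380 := ded_52_1 (flp_h L722452) (flp_j L722177) L739402
theorem L739416 : sm gd N54974 = N54234 := ded_38_1 L730750 L712347 L703428 (flp_d L722171) L739402
theorem L739418 : sm gi N54974 = N53382 := ded_54_2 (flp_h L722467) (flp_i L703181) (flp_h L702924) L722163 L739402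
theorem L739420 : sm gd N53354 = N54975 := rfl
theorem L739422 : sm ga N54975 = N53437 := ded_12_1 (flp_d L723055) (flp_a L722181) L739420
theorem L739424 : sm gg N54975 = N53359 := ded_36_2 (flp_d L722236) (flp_g L722185) L739420
theorem L739426 : sm gi N54975 = N53383 := ded_39_2 (flp_d L722477) (flp_i L722187) L739420
theorem L739428 : sm gh N54975 = N54975 := ded_38_2 (flp_d L739420) (flp_h L722179) L702934 L722179 L739420
theorem L739429 : sm gh N53355 = N54976 := rfl
theorem L739431 : sm ga N54976 = N53439 := ded_17_1 (flp_h L723069) (flp_a L722191) L739429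
theorem L739433 : sm gf N54976 = N53356 := ded_47_1 (flp_h L722196) (flp_f L722194) L739429
theorem L739435 : sm gi N54976 = N53384 := ded_54_2 (flp_h L722485) (flp_i L703200) (flp_h L702942) L722189 L739429
theorem L739437 : sm gd N53356 = N54977 := rfl
theorem L739439 : sm ga N54977 = N53440 := ded_12_1 (flp_d L723075) (flp_a L722198) L739437
theorem L739441 : sm gg N54977 = N53360 := ded_36_2 (flp_d L722245) (flp_g L722202) L739437
theorem L739443 : sm gi N54977 = N53385 := ded_39_2 (flp_d L722491) (flp_i L722204) L739437
theorem L739445 : sm gh N54977 = N54977 := ded_38_2 (flp_d L739437) (flp_h L722196) L702948 L722196 L739437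
theorem L739446 : sm gd N53357 = N54978 := rfl
theorem L739448 : sm ga N54978 = N54167 := ded_12_1 (flp_d L730295) (flp_a L722208) L739446
theorem L739450 : sm gb N54978 = N53359 := ded_20_1 (flp_d L722236) (flp_b L722210) L739446
theorem L739452 : sm gf N54978 = N54181 := ded_35_2 (flp_d L730389) (flp_f L722216) L739446
theorem L739454 : sm gi N54978 = N53388 := ded_39_2 (flp_d L722523) (flp_i L722218) L739446
theorem L739456 : sm gc N54978 = N53495 := ded_27_1 L723585 (flp_c L721577) L721581 (flp_c L722212) L739446
theorem L739458 : sm ge N54978 = N53494 := ded_34_2 L723580 (flp_e L721611) L721617 (flp_e L722214) L739446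
theorem L739460 : sm gh N54978 = N54978 := ded_38_2 (flp_d L739446) (flp_h L722206) L702969 L722206 L739446
theorem L739461 : sm ge N53359 = N54979 := rfl
theorem L739463 : sm ga N54979 = N53443 := ded_13_1 (flp_e L723107) (flp_a L722238) L739461
theorem L739465 : sm gb N54979 = N53494 := ded_21_1 (flp_e L739458) L739450 L739461
theorem L739467 : sm gc N54979 = N54181 := ded_28_1 (flp_e L738119) L738117 L739461
theorem L739469 : sm gh N54979 = N54979 := ded_43_2 (flp_e L739461) L722244 L739461
theorem L739470 : sm gi N54979 = N53390 := ded_44_2 (flp_e L722540) (flp_i L722242) L739461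
theorem L739472 : sm gd N54979 = N53496 := ded_34_1 L723593 (flp_d L722232) L722228 L722236 L739461
theorem L739474 : sm gf N54979 = N53495 := ded_40_2 (flp_e L723582) (flp_f L723570) L723574 (flp_f L722240) L739461
theorem L739476 : sm gc N53360 = N54980 := rfl
theorem L739478 : sm ga N54980 = N53446 := ded_11_1 (flp_c L723129) (flp_a L722247) L739476
theorem L739480 : sm ge N54980 = N54153 := ded_28_2 (flp_c L738132) L738134 L739476
theorem L739482 : sm gf N54980 = N54168 := ded_29_2 (flp_c L732773) L732769 L739476
theorem L739484 : sm gh N54980 = N54980 := ded_32_2 (flp_c L739476) L722251 L739476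
theorem L739485 : sm gi N54980 = N53391 := ded_33_2 (flp_c L722548) (flp_i L722249) L739476
theorem L739487 : sm gb N54980 = N54154 := ded_19_1 L730206 (flp_b L730523) (flp_c L738610) L738604 L739476
theorem L739489 : sm gd N54980 = N54169 := ded_27_2 L730307 (flp_d L722232) L722226 L722245 L739476
theorem L739491 : sm gi N53361 = N54981 := rfl
theorem L739493 : sm ga N54981 = N53448 := ded_18_1 (flp_i L723140) (flp_a L722254) L739491
theorem L739495 : sm gd N54981 = N53638 := ded_39_1 (flp_i L725169) (flp_d L722260) L739491
theorem L739497 : sm ge N54981 = N53362 := ded_44_1 (flp_i L722262) L722252 L739491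
theorem L739499 : sm gg N54981 = N53366 := ded_51_1 (flp_i L722304) (flp_g L722256) L739491
theorem L739501 : sm gj N54981 = N54182 := ded_53_1 (flp_i L730396) (flp_j L722258) L739491
theorem L739503 : sm gh N53362 = N54982 := rfl
theorem L739505 : sm ga N54982 = N53449 := ded_17_1 (flp_h L723150) (flp_a L722264) L739503
theorem L739507 : sm gg N54982 = N53367 := ded_50_1 (flp_h L722314) (flp_g L722268) L739503
theorem L739509 : sm gj N54982 = N54183 := ded_52_1 (flp_h L730406) (flp_j L722270) L739503
theorem L739511 : sm gi N53363 = N54983 := rfl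
theorem L739513 : sm ga N54983 = N53452 := ded_18_1 (flp_i L723176) (flp_a L722274) L739511
theorem L739515 : sm gc N54983 = N53366 := ded_33_1 (flp_i L722304) (flp_c L722276) L739511
theorem L739517 : sm ge N54983 = N53364 := ded_44_1 (flp_i L722280) L722272 L739511
theorem L739519 : sm gj N54983 = N53372 := ded_53_1 (flp_i L722364) (flp_j L722278) L739511
theorem L739521 : sm gh N53364 = N54984 := rfl
theorem L739523 : sm ga N54984 = N53453 := ded_17_1 (flp_h L723186) (flp_a L722282) L739521
theorem L739525 : sm gc N54984 = N53367 := ded_32_1 (flp_h L722314) (flp_c L722284) L739521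
theorem L739527 : sm gf N54984 = N53376 := ded_47_1 (flp_h L722402) (flp_f L722288) L739521
theorem L739529 : sm gj N54984 = N53373 := ded_52_1 (flp_h L722374) (flp_j L722290) L739521
theorem L739531 : sm gg N53365 = N54985 := rfl
theorem L739533 : sm ga N54985 = N53369 := ded_15_1 L722342 (flp_a L722294) L739531
theorem L739535 : sm gb N54985 = N53456 := ded_23_1 L723220 (flp_b L722296) L739531
theorem L739537 : sm gc N54985 = N53419 := ded_30_1 (flp_g L739262) L739260 L739531
theorem L739539 : sm gd N54985 = N53644 := ded_36_1 (flp_g L725242) (flp_d L722298) L739531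
theorem L739541 : sm ge N54985 = N53368 := ded_41_1 L722330 (flp_e L722302) L739531
theorem L739543 : sm gh N54985 = N53451 := ded_50_2 (flp_g L739015) L739019 L739531
theorem L739545 : sm gf N54985 = N53417 := ded_45_1 (flp_g L738417) L738423 L722256 L722292 L739531
theorem L739547 : sm gj N54985 = N53425 := ded_49_2 (flp_g L732794) L732788 L715062 (flp_j L722300) L739531
theorem L739549 : sm gi N53365 = N54986 := rfl
theorem L739551 : sm ga N54986 = N53454 := ded_18_1 (flp_i L723196) (flp_a L722294) L739549
theorem L739553 : sm gb N54986 = N54210 := ded_26_1 (flp_i L730592) (flp_b L722296) L739549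
theorem L739555 : sm gd N54986 = N53645 := ded_39_1 (flp_i L725248) (flp_d L722298) L739549
theorem L739557 : sm ge N54986 = N53377 := ded_44_1 (flp_i L722412) (flp_e L722302) L739549
theorem L739559 : sm gf N54986 = N53366 := ded_48_1 (flp_i L722304) L722292 L739549
theorem L739561 : sm gj N54986 = N53374 := ded_53_1 (flp_i L722384) (flp_j L722300) L739549
theorem L739563 : sm gh N53366 = N54987 := rfl
theorem L739565 : sm ga N54987 = N53455 := ded_17_1 (flp_h L723208) (flp_a L722306) L739563
theorem L739567 : sm ge N54987 = N53367 := ded_43_1 (flp_h L722314) (flp_e L722310) L739563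
theorem L739569 : sm gj N54987 = N53375 := ded_52_1 (flp_h L722394) (flp_j L722312) L739563
theorem L739571 : sm gi N53368 = N54988 := rfl
theorem L739573 : sm ga N54988 = N53370 := ded_18_1 (flp_i L722346) L722322 L739571
theorem L739575 : sm gb N54988 = N53457 := ded_26_1 (flp_i L723228) (flp_b L722336) L739571
theorem L739577 : sm gc N54988 = N53432 := ded_33_1 (flp_i L722996) (flp_c L722324) L739571
theorem L739579 : sm gd N54988 = N53392 := ded_39_1 (flp_i L722558) (flp_d L722326) L739571
theorem L739581 : sm gf N54988 = N53379 := ded_48_1 (flp_i L722436) (flp_f L722328) L739571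
theorem L739583 : sm gg N54988 = N53377 := ded_51_1 (flp_i L722412) (flp_g L722330) L739571
theorem L739585 : sm gj N54988 = N53435 := ded_53_1 (flp_i L723033) (flp_j L722332) L739571
theorem L739587 : sm gi N53369 = N54989 := rfl
theorem L739589 : sm gb N54989 = N53372 := ded_26_1 (flp_i L722364) (flp_b L722340) L739587
theorem L739591 : sm gd N54989 = N53770 := ded_39_1 (flp_i L726533) (flp_d L722344) L739587
theorem L739593 : sm ge N54989 = N53370 := ded_44_1 (flp_i L722346) L722338 L739587
theorem L739595 : sm gg N54989 = N53454 := ded_51_1 (flp_i L723196) (flp_g L722342) L739587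
theorem L739597 : sm gh N53370 = N54990 := rfl
theorem L739599 : sm gb N54990 = N53373 := ded_25_1 (flp_h L722374) (flp_b L722348) L739597
theorem L739601 : sm gf N54990 = N53380 := ded_47_1 (flp_h L722452) (flp_f L722352) L739597
theorem L739603 : sm gg N54990 = N53476 := ded_50_1 (flp_h L723412) (flp_g L722354) L739597
theorem L739605 : sm gi N53371 = N54991 := rfl
theorem L739607 : sm ga N54991 = N53466 := ded_18_1 (flp_i L723325) (flp_a L722358) L739605
theorem L739609 : sm gc N54991 = N53374 := ded_33_1 (flp_i L722384) (flp_c L722360) L739605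
theorem L739611 : sm ge N54991 = N53381 := ded_44_1 (flp_i L722458) (flp_e L722362) L739605
theorem L739613 : sm gf N54991 = N53372 := ded_48_1 (flp_i L722364) L722356 L739605
theorem L739615 : sm gh N53372 = N54992 := rfl
theorem L739617 : sm ga N54992 = N53467 := ded_17_1 (flp_h L723333) (flp_a L722366) L739615
theorem L739619 : sm gc N54992 = N53375 := ded_32_1 (flp_h L722394) (flp_c L722368) L739615
theorem L739621 : sm ge N54992 = N53373 := ded_43_1 (flp_h L722374) (flp_e L722370) L739615
theorem L739623 : sm gg N54992 = N54185 := ded_50_1 (flp_h L730420) (flp_g L722372) L739615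
theorem L739625 : sm gd N53373 = N54993 := rfl
theorem L739627 : sm ga N54993 = N53468 := ded_12_1 (flp_d L723341) (flp_a L722376) L739625
theorem L739629 : sm gf N54993 = N53383 := ded_35_2 (flp_d L722477) (flp_f L722380) L739625
theorem L739631 : sm gg N54993 = N54186 := ded_36_2 (flp_d L730428) (flp_g L722382) L739625
theorem L739633 : sm gh N54993 = N53400 := ded_38_2 (flp_d L722667) (flp_h L703392) (flp_d L703076) L722374 L739625
theorem L739635 : sm gh N53374 = N54994 := rfl
theorem L739637 : sm ga N54994 = N53471 := ded_17_1 (flp_h L723367) (flp_a L722386) L739635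
theorem L739639 : sm ge N54994 = N53384 := ded_43_1 (flp_h L722485) (flp_e L722390) L739635
theorem L739641 : sm gf N54994 = N53375 := ded_47_1 (flp_h L722394) (flp_f L722392) L739635
theorem L739643 : sm gd N53375 = N54995 := rfl
theorem L739645 : sm ga N54995 = N53472 := ded_12_1 (flp_d L723373) (flp_a L722396) L739643
theorem L739647 : sm gg N54995 = N54187 := ded_36_2 (flp_d L730436) (flp_g L722400) L739643
theorem L739649 : sm gh N54995 = N53656 := ded_38_2 (flp_d L725363) (flp_h L706074) (flp_d L703094) L722394 L739643
theorem L739651 : sm gh N53377 = N54996 := rfl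
theorem L739653 : sm ga N54996 = N53476 := ded_17_1 (flp_h L723412) (flp_a L722414) L739651
theorem L739655 : sm gb N54996 = N54211 := ded_25_1 (flp_h L730598) (flp_b L722416) L739651
theorem L739657 : sm gf N54996 = N53378 := ded_47_1 (flp_h L722424) (flp_f L722420) L739651
theorem L739659 : sm gj N54996 = N53384 := ded_52_1 (flp_h L722485) (flp_j L722422) L739651
theorem L739661 : sm gh N53379 = N54997 := rfl
theorem L739663 : sm ga N54997 = N53380 := ded_17_1 (flp_h L722452) (flp_a L722438) L739661
theorem L739665 : sm gb N54997 = N53478 := ded_25_1 (flp_h L723430) (flp_b L722440) L739661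
theorem L739667 : sm gc N54997 = N53433 := ded_32_1 (flp_h L723005) (flp_c L722442) L739661
theorem L739669 : sm ge N54997 = N53431 := ded_43_1 (flp_h L722984) (flp_e L722446) L739661
theorem L739671 : sm gg N54997 = N53386 := ded_50_1 (flp_h L722499) (flp_g L722448) L739661
theorem L739673 : sm gj N54997 = N53436 := ded_52_1 (flp_h L723043) (flp_j L722450) L739661
theorem L739675 : sm gi N54997 = N53474 := ded_54_2 (flp_h L723390) (flp_i L703966) (flp_h L703162) L722436 L739661
theorem L739677 : sm gd N53380 = N54998 := rfl
theorem L739679 : sm gb N54998 = N53383 := ded_20_1 (flp_d L722477) (flp_b L722454) L739677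
theorem L739681 : sm gg N54998 = N53388 := ded_36_2 (flp_d L722523) (flp_g L722456) L739677
theorem L739683 : sm gj N54998 = N54234 := ded_37_2 (flp_d L739416) L739414 L739677
theorem L739685 : sm gh N54998 = N53402 := ded_38_2 (flp_d L722689) (flp_h L703456) (flp_d L703170) L722452 L739677
theorem L739687 : sm gh N53381 = N54999 := rfl
theorem L739689 : sm ga N54999 = N53483 := ded_17_1 (flp_h L723494) (flp_a L722460) L739687
theorem L739691 : sm gc N54999 = N53384 := ded_32_1 (flp_h L722485) (flp_c L722462) L739687
theorem L739693 : sm gf N54999 = N53382 := ded_47_1 (flp_h L722467) (flp_f L722465) L739687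
theorem L739695 : sm gd N53382 = N55000 := rfl
theorem L739697 : sm ga N55000 = N53484 := ded_12_1 (flp_d L723500) (flp_a L722469) L739695
theorem L739699 : sm gg N55000 = N53389 := ded_36_2 (flp_d L722531) (flp_g L722475) L739695
theorem L739701 : sm gi N55000 = N54234 := ded_39_2 (flp_d L739416) L739418 L739695
theorem L739703 : sm gh N55000 = N55000 := ded_38_2 (flp_d L739695) (flp_h L722467) L703187 L722467 L739695
theorem L739704 : sm ge N53383 = N55001 := rfl
theorem L739706 : sm ga N55001 = N53485 := ded_13_1 (flp_e L723505) (flp_a L722479) L739704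
theorem L739708 : sm gc N55001 = N53477 := ded_28_1 (flp_e L738263) L738261 L739704
theorem L739710 : sm gg N55001 = N53390 := ded_41_2 (flp_e L722540) (flp_g L722481) L739704
theorem L739712 : sm gj N55001 = N53489 := ded_42_2 (flp_e L738810) L738814 L739704
theorem L739714 : sm gh N55001 = N53403 := ded_43_2 (flp_e L722698) (flp_h L722483) L739704
theorem L739716 : sm gd N53384 = N55002 := rfl
theorem L739718 : sm ga N55002 = N53488 := ded_12_1 (flp_d L723525) (flp_a L722487) L739716
theorem L739720 : sm gf N55002 = N53385 := ded_35_2 (flp_d L722491) (flp_f L722489) L739716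
theorem L739722 : sm gh N55002 = N53394 := ded_38_2 (flp_d L722587) (flp_h L703308) (flp_d L703204) L722485 L739716
theorem L739724 : sm gc N53385 = N55003 := rfl
theorem L739726 : sm ga N55003 = N53489 := ded_11_1 (flp_c L723531) (flp_a L722493) L739724
theorem L739728 : sm ge N55003 = N53475 := ded_28_2 (flp_c L738291) L738293 L739724
theorem L739730 : sm gg N55003 = N53391 := ded_30_2 (flp_c L722548) (flp_g L722495) L739724
theorem L739732 : sm gj N55003 = N53485 := ded_31_2 (flp_c L738778) L738782 L739724
theorem L739734 : sm gh N55003 = N53395 := ded_32_2 (flp_c L722594) (flp_h L722497) L739724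
theorem L739736 : sm gb N55003 = N54166 := ded_19_1 L730289 (flp_b L730722) L738852 L738842 L739724
theorem L739738 : sm gc N53388 = N55004 := rfl
theorem L739740 : sm ga N55004 = N53496 := ded_11_1 (flp_c L733577) L733575 L739738
theorem L739742 : sm gf N55004 = N53390 := ded_29_2 L722544 (flp_f L722527) L739738
theorem L739744 : sm gh N55004 = N53404 := ded_32_2 (flp_c L722710) (flp_h L722529) L739738
theorem L739746 : sm gi N55004 = N53495 := ded_33_2 (flp_c L739456) L739454 L739738
theorem L739748 : sm gb N55004 = N54143 := ded_19_1 L730121 (flp_b L721020) L721024 (flp_b L722525) L739738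
theorem L739750 : sm gd N55004 = N53443 := ded_27_2 (flp_c L738575) L738580 L721933 L722523 L739738
theorem L739752 : sm ge N53442 = N55004 := ded_13_0 L739740 L723593 (flp_a L723097)
theorem L739754 : sm ge N53388 = N55005 := rfl
theorem L739756 : sm ga N55005 = N54169 := ded_13_1 (flp_e L733567) L733575 L739754
theorem L739758 : sm gb N55005 = N53390 := ded_21_1 (flp_e L722540) (flp_b L722525) L739754
theorem L739760 : sm gc N55005 = N53442 := ded_28_1 L739752 (flp_c L739738) L739754
theorem L739762 : sm gh N55005 = N53405 := ded_43_2 (flp_e L722722) (flp_h L722529) L739754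
theorem L739764 : sm gi N55005 = N53494 := ded_44_2 (flp_e L739458) L739454 L739754
theorem L739766 : sm gd N55005 = N53446 := ded_34_1 (flp_e L738619) L738626 L722519 L722523 L739754
theorem L739768 : sm gf N55005 = N54143 := ded_40_2 (flp_e L730117) (flp_f L721022) L721026 (flp_f L722527) L739754
theorem L739770 : sm gc N53389 = N55006 := rfl
theorem L739772 : sm ga N55006 = N53494 := ded_11_1 (flp_c L723577) (flp_a L722533) L739770
theorem L739774 : sm gf N55006 = N54154 := ded_29_2 L730206 (flp_f L722535) L739770
theorem L739776 : sm gh N55006 = N55006 := ded_32_2 (flp_c L739770) L722539 L739770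
theorem L739777 : sm gi N55006 = N54169 := ded_33_2 L730307 (flp_i L722537) L739770
theorem L739779 : sm gb N55006 = N54168 := ded_19_1 (flp_c L732773) L732767 L738615 (flp_b L738628) L739770
theorem L739781 : sm gd N55006 = N53391 := ded_27_2 (flp_c L722548) (flp_d L703261) (flp_c L703249) L722531 L739770
theorem L739783 : sm ge N54167 = N55006 := ded_13_0 L739772 (flp_e L739458) L739448
theorem L739785 : sm ge N53389 = N55007 := rfl
theorem L739787 : sm ga N55007 = N53495 := ded_13_1 (flp_e L723582) (flp_a L722533) L739785
theorem L739789 : sm gb N55007 = N53446 := ded_21_1 (flp_e L738619) (flp_b L738628) L739785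
theorem L739791 : sm gc N55007 = N54167 := ded_28_1 L739783 (flp_c L739770) L739785
theorem L739793 : sm gh N55007 = N55007 := ded_43_2 (flp_e L739785) L722539 L739785
theorem L739794 : sm gi N55007 = N53496 := ded_44_2 L723593 (flp_i L722537) L739785
theorem L739796 : sm gd N55007 = N53390 := ded_34_1 (flp_e L722540) (flp_d L703253) (flp_e L703251) L722531 L739785
theorem L739798 : sm gf N55007 = N53443 := ded_40_2 (flp_e L723107) L703782 L711918 (flp_f L722535) L739785
theorem L739800 : sm gh N53392 = N55008 := rfl
theorem L739802 : sm ga N55008 = N53399 := ded_17_1 (flp_h L722653) (flp_a L722560) L739800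
theorem L739804 : sm gb N55008 = N53511 := ded_25_1 (flp_h L723738) (flp_b L722562) L739800
theorem L739806 : sm gc N55008 = N55008 := ded_32_1 (flp_h L739800) L722564 L739800
theorem L739807 : sm ge N55008 = N53668 := ded_43_1 (flp_h L725484) (flp_e L722565) L739800
theorem L739809 : sm gf N55008 = N53401 := ded_47_1 (flp_h L722676) (flp_f L722567) L739800
theorem L739811 : sm gg N55008 = N53393 := ded_50_1 (flp_h L722573) (flp_g L722569) L739800
theorem L739813 : sm gj N55008 = N54144 := ded_52_1 (flp_h L730125) (flp_j L722571) L739800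
theorem L739815 : sm gi N55008 = N55008 := ded_54_2 (flp_h L739800) (flp_i L722558) L703276 L722558 L739800
theorem L739816 : sm gc N53394 = N55009 := rfl
theorem L739818 : sm ga N55009 = N53501 := ded_11_1 (flp_c L723633) (flp_a L722589) L739816
theorem L739820 : sm gf N55009 = N53395 := ded_29_2 (flp_c L722594) (flp_f L722591) L739816
theorem L739822 : sm gj N55009 = N53521 := ded_31_2 (flp_c L738946) L738950 L739816
theorem L739824 : sm gi N55009 = N55009 := ded_33_2 (flp_c L739816) L722593 L739816
theorem L739825 : sm gb N55009 = N54174 := ded_19_1 L730335 (flp_b L730826) (flp_c L738867) L738858 L739816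
theorem L739827 : sm gd N55009 = N55009 := ded_27_2 (flp_c L739816) (flp_d L722587) L703312 L722587 L739816
theorem L739828 : sm ge N53394 = N55010 := rfl
theorem L739830 : sm ga N55010 = N53502 := ded_13_1 (flp_e L723639) (flp_a L722589) L739828
theorem L739832 : sm gi N55010 = N55010 := ded_44_2 (flp_e L739828) L722593 L739828
theorem L739833 : sm gd N55010 = N53672 := ded_34_1 (flp_e L725521) (flp_d L706240) (flp_e L703313) L722587 L739828
theorem L739835 : sm gd N53399 = N55011 := rfl
theorem L739837 : sm gb N55011 = N53400 := ded_20_1 (flp_d L722667) (flp_b L722655) L739835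
theorem L739839 : sm gf N55011 = N53402 := ded_35_2 (flp_d L722689) (flp_f L722660) L739835
theorem L739841 : sm gg N55011 = N53499 := ded_36_2 (flp_d L723615) (flp_g L722662) L739835
theorem L739843 : sm gj N55011 = N54247 := ded_37_2 L730833 (flp_j L722664) L739835
theorem L739845 : sm gi N55011 = N55011 := ded_39_2 (flp_d L739835) L722666 L739835
theorem L739846 : sm ge N53400 = N55012 := rfl
theorem L739848 : sm ga N55012 = N53519 := ded_13_1 (flp_e L723824) (flp_a L722669) L739846
theorem L739850 : sm gg N55012 = N54189 := ded_41_2 (flp_e L730450) (flp_g L722673) L739846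
theorem L739852 : sm gi N55012 = N55012 := ded_44_2 (flp_e L739846) L722675 L739846
theorem L739853 : sm gc N53402 = N55013 := rfl
theorem L739855 : sm ga N55013 = N53503 := ded_11_1 (flp_c L733631) L733629 L739853
theorem L739857 : sm gg N55013 = N53404 := ded_30_2 (flp_c L722710) (flp_g L722693) L739853
theorem L739859 : sm gj N55013 = N54175 := ded_31_2 L730341 (flp_j L722695) L739853
theorem L739861 : sm gi N55013 = N55013 := ded_33_2 (flp_c L739853) L722697 L739853
theorem L739862 : sm gb N55013 = N54147 := ded_19_1 L730159 (flp_b L721095) L721102 (flp_b L722691) L739853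
theorem L739864 : sm gd N55013 = N55013 := ded_27_2 (flp_c L739853) (flp_d L722689) L703460 L722689 L739853
theorem L739865 : sm ge N54146 = N55013 := ded_13_0 L739855 L723647 (flp_a L730148)
theorem L739867 : sm ge N53402 = N55014 := rfl
theorem L739869 : sm ga N55014 = N54175 := ded_13_1 (flp_e L733622) L733629 L739867
theorem L739871 : sm gb N55014 = N53403 := ded_21_1 (flp_e L722698) (flp_b L722691) L739867
theorem L739873 : sm gc N55014 = N54146 := ded_28_1 L739865 (flp_c L739853) L739867
theorem L739875 : sm gg N55014 = N53405 := ded_41_2 (flp_e L722722) (flp_g L722693) L739867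
theorem L739877 : sm gj N55014 = N53503 := ded_42_2 L723647 (flp_j L722695) L739867
theorem L739879 : sm gi N55014 = N55014 := ded_44_2 (flp_e L739867) L722697 L739867
theorem L739880 : sm gd N55014 = N55014 := ded_34_1 (flp_e L739867) (flp_d L722689) L703461 L722689 L739867
theorem L739881 : sm gf N53403 = N55015 := rfl
theorem L739883 : sm ga N55015 = N53521 := ded_14_1 (flp_f L723843) (flp_a L722700) L739881
theorem L739885 : sm gc N55015 = N53499 := ded_29_1 L723619 (flp_c L722702) L739881
theorem L739887 : sm gd N55015 = N55015 := ded_35_1 (flp_f L739881) L722709 L739881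
theorem L739888 : sm gj N55015 = N53501 := ded_46_2 L723635 (flp_j L722706) L739881
theorem L739890 : sm gi N55015 = N55015 := ded_48_2 (flp_f L739881) L722708 L739881
theorem L739891 : sm ge N53406 = N55016 := rfl
theorem L739893 : sm ga N55016 = N54059 := ded_13_1 L729433 (flp_a L722736) L739891
theorem L739895 : sm gc N55016 = N53407 := ded_28_1 (flp_e L722746) L722734 L739891
theorem L739897 : sm gg N55016 = N54070 := ded_41_2 L729518 (flp_g L722739) L739891
theorem L739899 : sm gj N55016 = N53410 := ded_42_2 (flp_e L722779) (flp_j L722741) L739891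
theorem L739901 : sm gh N55016 = N53684 := ded_43_2 (flp_e L725668) (flp_h L722743) L739891
theorem L739903 : sm gi N53406 = N55017 := rfl
theorem L739905 : sm ga N55017 = N54109 := ded_18_1 (flp_i L729844) (flp_a L722736) L739903
theorem L739907 : sm gc N55017 = N53408 := ded_33_1 (flp_i L722758) L722734 L739903
theorem L739909 : sm gd N55017 = N55017 := ded_39_1 (flp_i L739903) L722745 L739903
theorem L739910 : sm gf N55017 = N55017 := ded_48_1 (flp_i L739903) L722738 L739903
theorem L739911 : sm gg N55017 = N54093 := ded_51_1 (flp_i L729717) (flp_g L722739) L739903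
theorem L739913 : sm gj N55017 = N53411 := ded_53_1 (flp_i L722787) (flp_j L722741) L739903
theorem L739915 : sm gf N53407 = N55018 := rfl
theorem L739917 : sm gb N55018 = N54176 := ded_22_1 L730349 (flp_b L722748) L739915
theorem L739919 : sm gd N55018 = N53419 := ded_35_1 (flp_f L722870) (flp_d L722756) L739915
theorem L739921 : sm gj N55018 = N53412 := ded_46_2 (flp_f L722795) (flp_j L722752) L739915
theorem L739923 : sm gh N55018 = N53686 := ded_47_2 (flp_f L725689) (flp_h L722754) L739915
theorem L739925 : sm ge N55018 = N55018 := ded_40_1 (flp_f L739915) (flp_e L722746) L703504 L722746 L739915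
theorem L739926 : sm gi N53407 = N55019 := rfl
theorem L739928 : sm gb N55019 = N54382 := ded_26_1 (flp_i L731839) (flp_b L722748) L739926
theorem L739930 : sm gd N55019 = N53420 := ded_39_1 (flp_i L722880) (flp_d L722756) L739926
theorem L739932 : sm ge N55019 = N53408 := ded_44_1 (flp_i L722758) L722746 L739926
theorem L739934 : sm gg N55019 = N54075 := ded_51_1 (flp_i L729542) (flp_g L722750) L739926
theorem L739936 : sm gj N55019 = N53413 := ded_53_1 (flp_i L722806) (flp_j L722752) L739926
theorem L739938 : sm gh N53408 = N55020 := rfl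
theorem L739940 : sm gb N55020 = N54416 := ded_25_1 (flp_h L732068) (flp_b L722760) L739938
theorem L739942 : sm gf N55020 = N55020 := ded_47_1 (flp_h L739938) L722764 L739938
theorem L739943 : sm gg N55020 = N54097 := ded_50_1 (flp_h L729743) (flp_g L722765) L739938
theorem L739945 : sm gj N55020 = N53414 := ded_52_1 (flp_h L722816) (flp_j L722767) L739938
theorem L739947 : sm gi N55020 = N53688 := ded_54_2 (flp_h L725704) (flp_i L706448) (flp_h L703509) L722758 L739938
theorem L739949 : sm ge N53409 = N55021 := rfl
theorem L739951 : sm gb N55021 = N53410 := ded_21_1 (flp_e L722779) L722769 L739949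
theorem L739953 : sm gc N55021 = N53963 := ded_28_1 L728496 (flp_c L722777) L739949
theorem L739955 : sm gg N55021 = N54044 := ded_41_2 L729303 (flp_g L722773) L739949
theorem L739957 : sm gh N55021 = N53690 := ded_43_2 (flp_e L725720) (flp_h L722775) L739949
theorem L739959 : sm gi N53409 = N55022 := rfl
theorem L739961 : sm gb N55022 = N53411 := ded_26_1 (flp_i L722787) L722769 L739959
theorem L739963 : sm gc N55022 = N53990 := ded_33_1 (flp_i L728771) (flp_c L722777) L739959
theorem L739965 : sm gd N55022 = N55022 := ded_39_1 (flp_i L739959) L722771 L739959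
theorem L739966 : sm gf N55022 = N55022 := ded_48_1 (flp_i L739959) L722772 L739959
theorem L739967 : sm gg N55022 = N54082 := ded_51_1 (flp_i L729602) (flp_g L722773) L739959
theorem L739969 : sm gd N53410 = N55023 := rfl
theorem L739971 : sm gg N55023 = N54047 := ded_36_2 L729329 (flp_g L722783) L739969
theorem L739973 : sm gc N55023 = N53424 := ded_27_1 (flp_d L722925) L703619 (flp_d L703539) (flp_c L722781) L739969
theorem L739975 : sm ge N55023 = N55023 := ded_34_2 (flp_d L739969) (flp_e L722779) L703530 L722779 L739969
theorem L739976 : sm gf N53410 = N55024 := rfl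
theorem L739978 : sm gc N55024 = N53412 := ded_29_1 (flp_f L722795) (flp_c L722781) L739976
theorem L739980 : sm gh N55024 = N53693 := ded_47_2 (flp_f L725747) (flp_h L722785) L739976
theorem L739982 : sm ge N55024 = N55024 := ded_40_1 (flp_f L739976) (flp_e L722779) L703525 L722779 L739976
theorem L739983 : sm gg N55024 = N54039 := ded_45_2 (flp_f L729258) L710397 L710454 (flp_g L722783) L739976
theorem L739985 : sm gi N53410 = N55025 := rfl
theorem L739987 : sm gc N55025 = N53413 := ded_33_1 (flp_i L722806) (flp_c L722781) L739985
theorem L739989 : sm ge N55025 = N53411 := ded_44_1 (flp_i L722787) L722779 L739985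
theorem L739991 : sm gg N55025 = N54050 := ded_51_1 (flp_i L729348) (flp_g L722783) L739985
theorem L739993 : sm gh N53411 = N55026 := rfl
theorem L739995 : sm gc N55026 = N53414 := ded_32_1 (flp_h L722816) (flp_c L722789) L739993
theorem L739997 : sm gf N55026 = N55026 := ded_47_1 (flp_h L739993) L722792 L739993
theorem L739998 : sm gg N55026 = N54085 := ded_50_1 (flp_h L729637) (flp_g L722793) L739993
theorem L740000 : sm gi N55026 = N53695 := ded_54_2 (flp_h L725760) (flp_i L706468) (flp_h L703528) L722787 L739993
theorem L740002 : sm gi N53412 = N55027 := rfl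
theorem L740004 : sm gb N55027 = N54373 := ded_26_1 (flp_i L731773) (flp_b L722797) L740002
theorem L740006 : sm gd N55027 = N53429 := ded_39_1 (flp_i L722970) (flp_d L722799) L740002
theorem L740008 : sm ge N55027 = N55027 := ded_44_1 (flp_i L740002) L722803 L740002
theorem L740009 : sm gf N55027 = N53413 := ded_48_1 (flp_i L722806) L722795 L740002
theorem L740011 : sm gg N55027 = N54042 := ded_51_1 (flp_i L729278) (flp_g L722804) L740002
theorem L740013 : sm gh N53413 = N55028 := rfl
theorem L740015 : sm gb N55028 = N54383 := ded_25_1 (flp_h L731847) (flp_b L722808) L740013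
theorem L740017 : sm ge N55028 = N53414 := ded_43_1 (flp_h L722816) (flp_e L722812) L740013
theorem L740019 : sm gg N55028 = N54053 := ded_50_1 (flp_h L729374) (flp_g L722814) L740013
theorem L740021 : sm gi N55028 = N53698 := ded_54_2 (flp_h L725785) (flp_i L706482) (flp_h L703537) L722806 L740013
theorem L740023 : sm gi N53415 = N55029 := rfl
theorem L740025 : sm gb N55029 = N54222 := ded_26_1 (flp_i L730668) (flp_b L722827) L740023
theorem L740027 : sm gd N55029 = N54075 := ded_39_1 (flp_i L729542) (flp_d L722835) L740023
theorem L740029 : sm ge N55029 = N53416 := ded_44_1 (flp_i L722837) L722825 L740023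
theorem L740031 : sm gg N55029 = N53420 := ded_51_1 (flp_i L722880) (flp_g L722829) L740023
theorem L740033 : sm gj N55029 = N53898 := ded_53_1 (flp_i L727799) (flp_j L722831) L740023
theorem L740035 : sm gh N53416 = N55030 := rfl
theorem L740037 : sm gb N55030 = N54232 := ded_25_1 L730742 (flp_b L722839) L740035
theorem L740039 : sm gf N55030 = N53911 := ded_47_1 (flp_h L727924) (flp_f L722843) L740035
theorem L740041 : sm gg N55030 = N53421 := ded_50_1 (flp_h L722886) (flp_g L722845) L740035
theorem L740043 : sm gj N55030 = N53907 := ded_52_1 (flp_h L727894) (flp_j L722847) L740035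
theorem L740045 : sm gd N55030 = N54228 := ded_38_1 (flp_h L730708) L712113 (flp_h L703575) (flp_d L722841) L740035
theorem L740047 : sm gi N55030 = N53449 := ded_54_2 (flp_h L723150) (flp_i L703815) (flp_h L703560) L722837 L740035
theorem L740049 : sm gd N53417 = N55031 := rfl
theorem L740051 : sm ga N55031 = N53753 := ded_12_1 L739221 L739207 L740049
theorem L740053 : sm gb N55031 = N54148 := ded_20_1 (flp_d L730165) (flp_b L722851) L740049
theorem L740055 : sm gf N55031 = N53644 := ded_35_2 (flp_d L739539) L739545 L740049
theorem L740057 : sm gg N55031 = N53637 := ded_36_2 L738425 L738417 L740049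
theorem L740059 : sm gj N55031 = N53424 := ded_37_2 (flp_d L722925) (flp_j L722855) L740049
theorem L740061 : sm ge N55031 = N55031 := ded_34_2 (flp_d L740049) (flp_e L722849) L703587 L722849 L740049
theorem L740062 : sm gi N53417 = N55032 := rfl
theorem L740064 : sm gb N55032 = N54149 := ded_26_1 (flp_i L730168) (flp_b L722851) L740062
theorem L740066 : sm gc N55032 = N53420 := ded_33_1 (flp_i L722880) (flp_c L722853) L740062
theorem L740068 : sm ge N55032 = N53418 := ded_44_1 (flp_i L722859) L722849 L740062
theorem L740070 : sm gj N55032 = N53426 := ded_53_1 (flp_i L722940) (flp_j L722855) L740062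
theorem L740072 : sm gh N53418 = N55033 := rfl
theorem L740074 : sm gb N55033 = N54150 := ded_25_1 (flp_h L730174) (flp_b L722861) L740072
theorem L740076 : sm gc N55033 = N53421 := ded_32_1 (flp_h L722886) (flp_c L722863) L740072
theorem L740078 : sm gf N55033 = N53431 := ded_47_1 (flp_h L722984) (flp_f L722866) L740072
theorem L740080 : sm gj N55033 = N53427 := ded_52_1 (flp_h L722948) (flp_j L722868) L740072
theorem L740082 : sm gi N55033 = N53453 := ded_54_2 (flp_h L723186) (flp_i L703831) (flp_h L703583) L722859 L740072
theorem L740084 : sm gi N53419 = N55034 := rfl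
theorem L740086 : sm gb N55034 = N54177 := ded_26_1 (flp_i L730354) (flp_b L722872) L740084
theorem L740088 : sm ge N55034 = N53432 := ded_44_1 (flp_i L722996) (flp_e L722878) L740084
theorem L740090 : sm gf N55034 = N53420 := ded_48_1 (flp_i L722880) L722870 L740084
theorem L740092 : sm gj N55034 = N53429 := ded_53_1 (flp_i L722970) (flp_j L722874) L740084
theorem L740094 : sm gh N53420 = N55035 := rfl
theorem L740096 : sm ge N55035 = N53421 := ded_43_1 (flp_h L722886) (flp_e L722882) L740094
theorem L740098 : sm gj N55035 = N53430 := ded_52_1 (flp_h L722976) (flp_j L722884) L740094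
theorem L740100 : sm gi N55035 = N53455 := ded_54_2 (flp_h L723208) (flp_i L703853) (flp_h L703592) L722880 L740094
theorem L740102 : sm gd N53422 = N55036 := rfl
theorem L740104 : sm ga N55036 = N54156 := ded_12_1 L730221 (flp_a L722896) L740102
theorem L740106 : sm gb N55036 = N53424 := ded_20_1 (flp_d L722925) (flp_b L722898) L740102
theorem L740108 : sm gf N55036 = N53547 := ded_35_2 L724162 (flp_f L722908) L740102
theorem L740110 : sm gg N55036 = N53565 := ded_36_2 L724366 (flp_g L722902) L740102
theorem L740112 : sm gj N55036 = N54148 := ded_37_2 (flp_d L730165) (flp_j L722904) L740102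
theorem L740114 : sm gc N55036 = N53549 := ded_27_1 L724179 L704961 (flp_d L708472) (flp_c L722900) L740102
theorem L740116 : sm ge N55036 = N55036 := ded_34_2 (flp_d L740102) (flp_e L722894) L703604 L722894 L740102
theorem L740117 : sm gi N53422 = N55037 := rfl
theorem L740119 : sm ga N55037 = N54159 := ded_18_1 (flp_i L730240) (flp_a L722896) L740117
theorem L740121 : sm gb N55037 = N53426 := ded_26_1 (flp_i L722940) (flp_b L722898) L740117
theorem L740123 : sm gc N55037 = N53878 := ded_33_1 (flp_i L727562) (flp_c L722900) L740117
theorem L740125 : sm ge N55037 = N53423 := ded_44_1 (flp_i L722910) L722894 L740117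
theorem L740127 : sm gf N55037 = N54139 := ded_48_1 (flp_i L730085) (flp_f L722908) L740117
theorem L740129 : sm gg N55037 = N54191 := ded_51_1 (flp_i L730462) (flp_g L722902) L740117
theorem L740131 : sm gj N55037 = N54149 := ded_53_1 (flp_i L730168) (flp_j L722904) L740117
theorem L740133 : sm gh N53423 = N55038 := rfl
theorem L740135 : sm ga N55038 = N54164 := ded_17_1 (flp_h L730276) (flp_a L722912) L740133
theorem L740137 : sm gb N55038 = N53427 := ded_25_1 (flp_h L722948) (flp_b L722914) L740133
theorem L740139 : sm gc N55038 = N53879 := ded_32_1 (flp_h L727576) (flp_c L722916) L740133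
theorem L740141 : sm gf N55038 = N53434 := ded_47_1 (flp_h L723017) (flp_f L722919) L740133
theorem L740143 : sm gg N55038 = N54192 := ded_50_1 (flp_h L730468) (flp_g L722921) L740133
theorem L740145 : sm gj N55038 = N54150 := ded_52_1 (flp_h L730174) (flp_j L722923) L740133
theorem L740147 : sm gi N55038 = N53461 := ded_54_2 (flp_h L723280) (flp_i L703891) (flp_h L703611) L722910 L740133
theorem L740149 : sm gh N53424 = N55039 := rfl
theorem L740151 : sm ge N55039 = N55039 := ded_43_1 (flp_h L740149) L722929 L740149
theorem L740152 : sm gg N55039 = N54193 := ded_50_1 (flp_h L730476) (flp_g L722927) L740149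
theorem L740154 : sm gd N55039 = N53463 := ded_38_1 (flp_h L723299) (flp_d L703905) (flp_h L703623) L722925 L740149
theorem L740156 : sm gi N53424 = N55040 := rfl
theorem L740158 : sm gd N55040 = N53426 := ded_39_1 (flp_i L722940) L722925 L740156
theorem L740160 : sm ge N55040 = N55040 := ded_44_1 (flp_i L740156) L722929 L740156
theorem L740161 : sm gg N55040 = N54194 := ded_51_1 (flp_i L730481) (flp_g L722927) L740156
theorem L740163 : sm gi N53425 = N55041 := rfl
theorem L740165 : sm gb N55041 = N54139 := ded_26_1 (flp_i L730085) (flp_b L722932) L740163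
theorem L740167 : sm gc N55041 = N53429 := ded_33_1 (flp_i L722970) (flp_c L722934) L740163
theorem L740169 : sm ge N55041 = N53435 := ded_44_1 (flp_i L723033) (flp_e L722938) L740163
theorem L740171 : sm gf N55041 = N53426 := ded_48_1 (flp_i L722940) L722930 L740163
theorem L740173 : sm gh N53426 = N55042 := rfl
theorem L740175 : sm gc N55042 = N53430 := ded_32_1 (flp_h L722976) (flp_c L722942) L740173
theorem L740177 : sm ge N55042 = N53427 := ded_43_1 (flp_h L722948) (flp_e L722944) L740173
theorem L740179 : sm gg N55042 = N54195 := ded_50_1 (flp_h L730486) (flp_g L722946) L740173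
theorem L740181 : sm gi N55042 = N53467 := ded_54_2 (flp_h L723333) (flp_i L703919) (flp_h L703623) L722940 L740173
theorem L740183 : sm gd N53427 = N55043 := rfl
theorem L740185 : sm gf N55043 = N53437 := ded_35_2 (flp_d L723055) (flp_f L722952) L740183
theorem L740187 : sm gg N55043 = N54196 := ded_36_2 (flp_d L730494) (flp_g L722954) L740183
theorem L740189 : sm gi N55043 = N53468 := ded_39_2 (flp_d L723341) (flp_i L722956) L740183
theorem L740191 : sm gh N55043 = N55043 := ded_38_2 (flp_d L740183) (flp_h L722948) L703629 L722948 L740183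
theorem L740192 : sm gi N53428 = N55044 := rfl
theorem L740194 : sm gb N55044 = N54203 := ded_26_1 (flp_i L730542) (flp_b L722960) L740192
theorem L740196 : sm gd N55044 = N54042 := ded_39_1 (flp_i L729278) (flp_d L722962) L740192
theorem L740198 : sm ge N55044 = N53438 := ded_44_1 (flp_i L723062) (flp_e L722964) L740192
theorem L740200 : sm gf N55044 = N53885 := ded_48_1 (flp_i L727648) (flp_f L722968) L740192
theorem L740202 : sm gg N55044 = N53429 := ded_51_1 (flp_i L722970) L722958 L740192
theorem L740204 : sm gh N53429 = N55045 := rfl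
theorem L740206 : sm ge N55045 = N53439 := ded_43_1 (flp_h L723069) (flp_e L722972) L740204
theorem L740208 : sm gf N55045 = N53430 := ded_47_1 (flp_h L722976) (flp_f L722974) L740204
theorem L740210 : sm gi N55045 = N53471 := ded_54_2 (flp_h L723367) (flp_i L703943) (flp_h L703636) L722970 L740204
theorem L740212 : sm gd N53430 = N55046 := rfl
theorem L740214 : sm gg N55046 = N54197 := ded_36_2 (flp_d L730501) (flp_g L722980) L740212
theorem L740216 : sm gi N55046 = N53472 := ded_39_2 (flp_d L723373) (flp_i L722982) L740212
theorem L740218 : sm gd N53431 = N55047 := rfl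
theorem L740220 : sm gb N55047 = N54152 := ded_20_1 (flp_d L730188) (flp_b L722986) L740218
theorem L740222 : sm gg N55047 = N54153 := ded_36_2 (flp_d L730197) (flp_g L722990) L740218
theorem L740224 : sm gj N55047 = N53437 := ded_37_2 (flp_d L723055) (flp_j L722992) L740218
theorem L740226 : sm gi N55047 = N53475 := ded_39_2 (flp_d L723402) (flp_i L722994) L740218
theorem L740228 : sm gh N55047 = N55047 := ded_38_2 (flp_d L740218) (flp_h L722984) L703660 L722984 L740218
theorem L740229 : sm gh N53432 = N55048 := rfl
theorem L740231 : sm gb N55048 = N54178 := ded_25_1 (flp_h L730362) (flp_b L722998) L740229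
theorem L740233 : sm gf N55048 = N53433 := ded_47_1 (flp_h L723005) (flp_f L723001) L740229
theorem L740235 : sm gj N55048 = N53439 := ded_52_1 (flp_h L723069) (flp_j L723003) L740229
theorem L740237 : sm gi N55048 = N53476 := ded_54_2 (flp_h L723412) (flp_i L703989) (flp_h L703672) L722996 L740229
theorem L740239 : sm gd N53433 = N55049 := rfl
theorem L740241 : sm gb N55049 = N54180 := ded_20_1 (flp_d L730380) (flp_b L723007) L740239
theorem L740243 : sm gg N55049 = N54181 := ded_36_2 (flp_d L730389) (flp_g L723011) L740239
theorem L740245 : sm gj N55049 = N53440 := ded_37_2 (flp_d L723075) (flp_j L723013) L740239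
theorem L740247 : sm gi N55049 = N53477 := ded_39_2 (flp_d L723420) (flp_i L723015) L740239
theorem L740249 : sm gh N55049 = N55049 := ded_38_2 (flp_d L740239) (flp_h L723005) L703678 L723005 L740239
theorem L740250 : sm gd N53434 = N55050 := rfl
theorem L740252 : sm ga N55050 = N54165 := ded_12_1 (flp_d L730282) (flp_a L723019) L740250
theorem L740254 : sm gb N55050 = N53437 := ded_20_1 (flp_d L723055) (flp_b L723021) L740250
theorem L740256 : sm gg N55050 = N53441 := ded_36_2 (flp_d L723082) (flp_g L723027) L740250
theorem L740258 : sm gj N55050 = N54152 := ded_37_2 (flp_d L730188) (flp_j L723029) L740250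
theorem L740260 : sm gi N55050 = N53481 := ded_39_2 (flp_d L723473) (flp_i L723031) L740250
theorem L740262 : sm gc N55050 = N53906 := ded_27_1 (flp_d L727885) L708830 (flp_d L708500) (flp_c L723023) L740250
theorem L740264 : sm gh N55050 = N55050 := ded_38_2 (flp_d L740250) (flp_h L723017) L703699 L723017 L740250
theorem L740265 : sm gh N53435 = N55051 := rfl
theorem L740267 : sm gb N55051 = N54140 := ded_25_1 (flp_h L730093) (flp_b L723035) L740265
theorem L740269 : sm gc N55051 = N53439 := ded_32_1 (flp_h L723069) (flp_c L723037) L740265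
theorem L740271 : sm gf N55051 = N53436 := ded_47_1 (flp_h L723043) (flp_f L723041) L740265
theorem L740273 : sm gi N55051 = N53483 := ded_54_2 (flp_h L723494) (flp_i L704068) (flp_h L703714) L723033 L740265
theorem L740275 : sm gd N53436 = N55052 := rfl
theorem L740277 : sm ga N55052 = N54234 := ded_12_1 (flp_d L739416) L739404 L740275
theorem L740279 : sm gb N55052 = N54142 := ded_20_1 (flp_d L730107) (flp_b L723045) L740275
theorem L740281 : sm gg N55052 = N53442 := ded_36_2 (flp_d L723095) (flp_g L723051) L740275
theorem L740283 : sm gi N55052 = N53484 := ded_39_2 (flp_d L723500) (flp_i L723053) L740275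
theorem L740285 : sm gh N55052 = N54146 := ded_38_2 (flp_d L730146) (flp_h L711451) (flp_d L703722) L723043 L740275
theorem L740287 : sm ge N53437 = N55053 := rfl
theorem L740289 : sm gg N55053 = N53443 := ded_41_2 (flp_e L723107) (flp_g L723057) L740287
theorem L740291 : sm gh N55053 = N55053 := ded_43_2 (flp_e L740287) L723061 L740287
theorem L740292 : sm gi N55053 = N53485 := ded_44_2 (flp_e L723505) (flp_i L723059) L740287
theorem L740294 : sm gh N53438 = N55054 := rfl
theorem L740296 : sm gf N55054 = N53444 := ded_47_1 (flp_h L723112) (flp_f L723065) L740294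
theorem L740298 : sm gg N55054 = N53439 := ded_50_1 (flp_h L723069) (flp_g L723067) L740294
theorem L740300 : sm gi N55054 = N53487 := ded_54_2 (flp_h L723519) (flp_i L704095) (flp_h L703739) L723062 L740294
theorem L740302 : sm gd N53439 = N55055 := rfl
theorem L740304 : sm gf N55055 = N53440 := ded_35_2 (flp_d L723075) (flp_f L723071) L740302
theorem L740306 : sm gi N55055 = N53488 := ded_39_2 (flp_d L723525) (flp_i L723073) L740302
theorem L740308 : sm gh N55055 = N55055 := ded_38_2 (flp_d L740302) (flp_h L723069) L703745 L723069 L740302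
theorem L740309 : sm gc N53440 = N55056 := rfl
theorem L740311 : sm gg N55056 = N53446 := ded_30_2 (flp_c L723129) (flp_g L723077) L740309
theorem L740313 : sm gh N55056 = N55056 := ded_32_2 (flp_c L740309) L723081 L740309
theorem L740314 : sm gi N55056 = N53489 := ded_33_2 (flp_c L723531) (flp_i L723079) L740309
theorem L740316 : sm ge N53441 = N55057 := rfl
theorem L740318 : sm ga N55057 = N54168 := ded_13_1 (flp_e L730300) (flp_a L723084) L740316
theorem L740320 : sm gb N55057 = N53443 := ded_21_1 (flp_e L723107) (flp_b L723086) L740316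
theorem L740322 : sm gc N55057 = N53445 := ded_28_1 L723126 (flp_c L723092) L740316
theorem L740324 : sm gh N55057 = N55057 := ded_43_2 (flp_e L740316) L723094 L740316
theorem L740325 : sm gi N55057 = N53491 := ded_44_2 (flp_e L723548) (flp_i L723090) L740316
theorem L740327 : sm gd N55057 = N54143 := ded_34_1 (flp_e L730117) (flp_d L711427) (flp_e L703764) L723082 L740316
theorem L740329 : sm gf N55057 = N53446 := ded_40_2 (flp_e L738619) L738621 (flp_e L730521) (flp_f L723088) L740316
theorem L740331 : sm gd N53444 = N55058 := rfl
theorem L740333 : sm gg N55058 = N53445 := ded_36_2 (flp_d L723120) (flp_g L723116) L740331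
theorem L740335 : sm gj N55058 = N54199 := ded_37_2 L733033 L733029 L740331
theorem L740337 : sm gi N55058 = N53498 := ded_39_2 (flp_d L723605) (flp_i L723118) L740331
theorem L740339 : sm ge N55058 = N53906 := ded_34_2 (flp_d L727885) L708832 L708840 (flp_e L723114) L740331
theorem L740341 : sm gh N55058 = N55058 := ded_38_2 (flp_d L740331) (flp_h L723112) L703789 L723112 L740331
theorem L740342 : sm gi N53447 = N55059 := rfl
theorem L740344 : sm gd N55059 = N53754 := ded_39_1 (flp_i L726375) (flp_d L723136) L740342
theorem L740346 : sm gf N55059 = N53448 := ded_48_1 (flp_i L723140) L723134 L740342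
theorem L740348 : sm gj N55059 = N54203 := ded_53_1 (flp_i L730542) (flp_j L723138) L740342
theorem L740350 : sm gh N53448 = N55060 := rfl
theorem L740352 : sm ge N55060 = N53449 := ded_43_1 (flp_h L723150) (flp_e L723144) L740350
theorem L740354 : sm gg N55060 = N53455 := ded_50_1 (flp_h L723208) (flp_g L723146) L740350
theorem L740356 : sm gj N55060 = N54204 := ded_52_1 (flp_h L730548) (flp_j L723148) L740350
theorem L740358 : sm gf N53450 = N55061 := rfl
theorem L740360 : sm gb N55061 = N54156 := ded_22_1 (flp_f L730217) (flp_b L723158) L740358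
theorem L740362 : sm gc N55061 = N53762 := ded_29_1 (flp_f L726460) (flp_c L723162) L740358
theorem L740364 : sm gd N55061 = N53451 := ded_35_1 (flp_f L723166) L723156 L740358
theorem L740366 : sm gj N55061 = N53462 := ded_46_2 (flp_f L723292) (flp_j L723160) L740358
theorem L740368 : sm ge N55061 = N55061 := ded_40_1 (flp_f L740358) L723164 L704281 (flp_e L723164) L740358
theorem L740369 : sm gh N53450 = N55062 := rfl
theorem L740371 : sm ga N55062 = N54341 := ded_17_1 (flp_h L736328) L736318 L740369
theorem L740373 : sm gb N55062 = N54157 := ded_25_1 (flp_h L730224) (flp_b L723158) L740369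
theorem L740375 : sm gc N55062 = N53763 := ded_32_1 (flp_h L726467) (flp_c L723162) L740369
theorem L740377 : sm ge N55062 = N53505 := ded_43_1 (flp_h L723664) (flp_e L723164) L740369
theorem L740379 : sm gg N55062 = N54265 := ded_50_1 (flp_h L735343) L735345 L740369
theorem L740381 : sm gj N55062 = N53463 := ded_52_1 (flp_h L723299) (flp_j L723160) L740369
theorem L740383 : sm gi N53450 = N55063 := rfl
theorem L740385 : sm gb N55063 = N54158 := ded_26_1 (flp_i L730232) (flp_b L723158) L740383
theorem L740387 : sm gc N55063 = N53764 := ded_33_1 (flp_i L726481) (flp_c L723162) L740383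
theorem L740389 : sm gd N55063 = N53452 := ded_39_1 (flp_i L723176) L723156 L740383
theorem L740391 : sm ge N55063 = N53506 := ded_44_1 (flp_i L723678) (flp_e L723164) L740383
theorem L740393 : sm gj N55063 = N53464 := ded_53_1 (flp_i L723307) (flp_j L723160) L740383
theorem L740395 : sm gi N53451 = N55064 := rfl
theorem L740397 : sm gb N55064 = N54159 := ded_26_1 (flp_i L730240) (flp_b L723168) L740395
theorem L740399 : sm gc N55064 = N53454 := ded_33_1 (flp_i L723196) (flp_c L723170) L740395
theorem L740401 : sm ge N55064 = N53473 := ded_44_1 (flp_i L723379) (flp_e L723174) L740395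
theorem L740403 : sm gf N55064 = N53452 := ded_48_1 (flp_i L723176) L723166 L740395
theorem L740405 : sm gj N55064 = N53466 := ded_53_1 (flp_i L723325) (flp_j L723172) L740395
theorem L740407 : sm gh N53452 = N55065 := rfl
theorem L740409 : sm gb N55065 = N54160 := ded_25_1 (flp_h L730248) (flp_b L723178) L740407
theorem L740411 : sm gc N55065 = N53455 := ded_32_1 (flp_h L723208) (flp_c L723180) L740407
theorem L740413 : sm ge N55065 = N53453 := ded_43_1 (flp_h L723186) (flp_e L723182) L740407
theorem L740415 : sm gj N55065 = N53467 := ded_52_1 (flp_h L723333) (flp_j L723184) L740407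
theorem L740417 : sm gd N53453 = N55066 := rfl
theorem L740419 : sm gb N55066 = N54161 := ded_20_1 (flp_d L730254) (flp_b L723188) L740417
theorem L740421 : sm gf N55066 = N53475 := ded_35_2 (flp_d L723402) (flp_f L723192) L740417
theorem L740423 : sm gj N55066 = N53468 := ded_37_2 (flp_d L723341) (flp_j L723194) L740417
theorem L740425 : sm gh N55066 = N53508 := ded_38_2 (flp_d L723701) (flp_h L704297) (flp_d L703837) L723186 L740417
theorem L740427 : sm gh N53454 = N55067 := rfl
theorem L740429 : sm gb N55067 = N54185 := ded_25_1 (flp_h L730420) (flp_b L723198) L740427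
theorem L740431 : sm ge N55067 = N53476 := ded_43_1 (flp_h L723412) (flp_e L723202) L740427
theorem L740433 : sm gf N55067 = N53455 := ded_47_1 (flp_h L723208) (flp_f L723204) L740427
theorem L740435 : sm gj N55067 = N53471 := ded_52_1 (flp_h L723367) (flp_j L723206) L740427
theorem L740437 : sm gd N53455 = N55068 := rfl
theorem L740439 : sm gj N55068 = N53472 := ded_37_2 (flp_d L723373) (flp_j L723212) L740437
theorem L740441 : sm gh N55068 = N53772 := ded_38_2 (flp_d L726547) (flp_h L707024) (flp_d L703855) L723208 L740437
theorem L740443 : sm gd N53456 = N55069 := rfl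
theorem L740445 : sm ga N55069 = N53458 := ded_12_1 (flp_d L723242) (flp_a L723216) L740443
theorem L740447 : sm gb N55069 = N53644 := ded_20_1 (flp_d L739539) L739535 L740443
theorem L740449 : sm gf N55069 = N54148 := ded_35_2 (flp_d L730165) (flp_f L723226) L740443
theorem L740451 : sm gg N55069 = N53577 := ded_36_2 L724518 (flp_g L723220) L740443
theorem L740453 : sm gj N55069 = N53547 := ded_37_2 L724162 (flp_j L723222) L740443
theorem L740455 : sm gc N55069 = N53545 := ded_27_1 L724143 L704939 (flp_d L711355) (flp_c L723218) L740443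
theorem L740457 : sm ge N55069 = N53509 := ded_34_2 (flp_d L723710) (flp_e L704318) (flp_d L703871) L723214 L740443
theorem L740459 : sm gi N53456 = N55070 := rfl
theorem L740461 : sm ga N55070 = N53460 := ded_18_1 (flp_i L723268) (flp_a L723216) L740459
theorem L740463 : sm gc N55070 = N54137 := ded_33_1 (flp_i L730057) (flp_c L723218) L740459
theorem L740465 : sm ge N55070 = N53457 := ded_44_1 (flp_i L723228) L723214 L740459
theorem L740467 : sm gf N55070 = N54149 := ded_48_1 (flp_i L730168) (flp_f L723226) L740459
theorem L740469 : sm gg N55070 = N54210 := ded_51_1 (flp_i L730592) (flp_g L723220) L740459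
theorem L740471 : sm gj N55070 = N54139 := ded_53_1 (flp_i L730085) (flp_j L723222) L740459
theorem L740473 : sm gh N53457 = N55071 := rfl
theorem L740475 : sm ga N55071 = N53461 := ded_17_1 (flp_h L723280) (flp_a L723230) L740473
theorem L740477 : sm gc N55071 = N54138 := ded_32_1 (flp_h L730071) (flp_c L723232) L740473
theorem L740479 : sm gf N55071 = N53478 := ded_47_1 (flp_h L723430) (flp_f L723236) L740473
theorem L740481 : sm gg N55071 = N54211 := ded_50_1 (flp_h L730598) (flp_g L723238) L740473
theorem L740483 : sm gj N55071 = N54140 := ded_52_1 (flp_h L730093) (flp_j L723240) L740473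
theorem L740485 : sm gi N55071 = N54164 := ded_54_2 (flp_h L730276) (flp_i L711588) (flp_h L703879) L723228 L740473
theorem L740487 : sm gf N53458 = N55072 := rfl
theorem L740489 : sm ga N55072 = N54148 := ded_14_1 (flp_f L740449) L740445 L740487
theorem L740491 : sm gb N55072 = N53462 := ded_22_1 (flp_f L723292) (flp_b L723244) L740487
theorem L740493 : sm gc N55072 = N54268 := ded_29_1 (flp_f L730983) (flp_c L723250) L740487
theorem L740495 : sm gd N55072 = N53459 := ded_35_1 (flp_f L723254) L723242 L740487
theorem L740497 : sm gj N55072 = N54156 := ded_46_2 (flp_f L730217) (flp_j L723248) L740487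
theorem L740499 : sm ge N55072 = N55072 := ded_40_1 (flp_f L740487) L723252 L704348 (flp_e L723252) L740487
theorem L740500 : sm gh N53458 = N55073 := rfl
theorem L740502 : sm gb N55073 = N53463 := ded_25_1 (flp_h L723299) (flp_b L723244) L740500
theorem L740504 : sm gc N55073 = N53603 := ded_32_1 L724794 (flp_c L723250) L740500
theorem L740506 : sm ge N55073 = N53512 := ded_43_1 (flp_h L723751) (flp_e L723252) L740500
theorem L740508 : sm gg N55073 = N53605 := ded_50_1 L724815 (flp_g L723246) L740500
theorem L740510 : sm gj N55073 = N54157 := ded_52_1 (flp_h L730224) (flp_j L723248) L740500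
theorem L740512 : sm gi N53458 = N55074 := rfl
theorem L740514 : sm gb N55074 = N53464 := ded_26_1 (flp_i L723307) (flp_b L723244) L740512
theorem L740516 : sm gc N55074 = N54269 := ded_33_1 (flp_i L730990) (flp_c L723250) L740512
theorem L740518 : sm gd N55074 = N53460 := ded_39_1 (flp_i L723268) L723242 L740512
theorem L740520 : sm ge N55074 = N53513 := ded_44_1 (flp_i L723763) (flp_e L723252) L740512
theorem L740522 : sm gg N55074 = N54212 := ded_51_1 (flp_i L730604) (flp_g L723246) L740512
theorem L740524 : sm gj N55074 = N54158 := ded_53_1 (flp_i L730232) (flp_j L723248) L740512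
theorem L740526 : sm gi N53459 = N55075 := rfl
theorem L740528 : sm ga N55075 = N54149 := ded_18_1 (flp_i L730168) (flp_a L723256) L740526
theorem L740530 : sm gb N55075 = N53466 := ded_26_1 (flp_i L723325) (flp_b L723258) L740526
theorem L740532 : sm gc N55075 = N54135 := ded_33_1 (flp_i L730029) (flp_c L723260) L740526
theorem L740534 : sm ge N55075 = N53479 := ded_44_1 (flp_i L723444) (flp_e L723266) L740526
theorem L740536 : sm gf N55075 = N53460 := ded_48_1 (flp_i L723268) L723254 L740526
theorem L740538 : sm gj N55075 = N54159 := ded_53_1 (flp_i L730240) (flp_j L723262) L740526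
theorem L740540 : sm gh N53460 = N55076 := rfl
theorem L740542 : sm gb N55076 = N53467 := ded_25_1 (flp_h L723333) (flp_b L723270) L740540
theorem L740544 : sm gc N55076 = N54155 := ded_32_1 (flp_h L730211) (flp_c L723272) L740540
theorem L740546 : sm ge N55076 = N53461 := ded_43_1 (flp_h L723280) (flp_e L723274) L740540
theorem L740548 : sm gg N55076 = N54214 := ded_50_1 (flp_h L730620) (flp_g L723276) L740540
theorem L740550 : sm gj N55076 = N54160 := ded_52_1 (flp_h L730248) (flp_j L723278) L740540
theorem L740552 : sm gd N53461 = N55077 := rfl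
theorem L740554 : sm gb N55077 = N53468 := ded_20_1 (flp_d L723341) (flp_b L723282) L740552
theorem L740556 : sm gf N55077 = N53481 := ded_35_2 (flp_d L723473) (flp_f L723286) L740552
theorem L740558 : sm gg N55077 = N54215 := ded_36_2 (flp_d L730626) (flp_g L723288) L740552
theorem L740560 : sm gj N55077 = N54161 := ded_37_2 (flp_d L730254) (flp_j L723290) L740552
theorem L740562 : sm gc N55077 = N54208 := ded_27_1 (flp_d L730578) L711979 (flp_d L711548) (flp_c L723284) L740552
theorem L740564 : sm gh N55077 = N53515 := ded_38_2 (flp_d L723790) (flp_h L704368) (flp_d L703897) L723280 L740552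
theorem L740566 : sm gh N53462 = N55078 := rfl
theorem L740568 : sm gc N55078 = N53782 := ded_32_1 (flp_h L726633) (flp_c L723294) L740566
theorem L740570 : sm ge N55078 = N55078 := ded_43_1 (flp_h L740566) L723298 L740566
theorem L740571 : sm gf N55078 = N53463 := ded_47_1 (flp_h L723299) L723292 L740566
theorem L740573 : sm gi N53462 = N55079 := rfl
theorem L740575 : sm gc N55079 = N53783 := ded_33_1 (flp_i L726638) (flp_c L723294) L740573
theorem L740577 : sm gd N55079 = N53466 := ded_39_1 (flp_i L723325) (flp_d L723296) L740573
theorem L740579 : sm ge N55079 = N55079 := ded_44_1 (flp_i L740573) L723298 L740573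
theorem L740580 : sm gf N55079 = N53464 := ded_48_1 (flp_i L723307) L723292 L740573
theorem L740582 : sm gi N53463 = N55080 := rfl
theorem L740584 : sm gc N55080 = N53784 := ded_33_1 (flp_i L726645) (flp_c L723301) L740582
theorem L740586 : sm ge N55080 = N53516 := ded_44_1 (flp_i L723803) (flp_e L723303) L740582
theorem L740588 : sm gg N55080 = N54216 := ded_51_1 (flp_i L730634) (flp_g L723305) L740582
theorem L740590 : sm gh N53464 = N55081 := rfl
theorem L740592 : sm gc N55081 = N53785 := ded_32_1 (flp_h L726651) (flp_c L723309) L740590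
theorem L740594 : sm ge N55081 = N53517 := ded_43_1 (flp_h L723811) (flp_e L723313) L740590
theorem L740596 : sm gg N55081 = N54217 := ded_50_1 (flp_h L730640) (flp_g L723315) L740590
theorem L740598 : sm gi N53465 = N55082 := rfl
theorem L740600 : sm gc N55082 = N53470 := ded_33_1 (flp_i L723357) (flp_c L723319) L740598
theorem L740602 : sm ge N55082 = N53482 := ded_44_1 (flp_i L723485) (flp_e L723321) L740598
theorem L740604 : sm gf N55082 = N54218 := ded_48_1 (flp_i L730646) (flp_f L723323) L740598
theorem L740606 : sm gg N55082 = N53466 := ded_51_1 (flp_i L723325) L723317 L740598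
theorem L740608 : sm gh N53466 = N55083 := rfl
theorem L740610 : sm gc N55083 = N53471 := ded_32_1 (flp_h L723367) (flp_c L723327) L740608
theorem L740612 : sm ge N55083 = N53483 := ded_43_1 (flp_h L723494) (flp_e L723329) L740608
theorem L740614 : sm gf N55083 = N53467 := ded_47_1 (flp_h L723333) (flp_f L723331) L740608
theorem L740616 : sm gd N53467 = N55084 := rfl
theorem L740618 : sm gg N55084 = N54220 := ded_36_2 (flp_d L730662) (flp_g L723339) L740616
theorem L740620 : sm ge N53468 = N55085 := rfl
theorem L740622 : sm gg N55085 = N54221 := ded_41_2 (flp_e L730664) (flp_g L723345) L740620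
theorem L740624 : sm gh N55085 = N53519 := ded_43_2 (flp_e L723824) (flp_h L723347) L740620
theorem L740626 : sm gi N53469 = N55086 := rfl
theorem L740628 : sm gd N55086 = N53791 := ded_39_1 (flp_i L726699) (flp_d L723351) L740626
theorem L740630 : sm ge N55086 = N53486 := ded_44_1 (flp_i L723511) (flp_e L723353) L740626
theorem L740632 : sm gf N55086 = N54222 := ded_48_1 (flp_i L730668) (flp_f L723355) L740626
theorem L740634 : sm gj N55086 = N53470 := ded_53_1 (flp_i L723357) L723349 L740626
theorem L740636 : sm gh N53470 = N55087 := rfl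
theorem L740638 : sm ge N55087 = N53487 := ded_43_1 (flp_h L723519) (flp_e L723361) L740636
theorem L740640 : sm gf N55087 = N54223 := ded_47_1 (flp_h L730676) (flp_f L723363) L740636
theorem L740642 : sm gg N55087 = N53471 := ded_50_1 (flp_h L723367) (flp_g L723365) L740636
theorem L740644 : sm gd N53471 = N55088 := rfl
theorem L740646 : sm gf N55088 = N53472 := ded_35_2 (flp_d L723373) (flp_f L723371) L740644
theorem L740648 : sm gh N55088 = N53793 := ded_38_2 (flp_d L726715) (flp_h L707147) (flp_d L703945) L723367 L740644
theorem L740650 : sm gc N53472 = N55089 := rfl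
theorem L740652 : sm gg N55089 = N54225 := ded_30_2 (flp_c L730688) (flp_g L723375) L740650
theorem L740654 : sm gh N55089 = N53794 := ded_32_2 (flp_c L726719) (flp_h L723377) L740650
theorem L740656 : sm gh N53473 = N55090 := rfl
theorem L740658 : sm gb N55090 = N54164 := ded_25_1 (flp_h L730276) (flp_b L723381) L740656
theorem L740660 : sm gc N55090 = N53476 := ded_32_1 (flp_h L723412) (flp_c L723383) L740656
theorem L740662 : sm gf N55090 = N53474 := ded_47_1 (flp_h L723390) (flp_f L723386) L740656
theorem L740664 : sm gj N55090 = N53483 := ded_52_1 (flp_h L723494) (flp_j L723388) L740656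
theorem L740666 : sm gd N53474 = N55091 := rfl
theorem L740668 : sm gb N55091 = N54165 := ded_20_1 (flp_d L730282) (flp_b L723392) L740666
theorem L740670 : sm gg N55091 = N54167 := ded_36_2 (flp_d L730295) (flp_g L723398) L740666
theorem L740672 : sm gj N55091 = N53484 := ded_37_2 (flp_d L723500) (flp_j L723400) L740666
theorem L740674 : sm gh N55091 = N55091 := ded_38_2 (flp_d L740666) (flp_h L723390) L703972 L723390 L740666
theorem L740675 : sm gd N53476 = N55092 := rfl
theorem L740677 : sm gb N55092 = N54186 := ded_20_1 (flp_d L730428) (flp_b L723414) L740675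
theorem L740679 : sm gf N55092 = N53477 := ded_35_2 (flp_d L723420) (flp_f L723416) L740675
theorem L740681 : sm gj N55092 = N53488 := ded_37_2 (flp_d L723525) (flp_j L723418) L740675
theorem L740683 : sm gh N55092 = N53499 := ded_38_2 (flp_d L723615) (flp_h L704195) (flp_d L703993) L723412 L740675
theorem L740685 : sm gh N53479 = N55093 := rfl
theorem L740687 : sm ga N55093 = N54150 := ded_17_1 (flp_h L730174) (flp_a L723446) L740685
theorem L740689 : sm gb N55093 = N53483 := ded_25_1 (flp_h L723494) (flp_b L723448) L740685
theorem L740691 : sm gc N55093 = N54136 := ded_32_1 (flp_h L730043) (flp_c L723450) L740685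
theorem L740693 : sm gf N55093 = N53480 := ded_47_1 (flp_h L723457) (flp_f L723453) L740685
theorem L740695 : sm gj N55093 = N54164 := ded_52_1 (flp_h L730276) (flp_j L723455) L740685
theorem L740697 : sm gi N55093 = N54140 := ded_54_2 (flp_h L730093) (flp_i L711377) (flp_h L704034) L723444 L740685
theorem L740699 : sm gd N53480 = N55094 := rfl
theorem L740701 : sm ga N55094 = N54152 := ded_12_1 (flp_d L730188) (flp_a L723459) L740699
theorem L740703 : sm gb N55094 = N53484 := ded_20_1 (flp_d L723500) (flp_b L723461) L740699
theorem L740705 : sm gg N55094 = N53490 := ded_36_2 (flp_d L723537) (flp_g L723467) L740699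
theorem L740707 : sm gj N55094 = N54165 := ded_37_2 (flp_d L730282) (flp_j L723469) L740699
theorem L740709 : sm gi N55094 = N54142 := ded_39_2 (flp_d L730107) (flp_i L723471) L740699
theorem L740711 : sm gc N55094 = N54180 := ded_27_1 (flp_d L730380) L711723 (flp_d L711341) (flp_c L723463) L740699
theorem L740713 : sm gh N55094 = N55094 := ded_38_2 (flp_d L740699) (flp_h L723457) L704044 L723457 L740699
theorem L740714 : sm ge N53481 = N55095 := rfl
theorem L740716 : sm gb N55095 = N53485 := ded_21_1 (flp_e L723505) (flp_b L723475) L740714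
theorem L740718 : sm gc N55095 = N53498 := ded_28_1 L723611 (flp_c L723481) L740714
theorem L740720 : sm gg N55095 = N53491 := ded_41_2 (flp_e L723548) (flp_g L723477) L740714
theorem L740722 : sm gj N55095 = N54166 := ded_42_2 (flp_e L730287) (flp_j L723479) L740714
theorem L740724 : sm gh N55095 = N53504 := ded_43_2 L723654 (flp_h L723483) L740714
theorem L740726 : sm gh N53482 = N55096 := rfl
theorem L740728 : sm gc N55096 = N53487 := ded_32_1 (flp_h L723519) (flp_c L723487) L740726
theorem L740730 : sm gf N55096 = N53492 := ded_47_1 (flp_h L723558) (flp_f L723490) L740726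
theorem L740732 : sm gg N55096 = N53483 := ded_50_1 (flp_h L723494) (flp_g L723492) L740726
theorem L740734 : sm gd N53483 = N55097 := rfl
theorem L740736 : sm gf N55097 = N53484 := ded_35_2 (flp_d L723500) (flp_f L723498) L740734
theorem L740738 : sm gh N55097 = N55097 := ded_38_2 (flp_d L740734) (flp_h L723494) L704072 L723494 L740734
theorem L740739 : sm gc N53484 = N55098 := rfl
theorem L740741 : sm gg N55098 = N53494 := ded_30_2 (flp_c L723577) (flp_g L723502) L740739
theorem L740743 : sm gh N55098 = N55098 := ded_32_2 (flp_c L740739) L723504 L740739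
theorem L740744 : sm gd N55098 = N53489 := ded_27_2 (flp_c L723531) (flp_d L704107) (flp_c L704077) L723500 L740739
theorem L740746 : sm ge N53484 = N55099 := rfl
theorem L740748 : sm gg N55099 = N53495 := ded_41_2 (flp_e L723582) (flp_g L723502) L740746
theorem L740750 : sm gh N55099 = N55099 := ded_43_2 (flp_e L740746) L723504 L740746
theorem L740751 : sm gd N55099 = N53485 := ded_34_1 (flp_e L723505) (flp_d L704083) (flp_e L704079) L723500 L740746
theorem L740753 : sm gf N53485 = N55100 := rfl
theorem L740755 : sm gh N55100 = N53521 := ded_47_2 (flp_f L723843) (flp_h L723509) L740753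
theorem L740757 : sm gh N53486 = N55101 := rfl
theorem L740759 : sm gf N55101 = N53497 := ded_47_1 (flp_h L723595) (flp_f L723515) L740757
theorem L740761 : sm gj N55101 = N53487 := ded_52_1 (flp_h L723519) (flp_j L723517) L740757
theorem L740763 : sm gd N55101 = N54233 := ded_38_1 L730746 L712342 L704225 (flp_d L723513) L740757
theorem L740765 : sm gd N53487 = N55102 := rfl
theorem L740767 : sm gf N55102 = N53498 := ded_35_2 (flp_d L723605) (flp_f L723521) L740765
theorem L740769 : sm gg N55102 = N53488 := ded_36_2 (flp_d L723525) (flp_g L723523) L740765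
theorem L740771 : sm gj N55102 = N54233 := ded_37_2 (flp_d L740763) L740761 L740765
theorem L740773 : sm gh N55102 = N53500 := ded_38_2 (flp_d L723624) (flp_h L704227) (flp_d L704097) L723519 L740765
theorem L740775 : sm gc N53488 = N55103 := rfl
theorem L740777 : sm gf N55103 = N53489 := ded_29_2 (flp_c L723531) (flp_f L723527) L740775
theorem L740779 : sm gh N55103 = N53501 := ded_32_2 (flp_c L723633) (flp_h L723529) L740775
theorem L740781 : sm ge N53488 = N55104 := rfl
theorem L740783 : sm gh N55104 = N53502 := ded_43_2 (flp_e L723639) (flp_h L723529) L740781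
theorem L740785 : sm gb N53489 = N55105 := rfl
theorem L740787 : sm ge N55105 = N54234 := ded_21_2 L738820 L738810 L740785
theorem L740789 : sm gg N55105 = N53496 := ded_23_2 L723589 (flp_g L723533) L740785
theorem L740791 : sm gh N55105 = N53503 := ded_25_2 (flp_b L723644) (flp_h L723535) L740785
theorem L740793 : sm ge N53490 = N55106 := rfl
theorem L740795 : sm ga N55106 = N54154 := ded_13_1 (flp_e L730204) (flp_a L723539) L740793
theorem L740797 : sm gb N55106 = N53495 := ded_21_1 (flp_e L723582) (flp_b L723541) L740793
theorem L740799 : sm gc N55106 = N53493 := ded_28_1 L723574 (flp_c L723545) L740793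
theorem L740801 : sm gh N55106 = N55106 := ded_43_2 (flp_e L740793) L723547 L740793
theorem L740802 : sm gi N55106 = N54143 := ded_44_2 (flp_e L730117) (flp_i L723543) L740793
theorem L740804 : sm gd N55106 = N53491 := ded_34_1 (flp_e L723548) (flp_d L704137) (flp_e L704133) L723537 L740793
theorem L740806 : sm gf N55106 = N53494 := ded_40_2 (flp_e L739458) L739452 (flp_e L738119) L738113 L740793
theorem L740808 : sm gd N53492 = N55107 := rfl
theorem L740810 : sm ga N55107 = N54199 := ded_12_1 L733033 L733021 L740808
theorem L740812 : sm gg N55107 = N53493 := ded_36_2 (flp_d L723566) (flp_g L723564) L740808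
theorem L740814 : sm gi N55107 = N54188 := ded_39_2 (flp_d L732936) L732938 L740808
theorem L740816 : sm ge N55107 = N54180 := ded_34_2 (flp_d L730380) (flp_e L715671) L715677 (flp_e L723562) L740808
theorem L740818 : sm gh N55107 = N55107 := ded_38_2 (flp_d L740808) (flp_h L723558) L704149 L723558 L740808
theorem L740819 : sm ge N53499 = N55108 := rfl
theorem L740821 : sm gb N55108 = N54189 := ded_21_1 (flp_e L730450) (flp_b L723617) L740819
theorem L740823 : sm gj N55108 = N53502 := ded_42_2 (flp_e L723639) (flp_j L723621) L740819
theorem L740825 : sm gi N55108 = N55108 := ded_44_2 (flp_e L740819) L723623 L740819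
theorem L740826 : sm gd N55108 = N53834 := ded_34_1 (flp_e L727079) (flp_d L707509) (flp_e L704200) L723615 L740819
theorem L740828 : sm gc N53500 = N55109 := rfl
theorem L740830 : sm gf N55109 = N53504 := ded_29_2 (flp_c L723652) (flp_f L723626) L740828
theorem L740832 : sm gg N55109 = N53501 := ded_30_2 (flp_c L723633) (flp_g L723628) L740828
theorem L740834 : sm gj N55109 = N54174 := ded_31_2 L730335 (flp_j L723630) L740828
theorem L740836 : sm gi N55109 = N55109 := ded_33_2 (flp_c L740828) L723632 L740828
theorem L740837 : sm gb N55109 = N53521 := ded_19_1 (flp_c L738946) L738944 (flp_c L733592) L733583 L740828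
theorem L740839 : sm gd N55109 = N55109 := ded_27_2 (flp_c L740828) (flp_d L723624) L704229 L723624 L740828
theorem L740840 : sm ge N53500 = N55110 := rfl
theorem L740842 : sm gg N55110 = N53502 := ded_41_2 (flp_e L723639) (flp_g L723628) L740840
theorem L740844 : sm gj N55110 = N54245 := ded_42_2 L730822 (flp_j L723630) L740840
theorem L740846 : sm gi N55110 = N55110 := ded_44_2 (flp_e L740840) L723632 L740840
theorem L740847 : sm gd N55110 = N53838 := ded_34_1 (flp_e L727110) (flp_d L707535) (flp_e L704230) L723624 L740840
theorem L740849 : sm gf N55110 = N54237 := ded_40_2 (flp_e L730770) L712249 (flp_e L704257) (flp_f L723626) L740840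
theorem L740851 : sm gb N53501 = N55111 := rfl
theorem L740853 : sm gd N55111 = N55111 := ded_20_2 (flp_b L740851) L723638 L740851
theorem L740854 : sm gf N55111 = N53503 := ded_22_2 (flp_b L723644) (flp_f L723635) L740851
theorem L740856 : sm gg N55111 = N53521 := ded_23_2 (flp_b L740837) L740832 L740851
theorem L740858 : sm gi N55111 = N55111 := ded_26_2 (flp_b L740851) L723637 L740851
theorem L740859 : sm ge N53501 = N55112 := rfl
theorem L740861 : sm gc N55112 = N53502 := ded_28_1 (flp_e L723639) L723633 L740859
theorem L740863 : sm gi N55112 = N55112 := ded_44_2 (flp_e L740859) L723637 L740859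
theorem L740864 : sm gi N53505 = N55113 := rfl
theorem L740866 : sm ga N55113 = N54443 := ded_18_1 (flp_i L732278) (flp_a L723666) L740864
theorem L740868 : sm gb N55113 = N54170 := ded_26_1 (flp_i L730311) (flp_b L723668) L740864
theorem L740870 : sm gc N55113 = N53845 := ded_33_1 (flp_i L727178) (flp_c L723670) L740864
theorem L740872 : sm gd N55113 = N55113 := ded_39_1 (flp_i L740864) L723677 L740864
theorem L740873 : sm gf N55113 = N55113 := ded_48_1 (flp_i L740864) L723672 L740864
theorem L740874 : sm gg N55113 = N54285 := ded_51_1 (flp_i L731110) (flp_g L723673) L740864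
theorem L740876 : sm gj N55113 = N53516 := ded_53_1 (flp_i L723803) (flp_j L723675) L740864
theorem L740878 : sm gh N53506 = N55114 := rfl
theorem L740880 : sm gb N55114 = N54171 := ded_25_1 (flp_h L730319) (flp_b L723680) L740878
theorem L740882 : sm gc N55114 = N53846 := ded_32_1 (flp_h L727191) (flp_c L723682) L740878
theorem L740884 : sm gf N55114 = N55114 := ded_47_1 (flp_h L740878) L723686 L740878
theorem L740885 : sm gj N55114 = N53517 := ded_52_1 (flp_h L723811) (flp_j L723687) L740878
theorem L740887 : sm gd N53507 = N55115 := rfl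
theorem L740889 : sm gb N55115 = N54172 := ded_20_1 (flp_d L730324) (flp_b L723691) L740887
theorem L740891 : sm gf N55115 = N55115 := ded_35_2 (flp_d L740887) L723697 L740887
theorem L740892 : sm gj N55115 = N53518 := ded_37_2 (flp_d L723818) (flp_j L723698) L740887
theorem L740894 : sm gi N55115 = N55115 := ded_39_2 (flp_d L740887) L723700 L740887
theorem L740895 : sm ge N53508 = N55116 := rfl
theorem L740897 : sm gb N55116 = N54173 := ded_21_1 (flp_e L730328) (flp_b L723703) L740895
theorem L740899 : sm gj N55116 = N53519 := ded_42_2 (flp_e L723824) (flp_j L723707) L740895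
theorem L740901 : sm gi N55116 = N55116 := ded_44_2 (flp_e L740895) L723709 L740895
theorem L740902 : sm gi N53509 = N55117 := rfl
theorem L740904 : sm ga N55117 = N53513 := ded_18_1 (flp_i L723763) (flp_a L723712) L740902
theorem L740906 : sm gb N55117 = N53660 := ded_26_1 (flp_i L725409) (flp_b L723714) L740902
theorem L740908 : sm gc N55117 = N53546 := ded_33_1 (flp_i L724145) (flp_c L723721) L740902
theorem L740910 : sm gd N55117 = N53510 := ded_39_1 (flp_i L723723) L723710 L740902
theorem L740912 : sm gf N55117 = N55117 := ded_48_1 (flp_i L740902) L723716 L740902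
theorem L740913 : sm gg N55117 = N53584 := ded_51_1 (flp_i L724581) (flp_g L723717) L740902
theorem L740915 : sm gj N55117 = N53548 := ded_53_1 (flp_i L724164) (flp_j L723719) L740902
theorem L740917 : sm gh N53510 = N55118 := rfl
theorem L740919 : sm ga N55118 = N53514 := ded_17_1 (flp_h L723776) (flp_a L723725) L740917
theorem L740921 : sm gb N55118 = N53668 := ded_25_1 (flp_h L725484) (flp_b L723727) L740917
theorem L740923 : sm gc N55118 = N53522 := ded_32_1 (flp_h L723847) (flp_c L723729) L740917
theorem L740925 : sm ge N55118 = N53511 := ded_43_1 (flp_h L723738) (flp_e L723731) L740917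
theorem L740927 : sm gf N55118 = N55118 := ded_47_1 (flp_h L740917) L723733 L740917
theorem L740928 : sm gg N55118 = N53592 := ded_50_1 (flp_h L724661) (flp_g L723734) L740917
theorem L740930 : sm gj N55118 = N53590 := ded_52_1 (flp_h L724640) (flp_j L723736) L740917
theorem L740932 : sm gi N55118 = N55118 := ded_54_2 (flp_h L740917) (flp_i L723723) L704330 L723723 L740917
theorem L740933 : sm gi N53512 = N55119 := rfl
theorem L740935 : sm gb N55119 = N53516 := ded_26_1 (flp_i L723803) (flp_b L723753) L740933
theorem L740937 : sm gc N55119 = N53604 := ded_33_1 (flp_i L724796) (flp_c L723755) L740933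
theorem L740939 : sm gd N55119 = N55119 := ded_39_1 (flp_i L740933) L723762 L740933
theorem L740940 : sm gf N55119 = N55119 := ded_48_1 (flp_i L740933) L723757 L740933
theorem L740941 : sm gg N55119 = N53606 := ded_51_1 (flp_i L724817) (flp_g L723758) L740933
theorem L740943 : sm gj N55119 = N54170 := ded_53_1 (flp_i L730311) (flp_j L723760) L740933
theorem L740945 : sm gh N53513 = N55120 := rfl
theorem L740947 : sm gb N55120 = N53517 := ded_25_1 (flp_h L723811) (flp_b L723765) L740945
theorem L740949 : sm gc N55120 = N54293 := ded_32_1 (flp_h L731175) (flp_c L723767) L740945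
theorem L740951 : sm gf N55120 = N55120 := ded_47_1 (flp_h L740945) L723771 L740945
theorem L740952 : sm gg N55120 = N54239 := ded_50_1 (flp_h L730782) (flp_g L723772) L740945
theorem L740954 : sm gj N55120 = N54171 := ded_52_1 (flp_h L730319) (flp_j L723774) L740945
theorem L740956 : sm gd N53514 = N55121 := rfl
theorem L740958 : sm gb N55121 = N53518 := ded_20_1 (flp_d L723818) (flp_b L723778) L740956
theorem L740960 : sm gf N55121 = N55121 := ded_35_2 (flp_d L740956) L723784 L740956
theorem L740961 : sm gg N55121 = N54240 := ded_36_2 (flp_d L730788) (flp_g L723785) L740956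
theorem L740963 : sm gj N55121 = N54172 := ded_37_2 (flp_d L730324) (flp_j L723787) L740956
theorem L740965 : sm gi N55121 = N55121 := ded_39_2 (flp_d L740956) L723789 L740956
theorem L740966 : sm gc N55121 = N54111 := ded_27_1 (flp_d L729855) L710997 (flp_d L704506) (flp_c L723780) L740956
theorem L740968 : sm ge N53515 = N55122 := rfl
theorem L740970 : sm gb N55122 = N53519 := ded_21_1 (flp_e L723824) (flp_b L723792) L740968
theorem L740972 : sm gc N55122 = N54237 := ded_28_1 (flp_e L730770) (flp_c L723801) L740968
theorem L740974 : sm gg N55122 = N54241 := ded_41_2 (flp_e L730795) (flp_g L723796) L740968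
theorem L740976 : sm gj N55122 = N54173 := ded_42_2 (flp_e L730328) (flp_j L723798) L740968
theorem L740978 : sm gi N55122 = N55122 := ded_44_2 (flp_e L740968) L723800 L740968
theorem L740979 : sm gh N53516 = N55123 := rfl
theorem L740981 : sm gc N55123 = N53850 := ded_32_1 (flp_h L727225) (flp_c L723805) L740979
theorem L740983 : sm gf N55123 = N55123 := ded_47_1 (flp_h L740979) L723808 L740979
theorem L740984 : sm gg N55123 = N54242 := ded_50_1 (flp_h L730800) (flp_g L723809) L740979
theorem L740986 : sm gi N55123 = N53517 := ded_54_2 (flp_h L723811) (flp_i L704389) L704381 L723803 L740979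
theorem L740988 : sm gd N53517 = N55124 := rfl
theorem L740990 : sm gf N55124 = N55124 := ded_35_2 (flp_d L740988) L723815 L740988
theorem L740991 : sm gg N55124 = N54243 := ded_36_2 (flp_d L730808) (flp_g L723816) L740988
theorem L740993 : sm gh N55124 = N53518 := ded_38_2 (flp_d L723818) (flp_h L704398) (flp_d L704393) L723811 L740988
theorem L740995 : sm gc N53518 = N55125 := rfl
theorem L740997 : sm ga N55125 = N54440 := ded_11_1 (flp_c L736890) L736882 L740995
theorem L740999 : sm gf N55125 = N55125 := ded_29_2 (flp_c L740995) L723820 L740995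
theorem L741000 : sm gg N55125 = N54104 := ded_30_2 L729820 (flp_g L723821) L740995
theorem L741002 : sm gi N55125 = N55125 := ded_33_2 (flp_c L740995) L723823 L740995
theorem L741003 : sm gb N55125 = N54103 := ded_19_1 L729809 (flp_b L729857) (flp_c L740966) L740958 L740995
theorem L741005 : sm gd N55125 = N53520 := ded_27_2 (flp_c L723829) (flp_d L704415) (flp_c L704400) L723818 L740995
theorem L741007 : sm ge N53518 = N55126 := rfl
theorem L741009 : sm gg N55126 = N54244 := ded_41_2 (flp_e L730814) (flp_g L723821) L741007
theorem L741011 : sm gi N55126 = N55126 := ded_44_2 (flp_e L741007) L723823 L741007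
theorem L741012 : sm gd N55126 = N53519 := ded_34_1 (flp_e L723824) (flp_d L704408) (flp_e L704402) L723818 L741007
theorem L741014 : sm gf N53519 = N55127 := rfl
theorem L741016 : sm gi N55127 = N55127 := ded_48_2 (flp_f L741014) L723828 L741014
theorem L741017 : sm ge N55127 = N53521 := ded_40_1 (flp_f L723843) (flp_e L704461) (flp_f L704410) L723824 L741014
theorem L741019 : sm gi N53524 = N55128 := rfl
theorem L741021 : sm ga N55128 = N54075 := ded_18_1 (flp_i L729542) (flp_a L723882) L741019
theorem L741023 : sm gb N55128 = N53536 := ded_26_1 (flp_i L724037) (flp_b L723884) L741019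
theorem L741025 : sm ge N55128 = N53525 := ded_44_1 (flp_i L723890) L723880 L741019
theorem L741027 : sm gj N55128 = N53528 := ded_53_1 (flp_i L723931) (flp_j L723886) L741019
theorem L741029 : sm gh N53525 = N55129 := rfl
theorem L741031 : sm ga N55129 = N54097 := ded_17_1 (flp_h L729743) (flp_a L723892) L741029
theorem L741033 : sm gb N55129 = N53537 := ded_25_1 (flp_h L724047) (flp_b L723894) L741029
theorem L741035 : sm gf N55129 = N53531 := ded_47_1 (flp_h L723969) (flp_f L723898) L741029
theorem L741037 : sm gj N55129 = N53529 := ded_52_1 (flp_h L723941) (flp_j L723900) L741029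
theorem L741039 : sm gd N55129 = N53608 := ded_38_1 (flp_h L724836) L705637 (flp_h L704592) (flp_d L723896) L741029
theorem L741041 : sm gi N55129 = N54267 := ded_54_2 (flp_h L730975) (flp_i L712524) (flp_h L704579) L723890 L741029
theorem L741043 : sm gi N53526 = N55130 := rfl
theorem L741045 : sm ga N55130 = N54071 := ded_18_1 (flp_i L729520) (flp_a L723904) L741043
theorem L741047 : sm gb N55130 = N53854 := ded_26_1 L727274 (flp_b L723906) L741043
theorem L741049 : sm gc N55130 = N53528 := ded_33_1 (flp_i L723931) (flp_c L723908) L741043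
theorem L741051 : sm gd N55130 = N54371 := ded_39_1 (flp_i L731758) L723916 L741043
theorem L741053 : sm ge N55130 = N53527 := ded_44_1 (flp_i L723918) L723902 L741043
theorem L741055 : sm gf N55130 = N53849 := ded_48_1 L727221 (flp_f L723914) L741043
theorem L741057 : sm gg N55130 = N53968 := ded_51_1 (flp_i L728537) (flp_g L723910) L741043
theorem L741059 : sm gh N53527 = N55131 := rfl
theorem L741061 : sm ga N55131 = N54094 := ded_17_1 (flp_h L729726) (flp_a L723920) L741059
theorem L741063 : sm gb N55131 = N53817 := ded_25_1 L726938 (flp_b L723922) L741059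
theorem L741065 : sm gc N55131 = N53529 := ded_32_1 (flp_h L723941) (flp_c L723924) L741059
theorem L741067 : sm gf N55131 = N53532 := ded_47_1 (flp_h L723982) (flp_f L723927) L741059
theorem L741069 : sm gg N55131 = N53979 := ded_50_1 (flp_h L728645) (flp_g L723929) L741059
theorem L741071 : sm gi N55131 = N53924 := ded_54_2 (flp_h L728088) (flp_i L709091) (flp_h L704602) L723918 L741059
theorem L741073 : sm gh N53528 = N55132 := rfl
theorem L741075 : sm ga N55132 = N54076 := ded_17_1 (flp_h L729550) (flp_a L723933) L741073
theorem L741077 : sm gb N55132 = N53539 := ded_25_1 (flp_h L724071) (flp_b L723935) L741073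
theorem L741079 : sm ge N55132 = N53529 := ded_43_1 (flp_h L723941) (flp_e L723937) L741073
theorem L741081 : sm gg N55132 = N53971 := ded_50_1 (flp_h L728565) (flp_g L723939) L741073
theorem L741083 : sm gi N55132 = N54278 := ded_54_2 (flp_h L731073) (flp_i L712608) (flp_h L704615) L723931 L741073
theorem L741085 : sm gh N53530 = N55133 := rfl
theorem L741087 : sm ga N55133 = N54101 := ded_17_1 (flp_h L729791) (flp_a L723957) L741085
theorem L741089 : sm gb N55133 = N53803 := ded_25_1 L726810 (flp_b L723959) L741085
theorem L741091 : sm gc N55133 = N53531 := ded_32_1 (flp_h L723969) (flp_c L723961) L741085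
theorem L741093 : sm ge N55133 = N53798 := ded_43_1 L726765 (flp_e L723964) L741085
theorem L741095 : sm gg N55133 = N55133 := ded_50_1 (flp_h L741085) L723966 L741085
theorem L741096 : sm gj N55133 = N53532 := ded_52_1 (flp_h L723982) (flp_j L723967) L741085
theorem L741098 : sm gi N55133 = N53929 := ded_54_2 (flp_h L728141) (flp_i L709144) (flp_h L704638) L723955 L741085
theorem L741100 : sm gd N53532 = N55134 := rfl
theorem L741102 : sm ga N55134 = N54102 := ded_12_1 (flp_d L729798) (flp_a L723984) L741100
theorem L741104 : sm gb N55134 = N53816 := ded_20_1 L726930 (flp_b L723986) L741100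
theorem L741106 : sm gg N55134 = N53533 := ded_36_2 (flp_d L723996) (flp_g L723992) L741100
theorem L741108 : sm gi N55134 = N53932 := ded_39_2 (flp_d L728177) (flp_i L723994) L741100
theorem L741110 : sm gc N55134 = N53614 := ded_27_1 (flp_d L724888) L705693 (flp_d L704675) (flp_c L723988) L741100
theorem L741112 : sm ge N55134 = N53811 := ded_34_2 (flp_d L726879) L707290 L707294 (flp_e L723990) L741100
theorem L741114 : sm gh N55134 = N55134 := ded_38_2 (flp_d L741100) (flp_h L723982) L704662 L723982 L741100
theorem L741115 : sm gi N53534 = N55135 := rfl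
theorem L741117 : sm ga N55135 = N53566 := ded_18_1 (flp_i L724371) (flp_a L724014) L741115
theorem L741119 : sm gc N55135 = N54254 := ded_33_1 (flp_i L730878) (flp_c L724016) L741115
theorem L741121 : sm ge N55135 = N53535 := ded_44_1 (flp_i L724024) L724012 L741115
theorem L741123 : sm gg N55135 = N53536 := ded_51_1 (flp_i L724037) (flp_g L724018) L741115
theorem L741125 : sm gj N55135 = N54249 := ded_53_1 (flp_i L730843) (flp_j L724020) L741115
theorem L741127 : sm gh N53535 = N55136 := rfl
theorem L741129 : sm ga N55136 = N53567 := ded_17_1 (flp_h L724379) (flp_a L724026) L741127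
theorem L741131 : sm gc N55136 = N54255 := ded_32_1 (flp_h L730884) (flp_c L724028) L741127
theorem L741133 : sm gf N55136 = N55136 := ded_47_1 (flp_h L741127) L724032 L741127
theorem L741134 : sm gg N55136 = N53537 := ded_50_1 (flp_h L724047) (flp_g L724033) L741127
theorem L741136 : sm gj N55136 = N54250 := ded_52_1 (flp_h L730851) (flp_j L724035) L741127
theorem L741138 : sm gd N55136 = N53639 := ded_38_1 (flp_h L725179) L705945 (flp_h L704718) (flp_d L724030) L741127
theorem L741140 : sm gi N55136 = N54261 := ded_54_2 (flp_h L730930) (flp_i L712493) (flp_h L704705) L724024 L741127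
theorem L741142 : sm gh N53536 = N55137 := rfl
theorem L741144 : sm ga N55137 = N53571 := ded_17_1 (flp_h L724430) (flp_a L724039) L741142
theorem L741146 : sm gc N55137 = N54256 := ded_32_1 (flp_h L730893) (flp_c L724041) L741142
theorem L741148 : sm ge N55137 = N53537 := ded_43_1 (flp_h L724047) (flp_e L724043) L741142
theorem L741150 : sm gj N55137 = N53539 := ded_52_1 (flp_h L724071) (flp_j L724045) L741142
theorem L741152 : sm gi N55137 = N54271 := ded_54_2 (flp_h L731008) (flp_i L712548) (flp_h L704728) L724037 L741142
theorem L741154 : sm gh N53538 = N55138 := rfl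
theorem L741156 : sm ga N55138 = N53579 := ded_17_1 (flp_h L724534) (flp_a L724063) L741154
theorem L741158 : sm gc N55138 = N54257 := ded_32_1 (flp_h L730901) (flp_c L724065) L741154
theorem L741160 : sm ge N55138 = N53541 := ded_43_1 (flp_h L724096) (flp_e L724067) L741154
theorem L741162 : sm gf N55138 = N53539 := ded_47_1 (flp_h L724071) (flp_f L724069) L741154
theorem L741164 : sm gi N55138 = N54281 := ded_54_2 (flp_h L731090) (flp_i L712631) (flp_h L704748) L724061 L741154
theorem L741166 : sm gd N53539 = N55139 := rfl
theorem L741168 : sm ga N55139 = N53580 := ded_12_1 (flp_d L724540) (flp_a L724073) L741166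
theorem L741170 : sm gg N55139 = N54252 := ded_36_2 (flp_d L730868) (flp_g L724079) L741166
theorem L741172 : sm gi N55139 = N54282 := ded_39_2 (flp_d L731098) (flp_i L724081) L741166
theorem L741174 : sm ge N55139 = N53656 := ded_34_2 (flp_d L725363) L706078 (flp_d L704772) (flp_e L724077) L741166
theorem L741176 : sm gd N53540 = N55140 := rfl
theorem L741178 : sm ga N55140 = N53582 := ded_12_1 (flp_d L724554) (flp_a L724085) L741176
theorem L741180 : sm gg N55140 = N55140 := ded_36_2 (flp_d L741176) L724091 L741176
theorem L741181 : sm gj N55140 = N53542 := ded_37_2 (flp_d L724106) (flp_j L724092) L741176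
theorem L741183 : sm gi N55140 = N54288 := ded_39_2 (flp_d L731140) (flp_i L724094) L741176
theorem L741185 : sm gc N55140 = N54469 := ded_27_1 (flp_d L732463) L714453 (flp_d L712475) (flp_c L724087) L741176
theorem L741187 : sm ge N55140 = N53662 := ded_34_2 (flp_d L725426) L706145 (flp_d L704798) (flp_e L724089) L741176
theorem L741189 : sm gh N55140 = N53543 := ded_38_2 (flp_d L724118) (flp_h L704835) (flp_d L704782) L724083 L741176
theorem L741191 : sm gd N53541 = N55141 := rfl
theorem L741193 : sm ga N55141 = N53586 := ded_12_1 (flp_d L724601) (flp_a L724098) L741191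
theorem L741195 : sm gf N55141 = N53542 := ded_35_2 (flp_d L724106) (flp_f L724102) L741191
theorem L741197 : sm gi N55141 = N54292 := ded_39_2 (flp_d L731170) (flp_i L724104) L741191
theorem L741199 : sm gh N55141 = N53544 := ded_38_2 (flp_d L724130) (flp_h L704847) (flp_d L704808) L724096 L741191
theorem L741201 : sm ge N53544 = N55142 := rfl
theorem L741203 : sm ga N55142 = N53595 := ded_13_1 (flp_e L724694) (flp_a L724132) L741201
theorem L741205 : sm gi N55142 = N55142 := ded_44_2 (flp_e L741201) L724136 L741201
theorem L741206 : sm gf N55142 = N53672 := ded_40_2 (flp_e L725521) L706244 (flp_e L704861) (flp_f L724134) L741201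
theorem L741208 : sm gf N53545 = N55143 := rfl
theorem L741210 : sm ga N55143 = N54268 := ded_14_1 (flp_f L730983) (flp_a L724139) L741208
theorem L741212 : sm gc N55143 = N54148 := ded_29_1 (flp_f L740449) L740455 L741208
theorem L741214 : sm gd N55143 = N53554 := ded_35_1 (flp_f L724226) (flp_d L724143) L741208
theorem L741216 : sm gj N55143 = N53549 := ded_46_2 (flp_f L724175) (flp_j L724141) L741208
theorem L741218 : sm ge N55143 = N55143 := ded_40_1 (flp_f L741208) (flp_e L724137) L704867 L724137 L741208
theorem L741219 : sm gi N53545 = N55144 := rfl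
theorem L741221 : sm ga N55144 = N54269 := ded_18_1 (flp_i L730990) (flp_a L724139) L741219
theorem L741223 : sm gd N55144 = N53555 := ded_39_1 (flp_i L724238) (flp_d L724143) L741219
theorem L741225 : sm ge N55144 = N53546 := ded_44_1 (flp_i L724145) L724137 L741219
theorem L741227 : sm gj N55144 = N53550 := ded_53_1 (flp_i L724182) (flp_j L724141) L741219
theorem L741229 : sm gh N53546 = N55145 := rfl
theorem L741231 : sm ga N55145 = N54293 := ded_17_1 (flp_h L731175) (flp_a L724147) L741229
theorem L741233 : sm gf N55145 = N55145 := ded_47_1 (flp_h L741229) L724151 L741229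
theorem L741234 : sm gj N55145 = N53551 := ded_52_1 (flp_h L724192) (flp_j L724152) L741229
theorem L741236 : sm gd N55145 = N53688 := ded_38_1 (flp_h L725704) L706450 (flp_h L704881) (flp_d L724149) L741229
theorem L741238 : sm gi N53547 = N55146 := rfl
theorem L741240 : sm ga N55146 = N54158 := ded_18_1 (flp_i L730232) (flp_a L724156) L741238
theorem L741242 : sm gc N55146 = N53550 := ded_33_1 (flp_i L724182) (flp_c L724158) L741238
theorem L741244 : sm gd N55146 = N54139 := ded_39_1 (flp_i L730085) (flp_d L724162) L741238
theorem L741246 : sm ge N55146 = N53548 := ded_44_1 (flp_i L724164) L724154 L741238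
theorem L741248 : sm gg N55146 = N53570 := ded_51_1 (flp_i L724420) (flp_g L724160) L741238
theorem L741250 : sm gh N53548 = N55147 := rfl
theorem L741252 : sm ga N55147 = N54171 := ded_17_1 (flp_h L730319) (flp_a L724166) L741250
theorem L741254 : sm gc N55147 = N53551 := ded_32_1 (flp_h L724192) (flp_c L724168) L741250
theorem L741256 : sm gf N55147 = N55147 := ded_47_1 (flp_h L741250) L724172 L741250
theorem L741257 : sm gg N55147 = N53581 := ded_50_1 (flp_h L724546) (flp_g L724173) L741250
theorem L741259 : sm gi N53549 = N55148 := rfl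
theorem L741261 : sm ga N55148 = N54279 := ded_18_1 (flp_i L731079) (flp_a L724177) L741259
theorem L741263 : sm gd N55148 = N53557 := ded_39_1 (flp_i L724262) (flp_d L724179) L741259
theorem L741265 : sm ge N55148 = N55148 := ded_44_1 (flp_i L741259) L724181 L741259
theorem L741266 : sm gf N55148 = N53550 := ded_48_1 (flp_i L724182) L724175 L741259
theorem L741268 : sm gh N53550 = N55149 := rfl
theorem L741270 : sm ga N55149 = N54280 := ded_17_1 (flp_h L731086) (flp_a L724184) L741268
theorem L741272 : sm ge N55149 = N53551 := ded_43_1 (flp_h L724192) (flp_e L724188) L741268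
theorem L741274 : sm gg N55149 = N54253 := ded_50_1 (flp_h L730874) (flp_g L724190) L741268
theorem L741276 : sm gf N53552 = N55150 := rfl
theorem L741278 : sm ga N55150 = N54259 := ded_14_1 (flp_f L730917) (flp_a L724203) L741276
theorem L741280 : sm gb N55150 = N54193 := ded_22_1 L733756 L733744 L741276
theorem L741282 : sm gc N55150 = N54248 := ded_29_1 (flp_f L730838) (flp_c L724205) L741276
theorem L741284 : sm gd N55150 = N53605 := ded_35_1 (flp_f L734733) L734731 L741276
theorem L741286 : sm gj N55150 = N53609 := ded_46_2 L724846 (flp_j L724209) L741276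
theorem L741288 : sm gh N55150 = N53565 := ded_47_2 (flp_f L724362) (flp_h L724211) L741276
theorem L741290 : sm ge N55150 = N55150 := ded_40_1 (flp_f L741276) (flp_e L724201) L704913 L724201 L741276
theorem L741291 : sm gi N53552 = N55151 := rfl
theorem L741293 : sm ga N55151 = N54260 := ded_18_1 (flp_i L730922) (flp_a L724203) L741291
theorem L741295 : sm gc N55151 = N54249 := ded_33_1 (flp_i L730843) (flp_c L724205) L741291
theorem L741297 : sm ge N55151 = N53553 := ded_44_1 (flp_i L724213) L724201 L741291
theorem L741299 : sm gg N55151 = N53555 := ded_51_1 (flp_i L724238) (flp_g L724207) L741291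
theorem L741301 : sm gj N55151 = N54254 := ded_53_1 (flp_i L730878) (flp_j L724209) L741291
theorem L741303 : sm gh N53553 = N55152 := rfl
theorem L741305 : sm ga N55152 = N54261 := ded_17_1 (flp_h L730930) (flp_a L724215) L741303
theorem L741307 : sm gc N55152 = N54250 := ded_32_1 (flp_h L730851) (flp_c L724217) L741303
theorem L741309 : sm gf N55152 = N55152 := ded_47_1 (flp_h L741303) L724221 L741303
theorem L741310 : sm gg N55152 = N53556 := ded_50_1 (flp_h L724248) (flp_g L724222) L741303
theorem L741312 : sm gj N55152 = N54255 := ded_52_1 (flp_h L730884) (flp_j L724224) L741303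
theorem L741314 : sm gd N55152 = N53703 := ded_38_1 (flp_h L725833) L706518 (flp_h L704933) (flp_d L724219) L741303
theorem L741316 : sm gi N55152 = N53567 := ded_54_2 (flp_h L724379) (flp_i L705081) (flp_h L704920) L724213 L741303
theorem L741318 : sm gi N53554 = N55153 := rfl
theorem L741320 : sm ga N55153 = N54270 := ded_18_1 (flp_i L730998) (flp_a L724228) L741318
theorem L741322 : sm gc N55153 = N53940 := ded_33_1 (flp_i L728257) (flp_c L724230) L741318
theorem L741324 : sm ge N55153 = N53559 := ded_44_1 (flp_i L724284) (flp_e L724236) L741318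
theorem L741326 : sm gf N55153 = N53555 := ded_48_1 (flp_i L724238) L724226 L741318
theorem L741328 : sm gj N55153 = N53557 := ded_53_1 (flp_i L724262) (flp_j L724232) L741318
theorem L741330 : sm gh N53555 = N55154 := rfl
theorem L741332 : sm ga N55154 = N54271 := ded_17_1 (flp_h L731008) (flp_a L724240) L741330
theorem L741334 : sm gc N55154 = N54251 := ded_32_1 (flp_h L730860) (flp_c L724242) L741330
theorem L741336 : sm ge N55154 = N53556 := ded_43_1 (flp_h L724248) (flp_e L724244) L741330
theorem L741338 : sm gj N55154 = N53558 := ded_52_1 (flp_h L724272) (flp_j L724246) L741330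
theorem L741340 : sm gi N55154 = N53571 := ded_54_2 (flp_h L724430) (flp_i L705128) (flp_h L704943) L724238 L741330
theorem L741342 : sm gh N53557 = N55155 := rfl
theorem L741344 : sm ga N55155 = N54281 := ded_17_1 (flp_h L731090) (flp_a L724264) L741342
theorem L741346 : sm gc N55155 = N53942 := ded_32_1 (flp_h L728285) (flp_c L724266) L741342
theorem L741348 : sm ge N55155 = N53561 := ded_43_1 (flp_h L724308) (flp_e L724268) L741342
theorem L741350 : sm gf N55155 = N53558 := ded_47_1 (flp_h L724272) (flp_f L724270) L741342
theorem L741352 : sm gi N55155 = N53579 := ded_54_2 (flp_h L724534) (flp_i L705236) (flp_h L704963) L724262 L741342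
theorem L741354 : sm gd N53558 = N55156 := rfl
theorem L741356 : sm ga N55156 = N54282 := ded_12_1 (flp_d L731098) (flp_a L724274) L741354
theorem L741358 : sm gg N55156 = N54258 := ded_36_2 (flp_d L730911) (flp_g L724280) L741354
theorem L741360 : sm gi N55156 = N53580 := ded_39_2 (flp_d L724540) (flp_i L724282) L741354
theorem L741362 : sm ge N55156 = N53724 := ded_34_2 (flp_d L726054) L706661 (flp_d L704987) (flp_e L724278) L741354
theorem L741364 : sm gh N53559 = N55157 := rfl
theorem L741366 : sm ga N55157 = N54287 := ded_17_1 (flp_h L731132) (flp_a L724286) L741364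
theorem L741368 : sm gc N55157 = N53941 := ded_32_1 (flp_h L728271) (flp_c L724288) L741364
theorem L741370 : sm gf N55157 = N53560 := ded_47_1 (flp_h L724295) (flp_f L724291) L741364
theorem L741372 : sm gj N55157 = N53561 := ded_52_1 (flp_h L724308) (flp_j L724293) L741364
theorem L741374 : sm gi N55157 = N53581 := ded_54_2 (flp_h L724546) (flp_i L705265) (flp_h L705000) L724284 L741364
theorem L741376 : sm gd N53560 = N55158 := rfl
theorem L741378 : sm ga N55158 = N54288 := ded_12_1 (flp_d L731140) (flp_a L724297) L741376
theorem L741380 : sm gg N55158 = N55158 := ded_36_2 (flp_d L741376) L724303 L741376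
theorem L741381 : sm gj N55158 = N53562 := ded_37_2 (flp_d L724318) (flp_j L724304) L741376
theorem L741383 : sm gi N55158 = N53582 := ded_39_2 (flp_d L724554) (flp_i L724306) L741376
theorem L741385 : sm gc N55158 = N54086 := ded_27_1 (flp_d L729647) L710681 (flp_d L709411) (flp_c L724299) L741376
theorem L741387 : sm ge N55158 = N53732 := ded_34_2 (flp_d L726139) L706731 (flp_d L705023) (flp_e L724301) L741376
theorem L741389 : sm gh N55158 = N55158 := ded_38_2 (flp_d L741376) (flp_h L724295) L705008 L724295 L741376
theorem L741390 : sm gd N53561 = N55159 := rfl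
theorem L741392 : sm ga N55159 = N54292 := ded_12_1 (flp_d L731170) (flp_a L724310) L741390
theorem L741394 : sm gf N55159 = N53562 := ded_35_2 (flp_d L724318) (flp_f L724314) L741390
theorem L741396 : sm gi N55159 = N53586 := ded_39_2 (flp_d L724601) (flp_i L724316) L741390
theorem L741398 : sm gc N55159 = N54095 := ded_27_1 (flp_d L729734) L710799 (flp_d L709398) (flp_c L724312) L741390
theorem L741400 : sm gh N55159 = N55159 := ded_38_2 (flp_d L741390) (flp_h L724308) L705033 L724308 L741390
theorem L741401 : sm gi N53563 = N55160 := rfl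
theorem L741403 : sm ga N55160 = N54254 := ded_18_1 (flp_i L730878) (flp_a L724333) L741401
theorem L741405 : sm gb N55160 = N53620 := ded_26_1 (flp_i L724958) (flp_b L724335) L741401
theorem L741407 : sm gc N55160 = N53566 := ded_33_1 (flp_i L724371) (flp_c L724337) L741401
theorem L741409 : sm gd N55160 = N53600 := ded_39_1 (flp_i L724753) (flp_d L724345) L741401
theorem L741411 : sm ge N55160 = N53564 := ded_44_1 (flp_i L724347) L724331 L741401
theorem L741413 : sm gg N55160 = N53568 := ded_51_1 (flp_i L724388) (flp_g L724339) L741401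
theorem L741415 : sm gj N55160 = N54260 := ded_53_1 (flp_i L730922) (flp_j L724341) L741401
theorem L741417 : sm gh N53564 = N55161 := rfl
theorem L741419 : sm ga N55161 = N54255 := ded_17_1 (flp_h L730884) (flp_a L724349) L741417
theorem L741421 : sm gb N55161 = N53621 := ded_25_1 (flp_h L724968) (flp_b L724351) L741417
theorem L741423 : sm gc N55161 = N53567 := ded_32_1 (flp_h L724379) (flp_c L724353) L741417
theorem L741425 : sm gf N55161 = N55161 := ded_47_1 (flp_h L741417) L724357 L741417
theorem L741426 : sm gg N55161 = N53569 := ded_50_1 (flp_h L724404) (flp_g L724358) L741417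
theorem L741428 : sm gj N55161 = N54261 := ded_52_1 (flp_h L730930) (flp_j L724360) L741417
theorem L741430 : sm gd N55161 = N54294 := ded_38_1 (flp_h L731180) L712769 (flp_h L705510) (flp_d L724355) L741417
theorem L741432 : sm gi N55161 = N54250 := ded_54_2 (flp_h L730851) (flp_i L712376) (flp_h L705069) L724347 L741417
theorem L741434 : sm gi N53565 = N55162 := rfl
theorem L741436 : sm gb N55162 = N54194 := ded_26_1 (flp_i L730481) (flp_b L724364) L741434
theorem L741438 : sm gd N55162 = N54191 := ded_39_1 (flp_i L730462) (flp_d L724366) L741434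
theorem L741440 : sm ge N55162 = N55162 := ded_44_1 (flp_i L741434) L724370 L741434
theorem L741441 : sm gf N55162 = N53566 := ded_48_1 (flp_i L724371) L724362 L741434
theorem L741443 : sm gj N55162 = N54263 := ded_53_1 (flp_i L730946) (flp_j L724368) L741434
theorem L741445 : sm gh N53566 = N55163 := rfl
theorem L741447 : sm ge N55163 = N53567 := ded_43_1 (flp_h L724379) (flp_e L724373) L741445
theorem L741449 : sm gg N55163 = N53571 := ded_50_1 (flp_h L724430) (flp_g L724375) L741445
theorem L741451 : sm gj N55163 = N54264 := ded_52_1 (flp_h L730951) (flp_j L724377) L741445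
theorem L741453 : sm gh N53568 = N55164 := rfl
theorem L741455 : sm ga N55164 = N54256 := ded_17_1 (flp_h L730893) (flp_a L724390) L741453
theorem L741457 : sm gb N55164 = N54297 := ded_25_1 (flp_h L731207) (flp_b L724392) L741453
theorem L741459 : sm gc N55164 = N53571 := ded_32_1 (flp_h L724430) (flp_c L724394) L741453
theorem L741461 : sm ge N55164 = N53569 := ded_43_1 (flp_h L724404) (flp_e L724398) L741453
theorem L741463 : sm gf N55164 = N54253 := ded_47_1 (flp_h L730874) (flp_f L724400) L741453
theorem L741465 : sm gj N55164 = N53576 := ded_52_1 (flp_h L724500) (flp_j L724402) L741453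
theorem L741467 : sm gi N55164 = N54251 := ded_54_2 (flp_h L730860) (flp_i L712385) (flp_h L705100) L724388 L741453
theorem L741469 : sm gh N53570 = N55165 := rfl
theorem L741471 : sm gc N55165 = N54253 := ded_32_1 (flp_h L730874) (flp_c L724422) L741469
theorem L741473 : sm ge N55165 = N53581 := ded_43_1 (flp_h L724546) (flp_e L724424) L741469
theorem L741475 : sm gf N55165 = N53571 := ded_47_1 (flp_h L724430) (flp_f L724426) L741469
theorem L741477 : sm gj N55165 = N53579 := ded_52_1 (flp_h L724534) (flp_j L724428) L741469
theorem L741479 : sm gd N53571 = N55166 := rfl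
theorem L741481 : sm gj N55166 = N53580 := ded_37_2 (flp_d L724540) (flp_j L724434) L741479
theorem L741483 : sm ge N55166 = N53772 := ded_34_2 (flp_d L726547) L707026 (flp_d L705140) (flp_e L724432) L741479
theorem L741485 : sm gh N53572 = N55167 := rfl
theorem L741487 : sm ga N55167 = N54029 := ded_17_1 (flp_h L729145) (flp_a L724438) L741485
theorem L741489 : sm gb N55167 = N53576 := ded_25_1 (flp_h L724500) (flp_b L724440) L741485
theorem L741491 : sm ge N55167 = N53573 := ded_43_1 (flp_h L724452) (flp_e L724444) L741485
theorem L741493 : sm gf N55167 = N53946 := ded_47_1 (flp_h L728318) (flp_f L724446) L741485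
theorem L741495 : sm gg N55167 = N54278 := ded_50_1 (flp_h L731073) (flp_g L724448) L741485
theorem L741497 : sm gj N55167 = N54297 := ded_52_1 (flp_h L731207) (flp_j L724450) L741485
theorem L741499 : sm gi N55167 = N53971 := ded_54_2 (flp_h L728565) (flp_i L709631) (flp_h L705152) L724436 L741485
theorem L741501 : sm gh N53574 = N55168 := rfl
theorem L741503 : sm ga N55168 = N54253 := ded_17_1 (flp_h L730874) (flp_a L724470) L741501
theorem L741505 : sm gb N55168 = N54298 := ded_25_1 (flp_h L731213) (flp_b L724472) L741501
theorem L741507 : sm ge N55168 = N53597 := ded_43_1 (flp_h L724709) (flp_e L724476) L741501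
theorem L741509 : sm gf N55168 = N54256 := ded_47_1 (flp_h L730893) (flp_f L724478) L741501
theorem L741511 : sm gg N55168 = N54280 := ded_50_1 (flp_h L731086) (flp_g L724480) L741501
theorem L741513 : sm gj N55168 = N54257 := ded_52_1 (flp_h L730901) (flp_j L724482) L741501
theorem L741515 : sm gi N55168 = N54273 := ded_54_2 (flp_h L731024) (flp_i L712572) L705186 L724468 L741501
theorem L741517 : sm gh N53575 = N55169 := rfl
theorem L741519 : sm ga N55169 = N54257 := ded_17_1 (flp_h L730901) (flp_a L724486) L741517
theorem L741521 : sm gb N55169 = N53946 := ded_25_1 (flp_h L728318) (flp_b L724488) L741517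
theorem L741523 : sm gc N55169 = N53579 := ded_32_1 (flp_h L724534) (flp_c L724490) L741517
theorem L741525 : sm ge N55169 = N53583 := ded_43_1 (flp_h L724565) (flp_e L724494) L741517
theorem L741527 : sm gf N55169 = N53576 := ded_47_1 (flp_h L724500) (flp_f L724496) L741517
theorem L741529 : sm gj N55169 = N54253 := ded_52_1 (flp_h L730874) (flp_j L724498) L741517
theorem L741531 : sm gi N55169 = N53942 := ded_54_2 (flp_h L728285) (flp_i L709380) (flp_h L705200) L724484 L741517
theorem L741533 : sm gd N53576 = N55170 := rfl
theorem L741535 : sm ga N55170 = N54258 := ded_12_1 (flp_d L730911) (flp_a L724502) L741533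
theorem L741537 : sm gg N55170 = N54282 := ded_36_2 (flp_d L731098) (flp_g L724508) L741533
theorem L741539 : sm gi N55170 = N54252 := ded_39_2 (flp_d L730868) (flp_i L724510) L741533
theorem L741541 : sm ge N55170 = N54299 := ded_34_2 (flp_d L731223) L712829 (flp_d L705224) (flp_e L724506) L741533
theorem L741543 : sm gi N53577 = N55171 := rfl
theorem L741545 : sm ga N55171 = N54212 := ded_18_1 (flp_i L730604) (flp_a L724514) L741543
theorem L741547 : sm gb N55171 = N53645 := ded_26_1 (flp_i L725248) (flp_b L724516) L741543
theorem L741549 : sm gd N55171 = N54210 := ded_39_1 (flp_i L730592) (flp_d L724518) L741543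
theorem L741551 : sm ge N55171 = N53584 := ded_44_1 (flp_i L724581) (flp_e L724520) L741543
theorem L741553 : sm gf N55171 = N53607 := ded_48_1 (flp_i L724828) (flp_f L724522) L741543
theorem L741555 : sm gj N55171 = N53578 := ded_53_1 (flp_i L724524) L724512 L741543
theorem L741557 : sm gh N53578 = N55172 := rfl
theorem L741559 : sm gb N55172 = N53655 := ded_25_1 (flp_h L725355) (flp_b L724526) L741557
theorem L741561 : sm ge N55172 = N53585 := ded_43_1 (flp_h L724593) (flp_e L724528) L741557
theorem L741563 : sm gf N55172 = N53612 := ded_47_1 (flp_h L724869) (flp_f L724530) L741557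
theorem L741565 : sm gg N55172 = N53579 := ded_50_1 (flp_h L724534) (flp_g L724532) L741557
theorem L741567 : sm gd N53579 = N55173 := rfl
theorem L741569 : sm gf N55173 = N53580 := ded_35_2 (flp_d L724540) (flp_f L724538) L741567
theorem L741571 : sm gc N53580 = N55174 := rfl
theorem L741573 : sm ge N55174 = N53794 := ded_28_2 (flp_c L726719) (flp_e L724544) L741571
theorem L741575 : sm gg N55174 = N54284 := ded_30_2 (flp_c L731106) (flp_g L724542) L741571
theorem L741577 : sm gd N53581 = N55175 := rfl
theorem L741579 : sm gf N55175 = N53582 := ded_35_2 (flp_d L724554) (flp_f L724550) L741577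
theorem L741581 : sm gj N55175 = N53586 := ded_37_2 (flp_d L724601) (flp_j L724552) L741577
theorem L741583 : sm gc N55175 = N54327 := ded_27_1 (flp_d L731428) L713060 (flp_d L712419) (flp_c L724548) L741577
theorem L741585 : sm gh N55175 = N53591 := ded_38_2 (flp_d L724652) (flp_h L705416) (flp_d L705269) L724546 L741577
theorem L741587 : sm gh N53584 = N55176 := rfl
theorem L741589 : sm ga N55176 = N54239 := ded_17_1 (flp_h L730782) (flp_a L724583) L741587
theorem L741591 : sm gb N55176 = N53661 := ded_25_1 (flp_h L725418) (flp_b L724585) L741587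
theorem L741593 : sm gf N55176 = N53588 := ded_47_1 (flp_h L724621) (flp_f L724589) L741587
theorem L741595 : sm gj N55176 = N53585 := ded_52_1 (flp_h L724593) (flp_j L724591) L741587
theorem L741597 : sm gd N53585 = N55177 := rfl
theorem L741599 : sm gb N55177 = N53665 := ded_20_1 (flp_d L725456) (flp_b L724595) L741597
theorem L741601 : sm gf N55177 = N53589 := ded_35_2 (flp_d L724632) (flp_f L724597) L741597
theorem L741603 : sm gg N55177 = N53586 := ded_36_2 (flp_d L724601) (flp_g L724599) L741597
theorem L741605 : sm gh N55177 = N53593 := ded_38_2 (flp_d L724676) (flp_h L705449) (flp_d L705346) L724593 L741597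
theorem L741607 : sm gc N53586 = N55178 := rfl
theorem L741609 : sm gf N55178 = N53587 := ded_29_2 (flp_c L724607) (flp_f L724603) L741607
theorem L741611 : sm gj N55178 = N54327 := ded_31_2 (flp_c L741583) L741581 L741607
theorem L741613 : sm gh N55178 = N53594 := ded_32_2 (flp_c L724685) (flp_h L724605) L741607
theorem L741615 : sm gi N55178 = N54095 := ded_33_2 (flp_c L741398) L741396 L741607
theorem L741617 : sm gd N55178 = N54036 := ded_27_2 L729227 (flp_d L724577) L724571 L724601 L741607
theorem L741619 : sm ge N53586 = N55179 := rfl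
theorem L741621 : sm gh N55179 = N53595 := ded_43_2 (flp_e L724694) (flp_h L724605) L741619
theorem L741623 : sm gf N55179 = N53821 := ded_40_2 (flp_e L726962) L707359 (flp_e L705360) (flp_f L724603) L741619
theorem L741625 : sm gd N53588 = N55180 := rfl
theorem L741627 : sm ga N55180 = N54446 := ded_12_1 (flp_d L732294) (flp_a L724623) L741625
theorem L741629 : sm gb N55180 = N53662 := ded_20_1 (flp_d L725426) (flp_b L724625) L741625
theorem L741631 : sm gg N55180 = N55180 := ded_36_2 (flp_d L741625) L724629 L741625
theorem L741632 : sm gj N55180 = N53589 := ded_37_2 (flp_d L724632) (flp_j L724630) L741625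
theorem L741634 : sm gh N55180 = N53596 := ded_38_2 (flp_d L724699) (flp_h L705474) (flp_d L705370) L724621 L741625
theorem L741636 : sm gd N53590 = N55181 := rfl
theorem L741638 : sm ga N55181 = N54172 := ded_12_1 (flp_d L730324) (flp_a L724642) L741636
theorem L741640 : sm gf N55181 = N55181 := ded_35_2 (flp_d L741636) L724648 L741636
theorem L741641 : sm gg N55181 = N53591 := ded_36_2 (flp_d L724652) (flp_g L724649) L741636
theorem L741643 : sm gi N55181 = N55181 := ded_39_2 (flp_d L741636) L724651 L741636
theorem L741644 : sm gc N55181 = N53863 := ded_27_1 (flp_d L727387) L708028 (flp_d L707880) (flp_c L724644) L741636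
theorem L741646 : sm ge N53591 = N55182 := rfl
theorem L741648 : sm gc N55182 = N54441 := ded_28_1 (flp_e L732270) (flp_c L724659) L741646
theorem L741650 : sm gj N55182 = N53595 := ded_42_2 (flp_e L724694) (flp_j L724656) L741646
theorem L741652 : sm gi N55182 = N55182 := ded_44_2 (flp_e L741646) L724658 L741646
theorem L741653 : sm gf N55182 = N53834 := ded_40_2 (flp_e L727079) L707511 (flp_e L705433) (flp_f L724654) L741646
theorem L741655 : sm gd N53592 = N55183 := rfl
theorem L741657 : sm ga N55183 = N54240 := ded_12_1 (flp_d L730788) (flp_a L724663) L741655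
theorem L741659 : sm gb N55183 = N53669 := ded_20_1 (flp_d L725493) (flp_b L724665) L741655
theorem L741661 : sm gf N55183 = N53596 := ded_35_2 (flp_d L724699) (flp_f L724671) L741655
theorem L741663 : sm gj N55183 = N53593 := ded_37_2 (flp_d L724676) (flp_j L724673) L741655
theorem L741665 : sm gi N55183 = N55183 := ded_39_2 (flp_d L741655) L724675 L741655
theorem L741666 : sm ge N53593 = N55184 := rfl
theorem L741668 : sm gb N55184 = N53672 := ded_21_1 (flp_e L725521) (flp_b L724678) L741666
theorem L741670 : sm gg N55184 = N53595 := ded_41_2 (flp_e L724694) (flp_g L724682) L741666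
theorem L741672 : sm gi N55184 = N55184 := ded_44_2 (flp_e L741666) L724684 L741666
theorem L741673 : sm ge N53594 = N55185 := rfl
theorem L741675 : sm gc N55185 = N53595 := ded_28_1 (flp_e L724694) L724685 L741673
theorem L741677 : sm gj N55185 = N54441 := ded_42_2 (flp_e L732270) (flp_j L724689) L741673
theorem L741679 : sm gi N55185 = N55185 := ded_44_2 (flp_e L741673) L724691 L741673
theorem L741680 : sm gf N55185 = N53840 := ded_40_2 (flp_e L727123) L707544 (flp_e L705465) (flp_f L724687) L741673
theorem L741682 : sm gi N53598 = N55186 := rfl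
theorem L741684 : sm gb N55186 = N53625 := ded_26_1 (flp_i L725020) (flp_b L724727) L741682
theorem L741686 : sm gc N55186 = N54212 := ded_33_1 (flp_i L730604) (flp_c L724729) L741682
theorem L741688 : sm gd N55186 = N54260 := ded_39_1 (flp_i L730922) (flp_d L724737) L741682
theorem L741690 : sm ge N55186 = N53599 := ded_44_1 (flp_i L724739) L724725 L741682
theorem L741692 : sm gg N55186 = N54269 := ded_51_1 (flp_i L730990) (flp_g L724731) L741682
theorem L741694 : sm gj N55186 = N53600 := ded_53_1 (flp_i L724753) (flp_j L724733) L741682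
theorem L741696 : sm gh N53599 = N55187 := rfl
theorem L741698 : sm gb N55187 = N53626 := ded_25_1 (flp_h L725030) (flp_b L724741) L741696
theorem L741700 : sm gc N55187 = N54239 := ded_32_1 (flp_h L730782) (flp_c L724743) L741696
theorem L741702 : sm gf N55187 = N53602 := ded_47_1 (flp_h L724773) (flp_f L724747) L741696
theorem L741704 : sm gg N55187 = N54293 := ded_50_1 (flp_h L731175) (flp_g L724749) L741696
theorem L741706 : sm gj N55187 = N53601 := ded_52_1 (flp_h L724761) (flp_j L724751) L741696
theorem L741708 : sm gd N55187 = N54267 := ded_38_1 (flp_h L730975) L712528 (flp_h L705554) (flp_d L724745) L741696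
theorem L741710 : sm gi N55187 = N53608 := ded_54_2 (flp_h L724836) (flp_i L705633) (flp_h L705538) L724739 L741696
theorem L741712 : sm gh N53600 = N55188 := rfl
theorem L741714 : sm gb N55188 = N53628 := ded_25_1 (flp_h L725054) (flp_b L724755) L741712
theorem L741716 : sm ge N55188 = N53601 := ded_43_1 (flp_h L724761) (flp_e L724757) L741712
theorem L741718 : sm gg N55188 = N54257 := ded_50_1 (flp_h L730901) (flp_g L724759) L741712
theorem L741720 : sm gi N55188 = N53612 := ded_54_2 (flp_h L724869) (flp_i L705658) (flp_h L705562) L724753 L741712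
theorem L741722 : sm gi N53603 = N55189 := rfl
theorem L741724 : sm gb N55189 = N53638 := ded_26_1 (flp_i L725169) (flp_b L724788) L741722
theorem L741726 : sm ge N55189 = N53604 := ded_44_1 (flp_i L724796) L724786 L741722
theorem L741728 : sm gg N55189 = N53607 := ded_51_1 (flp_i L724828) (flp_g L724790) L741722
theorem L741730 : sm gj N55189 = N54272 := ded_53_1 (flp_i L731016) (flp_j L724792) L741722
theorem L741732 : sm gh N53604 = N55190 := rfl
theorem L741734 : sm gb N55190 = N53639 := ded_25_1 (flp_h L725179) (flp_b L724798) L741732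
theorem L741736 : sm gf N55190 = N55190 := ded_47_1 (flp_h L741732) L724802 L741732
theorem L741737 : sm gg N55190 = N53608 := ded_50_1 (flp_h L724836) (flp_g L724803) L741732
theorem L741739 : sm gj N55190 = N54289 := ded_52_1 (flp_h L731146) (flp_j L724805) L741732
theorem L741741 : sm gi N55190 = N54293 := ded_54_2 (flp_h L731175) (flp_i L712756) (flp_h L705604) L724796 L741732
theorem L741743 : sm gi N53605 = N55191 := rfl
theorem L741745 : sm gb N55191 = N54216 := ded_26_1 (flp_i L730634) (flp_b L724809) L741743
theorem L741747 : sm gc N55191 = N53607 := ded_33_1 (flp_i L724828) (flp_c L724811) L741743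
theorem L741749 : sm ge N55191 = N53606 := ded_44_1 (flp_i L724817) L724807 L741743
theorem L741751 : sm gj N55191 = N53610 := ded_53_1 (flp_i L724853) (flp_j L724813) L741743
theorem L741753 : sm gh N53606 = N55192 := rfl
theorem L741755 : sm gb N55192 = N54242 := ded_25_1 (flp_h L730800) (flp_b L724819) L741753
theorem L741757 : sm gc N55192 = N53608 := ded_32_1 (flp_h L724836) (flp_c L724821) L741753
theorem L741759 : sm gf N55192 = N53613 := ded_47_1 (flp_h L724877) (flp_f L724824) L741753
theorem L741761 : sm gj N55192 = N53611 := ded_52_1 (flp_h L724861) (flp_j L724826) L741753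
theorem L741763 : sm gi N55192 = N54239 := ded_54_2 (flp_h L730782) (flp_i L712263) (flp_h L705622) L724817 L741753
theorem L741765 : sm gh N53607 = N55193 := rfl
theorem L741767 : sm gb N55193 = N53646 := ded_25_1 (flp_h L725258) (flp_b L724830) L741765
theorem L741769 : sm ge N55193 = N53608 := ded_43_1 (flp_h L724836) (flp_e L724832) L741765
theorem L741771 : sm gj N55193 = N53612 := ded_52_1 (flp_h L724869) (flp_j L724834) L741765
theorem L741773 : sm gi N53609 = N55194 := rfl
theorem L741775 : sm gd N55194 = N53610 := ded_39_1 (flp_i L724853) L724844 L741773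
theorem L741777 : sm ge N55194 = N55194 := ded_44_1 (flp_i L741773) L724850 L741773
theorem L741778 : sm gf N55194 = N54254 := ded_48_1 (flp_i L730878) (flp_f L724846) L741773
theorem L741780 : sm gg N55194 = N54279 := ded_51_1 (flp_i L731079) (flp_g L724848) L741773
theorem L741782 : sm gh N53610 = N55195 := rfl
theorem L741784 : sm gc N55195 = N53612 := ded_32_1 (flp_h L724869) (flp_c L724855) L741782
theorem L741786 : sm ge N55195 = N53611 := ded_43_1 (flp_h L724861) (flp_e L724857) L741782
theorem L741788 : sm gg N55195 = N54281 := ded_50_1 (flp_h L731090) (flp_g L724859) L741782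
theorem L741790 : sm gd N53611 = N55196 := rfl
theorem L741792 : sm gf N55196 = N53614 := ded_35_2 (flp_d L724888) (flp_f L724865) L741790
theorem L741794 : sm gg N55196 = N54292 := ded_36_2 (flp_d L731170) (flp_g L724867) L741790
theorem L741796 : sm gh N55196 = N55196 := ded_38_2 (flp_d L741790) (flp_h L724861) L705653 L724861 L741790
theorem L741797 : sm gd N53612 = N55197 := rfl
theorem L741799 : sm gb N55197 = N53656 := ded_20_1 (flp_d L725363) (flp_b L724871) L741797
theorem L741801 : sm gg N55197 = N54283 := ded_36_2 (flp_d L731100) (flp_g L724875) L741797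
theorem L741803 : sm gd N53613 = N55198 := rfl
theorem L741805 : sm gb N55198 = N54447 := ded_20_1 (flp_d L732301) (flp_b L724879) L741803
theorem L741807 : sm gg N55198 = N55198 := ded_36_2 (flp_d L741803) L724883 L741803
theorem L741808 : sm gj N55198 = N53614 := ded_37_2 (flp_d L724888) (flp_j L724884) L741803
theorem L741810 : sm gi N55198 = N54446 := ded_39_2 (flp_d L732294) (flp_i L724886) L741803
theorem L741812 : sm gh N55198 = N55198 := ded_38_2 (flp_d L741803) (flp_h L724877) L705680 L724877 L741803
theorem L741813 : sm gf N53615 = N55199 := rfl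
theorem L741815 : sm ga N55199 = N53686 := ded_14_1 (flp_f L725689) (flp_a L724895) L741813
theorem L741817 : sm gb N55199 = N54259 := ded_22_1 (flp_f L730917) (flp_b L724897) L741813
theorem L741819 : sm gc N55199 = N54058 := ded_29_1 (flp_f L729422) (flp_c L724899) L741813
theorem L741821 : sm gd N55199 = N53624 := ded_35_1 (flp_f L725008) (flp_d L724905) L741813
theorem L741823 : sm gj N55199 = N53619 := ded_46_2 (flp_f L724951) (flp_j L724903) L741813
theorem L741825 : sm ge N55199 = N55199 := ded_40_1 (flp_f L741813) (flp_e L724893) L705709 L724893 L741813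
theorem L741826 : sm gi N53615 = N55200 := rfl
theorem L741828 : sm ga N55200 = N53687 := ded_18_1 (flp_i L725696) (flp_a L724895) L741826
theorem L741830 : sm gb N55200 = N54260 := ded_26_1 (flp_i L730922) (flp_b L724897) L741826
theorem L741832 : sm gc N55200 = N54060 := ded_33_1 (flp_i L729435) (flp_c L724899) L741826
theorem L741834 : sm gd N55200 = N53625 := ded_39_1 (flp_i L725020) (flp_d L724905) L741826
theorem L741836 : sm ge N55200 = N53616 := ded_44_1 (flp_i L724907) L724893 L741826
theorem L741838 : sm gg N55200 = N54266 := ded_51_1 (flp_i L730967) (flp_g L724901) L741826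
theorem L741840 : sm gj N55200 = N53620 := ded_53_1 (flp_i L724958) (flp_j L724903) L741826
theorem L741842 : sm gh N53616 = N55201 := rfl
theorem L741844 : sm ga N55201 = N53688 := ded_17_1 (flp_h L725704) (flp_a L724909) L741842
theorem L741846 : sm gb N55201 = N54261 := ded_25_1 (flp_h L730930) (flp_b L724911) L741842
theorem L741848 : sm gc N55201 = N54110 := ded_32_1 (flp_h L729850) (flp_c L724913) L741842
theorem L741850 : sm gf N55201 = N55201 := ded_47_1 (flp_h L741842) L724917 L741842
theorem L741851 : sm gg N55201 = N54267 := ded_50_1 (flp_h L730975) (flp_g L724918) L741842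
theorem L741853 : sm gj N55201 = N53621 := ded_52_1 (flp_h L724968) (flp_j L724920) L741842
theorem L741855 : sm gd N55201 = N54293 := ded_38_1 (flp_h L731175) L712758 (flp_h L705731) (flp_d L724915) L741842
theorem L741857 : sm gf N53617 = N55202 := rfl
theorem L741859 : sm ga N55202 = N53693 := ded_14_1 (flp_f L725747) (flp_a L724924) L741857
theorem L741861 : sm gb N55202 = N54047 := ded_22_1 (flp_f L729325) (flp_b L724926) L741857
theorem L741863 : sm gc N55202 = N53619 := ded_29_1 (flp_f L724951) (flp_c L724928) L741857
theorem L741865 : sm gd N55202 = N54044 := ded_35_1 (flp_f L729293) (flp_d L724934) L741857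
theorem L741867 : sm gj N55202 = N54058 := ded_46_2 (flp_f L729422) (flp_j L724932) L741857
theorem L741869 : sm ge N55202 = N55202 := ded_40_1 (flp_f L741857) (flp_e L724922) L705737 L724922 L741857
theorem L741870 : sm gi N53617 = N55203 := rfl
theorem L741872 : sm ga N55203 = N53694 := ded_18_1 (flp_i L725752) (flp_a L724924) L741870
theorem L741874 : sm gb N55203 = N54049 := ded_26_1 (flp_i L729340) (flp_b L724926) L741870
theorem L741876 : sm gc N55203 = N53620 := ded_33_1 (flp_i L724958) (flp_c L724928) L741870
theorem L741878 : sm gd N55203 = N54045 := ded_39_1 (flp_i L729305) (flp_d L724934) L741870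
theorem L741880 : sm ge N55203 = N53618 := ded_44_1 (flp_i L724936) L724922 L741870
theorem L741882 : sm gg N55203 = N54295 := ded_51_1 (flp_i L731191) (flp_g L724930) L741870
theorem L741884 : sm gj N55203 = N54060 := ded_53_1 (flp_i L729435) (flp_j L724932) L741870
theorem L741886 : sm gh N53618 = N55204 := rfl
theorem L741888 : sm ga N55204 = N53695 := ded_17_1 (flp_h L725760) (flp_a L724938) L741886
theorem L741890 : sm gb N55204 = N54106 := ded_25_1 (flp_h L729828) (flp_b L724940) L741886
theorem L741892 : sm gc N55204 = N53621 := ded_32_1 (flp_h L724968) (flp_c L724942) L741886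
theorem L741894 : sm gf N55204 = N55204 := ded_47_1 (flp_h L741886) L724946 L741886
theorem L741895 : sm gg N55204 = N54296 := ded_50_1 (flp_h L731199) (flp_g L724947) L741886
theorem L741897 : sm gj N55204 = N54110 := ded_52_1 (flp_h L729850) (flp_j L724949) L741886
theorem L741899 : sm gi N53619 = N55205 := rfl
theorem L741901 : sm ga N55205 = N53697 := ded_18_1 (flp_i L725778) (flp_a L724953) L741899
theorem L741903 : sm gd N55205 = N53627 := ded_39_1 (flp_i L725044) (flp_d L724955) L741899
theorem L741905 : sm ge N55205 = N55205 := ded_44_1 (flp_i L741899) L724957 L741899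
theorem L741906 : sm gf N55205 = N53620 := ded_48_1 (flp_i L724958) L724951 L741899
theorem L741908 : sm gh N53620 = N55206 := rfl
theorem L741910 : sm ga N55206 = N53698 := ded_17_1 (flp_h L725785) (flp_a L724960) L741908
theorem L741912 : sm ge N55206 = N53621 := ded_43_1 (flp_h L724968) (flp_e L724964) L741908
theorem L741914 : sm gg N55206 = N54297 := ded_50_1 (flp_h L731207) (flp_g L724966) L741908
theorem L741916 : sm gf N53622 = N55207 := rfl
theorem L741918 : sm ga N55207 = N53701 := ded_14_1 (flp_f L725818) (flp_a L724979) L741916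
theorem L741920 : sm gb N55207 = N54268 := ded_22_1 (flp_f L730983) (flp_b L724981) L741916
theorem L741922 : sm gc N55207 = N53775 := ded_29_1 (flp_f L726567) (flp_c L724983) L741916
theorem L741924 : sm gd N55207 = N54265 := ded_35_1 (flp_f L730957) (flp_d L724991) L741916
theorem L741926 : sm gj N55207 = N54275 := ded_46_2 (flp_f L731040) (flp_j L724987) L741916
theorem L741928 : sm gh N55207 = N53637 := ded_47_2 (flp_f L725162) (flp_h L724989) L741916
theorem L741930 : sm ge N55207 = N55207 := ded_40_1 (flp_f L741916) (flp_e L724977) L705769 L724977 L741916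
theorem L741931 : sm gi N53622 = N55208 := rfl
theorem L741933 : sm ga N55208 = N53702 := ded_18_1 (flp_i L725825) (flp_a L724979) L741931
theorem L741935 : sm gb N55208 = N54269 := ded_26_1 (flp_i L730990) (flp_b L724981) L741931
theorem L741937 : sm gc N55208 = N53776 := ded_33_1 (flp_i L726574) (flp_c L724983) L741931
theorem L741939 : sm gd N55208 = N54266 := ded_39_1 (flp_i L730967) (flp_d L724991) L741931
theorem L741941 : sm ge N55208 = N53623 := ded_44_1 (flp_i L724993) L724977 L741931
theorem L741943 : sm gg N55208 = N53625 := ded_51_1 (flp_i L725020) (flp_g L724985) L741931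
theorem L741945 : sm gj N55208 = N54276 := ded_53_1 (flp_i L731051) (flp_j L724987) L741931
theorem L741947 : sm gh N53623 = N55209 := rfl
theorem L741949 : sm ga N55209 = N53703 := ded_17_1 (flp_h L725833) (flp_a L724995) L741947
theorem L741951 : sm gb N55209 = N54293 := ded_25_1 (flp_h L731175) (flp_b L724997) L741947
theorem L741953 : sm gc N55209 = N53848 := ded_32_1 (flp_h L727206) (flp_c L724999) L741947
theorem L741955 : sm gf N55209 = N55209 := ded_47_1 (flp_h L741947) L725003 L741947
theorem L741956 : sm gg N55209 = N53626 := ded_50_1 (flp_h L725030) (flp_g L725004) L741947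
theorem L741958 : sm gj N55209 = N54294 := ded_52_1 (flp_h L731180) (flp_j L725006) L741947
theorem L741960 : sm gd N55209 = N54261 := ded_38_1 (flp_h L730930) L712497 (flp_h L705793) (flp_d L725001) L741947
theorem L741962 : sm gi N55209 = N53639 := ded_54_2 (flp_h L725179) (flp_i L705941) (flp_h L705776) L724993 L741947
theorem L741964 : sm gg N53624 = N55210 := rfl
theorem L741966 : sm ga N55210 = N53709 := ded_15_1 (flp_g L725906) (flp_a L725010) L741964
theorem L741968 : sm gc N55210 = N54388 := ded_30_1 (flp_g L731877) (flp_c L725012) L741964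
theorem L741970 : sm ge N55210 = N53629 := ded_41_1 (flp_g L725066) (flp_e L725018) L741964
theorem L741972 : sm gh N55210 = N53644 := ded_50_2 (flp_g L725242) (flp_h L725016) L741964
theorem L741974 : sm gi N53624 = N55211 := rfl
theorem L741976 : sm ga N55211 = N53710 := ded_18_1 (flp_i L725912) (flp_a L725010) L741974
theorem L741978 : sm gc N55211 = N54389 := ded_33_1 (flp_i L731885) (flp_c L725012) L741974
theorem L741980 : sm ge N55211 = N53630 := ded_44_1 (flp_i L725076) (flp_e L725018) L741974
theorem L741982 : sm gf N55211 = N53625 := ded_48_1 (flp_i L725020) L725008 L741974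
theorem L741984 : sm gj N55211 = N53627 := ded_53_1 (flp_i L725044) (flp_j L725014) L741974
theorem L741986 : sm gh N53625 = N55212 := rfl
theorem L741988 : sm ga N55212 = N53711 := ded_17_1 (flp_h L725920) (flp_a L725022) L741986
theorem L741990 : sm gc N55212 = N54381 := ded_32_1 L731837 (flp_c L725024) L741986
theorem L741992 : sm ge N55212 = N53626 := ded_43_1 (flp_h L725030) (flp_e L725026) L741986
theorem L741994 : sm gj N55212 = N53628 := ded_52_1 (flp_h L725054) (flp_j L725028) L741986
theorem L741996 : sm gi N55212 = N53646 := ded_54_2 (flp_h L725258) (flp_i L705986) (flp_h L705803) L725020 L741986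
theorem L741998 : sm gh N53627 = N55213 := rfl
theorem L742000 : sm ga N55213 = N53723 := ded_17_1 (flp_h L726046) (flp_a L725046) L741998
theorem L742002 : sm gc N55213 = N54404 := ded_32_1 L731983 (flp_c L725048) L741998
theorem L742004 : sm ge N55213 = N53632 := ded_43_1 (flp_h L725100) (flp_e L725050) L741998
theorem L742006 : sm gf N55213 = N53628 := ded_47_1 (flp_h L725054) (flp_f L725052) L741998
theorem L742008 : sm gi N55213 = N53655 := ded_54_2 (flp_h L725355) (flp_i L706066) (flp_h L705823) L725044 L741998
theorem L742010 : sm gd N53628 = N55214 := rfl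
theorem L742012 : sm ga N55214 = N53724 := ded_12_1 (flp_d L726054) (flp_a L725056) L742010
theorem L742014 : sm gg N55214 = N54299 := ded_36_2 (flp_d L731223) (flp_g L725062) L742010
theorem L742016 : sm gi N55214 = N53656 := ded_39_2 (flp_d L725363) (flp_i L725064) L742010
theorem L742018 : sm ge N55214 = N54282 := ded_34_2 (flp_d L731098) L712643 (flp_d L705847) (flp_e L725060) L742010
theorem L742020 : sm gi N53629 = N55215 := rfl
theorem L742022 : sm ga N55215 = N53730 := ded_18_1 (flp_i L726125) (flp_a L725068) L742020
theorem L742024 : sm gc N55215 = N54428 := ded_33_1 L732163 (flp_c L725070) L742020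
theorem L742026 : sm gd N55215 = N55215 := ded_39_1 (flp_i L742020) L725072 L742020
theorem L742027 : sm gf N55215 = N55215 := ded_48_1 (flp_i L742020) L725075 L742020
theorem L742028 : sm gg N55215 = N53630 := ded_51_1 (flp_i L725076) L725066 L742020
theorem L742030 : sm gh N53630 = N55216 := rfl
theorem L742032 : sm ga N55216 = N53731 := ded_17_1 (flp_h L726131) (flp_a L725078) L742030
theorem L742034 : sm gc N55216 = N54415 := ded_32_1 L732066 (flp_c L725080) L742030
theorem L742036 : sm gf N55216 = N53631 := ded_47_1 (flp_h L725087) (flp_f L725083) L742030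
theorem L742038 : sm gj N55216 = N53632 := ded_52_1 (flp_h L725100) (flp_j L725085) L742030
theorem L742040 : sm gi N55216 = N53661 := ded_54_2 (flp_h L725418) (flp_i L706131) (flp_h L705860) L725076 L742030
theorem L742042 : sm gd N53631 = N55217 := rfl
theorem L742044 : sm ga N55217 = N53732 := ded_12_1 (flp_d L726139) (flp_a L725089) L742042
theorem L742046 : sm gg N55217 = N55217 := ded_36_2 (flp_d L742042) L725095 L742042
theorem L742047 : sm gj N55217 = N53633 := ded_37_2 (flp_d L725110) (flp_j L725096) L742042
theorem L742049 : sm gi N55217 = N53662 := ded_39_2 (flp_d L725426) (flp_i L725098) L742042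
theorem L742051 : sm ge N55217 = N54288 := ded_34_2 (flp_d L731140) L712698 (flp_d L705883) (flp_e L725093) L742042
theorem L742053 : sm gh N55217 = N55217 := ded_38_2 (flp_d L742042) (flp_h L725087) L705868 L725087 L742042
theorem L742054 : sm gd N53632 = N55218 := rfl
theorem L742056 : sm ga N55218 = N53739 := ded_12_1 (flp_d L726216) (flp_a L725102) L742054
theorem L742058 : sm gf N55218 = N53633 := ded_35_2 (flp_d L725110) (flp_f L725106) L742054
theorem L742060 : sm gi N55218 = N53665 := ded_39_2 (flp_d L725456) (flp_i L725108) L742054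
theorem L742062 : sm gh N55218 = N55218 := ded_38_2 (flp_d L742054) (flp_h L725100) L705893 L725100 L742054
theorem L742063 : sm gc N53633 = N55219 := rfl
theorem L742065 : sm ga N55219 = N53740 := ded_11_1 (flp_c L726223) (flp_a L725112) L742063
theorem L742067 : sm ge N55219 = N53980 := ded_28_2 L728659 (flp_e L725118) L742063
theorem L742069 : sm gg N55219 = N53634 := ded_30_2 (flp_c L725121) (flp_g L725114) L742063
theorem L742071 : sm gh N55219 = N55219 := ded_32_2 (flp_c L742063) L725120 L742063
theorem L742072 : sm gi N55219 = N53666 := ded_33_2 (flp_c L725464) (flp_i L725116) L742063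
theorem L742074 : sm gd N55219 = N53981 := ded_27_2 L728666 L713841 (flp_c L705900) L725110 L742063
theorem L742076 : sm gf N53635 = N55220 := rfl
theorem L742078 : sm ga N55220 = N53750 := ded_14_1 (flp_f L726344) (flp_a L725135) L742076
theorem L742080 : sm gb N55220 = N53782 := ded_22_1 L726636 (flp_b L725137) L742076
theorem L742082 : sm gc N55220 = N53637 := ded_29_1 (flp_f L725162) (flp_c L725139) L742076
theorem L742084 : sm gd N55220 = N54070 := ded_35_1 (flp_f L736524) L736520 L742076
theorem L742086 : sm gj N55220 = N54065 := ded_46_2 L729492 (flp_j L725143) L742076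
theorem L742088 : sm gh N55220 = N53775 := ded_47_2 (flp_f L726567) (flp_h L725145) L742076
theorem L742090 : sm ge N55220 = N55220 := ded_40_1 (flp_f L742076) (flp_e L725133) L705922 L725133 L742076
theorem L742091 : sm gi N53635 = N55221 := rfl
theorem L742093 : sm ga N55221 = N53751 := ded_18_1 (flp_i L726351) (flp_a L725135) L742091
theorem L742095 : sm gb N55221 = N53784 := ded_26_1 (flp_i L726645) (flp_b L725137) L742091
theorem L742097 : sm gc N55221 = N53638 := ded_33_1 (flp_i L725169) (flp_c L725139) L742091
theorem L742099 : sm ge N55221 = N53636 := ded_44_1 (flp_i L725147) L725133 L742091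
theorem L742101 : sm gg N55221 = N53642 := ded_51_1 (flp_i L725214) (flp_g L725141) L742091
theorem L742103 : sm gj N55221 = N54300 := ded_53_1 (flp_i L731229) (flp_j L725143) L742091
theorem L742105 : sm gh N53636 = N55222 := rfl
theorem L742107 : sm ga N55222 = N53752 := ded_17_1 (flp_h L726361) (flp_a L725149) L742105
theorem L742109 : sm gb N55222 = N53850 := ded_25_1 (flp_h L727225) (flp_b L725151) L742105
theorem L742111 : sm gc N55222 = N53639 := ded_32_1 (flp_h L725179) (flp_c L725153) L742105
theorem L742113 : sm gf N55222 = N55222 := ded_47_1 (flp_h L742105) L725157 L742105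
theorem L742114 : sm gg N55222 = N53643 := ded_50_1 (flp_h L725226) (flp_g L725158) L742105
theorem L742116 : sm gj N55222 = N54301 := ded_52_1 (flp_h L731239) (flp_j L725160) L742105
theorem L742118 : sm gd N55222 = N54331 := ded_38_1 (flp_h L731453) L713080 (flp_h L706284) (flp_d L725155) L742105
theorem L742120 : sm gi N55222 = N53848 := ded_54_2 (flp_h L727206) (flp_i L707744) (flp_h L705927) L725147 L742105
theorem L742122 : sm gi N53637 = N55223 := rfl
theorem L742124 : sm ga N55223 = N53754 := ded_18_1 (flp_i L726375) (flp_a L725164) L742122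
theorem L742126 : sm ge N55223 = N55223 := ded_44_1 (flp_i L742122) L725168 L742122
theorem L742127 : sm gf N55223 = N53638 := ded_48_1 (flp_i L725169) L725162 L742122
theorem L742129 : sm gj N55223 = N54302 := ded_53_1 (flp_i L731248) (flp_j L725166) L742122
theorem L742131 : sm gh N53638 = N55224 := rfl
theorem L742133 : sm ga N55224 = N53755 := ded_17_1 (flp_h L726382) (flp_a L725171) L742131
theorem L742135 : sm ge N55224 = N53639 := ded_43_1 (flp_h L725179) (flp_e L725173) L742131
theorem L742137 : sm gg N55224 = N53646 := ded_50_1 (flp_h L725258) (flp_g L725175) L742131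
theorem L742139 : sm gj N55224 = N54303 := ded_52_1 (flp_h L731255) (flp_j L725177) L742131
theorem L742141 : sm gf N53640 = N55225 := rfl
theorem L742143 : sm ga N55225 = N53762 := ded_14_1 (flp_f L726460) (flp_a L725190) L742141
theorem L742145 : sm gb N55225 = N54347 := ded_22_1 L731576 (flp_b L725192) L742141
theorem L742147 : sm gd N55225 = N53641 := ded_35_1 (flp_f L725200) L725188 L742141
theorem L742149 : sm gj N55225 = N53650 := ded_46_2 (flp_f L725302) (flp_j L725194) L742141
theorem L742151 : sm gh N55225 = N54342 := ded_47_2 (flp_f L731537) (flp_h L725198) L742141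
theorem L742153 : sm ge N55225 = N55225 := ded_40_1 (flp_f L742141) L725196 L706307 (flp_e L725196) L742141
theorem L742154 : sm gi N53640 = N55226 := rfl
theorem L742156 : sm ga N55226 = N53764 := ded_18_1 (flp_i L726481) (flp_a L725190) L742154
theorem L742158 : sm gb N55226 = N54349 := ded_26_1 (flp_i L731587) (flp_b L725192) L742154
theorem L742160 : sm gd N55226 = N53642 := ded_39_1 (flp_i L725214) L725188 L742154
theorem L742162 : sm ge N55226 = N53674 := ded_44_1 (flp_i L725544) (flp_e L725196) L742154
theorem L742164 : sm gj N55226 = N53652 := ded_53_1 (flp_i L725323) (flp_j L725194) L742154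
theorem L742166 : sm gg N53641 = N55227 := rfl
theorem L742168 : sm ga N55227 = N53765 := ded_15_1 (flp_g L726489) (flp_a L725202) L742166
theorem L742170 : sm gb N55227 = N54393 := ded_23_1 L731921 (flp_b L725204) L742166
theorem L742172 : sm gc N55227 = N53644 := ded_30_1 (flp_g L725242) (flp_c L725206) L742166
theorem L742174 : sm ge N55227 = N53657 := ded_41_1 (flp_g L725369) (flp_e L725212) L742166
theorem L742176 : sm gh N55227 = N54388 := ded_50_2 (flp_g L731877) (flp_h L725210) L742166
theorem L742178 : sm gi N53641 = N55228 := rfl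
theorem L742180 : sm ga N55228 = N53766 := ded_18_1 (flp_i L726495) (flp_a L725202) L742178
theorem L742182 : sm gb N55228 = N54395 := ded_26_1 (flp_i L731931) (flp_b L725204) L742178
theorem L742184 : sm gc N55228 = N53645 := ded_33_1 (flp_i L725248) (flp_c L725206) L742178
theorem L742186 : sm ge N55228 = N53658 := ded_44_1 (flp_i L725381) (flp_e L725212) L742178
theorem L742188 : sm gf N55228 = N53642 := ded_48_1 (flp_i L725214) L725200 L742178
theorem L742190 : sm gj N55228 = N53653 := ded_53_1 (flp_i L725333) (flp_j L725208) L742178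
theorem L742192 : sm gh N53642 = N55229 := rfl
theorem L742194 : sm ga N55229 = N53767 := ded_17_1 (flp_h L726505) (flp_a L725216) L742192
theorem L742196 : sm gb N55229 = N54397 := ded_25_1 (flp_h L731943) (flp_b L725218) L742192
theorem L742198 : sm gc N55229 = N53646 := ded_32_1 (flp_h L725258) (flp_c L725220) L742192
theorem L742200 : sm ge N55229 = N53643 := ded_43_1 (flp_h L725226) (flp_e L725222) L742192
theorem L742202 : sm gj N55229 = N53654 := ded_52_1 (flp_h L725343) (flp_j L725224) L742192
theorem L742204 : sm gi N55229 = N54381 := ded_54_2 L731837 (flp_i L713572) (flp_h L705962) L725214 L742192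
theorem L742206 : sm gi N53644 = N55230 := rfl
theorem L742208 : sm ga N55230 = N53770 := ded_18_1 (flp_i L726533) (flp_a L725244) L742206
theorem L742210 : sm ge N55230 = N53660 := ded_44_1 (flp_i L725409) (flp_e L725246) L742206
theorem L742212 : sm gg N55230 = N53645 := ded_51_1 (flp_i L725248) L725242 L742206
theorem L742214 : sm gh N53645 = N55231 := rfl
theorem L742216 : sm ga N55231 = N53771 := ded_17_1 (flp_h L726539) (flp_a L725250) L742214
theorem L742218 : sm ge N55231 = N53661 := ded_43_1 (flp_h L725418) (flp_e L725252) L742214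
theorem L742220 : sm gf N55231 = N53646 := ded_47_1 (flp_h L725258) (flp_f L725254) L742214
theorem L742222 : sm gj N55231 = N53655 := ded_52_1 (flp_h L725355) (flp_j L725256) L742214
theorem L742224 : sm gd N53646 = N55232 := rfl
theorem L742226 : sm ga N55232 = N53772 := ded_12_1 (flp_d L726547) (flp_a L725260) L742224
theorem L742228 : sm gj N55232 = N53656 := ded_37_2 (flp_d L725363) (flp_j L725264) L742224
theorem L742230 : sm gc N53647 = N55233 := rfl
theorem L742232 : sm ge N55233 = N53677 := ded_28_2 (flp_c L725584) (flp_e L725274) L742230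
theorem L742234 : sm gf N55233 = N54023 := ded_29_2 (flp_c L735132) L735126 L742230
theorem L742236 : sm gg N55233 = N53759 := ded_30_2 L726438 (flp_g L725270) L742230
theorem L742238 : sm gj N55233 = N54324 := ded_31_2 L731410 (flp_j L725272) L742230
theorem L742240 : sm gh N55233 = N54022 := ded_32_2 L729090 (flp_h L725276) L742230
theorem L742242 : sm gb N55233 = N53765 := ded_19_1 L726491 (flp_b L718593) L718595 (flp_b L725268) L742230
theorem L742244 : sm gd N55233 = N54066 := ded_27_2 (flp_c L735054) L735056 L717511 L725266 L742230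
theorem L742246 : sm gi N53647 = N55234 := rfl
theorem L742248 : sm gb N55234 = N53652 := ded_26_1 (flp_i L725323) (flp_b L725268) L742246
theorem L742250 : sm gd N55234 = N53648 := ded_39_1 (flp_i L725278) L725266 L742246
theorem L742252 : sm ge N55234 = N53678 := ded_44_1 (flp_i L725596) (flp_e L725274) L742246
theorem L742254 : sm gg N55234 = N54310 := ded_51_1 (flp_i L731311) (flp_g L725270) L742246
theorem L742256 : sm gj N55234 = N54349 := ded_53_1 (flp_i L731587) (flp_j L725272) L742246
theorem L742258 : sm gh N53648 = N55235 := rfl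
theorem L742260 : sm gb N55235 = N53654 := ded_25_1 (flp_h L725343) (flp_b L725280) L742258
theorem L742262 : sm ge N55235 = N53649 := ded_43_1 (flp_h L725288) (flp_e L725282) L742258
theorem L742264 : sm gg N55235 = N54311 := ded_50_1 (flp_h L731319) (flp_g L725284) L742258
theorem L742266 : sm gj N55235 = N54397 := ded_52_1 (flp_h L731943) (flp_j L725286) L742258
theorem L742268 : sm gi N55235 = N54378 := ded_54_2 (flp_h L731809) (flp_i L713482) (flp_h L706010) L725278 L742258
theorem L742270 : sm gh N53650 = N55236 := rfl
theorem L742272 : sm ga N55236 = N53782 := ded_17_1 (flp_h L726633) (flp_a L725304) L742270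
theorem L742274 : sm gb N55236 = N54004 := ded_25_1 (flp_h L735135) L735124 L742270
theorem L742276 : sm ge N55236 = N55236 := ded_43_1 (flp_h L742270) L725308 L742270
theorem L742277 : sm gf N55236 = N53651 := ded_47_1 (flp_h L725309) L725302 L742270
theorem L742279 : sm gj N55236 = N54342 := ded_52_1 (flp_h L742151) L742149 L742270
theorem L742281 : sm gd N55236 = N54002 := ded_38_1 L728894 L713456 (flp_h L706038) (flp_d L725306) L742270
theorem L742283 : sm gi N53650 = N55237 := rfl
theorem L742285 : sm ga N55237 = N53783 := ded_18_1 (flp_i L726638) (flp_a L725304) L742283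
theorem L742287 : sm gd N55237 = N53653 := ded_39_1 (flp_i L725333) (flp_d L725306) L742283
theorem L742289 : sm ge N55237 = N55237 := ded_44_1 (flp_i L742283) L725308 L742283
theorem L742290 : sm gf N55237 = N53652 := ded_48_1 (flp_i L725323) L725302 L742283
theorem L742292 : sm gi N53651 = N55238 := rfl
theorem L742294 : sm ga N55238 = N53784 := ded_18_1 (flp_i L726645) (flp_a L725311) L742292
theorem L742296 : sm gb N55238 = N54336 := ded_26_1 (flp_i L731495) (flp_b L725313) L742292
theorem L742298 : sm gd N55238 = N54334 := ded_39_1 (flp_i L731475) (flp_d L725321) L742292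
theorem L742300 : sm ge N55238 = N53679 := ded_44_1 (flp_i L725607) (flp_e L725315) L742292
theorem L742302 : sm gg N55238 = N54312 := ded_51_1 (flp_i L731325) (flp_g L725317) L742292
theorem L742304 : sm gj N55238 = N54343 := ded_53_1 (flp_i L731544) (flp_j L725319) L742292
theorem L742306 : sm gh N53652 = N55239 := rfl
theorem L742308 : sm ga N55239 = N53785 := ded_17_1 (flp_h L726651) (flp_a L725325) L742306
theorem L742310 : sm ge N55239 = N53680 := ded_43_1 (flp_h L725620) (flp_e L725329) L742306
theorem L742312 : sm gg N55239 = N54313 := ded_50_1 (flp_h L731331) (flp_g L725331) L742306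
theorem L742314 : sm gh N53653 = N55240 := rfl
theorem L742316 : sm ga N55240 = N53788 := ded_17_1 (flp_h L726675) (flp_a L725335) L742314
theorem L742318 : sm gc N55240 = N53655 := ded_32_1 (flp_h L725355) (flp_c L725337) L742314
theorem L742320 : sm ge N55240 = N53663 := ded_43_1 (flp_h L725435) (flp_e L725339) L742314
theorem L742322 : sm gf N55240 = N53654 := ded_47_1 (flp_h L725343) (flp_f L725341) L742314
theorem L742324 : sm gi N55240 = N54404 := ded_54_2 L731983 L713907 (flp_h L706038) L725333 L742314
theorem L742326 : sm gd N53654 = N55241 := rfl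
theorem L742328 : sm ga N55241 = N53789 := ded_12_1 (flp_d L726683) (flp_a L725345) L742326
theorem L742330 : sm gg N55241 = N54314 := ded_36_2 (flp_d L731337) (flp_g L725351) L742326
theorem L742332 : sm gi N55241 = N54403 := ded_39_2 L731979 (flp_i L725353) L742326
theorem L742334 : sm ge N55241 = N54354 := ded_34_2 (flp_d L731623) L713232 (flp_d L706062) (flp_e L725349) L742326
theorem L742336 : sm gd N53655 = N55242 := rfl
theorem L742338 : sm ga N55242 = N53793 := ded_12_1 (flp_d L726715) (flp_a L725357) L742336
theorem L742340 : sm gf N55242 = N53656 := ded_35_2 (flp_d L725363) (flp_f L725361) L742336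
theorem L742342 : sm gc N53656 = N55243 := rfl
theorem L742344 : sm ga N55243 = N53794 := ded_11_1 (flp_c L726719) (flp_a L725365) L742342
theorem L742346 : sm gg N55243 = N54315 := ded_30_2 (flp_c L731341) (flp_g L725367) L742342
theorem L742348 : sm gi N53657 = N55244 := rfl
theorem L742350 : sm ga N55244 = N53800 := ded_18_1 (flp_i L726779) (flp_a L725371) L742348
theorem L742352 : sm gb N55244 = N54452 := ded_26_1 (flp_i L732351) (flp_b L725373) L742348
theorem L742354 : sm gc N55244 = N53660 := ded_33_1 (flp_i L725409) (flp_c L725375) L742348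
theorem L742356 : sm gd N55244 = N55244 := ded_39_1 (flp_i L742348) L725377 L742348
theorem L742357 : sm gf N55244 = N55244 := ded_48_1 (flp_i L742348) L725380 L742348
theorem L742358 : sm gg N55244 = N53658 := ded_51_1 (flp_i L725381) L725369 L742348
theorem L742360 : sm gh N53658 = N55245 := rfl
theorem L742362 : sm ga N55245 = N53801 := ded_17_1 (flp_h L726787) (flp_a L725383) L742360
theorem L742364 : sm gb N55245 = N54454 := ded_25_1 (flp_h L732362) (flp_b L725385) L742360
theorem L742366 : sm gc N55245 = N53661 := ded_32_1 (flp_h L725418) (flp_c L725387) L742360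
theorem L742368 : sm gf N55245 = N53659 := ded_47_1 (flp_h L725394) (flp_f L725390) L742360
theorem L742370 : sm gj N55245 = N53663 := ded_52_1 (flp_h L725435) (flp_j L725392) L742360
theorem L742372 : sm gi N55245 = N54415 := ded_54_2 L732066 L713919 (flp_h L706093) L725381 L742360
theorem L742374 : sm gd N53659 = N55246 := rfl
theorem L742376 : sm ga N55246 = N53802 := ded_12_1 (flp_d L726795) (flp_a L725396) L742374
theorem L742378 : sm gb N55246 = N54456 := ded_20_1 (flp_d L732374) (flp_b L725398) L742374
theorem L742380 : sm gg N55246 = N55246 := ded_36_2 (flp_d L742374) L725404 L742374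
theorem L742381 : sm gj N55246 = N53664 := ded_37_2 (flp_d L725445) (flp_j L725405) L742374
theorem L742383 : sm gi N55246 = N54414 := ded_39_2 L732058 (flp_i L725407) L742374
theorem L742385 : sm ge N55246 = N54361 := ded_34_2 (flp_d L731675) L713296 (flp_d L706120) (flp_e L725402) L742374
theorem L742387 : sm gh N55246 = N55246 := ded_38_2 (flp_d L742374) (flp_h L725394) L706103 L725394 L742374
theorem L742388 : sm gh N53660 = N55247 := rfl
theorem L742390 : sm ga N55247 = N53805 := ded_17_1 (flp_h L726823) (flp_a L725411) L742388
theorem L742392 : sm gf N55247 = N55247 := ded_47_1 (flp_h L742388) L725415 L742388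
theorem L742393 : sm gg N55247 = N53661 := ded_50_1 (flp_h L725418) (flp_g L725416) L742388
theorem L742395 : sm gd N53661 = N55248 := rfl
theorem L742397 : sm ga N55248 = N53806 := ded_12_1 (flp_d L726828) (flp_a L725420) L742395
theorem L742399 : sm gf N55248 = N53662 := ded_35_2 (flp_d L725426) (flp_f L725422) L742395
theorem L742401 : sm gj N55248 = N53665 := ded_37_2 (flp_d L725456) (flp_j L725424) L742395
theorem L742403 : sm gh N55248 = N53669 := ded_38_2 (flp_d L725493) (flp_h L706222) (flp_d L706135) L725418 L742395
theorem L742405 : sm gc N53662 = N55249 := rfl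
theorem L742407 : sm ga N55249 = N53807 := ded_11_1 (flp_c L726836) (flp_a L725428) L742405
theorem L742409 : sm ge N55249 = N54469 := ded_28_2 (flp_c L741185) L741187 L742405
theorem L742411 : sm gg N55249 = N55249 := ded_30_2 (flp_c L742405) L725430 L742405
theorem L742412 : sm gj N55249 = N53666 := ded_31_2 (flp_c L725464) (flp_j L725431) L742405
theorem L742414 : sm gh N55249 = N53670 := ded_32_2 (flp_c L725502) (flp_h L725433) L742405
theorem L742416 : sm gd N53663 = N55250 := rfl
theorem L742418 : sm ga N55250 = N53814 := ded_12_1 (flp_d L726903) (flp_a L725437) L742416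
theorem L742420 : sm gf N55250 = N53664 := ded_35_2 (flp_d L725445) (flp_f L725441) L742416
theorem L742422 : sm gi N55250 = N54424 := ded_39_2 L732127 (flp_i L725443) L742416
theorem L742424 : sm gh N55250 = N55250 := ded_38_2 (flp_d L742416) (flp_h L725435) L706168 L725435 L742416
theorem L742425 : sm gc N53664 = N55251 := rfl
theorem L742427 : sm ga N55251 = N53815 := ded_11_1 (flp_c L726908) (flp_a L725447) L742425
theorem L742429 : sm ge N55251 = N53948 := ded_28_2 L728347 (flp_e L725453) L742425
theorem L742431 : sm gg N55251 = N53667 := ded_30_2 (flp_c L725472) (flp_g L725449) L742425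
theorem L742433 : sm gh N55251 = N55251 := ded_32_2 (flp_c L742425) L725455 L742425
theorem L742434 : sm gi N55251 = N53981 := ded_33_2 L728666 (flp_i L725451) L742425
theorem L742436 : sm gd N55251 = N53666 := ded_27_2 (flp_c L725464) (flp_d L706189) (flp_c L706175) L725445 L742425
theorem L742438 : sm gc N53665 = N55252 := rfl
theorem L742440 : sm ga N55252 = N53820 := ded_11_1 (flp_c L726956) (flp_a L725458) L742438
theorem L742442 : sm gf N55252 = N53666 := ded_29_2 (flp_c L725464) (flp_f L725460) L742438
theorem L742444 : sm gh N55252 = N53671 := ded_32_2 (flp_c L725513) (flp_h L725462) L742438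
theorem L742446 : sm ge N53665 = N55253 := rfl
theorem L742448 : sm ga N55253 = N53821 := ded_13_1 (flp_e L726962) (flp_a L725458) L742446
theorem L742450 : sm gh N55253 = N53672 := ded_43_2 (flp_e L725521) (flp_h L725462) L742446
theorem L742452 : sm gd N53668 = N55254 := rfl
theorem L742454 : sm ga N55254 = N53832 := ded_12_1 (flp_d L727065) (flp_a L725486) L742452
theorem L742456 : sm gf N55254 = N55254 := ded_35_2 (flp_d L742452) L725489 L742452
theorem L742457 : sm gg N55254 = N53669 := ded_36_2 (flp_d L725493) (flp_g L725490) L742452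
theorem L742459 : sm gi N55254 = N55254 := ded_39_2 (flp_d L742452) L725492 L742452
theorem L742460 : sm gc N53669 = N55255 := rfl
theorem L742462 : sm ga N55255 = N53833 := ded_11_1 (flp_c L727071) (flp_a L725495) L742460
theorem L742464 : sm gf N55255 = N53670 := ded_29_2 (flp_c L725502) (flp_f L725497) L742460
theorem L742466 : sm gj N55255 = N53671 := ded_31_2 (flp_c L725513) (flp_j L725499) L742460
theorem L742468 : sm gi N55255 = N55255 := ded_33_2 (flp_c L742460) L725501 L742460
theorem L742469 : sm gd N55255 = N55255 := ded_27_2 (flp_c L742460) (flp_d L725493) L706226 L725493 L742460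
theorem L742470 : sm ge N53669 = N55256 := rfl
theorem L742472 : sm ga N55256 = N53834 := ded_13_1 (flp_e L727079) (flp_a L725495) L742470
theorem L742474 : sm gj N55256 = N53672 := ded_42_2 (flp_e L725521) (flp_j L725499) L742470
theorem L742476 : sm gi N55256 = N55256 := ded_44_2 (flp_e L742470) L725501 L742470
theorem L742477 : sm ge N53671 = N55257 := rfl
theorem L742479 : sm ga N55257 = N53840 := ded_13_1 (flp_e L727123) (flp_a L725515) L742477
theorem L742481 : sm gc N55257 = N53672 := ded_28_1 (flp_e L725521) L725513 L742477
theorem L742483 : sm gi N55257 = N55257 := ded_44_2 (flp_e L742477) L725519 L742477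
theorem L742484 : sm gh N53674 = N55258 := rfl
theorem L742486 : sm ga N55258 = N53846 := ded_17_1 (flp_h L727191) (flp_a L725546) L742484
theorem L742488 : sm gb N55258 = N54445 := ded_25_1 (flp_h L732289) (flp_b L725548) L742484
theorem L742490 : sm gf N55258 = N55258 := ded_47_1 (flp_h L742484) L725552 L742484
theorem L742491 : sm gj N55258 = N53680 := ded_52_1 (flp_h L725620) (flp_j L725553) L742484
theorem L742493 : sm gd N55258 = N54442 := ded_38_1 (flp_h L732273) L714050 (flp_h L706325) (flp_d L725550) L742484
theorem L742495 : sm gi N55258 = N54444 := ded_54_2 (flp_h L732284) (flp_i L714059) (flp_h L706310) L725544 L742484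
theorem L742497 : sm gi N53675 = N55259 := rfl
theorem L742499 : sm ga N55259 = N53678 := ded_18_1 (flp_i L725596) (flp_a L725557) L742497
theorem L742501 : sm gb N55259 = N53700 := ded_26_1 (flp_i L725805) (flp_b L725559) L742497
theorem L742503 : sm gd N55259 = N53676 := ded_39_1 (flp_i L725568) L725555 L742497
theorem L742505 : sm gf N55259 = N55259 := ded_48_1 (flp_i L742497) L725561 L742497
theorem L742506 : sm gg N55259 = N53705 := ded_51_1 (flp_i L725854) (flp_g L725562) L742497
theorem L742508 : sm gj N55259 = N53867 := ded_53_1 L727440 (flp_j L725564) L742497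
theorem L742510 : sm gi N53677 = N55260 := rfl
theorem L742512 : sm gb N55260 = N53800 := ded_26_1 (flp_i L726779) (flp_b L725593) L742510
theorem L742514 : sm gc N55260 = N53678 := ded_33_1 (flp_i L725596) L725584 L742510
theorem L742516 : sm gd N55260 = N55260 := ded_39_1 (flp_i L742510) L725595 L742510
theorem L742517 : sm gf N55260 = N55260 := ded_48_1 (flp_i L742510) L725586 L742510
theorem L742518 : sm gg N55260 = N53796 := ded_51_1 (flp_i L726734) (flp_g L725587) L742510
theorem L742520 : sm gj N55260 = N54438 := ded_53_1 (flp_i L732255) (flp_j L725589) L742510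
theorem L742522 : sm gh N53678 = N55261 := rfl
theorem L742524 : sm gb N55261 = N53680 := ded_25_1 (flp_h L725620) (flp_b L725598) L742522
theorem L742526 : sm gf N55261 = N55261 := ded_47_1 (flp_h L742522) L725602 L742522
theorem L742527 : sm gg N55261 = N54317 := ded_50_1 (flp_h L731356) (flp_g L725603) L742522
theorem L742529 : sm gj N55261 = N54445 := ded_52_1 (flp_h L732289) (flp_j L725605) L742522
theorem L742531 : sm gd N55261 = N54444 := ded_38_1 (flp_h L732284) L714063 (flp_h L706379) (flp_d L725600) L742522
theorem L742533 : sm gi N55261 = N54442 := ded_54_2 (flp_h L732273) (flp_i L714048) (flp_h L706365) L725596 L742522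
theorem L742535 : sm gh N53679 = N55262 := rfl
theorem L742537 : sm ga N55262 = N53850 := ded_17_1 (flp_h L727225) (flp_a L725609) L742535
theorem L742539 : sm gb N55262 = N54442 := ded_25_1 (flp_h L732273) (flp_b L725611) L742535
theorem L742541 : sm gf N55262 = N55262 := ded_47_1 (flp_h L742535) L725615 L742535
theorem L742542 : sm gg N55262 = N54318 := ded_50_1 (flp_h L731362) (flp_g L725616) L742535
theorem L742544 : sm gj N55262 = N54444 := ded_52_1 (flp_h L732284) (flp_j L725618) L742535
theorem L742546 : sm gd N55262 = N54445 := ded_38_1 (flp_h L732289) L714068 (flp_h L707928) (flp_d L725613) L742535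
theorem L742548 : sm gi N55262 = N53680 := ded_54_2 (flp_h L725620) (flp_i L706394) L706381 L725607 L742535
theorem L742550 : sm gi N53681 = N55263 := rfl
theorem L742552 : sm ga N55263 = N54266 := ded_18_1 (flp_i L730967) (flp_a L725631) L742550
theorem L742554 : sm gb N55263 = N54355 := ded_26_1 (flp_i L731627) (flp_b L725633) L742550
theorem L742556 : sm gd N55263 = N53702 := ded_39_1 (flp_i L725825) (flp_d L725641) L742550
theorem L742558 : sm ge N55263 = N53682 := ded_44_1 (flp_i L725643) L725629 L742550
theorem L742560 : sm gg N55263 = N53687 := ded_51_1 (flp_i L725696) (flp_g L725635) L742550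
theorem L742562 : sm gj N55263 = N54028 := ded_53_1 (flp_i L729133) (flp_j L725637) L742550
theorem L742564 : sm gh N53682 = N55264 := rfl
theorem L742566 : sm ga N55264 = N54267 := ded_17_1 (flp_h L730975) (flp_a L725645) L742564
theorem L742568 : sm gb N55264 = N54367 := ded_25_1 (flp_h L731726) (flp_b L725647) L742564
theorem L742570 : sm gf N55264 = N54038 := ded_47_1 (flp_h L729247) (flp_f L725651) L742564
theorem L742572 : sm gg N55264 = N53688 := ded_50_1 (flp_h L725704) (flp_g L725653) L742564
theorem L742574 : sm gj N55264 = N54037 := ded_52_1 (flp_h L729235) (flp_j L725655) L742564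
theorem L742576 : sm gi N55264 = N54097 := ded_54_2 (flp_h L729743) (flp_i L710814) (flp_h L706415) L725643 L742564
theorem L742578 : sm ge N53683 = N55265 := rfl
theorem L742580 : sm ga N55265 = N53963 := ded_13_1 L728496 (flp_a L725666) L742578
theorem L742582 : sm gb N55265 = N53684 := ded_21_1 (flp_e L725668) L725657 L742578
theorem L742584 : sm gg N55265 = N53715 := ded_41_2 L725968 (flp_g L725662) L742578
theorem L742586 : sm gj N55265 = N53690 := ded_42_2 (flp_e L725720) (flp_j L725664) L742578
theorem L742588 : sm gd N55265 = N53718 := ded_34_1 L726002 L706756 (flp_e L707932) (flp_d L725659) L742578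
theorem L742590 : sm gf N54346 = N55265 := ded_14_0 L742580 (flp_f L733848) L733844
theorem L742592 : sm gi N53683 = N55266 := rfl
theorem L742594 : sm ga N55266 = N53990 := ded_18_1 (flp_i L728771) (flp_a L725666) L742592
theorem L742596 : sm gb N55266 = N53685 := ded_26_1 (flp_i L725678) L725657 L742592
theorem L742598 : sm gd N55266 = N53856 := ded_39_1 (flp_i L727294) (flp_d L725659) L742592
theorem L742600 : sm gf N55266 = N55266 := ded_48_1 (flp_i L742592) L725661 L742592
theorem L742601 : sm gg N55266 = N54409 := ded_51_1 (flp_i L732003) (flp_g L725662) L742592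
theorem L742603 : sm gj N55266 = N53691 := ded_53_1 (flp_i L725726) (flp_j L725664) L742592
theorem L742605 : sm gf N53684 = N55267 := rfl
theorem L742607 : sm ga N55267 = N54058 := ded_14_1 (flp_f L729422) (flp_a L725670) L742605
theorem L742609 : sm gb N55267 = N54346 := ded_22_1 L742590 L742582 L742605
theorem L742611 : sm gc N55267 = N53686 := ded_29_1 (flp_f L725689) (flp_c L725672) L742605
theorem L742613 : sm gd N55267 = N54055 := ded_35_1 (flp_f L729392) (flp_d L725676) L742605
theorem L742615 : sm gj N55267 = N53693 := ded_46_2 (flp_f L725747) (flp_j L725674) L742605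
theorem L742617 : sm ge N55267 = N55267 := ded_40_1 (flp_f L742605) (flp_e L725668) L706437 L725668 L742605
theorem L742618 : sm gg N55267 = N54342 := ded_45_2 (flp_f L731537) (flp_g L725934) (flp_f L736372) L736374 L742605
theorem L742620 : sm gi N53684 = N55268 := rfl
theorem L742622 : sm ga N55268 = N54060 := ded_18_1 (flp_i L729435) (flp_a L725670) L742620
theorem L742624 : sm gc N55268 = N53687 := ded_33_1 (flp_i L725696) (flp_c L725672) L742620
theorem L742626 : sm gd N55268 = N54056 := ded_39_1 (flp_i L729406) (flp_d L725676) L742620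
theorem L742628 : sm ge N55268 = N53685 := ded_44_1 (flp_i L725678) L725668 L742620
theorem L742630 : sm gj N55268 = N53694 := ded_53_1 (flp_i L725752) (flp_j L725674) L742620
theorem L742632 : sm gh N53685 = N55269 := rfl
theorem L742634 : sm ga N55269 = N54110 := ded_17_1 (flp_h L729850) (flp_a L725680) L742632
theorem L742636 : sm gc N55269 = N53688 := ded_32_1 (flp_h L725704) (flp_c L725682) L742632
theorem L742638 : sm gf N55269 = N55269 := ded_47_1 (flp_h L742632) L725686 L742632
theorem L742639 : sm gj N55269 = N53695 := ded_52_1 (flp_h L725760) (flp_j L725687) L742632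
theorem L742641 : sm gg N53686 = N55270 := rfl
theorem L742643 : sm gc N55270 = N54342 := ded_30_1 (flp_g L742618) L742611 L742641
theorem L742645 : sm gd N55270 = N53709 := ded_36_1 (flp_g L725906) (flp_d L725691) L742641
theorem L742647 : sm ge N55270 = N55270 := ded_41_1 (flp_g L742641) L725695 L742641
theorem L742648 : sm gf N55270 = N54341 := ded_45_1 (flp_g L735976) L735972 L725635 L725689 L742641
theorem L742650 : sm gi N53686 = N55271 := rfl
theorem L742652 : sm gd N55271 = N53710 := ded_39_1 (flp_i L725912) (flp_d L725691) L742650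
theorem L742654 : sm ge N55271 = N55271 := ded_44_1 (flp_i L742650) L725695 L742650
theorem L742655 : sm gf N55271 = N53687 := ded_48_1 (flp_i L725696) L725689 L742650
theorem L742657 : sm gj N55271 = N53697 := ded_53_1 (flp_i L725778) (flp_j L725693) L742650
theorem L742659 : sm gh N53687 = N55272 := rfl
theorem L742661 : sm ge N55272 = N53688 := ded_43_1 (flp_h L725704) (flp_e L725700) L742659
theorem L742663 : sm gj N55272 = N53698 := ded_52_1 (flp_h L725785) (flp_j L725702) L742659
theorem L742665 : sm ge N53689 = N55273 := rfl
theorem L742667 : sm ga N55273 = N53690 := ded_13_1 (flp_e L725720) L725709 L742665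
theorem L742669 : sm gb N55273 = N53957 := ded_21_1 L728434 (flp_b L725718) L742665
theorem L742671 : sm gg N55273 = N54319 := ded_41_2 (flp_e L731370) (flp_g L725714) L742665
theorem L742673 : sm gj N55273 = N53963 := ded_42_2 L728496 (flp_j L725716) L742665
theorem L742675 : sm gd N55273 = N53955 := ded_34_1 (flp_e L728408) L709523 L707976 (flp_d L725711) L742665
theorem L742677 : sm gi N53689 = N55274 := rfl
theorem L742679 : sm ga N55274 = N53691 := ded_18_1 (flp_i L725726) L725709 L742677
theorem L742681 : sm gb N55274 = N53986 := ded_26_1 (flp_i L728721) (flp_b L725718) L742677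
theorem L742683 : sm gd N55274 = N53858 := ded_39_1 (flp_i L727320) (flp_d L725711) L742677
theorem L742685 : sm gf N55274 = N55274 := ded_48_1 (flp_i L742677) L725713 L742677
theorem L742686 : sm gg N55274 = N54320 := ded_51_1 (flp_i L731378) (flp_g L725714) L742677
theorem L742688 : sm gj N55274 = N53990 := ded_53_1 (flp_i L728771) (flp_j L725716) L742677
theorem L742690 : sm gd N53690 = N55275 := rfl
theorem L742692 : sm ga N55275 = N53955 := ded_12_1 (flp_d L742675) L742667 L742690
theorem L742694 : sm gb N55275 = N53692 := ded_20_1 (flp_d L725735) (flp_b L725722) L742690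
theorem L742696 : sm gg N55275 = N54321 := ded_36_2 (flp_d L731390) (flp_g L725724) L742690
theorem L742698 : sm gj N55275 = N53718 := ded_37_2 (flp_d L742588) L742586 L742690
theorem L742700 : sm ge N55275 = N53733 := ded_34_2 L726155 (flp_e L707978) (flp_d L706457) L725720 L742690
theorem L742702 : sm gc N55275 = N53721 := ded_56_4 (flp_b L735964) L735962 (flp_h L735343) L735341 (flp_e L723880) (flp_d L704569) L683356 L683354 L660959 (flp_h L362699) L249490 L171859 L118531 L118529 L81996 L56845 L82062 (flp_f L117875) (flp_e L170837) L247957 L360389 L659259 (flp_a L673072) L673081 L673082 (flp_e L673269) L673267 (flp_c L686749) L686747 (flp_a L671544) L391055 L268843 L184998 L184996 L127511 (flp_b L88101) L60937 (flp_h L87153) (flp_f L126263) L183366 L266609 (flp_c L384431) (flp_b L669473) (flp_a L686352) (flp_h L686350) (flp_f L663631) L390071 L390070 (flp_c L654739) L654737 L356874 L357179 (flp_f L655471) (flp_e L677192) L698482 L717956 L735530 L735540 L722775 L706459 L725720 L742690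
theorem L742704 : sm gf N54351 = N55275 := ded_14_0 L742692 (flp_f L733787) L733775
theorem L742706 : sm gh N53786 = N55275 := ded_17_0 L742692 (flp_h L734081) L734071
theorem L742708 : sm gf N53690 = N55276 := rfl
theorem L742710 : sm gb N55276 = N53693 := ded_22_1 (flp_f L725747) (flp_b L725722) L742708
theorem L742712 : sm gd N55276 = N54351 := ded_35_1 L742704 (flp_d L742690) L742708
theorem L742714 : sm gj N55276 = N54346 := ded_46_2 L742590 L742586 L742708
theorem L742716 : sm ge N55276 = N55276 := ded_40_1 (flp_f L742708) (flp_e L725720) L706459 L725720 L742708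
theorem L742717 : sm gi N53690 = N55277 := rfl
theorem L742719 : sm gb N55277 = N53694 := ded_26_1 (flp_i L725752) (flp_b L725722) L742717
theorem L742721 : sm ge N55277 = N53691 := ded_44_1 (flp_i L725726) L725720 L742717
theorem L742723 : sm gg N55277 = N54322 := ded_51_1 (flp_i L731396) (flp_g L725724) L742717
theorem L742725 : sm gh N53691 = N55278 := rfl
theorem L742727 : sm gb N55278 = N53695 := ded_25_1 (flp_h L725760) (flp_b L725728) L742725
theorem L742729 : sm gf N55278 = N55278 := ded_47_1 (flp_h L742725) L725732 L742725
theorem L742730 : sm gg N55278 = N54323 := ded_50_1 (flp_h L731402) (flp_g L725733) L742725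
theorem L742732 : sm gf N53692 = N55279 := rfl
theorem L742734 : sm ga N55279 = N54044 := ded_14_1 (flp_f L729293) (flp_a L725737) L742732
theorem L742736 : sm gb N55279 = N54351 := ded_22_1 L742704 L742694 L742732
theorem L742738 : sm gc N55279 = N53715 := ded_29_1 (flp_f L725960) (flp_c L725743) L742732
theorem L742740 : sm gd N55279 = N53693 := ded_35_1 (flp_f L725747) L725735 L742732
theorem L742742 : sm gj N55279 = N54055 := ded_46_2 (flp_f L729392) (flp_j L725741) L742732
theorem L742744 : sm ge N55279 = N54079 := ded_40_1 (flp_f L729566) (flp_e L710613) (flp_f L708004) (flp_e L725745) L742732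
theorem L742746 : sm gh N54319 = N55279 := ded_17_0 L742734 L729301 (flp_a L731372)
theorem L742748 : sm gh N53692 = N55280 := rfl
theorem L742750 : sm ga N55280 = N54012 := ded_17_1 L728993 (flp_a L725737) L742748
theorem L742752 : sm gb N55280 = N53786 := ded_25_1 L742706 L742694 L742748
theorem L742754 : sm gc N55280 = N53716 := ded_32_1 (flp_h L725970) (flp_c L725743) L742748
theorem L742756 : sm ge N55280 = N53808 := ded_43_1 L726856 (flp_e L725745) L742748
theorem L742758 : sm gf N55280 = N54319 := ded_47_1 L742746 (flp_f L742732) L742748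
theorem L742760 : sm gg N55280 = N54324 := ded_50_1 (flp_h L731408) (flp_g L725739) L742748
theorem L742762 : sm gj N55280 = N53777 := ded_52_1 L726594 (flp_j L725741) L742748
theorem L742764 : sm gi N53692 = N55281 := rfl
theorem L742766 : sm ga N55281 = N54045 := ded_18_1 (flp_i L729305) (flp_a L725737) L742764
theorem L742768 : sm gc N55281 = N53717 := ded_33_1 (flp_i L725982) (flp_c L725743) L742764
theorem L742770 : sm gd N55281 = N53694 := ded_39_1 (flp_i L725752) L725735 L742764
theorem L742772 : sm ge N55281 = N53861 := ded_44_1 (flp_i L727358) (flp_e L725745) L742764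
theorem L742774 : sm gg N55281 = N54325 := ded_51_1 (flp_i L731414) (flp_g L725739) L742764
theorem L742776 : sm gj N55281 = N54056 := ded_53_1 (flp_i L729406) (flp_j L725741) L742764
theorem L742778 : sm gg N53693 = N55282 := rfl
theorem L742780 : sm gc N55282 = N53696 := ded_30_1 (flp_g L725767) (flp_c L725749) L742778
theorem L742782 : sm ge N55282 = N55282 := ded_41_1 (flp_g L742778) L725751 L742778
theorem L742783 : sm gh N55282 = N54039 := ded_50_2 (flp_g L739983) L739980 L742778
theorem L742785 : sm gf N55282 = N54008 := ded_45_1 L728954 L710124 (flp_g L706466) L725747 L742778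
theorem L742787 : sm gi N53693 = N55283 := rfl
theorem L742789 : sm gc N55283 = N53697 := ded_33_1 (flp_i L725778) (flp_c L725749) L742787
theorem L742791 : sm ge N55283 = N55283 := ded_44_1 (flp_i L742787) L725751 L742787
theorem L742792 : sm gf N55283 = N53694 := ded_48_1 (flp_i L725752) L725747 L742787
theorem L742794 : sm gh N53694 = N55284 := rfl
theorem L742796 : sm gc N55284 = N53698 := ded_32_1 (flp_h L725785) (flp_c L725754) L742794
theorem L742798 : sm ge N55284 = N53695 := ded_43_1 (flp_h L725760) (flp_e L725756) L742794
theorem L742800 : sm gg N55284 = N54326 := ded_50_1 (flp_h L731422) (flp_g L725758) L742794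
theorem L742802 : sm gd N53695 = N55285 := rfl
theorem L742804 : sm gf N55285 = N55285 := ded_35_2 (flp_d L742802) L725764 L742802
theorem L742805 : sm gg N55285 = N54327 := ded_36_2 (flp_d L731428) (flp_g L725765) L742802
theorem L742807 : sm gh N55285 = N53863 := ded_38_2 (flp_d L727387) (flp_h L708026) (flp_d L706472) L725760 L742802
theorem L742809 : sm gi N53696 = N55286 := rfl
theorem L742811 : sm gb N55286 = N54332 := ded_26_1 (flp_i L731462) (flp_b L725769) L742809
theorem L742813 : sm gd N55286 = N53722 := ded_39_1 (flp_i L726038) (flp_d L725771) L742809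
theorem L742815 : sm ge N55286 = N55286 := ded_44_1 (flp_i L742809) L725773 L742809
theorem L742816 : sm gf N55286 = N54010 := ded_48_1 (flp_i L728966) (flp_f L725776) L742809
theorem L742818 : sm gg N55286 = N53697 := ded_51_1 (flp_i L725778) L725767 L742809
theorem L742820 : sm gh N53697 = N55287 := rfl
theorem L742822 : sm ge N55287 = N55287 := ded_43_1 (flp_h L742820) L725782 L742820
theorem L742823 : sm gf N55287 = N53698 := ded_47_1 (flp_h L725785) (flp_f L725783) L742820
theorem L742825 : sm gd N53698 = N55288 := rfl
theorem L742827 : sm gg N55288 = N54328 := ded_36_2 (flp_d L731434) (flp_g L725789) L742825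
theorem L742829 : sm gh N55288 = N53724 := ded_38_2 (flp_d L726054) (flp_h L706659) (flp_d L706484) L725785 L742825
theorem L742831 : sm gi N53699 = N55289 := rfl
theorem L742833 : sm ga N55289 = N53776 := ded_18_1 (flp_i L726574) (flp_a L725793) L742831
theorem L742835 : sm gc N55289 = N53702 := ded_33_1 (flp_i L725825) (flp_c L725795) L742831
theorem L742837 : sm gd N55289 = N53773 := ded_39_1 (flp_i L726551) (flp_d L725803) L742831
theorem L742839 : sm ge N55289 = N53700 := ded_44_1 (flp_i L725805) L725791 L742831
theorem L742841 : sm gg N55289 = N53707 := ded_51_1 (flp_i L725880) (flp_g L725797) L742831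
theorem L742843 : sm gj N55289 = N54330 := ded_53_1 (flp_i L731445) (flp_j L725799) L742831
theorem L742845 : sm gh N53700 = N55290 := rfl
theorem L742847 : sm ga N55290 = N53848 := ded_17_1 (flp_h L727206) (flp_a L725807) L742845
theorem L742849 : sm gc N55290 = N53703 := ded_32_1 (flp_h L725833) (flp_c L725809) L742845
theorem L742851 : sm gf N55290 = N55290 := ded_47_1 (flp_h L742845) L725813 L742845
theorem L742852 : sm gg N55290 = N53708 := ded_50_1 (flp_h L725892) (flp_g L725814) L742845
theorem L742854 : sm gj N55290 = N54331 := ded_52_1 (flp_h L731453) (flp_j L725816) L742845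
theorem L742856 : sm gd N55290 = N54301 := ded_38_1 (flp_h L731239) L712847 (flp_h L707726) (flp_d L725811) L742845
theorem L742858 : sm gi N55290 = N53752 := ded_54_2 (flp_h L726361) (flp_i L706921) (flp_h L706504) L725805 L742845
theorem L742860 : sm gg N53701 = N55291 := rfl
theorem L742862 : sm gc N55291 = N54018 := ded_30_1 (flp_g L735848) (flp_c L735855) L742860
theorem L742864 : sm gd N55291 = N54341 := ded_36_1 (flp_g L735976) L735968 L742860
theorem L742866 : sm ge N55291 = N55291 := ded_41_1 (flp_g L742860) L725824 L742860
theorem L742867 : sm gh N55291 = N53753 := ded_50_2 (flp_g L726370) (flp_h L725822) L742860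
theorem L742869 : sm gf N55291 = N53709 := ded_45_1 (flp_g L725906) (flp_f L706561) (flp_g L706510) L725818 L742860
theorem L742871 : sm gi N53701 = N55292 := rfl
theorem L742873 : sm ge N55292 = N55292 := ded_44_1 (flp_i L742871) L725824 L742871
theorem L742874 : sm gf N55292 = N53702 := ded_48_1 (flp_i L725825) L725818 L742871
theorem L742876 : sm gj N55292 = N54332 := ded_53_1 (flp_i L731462) (flp_j L725820) L742871
theorem L742878 : sm gh N53702 = N55293 := rfl
theorem L742880 : sm ge N55293 = N53703 := ded_43_1 (flp_h L725833) (flp_e L725827) L742878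
theorem L742882 : sm gg N55293 = N53711 := ded_50_1 (flp_h L725920) (flp_g L725829) L742878
theorem L742884 : sm gj N55293 = N54333 := ded_52_1 (flp_h L731467) (flp_j L725831) L742878
theorem L742886 : sm gi N55293 = N53755 := ded_54_2 (flp_h L726382) (flp_i L706937) (flp_h L706514) L725825 L742878
theorem L742888 : sm gi N53704 = N55294 := rfl
theorem L742890 : sm ga N55294 = N54310 := ded_18_1 (flp_i L731311) (flp_a L725844) L742888
theorem L742892 : sm gb N55294 = N53707 := ded_26_1 (flp_i L725880) (flp_b L725846) L742888
theorem L742894 : sm gd N55294 = N54308 := ded_39_1 (flp_i L731295) (flp_d L725852) L742888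
theorem L742896 : sm ge N55294 = N53705 := ded_44_1 (flp_i L725854) L725842 L742888
theorem L742898 : sm gj N55294 = N53713 := ded_53_1 (flp_i L725940) (flp_j L725848) L742888
theorem L742900 : sm gh N53705 = N55295 := rfl
theorem L742902 : sm ga N55295 = N54317 := ded_17_1 (flp_h L731356) (flp_a L725856) L742900
theorem L742904 : sm gb N55295 = N53708 := ded_25_1 (flp_h L725892) (flp_b L725858) L742900
theorem L742906 : sm gf N55295 = N53725 := ded_47_1 (flp_h L726060) (flp_f L725862) L742900
theorem L742908 : sm gj N55295 = N53714 := ded_52_1 (flp_h L725948) (flp_j L725864) L742900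
theorem L742910 : sm gd N55295 = N54305 := ded_38_1 (flp_h L731271) L712882 (flp_h L708063) (flp_d L725860) L742900
theorem L742912 : sm gi N55295 = N53761 := ded_54_2 (flp_h L726452) (flp_i L706972) (flp_h L706533) L725854 L742900
theorem L742914 : sm gg N53706 = N55296 := rfl
theorem L742916 : sm ga N55296 = N54388 := ded_15_1 (flp_g L731877) (flp_a L725868) L742914
theorem L742918 : sm gb N55296 = N54022 := ded_23_1 (flp_g L736244) L736240 L742914
theorem L742920 : sm gc N55296 = N53709 := ded_30_1 (flp_g L725906) (flp_c L725870) L742914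
theorem L742922 : sm gd N55296 = N54019 := ded_36_1 L729068 (flp_d L725872) L742914
theorem L742924 : sm ge N55296 = N53726 := ded_41_1 (flp_g L726073) (flp_e L725878) L742914
theorem L742926 : sm gh N55296 = N53765 := ded_50_2 (flp_g L726489) (flp_h L725876) L742914
theorem L742928 : sm gf N55296 = N54018 := ded_45_1 (flp_g L735848) L735846 L725797 L725866 L742914
theorem L742930 : sm gj N55296 = N54321 := ded_49_2 (flp_g L742696) L742698 (flp_g L725994) (flp_j L725874) L742914
theorem L742932 : sm gi N53706 = N55297 := rfl
theorem L742934 : sm ga N55297 = N54389 := ded_18_1 (flp_i L731885) (flp_a L725868) L742932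
theorem L742936 : sm gc N55297 = N53710 := ded_33_1 (flp_i L725912) (flp_c L725870) L742932
theorem L742938 : sm gd N55297 = N54386 := ded_39_1 (flp_i L731863) (flp_d L725872) L742932
theorem L742940 : sm ge N55297 = N53727 := ded_44_1 (flp_i L726088) (flp_e L725878) L742932
theorem L742942 : sm gf N55297 = N53707 := ded_48_1 (flp_i L725880) L725866 L742932
theorem L742944 : sm gj N55297 = N53719 := ded_53_1 (flp_i L726008) (flp_j L725874) L742932
theorem L742946 : sm gh N53707 = N55298 := rfl
theorem L742948 : sm ga N55298 = N54381 := ded_17_1 L731837 (flp_a L725882) L742946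
theorem L742950 : sm gc N55298 = N53711 := ded_32_1 (flp_h L725920) (flp_c L725884) L742946
theorem L742952 : sm ge N55298 = N53708 := ded_43_1 (flp_h L725892) (flp_e L725888) L742946
theorem L742954 : sm gj N55298 = N53720 := ded_52_1 (flp_h L726018) (flp_j L725890) L742946
theorem L742956 : sm gi N55298 = N53767 := ded_54_2 (flp_h L726505) (flp_i L706996) (flp_h L706545) L725880 L742946
theorem L742958 : sm gj N53709 = N55299 := rfl
theorem L742960 : sm gb N55299 = N54341 := ded_24_1 L735814 L735806 L742958
theorem L742962 : sm gc N55299 = N54321 := ded_31_1 (flp_j L742930) L742920 L742958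
theorem L742964 : sm ge N55299 = N53729 := ded_42_1 (flp_j L726113) (flp_e L725908) L742958
theorem L742966 : sm gh N55299 = N53769 := ded_52_2 (flp_j L726527) (flp_h L725910) L742958
theorem L742968 : sm gg N55299 = N53721 := ded_49_1 (flp_j L726030) (flp_g L706645) (flp_j L706563) L725906 L742958
theorem L742970 : sm gi N53709 = N55300 := rfl
theorem L742972 : sm ge N55300 = N53730 := ded_44_1 (flp_i L726125) (flp_e L725908) L742970
theorem L742974 : sm gg N55300 = N53710 := ded_51_1 (flp_i L725912) L725906 L742970
theorem L742976 : sm gh N53710 = N55301 := rfl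
theorem L742978 : sm ge N55301 = N53731 := ded_43_1 (flp_h L726131) (flp_e L725914) L742976
theorem L742980 : sm gf N55301 = N53711 := ded_47_1 (flp_h L725920) (flp_f L725916) L742976
theorem L742982 : sm gj N55301 = N53723 := ded_52_1 (flp_h L726046) (flp_j L725918) L742976
theorem L742984 : sm gi N55301 = N53771 := ded_54_2 (flp_h L726539) (flp_i L707016) (flp_h L706565) L725912 L742976
theorem L742986 : sm gd N53711 = N55302 := rfl
theorem L742988 : sm gj N55302 = N53724 := ded_37_2 (flp_d L726054) (flp_j L725924) L742986
theorem L742990 : sm gi N55302 = N53772 := ded_39_2 (flp_d L726547) (flp_i L725926) L742986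
theorem L742992 : sm gi N53712 = N55303 := rfl
theorem L742994 : sm ga N55303 = N54304 := ded_18_1 (flp_i L731263) (flp_a L725930) L742992
theorem L742996 : sm gb N55303 = N53717 := ded_26_1 (flp_i L725982) (flp_b L725932) L742992
theorem L742998 : sm gd N55303 = N53713 := ded_39_1 (flp_i L725940) L725928 L742992
theorem L743000 : sm ge N55303 = N53864 := ded_44_1 (flp_i L727393) (flp_e L725938) L742992
theorem L743002 : sm gg N55303 = N54343 := ded_51_1 (flp_i L731544) (flp_g L725934) L742992
theorem L743004 : sm gj N55303 = N54308 := ded_53_1 (flp_i L731295) (flp_j L725936) L742992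
theorem L743006 : sm gh N53713 = N55304 := rfl
theorem L743008 : sm gb N55304 = N53720 := ded_25_1 (flp_h L726018) (flp_b L725942) L743006
theorem L743010 : sm ge N55304 = N53714 := ded_43_1 (flp_h L725948) (flp_e L725944) L743006
theorem L743012 : sm gg N55304 = N54345 := ded_50_1 (flp_h L731560) (flp_g L725946) L743006
theorem L743014 : sm gi N55304 = N53779 := ded_54_2 (flp_h L726606) (flp_i L707060) (flp_h L706589) L725940 L743006
theorem L743016 : sm gh N53715 = N55305 := rfl
theorem L743018 : sm ga N55305 = N54002 := ded_17_1 L728894 (flp_a L725962) L743016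
theorem L743020 : sm gb N55305 = N54070 := ded_25_1 L736382 L736370 L743016
theorem L743022 : sm gc N55305 = N54319 := ded_32_1 L742746 L742738 L743016
theorem L743024 : sm ge N55305 = N54001 := ded_43_1 L728882 (flp_e L725968) L743016
theorem L743026 : sm gf N55305 = N53716 := ded_47_1 (flp_h L725970) L725960 L743016
theorem L743028 : sm gj N55305 = N54061 := ded_52_1 L729453 (flp_j L725966) L743016
theorem L743030 : sm gd N55305 = N53782 := ded_38_1 (flp_h L726633) L707078 (flp_h L706617) (flp_d L725964) L743016
theorem L743032 : sm gi N53715 = N55306 := rfl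
theorem L743034 : sm ga N55306 = N54376 := ded_18_1 (flp_i L731789) (flp_a L725962) L743032
theorem L743036 : sm gd N55306 = N53719 := ded_39_1 (flp_i L726008) (flp_d L725964) L743032
theorem L743038 : sm ge N55306 = N54409 := ded_44_1 (flp_i L732003) (flp_e L725968) L743032
theorem L743040 : sm gf N55306 = N53717 := ded_48_1 (flp_i L725982) L725960 L743032
theorem L743042 : sm gj N55306 = N54386 := ded_53_1 (flp_i L731863) (flp_j L725966) L743032
theorem L743044 : sm gi N53716 = N55307 := rfl
theorem L743046 : sm ga N55307 = N54334 := ded_18_1 (flp_i L731475) (flp_a L725972) L743044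
theorem L743048 : sm gd N55307 = N53784 := ded_39_1 (flp_i L726645) (flp_d L725980) L743044
theorem L743050 : sm ge N55307 = N53865 := ded_44_1 (flp_i L727407) (flp_e L725974) L743044
theorem L743052 : sm gg N55307 = N54349 := ded_51_1 (flp_i L731587) (flp_g L725976) L743044
theorem L743054 : sm gj N55307 = N54339 := ded_53_1 (flp_i L731519) (flp_j L725978) L743044
theorem L743056 : sm gh N53717 = N55308 := rfl
theorem L743058 : sm ga N55308 = N54377 := ded_17_1 (flp_h L731801) (flp_a L725984) L743056
theorem L743060 : sm ge N55308 = N53866 := ded_43_1 (flp_h L727419) (flp_e L725988) L743056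
theorem L743062 : sm gg N55308 = N54350 := ded_50_1 (flp_h L731593) (flp_g L725990) L743056
theorem L743064 : sm gj N55308 = N54387 := ded_52_1 (flp_h L731871) (flp_j L725992) L743056
theorem L743066 : sm gi N53718 = N55309 := rfl
theorem L743068 : sm ga N55309 = N53964 := ded_18_1 (flp_i L728498) (flp_a L725996) L743066
theorem L743070 : sm gb N55309 = N54056 := ded_26_1 (flp_i L729406) (flp_b L725998) L743066
theorem L743072 : sm gc N55309 = N53722 := ded_33_1 (flp_i L726038) (flp_c L726000) L743066
theorem L743074 : sm ge N55309 = N53734 := ded_44_1 (flp_i L726163) (flp_e L726002) L743066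
theorem L743076 : sm gf N55309 = N54352 := ded_48_1 (flp_i L731605) (flp_f L726006) L743066
theorem L743078 : sm gg N55309 = N53719 := ded_51_1 (flp_i L726008) L725994 L743066
theorem L743080 : sm gh N53719 = N55310 := rfl
theorem L743082 : sm ga N55310 = N54404 := ded_17_1 L731983 (flp_a L726010) L743080
theorem L743084 : sm gc N55310 = N53723 := ded_32_1 (flp_h L726046) (flp_c L726012) L743080
theorem L743086 : sm ge N55310 = N53735 := ded_43_1 (flp_h L726177) (flp_e L726014) L743080
theorem L743088 : sm gf N55310 = N53720 := ded_47_1 (flp_h L726018) (flp_f L726016) L743080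
theorem L743090 : sm gi N55310 = N53788 := ded_54_2 (flp_h L726675) (flp_i L707103) (flp_h L706617) L726008 L743080
theorem L743092 : sm gd N53720 = N55311 := rfl
theorem L743094 : sm ga N55311 = N54403 := ded_12_1 L731979 (flp_a L726020) L743092
theorem L743096 : sm gg N55311 = N54354 := ded_36_2 (flp_d L731623) (flp_g L726026) L743092
theorem L743098 : sm gi N55311 = N53789 := ded_39_2 (flp_d L726683) (flp_i L726028) L743092
theorem L743100 : sm ge N55311 = N54314 := ded_34_2 (flp_d L731337) L712970 (flp_d L706641) (flp_e L726024) L743092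
theorem L743102 : sm gi N53721 = N55312 := rfl
theorem L743104 : sm ge N55312 = N53737 := ded_44_1 (flp_i L726201) (flp_e L726032) L743102
theorem L743106 : sm gf N55312 = N54355 := ded_48_1 (flp_i L731627) (flp_f L726034) L743102
theorem L743108 : sm gj N55312 = N53722 := ded_53_1 (flp_i L726038) L726030 L743102
theorem L743110 : sm gh N53722 = N55313 := rfl
theorem L743112 : sm ge N55313 = N53738 := ded_43_1 (flp_h L726208) (flp_e L726040) L743110
theorem L743114 : sm gf N55313 = N54356 := ded_47_1 (flp_h L731633) (flp_f L726042) L743110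
theorem L743116 : sm gg N55313 = N53723 := ded_50_1 (flp_h L726046) (flp_g L726044) L743110
theorem L743118 : sm gi N55313 = N53792 := ded_54_2 (flp_h L726707) (flp_i L707139) (flp_h L706649) L726038 L743110
theorem L743120 : sm gd N53723 = N55314 := rfl
theorem L743122 : sm gf N55314 = N53724 := ded_35_2 (flp_d L726054) (flp_f L726050) L743120
theorem L743124 : sm gi N55314 = N53793 := ded_39_2 (flp_d L726715) (flp_i L726052) L743120
theorem L743126 : sm gc N53724 = N55315 := rfl
theorem L743128 : sm gg N55315 = N54358 := ded_30_2 (flp_c L731647) (flp_g L726056) L743126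
theorem L743130 : sm gi N55315 = N53794 := ded_33_2 (flp_c L726719) (flp_i L726058) L743126
theorem L743132 : sm gi N53726 = N55316 := rfl
theorem L743134 : sm ga N55316 = N54428 := ded_18_1 L732163 (flp_a L726075) L743132
theorem L743136 : sm gb N55316 = N54432 := ded_26_1 (flp_i L732201) (flp_b L726077) L743132
theorem L743138 : sm gc N55316 = N53730 := ded_33_1 (flp_i L726125) (flp_c L726079) L743132
theorem L743140 : sm gd N55316 = N54430 := ded_39_1 (flp_i L732173) (flp_d L726081) L743132
theorem L743142 : sm gf N55316 = N55316 := ded_48_1 (flp_i L743132) L726085 L743132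
theorem L743143 : sm gg N55316 = N53727 := ded_51_1 (flp_i L726088) L726073 L743132
theorem L743145 : sm gj N55316 = N54435 := ded_53_1 (flp_i L732232) L726086 L743132
theorem L743147 : sm gh N53727 = N55317 := rfl
theorem L743149 : sm ga N55317 = N54415 := ded_17_1 L732066 (flp_a L726090) L743147
theorem L743151 : sm gc N55317 = N53731 := ded_32_1 (flp_h L726131) (flp_c L726092) L743147
theorem L743153 : sm gf N55317 = N53728 := ded_47_1 (flp_h L726100) (flp_f L726096) L743147
theorem L743155 : sm gj N55317 = N53735 := ded_52_1 (flp_h L726177) (flp_j L726098) L743147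
theorem L743157 : sm gi N55317 = N53801 := ded_54_2 (flp_h L726787) (flp_i L707202) (flp_h L706688) L726088 L743147
theorem L743159 : sm gd N53728 = N55318 := rfl
theorem L743161 : sm ga N55318 = N54414 := ded_12_1 L732058 (flp_a L726102) L743159
theorem L743163 : sm gg N55318 = N55318 := ded_36_2 (flp_d L743159) L726108 L743159
theorem L743164 : sm gj N55318 = N53736 := ded_37_2 (flp_d L726187) (flp_j L726109) L743159
theorem L743166 : sm gi N55318 = N53802 := ded_39_2 (flp_d L726795) (flp_i L726111) L743159
theorem L743168 : sm ge N55318 = N53930 := ded_34_2 (flp_d L728152) L709163 (flp_d L706712) (flp_e L726106) L743159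
theorem L743170 : sm gh N55318 = N53938 := ded_38_2 L728246 L714197 (flp_d L706696) L726100 L743159
theorem L743172 : sm gc N54087 = N55318 := ded_31_3 L743164 (flp_c L726199) (flp_j L729658)
theorem L743174 : sm gi N53729 = N55319 := rfl
theorem L743176 : sm gb N55319 = N54443 := ded_26_1 (flp_i L732278) (flp_b L726115) L743174
theorem L743178 : sm gc N55319 = N54435 := ded_33_1 (flp_i L732232) (flp_c L726117) L743174
theorem L743180 : sm gd N55319 = N55319 := ded_39_1 (flp_i L743174) L726119 L743174
theorem L743181 : sm gf N55319 = N55319 := ded_48_1 (flp_i L743174) L726120 L743174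
theorem L743182 : sm gg N55319 = N53737 := ded_51_1 (flp_i L726201) (flp_g L726123) L743174
theorem L743184 : sm gj N55319 = N53730 := ded_53_1 (flp_i L726125) L726113 L743174
theorem L743186 : sm gh N53730 = N55320 := rfl
theorem L743188 : sm gf N55320 = N55320 := ded_47_1 (flp_h L743186) L726128 L743186
theorem L743189 : sm gg N55320 = N53731 := ded_50_1 (flp_h L726131) (flp_g L726129) L743186
theorem L743191 : sm gi N55320 = N53805 := ded_54_2 (flp_h L726823) (flp_i L707240) (flp_h L706719) L726125 L743186
theorem L743193 : sm gd N53731 = N55321 := rfl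
theorem L743195 : sm gf N55321 = N53732 := ded_35_2 (flp_d L726139) (flp_f L726133) L743193
theorem L743197 : sm gj N55321 = N53739 := ded_37_2 (flp_d L726216) (flp_j L726135) L743193
theorem L743199 : sm gi N55321 = N53806 := ded_39_2 (flp_d L726828) (flp_i L726137) L743193
theorem L743201 : sm gh N55321 = N55321 := ded_38_2 (flp_d L743193) (flp_h L726131) L706724 L726131 L743193
theorem L743202 : sm gc N53732 = N55322 := rfl
theorem L743204 : sm ge N55322 = N54086 := ded_28_2 (flp_c L741385) L741387 L743202
theorem L743206 : sm gg N55322 = N55322 := ded_30_2 (flp_c L743202) L726141 L743202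
theorem L743207 : sm gj N55322 = N53740 := ded_31_2 (flp_c L726223) (flp_j L726142) L743202
theorem L743209 : sm gh N55322 = N55322 := ded_32_2 (flp_c L743202) L726146 L743202
theorem L743210 : sm gi N55322 = N53807 := ded_33_2 (flp_c L726836) (flp_i L726144) L743202
theorem L743212 : sm gd N55322 = N54087 := ded_27_2 L743172 (flp_d L743159) L726104 L726139 L743202
theorem L743214 : sm gi N53733 = N55323 := rfl
theorem L743216 : sm ga N55323 = N53956 := ded_18_1 (flp_i L728414) (flp_a L726149) L743214
theorem L743218 : sm gb N55323 = N53861 := ded_26_1 (flp_i L727358) (flp_b L726151) L743214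
theorem L743220 : sm gc N55323 = N53737 := ded_33_1 (flp_i L726201) (flp_c L726153) L743214
theorem L743222 : sm gd N55323 = N53859 := ded_39_1 (flp_i L727334) (flp_d L726155) L743214
theorem L743224 : sm gf N55323 = N53741 := ded_48_1 (flp_i L726234) (flp_f L726157) L743214
theorem L743226 : sm gg N55323 = N54435 := ded_51_1 (flp_i L732232) (flp_g L726161) L743214
theorem L743228 : sm gj N55323 = N53734 := ded_53_1 (flp_i L726163) L726147 L743214
theorem L743230 : sm gh N53734 = N55324 := rfl
theorem L743232 : sm ga N55324 = N53965 := ded_17_1 (flp_h L728506) (flp_a L726165) L743230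
theorem L743234 : sm gb N55324 = N54057 := ded_25_1 (flp_h L729414) (flp_b L726167) L743230
theorem L743236 : sm gc N55324 = N53738 := ded_32_1 (flp_h L726208) (flp_c L726169) L743230
theorem L743238 : sm gf N55324 = N53742 := ded_47_1 (flp_h L726249) (flp_f L726173) L743230
theorem L743240 : sm gg N55324 = N53735 := ded_50_1 (flp_h L726177) (flp_g L726175) L743230
theorem L743242 : sm gi N55324 = N53813 := ded_54_2 (flp_h L726895) (flp_i L707311) (flp_h L706758) L726163 L743230
theorem L743244 : sm gd N53735 = N55325 := rfl
theorem L743246 : sm ga N55325 = N54424 := ded_12_1 L732127 (flp_a L726179) L743244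
theorem L743248 : sm gf N55325 = N53736 := ded_35_2 (flp_d L726187) (flp_f L726183) L743244
theorem L743250 : sm gi N55325 = N53814 := ded_39_2 (flp_d L726903) (flp_i L726185) L743244
theorem L743252 : sm gh N55325 = N53939 := ded_38_2 L728254 L714205 (flp_d L706768) L726177 L743244
theorem L743254 : sm gc N54096 = N55325 := ded_29_3 L743248 (flp_c L726199) L729739
theorem L743256 : sm gh N53737 = N55326 := rfl
theorem L743258 : sm gf N55326 = N53743 := ded_47_1 (flp_h L726263) (flp_f L726204) L743256
theorem L743260 : sm gj N55326 = N53738 := ded_52_1 (flp_h L726208) (flp_j L726206) L743256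
theorem L743262 : sm gi N55326 = N53818 := ded_54_2 (flp_h L726942) (flp_i L707343) (flp_h L706789) L726201 L743256
theorem L743264 : sm gd N53738 = N55327 := rfl
theorem L743266 : sm gf N55327 = N53744 := ded_35_2 (flp_d L726272) (flp_f L726210) L743264
theorem L743268 : sm gg N55327 = N53739 := ded_36_2 (flp_d L726216) (flp_g L726212) L743264
theorem L743270 : sm gi N55327 = N53819 := ded_39_2 (flp_d L726948) (flp_i L726214) L743264
theorem L743272 : sm gh N55327 = N55327 := ded_38_2 (flp_d L743264) (flp_h L726208) L706793 L726208 L743264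
theorem L743273 : sm gc N53739 = N55328 := rfl
theorem L743275 : sm gf N55328 = N53740 := ded_29_2 (flp_c L726223) (flp_f L726218) L743273
theorem L743277 : sm gh N55328 = N55328 := ded_32_2 (flp_c L743273) L726222 L743273
theorem L743278 : sm gi N55328 = N53820 := ded_33_2 (flp_c L726956) (flp_i L726220) L743273
theorem L743280 : sm gd N55328 = N54096 := ded_27_2 L743254 (flp_d L743244) L726181 L726216 L743273
theorem L743282 : sm ge N53739 = N55329 := rfl
theorem L743284 : sm gh N55329 = N55329 := ded_43_2 (flp_e L743282) L726222 L743282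
theorem L743285 : sm gi N55329 = N53821 := ded_44_2 (flp_e L726962) (flp_i L726220) L743282
theorem L743287 : sm gb N53740 = N55330 := rfl
theorem L743289 : sm gd N55330 = N53829 := ded_20_2 (flp_b L727039) (flp_d L726232) L743287
theorem L743291 : sm ge N55330 = N54092 := ded_21_2 L729712 (flp_e L726225) L743287
theorem L743293 : sm gg N55330 = N53746 := ded_23_2 (flp_b L726293) (flp_g L726227) L743287
theorem L743295 : sm gh N55330 = N55330 := ded_25_2 (flp_b L743287) L726229 L743287
theorem L743296 : sm gi N55330 = N53822 := ded_26_2 (flp_b L726966) (flp_i L726230) L743287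
theorem L743298 : sm gc N55330 = N53826 := ded_19_2 L736172 (flp_c L736161) L718404 L726223 L743287
theorem L743300 : sm gh N53741 = N55331 := rfl
theorem L743302 : sm ga N55331 = N53973 := ded_17_1 (flp_h L728581) (flp_a L726236) L743300
theorem L743304 : sm gb N55331 = N54081 := ded_25_1 (flp_h L729593) (flp_b L726238) L743300
theorem L743306 : sm gc N55331 = N53743 := ded_32_1 (flp_h L726263) (flp_c L726240) L743300
theorem L743308 : sm ge N55331 = N54369 := ded_43_1 (flp_h L731742) (flp_e L726244) L743300
theorem L743310 : sm gg N55331 = N55331 := ded_50_1 (flp_h L743300) L726246 L743300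
theorem L743311 : sm gj N55331 = N53742 := ded_52_1 (flp_h L726249) (flp_j L726247) L743300
theorem L743313 : sm gi N55331 = N53825 := ded_54_2 (flp_h L727000) (flp_i L707417) (flp_h L706823) L726234 L743300
theorem L743315 : sm gd N53743 = N55332 := rfl
theorem L743317 : sm gg N55332 = N55332 := ded_36_2 (flp_d L743315) L726267 L743315
theorem L743318 : sm gj N55332 = N53744 := ded_37_2 (flp_d L726272) (flp_j L726268) L743315
theorem L743320 : sm gi N55332 = N53828 := ded_39_2 (flp_d L727022) (flp_i L726270) L743315
theorem L743322 : sm ge N55332 = N54447 := ded_34_2 (flp_d L732301) (flp_e L717547) L717552 (flp_e L726265) L743315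
theorem L743324 : sm gh N55332 = N55332 := ded_38_2 (flp_d L743315) (flp_h L726263) L706870 L726263 L743315
theorem L743325 : sm gc N53744 = N55333 := rfl
theorem L743327 : sm ge N55333 = N54035 := ded_28_2 (flp_c L735240) L735242 L743325
theorem L743329 : sm gg N55333 = N53745 := ded_30_2 (flp_c L726279) (flp_g L726274) L743325
theorem L743331 : sm gh N55333 = N55333 := ded_32_2 (flp_c L743325) L726278 L743325
theorem L743332 : sm gi N55333 = N53829 := ded_33_2 (flp_c L727031) (flp_i L726276) L743325
theorem L743334 : sm gb N55333 = N53815 := ded_19_1 (flp_c L726908) (flp_b L726881) (flp_c L736199) L736193 L743325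
theorem L743336 : sm gd N55333 = N53822 := ded_27_2 (flp_c L736818) L736808 L726255 L726272 L743325
theorem L743338 : sm gi N53747 = N55334 := rfl
theorem L743340 : sm ga N55334 = N54336 := ded_18_1 (flp_i L731495) (flp_a L726309) L743338
theorem L743342 : sm gb N55334 = N53751 := ded_26_1 (flp_i L726351) (flp_b L726311) L743338
theorem L743344 : sm gd N55334 = N53847 := ded_39_1 L727204 (flp_d L726317) L743338
theorem L743346 : sm ge N55334 = N53748 := ded_44_1 (flp_i L726319) L726307 L743338
theorem L743348 : sm gg N55334 = N53760 := ded_51_1 (flp_i L726444) (flp_g L726313) L743338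
theorem L743350 : sm gj N55334 = N53853 := ded_53_1 L727264 (flp_j L726315) L743338
theorem L743352 : sm gh N53748 = N55335 := rfl
theorem L743354 : sm ga N55335 = N54442 := ded_17_1 (flp_h L732273) (flp_a L726321) L743352
theorem L743356 : sm gb N55335 = N53752 := ded_25_1 (flp_h L726361) (flp_b L726323) L743352
theorem L743358 : sm gf N55335 = N55335 := ded_47_1 (flp_h L743352) L726327 L743352
theorem L743359 : sm gg N55335 = N53761 := ded_50_1 (flp_h L726452) (flp_g L726328) L743352
theorem L743361 : sm gj N55335 = N53851 := ded_52_1 L727241 (flp_j L726330) L743352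
theorem L743363 : sm gd N55335 = N53846 := ded_38_1 (flp_h L727191) L707696 (flp_h L707603) (flp_d L726325) L743352
theorem L743365 : sm gi N53749 = N55336 := rfl
theorem L743367 : sm gb N55336 = N53847 := ded_26_1 L727204 (flp_b L726334) L743365
theorem L743369 : sm gd N55336 = N53751 := ded_39_1 (flp_i L726351) L726332 L743365
theorem L743371 : sm ge N55336 = N53843 := ded_44_1 (flp_i L727151) (flp_e L726340) L743365
theorem L743373 : sm gg N55336 = N53764 := ded_51_1 (flp_i L726481) (flp_g L726336) L743365
theorem L743375 : sm gj N55336 = N53849 := ded_53_1 L727221 (flp_j L726338) L743365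
theorem L743377 : sm gg N53750 = N55337 := rfl
theorem L743379 : sm gb N55337 = N54023 := ded_23_1 (flp_g L735912) L735905 L743377
theorem L743381 : sm gc N55337 = N53753 := ded_30_1 (flp_g L726370) (flp_c L726346) L743377
theorem L743383 : sm gd N55337 = N54059 := ded_36_1 (flp_g L736424) L736428 L743377
theorem L743385 : sm ge N55337 = N55337 := ded_41_1 (flp_g L743377) L726350 L743377
theorem L743386 : sm gh N55337 = N54018 := ded_50_2 (flp_g L735848) L735853 L743377
theorem L743388 : sm gf N55337 = N53765 := ded_45_1 (flp_g L726489) (flp_f L706988) (flp_g L706917) L726344 L743377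
theorem L743390 : sm gi N53750 = N55338 := rfl
theorem L743392 : sm gc N55338 = N53754 := ded_33_1 (flp_i L726375) (flp_c L726346) L743390
theorem L743394 : sm ge N55338 = N55338 := ded_44_1 (flp_i L743390) L726350 L743390
theorem L743395 : sm gf N55338 = N53751 := ded_48_1 (flp_i L726351) L726344 L743390
theorem L743397 : sm gj N55338 = N54371 := ded_53_1 (flp_i L731758) (flp_j L726348) L743390
theorem L743399 : sm gh N53751 = N55339 := rfl
theorem L743401 : sm gc N55339 = N53755 := ded_32_1 (flp_h L726382) (flp_c L726353) L743399
theorem L743403 : sm ge N55339 = N53752 := ded_43_1 (flp_h L726361) (flp_e L726355) L743399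
theorem L743405 : sm gg N55339 = N53767 := ded_50_1 (flp_h L726505) (flp_g L726357) L743399
theorem L743407 : sm gj N55339 = N54372 := ded_52_1 (flp_h L731765) (flp_j L726359) L743399
theorem L743409 : sm gd N53752 = N55340 := rfl
theorem L743411 : sm ga N55340 = N54331 := ded_12_1 (flp_d L742118) L742107 L743409
theorem L743413 : sm gb N55340 = N53846 := ded_20_1 (flp_d L743363) L743356 L743409
theorem L743415 : sm gf N55340 = N55340 := ded_35_2 (flp_d L743409) L726365 L743409
theorem L743416 : sm gg N55340 = N53768 := ded_36_2 (flp_d L726513) (flp_g L726366) L743409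
theorem L743418 : sm gj N55340 = N53848 := ded_37_2 L727213 (flp_j L726368) L743409
theorem L743420 : sm gi N55340 = N54301 := ded_39_2 (flp_d L742856) L742858 L743409
theorem L743422 : sm gc N55340 = N54294 := ded_27_1 (flp_d L741430) L741423 L724386 (flp_c L726363) L743409
theorem L743424 : sm gh N55340 = N53844 := ded_38_2 (flp_d L727163) (flp_h L707633) (flp_d L706925) L726361 L743409
theorem L743426 : sm gi N53753 = N55341 := rfl
theorem L743428 : sm ge N55341 = N55341 := ded_44_1 (flp_i L743426) L726372 L743426
theorem L743429 : sm gf N55341 = N53770 := ded_48_1 (flp_i L726533) (flp_f L726373) L743426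
theorem L743431 : sm gg N55341 = N53754 := ded_51_1 (flp_i L726375) L726370 L743426
theorem L743433 : sm gh N53754 = N55342 := rfl
theorem L743435 : sm ge N55342 = N55342 := ded_43_1 (flp_h L743433) L726377 L743433
theorem L743436 : sm gf N55342 = N53755 := ded_47_1 (flp_h L726382) (flp_f L726378) L743433
theorem L743438 : sm gj N55342 = N54374 := ded_52_1 (flp_h L731780) (flp_j L726380) L743433
theorem L743440 : sm gd N53755 = N55343 := rfl
theorem L743442 : sm gg N55343 = N53772 := ded_36_2 (flp_d L726547) (flp_g L726386) L743440
theorem L743444 : sm gj N55343 = N54375 := ded_37_2 (flp_d L731785) (flp_j L726388) L743440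
theorem L743446 : sm gi N53756 = N55344 := rfl
theorem L743448 : sm ga N55344 = N53760 := ded_18_1 (flp_i L726444) (flp_a L726392) L743446
theorem L743450 : sm gb N55344 = N54312 := ded_26_1 (flp_i L731325) (flp_b L726394) L743446
theorem L743452 : sm gd N55344 = N54330 := ded_39_1 (flp_i L731445) (flp_d L726402) L743446
theorem L743454 : sm ge N55344 = N53757 := ded_44_1 (flp_i L726404) L726390 L743446
theorem L743456 : sm gg N55344 = N54336 := ded_51_1 (flp_i L731495) (flp_g L726396) L743446
theorem L743458 : sm gj N55344 = N53773 := ded_53_1 (flp_i L726551) (flp_j L726398) L743446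
theorem L743460 : sm gh N53757 = N55345 := rfl
theorem L743462 : sm ga N55345 = N53761 := ded_17_1 (flp_h L726452) (flp_a L726406) L743460
theorem L743464 : sm gb N55345 = N54318 := ded_25_1 (flp_h L731362) (flp_b L726408) L743460
theorem L743466 : sm gf N55345 = N53795 := ded_47_1 (flp_h L726723) (flp_f L726412) L743460
theorem L743468 : sm gg N55345 = N54442 := ded_50_1 (flp_h L732273) (flp_g L726414) L743460
theorem L743470 : sm gj N55345 = N53774 := ded_52_1 (flp_h L726559) (flp_j L726416) L743460
theorem L743472 : sm gi N55345 = N54317 := ded_54_2 (flp_h L731356) (flp_i L713002) (flp_h L706962) L726404 L743460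
theorem L743474 : sm gf N53758 = N55346 := rfl
theorem L743476 : sm ga N55346 = N54329 := ded_14_1 (flp_f L731438) (flp_a L726420) L743474
theorem L743478 : sm gb N55346 = N53762 := ded_22_1 (flp_f L726460) (flp_b L726422) L743474
theorem L743480 : sm gc N55346 = N54275 := ded_29_1 (flp_f L731040) (flp_c L726428) L743474
theorem L743482 : sm gd N55346 = N53759 := ded_35_1 (flp_f L726434) L726418 L743474
theorem L743484 : sm gj N55346 = N53775 := ded_46_2 (flp_f L726567) (flp_j L726426) L743474
theorem L743486 : sm gh N55346 = N54065 := ded_47_2 L729492 (flp_h L726432) L743474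
theorem L743488 : sm ge N55346 = N55346 := ded_40_1 (flp_f L743474) L726430 L707672 (flp_e L726430) L743474
theorem L743489 : sm gg N55346 = N54066 := ded_45_2 L729497 (flp_g L718715) L718713 (flp_g L726424) L743474
theorem L743491 : sm gi N53758 = N55347 := rfl
theorem L743493 : sm ga N55347 = N54330 := ded_18_1 (flp_i L731445) (flp_a L726420) L743491
theorem L743495 : sm gb N55347 = N53764 := ded_26_1 (flp_i L726481) (flp_b L726422) L743491
theorem L743497 : sm gc N55347 = N54276 := ded_33_1 (flp_i L731051) (flp_c L726428) L743491
theorem L743499 : sm gd N55347 = N53760 := ded_39_1 (flp_i L726444) L726418 L743491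
theorem L743501 : sm ge N55347 = N53844 := ded_44_1 L727174 (flp_e L726430) L743491
theorem L743503 : sm gg N55347 = N53847 := ded_51_1 L727204 (flp_g L726424) L743491
theorem L743505 : sm gj N55347 = N53776 := ded_53_1 (flp_i L726574) (flp_j L726426) L743491
theorem L743507 : sm gi N53759 = N55348 := rfl
theorem L743509 : sm gb N55348 = N53766 := ded_26_1 (flp_i L726495) (flp_b L726436) L743507
theorem L743511 : sm gc N55348 = N54310 := ded_33_1 (flp_i L731311) (flp_c L726438) L743507
theorem L743513 : sm ge N55348 = N53796 := ded_44_1 (flp_i L726734) (flp_e L726442) L743507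
theorem L743515 : sm gf N55348 = N53760 := ded_48_1 (flp_i L726444) L726434 L743507
theorem L743517 : sm gj N55348 = N53778 := ded_53_1 (flp_i L726598) (flp_j L726440) L743507
theorem L743519 : sm gh N53760 = N55349 := rfl
theorem L743521 : sm gb N55349 = N53767 := ded_25_1 (flp_h L726505) (flp_b L726446) L743519
theorem L743523 : sm ge N55349 = N53761 := ded_43_1 (flp_h L726452) (flp_e L726448) L743519
theorem L743525 : sm gj N55349 = N53779 := ded_52_1 (flp_h L726606) (flp_j L726450) L743519
theorem L743527 : sm gd N53761 = N55350 := rfl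
theorem L743529 : sm gb N55350 = N53768 := ded_20_1 (flp_d L726513) (flp_b L726454) L743527
theorem L743531 : sm gf N55350 = N53798 := ded_35_2 (flp_d L726756) (flp_f L726456) L743527
theorem L743533 : sm gg N55350 = N53846 := ded_36_2 (flp_d L743363) L743359 L743527
theorem L743535 : sm gj N55350 = N53780 := ded_37_2 (flp_d L726614) (flp_j L726458) L743527
theorem L743537 : sm gi N55350 = N54305 := ded_39_2 (flp_d L742910) L742912 L743527
theorem L743539 : sm gh N55350 = N53843 := ded_38_2 L727155 L707631 (flp_d L706976) L726452 L743527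
theorem L743541 : sm gg N53762 = N55351 := rfl
theorem L743543 : sm gb N55351 = N54066 := ded_23_1 (flp_g L743489) L743478 L743541
theorem L743545 : sm gd N55351 = N53765 := ded_36_1 (flp_g L726489) (flp_d L726462) L743541
theorem L743547 : sm ge N55351 = N55351 := ded_41_1 (flp_g L743541) L726466 L743541
theorem L743548 : sm gf N55351 = N54059 := ded_45_1 (flp_g L736424) L736422 L726336 L726460 L743541
theorem L743550 : sm gh N54058 = N55351 := ded_25_0 L743543 (flp_h L729494) (flp_b L729424)
theorem L743552 : sm gh N53762 = N55352 := rfl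
theorem L743554 : sm ga N55352 = N54342 := ded_17_1 (flp_h L742151) L742143 L743552
theorem L743556 : sm gb N55352 = N54065 := ded_25_1 (flp_h L743486) L743478 L743552
theorem L743558 : sm ge N55352 = N55352 := ded_43_1 (flp_h L743552) L726466 L743552
theorem L743559 : sm gf N55352 = N53763 := ded_47_1 (flp_h L726467) L726460 L743552
theorem L743561 : sm gg N55352 = N54058 := ded_50_1 L743550 (flp_g L743541) L743552
theorem L743563 : sm gj N55352 = N53782 := ded_52_1 (flp_h L726633) (flp_j L726464) L743552
theorem L743565 : sm gd N55352 = N54061 := ded_38_1 L729453 (flp_d L725872) L725876 (flp_d L726462) L743552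
theorem L743567 : sm gi N53762 = N55353 := rfl
theorem L743569 : sm gd N55353 = N53766 := ded_39_1 (flp_i L726495) (flp_d L726462) L743567
theorem L743571 : sm ge N55353 = N55353 := ded_44_1 (flp_i L743567) L726466 L743567
theorem L743572 : sm gf N55353 = N53764 := ded_48_1 (flp_i L726481) L726460 L743567
theorem L743574 : sm gj N55353 = N53783 := ded_53_1 (flp_i L726638) (flp_j L726464) L743567
theorem L743576 : sm gi N53763 = N55354 := rfl
theorem L743578 : sm ga N55354 = N54343 := ded_18_1 (flp_i L731544) (flp_a L726469) L743576
theorem L743580 : sm gb N55354 = N54300 := ded_26_1 (flp_i L731229) (flp_b L726471) L743576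
theorem L743582 : sm gd N55354 = N54339 := ded_39_1 (flp_i L731519) (flp_d L726479) L743576
theorem L743584 : sm ge N55354 = N53845 := ded_44_1 (flp_i L727178) (flp_e L726473) L743576
theorem L743586 : sm gg N55354 = N54304 := ded_51_1 (flp_i L731263) (flp_g L726475) L743576
theorem L743588 : sm gj N55354 = N53784 := ded_53_1 (flp_i L726645) (flp_j L726477) L743576
theorem L743590 : sm gh N53764 = N55355 := rfl
theorem L743592 : sm ge N55355 = N53846 := ded_43_1 (flp_h L727191) (flp_e L726485) L743590
theorem L743594 : sm gj N55355 = N53785 := ded_52_1 (flp_h L726651) (flp_j L726487) L743590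
theorem L743596 : sm gj N53765 = N55356 := rfl
theorem L743598 : sm gb N55356 = N54324 := ded_24_1 (flp_j L742238) L742242 L743596
theorem L743600 : sm gc N55356 = N53769 := ded_31_1 (flp_j L726527) (flp_c L726491) L743596
theorem L743602 : sm ge N55356 = N53799 := ded_42_1 (flp_j L726767) (flp_e L726493) L743596
theorem L743604 : sm gh N55356 = N54321 := ded_52_2 (flp_j L742930) L742926 L743596
theorem L743606 : sm gg N55356 = N53786 := ded_49_1 (flp_j L726657) (flp_g L707095) (flp_j L706992) L726489 L743596
theorem L743608 : sm gi N53765 = N55357 := rfl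
theorem L743610 : sm gc N55357 = N53770 := ded_33_1 (flp_i L726533) (flp_c L726491) L743608
theorem L743612 : sm ge N55357 = N53800 := ded_44_1 (flp_i L726779) (flp_e L726493) L743608
theorem L743614 : sm gg N55357 = N53766 := ded_51_1 (flp_i L726495) L726489 L743608
theorem L743616 : sm gh N53766 = N55358 := rfl
theorem L743618 : sm gc N55358 = N53771 := ded_32_1 (flp_h L726539) (flp_c L726497) L743616
theorem L743620 : sm ge N55358 = N53801 := ded_43_1 (flp_h L726787) (flp_e L726499) L743616
theorem L743622 : sm gf N55358 = N53767 := ded_47_1 (flp_h L726505) (flp_f L726501) L743616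
theorem L743624 : sm gj N55358 = N53788 := ded_52_1 (flp_h L726675) (flp_j L726503) L743616
theorem L743626 : sm gd N53767 = N55359 := rfl
theorem L743628 : sm gj N55359 = N53789 := ded_37_2 (flp_d L726683) (flp_j L726511) L743626
theorem L743630 : sm ge N53768 = N55360 := rfl
theorem L743632 : sm ga N55360 = N54337 := ded_13_1 L731507 (flp_a L726515) L743630
theorem L743634 : sm gc N55360 = N54298 := ded_28_1 L731217 (flp_c L726523) L743630
theorem L743636 : sm gj N55360 = N53790 := ded_42_2 (flp_e L726687) (flp_j L726519) L743630
theorem L743638 : sm gh N55360 = N53847 := ded_43_2 (flp_e L727196) (flp_h L726525) L743630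
theorem L743640 : sm gi N55360 = N54306 := ded_44_2 L731285 (flp_i L726521) L743630
theorem L743642 : sm gi N53769 = N55361 := rfl
theorem L743644 : sm ge N55361 = N53804 := ded_44_1 (flp_i L726814) (flp_e L726529) L743642
theorem L743646 : sm gg N55361 = N53791 := ded_51_1 (flp_i L726699) (flp_g L726531) L743642
theorem L743648 : sm gj N55361 = N53770 := ded_53_1 (flp_i L726533) L726527 L743642
theorem L743650 : sm gh N53770 = N55362 := rfl
theorem L743652 : sm ge N55362 = N53805 := ded_43_1 (flp_h L726823) (flp_e L726535) L743650
theorem L743654 : sm gg N55362 = N53771 := ded_50_1 (flp_h L726539) (flp_g L726537) L743650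
theorem L743656 : sm gd N53771 = N55363 := rfl
theorem L743658 : sm gf N55363 = N53772 := ded_35_2 (flp_d L726547) (flp_f L726543) L743656
theorem L743660 : sm gj N55363 = N53793 := ded_37_2 (flp_d L726715) (flp_j L726545) L743656
theorem L743662 : sm gc N53772 = N55364 := rfl
theorem L743664 : sm gj N55364 = N53794 := ded_31_2 (flp_c L726719) (flp_j L726549) L743662
theorem L743666 : sm gh N53773 = N55365 := rfl
theorem L743668 : sm ga N55365 = N53779 := ded_17_1 (flp_h L726606) (flp_a L726553) L743666
theorem L743670 : sm ge N55365 = N53774 := ded_43_1 (flp_h L726559) (flp_e L726555) L743666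
theorem L743672 : sm gg N55365 = N54387 := ded_50_1 (flp_h L731871) (flp_g L726557) L743666
theorem L743674 : sm gg N53775 = N55366 := rfl
theorem L743676 : sm ga N55366 = N54018 := ded_15_1 (flp_g L735848) L735842 L743674
theorem L743678 : sm gb N55366 = N53781 := ded_23_1 (flp_g L726626) (flp_b L726569) L743674
theorem L743680 : sm gd N55366 = N53777 := ded_36_1 (flp_g L726584) (flp_d L726571) L743674
theorem L743682 : sm ge N55366 = N55366 := ded_41_1 (flp_g L743674) L726573 L743674
theorem L743683 : sm gf N55366 = N54388 := ded_45_1 (flp_g L731877) (flp_f L713562) (flp_g L707050) L726567 L743674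
theorem L743685 : sm gi N53775 = N55367 := rfl
theorem L743687 : sm gb N55367 = N53783 := ded_26_1 (flp_i L726638) (flp_b L726569) L743685
theorem L743689 : sm gd N55367 = N53778 := ded_39_1 (flp_i L726598) (flp_d L726571) L743685
theorem L743691 : sm ge N55367 = N55367 := ded_44_1 (flp_i L743685) L726573 L743685
theorem L743692 : sm gf N55367 = N53776 := ded_48_1 (flp_i L726574) L726567 L743685
theorem L743694 : sm gh N53776 = N55368 := rfl
theorem L743696 : sm gb N55368 = N53785 := ded_25_1 (flp_h L726651) (flp_b L726576) L743694
theorem L743698 : sm ge N55368 = N53848 := ded_43_1 (flp_h L727206) (flp_e L726580) L743694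
theorem L743700 : sm gg N55368 = N54381 := ded_50_1 L731837 (flp_g L726582) L743694
theorem L743702 : sm gi N53777 = N55369 := rfl
theorem L743704 : sm ga N55369 = N54020 := ded_18_1 (flp_i L729070) (flp_a L726586) L743702
theorem L743706 : sm gb N55369 = N53787 := ded_26_1 (flp_i L726665) (flp_b L726588) L743702
theorem L743708 : sm gc N55369 = N54339 := ded_33_1 (flp_i L731519) (flp_c L726590) L743702
theorem L743710 : sm ge N55369 = N53809 := ded_44_1 (flp_i L726860) (flp_e L726592) L743702
theorem L743712 : sm gf N55369 = N54390 := ded_48_1 (flp_i L731897) (flp_f L726596) L743702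
theorem L743714 : sm gg N55369 = N53778 := ded_51_1 (flp_i L726598) L726584 L743702
theorem L743716 : sm gh N53778 = N55370 := rfl
theorem L743718 : sm gb N55370 = N53788 := ded_25_1 (flp_h L726675) (flp_b L726600) L743716
theorem L743720 : sm ge N55370 = N53810 := ded_43_1 (flp_h L726873) (flp_e L726602) L743716
theorem L743722 : sm gf N55370 = N53779 := ded_47_1 (flp_h L726606) (flp_f L726604) L743716
theorem L743724 : sm gd N53779 = N55371 := rfl
theorem L743726 : sm gb N55371 = N53789 := ded_20_1 (flp_d L726683) (flp_b L726608) L743724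
theorem L743728 : sm gg N55371 = N54392 := ded_36_2 (flp_d L731913) (flp_g L726612) L743724
theorem L743730 : sm ge N53780 = N55372 := rfl
theorem L743732 : sm gb N55372 = N53790 := ded_21_1 (flp_e L726687) (flp_b L726616) L743730
theorem L743734 : sm gg N55372 = N54378 := ded_41_2 L731813 (flp_g L726620) L743730
theorem L743736 : sm gh N55372 = N53849 := ded_43_2 (flp_e L727215) (flp_h L726624) L743730
theorem L743738 : sm gi N55372 = N54311 := ded_44_2 L731323 (flp_i L726622) L743730
theorem L743740 : sm gj N53781 = N55373 := rfl
theorem L743742 : sm ga N55373 = N54039 := ded_16_1 (flp_j L734209) L734201 L743740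
theorem L743744 : sm gc N55373 = N53952 := ded_31_1 (flp_j L735253) L735249 L743740
theorem L743746 : sm gd N55373 = N53786 := ded_37_1 (flp_j L726657) (flp_d L726628) L743740
theorem L743748 : sm ge N55373 = N55373 := ded_42_1 (flp_j L743740) L726630 L743740
theorem L743749 : sm gf N55373 = N53950 := ded_46_1 L728369 (flp_f L726631) L743740
theorem L743751 : sm gh N53781 = N55374 := rfl
theorem L743753 : sm ge N55374 = N55374 := ded_43_1 (flp_h L743751) L726630 L743751
theorem L743754 : sm gf N55374 = N54393 := ded_47_1 (flp_h L731917) (flp_f L726631) L743751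
theorem L743756 : sm gg N55374 = N53782 := ded_50_1 (flp_h L726633) L726626 L743751
theorem L743758 : sm gi N53781 = N55375 := rfl
theorem L743760 : sm gd N55375 = N53787 := ded_39_1 (flp_i L726665) (flp_d L726628) L743758
theorem L743762 : sm ge N55375 = N55375 := ded_44_1 (flp_i L743758) L726630 L743758
theorem L743763 : sm gf N55375 = N54394 := ded_48_1 (flp_i L731923) (flp_f L726631) L743758
theorem L743765 : sm gg N55375 = N53783 := ded_51_1 (flp_i L726638) L726626 L743758
theorem L743767 : sm gi N53782 = N55376 := rfl
theorem L743769 : sm ge N55376 = N55376 := ded_44_1 (flp_i L743767) L726635 L743767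
theorem L743770 : sm gf N55376 = N53784 := ded_48_1 (flp_i L726645) (flp_f L726636) L743767
theorem L743772 : sm gh N53783 = N55377 := rfl
theorem L743774 : sm ge N55377 = N55377 := ded_43_1 (flp_h L743772) L726642 L743772
theorem L743775 : sm gf N55377 = N53785 := ded_47_1 (flp_h L726651) (flp_f L726643) L743772
theorem L743777 : sm gh N53784 = N55378 := rfl
theorem L743779 : sm ge N55378 = N53850 := ded_43_1 (flp_h L727225) (flp_e L726647) L743777
theorem L743781 : sm gg N55378 = N54397 := ded_50_1 (flp_h L731943) (flp_g L726649) L743777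
theorem L743783 : sm gi N55378 = N53785 := ded_54_2 (flp_h L726651) (flp_i L707087) L707081 L726645 L743777
theorem L743785 : sm gd N53785 = N55379 := rfl
theorem L743787 : sm gg N55379 = N54398 := ded_36_2 (flp_d L731949) (flp_g L726655) L743785
theorem L743789 : sm gh N55379 = N53789 := ded_38_2 (flp_d L726683) (flp_h L707111) (flp_d L707089) L726651 L743785
theorem L743791 : sm gi N53786 = N55380 := rfl
theorem L743793 : sm gc N55380 = N53791 := ded_33_1 (flp_i L726699) (flp_c L726659) L743791
theorem L743795 : sm ge N55380 = N53812 := ded_44_1 (flp_i L726886) (flp_e L726661) L743791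
theorem L743797 : sm gf N55380 = N54399 := ded_48_1 (flp_i L731953) (flp_f L726663) L743791
theorem L743799 : sm gj N55380 = N53787 := ded_53_1 (flp_i L726665) L726657 L743791
theorem L743801 : sm gh N53787 = N55381 := rfl
theorem L743803 : sm gc N55381 = N53792 := ded_32_1 (flp_h L726707) (flp_c L726667) L743801
theorem L743805 : sm ge N55381 = N53813 := ded_43_1 (flp_h L726895) (flp_e L726669) L743801
theorem L743807 : sm gf N55381 = N54400 := ded_47_1 (flp_h L731961) (flp_f L726671) L743801
theorem L743809 : sm gg N55381 = N53788 := ded_50_1 (flp_h L726675) (flp_g L726673) L743801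
theorem L743811 : sm gd N53788 = N55382 := rfl
theorem L743813 : sm gf N55382 = N53789 := ded_35_2 (flp_d L726683) (flp_f L726681) L743811
theorem L743815 : sm gc N53789 = N55383 := rfl
theorem L743817 : sm gg N55383 = N54402 := ded_30_2 (flp_c L731973) (flp_g L726685) L743815
theorem L743819 : sm gd N55383 = N53794 := ded_27_2 (flp_c L726719) (flp_d L707153) (flp_c L707113) L726683 L743815
theorem L743821 : sm ge N53789 = N55384 := rfl
theorem L743823 : sm ga N55384 = N54354 := ded_13_1 (flp_e L742334) L742328 L743821
theorem L743825 : sm gg N55384 = N54403 := ded_41_2 (flp_e L731977) (flp_g L726685) L743821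
theorem L743827 : sm gi N55384 = N54314 := ded_44_2 (flp_e L743100) L743098 L743821
theorem L743829 : sm gd N55384 = N53790 := ded_34_1 (flp_e L726687) (flp_d L707119) (flp_e L707115) L726683 L743821
theorem L743831 : sm gf N53790 = N55385 := rfl
theorem L743833 : sm ga N55385 = N54353 := ded_14_1 L731619 (flp_a L726689) L743831
theorem L743835 : sm gc N55385 = N53919 := ded_29_1 L728034 (flp_c L726691) L743831
theorem L743837 : sm gh N55385 = N53854 := ded_47_2 (flp_f L727268) (flp_h L726695) L743831
theorem L743839 : sm gi N55385 = N53925 := ded_48_2 L728104 (flp_i L726697) L743831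
theorem L743841 : sm ge N55385 = N53817 := ded_40_1 (flp_f L726932) (flp_e L707331) (flp_f L707123) L726687 L743831
theorem L743843 : sm gh N53791 = N55386 := rfl
theorem L743845 : sm ge N55386 = N53818 := ded_43_1 (flp_h L726942) (flp_e L726701) L743843
theorem L743847 : sm gf N55386 = N54405 := ded_47_1 (flp_h L731987) (flp_f L726703) L743843
theorem L743849 : sm gj N55386 = N53792 := ded_52_1 (flp_h L726707) (flp_j L726705) L743843
theorem L743851 : sm gd N53792 = N55387 := rfl
theorem L743853 : sm gf N55387 = N54406 := ded_35_2 (flp_d L731993) (flp_f L726711) L743851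
theorem L743855 : sm gg N55387 = N53793 := ded_36_2 (flp_d L726715) (flp_g L726713) L743851
theorem L743857 : sm gc N53793 = N55388 := rfl
theorem L743859 : sm gf N55388 = N53794 := ded_29_2 (flp_c L726719) (flp_f L726717) L743857
theorem L743861 : sm ge N53793 = N55389 := rfl
theorem L743863 : sm gd N55389 = N53821 := ded_34_1 (flp_e L726962) (flp_d L707357) (flp_e L707149) L726715 L743861
theorem L743865 : sm gb N53794 = N55390 := rfl
theorem L743867 : sm gg N55390 = N54408 := ded_23_2 (flp_b L732001) (flp_g L726721) L743865
theorem L743869 : sm gh N53796 = N55391 := rfl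
theorem L743871 : sm gb N55391 = N53801 := ded_25_1 (flp_h L726787) (flp_b L726736) L743869
theorem L743873 : sm gc N55391 = N54317 := ded_32_1 (flp_h L731356) (flp_c L726738) L743869
theorem L743875 : sm gf N55391 = N53797 := ded_47_1 (flp_h L726745) (flp_f L726741) L743869
theorem L743877 : sm gj N55391 = N53810 := ded_52_1 (flp_h L726873) (flp_j L726743) L743869
theorem L743879 : sm gd N53797 = N55392 := rfl
theorem L743881 : sm gb N55392 = N53802 := ded_20_1 (flp_d L726795) (flp_b L726747) L743879
theorem L743883 : sm gg N55392 = N55392 := ded_36_2 (flp_d L743879) L726753 L743879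
theorem L743884 : sm gj N55392 = N53811 := ded_37_2 (flp_d L726879) (flp_j L726754) L743879
theorem L743886 : sm gh N55392 = N55392 := ded_38_2 (flp_d L743879) (flp_h L726745) L707183 L726745 L743879
theorem L743887 : sm gi N53799 = N55393 := rfl
theorem L743889 : sm gb N55393 = N54438 := ded_26_1 (flp_i L732255) (flp_b L726769) L743887
theorem L743891 : sm gc N55393 = N53804 := ded_33_1 (flp_i L726814) (flp_c L726771) L743887
theorem L743893 : sm gd N55393 = N55393 := ded_39_1 (flp_i L743887) L726773 L743887
theorem L743894 : sm gf N55393 = N55393 := ded_48_1 (flp_i L743887) L726774 L743887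
theorem L743895 : sm gg N55393 = N53812 := ded_51_1 (flp_i L726886) (flp_g L726777) L743887
theorem L743897 : sm gj N55393 = N53800 := ded_53_1 (flp_i L726779) L726767 L743887
theorem L743899 : sm gh N53800 = N55394 := rfl
theorem L743901 : sm gc N55394 = N53805 := ded_32_1 (flp_h L726823) (flp_c L726781) L743899
theorem L743903 : sm gf N55394 = N55394 := ded_47_1 (flp_h L743899) L726784 L743899
theorem L743904 : sm gg N55394 = N53801 := ded_50_1 (flp_h L726787) (flp_g L726785) L743899
theorem L743906 : sm gd N53801 = N55395 := rfl
theorem L743908 : sm gf N55395 = N53802 := ded_35_2 (flp_d L726795) (flp_f L726791) L743906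
theorem L743910 : sm gj N55395 = N53814 := ded_37_2 (flp_d L726903) (flp_j L726793) L743906
theorem L743912 : sm gh N55395 = N55395 := ded_38_2 (flp_d L743906) (flp_h L726787) L707206 L726787 L743906
theorem L743913 : sm gc N53802 = N55396 := rfl
theorem L743915 : sm gg N55396 = N55396 := ded_30_2 (flp_c L743913) L726797 L743913
theorem L743916 : sm gj N55396 = N53815 := ded_31_2 (flp_c L726908) (flp_j L726798) L743913
theorem L743918 : sm gh N55396 = N55396 := ded_32_2 (flp_c L743913) L726800 L743913
theorem L743919 : sm gi N55396 = N54087 := ded_33_2 L743172 L743166 L743913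
theorem L743921 : sm gd N55396 = N53807 := ded_27_2 (flp_c L726836) (flp_d L707253) (flp_c L707213) L726795 L743913
theorem L743923 : sm ge N54032 = N55396 := ded_42_3 L743916 (flp_e L726917) (flp_j L729179)
theorem L743925 : sm ge N53802 = N55397 := rfl
theorem L743927 : sm ga N55397 = N54361 := ded_13_1 (flp_e L742385) L742376 L743925
theorem L743929 : sm gc N55397 = N54032 := ded_28_1 L743923 (flp_c L743913) L743925
theorem L743931 : sm gg N55397 = N55397 := ded_41_2 (flp_e L743925) L726797 L743925
theorem L743932 : sm gj N55397 = N53816 := ded_42_2 (flp_e L726919) (flp_j L726798) L743925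
theorem L743934 : sm gh N55397 = N55397 := ded_43_2 (flp_e L743925) L726800 L743925
theorem L743935 : sm gi N55397 = N53930 := ded_44_2 (flp_e L743168) L743166 L743925
theorem L743937 : sm gd N55397 = N53803 := ded_34_1 (flp_e L726801) (flp_d L707220) (flp_e L707215) L726795 L743925
theorem L743939 : sm gh N53804 = N55398 := rfl
theorem L743941 : sm gf N55398 = N55398 := ded_47_1 (flp_h L743939) L726818 L743939
theorem L743942 : sm gg N55398 = N53818 := ded_50_1 (flp_h L726942) (flp_g L726819) L743939
theorem L743944 : sm gj N55398 = N53805 := ded_52_1 (flp_h L726823) (flp_j L726821) L743939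
theorem L743946 : sm gd N53805 = N55399 := rfl
theorem L743948 : sm gf N55399 = N55399 := ded_35_2 (flp_d L743946) L726825 L743946
theorem L743949 : sm gg N55399 = N53806 := ded_36_2 (flp_d L726828) (flp_g L726826) L743946
theorem L743951 : sm gh N55399 = N53832 := ded_38_2 (flp_d L727065) (flp_h L707502) (flp_d L707242) L726823 L743946
theorem L743953 : sm gc N53806 = N55400 := rfl
theorem L743955 : sm gf N55400 = N53807 := ded_29_2 (flp_c L726836) (flp_f L726830) L743953
theorem L743957 : sm gj N55400 = N53820 := ded_31_2 (flp_c L726956) (flp_j L726832) L743953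
theorem L743959 : sm gh N55400 = N53833 := ded_32_2 (flp_c L727071) (flp_h L726834) L743953
theorem L743961 : sm ge N53806 = N55401 := rfl
theorem L743963 : sm gj N55401 = N53821 := ded_42_2 (flp_e L726962) (flp_j L726832) L743961
theorem L743965 : sm gh N55401 = N53834 := ded_43_2 (flp_e L727079) (flp_h L726834) L743961
theorem L743967 : sm gb N53807 = N55402 := rfl
theorem L743969 : sm ge N55402 = N54470 := ded_21_2 L732472 (flp_e L726838) L743967
theorem L743971 : sm gg N55402 = N55402 := ded_23_2 (flp_b L743967) L726840 L743967
theorem L743972 : sm gj N55402 = N53822 := ded_24_2 (flp_b L726966) (flp_j L726841) L743967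
theorem L743974 : sm gh N55402 = N53835 := ded_25_2 (flp_b L727084) (flp_h L726843) L743967
theorem L743976 : sm gi N53808 = N55403 := rfl
theorem L743978 : sm ga N55403 = N54013 := ded_18_1 (flp_i L728997) (flp_a L726847) L743976
theorem L743980 : sm gb N55403 = N53812 := ded_26_1 (flp_i L726886) (flp_b L726849) L743976
theorem L743982 : sm gc N55403 = N53865 := ded_33_1 (flp_i L727407) (flp_c L726851) L743976
theorem L743984 : sm gd N55403 = N55403 := ded_39_1 (flp_i L743976) L726853 L743976
theorem L743985 : sm gf N55403 = N53823 := ded_48_1 (flp_i L726972) (flp_f L726854) L743976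
theorem L743987 : sm gg N55403 = N54438 := ded_51_1 (flp_i L732255) (flp_g L726858) L743976
theorem L743989 : sm gj N55403 = N53809 := ded_53_1 (flp_i L726860) L726845 L743976
theorem L743991 : sm gh N53809 = N55404 := rfl
theorem L743993 : sm ga N55404 = N54021 := ded_17_1 (flp_h L729078) (flp_a L726862) L743991
theorem L743995 : sm gb N55404 = N53813 := ded_25_1 (flp_h L726895) (flp_b L726864) L743991
theorem L743997 : sm gc N55404 = N54340 := ded_32_1 (flp_h L731525) (flp_c L726866) L743991
theorem L743999 : sm gf N55404 = N53824 := ded_47_1 (flp_h L726986) (flp_f L726869) L743991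
theorem L744001 : sm gg N55404 = N53810 := ded_50_1 (flp_h L726873) (flp_g L726871) L743991
theorem L744003 : sm gi N55404 = N54057 := ded_54_2 (flp_h L729414) (flp_i L710506) (flp_h L707275) L726860 L743991
theorem L744005 : sm gd N53810 = N55405 := rfl
theorem L744007 : sm gb N55405 = N53814 := ded_20_1 (flp_d L726903) (flp_b L726875) L744005
theorem L744009 : sm gf N55405 = N53811 := ded_35_2 (flp_d L726879) (flp_f L726877) L744005
theorem L744011 : sm gh N55405 = N55405 := ded_38_2 (flp_d L744005) (flp_h L726873) L707283 L726873 L744005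
theorem L744012 : sm gh N53812 = N55406 := rfl
theorem L744014 : sm gc N55406 = N53818 := ded_32_1 (flp_h L726942) (flp_c L726888) L744012
theorem L744016 : sm gf N55406 = N53825 := ded_47_1 (flp_h L727000) (flp_f L726891) L744012
theorem L744018 : sm gj N55406 = N53813 := ded_52_1 (flp_h L726895) (flp_j L726893) L744012
theorem L744020 : sm gd N53813 = N55407 := rfl
theorem L744022 : sm gf N55407 = N53826 := ded_35_2 (flp_d L727009) (flp_f L726899) L744020
theorem L744024 : sm gg N55407 = N53814 := ded_36_2 (flp_d L726903) (flp_g L726901) L744020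
theorem L744026 : sm gh N55407 = N55407 := ded_38_2 (flp_d L744020) (flp_h L726895) L707315 L726895 L744020
theorem L744027 : sm gc N53814 = N55408 := rfl
theorem L744029 : sm gf N55408 = N53815 := ded_29_2 (flp_c L726908) (flp_f L726905) L744027
theorem L744031 : sm gh N55408 = N55408 := ded_32_2 (flp_c L744027) L726907 L744027
theorem L744032 : sm gi N55408 = N54096 := ded_33_2 L743254 L743250 L744027
theorem L744034 : sm gd N55408 = N53820 := ded_27_2 (flp_c L726956) (flp_d L707357) (flp_c L707322) L726903 L744027
theorem L744036 : sm ge N53814 = N55409 := rfl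
theorem L744038 : sm gh N55409 = N55409 := ded_43_2 (flp_e L744036) L726907 L744036
theorem L744039 : sm gf N53816 = N55410 := rfl
theorem L744041 : sm ga N55410 = N54366 := ded_14_1 L731721 (flp_a L726921) L744039
theorem L744043 : sm gc N55410 = N54027 := ded_29_1 L729128 (flp_c L726923) L744039
theorem L744045 : sm gd N55410 = N53817 := ded_35_1 (flp_f L726932) (flp_d L726930) L744039
theorem L744047 : sm gh N55410 = N55410 := ded_47_2 (flp_f L744039) L726927 L744039
theorem L744048 : sm gi N55410 = N53926 := ded_48_2 L728110 (flp_i L726928) L744039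
theorem L744050 : sm gd N53818 = N55411 := rfl
theorem L744052 : sm gf N55411 = N53828 := ded_35_2 (flp_d L727022) (flp_f L726944) L744050
theorem L744054 : sm gj N55411 = N53819 := ded_37_2 (flp_d L726948) (flp_j L726946) L744050
theorem L744056 : sm gh N55411 = N53836 := ded_38_2 (flp_d L727093) (flp_h L707525) (flp_d L707345) L726942 L744050
theorem L744058 : sm gc N53819 = N55412 := rfl
theorem L744060 : sm gf N55412 = N53829 := ded_29_2 (flp_c L727031) (flp_f L726950) L744058
theorem L744062 : sm gg N55412 = N53820 := ded_30_2 (flp_c L726956) (flp_g L726952) L744058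
theorem L744064 : sm gh N55412 = N53837 := ded_32_2 (flp_c L727100) (flp_h L726954) L744058
theorem L744066 : sm gb N54096 = N55412 := ded_22_3 L744060 (flp_b L727039) L729739
theorem L744068 : sm ge N53819 = N55413 := rfl
theorem L744070 : sm gg N55413 = N53821 := ded_41_2 (flp_e L726962) (flp_g L726952) L744068
theorem L744072 : sm gh N55413 = N53838 := ded_43_2 (flp_e L727110) (flp_h L726954) L744068
theorem L744074 : sm gb N53820 = N55414 := rfl
theorem L744076 : sm gf N55414 = N53822 := ded_22_2 (flp_b L726966) (flp_f L726958) L744074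
theorem L744078 : sm gg N55414 = N54096 := ded_23_2 L744066 L744062 L744074
theorem L744080 : sm gh N55414 = N53839 := ded_25_2 (flp_b L727115) (flp_h L726960) L744074
theorem L744082 : sm ge N53820 = N55415 := rfl
theorem L744084 : sm gc N55415 = N53821 := ded_28_1 (flp_e L726962) L726956 L744082
theorem L744086 : sm gh N55415 = N53840 := ded_43_2 (flp_e L727123) (flp_h L726960) L744082
theorem L744088 : sm ga N53822 = N55416 := rfl
theorem L744090 : sm gc N55416 = N53978 := ded_11_2 (flp_a L736816) L736818 L744088
theorem L744092 : sm ge N55416 = N54426 := ded_13_2 (flp_a L736839) L736845 L744088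
theorem L744094 : sm gg N55416 = N53830 := ded_15_2 (flp_a L727041) (flp_g L726968) L744088
theorem L744096 : sm gh N55416 = N53841 := ded_17_2 (flp_a L727128) (flp_h L726970) L744088
theorem L744098 : sm gb N55416 = N54420 := ded_10_2 (flp_a L734420) L734422 L725466 L726966 L744088
theorem L744100 : sm gh N53823 = N55417 := rfl
theorem L744102 : sm ga N55417 = N54031 := ded_17_1 (flp_h L729163) (flp_a L726974) L744100
theorem L744104 : sm gb N55417 = N53825 := ded_25_1 (flp_h L727000) (flp_b L726976) L744100
theorem L744106 : sm gc N55417 = N54359 := ded_32_1 (flp_h L731651) (flp_c L726978) L744100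
theorem L744108 : sm ge N55417 = N54425 := ded_43_1 (flp_h L732131) (flp_e L726981) L744100
theorem L744110 : sm gg N55417 = N55417 := ded_50_1 (flp_h L744100) L726983 L744100
theorem L744111 : sm gj N55417 = N53824 := ded_52_1 (flp_h L726986) (flp_j L726984) L744100
theorem L744113 : sm gi N55417 = N54081 := ded_54_2 (flp_h L729593) (flp_i L710627) (flp_h L707380) L726972 L744100
theorem L744115 : sm gd N53825 = N55418 := rfl
theorem L744117 : sm gg N55418 = N55418 := ded_36_2 (flp_d L744115) L727006 L744115
theorem L744118 : sm gj N55418 = N53826 := ded_37_2 (flp_d L727009) (flp_j L727007) L744115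
theorem L744120 : sm gh N55418 = N55418 := ded_38_2 (flp_d L744115) (flp_h L727000) L707421 L727000 L744115
theorem L744121 : sm ge N53826 = N55419 := rfl
theorem L744123 : sm gc N55419 = N54092 := ded_28_1 (flp_e L743291) L743298 L744121
theorem L744125 : sm gg N55419 = N53827 := ded_41_2 (flp_e L727014) (flp_g L727011) L744121
theorem L744127 : sm gh N55419 = N55419 := ded_43_2 (flp_e L744121) L727013 L744121
theorem L744128 : sm gd N55419 = N54420 := ded_34_1 L732099 (flp_d L713893) (flp_e L707431) L727009 L744121
theorem L744130 : sm gc N53828 = N55420 := rfl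
theorem L744132 : sm ge N55420 = N54084 := ded_28_2 L729633 (flp_e L727027) L744130
theorem L744134 : sm gg N55420 = N55420 := ded_30_2 (flp_c L744130) L727024 L744130
theorem L744135 : sm gj N55420 = N53829 := ded_31_2 (flp_c L727031) (flp_j L727025) L744130
theorem L744137 : sm gh N55420 = N53842 := ded_32_2 (flp_c L727140) (flp_h L727029) L744130
theorem L744139 : sm gb N54087 = N55420 := ded_21_3 L744132 L729628 L729655
theorem L744141 : sm gd N53831 = N55421 := rfl
theorem L744143 : sm gf N55421 = N55421 := ded_35_2 (flp_d L744141) L727059 L744141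
theorem L744144 : sm gg N55421 = N53836 := ded_36_2 (flp_d L727093) (flp_g L727060) L744141
theorem L744146 : sm gj N55421 = N53832 := ded_37_2 (flp_d L727065) (flp_j L727062) L744141
theorem L744148 : sm gi N55421 = N55421 := ded_39_2 (flp_d L744141) L727064 L744141
theorem L744149 : sm gc N53832 = N55422 := rfl
theorem L744151 : sm gf N55422 = N55422 := ded_29_2 (flp_c L744149) L727067 L744149
theorem L744152 : sm gg N55422 = N53833 := ded_30_2 (flp_c L727071) (flp_g L727068) L744149
theorem L744154 : sm gi N55422 = N55422 := ded_33_2 (flp_c L744149) L727070 L744149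
theorem L744155 : sm gd N55422 = N55422 := ded_27_2 (flp_c L744149) (flp_d L727065) L707504 L727065 L744149
theorem L744156 : sm ge N53832 = N55423 := rfl
theorem L744158 : sm gg N55423 = N53834 := ded_41_2 (flp_e L727079) (flp_g L727068) L744156
theorem L744160 : sm gi N55423 = N55423 := ded_44_2 (flp_e L744156) L727070 L744156
theorem L744161 : sm gb N53833 = N55424 := rfl
theorem L744163 : sm gd N55424 = N55424 := ded_20_2 (flp_b L744161) L727078 L744161
theorem L744164 : sm gf N55424 = N53835 := ded_22_2 (flp_b L727084) (flp_f L727073) L744161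
theorem L744166 : sm gj N55424 = N53839 := ded_24_2 (flp_b L727115) (flp_j L727075) L744161
theorem L744168 : sm gi N55424 = N55424 := ded_26_2 (flp_b L744161) L727077 L744161
theorem L744169 : sm ge N53833 = N55425 := rfl
theorem L744171 : sm gc N55425 = N53834 := ded_28_1 (flp_e L727079) L727071 L744169
theorem L744173 : sm gj N55425 = N53840 := ded_42_2 (flp_e L727123) (flp_j L727075) L744169
theorem L744175 : sm gi N55425 = N55425 := ded_44_2 (flp_e L744169) L727077 L744169
theorem L744176 : sm gf N55425 = N54441 := ded_40_2 (flp_e L732270) L714045 (flp_e L707518) (flp_f L727073) L744169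
theorem L744178 : sm ga N53835 = N55426 := rfl
theorem L744180 : sm gc N55426 = N53997 := ded_11_2 (flp_a L736926) L736928 L744178
theorem L744182 : sm gd N55426 = N55426 := ded_12_2 (flp_a L744178) L727086 L744178
theorem L744183 : sm ge N55426 = N54460 := ded_13_2 L732408 (flp_e L727087) L744178
theorem L744185 : sm gg N55426 = N55426 := ded_15_2 (flp_a L744178) L727089 L744178
theorem L744186 : sm gj N55426 = N53841 := ded_16_2 (flp_a L727128) (flp_j L727090) L744178
theorem L744188 : sm gi N55426 = N55426 := ded_18_2 (flp_a L744178) L727092 L744178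
theorem L744189 : sm gb N55426 = N54461 := ded_10_2 (flp_a L734696) L734698 L725504 L727084 L744178
theorem L744191 : sm gc N53836 = N55427 := rfl
theorem L744193 : sm gf N55427 = N53842 := ded_29_2 (flp_c L727140) (flp_f L727095) L744191
theorem L744195 : sm gj N55427 = N53837 := ded_31_2 (flp_c L727100) (flp_j L727097) L744191
theorem L744197 : sm gi N55427 = N55427 := ded_33_2 (flp_c L744191) L727099 L744191
theorem L744198 : sm gd N55427 = N55427 := ded_27_2 (flp_c L744191) (flp_d L727093) L707527 L727093 L744191
theorem L744199 : sm gb N54117 = N55427 := ded_22_3 L744193 (flp_b L727149) L729886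
theorem L744201 : sm ge N53836 = N55428 := rfl
theorem L744203 : sm gj N55428 = N53838 := ded_42_2 (flp_e L727110) (flp_j L727097) L744201
theorem L744205 : sm gi N55428 = N55428 := ded_44_2 (flp_e L744201) L727099 L744201
theorem L744206 : sm gd N55428 = N54245 := ded_34_1 L730822 L712342 (flp_e L707528) L727093 L744201
theorem L744208 : sm gf N55428 = N54244 := ded_40_2 (flp_e L730814) L712304 (flp_e L707563) (flp_f L727095) L744201
theorem L744210 : sm ge N53837 = N55429 := rfl
theorem L744212 : sm gb N55429 = N54116 := ded_21_1 L729884 L727108 L744210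
theorem L744214 : sm gc N55429 = N53838 := ded_28_1 (flp_e L727110) L727100 L744210
theorem L744216 : sm gg N55429 = N53840 := ded_41_2 (flp_e L727123) (flp_g L727104) L744210
theorem L744218 : sm gi N55429 = N55429 := ded_44_2 (flp_e L744210) L727106 L744210
theorem L744219 : sm gf N55429 = N54112 := ded_40_2 (flp_e L729861) L711007 (flp_e L707567) (flp_f L727102) L744210
theorem L744221 : sm ga N53839 = N55430 := rfl
theorem L744223 : sm gc N55430 = N53992 := ded_11_2 (flp_a L736968) L736970 L744221
theorem L744225 : sm gd N55430 = N55430 := ded_12_2 (flp_a L744221) L727117 L744221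
theorem L744226 : sm gf N55430 = N53841 := ded_14_2 (flp_a L727128) (flp_f L727118) L744221
theorem L744228 : sm gg N55430 = N54000 := ded_15_2 L728867 (flp_g L727120) L744221
theorem L744230 : sm gi N55430 = N55430 := ded_18_2 (flp_a L744221) L727122 L744221
theorem L744231 : sm gb N55430 = N54465 := ded_10_2 (flp_a L734709) L734711 L725515 L727115 L744221
theorem L744233 : sm ge N53839 = N55431 := rfl
theorem L744235 : sm gb N55431 = N53840 := ded_21_1 (flp_e L727123) L727115 L744233
theorem L744237 : sm gg N55431 = N54116 := ded_41_2 L729884 (flp_g L727120) L744233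
theorem L744239 : sm gi N55431 = N55431 := ded_44_2 (flp_e L744233) L727122 L744233
theorem L744240 : sm gd N53840 = N55432 := rfl
theorem L744242 : sm gi N55432 = N55432 := ded_39_2 (flp_d L744240) L727127 L744240
theorem L744243 : sm ge N55432 = N55432 := ded_34_2 (flp_d L744240) (flp_e L727123) L707547 L727123 L744240
theorem L744244 : sm gh N53845 = N55433 := rfl
theorem L744246 : sm ga N55433 = N54444 := ded_17_1 (flp_h L732284) (flp_a L727180) L744244
theorem L744248 : sm gb N55433 = N54301 := ded_25_1 (flp_h L731239) (flp_b L727182) L744244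
theorem L744250 : sm gf N55433 = N55433 := ded_47_1 (flp_h L744244) L727186 L744244
theorem L744251 : sm gg N55433 = N54305 := ded_50_1 (flp_h L731271) (flp_g L727187) L744244
theorem L744253 : sm gj N55433 = N53850 := ded_52_1 (flp_h L727225) (flp_j L727189) L744244
theorem L744255 : sm gi N55433 = N53846 := ded_54_2 (flp_h L727191) (flp_i L707694) L707681 L727178 L744244
theorem L744257 : sm gd N53850 = N55434 := rfl
theorem L744259 : sm ga N55434 = N54445 := ded_12_1 (flp_d L742546) L742537 L744257
theorem L744261 : sm gb N55434 = N54331 := ded_20_1 (flp_d L742118) L742109 L744257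
theorem L744263 : sm gf N55434 = N55434 := ded_35_2 (flp_d L744257) L727227 L744257
theorem L744264 : sm gg N55434 = N54335 := ded_36_2 L731491 (flp_g L727228) L744257
theorem L744266 : sm gi N55434 = N53851 := ded_39_2 (flp_d L727232) (flp_i L727230) L744257
theorem L744268 : sm gh N55434 = N53867 := ded_38_2 (flp_d L727431) (flp_h L708184) (flp_d L707765) L727225 L744257
theorem L744270 : sm gc N53851 = N55435 := rfl
theorem L744272 : sm ga N55435 = N54439 := ded_11_1 L732263 (flp_a L727234) L744270
theorem L744274 : sm gf N55435 = N55435 := ded_29_2 (flp_c L744270) L727238 L744270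
theorem L744275 : sm gg N55435 = N54046 := ded_30_2 L729319 (flp_g L727239) L744270
theorem L744277 : sm gh N55435 = N53852 := ded_32_2 (flp_c L727243) (flp_h L727241) L744270
theorem L744279 : sm gb N55435 = N54041 := ded_19_1 L729273 L710423 (flp_c L713431) (flp_b L727236) L744270
theorem L744281 : sm ge N53851 = N55436 := rfl
theorem L744283 : sm ga N55436 = N54350 := ded_13_1 L731595 (flp_a L727234) L744281
theorem L744285 : sm gb N55436 = N54372 := ded_21_1 L731769 (flp_b L727236) L744281
theorem L744287 : sm gg N55436 = N54377 := ded_41_2 L731805 (flp_g L727239) L744281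
theorem L744289 : sm gh N55436 = N53853 := ded_43_2 (flp_e L727256) (flp_h L727241) L744281
theorem L744291 : sm ge N53852 = N55437 := rfl
theorem L744293 : sm ga N55437 = N54325 := ded_13_1 L731420 (flp_a L727245) L744291
theorem L744295 : sm gb N55437 = N54040 := ded_21_1 L729267 (flp_b L727252) L744291
theorem L744297 : sm gc N55437 = N53853 := ded_28_1 (flp_e L727256) L727243 L744291
theorem L744299 : sm gg N55437 = N54045 := ded_41_2 L729311 (flp_g L727248) L744291
theorem L744301 : sm gi N55437 = N53870 := ded_44_2 (flp_e L727466) (flp_i L727250) L744291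
theorem L744303 : sm gd N55437 = N54295 := ded_34_1 L731197 L712789 (flp_e L707800) (flp_d L727254) L744291
theorem L744305 : sm gf N53853 = N55438 := rfl
theorem L744307 : sm ga N55438 = N54348 := ded_14_1 L731585 (flp_a L727258) L744305
theorem L744309 : sm gb N55438 = N54371 := ded_22_1 L731763 (flp_b L727260) L744305
theorem L744311 : sm gd N55438 = N53854 := ded_35_1 (flp_f L727268) (flp_d L727266) L744305
theorem L744313 : sm gi N55438 = N53871 := ded_48_2 (flp_f L727478) (flp_i L727264) L744305
theorem L744315 : sm ge N55438 = N55438 := ded_40_1 (flp_f L744305) (flp_e L727256) L707781 L727256 L744305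
theorem L744316 : sm gd N53855 = N55439 := rfl
theorem L744318 : sm ga N55439 = N53863 := ded_12_1 (flp_d L727387) (flp_a L727280) L744316
theorem L744320 : sm gb N55439 = N54107 := ded_20_1 (flp_d L729833) (flp_b L727282) L744316
theorem L744322 : sm gf N55439 = N55439 := ded_35_2 (flp_d L744316) L727288 L744316
theorem L744323 : sm gg N55439 = N54429 := ded_36_2 (flp_d L732166) (flp_g L727289) L744316
theorem L744325 : sm gj N55439 = N54111 := ded_37_2 (flp_d L729855) (flp_j L727291) L744316
theorem L744327 : sm gi N55439 = N55439 := ded_39_2 (flp_d L744316) L727293 L744316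
theorem L744328 : sm gc N55439 = N54172 := ded_27_1 (flp_d L730324) L711661 (flp_d L707911) (flp_c L727284) L744316
theorem L744330 : sm gh N53856 = N55440 := rfl
theorem L744332 : sm ga N55440 = N53991 := ded_17_1 (flp_h L728780) (flp_a L727296) L744330
theorem L744334 : sm gb N55440 = N53857 := ded_25_1 (flp_h L727308) (flp_b L727298) L744330
theorem L744336 : sm gc N55440 = N55440 := ded_32_1 (flp_h L744330) L727300 L744330
theorem L744337 : sm ge N55440 = N53989 := ded_43_1 (flp_h L728759) (flp_e L727301) L744330
theorem L744339 : sm gf N55440 = N55440 := ded_47_1 (flp_h L744330) L727303 L744330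
theorem L744340 : sm gg N55440 = N54448 := ded_50_1 L732314 (flp_g L727304) L744330
theorem L744342 : sm gj N55440 = N53860 := ded_52_1 (flp_h L727349) (flp_j L727306) L744330
theorem L744344 : sm gi N55440 = N55440 := ded_54_2 (flp_h L744330) (flp_i L727294) L707939 L727294 L744330
theorem L744345 : sm gd N53857 = N55441 := rfl
theorem L744347 : sm ga N55441 = N54111 := ded_12_1 (flp_d L729855) (flp_a L727310) L744345
theorem L744349 : sm gf N55441 = N55441 := ded_35_2 (flp_d L744345) L727316 L744345
theorem L744350 : sm gj N55441 = N53863 := ded_37_2 (flp_d L727387) (flp_j L727317) L744345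
theorem L744352 : sm gi N55441 = N55441 := ded_39_2 (flp_d L744345) L727319 L744345
theorem L744353 : sm gh N53858 = N55442 := rfl
theorem L744355 : sm ga N55442 = N53860 := ded_17_1 (flp_h L727349) (flp_a L727322) L744353
theorem L744357 : sm gb N55442 = N53987 := ded_25_1 (flp_h L728734) (flp_b L727324) L744353
theorem L744359 : sm gc N55442 = N55442 := ded_32_1 (flp_h L744353) L727326 L744353
theorem L744360 : sm ge N55442 = N53985 := ded_43_1 (flp_h L728711) (flp_e L727327) L744353
theorem L744362 : sm gf N55442 = N55442 := ded_47_1 (flp_h L744353) L727329 L744353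
theorem L744363 : sm gg N55442 = N54434 := ded_50_1 (flp_h L732220) (flp_g L727330) L744353
theorem L744365 : sm gj N55442 = N53991 := ded_52_1 (flp_h L728780) (flp_j L727332) L744353
theorem L744367 : sm gi N55442 = N55442 := ded_54_2 (flp_h L744353) (flp_i L727320) L707973 L727320 L744353
theorem L744368 : sm gh N53859 = N55443 := rfl
theorem L744370 : sm ga N55443 = N53985 := ded_17_1 (flp_h L728711) (flp_a L727336) L744368
theorem L744372 : sm gb N55443 = N53862 := ded_25_1 (flp_h L727372) (flp_b L727338) L744368
theorem L744374 : sm gc N55443 = N55443 := ded_32_1 (flp_h L744368) L727340 L744368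
theorem L744375 : sm ge N55443 = N53860 := ded_43_1 (flp_h L727349) (flp_e L727341) L744368
theorem L744377 : sm gf N55443 = N53996 := ded_47_1 (flp_h L728824) (flp_f L727343) L744368
theorem L744379 : sm gg N55443 = N54436 := ded_50_1 (flp_h L732239) (flp_g L727345) L744368
theorem L744381 : sm gj N55443 = N53989 := ded_52_1 (flp_h L728759) (flp_j L727347) L744368
theorem L744383 : sm gi N55443 = N55443 := ded_54_2 (flp_h L744368) (flp_i L727334) L707989 L727334 L744368
theorem L744384 : sm gd N53860 = N55444 := rfl
theorem L744386 : sm gb N55444 = N53863 := ded_20_1 (flp_d L727387) (flp_b L727351) L744384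
theorem L744388 : sm gf N55444 = N55444 := ded_35_2 (flp_d L744384) L727354 L744384
theorem L744389 : sm gg N55444 = N54437 := ded_36_2 (flp_d L732248) (flp_g L727355) L744384
theorem L744391 : sm gi N55444 = N55444 := ded_39_2 (flp_d L744384) L727357 L744384
theorem L744392 : sm gh N53861 = N55445 := rfl
theorem L744394 : sm ga N55445 = N54046 := ded_17_1 (flp_h L729315) (flp_a L727360) L744392
theorem L744396 : sm gc N55445 = N53866 := ded_32_1 (flp_h L727419) (flp_c L727362) L744392
theorem L744398 : sm gf N55445 = N54081 := ded_47_1 (flp_h L729593) (flp_f L727366) L744392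
theorem L744400 : sm gg N55445 = N54439 := ded_50_1 (flp_h L732261) (flp_g L727368) L744392
theorem L744402 : sm gj N55445 = N54057 := ded_52_1 (flp_h L729414) (flp_j L727370) L744392
theorem L744404 : sm ge N53863 = N55446 := rfl
theorem L744406 : sm gg N55446 = N54441 := ded_41_2 (flp_e L732270) (flp_g L727390) L744404
theorem L744408 : sm gi N55446 = N55446 := ded_44_2 (flp_e L744404) L727392 L744404
theorem L744409 : sm gh N53864 = N55447 := rfl
theorem L744411 : sm ga N55447 = N54305 := ded_17_1 (flp_h L731271) (flp_a L727395) L744409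
theorem L744413 : sm gb N55447 = N53866 := ded_25_1 (flp_h L727419) (flp_b L727397) L744409
theorem L744415 : sm gf N55447 = N54316 := ded_47_1 (flp_h L731345) (flp_f L727401) L744409
theorem L744417 : sm gg N55447 = N54444 := ded_50_1 (flp_h L732284) (flp_g L727403) L744409
theorem L744419 : sm gj N55447 = N54309 := ded_52_1 (flp_h L731303) (flp_j L727405) L744409
theorem L744421 : sm gd N55447 = N54317 := ded_38_1 (flp_h L731356) L713006 (flp_h L708109) (flp_d L727399) L744409
theorem L744423 : sm gh N53865 = N55448 := rfl
theorem L744425 : sm ga N55448 = N54335 := ded_17_1 (flp_h L731483) (flp_a L727409) L744423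
theorem L744427 : sm gf N55448 = N54359 := ded_47_1 (flp_h L731651) (flp_f L727413) L744423
theorem L744429 : sm gg N55448 = N54445 := ded_50_1 (flp_h L732289) (flp_g L727415) L744423
theorem L744431 : sm gj N55448 = N54340 := ded_52_1 (flp_h L731525) (flp_j L727417) L744423
theorem L744433 : sm gd N55448 = N54318 := ded_38_1 (flp_h L731362) L713014 (flp_h L708148) (flp_d L727411) L744423
theorem L744435 : sm gi N55448 = N53866 := ded_54_2 (flp_h L727419) (flp_i L708123) L708111 L727407 L744423
theorem L744437 : sm gc N53867 = N55449 := rfl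
theorem L744439 : sm ga N55449 = N54438 := ded_11_1 L732257 (flp_a L727433) L744437
theorem L744441 : sm gf N55449 = N55449 := ded_29_2 (flp_c L744437) L727437 L744437
theorem L744442 : sm gg N55449 = N54013 := ded_30_2 L729001 (flp_g L727438) L744437
theorem L744444 : sm gi N55449 = N53868 := ded_33_2 (flp_c L727442) (flp_i L727440) L744437
theorem L744446 : sm gb N55449 = N54009 := ded_19_1 L728960 L710098 (flp_c L713078) (flp_b L727435) L744437
theorem L744448 : sm gd N55449 = N55449 := ded_27_2 (flp_c L744437) (flp_d L727431) L708190 L727431 L744437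
theorem L744449 : sm ge N53867 = N55450 := rfl
theorem L744451 : sm ga N55450 = N54349 := ded_13_1 L731591 (flp_a L727433) L744449
theorem L744453 : sm gb N55450 = N54330 := ded_21_1 L731449 (flp_b L727435) L744449
theorem L744455 : sm gg N55450 = N54334 := ded_41_2 L731479 (flp_g L727438) L744449
theorem L744457 : sm gi N55450 = N53869 := ded_44_2 (flp_e L727454) (flp_i L727440) L744449
theorem L744459 : sm gd N55450 = N54312 := ded_34_1 L731329 L713014 (flp_e L708191) L727431 L744449
theorem L744461 : sm ge N53868 = N55451 := rfl
theorem L744463 : sm ga N55451 = N54324 := ded_13_1 L731412 (flp_a L727444) L744461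
theorem L744465 : sm gb N55451 = N54008 := ded_21_1 (flp_e L728950) (flp_b L727451) L744461
theorem L744467 : sm gc N55451 = N53869 := ded_28_1 (flp_e L727454) L727442 L744461
theorem L744469 : sm gg N55451 = N54012 := ded_41_2 (flp_e L728985) (flp_g L727447) L744461
theorem L744471 : sm gh N55451 = N53870 := ded_43_2 (flp_e L727466) (flp_h L727449) L744461
theorem L744473 : sm gf N53870 = N55452 := rfl
theorem L744475 : sm ga N55452 = N54014 := ded_14_1 L729010 (flp_a L727468) L744473
theorem L744477 : sm gb N55452 = N54039 := ded_22_1 (flp_f L729258) (flp_b L727470) L744473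
theorem L744479 : sm gc N55452 = N53871 := ded_29_1 (flp_f L727478) (flp_c L727472) L744473
theorem L744481 : sm gd N55452 = N53913 := ded_35_1 L727957 (flp_d L727476) L744473
theorem L744483 : sm gj N55452 = N53943 := ded_46_2 (flp_f L734157) L734161 L744473
theorem L744485 : sm ge N55452 = N55452 := ded_40_1 (flp_f L744473) (flp_e L727466) L708213 L727466 L744473
theorem L744486 : sm gd N53872 = N55453 := rfl
theorem L744488 : sm gb N55453 = N53874 := ded_20_1 (flp_d L727515) (flp_b L727489) L744486
theorem L744490 : sm gg N55453 = N54127 := ded_36_2 (flp_d L729970) (flp_g L727495) L744486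
theorem L744492 : sm gj N55453 = N53908 := ded_37_2 (flp_d L727904) (flp_j L727497) L744486
theorem L744494 : sm gi N55453 = N54131 := ded_39_2 (flp_d L729999) (flp_i L727499) L744486
theorem L744496 : sm ge N55453 = N54130 := ded_34_2 (flp_d L729996) L711206 (flp_d L708335) (flp_e L727493) L744486
theorem L744498 : sm gh N55453 = N55453 := ded_38_2 (flp_d L744486) (flp_h L727487) L708318 L727487 L744486
theorem L744499 : sm gd N53873 = N55454 := rfl
theorem L744501 : sm ga N55454 = N54130 := ded_12_1 (flp_d L729996) (flp_a L727503) L744499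
theorem L744503 : sm gf N55454 = N53874 := ded_35_2 (flp_d L727515) (flp_f L727509) L744499
theorem L744505 : sm gj N55454 = N53910 := ded_37_2 (flp_d L727915) (flp_j L727511) L744499
theorem L744507 : sm gi N55454 = N54129 := ded_39_2 (flp_d L729986) (flp_i L727513) L744499
theorem L744509 : sm gc N55454 = N54127 := ded_27_1 (flp_d L729970) (flp_c L714768) L714778 (flp_c L727505) L744499
theorem L744511 : sm gh N55454 = N55454 := ded_38_2 (flp_d L744499) (flp_h L727501) L708343 L727501 L744499
theorem L744512 : sm gh N53875 = N55455 := rfl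
theorem L744514 : sm ga N55455 = N53889 := ded_17_1 (flp_h L727690) (flp_a L727526) L744512
theorem L744516 : sm gb N55455 = N54151 := ded_25_1 (flp_h L730182) (flp_b L727528) L744512
theorem L744518 : sm ge N55455 = N53876 := ded_43_1 (flp_h L727538) (flp_e L727532) L744512
theorem L744520 : sm gf N55455 = N54179 := ded_47_1 (flp_h L730372) (flp_f L727534) L744512
theorem L744522 : sm gj N55455 = N53881 := ded_52_1 (flp_h L727604) (flp_j L727536) L744512
theorem L744524 : sm gi N55455 = N53877 := ded_54_2 (flp_h L727552) (flp_i L708428) (flp_h L708380) L727524 L744512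
theorem L744526 : sm gd N53877 = N55456 := rfl
theorem L744528 : sm ga N55456 = N54224 := ded_12_1 (flp_d L730682) (flp_a L727554) L744526
theorem L744530 : sm gb N55456 = N54163 := ded_20_1 (flp_d L730270) (flp_b L727556) L744526
theorem L744532 : sm gf N55456 = N54187 := ded_35_2 (flp_d L730436) (flp_f L727560) L744526
theorem L744534 : sm ge N55456 = N53900 := ded_34_2 (flp_d L727821) L708750 (flp_d L708448) (flp_e L727558) L744526
theorem L744536 : sm gh N55456 = N53927 := ded_38_2 (flp_d L728116) (flp_h L709119) (flp_d L708434) L727552 L744526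
theorem L744538 : sm gh N53878 = N55457 := rfl
theorem L744540 : sm ga N55457 = N54162 := ded_17_1 (flp_h L730262) (flp_a L727564) L744538
theorem L744542 : sm gb N55457 = N53881 := ded_25_1 (flp_h L727604) (flp_b L727566) L744538
theorem L744544 : sm ge N55457 = N53879 := ded_43_1 (flp_h L727576) (flp_e L727570) L744538
theorem L744546 : sm gf N55457 = N54141 := ded_47_1 (flp_h L730101) (flp_f L727572) L744538
theorem L744548 : sm gj N55457 = N54151 := ded_52_1 (flp_h L730182) (flp_j L727574) L744538
theorem L744550 : sm gi N55457 = N54155 := ded_54_2 (flp_h L730211) (flp_i L711534) (flp_h L708470) L727562 L744538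
theorem L744552 : sm gh N53880 = N55458 := rfl
theorem L744554 : sm ga N55458 = N53899 := ded_17_1 (flp_h L727809) (flp_a L727592) L744552
theorem L744556 : sm gb N55458 = N54141 := ded_25_1 (flp_h L730101) (flp_b L727594) L744552
theorem L744558 : sm ge N55458 = N53882 := ded_43_1 (flp_h L727610) (flp_e L727598) L744552
theorem L744560 : sm gf N55458 = N53881 := ded_47_1 (flp_h L727604) (flp_f L727600) L744552
theorem L744562 : sm gj N55458 = N54179 := ded_52_1 (flp_h L730372) (flp_j L727602) L744552
theorem L744564 : sm gi N55458 = N54184 := ded_54_2 (flp_h L730412) (flp_i L711758) (flp_h L708514) L727590 L744552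
theorem L744566 : sm gd N53881 = N55459 := rfl
theorem L744568 : sm ga N55459 = N53900 := ded_12_1 (flp_d L727821) (flp_a L727606) L744566
theorem L744570 : sm ge N55459 = N54224 := ded_34_2 (flp_d L730682) L712083 (flp_d L708532) (flp_e L727608) L744566
theorem L744572 : sm gh N55459 = N53972 := ded_38_2 (flp_d L728575) (flp_h L709641) (flp_d L708522) L727604 L744566
theorem L744574 : sm gd N53883 = N55460 := rfl
theorem L744576 : sm gb N55460 = N54197 := ded_20_1 (flp_d L730501) (flp_b L727626) L744574
theorem L744578 : sm gf N55460 = N54209 := ded_35_2 (flp_d L730586) (flp_f L727630) L744574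
theorem L744580 : sm gj N55460 = N54224 := ded_37_2 (flp_d L730682) (flp_j L727632) L744574
theorem L744582 : sm gi N55460 = N53900 := ded_39_2 (flp_d L727821) (flp_i L727634) L744574
theorem L744584 : sm gh N55460 = N54384 := ded_38_2 (flp_d L731853) (flp_h L713532) (flp_d L708566) L727624 L744574
theorem L744586 : sm gh N53885 = N55461 := rfl
theorem L744588 : sm gb N55461 = N54204 := ded_25_1 (flp_h L730548) (flp_b L727650) L744586
theorem L744590 : sm ge N55461 = N53886 := ded_43_1 (flp_h L727658) (flp_e L727654) L744586
theorem L744592 : sm gg N55461 = N53889 := ded_50_1 (flp_h L727690) (flp_g L727656) L744586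
theorem L744594 : sm gi N55461 = N54223 := ded_54_2 (flp_h L730676) (flp_i L712073) (flp_h L708612) L727648 L744586
theorem L744596 : sm gh N53887 = N55462 := rfl
theorem L744598 : sm gc N55462 = N53889 := ded_32_1 (flp_h L727690) (flp_c L727672) L744596
theorem L744600 : sm ge N55462 = N53888 := ded_43_1 (flp_h L727680) (flp_e L727674) L744596
theorem L744602 : sm gf N55462 = N54195 := ded_47_1 (flp_h L730486) (flp_f L727676) L744596
theorem L744604 : sm gj N55462 = N53897 := ded_52_1 (flp_h L727793) (flp_j L727678) L744596
theorem L744606 : sm gi N55462 = N54219 := ded_54_2 (flp_h L730654) (flp_i L712047) (flp_h L708632) L727670 L744596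
theorem L744608 : sm gd N53889 = N55463 := rfl
theorem L744610 : sm gb N55463 = N54209 := ded_20_1 (flp_d L730586) (flp_b L727692) L744608
theorem L744612 : sm gf N55463 = N54197 := ded_35_2 (flp_d L730501) (flp_f L727696) L744608
theorem L744614 : sm gj N55463 = N53900 := ded_37_2 (flp_d L727821) (flp_j L727698) L744608
theorem L744616 : sm gi N55463 = N54224 := ded_39_2 (flp_d L730682) (flp_i L727700) L744608
theorem L744618 : sm gh N55463 = N54054 := ded_38_2 (flp_d L729386) (flp_h L710492) (flp_d L708650) L727690 L744608
theorem L744620 : sm gi N53890 = N55464 := rfl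
theorem L744622 : sm gb N55464 = N53896 := ded_26_1 (flp_i L727783) (flp_b L727704) L744620
theorem L744624 : sm gc N55464 = N54213 := ded_33_1 (flp_i L730612) (flp_c L727706) L744620
theorem L744626 : sm gd N55464 = N54263 := ded_39_1 (flp_i L730946) (flp_d L727708) L744620
theorem L744628 : sm ge N55464 = N53902 := ded_44_1 (flp_i L727841) (flp_e L727714) L744620
theorem L744630 : sm gf N55464 = N53891 := ded_48_1 (flp_i L727716) L727702 L744620
theorem L744632 : sm gj N55464 = N54191 := ded_53_1 (flp_i L730462) (flp_j L727710) L744620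
theorem L744634 : sm gh N53891 = N55465 := rfl
theorem L744636 : sm gb N55465 = N53897 := ded_25_1 (flp_h L727793) (flp_b L727718) L744634
theorem L744638 : sm gc N55465 = N54214 := ded_32_1 (flp_h L730620) (flp_c L727720) L744634
theorem L744640 : sm ge N55465 = N53892 := ded_43_1 (flp_h L727728) (flp_e L727724) L744634
theorem L744642 : sm gg N55465 = N54155 := ded_50_1 (flp_h L730211) (flp_g L727726) L744634
theorem L744644 : sm gi N53893 = N55466 := rfl
theorem L744646 : sm ga N55466 = N54373 := ded_18_1 (flp_i L731773) (flp_a L727742) L744644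
theorem L744648 : sm gb N55466 = N54263 := ded_26_1 (flp_i L730946) (flp_b L727744) L744644
theorem L744650 : sm gc N55466 = N54067 := ded_33_1 (flp_i L729499) (flp_c L727746) L744644
theorem L744652 : sm gd N55466 = N53896 := ded_39_1 (flp_i L727783) (flp_d L727748) L744644
theorem L744654 : sm ge N55466 = N55466 := ded_44_1 (flp_i L744644) L727752 L744644
theorem L744655 : sm gf N55466 = N53894 := ded_48_1 (flp_i L727755) L727740 L744644
theorem L744657 : sm gg N55466 = N54302 := ded_51_1 (flp_i L731248) (flp_g L727753) L744644
theorem L744659 : sm gj N55466 = N54194 := ded_53_1 (flp_i L730481) (flp_j L727750) L744644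
theorem L744661 : sm gh N53894 = N55467 := rfl
theorem L744663 : sm ga N55467 = N54383 := ded_17_1 (flp_h L731847) (flp_a L727757) L744661
theorem L744665 : sm gb N55467 = N54264 := ded_25_1 (flp_h L730951) (flp_b L727759) L744661
theorem L744667 : sm gc N55467 = N54069 := ded_32_1 (flp_h L729510) (flp_c L727761) L744661
theorem L744669 : sm ge N55467 = N53912 := ded_43_1 (flp_h L727934) (flp_e L727765) L744661
theorem L744671 : sm gg N55467 = N53920 := ded_50_1 (flp_h L728038) (flp_g L727767) L744661
theorem L744673 : sm gi N53895 = N55468 := rfl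
theorem L744675 : sm ga N55468 = N54203 := ded_18_1 (flp_i L730542) (flp_a L727771) L744673
theorem L744677 : sm gc N55468 = N53898 := ded_33_1 (flp_i L727799) (flp_c L727773) L744673
theorem L744679 : sm gd N55468 = N54302 := ded_39_1 (flp_i L731248) (flp_d L727775) L744673
theorem L744681 : sm ge N55468 = N53904 := ded_44_1 (flp_i L727866) (flp_e L727777) L744673
theorem L744683 : sm gf N55468 = N54182 := ded_48_1 (flp_i L730396) (flp_f L727781) L744673
theorem L744685 : sm gg N55468 = N53896 := ded_51_1 (flp_i L727783) L727769 L744673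
theorem L744687 : sm gh N53896 = N55469 := rfl
theorem L744689 : sm gc N55469 = N53899 := ded_32_1 (flp_h L727809) (flp_c L727785) L744687
theorem L744691 : sm ge N55469 = N53905 := ded_43_1 (flp_h L727875) (flp_e L727787) L744687
theorem L744693 : sm gf N55469 = N53897 := ded_47_1 (flp_h L727793) (flp_f L727789) L744687
theorem L744695 : sm gj N55469 = N54195 := ded_52_1 (flp_h L730486) (flp_j L727791) L744687
theorem L744697 : sm gi N55469 = N54207 := ded_54_2 (flp_h L730570) (flp_i L711969) (flp_h L708708) L727783 L744687
theorem L744699 : sm gd N53897 = N55470 := rfl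
theorem L744701 : sm gh N53898 = N55471 := rfl
theorem L744703 : sm gb N55471 = N54223 := ded_25_1 (flp_h L730676) (flp_b L727801) L744701
theorem L744705 : sm ge N55471 = N53907 := ded_43_1 (flp_h L727894) (flp_e L727805) L744701
theorem L744707 : sm gg N55471 = N53899 := ded_50_1 (flp_h L727809) (flp_g L727807) L744701
theorem L744709 : sm gi N55471 = N54204 := ded_54_2 (flp_h L730548) (flp_i L711941) (flp_h L708732) L727799 L744701
theorem L744711 : sm gd N53899 = N55472 := rfl
theorem L744713 : sm gb N55472 = N54224 := ded_20_1 (flp_d L730682) (flp_b L727811) L744711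
theorem L744715 : sm gf N55472 = N53900 := ded_35_2 (flp_d L727821) (flp_f L727815) L744711
theorem L744717 : sm gj N55472 = N54197 := ded_37_2 (flp_d L730501) (flp_j L727817) L744711
theorem L744719 : sm gi N55472 = N54209 := ded_39_2 (flp_d L730586) (flp_i L727819) L744711
theorem L744721 : sm gh N55472 = N54077 := ded_38_2 (flp_d L729558) (flp_h L710601) (flp_d L708738) L727809 L744711
theorem L744723 : sm gc N53900 = N55473 := rfl
theorem L744725 : sm gh N55473 = N54078 := ded_32_2 (flp_c L729564) (flp_h L727825) L744723
theorem L744727 : sm gh N53902 = N55474 := rfl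
theorem L744729 : sm gb N55474 = N53905 := ded_25_1 (flp_h L727875) (flp_b L727843) L744727
theorem L744731 : sm gc N55474 = N54228 := ded_32_1 (flp_h L730708) (flp_c L727845) L744727
theorem L744733 : sm gf N55474 = N53903 := ded_47_1 (flp_h L727852) (flp_f L727848) L744727
theorem L744735 : sm gj N55474 = N54192 := ded_52_1 (flp_h L730468) (flp_j L727850) L744727
theorem L744737 : sm gi N55474 = N54206 := ded_54_2 (flp_h L730562) (flp_i L711959) (flp_h L708787) L727841 L744727
theorem L744739 : sm gd N53903 = N55475 := rfl
theorem L744741 : sm gb N55475 = N53906 := ded_20_1 (flp_d L727885) (flp_b L727854) L744739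
theorem L744743 : sm gg N55475 = N53908 := ded_36_2 (flp_d L727904) (flp_g L727860) L744739
theorem L744745 : sm gj N55475 = N54198 := ded_37_2 (flp_d L730505) (flp_j L727862) L744739
theorem L744747 : sm gi N55475 = N54226 := ded_39_2 (flp_d L730692) (flp_i L727864) L744739
theorem L744749 : sm gh N55475 = N55475 := ded_38_2 (flp_d L744739) (flp_h L727852) L708795 L727852 L744739
theorem L744750 : sm gh N53904 = N55476 := rfl
theorem L744752 : sm gc N55476 = N53907 := ded_32_1 (flp_h L727894) (flp_c L727868) L744750
theorem L744754 : sm gf N55476 = N53909 := ded_47_1 (flp_h L727909) (flp_f L727871) L744750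
theorem L744756 : sm gg N55476 = N53905 := ded_50_1 (flp_h L727875) (flp_g L727873) L744750
theorem L744758 : sm gi N55476 = N54202 := ded_54_2 (flp_h L730536) (flp_i L711929) (flp_h L708815) L727866 L744750
theorem L744760 : sm gd N53905 = N55477 := rfl
theorem L744762 : sm gf N55477 = N53906 := ded_35_2 (flp_d L727885) (flp_f L727879) L744760
theorem L744764 : sm gj N55477 = N54196 := ded_37_2 (flp_d L730494) (flp_j L727881) L744760
theorem L744766 : sm gi N55477 = N54208 := ded_39_2 (flp_d L730578) (flp_i L727883) L744760
theorem L744768 : sm gh N55477 = N55477 := ded_38_2 (flp_d L744760) (flp_h L727875) L708823 L727875 L744760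
theorem L744769 : sm gd N53909 = N55478 := rfl
theorem L744771 : sm gg N55478 = N53910 := ded_36_2 (flp_d L727915) (flp_g L727913) L744769
theorem L744773 : sm gi N55478 = N54229 := ded_39_2 (flp_d L733226) L733228 L744769
theorem L744775 : sm gc N55478 = N54198 := ded_27_1 (flp_d L730505) (flp_c L715450) L715458 (flp_c L727911) L744769
theorem L744777 : sm gh N55478 = N55478 := ded_38_2 (flp_d L744769) (flp_h L727909) L708880 L727909 L744769
theorem L744778 : sm gi N53913 = N55479 := rfl
theorem L744780 : sm ga N55479 = N54015 := ded_18_1 (flp_i L729017) (flp_a L727949) L744778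
theorem L744782 : sm gc N55479 = N53915 := ded_33_1 (flp_i L727970) (flp_c L727951) L744778
theorem L744784 : sm ge N55479 = N53914 := ded_44_1 (flp_i L727959) L727947 L744778
theorem L744786 : sm gf N55479 = N54295 := ded_48_1 (flp_i L731191) (flp_f L727957) L744778
theorem L744788 : sm gj N55479 = N53944 := ded_53_1 (flp_i L728300) (flp_j L727953) L744778
theorem L744790 : sm gh N53914 = N55480 := rfl
theorem L744792 : sm ga N55480 = N54016 := ded_17_1 (flp_h L729027) (flp_a L727961) L744790
theorem L744794 : sm gc N55480 = N53916 := ded_32_1 (flp_h L727984) (flp_c L727963) L744790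
theorem L744796 : sm gf N55480 = N53947 := ded_47_1 (flp_h L728326) (flp_f L727966) L744790
theorem L744798 : sm gj N55480 = N53945 := ded_52_1 (flp_h L728308) (flp_j L727968) L744790
theorem L744800 : sm gi N55480 = N53960 := ded_54_2 (flp_h L728458) (flp_i L709537) (flp_h L708953) L727959 L744790
theorem L744802 : sm gh N53915 = N55481 := rfl
theorem L744804 : sm ga N55481 = N54017 := ded_17_1 (flp_h L729037) (flp_a L727972) L744802
theorem L744806 : sm gb N55481 = N54253 := ded_25_1 (flp_h L730874) (flp_b L727974) L744802
theorem L744808 : sm ge N55481 = N53916 := ded_43_1 (flp_h L727984) (flp_e L727978) L744802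
theorem L744810 : sm gf N55481 = N54297 := ded_47_1 (flp_h L731207) (flp_f L727980) L744802
theorem L744812 : sm gj N55481 = N53946 := ded_52_1 (flp_h L728318) (flp_j L727982) L744802
theorem L744814 : sm gi N55481 = N53962 := ded_54_2 (flp_h L728482) (flp_i L709563) (flp_h L708964) L727970 L744802
theorem L744816 : sm gh N53917 = N55482 := rfl
theorem L744818 : sm ga N55482 = N54007 := ded_17_1 (flp_h L728938) (flp_a L728000) L744816
theorem L744820 : sm gb N55482 = N54256 := ded_25_1 (flp_h L730893) (flp_b L728002) L744816
theorem L744822 : sm ge N55482 = N53918 := ded_43_1 (flp_h L728012) (flp_e L728006) L744816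
theorem L744824 : sm gf N55482 = N54298 := ded_47_1 (flp_h L731213) (flp_f L728008) L744816
theorem L744826 : sm gj N55482 = N53919 := ded_52_1 (flp_h L728026) (flp_j L728010) L744816
theorem L744828 : sm gi N55482 = N53920 := ded_54_2 (flp_h L728038) (flp_i L709045) (flp_h L708990) L727998 L744816
theorem L744830 : sm gd N53919 = N55483 := rfl
theorem L744832 : sm ga N55483 = N54357 := ded_12_1 (flp_d L731641) (flp_a L728028) L744830
theorem L744834 : sm gb N55483 = N54258 := ded_20_1 (flp_d L730911) (flp_b L728030) L744830
theorem L744836 : sm gf N55483 = N54299 := ded_35_2 (flp_d L731223) (flp_f L728034) L744830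
theorem L744838 : sm gi N55483 = N53927 := ded_39_2 (flp_d L728116) (flp_i L728036) L744830
theorem L744840 : sm ge N55483 = N54030 := ded_34_2 (flp_d L729157) L710229 (flp_d L709026) (flp_e L728032) L744830
theorem L744842 : sm gd N53920 = N55484 := rfl
theorem L744844 : sm ga N55484 = N54384 := ded_12_1 (flp_d L731853) (flp_a L728040) L744842
theorem L744846 : sm gb N55484 = N54274 := ded_20_1 (flp_d L731034) (flp_b L728042) L744842
theorem L744848 : sm gf N55484 = N54307 := ded_35_2 (flp_d L731289) (flp_f L728046) L744842
theorem L744850 : sm gj N55484 = N53927 := ded_37_2 (flp_d L728116) (flp_j L728048) L744842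
theorem L744852 : sm ge N55484 = N54054 := ded_34_2 (flp_d L729386) L710496 (flp_d L709067) (flp_e L728044) L744842
theorem L744854 : sm gi N53921 = N55485 := rfl
theorem L744856 : sm ga N55485 = N53923 := ded_18_1 (flp_i L728078) (flp_a L728052) L744854
theorem L744858 : sm gb N55485 = N54386 := ded_26_1 (flp_i L731863) (flp_b L728054) L744854
theorem L744860 : sm gc N55485 = N54028 := ded_33_1 (flp_i L729133) (flp_c L728056) L744854
theorem L744862 : sm ge N55485 = N53922 := ded_44_1 (flp_i L728064) L728050 L744854
theorem L744864 : sm gf N55485 = N54308 := ded_48_1 (flp_i L731295) (flp_f L728062) L744854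
theorem L744866 : sm gg N55485 = N54025 := ded_51_1 (flp_i L729108) (flp_g L728058) L744854
theorem L744868 : sm gh N53922 = N55486 := rfl
theorem L744870 : sm ga N55486 = N53924 := ded_17_1 (flp_h L728088) (flp_a L728066) L744868
theorem L744872 : sm gb N55486 = N54417 := ded_25_1 (flp_h L732075) (flp_b L728068) L744868
theorem L744874 : sm gc N55486 = N54037 := ded_32_1 (flp_h L729235) (flp_c L728070) L744868
theorem L744876 : sm gf N55486 = N53931 := ded_47_1 (flp_h L728163) (flp_f L728074) L744868
theorem L744878 : sm gg N55486 = N54036 := ded_50_1 (flp_h L729225) (flp_g L728076) L744868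
theorem L744880 : sm gi N55486 = N54094 := ded_54_2 (flp_h L729726) (flp_i L710788) (flp_h L709079) L728064 L744868
theorem L744882 : sm gh N53923 = N55487 := rfl
theorem L744884 : sm gb N55487 = N53925 := ded_25_1 (flp_h L728096) (flp_b L728080) L744882
theorem L744886 : sm gc N55487 = N54278 := ded_32_1 (flp_h L731073) (flp_c L728082) L744882
theorem L744888 : sm ge N55487 = N53924 := ded_43_1 (flp_h L728088) (flp_e L728084) L744882
theorem L744890 : sm gf N55487 = N54311 := ded_47_1 (flp_h L731319) (flp_f L728086) L744882
theorem L744892 : sm gd N53924 = N55488 := rfl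
theorem L744894 : sm gb N55488 = N53926 := ded_20_1 (flp_d L728106) (flp_b L728090) L744892
theorem L744896 : sm gf N55488 = N53932 := ded_35_2 (flp_d L728177) (flp_f L728094) L744892
theorem L744898 : sm gh N55488 = N53934 := ded_38_2 (flp_d L728198) (flp_h L709236) (flp_d L709097) L728088 L744892
theorem L744900 : sm gd N53925 = N55489 := rfl
theorem L744902 : sm ga N55489 = N54401 := ded_12_1 (flp_d L731969) (flp_a L728098) L744900
theorem L744904 : sm gf N55489 = N54314 := ded_35_2 (flp_d L731337) (flp_f L728104) L744900
theorem L744906 : sm ge N53926 = N55490 := rfl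
theorem L744908 : sm ga N55490 = N54423 := ded_13_1 (flp_e L732121) (flp_a L728108) L744906
theorem L744910 : sm gc N55490 = N54074 := ded_28_1 (flp_e L729538) (flp_c L728112) L744906
theorem L744912 : sm gh N55490 = N53935 := ded_43_2 (flp_e L728205) (flp_h L728114) L744906
theorem L744914 : sm gc N53927 = N55491 := rfl
theorem L744916 : sm ga N55491 = N54407 := ded_11_1 (flp_c L731997) (flp_a L728118) L744914
theorem L744918 : sm ge N55491 = N54078 := ded_28_2 (flp_c L729564) (flp_e L728124) L744914
theorem L744920 : sm gf N55491 = N54315 := ded_29_2 (flp_c L731341) (flp_f L728122) L744914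
theorem L744922 : sm gh N53928 = N55492 := rfl
theorem L744924 : sm ga N55492 = N53929 := ded_17_1 (flp_h L728141) (flp_a L728128) L744922
theorem L744926 : sm gb N55492 = N54410 := ded_25_1 (flp_h L732013) (flp_b L728130) L744922
theorem L744928 : sm gc N55492 = N54038 := ded_32_1 (flp_h L729247) (flp_c L728132) L744922
theorem L744930 : sm ge N55492 = N54316 := ded_43_1 (flp_h L731345) (flp_e L728136) L744922
theorem L744932 : sm gg N55492 = N55492 := ded_50_1 (flp_h L744922) L728138 L744922
theorem L744933 : sm gj N55492 = N53931 := ded_52_1 (flp_h L728163) (flp_j L728139) L744922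
theorem L744935 : sm gi N55492 = N54101 := ded_54_2 (flp_h L729791) (flp_i L710895) (flp_h L709140) L728126 L744922
theorem L744937 : sm gd N53929 = N55493 := rfl
theorem L744939 : sm gb N55493 = N53930 := ded_20_1 (flp_d L728152) (flp_b L728143) L744937
theorem L744941 : sm gg N55493 = N55493 := ded_36_2 (flp_d L744937) L728149 L744937
theorem L744942 : sm gj N55493 = N53932 := ded_37_2 (flp_d L728177) (flp_j L728150) L744937
theorem L744944 : sm gc N55493 = N54446 := ded_27_1 (flp_d L732294) (flp_c L724777) L724782 (flp_c L728145) L744937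
theorem L744946 : sm gh N55493 = N53937 := ded_38_2 (flp_d L728226) (flp_h L709267) (flp_d L709150) L728141 L744937
theorem L744948 : sm ge N53934 = N55494 := rfl
theorem L744950 : sm gb N55494 = N53935 := ded_21_1 (flp_e L728205) (flp_b L728200) L744948
theorem L744952 : sm gi N55494 = N55494 := ded_44_2 (flp_e L744948) L728204 L744948
theorem L744953 : sm gf N53935 = N55495 := rfl
theorem L744955 : sm ga N55495 = N54468 := ded_14_1 (flp_f L732458) (flp_a L728207) L744953
theorem L744957 : sm gc N55495 = N54116 := ded_29_1 (flp_f L729881) (flp_c L728209) L744953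
theorem L744959 : sm gi N55495 = N55495 := ded_48_2 (flp_f L744953) L728211 L744953
theorem L744960 : sm ge N55495 = N53939 := ded_40_1 (flp_f L728248) (flp_e L709309) (flp_f L709249) L728205 L744953
theorem L744962 : sm gf N53938 = N55496 := rfl
theorem L744964 : sm ga N55496 = N54451 := ded_14_1 L732346 (flp_a L728238) L744962
theorem L744966 : sm gc N55496 = N54117 := ded_29_1 (flp_f L729886) (flp_c L728240) L744962
theorem L744968 : sm gd N55496 = N54449 := ded_35_1 (flp_f L732319) (flp_d L728246) L744962
theorem L744970 : sm gj N55496 = N53939 := ded_46_2 (flp_f L728248) (flp_j L728243) L744962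
theorem L744972 : sm gi N55496 = N55496 := ded_48_2 (flp_f L744962) L728245 L744962
theorem L744973 : sm gh N53940 = N55497 := rfl
theorem L744975 : sm ga N55497 = N54273 := ded_17_1 (flp_h L731024) (flp_a L728259) L744973
theorem L744977 : sm gb N55497 = N53962 := ded_25_1 (flp_h L728482) (flp_b L728261) L744973
theorem L744979 : sm ge N55497 = N53941 := ded_43_1 (flp_h L728271) (flp_e L728265) L744973
theorem L744981 : sm gf N55497 = N54251 := ded_47_1 (flp_h L730860) (flp_f L728267) L744973
theorem L744983 : sm gj N55497 = N53942 := ded_52_1 (flp_h L728285) (flp_j L728269) L744973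
theorem L744985 : sm gi N55497 = N54253 := ded_54_2 (flp_h L730874) (flp_i L712409) (flp_h L709362) L728257 L744973
theorem L744987 : sm gd N53942 = N55498 := rfl
theorem L744989 : sm ga N55498 = N54283 := ded_12_1 (flp_d L731100) (flp_a L728287) L744987
theorem L744991 : sm gb N55498 = N53972 := ded_20_1 (flp_d L728575) (flp_b L728289) L744987
theorem L744993 : sm gf N55498 = N54252 := ded_35_2 (flp_d L730868) (flp_f L728293) L744987
theorem L744995 : sm ge N55498 = N54077 := ded_34_2 (flp_d L729558) L710605 (flp_d L709398) (flp_e L728291) L744987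
theorem L744997 : sm gi N53943 = N55499 := rfl
theorem L744999 : sm ga N55499 = N54024 := ded_18_1 (flp_i L729103) (flp_a L728297) L744997
theorem L745001 : sm gd N55499 = N53944 := ded_39_1 (flp_i L728300) L728295 L744997
theorem L745003 : sm ge N55499 = N55499 := ded_44_1 (flp_i L744997) L728299 L744997
theorem L745004 : sm gh N53944 = N55500 := rfl
theorem L745006 : sm ga N55500 = N54026 := ded_17_1 (flp_h L729118) (flp_a L728302) L745004
theorem L745008 : sm gc N55500 = N53946 := ded_32_1 (flp_h L728318) (flp_c L728304) L745004
theorem L745010 : sm ge N55500 = N53945 := ded_43_1 (flp_h L728308) (flp_e L728306) L745004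
theorem L745012 : sm gi N55500 = N53969 := ded_54_2 (flp_h L728547) (flp_i L709615) (flp_h L709421) L728300 L745004
theorem L745014 : sm gd N53945 = N55501 := rfl
theorem L745016 : sm ga N55501 = N54027 := ded_12_1 (flp_d L729126) (flp_a L728310) L745014
theorem L745018 : sm gf N55501 = N53948 := ded_35_2 (flp_d L728339) (flp_f L728314) L745014
theorem L745020 : sm gi N55501 = N53970 := ded_39_2 (flp_d L728555) (flp_i L728316) L745014
theorem L745022 : sm gc N55501 = N54366 := ded_27_1 (flp_d L731719) L713348 (flp_d L709444) (flp_c L728312) L745014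
theorem L745024 : sm gh N55501 = N55501 := ded_38_2 (flp_d L745014) (flp_h L728308) L709429 L728308 L745014
theorem L745025 : sm gd N53946 = N55502 := rfl
theorem L745027 : sm ga N55502 = N54030 := ded_12_1 (flp_d L729157) (flp_a L728320) L745025
theorem L745029 : sm gi N55502 = N53972 := ded_39_2 (flp_d L728575) (flp_i L728324) L745025
theorem L745031 : sm ge N55502 = N54357 := ded_34_2 (flp_d L731641) L713250 (flp_d L709444) (flp_e L728322) L745025
theorem L745033 : sm gd N53947 = N55503 := rfl
theorem L745035 : sm ga N55503 = N54032 := ded_12_1 (flp_d L729176) (flp_a L728328) L745033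
theorem L745037 : sm gg N55503 = N55503 := ded_36_2 (flp_d L745033) L728334 L745033
theorem L745038 : sm gj N55503 = N53948 := ded_37_2 (flp_d L728339) (flp_j L728335) L745033
theorem L745040 : sm gi N55503 = N53976 := ded_39_2 (flp_d L728612) (flp_i L728337) L745033
theorem L745042 : sm gc N55503 = N54361 := ded_27_1 (flp_d L731675) L713294 (flp_d L709471) (flp_c L728330) L745033
theorem L745044 : sm gh N55503 = N55503 := ded_38_2 (flp_d L745033) (flp_h L728326) L709454 L728326 L745033
theorem L745045 : sm ge N53949 = N55504 := rfl
theorem L745047 : sm ga N55504 = N54321 := ded_13_1 L731394 (flp_a L728359) L745045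
theorem L745049 : sm gb N55504 = N53950 := ded_21_1 (flp_e L728361) L728350 L745045
theorem L745051 : sm gg N55504 = N53955 := ded_41_2 (flp_e L728408) (flp_g L728355) L745045
theorem L745053 : sm gj N55504 = N54388 := ded_42_2 L731883 (flp_j L728357) L745045
theorem L745055 : sm gd N55504 = N54319 := ded_34_1 (flp_e L731370) L713026 (flp_e L709788) (flp_d L728352) L745045
theorem L745057 : sm gi N53949 = N55505 := rfl
theorem L745059 : sm ga N55505 = N54435 := ded_18_1 (flp_i L732232) (flp_a L728359) L745057
theorem L745061 : sm gb N55505 = N53951 := ded_26_1 (flp_i L728373) L728350 L745057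
theorem L745063 : sm gd N55505 = N53983 := ded_39_1 (flp_i L728683) (flp_d L728352) L745057
theorem L745065 : sm gf N55505 = N55505 := ded_48_1 (flp_i L745057) L728354 L745057
theorem L745066 : sm gg N55505 = N53956 := ded_51_1 (flp_i L728414) (flp_g L728355) L745057
theorem L745068 : sm gj N55505 = N54428 := ded_53_1 L732163 (flp_j L728357) L745057
theorem L745070 : sm gi N53950 = N55506 := rfl
theorem L745072 : sm ga N55506 = N54040 := ded_18_1 (flp_i L729263) (flp_a L728363) L745070
theorem L745074 : sm gc N55506 = N53953 := ded_33_1 (flp_i L728391) (flp_c L728365) L745070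
theorem L745076 : sm gd N55506 = N54399 := ded_39_1 (flp_i L731953) (flp_d L728371) L745070
theorem L745078 : sm ge N55506 = N53951 := ded_44_1 (flp_i L728373) L728361 L745070
theorem L745080 : sm gg N55506 = N53959 := ded_51_1 (flp_i L728448) (flp_g L728367) L745070
theorem L745082 : sm gj N55506 = N54394 := ded_53_1 (flp_i L731923) (flp_j L728369) L745070
theorem L745084 : sm gh N53951 = N55507 := rfl
theorem L745086 : sm ga N55507 = N54041 := ded_17_1 (flp_h L729271) (flp_a L728375) L745084
theorem L745088 : sm gc N55507 = N53954 := ded_32_1 (flp_h L728399) (flp_c L728377) L745084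
theorem L745090 : sm gf N55507 = N55507 := ded_47_1 (flp_h L745084) L728381 L745084
theorem L745091 : sm gg N55507 = N53960 := ded_50_1 (flp_h L728458) (flp_g L728382) L745084
theorem L745093 : sm gj N55507 = N54453 := ded_52_1 (flp_h L732357) (flp_j L728384) L745084
theorem L745095 : sm gi N53952 = N55508 := rfl
theorem L745097 : sm ga N55508 = N54042 := ded_18_1 (flp_i L729278) (flp_a L728388) L745095
theorem L745099 : sm ge N55508 = N55508 := ded_44_1 (flp_i L745095) L728390 L745095
theorem L745100 : sm gf N55508 = N53953 := ded_48_1 (flp_i L728391) L728386 L745095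
theorem L745102 : sm gh N53953 = N55509 := rfl
theorem L745104 : sm ga N55509 = N54043 := ded_17_1 (flp_h L729285) (flp_a L728393) L745102
theorem L745106 : sm ge N55509 = N53954 := ded_43_1 (flp_h L728399) (flp_e L728395) L745102
theorem L745108 : sm gg N55509 = N53962 := ded_50_1 (flp_h L728482) (flp_g L728397) L745102
theorem L745110 : sm gi N53955 = N55510 := rfl
theorem L745112 : sm gb N55510 = N53959 := ded_26_1 (flp_i L728448) (flp_b L728410) L745110
theorem L745114 : sm ge N55510 = N53956 := ded_44_1 (flp_i L728414) L728408 L745110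
theorem L745116 : sm gj N55510 = N53964 := ded_53_1 (flp_i L728498) (flp_j L728412) L745110
theorem L745118 : sm gh N53956 = N55511 := rfl
theorem L745120 : sm gb N55511 = N53960 := ded_25_1 (flp_h L728458) (flp_b L728416) L745118
theorem L745122 : sm gf N55511 = N53973 := ded_47_1 (flp_h L728581) (flp_f L728420) L745118
theorem L745124 : sm gj N55511 = N53965 := ded_52_1 (flp_h L728506) (flp_j L728422) L745118
theorem L745126 : sm gf N53957 = N55512 := rfl
theorem L745128 : sm ga N55512 = N54047 := ded_14_1 (flp_f L729325) (flp_a L728426) L745126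
theorem L745130 : sm gc N55512 = N54176 := ded_29_1 L730349 (flp_c L728432) L745126
theorem L745132 : sm gd N55512 = N53958 := ded_35_1 (flp_f L728436) L728424 L745126
theorem L745134 : sm gj N55512 = N53966 := ded_46_2 (flp_f L728514) (flp_j L728430) L745126
theorem L745136 : sm ge N55512 = N55512 := ded_40_1 (flp_f L745126) L728434 L709840 (flp_e L728434) L745126
theorem L745137 : sm gi N53957 = N55513 := rfl
theorem L745139 : sm ga N55513 = N54049 := ded_18_1 (flp_i L729340) (flp_a L728426) L745137
theorem L745141 : sm gc N55513 = N54382 := ded_33_1 (flp_i L731839) (flp_c L728432) L745137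
theorem L745143 : sm gd N55513 = N53959 := ded_39_1 (flp_i L728448) L728424 L745137
theorem L745145 : sm ge N55513 = N53986 := ded_44_1 (flp_i L728721) (flp_e L728434) L745137
theorem L745147 : sm gg N55513 = N54399 := ded_51_1 (flp_i L731953) (flp_g L728428) L745137
theorem L745149 : sm gj N55513 = N53967 := ded_53_1 (flp_i L728525) (flp_j L728430) L745137
theorem L745151 : sm gi N53958 = N55514 := rfl
theorem L745153 : sm ga N55514 = N54050 := ded_18_1 (flp_i L729348) (flp_a L728438) L745151
theorem L745155 : sm gc N55514 = N53961 := ded_33_1 (flp_i L728468) (flp_c L728440) L745151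
theorem L745157 : sm ge N55514 = N53974 := ded_44_1 (flp_i L728588) (flp_e L728446) L745151
theorem L745159 : sm gf N55514 = N53959 := ded_48_1 (flp_i L728448) L728436 L745151
theorem L745161 : sm gj N55514 = N53968 := ded_53_1 (flp_i L728537) (flp_j L728442) L745151
theorem L745163 : sm gh N53959 = N55515 := rfl
theorem L745165 : sm ga N55515 = N54051 := ded_17_1 (flp_h L729358) (flp_a L728450) L745163
theorem L745167 : sm gc N55515 = N53962 := ded_32_1 (flp_h L728482) (flp_c L728452) L745163
theorem L745169 : sm ge N55515 = N53960 := ded_43_1 (flp_h L728458) (flp_e L728454) L745163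

end Cfsg.Agent.Helper28.FicA
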