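import Cfsg.Agent.Helper28.FicB41

/-! # The Fi₂₃ presentation, cosets of the subgroup generated by a, …, i: the coset enumeration, part 42 (helper28; generated) -/

set_option autoImplicit false

noncomputable section

namespace Cfsg.Agent.Helper28.FicA

open Cfsg.Agent.Helper28.CosetTable

theorem L745171 : sm gj N55515 = N53969 := ded_52_1 (flp_h L728547) (flp_j L728456) L745163
theorem L745173 : sm gd N53960 = N55516 := rfl
theorem L745175 : sm ga N55516 = N54052 := ded_12_1 (flp_d L729366) (flp_a L728460) L745173
theorem L745177 : sm gf N55516 = N53976 := ded_35_2 (flp_d L728612) (flp_f L728464) L745173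
theorem L745179 : sm gj N55516 = N53970 := ded_37_2 (flp_d L728555) (flp_j L728466) L745173
theorem L745181 : sm gc N55516 = N54413 := ded_27_1 (flp_d L732041) L713735 (flp_d L709579) (flp_c L728462) L745173
theorem L745183 : sm gh N55516 = N53988 := ded_38_2 (flp_d L728748) (flp_h L709860) (flp_d L709543) L728458 L745173
theorem L745185 : sm gh N53961 = N55517 := rfl
theorem L745187 : sm ga N55517 = N54053 := ded_17_1 (flp_h L729374) (flp_a L728470) L745185
theorem L745189 : sm gb N55517 = N54251 := ded_25_1 (flp_h L730860) (flp_b L728472) L745185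
theorem L745191 : sm ge N55517 = N53977 := ded_43_1 (flp_h L728623) (flp_e L728476) L745185
theorem L745193 : sm gf N55517 = N53962 := ded_47_1 (flp_h L728482) (flp_f L728478) L745185
theorem L745195 : sm gj N55517 = N53971 := ded_52_1 (flp_h L728565) (flp_j L728480) L745185
theorem L745197 : sm gi N55517 = N54297 := ded_54_2 (flp_h L731207) (flp_i L712793) (flp_h L709559) L728468 L745185
theorem L745199 : sm gd N53962 = N55518 := rfl
theorem L745201 : sm ga N55518 = N54054 := ded_12_1 (flp_d L729386) (flp_a L728484) L745199
theorem L745203 : sm gj N55518 = N53972 := ded_37_2 (flp_d L728575) (flp_j L728488) L745199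
theorem L745205 : sm ge N55518 = N54384 := ded_34_2 (flp_d L731853) L713534 (flp_d L709579) (flp_e L728486) L745199
theorem L745207 : sm gi N53963 = N55519 := rfl
theorem L745209 : sm gb N55519 = N53967 := ded_26_1 (flp_i L728525) (flp_b L728492) L745207
theorem L745211 : sm gd N55519 = N53964 := ded_39_1 (flp_i L728498) L728490 L745207
theorem L745213 : sm ge N55519 = N53990 := ded_44_1 (flp_i L728771) (flp_e L728496) L745207
theorem L745215 : sm gg N55519 = N54376 := ded_51_1 (flp_i L731789) (flp_g L728494) L745207
theorem L745217 : sm gh N53964 = N55520 := rfl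
theorem L745219 : sm gb N55520 = N53969 := ded_25_1 (flp_h L728547) (flp_b L728500) L745217
theorem L745221 : sm ge N55520 = N53965 := ded_43_1 (flp_h L728506) (flp_e L728502) L745217
theorem L745223 : sm gg N55520 = N54404 := ded_50_1 L731983 (flp_g L728504) L745217
theorem L745225 : sm gd N53965 = N55521 := rfl
theorem L745227 : sm gb N55521 = N53970 := ded_20_1 (flp_d L728555) (flp_b L728508) L745225
theorem L745229 : sm gf N55521 = N53978 := ded_35_2 (flp_d L728637) (flp_f L728510) L745225
theorem L745231 : sm gg N55521 = N54424 := ded_36_2 L732127 (flp_g L728512) L745225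
theorem L745233 : sm gh N55521 = N53992 := ded_38_2 (flp_d L728791) (flp_h L709914) (flp_d L709591) L728506 L745225
theorem L745235 : sm gi N53966 = N55522 := rfl
theorem L745237 : sm ga N55522 = N54067 := ded_18_1 (flp_i L729499) (flp_a L728516) L745235
theorem L745239 : sm gc N55522 = N54373 := ded_33_1 (flp_i L731773) (flp_c L728518) L745235
theorem L745241 : sm gd N55522 = N53968 := ded_39_1 (flp_i L728537) (flp_d L728520) L745235
theorem L745243 : sm ge N55522 = N55522 := ded_44_1 (flp_i L745235) L728522 L745235
theorem L745244 : sm gf N55522 = N53967 := ded_48_1 (flp_i L728525) L728514 L745235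
theorem L745246 : sm gg N55522 = N54371 := ded_51_1 (flp_i L731758) (flp_g L728523) L745235
theorem L745248 : sm gh N53967 = N55523 := rfl
theorem L745250 : sm ga N55523 = N54069 := ded_17_1 (flp_h L729510) (flp_a L728527) L745248
theorem L745252 : sm gc N55523 = N54383 := ded_32_1 (flp_h L731847) (flp_c L728529) L745248
theorem L745254 : sm ge N55523 = N53993 := ded_43_1 (flp_h L728800) (flp_e L728533) L745248
theorem L745256 : sm gg N55523 = N54379 := ded_50_1 (flp_h L731817) (flp_g L728535) L745248
theorem L745258 : sm gh N53968 = N55524 := rfl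
theorem L745260 : sm ga N55524 = N54072 := ded_17_1 (flp_h L729528) (flp_a L728539) L745258
theorem L745262 : sm gc N55524 = N53971 := ded_32_1 (flp_h L728565) (flp_c L728541) L745258
theorem L745264 : sm ge N55524 = N53979 := ded_43_1 (flp_h L728645) (flp_e L728543) L745258
theorem L745266 : sm gf N55524 = N53969 := ded_47_1 (flp_h L728547) (flp_f L728545) L745258
theorem L745268 : sm gd N53969 = N55525 := rfl
theorem L745270 : sm ga N55525 = N54073 := ded_12_1 (flp_d L729536) (flp_a L728549) L745268
theorem L745272 : sm ge N53970 = N55526 := rfl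
theorem L745274 : sm ga N55526 = N54074 := ded_13_1 (flp_e L729538) (flp_a L728557) L745272
theorem L745276 : sm gc N55526 = N54423 := ded_28_1 (flp_e L732121) (flp_c L728561) L745272
theorem L745278 : sm gh N55526 = N53995 := ded_43_2 (flp_e L728817) (flp_h L728563) L745272
theorem L745280 : sm gd N53971 = N55527 := rfl
theorem L745282 : sm ga N55527 = N54077 := ded_12_1 (flp_d L729558) (flp_a L728567) L745280
theorem L745284 : sm gb N55527 = N54252 := ded_20_1 (flp_d L730868) (flp_b L728569) L745280
theorem L745286 : sm gf N55527 = N53972 := ded_35_2 (flp_d L728575) (flp_f L728573) L745280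
theorem L745288 : sm ge N55527 = N54283 := ded_34_2 (flp_d L731100) L712649 (flp_d L709758) (flp_e L728571) L745280
theorem L745290 : sm gc N53972 = N55528 := rfl
theorem L745292 : sm ga N55528 = N54078 := ded_11_1 (flp_c L729564) (flp_a L728577) L745290
theorem L745294 : sm ge N55528 = N54407 := ded_28_2 (flp_c L731997) (flp_e L728579) L745290
theorem L745296 : sm gd N53973 = N55529 := rfl
theorem L745298 : sm gb N55529 = N53976 := ded_20_1 (flp_d L728612) (flp_b L728583) L745296
theorem L745300 : sm gg N55529 = N55529 := ded_36_2 (flp_d L745296) L728585 L745296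
theorem L745301 : sm gj N55529 = N53978 := ded_37_2 (flp_d L728637) (flp_j L728586) L745296
theorem L745303 : sm gh N55529 = N53997 := ded_38_2 (flp_d L728836) (flp_h L709967) (flp_d L709651) L728581 L745296
theorem L745305 : sm gh N53974 = N55530 := rfl
theorem L745307 : sm ga N55530 = N54085 := ded_17_1 (flp_h L729637) (flp_a L728590) L745305
theorem L745309 : sm gc N55530 = N53977 := ded_32_1 (flp_h L728623) (flp_c L728592) L745305
theorem L745311 : sm gf N55530 = N53975 := ded_47_1 (flp_h L728599) (flp_f L728595) L745305
theorem L745313 : sm gj N55530 = N53979 := ded_52_1 (flp_h L728645) (flp_j L728597) L745305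
theorem L745315 : sm gi N55530 = N54296 := ded_54_2 (flp_h L731199) (flp_i L712783) (flp_h L709665) L728588 L745305
theorem L745317 : sm gd N53975 = N55531 := rfl
theorem L745319 : sm ga N55531 = N54086 := ded_12_1 (flp_d L729647) (flp_a L728601) L745317
theorem L745321 : sm gg N55531 = N55531 := ded_36_2 (flp_d L745317) L728607 L745317
theorem L745322 : sm gj N55531 = N53980 := ded_37_2 (flp_d L728653) (flp_j L728608) L745317
theorem L745324 : sm gi N55531 = N54469 := ded_39_2 (flp_d L732463) (flp_i L728610) L745317
theorem L745326 : sm gc N55531 = N54288 := ded_27_1 (flp_d L731140) L712696 (flp_d L709711) (flp_c L728603) L745317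
theorem L745328 : sm gh N55531 = N55531 := ded_38_2 (flp_d L745317) (flp_h L728599) L709673 L728599 L745317
theorem L745329 : sm ge N53976 = N55532 := rfl
theorem L745331 : sm ga N55532 = N54087 := ded_13_1 (flp_e L729655) (flp_a L728614) L745329
theorem L745333 : sm gc N55532 = N54414 := ded_28_1 (flp_e L732049) (flp_c L728619) L745329
theorem L745335 : sm gg N55532 = N55532 := ded_41_2 (flp_e L745329) L728616 L745329
theorem L745336 : sm gj N55532 = N53981 := ded_42_2 (flp_e L728662) (flp_j L728617) L745329
theorem L745338 : sm gh N55532 = N53998 := ded_43_2 (flp_e L728844) (flp_h L728621) L745329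
theorem L745340 : sm ge N53978 = N55533 := rfl
theorem L745342 : sm gb N55533 = N53981 := ded_21_1 (flp_e L728662) (flp_b L728639) L745340
theorem L745344 : sm gc N55533 = N54426 := ded_28_1 (flp_e L744092) L744090 L745340
theorem L745346 : sm gg N55533 = N53982 := ded_41_2 (flp_e L728672) (flp_g L728641) L745340
theorem L745348 : sm gh N55533 = N53999 := ded_43_2 (flp_e L728855) (flp_h L728643) L745340
theorem L745350 : sm gd N53979 = N55534 := rfl
theorem L745352 : sm ga N55534 = N54095 := ded_12_1 (flp_d L729734) (flp_a L728647) L745350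
theorem L745354 : sm gf N55534 = N53980 := ded_35_2 (flp_d L728653) (flp_f L728651) L745350
theorem L745356 : sm gc N55534 = N54292 := ded_27_1 (flp_d L731170) L712741 (flp_d L709758) (flp_c L728649) L745350
theorem L745358 : sm gh N55534 = N55534 := ded_38_2 (flp_d L745350) (flp_h L728645) L709727 L728645 L745350
theorem L745359 : sm gf N53981 = N55535 := rfl
theorem L745361 : sm ga N55535 = N54096 := ded_14_1 (flp_f L729739) (flp_a L728664) L745359
theorem L745363 : sm gc N55535 = N54424 := ded_29_1 (flp_f L732125) (flp_c L728666) L745359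
theorem L745365 : sm gh N55535 = N54000 := ded_47_2 (flp_f L728865) (flp_h L728670) L745359
theorem L745367 : sm gh N53983 = N55536 := rfl
theorem L745369 : sm ga N55536 = N54436 := ded_17_1 (flp_h L732239) (flp_a L728685) L745367
theorem L745371 : sm gb N55536 = N53984 := ded_25_1 (flp_h L728697) (flp_b L728687) L745367
theorem L745373 : sm gc N55536 = N55536 := ded_32_1 (flp_h L745367) L728689 L745367
theorem L745374 : sm ge N55536 = N54434 := ded_43_1 (flp_h L732220) (flp_e L728690) L745367
theorem L745376 : sm gf N55536 = N55536 := ded_47_1 (flp_h L745367) L728692 L745367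
theorem L745377 : sm gg N55536 = N53985 := ded_50_1 (flp_h L728711) (flp_g L728693) L745367
theorem L745379 : sm gj N55536 = N54450 := ded_52_1 (flp_h L732331) (flp_j L728695) L745367
theorem L745381 : sm gi N55536 = N55536 := ded_54_2 (flp_h L745367) (flp_i L728683) L709795 L728683 L745367
theorem L745382 : sm gd N53984 = N55537 := rfl
theorem L745384 : sm ga N55537 = N54103 := ded_12_1 (flp_d L729803) (flp_a L728699) L745382
theorem L745386 : sm gf N55537 = N55537 := ded_35_2 (flp_d L745382) L728705 L745382
theorem L745387 : sm gg N55537 = N53988 := ded_36_2 (flp_d L728748) (flp_g L728706) L745382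
theorem L745389 : sm gj N55537 = N54457 := ded_37_2 (flp_d L732380) (flp_j L728708) L745382
theorem L745391 : sm gi N55537 = N55537 := ded_39_2 (flp_d L745382) L728710 L745382
theorem L745392 : sm gc N55537 = N53994 := ded_27_1 (flp_d L728809) L709939 (flp_d L709824) (flp_c L728701) L745382
theorem L745394 : sm gd N53985 = N55538 := rfl
theorem L745396 : sm gb N55538 = N53988 := ded_20_1 (flp_d L728748) (flp_b L728713) L745394
theorem L745398 : sm gf N55538 = N53997 := ded_35_2 (flp_d L728836) (flp_f L728716) L745394
theorem L745400 : sm gj N55538 = N53992 := ded_37_2 (flp_d L728791) (flp_j L728718) L745394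
theorem L745402 : sm gi N55538 = N55538 := ded_39_2 (flp_d L745394) L728720 L745394
theorem L745403 : sm gh N53986 = N55539 := rfl
theorem L745405 : sm ga N55539 = N54106 := ded_17_1 (flp_h L729828) (flp_a L728723) L745403
theorem L745407 : sm gc N55539 = N54416 := ded_32_1 (flp_h L732068) (flp_c L728725) L745403
theorem L745409 : sm gf N55539 = N55539 := ded_47_1 (flp_h L745403) L728729 L745403
theorem L745410 : sm gg N55539 = N54421 := ded_50_1 (flp_h L732105) (flp_g L728730) L745403
theorem L745412 : sm gj N55539 = N53993 := ded_52_1 (flp_h L728800) (flp_j L728732) L745403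
theorem L745414 : sm gd N53987 = N55540 := rfl
theorem L745416 : sm ga N55540 = N54107 := ded_12_1 (flp_d L729833) (flp_a L728736) L745414
theorem L745418 : sm gf N55540 = N55540 := ded_35_2 (flp_d L745414) L728742 L745414
theorem L745419 : sm gg N55540 = N54458 := ded_36_2 L732393 (flp_g L728743) L745414
theorem L745421 : sm gj N55540 = N53994 := ded_37_2 (flp_d L728809) (flp_j L728745) L745414
theorem L745423 : sm gi N55540 = N55540 := ded_39_2 (flp_d L745414) L728747 L745414
theorem L745424 : sm gc N55540 = N54457 := ded_27_1 (flp_d L732380) L714310 (flp_d L709883) (flp_c L728738) L745414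
theorem L745426 : sm ge N53988 = N55541 := rfl
theorem L745428 : sm ga N55541 = N54108 := ded_13_1 (flp_e L729839) (flp_a L728750) L745426
theorem L745430 : sm gc N55541 = N54463 := ded_28_1 (flp_e L732428) (flp_c L728757) L745426
theorem L745432 : sm gj N55541 = N53995 := ded_42_2 (flp_e L728817) (flp_j L728754) L745426
theorem L745434 : sm gi N55541 = N55541 := ded_44_2 (flp_e L745426) L728756 L745426
theorem L745435 : sm gh N53990 = N55542 := rfl
theorem L745437 : sm gb N55542 = N53993 := ded_25_1 (flp_h L728800) (flp_b L728773) L745435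
theorem L745439 : sm gf N55542 = N55542 := ded_47_1 (flp_h L745435) L728777 L745435
theorem L745440 : sm gg N55542 = N54411 := ded_50_1 (flp_h L732022) (flp_g L728778) L745435
theorem L745442 : sm gd N53991 = N55543 := rfl
theorem L745444 : sm gb N55543 = N53994 := ded_20_1 (flp_d L728809) (flp_b L728782) L745442
theorem L745446 : sm gf N55543 = N55543 := ded_35_2 (flp_d L745442) L728787 L745442
theorem L745447 : sm gg N55543 = N54462 := ded_36_2 L732423 (flp_g L728788) L745442
theorem L745449 : sm gi N55543 = N55543 := ded_39_2 (flp_d L745442) L728790 L745442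
theorem L745450 : sm ge N53992 = N55544 := rfl
theorem L745452 : sm gb N55544 = N53995 := ded_21_1 (flp_e L728817) (flp_b L728793) L745450
theorem L745454 : sm gg N55544 = N54468 := ded_41_2 L732461 (flp_g L728797) L745450
theorem L745456 : sm gi N55544 = N55544 := ded_44_2 (flp_e L745450) L728799 L745450
theorem L745457 : sm gd N53993 = N55545 := rfl
theorem L745459 : sm ga N55545 = N54114 := ded_12_1 (flp_d L729871) (flp_a L728802) L745457
theorem L745461 : sm gf N55545 = N55545 := ded_35_2 (flp_d L745457) L728806 L745457
theorem L745462 : sm gg N55545 = N54413 := ded_36_2 (flp_d L732041) (flp_g L728807) L745457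
theorem L745464 : sm gh N55545 = N53994 := ded_38_2 (flp_d L728809) (flp_h L709935) (flp_d L709930) L728800 L745457
theorem L745466 : sm ge N53994 = N55546 := rfl
theorem L745468 : sm ga N55546 = N54115 := ded_13_1 (flp_e L729876) (flp_a L728811) L745466
theorem L745470 : sm gg N55546 = N54463 := ded_41_2 (flp_e L732428) (flp_g L728814) L745466
theorem L745472 : sm gi N55546 = N55546 := ded_44_2 (flp_e L745466) L728816 L745466
theorem L745473 : sm gd N55546 = N53995 := ded_34_1 (flp_e L728817) (flp_d L709947) (flp_e L709941) L728809 L745466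
theorem L745475 : sm gf N53995 = N55547 := rfl
theorem L745477 : sm ga N55547 = N54116 := ded_14_1 (flp_f L729881) (flp_a L728819) L745475
theorem L745479 : sm gc N55547 = N54468 := ded_29_1 (flp_f L732458) (flp_c L728821) L745475
theorem L745481 : sm gi N55547 = N55547 := ded_48_2 (flp_f L745475) L728823 L745475
theorem L745482 : sm ge N55547 = N54000 := ded_40_1 (flp_f L728865) (flp_e L710005) (flp_f L709951) L728817 L745475
theorem L745484 : sm ge N53997 = N55548 := rfl
theorem L745486 : sm ga N55548 = N54471 := ded_13_1 (flp_e L736920) L736926 L745484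
theorem L745488 : sm gb N55548 = N53998 := ded_21_1 (flp_e L728844) (flp_b L728838) L745484
theorem L745490 : sm gc N55548 = N54460 := ded_28_1 (flp_e L744183) L744180 L745484
theorem L745492 : sm gg N55548 = N55548 := ded_41_2 (flp_e L745484) L728840 L745484
theorem L745493 : sm gj N55548 = N53999 := ded_42_2 (flp_e L728855) (flp_j L728841) L745484
theorem L745495 : sm gi N55548 = N55548 := ded_44_2 (flp_e L745484) L728843 L745484
theorem L745496 : sm gd N55548 = N55548 := ded_34_1 (flp_e L745484) (flp_d L728836) L709972 L728836 L745484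
theorem L745497 : sm gf N53998 = N55549 := rfl
theorem L745499 : sm ga N55549 = N54117 := ded_14_1 (flp_f L729886) (flp_a L728846) L745497
theorem L745501 : sm gc N55549 = N54451 := ded_29_1 L732346 (flp_c L728848) L745497
theorem L745503 : sm gd N55549 = N55549 := ded_35_1 (flp_f L745497) L728854 L745497
theorem L745504 : sm gj N55549 = N54000 := ded_46_2 (flp_f L728865) (flp_j L728851) L745497
theorem L745506 : sm gi N55549 = N55549 := ded_48_2 (flp_f L745497) L728853 L745497
theorem L745507 : sm gf N53999 = N55550 := rfl
theorem L745509 : sm gb N55550 = N54000 := ded_22_1 (flp_f L728865) (flp_b L728857) L745507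
theorem L745511 : sm gc N55550 = N54464 := ded_29_1 L732437 (flp_c L728859) L745507
theorem L745513 : sm gd N55550 = N55550 := ded_35_1 (flp_f L745507) L728864 L745507
theorem L745514 : sm gi N55550 = N55550 := ded_48_2 (flp_f L745507) L728863 L745507
theorem L745515 : sm gg N55550 = N54465 := ded_45_2 L732444 L714410 (flp_f L710024) (flp_g L728861) L745507
theorem L745517 : sm gi N54001 = N55551 := rfl
theorem L745519 : sm ga N55551 = N54003 := ded_18_1 (flp_i L728898) L728873 L745517
theorem L745521 : sm gb N55551 = N54093 := ded_26_1 (flp_i L729717) (flp_b L728884) L745517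
theorem L745523 : sm gc N55551 = N54320 := ded_33_1 (flp_i L731378) (flp_c L728875) L745517
theorem L745525 : sm gd N55551 = N55551 := ded_39_1 (flp_i L745517) L728877 L745517
theorem L745526 : sm gf N55551 = N54099 := ded_48_1 (flp_i L729763) (flp_f L728878) L745517
theorem L745528 : sm gj N55551 = N54090 := ded_53_1 (flp_i L729689) (flp_j L728880) L745517
theorem L745530 : sm gi N54002 = N55552 := rfl
theorem L745532 : sm gb N55552 = N54005 := ded_26_1 (flp_i L728918) (flp_b L728888) L745530
theorem L745534 : sm gc N55552 = N54322 := ded_33_1 (flp_i L731396) (flp_c L728890) L745530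
theorem L745536 : sm ge N55552 = N54003 := ded_44_1 (flp_i L728898) L728886 L745530
theorem L745538 : sm gf N55552 = N54334 := ded_48_1 (flp_i L731475) (flp_f L728896) L745530
theorem L745540 : sm gj N55552 = N54344 := ded_53_1 (flp_i L731552) (flp_j L728892) L745530
theorem L745542 : sm gh N54003 = N55553 := rfl
theorem L745544 : sm gb N55553 = N54006 := ded_25_1 (flp_h L728928) (flp_b L728900) L745542
theorem L745546 : sm gc N55553 = N54323 := ded_32_1 (flp_h L731402) (flp_c L728902) L745542
theorem L745548 : sm gf N55553 = N54360 := ded_47_1 (flp_h L731662) (flp_f L728905) L745542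
theorem L745550 : sm gj N55553 = N54362 := ded_52_1 (flp_h L731683) (flp_j L728907) L745542
theorem L745552 : sm gi N55553 = N54411 := ded_54_2 (flp_h L732022) (flp_i L713714) (flp_h L710033) L728898 L745542
theorem L745554 : sm gi N54004 = N55554 := rfl
theorem L745556 : sm gc N55554 = N54024 := ded_33_1 (flp_i L729103) (flp_c L728915) L745554
theorem L745558 : sm gd N55554 = N54005 := ded_39_1 (flp_i L728918) L728909 L745554
theorem L745560 : sm ge N55554 = N55554 := ded_44_1 (flp_i L745554) L728917 L745554
theorem L745561 : sm gf N55554 = N54336 := ded_48_1 (flp_i L731495) (flp_f L728911) L745554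
theorem L745563 : sm gj N55554 = N54348 := ded_53_1 (flp_i L731580) (flp_j L728913) L745554
theorem L745565 : sm gh N54005 = N55555 := rfl
theorem L745567 : sm gc N55555 = N54007 := ded_32_1 (flp_h L728938) (flp_c L728920) L745565
theorem L745569 : sm ge N55555 = N54006 := ded_43_1 (flp_h L728928) (flp_e L728922) L745565
theorem L745571 : sm gf N55555 = N54337 := ded_47_1 (flp_h L731503) (flp_f L728924) L745565
theorem L745573 : sm gj N55555 = N54353 := ded_52_1 (flp_h L731613) (flp_j L728926) L745565
theorem L745575 : sm gi N55555 = N54379 := ded_54_2 (flp_h L731817) (flp_i L713492) (flp_h L710043) L728918 L745565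
theorem L745577 : sm gd N54006 = N55556 := rfl
theorem L745579 : sm gf N55556 = N54361 := ded_35_2 (flp_d L731675) (flp_f L728932) L745577
theorem L745581 : sm gj N55556 = N54366 := ded_37_2 (flp_d L731719) (flp_j L728934) L745577
theorem L745583 : sm gi N55556 = N54413 := ded_39_2 (flp_d L732041) (flp_i L728936) L745577
theorem L745585 : sm gh N55556 = N55556 := ded_38_2 (flp_d L745577) (flp_h L728928) L710051 L728928 L745577
theorem L745586 : sm gd N54007 = N55557 := rfl
theorem L745588 : sm gb N55557 = N54328 := ded_20_1 (flp_d L731434) (flp_b L728940) L745586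
theorem L745590 : sm gf N55557 = N54338 := ded_35_2 (flp_d L731513) (flp_f L728944) L745586
theorem L745592 : sm gj N55557 = N54357 := ded_37_2 (flp_d L731641) (flp_j L728946) L745586
theorem L745594 : sm gi N55557 = N54384 := ded_39_2 (flp_d L731853) (flp_i L728948) L745586
theorem L745596 : sm gh N55557 = N54030 := ded_38_2 (flp_d L729157) (flp_h L710225) (flp_d L710060) L728938 L745586
theorem L745598 : sm gd N54008 = N55558 := rfl
theorem L745600 : sm gg N55558 = N54014 := ded_36_2 (flp_d L729008) (flp_g L728954) L745598
theorem L745602 : sm gc N55558 = N54346 := ded_27_1 L731570 L713214 (flp_d L710094) (flp_c L728952) L745598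
theorem L745604 : sm ge N55558 = N55558 := ded_34_2 (flp_d L745598) (flp_e L728950) L710085 L728950 L745598
theorem L745605 : sm gi N54008 = N55559 := rfl
theorem L745607 : sm gc N55559 = N54010 := ded_33_1 (flp_i L728966) (flp_c L728952) L745605
theorem L745609 : sm ge N55559 = N54009 := ded_44_1 (flp_i L728958) L728950 L745605
theorem L745611 : sm gg N55559 = N54015 := ded_51_1 (flp_i L729017) (flp_g L728954) L745605
theorem L745613 : sm gh N54009 = N55560 := rfl
theorem L745615 : sm gc N55560 = N54011 := ded_32_1 (flp_h L728976) (flp_c L728960) L745613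
theorem L745617 : sm gf N55560 = N55560 := ded_47_1 (flp_h L745613) L728963 L745613
theorem L745618 : sm gg N55560 = N54016 := ded_50_1 (flp_h L729027) (flp_g L728964) L745613
theorem L745620 : sm gi N55560 = N54041 := ded_54_2 (flp_h L729271) (flp_i L710399) (flp_h L710083) L728958 L745613
theorem L745622 : sm gh N54010 = N55561 := rfl
theorem L745624 : sm gb N55561 = N54333 := ded_25_1 (flp_h L731467) (flp_b L728968) L745622
theorem L745626 : sm ge N55561 = N54011 := ded_43_1 (flp_h L728976) (flp_e L728972) L745622
theorem L745628 : sm gg N55561 = N54017 := ded_50_1 (flp_h L729037) (flp_g L728974) L745622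
theorem L745630 : sm gi N55561 = N54043 := ded_54_2 (flp_h L729285) (flp_i L710413) (flp_h L710092) L728966 L745622
theorem L745632 : sm gd N54012 = N55562 := rfl
theorem L745634 : sm gb N55562 = N54014 := ded_20_1 (flp_d L729008) (flp_b L728987) L745632
theorem L745636 : sm gf N55562 = N54321 := ded_35_2 (flp_d L731390) (flp_f L728995) L745632
theorem L745638 : sm gj N55562 = N54018 := ded_37_2 (flp_d L729049) (flp_j L728991) L745632
theorem L745640 : sm ge N55562 = N55562 := ded_34_2 (flp_d L745632) (flp_e L728985) L710107 L728985 L745632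
theorem L745641 : sm gi N54012 = N55563 := rfl
theorem L745643 : sm gb N55563 = N54015 := ded_26_1 (flp_i L729017) (flp_b L728987) L745641
theorem L745645 : sm gc N55563 = N54334 := ded_33_1 (flp_i L731475) (flp_c L728989) L745641
theorem L745647 : sm ge N55563 = N54013 := ded_44_1 (flp_i L728997) L728985 L745641
theorem L745649 : sm gf N55563 = N54322 := ded_48_1 (flp_i L731396) (flp_f L728995) L745641
theorem L745651 : sm gj N55563 = N54020 := ded_53_1 (flp_i L729070) (flp_j L728991) L745641
theorem L745653 : sm gh N54013 = N55564 := rfl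
theorem L745655 : sm gb N55564 = N54016 := ded_25_1 (flp_h L729027) (flp_b L728999) L745653
theorem L745657 : sm gc N55564 = N54335 := ded_32_1 (flp_h L731483) (flp_c L729001) L745653
theorem L745659 : sm gf N55564 = N54031 := ded_47_1 (flp_h L729163) (flp_f L729004) L745653
theorem L745661 : sm gj N55564 = N54021 := ded_52_1 (flp_h L729078) (flp_j L729006) L745653
theorem L745663 : sm gi N55564 = N54046 := ded_54_2 (flp_h L729315) (flp_i L710436) (flp_h L710112) L728997 L745653
theorem L745665 : sm gh N54014 = N55565 := rfl
theorem L745667 : sm gc N55565 = N54347 := ded_32_1 (flp_h L731573) (flp_c L729014) L745665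
theorem L745669 : sm ge N55565 = N55565 := ded_43_1 (flp_h L745665) L729016 L745665
theorem L745670 : sm gf N55565 = N54324 := ded_47_1 (flp_h L731408) (flp_f L729010) L745665
theorem L745672 : sm gj N55565 = N54023 := ded_52_1 (flp_h L729098) (flp_j L729012) L745665
theorem L745674 : sm gd N55565 = N54048 := ded_38_1 (flp_h L729334) (flp_d L710448) (flp_h L710122) L729008 L745665
theorem L745676 : sm gi N54014 = N55566 := rfl
theorem L745678 : sm gc N55566 = N54348 := ded_33_1 (flp_i L731580) (flp_c L729014) L745676
theorem L745680 : sm gd N55566 = N54015 := ded_39_1 (flp_i L729017) L729008 L745676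
theorem L745682 : sm ge N55566 = N55566 := ded_44_1 (flp_i L745676) L729016 L745676
theorem L745683 : sm gf N55566 = N54325 := ded_48_1 (flp_i L731414) (flp_f L729010) L745676
theorem L745685 : sm gj N55566 = N54024 := ded_53_1 (flp_i L729103) (flp_j L729012) L745676
theorem L745687 : sm gh N54015 = N55567 := rfl
theorem L745689 : sm gc N55567 = N54017 := ded_32_1 (flp_h L729037) (flp_c L729019) L745687
theorem L745691 : sm ge N55567 = N54016 := ded_43_1 (flp_h L729027) (flp_e L729021) L745687
theorem L745693 : sm gf N55567 = N54326 := ded_47_1 (flp_h L731422) (flp_f L729023) L745687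
theorem L745695 : sm gj N55567 = N54026 := ded_52_1 (flp_h L729118) (flp_j L729025) L745687
theorem L745697 : sm gi N55567 = N54051 := ded_54_2 (flp_h L729358) (flp_i L710464) (flp_h L710122) L729017 L745687
theorem L745699 : sm gd N54016 = N55568 := rfl
theorem L745701 : sm gf N55568 = N54032 := ded_35_2 (flp_d L729176) (flp_f L729031) L745699
theorem L745703 : sm gj N55568 = N54027 := ded_37_2 (flp_d L729126) (flp_j L729033) L745699
theorem L745705 : sm gi N55568 = N54052 := ded_39_2 (flp_d L729366) (flp_i L729035) L745699
theorem L745707 : sm gh N55568 = N55568 := ded_38_2 (flp_d L745699) (flp_h L729027) L710130 L729027 L745699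
theorem L745708 : sm gd N54017 = N55569 := rfl
theorem L745710 : sm gb N55569 = N54338 := ded_20_1 (flp_d L731513) (flp_b L729039) L745708
theorem L745712 : sm gf N55569 = N54328 := ded_35_2 (flp_d L731434) (flp_f L729043) L745708
theorem L745714 : sm gj N55569 = N54030 := ded_37_2 (flp_d L729157) (flp_j L729045) L745708
theorem L745716 : sm gi N55569 = N54054 := ded_39_2 (flp_d L729386) (flp_i L729047) L745708
theorem L745718 : sm gh N55569 = N54357 := ded_38_2 (flp_d L731641) (flp_h L713248) (flp_d L710139) L729037 L745708
theorem L745720 : sm gi N54018 = N55570 := rfl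
theorem L745722 : sm gb N55570 = N54024 := ded_26_1 (flp_i L729103) (flp_b L729051) L745720
theorem L745724 : sm gd N55570 = N54020 := ded_39_1 (flp_i L729070) L729049 L745720
theorem L745726 : sm ge N55570 = N55570 := ded_44_1 (flp_i L745720) L729053 L745720
theorem L745727 : sm gi N54019 = N55571 := rfl
theorem L745729 : sm ga N55571 = N54390 := ded_18_1 (flp_i L731897) (flp_a L729056) L745727
theorem L745731 : sm gb N55571 = N54025 := ded_26_1 (flp_i L729108) (flp_b L729058) L745727
theorem L745733 : sm gc N55571 = N54344 := ded_33_1 (flp_i L731552) (flp_c L729060) L745727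
theorem L745735 : sm ge N55571 = N54033 := ded_44_1 (flp_i L729184) (flp_e L729066) L745727
theorem L745737 : sm gf N55571 = N54020 := ded_48_1 (flp_i L729070) L729054 L745727
theorem L745739 : sm gg N55571 = N54386 := ded_51_1 (flp_i L731863) (flp_g L729068) L745727
theorem L745741 : sm gj N55571 = N54322 := ded_53_1 (flp_i L731396) (flp_j L729062) L745727
theorem L745743 : sm gh N54020 = N55572 := rfl
theorem L745745 : sm gb N55572 = N54026 := ded_25_1 (flp_h L729118) (flp_b L729072) L745743
theorem L745747 : sm gc N55572 = N54345 := ded_32_1 (flp_h L731560) (flp_c L729074) L745743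
theorem L745749 : sm ge N55572 = N54021 := ded_43_1 (flp_h L729078) (flp_e L729076) L745743
theorem L745751 : sm gi N55572 = N54063 := ded_54_2 (flp_h L729467) (flp_i L710530) (flp_h L710163) L729070 L745743
theorem L745753 : sm gd N54021 = N55573 := rfl
theorem L745755 : sm gb N55573 = N54027 := ded_20_1 (flp_d L729126) (flp_b L729080) L745753
theorem L745757 : sm gf N55573 = N54035 := ded_35_2 (flp_d L729216) (flp_f L729084) L745753
theorem L745759 : sm gi N55573 = N54064 := ded_39_2 (flp_d L729475) (flp_i L729086) L745753
theorem L745761 : sm gh N55573 = N55573 := ded_38_2 (flp_d L745753) (flp_h L729078) L710171 L729078 L745753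
theorem L745762 : sm gi N54022 = N55574 := rfl
theorem L745764 : sm gc N55574 = N54336 := ded_33_1 (flp_i L731495) (flp_c L729090) L745762
theorem L745766 : sm gd N55574 = N54025 := ded_39_1 (flp_i L729108) (flp_d L729092) L745762
theorem L745768 : sm ge N55574 = N54432 := ded_44_1 (flp_i L732201) L729096 L745762
theorem L745770 : sm gf N55574 = N54024 := ded_48_1 (flp_i L729103) L729088 L745762
theorem L745772 : sm gj N55574 = N54325 := ded_53_1 (flp_i L731414) (flp_j L729094) L745762
theorem L745774 : sm gi N54023 = N55575 := rfl
theorem L745776 : sm gd N55575 = N54068 := ded_39_1 (flp_i L729506) (flp_d L729101) L745774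
theorem L745778 : sm ge N55575 = N55575 := ded_44_1 (flp_i L745774) L729100 L745774
theorem L745779 : sm gh N54024 = N55576 := rfl
theorem L745781 : sm ge N55576 = N55576 := ded_43_1 (flp_h L745779) L729107 L745779
theorem L745782 : sm gh N54025 = N55577 := rfl
theorem L745784 : sm gc N55577 = N54029 := ded_32_1 (flp_h L729145) (flp_c L729110) L745782
theorem L745786 : sm ge N55577 = N54036 := ded_43_1 (flp_h L729225) (flp_e L729112) L745782
theorem L745788 : sm gf N55577 = N54026 := ded_47_1 (flp_h L729118) (flp_f L729114) L745782
theorem L745790 : sm gj N55577 = N54326 := ded_52_1 (flp_h L731422) (flp_j L729116) L745782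
theorem L745792 : sm gi N55577 = N54072 := ded_54_2 (flp_h L729528) (flp_i L710567) (flp_h L710183) L729108 L745782
theorem L745794 : sm gd N54026 = N55578 := rfl
theorem L745796 : sm gi N55578 = N54073 := ded_39_2 (flp_d L729536) (flp_i L729124) L745794
theorem L745798 : sm ge N54027 = N55579 := rfl
theorem L745800 : sm gh N55579 = N55579 := ded_43_2 (flp_e L745798) L729132 L745798
theorem L745801 : sm gi N55579 = N54074 := ded_44_2 (flp_e L729538) (flp_i L729130) L745798
theorem L745803 : sm gh N54028 = N55580 := rfl
theorem L745805 : sm ga N55580 = N54278 := ded_17_1 (flp_h L731073) (flp_a L729135) L745803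
theorem L745807 : sm gb N55580 = N54356 := ded_25_1 (flp_h L731633) (flp_b L729137) L745803
theorem L745809 : sm ge N55580 = N54037 := ded_43_1 (flp_h L729235) (flp_e L729141) L745803
theorem L745811 : sm gg N55580 = N54029 := ded_50_1 (flp_h L729145) (flp_g L729143) L745803
theorem L745813 : sm gi N55580 = N54076 := ded_54_2 (flp_h L729550) (flp_i L710593) (flp_h L710211) L729133 L745803
theorem L745815 : sm gd N54029 = N55581 := rfl
theorem L745817 : sm gb N55581 = N54357 := ded_20_1 (flp_d L731641) (flp_b L729147) L745815
theorem L745819 : sm gf N55581 = N54030 := ded_35_2 (flp_d L729157) (flp_f L729151) L745815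
theorem L745821 : sm gj N55581 = N54328 := ded_37_2 (flp_d L731434) (flp_j L729153) L745815
theorem L745823 : sm gi N55581 = N54077 := ded_39_2 (flp_d L729558) (flp_i L729155) L745815
theorem L745825 : sm gh N55581 = N54338 := ded_38_2 (flp_d L731513) (flp_h L713145) (flp_d L710217) L729145 L745815
theorem L745827 : sm gc N54030 = N55582 := rfl
theorem L745829 : sm gi N55582 = N54078 := ded_33_2 (flp_c L729564) (flp_i L729161) L745827
theorem L745831 : sm gd N54031 = N55583 := rfl
theorem L745833 : sm gb N55583 = N54032 := ded_20_1 (flp_d L729176) (flp_b L729165) L745831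
theorem L745835 : sm gg N55583 = N55583 := ded_36_2 (flp_d L745831) L729171 L745831
theorem L745836 : sm gj N55583 = N54035 := ded_37_2 (flp_d L729216) (flp_j L729172) L745831
theorem L745838 : sm gi N55583 = N54084 := ded_39_2 (flp_d L729626) (flp_i L729174) L745831
theorem L745840 : sm gc N55583 = N54447 := ded_27_1 (flp_d L732301) L714100 (flp_d L713288) (flp_c L729167) L745831
theorem L745842 : sm gh N55583 = N55583 := ded_38_2 (flp_d L745831) (flp_h L729163) L710239 L729163 L745831
theorem L745843 : sm gh N54033 = N55584 := rfl
theorem L745845 : sm ga N55584 = N54418 := ded_17_1 (flp_h L732081) (flp_a L729186) L745843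
theorem L745847 : sm gb N55584 = N54036 := ded_25_1 (flp_h L729225) (flp_b L729188) L745843
theorem L745849 : sm gc N55584 = N54362 := ded_32_1 (flp_h L731683) (flp_c L729190) L745843
theorem L745851 : sm gf N55584 = N54034 := ded_47_1 (flp_h L729200) (flp_f L729194) L745843
theorem L745853 : sm gg N55584 = N54417 := ded_50_1 (flp_h L732075) (flp_g L729196) L745843
theorem L745855 : sm gj N55584 = N54323 := ded_52_1 (flp_h L731402) (flp_j L729198) L745843
theorem L745857 : sm gi N55584 = N54091 := ded_54_2 (flp_h L729702) (flp_i L710754) (flp_h L710268) L729184 L745843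
theorem L745859 : sm gi N54039 = N55585 := rfl
theorem L745861 : sm gc N55585 = N54042 := ded_33_1 (flp_i L729278) (flp_c L729260) L745859
theorem L745863 : sm ge N55585 = N55585 := ded_44_1 (flp_i L745859) L729262 L745859
theorem L745864 : sm gf N55585 = N54040 := ded_48_1 (flp_i L729263) L729258 L745859
theorem L745866 : sm gh N54040 = N55586 := rfl
theorem L745868 : sm gc N55586 = N54043 := ded_32_1 (flp_h L729285) (flp_c L729265) L745866
theorem L745870 : sm ge N55586 = N54041 := ded_43_1 (flp_h L729271) (flp_e L729267) L745866
theorem L745872 : sm gg N55586 = N54051 := ded_50_1 (flp_h L729358) (flp_g L729269) L745866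
theorem L745874 : sm gd N54041 = N55587 := rfl
theorem L745876 : sm gf N55587 = N55587 := ded_35_2 (flp_d L745874) L729275 L745874
theorem L745877 : sm gg N55587 = N54052 := ded_36_2 (flp_d L729366) (flp_g L729276) L745874
theorem L745879 : sm gc N55587 = N54114 := ded_27_1 (flp_d L729871) (flp_c L727940) L727945 (flp_c L729273) L745874
theorem L745881 : sm gh N55587 = N54103 := ded_38_2 (flp_d L729803) (flp_h L710922) (flp_d L710403) L729271 L745874
theorem L745883 : sm gh N54042 = N55588 := rfl
theorem L745885 : sm gb N55588 = N54374 := ded_25_1 (flp_h L731780) (flp_b L729280) L745883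
theorem L745887 : sm ge N55588 = N55588 := ded_43_1 (flp_h L745883) L729282 L745883
theorem L745888 : sm gf N55588 = N54043 := ded_47_1 (flp_h L729285) (flp_f L729283) L745883
theorem L745890 : sm gd N54043 = N55589 := rfl
theorem L745892 : sm gb N55589 = N54375 := ded_20_1 (flp_d L731785) (flp_b L729287) L745890
theorem L745894 : sm gg N55589 = N54054 := ded_36_2 (flp_d L729386) (flp_g L729291) L745890
theorem L745896 : sm gi N54044 = N55590 := rfl
theorem L745898 : sm gb N55590 = N54050 := ded_26_1 (flp_i L729348) (flp_b L729295) L745896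
theorem L745900 : sm gc N55590 = N54376 := ded_33_1 (flp_i L731789) (flp_c L729297) L745896
theorem L745902 : sm ge N55590 = N54082 := ded_44_1 (flp_i L729602) (flp_e L729303) L745896
theorem L745904 : sm gf N55590 = N54045 := ded_48_1 (flp_i L729305) L729293 L745896
theorem L745906 : sm gj N55590 = N54062 := ded_53_1 (flp_i L729457) (flp_j L729299) L745896
theorem L745908 : sm gh N54045 = N55591 := rfl
theorem L745910 : sm gb N55591 = N54051 := ded_25_1 (flp_h L729358) (flp_b L729307) L745908
theorem L745912 : sm gc N55591 = N54377 := ded_32_1 (flp_h L731801) (flp_c L729309) L745908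
theorem L745914 : sm ge N55591 = N54046 := ded_43_1 (flp_h L729315) (flp_e L729311) L745908
theorem L745916 : sm gj N55591 = N54063 := ded_52_1 (flp_h L729467) (flp_j L729313) L745908
theorem L745918 : sm gd N54046 = N55592 := rfl
theorem L745920 : sm gb N55592 = N54052 := ded_20_1 (flp_d L729366) (flp_b L729317) L745918
theorem L745922 : sm gf N55592 = N54084 := ded_35_2 (flp_d L729626) (flp_f L729321) L745918
theorem L745924 : sm gj N55592 = N54064 := ded_37_2 (flp_d L729475) (flp_j L729323) L745918
theorem L745926 : sm gc N55592 = N54243 := ded_27_1 (flp_d L730808) L712298 (flp_d L713480) (flp_c L729319) L745918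
theorem L745928 : sm gh N55592 = N54104 := ded_38_2 (flp_d L729811) (flp_h L710930) (flp_d L710442) L729315 L745918
theorem L745930 : sm gh N54047 = N55593 := rfl
theorem L745932 : sm gc N55593 = N54193 := ded_32_1 (flp_h L730476) (flp_c L729327) L745930
theorem L745934 : sm ge N55593 = N55593 := ded_43_1 (flp_h L745930) L729333 L745930
theorem L745935 : sm gf N55593 = N54048 := ded_47_1 (flp_h L729334) L729325 L745930
theorem L745937 : sm gj N55593 = N54066 := ded_52_1 (flp_h L729494) (flp_j L729331) L745930
theorem L745939 : sm gd N55593 = N54324 := ded_38_1 (flp_h L731408) (flp_d L713046) (flp_h L710460) (flp_d L729329) L745930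
theorem L745941 : sm gi N54047 = N55594 := rfl
theorem L745943 : sm gc N55594 = N54194 := ded_33_1 (flp_i L730481) (flp_c L729327) L745941
theorem L745945 : sm gd N55594 = N54050 := ded_39_1 (flp_i L729348) (flp_d L729329) L745941
theorem L745947 : sm ge N55594 = N55594 := ded_44_1 (flp_i L745941) L729333 L745941
theorem L745948 : sm gf N55594 = N54049 := ded_48_1 (flp_i L729340) L729325 L745941
theorem L745950 : sm gj N55594 = N54067 := ded_53_1 (flp_i L729499) (flp_j L729331) L745941
theorem L745952 : sm gi N54048 = N55595 := rfl
theorem L745954 : sm ge N55595 = N54105 := ded_44_1 (flp_i L729822) (flp_e L729336) L745952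
theorem L745956 : sm gj N55595 = N54068 := ded_53_1 (flp_i L729506) (flp_j L729338) L745952
theorem L745958 : sm gh N54049 = N55596 := rfl
theorem L745960 : sm ge N55596 = N54106 := ded_43_1 (flp_h L729828) (flp_e L729344) L745958
theorem L745962 : sm gj N55596 = N54069 := ded_52_1 (flp_h L729510) (flp_j L729346) L745958
theorem L745964 : sm gh N54050 = N55597 := rfl
theorem L745966 : sm gc N55597 = N54053 := ded_32_1 (flp_h L729374) (flp_c L729350) L745964
theorem L745968 : sm ge N55597 = N54085 := ded_43_1 (flp_h L729637) (flp_e L729352) L745964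
theorem L745970 : sm gf N55597 = N54051 := ded_47_1 (flp_h L729358) (flp_f L729354) L745964
theorem L745972 : sm gj N55597 = N54072 := ded_52_1 (flp_h L729528) (flp_j L729356) L745964
theorem L745974 : sm gi N55597 = N54326 := ded_54_2 (flp_h L731422) (flp_i L713052) (flp_h L710460) L729348 L745964
theorem L745976 : sm gd N54051 = N55598 := rfl
theorem L745978 : sm gj N55598 = N54073 := ded_37_2 (flp_d L729536) (flp_j L729364) L745976
theorem L745980 : sm ge N54052 = N55599 := rfl
theorem L745982 : sm gj N55599 = N54074 := ded_42_2 (flp_e L729538) (flp_j L729370) L745980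
theorem L745984 : sm gh N55599 = N54108 := ded_43_2 (flp_e L729839) (flp_h L729372) L745980
theorem L745986 : sm gd N54053 = N55600 := rfl
theorem L745988 : sm gb N55600 = N54384 := ded_20_1 (flp_d L731853) (flp_b L729376) L745986
theorem L745990 : sm gf N55600 = N54054 := ded_35_2 (flp_d L729386) (flp_f L729380) L745986
theorem L745992 : sm gj N55600 = N54077 := ded_37_2 (flp_d L729558) (flp_j L729382) L745986
theorem L745994 : sm gi N55600 = N54328 := ded_39_2 (flp_d L731434) (flp_i L729384) L745986
theorem L745996 : sm gh N55600 = N54197 := ded_38_2 (flp_d L730501) (flp_h L711882) (flp_d L710484) L729374 L745986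
theorem L745998 : sm gc N54054 = N55601 := rfl
theorem L746000 : sm gj N55601 = N54078 := ded_31_2 (flp_c L729564) (flp_j L729390) L745998
theorem L746002 : sm gi N54055 = N55602 := rfl
theorem L746004 : sm ga N55602 = N54062 := ded_18_1 (flp_i L729457) (flp_a L729394) L746002
theorem L746006 : sm gb N55602 = N54352 := ded_26_1 (flp_i L731605) (flp_b L729396) L746002
theorem L746008 : sm gc N55602 = N54386 := ded_33_1 (flp_i L731863) (flp_c L729398) L746002
theorem L746010 : sm ge N55602 = N54088 := ded_44_1 (flp_i L729662) (flp_e L729402) L746002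
theorem L746012 : sm gf N55602 = N54056 := ded_48_1 (flp_i L729406) L729392 L746002
theorem L746014 : sm gg N55602 = N54344 := ded_51_1 (flp_i L731552) (flp_g L729404) L746002
theorem L746016 : sm gh N54056 = N55603 := rfl
theorem L746018 : sm ga N55603 = N54063 := ded_17_1 (flp_h L729467) (flp_a L729408) L746016
theorem L746020 : sm gc N55603 = N54387 := ded_32_1 (flp_h L731871) (flp_c L729410) L746016
theorem L746022 : sm ge N55603 = N54057 := ded_43_1 (flp_h L729414) (flp_e L729412) L746016
theorem L746024 : sm gi N54058 = N55604 := rfl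
theorem L746026 : sm gb N55604 = N54067 := ded_26_1 (flp_i L729499) (flp_b L729424) L746024
theorem L746028 : sm gd N55604 = N54062 := ded_39_1 (flp_i L729457) (flp_d L729426) L746024
theorem L746030 : sm ge N55604 = N55604 := ded_44_1 (flp_i L746024) L729428 L746024
theorem L746031 : sm gf N55604 = N54060 := ded_48_1 (flp_i L729435) L729422 L746024
theorem L746033 : sm gi N54059 = N55605 := rfl
theorem L746035 : sm gb N55605 = N54068 := ded_26_1 (flp_i L729506) (flp_b L729431) L746033
theorem L746037 : sm ge N55605 = N54109 := ded_44_1 (flp_i L729844) (flp_e L729433) L746033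
theorem L746039 : sm gh N54060 = N55606 := rfl
theorem L746041 : sm gb N55606 = N54069 := ded_25_1 (flp_h L729510) (flp_b L729437) L746039
theorem L746043 : sm ge N55606 = N54110 := ded_43_1 (flp_h L729850) (flp_e L729441) L746039
theorem L746045 : sm gi N54061 = N55607 := rfl
theorem L746047 : sm ga N55607 = N54344 := ded_18_1 (flp_i L731552) (flp_a L729445) L746045
theorem L746049 : sm gb N55607 = N54071 := ded_26_1 (flp_i L729520) (flp_b L729447) L746045
theorem L746051 : sm gc N55607 = N54390 := ded_33_1 (flp_i L731897) (flp_c L729449) L746045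
theorem L746053 : sm ge N55607 = N54090 := ded_44_1 (flp_i L729689) (flp_e L729451) L746045
theorem L746055 : sm gf N55607 = N54339 := ded_48_1 (flp_i L731519) (flp_f L729455) L746045
theorem L746057 : sm gg N55607 = N54062 := ded_51_1 (flp_i L729457) L729443 L746045
theorem L746059 : sm gh N54062 = N55608 := rfl
theorem L746061 : sm gb N55608 = N54072 := ded_25_1 (flp_h L729528) (flp_b L729459) L746059
theorem L746063 : sm gc N55608 = N54391 := ded_32_1 (flp_h L731905) (flp_c L729461) L746059
theorem L746065 : sm ge N55608 = N54091 := ded_43_1 (flp_h L729702) (flp_e L729463) L746059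
theorem L746067 : sm gf N55608 = N54063 := ded_47_1 (flp_h L729467) (flp_f L729465) L746059
theorem L746069 : sm gd N54063 = N55609 := rfl
theorem L746071 : sm gb N55609 = N54073 := ded_20_1 (flp_d L729536) (flp_b L729469) L746069
theorem L746073 : sm ge N54064 = N55610 := rfl
theorem L746075 : sm gb N55610 = N54074 := ded_21_1 (flp_e L729538) (flp_b L729477) L746073
theorem L746077 : sm gh N55610 = N54112 := ded_43_2 (flp_e L729861) (flp_h L729481) L746073
theorem L746079 : sm gi N54065 = N55611 := rfl
theorem L746081 : sm ga N55611 = N54371 := ded_18_1 (flp_i L731758) (flp_a L729485) L746079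
theorem L746083 : sm gc N55611 = N54302 := ded_33_1 (flp_i L731248) (flp_c L729487) L746079
theorem L746085 : sm gd N55611 = N54071 := ded_39_1 (flp_i L729520) (flp_d L729489) L746079
theorem L746087 : sm ge N55611 = N55611 := ded_44_1 (flp_i L746079) L729491 L746079
theorem L746088 : sm gf N55611 = N54300 := ded_48_1 (flp_i L731229) (flp_f L729492) L746079
theorem L746090 : sm gg N55611 = N54067 := ded_51_1 (flp_i L729499) L729483 L746079
theorem L746092 : sm gi N54066 = N55612 := rfl
theorem L746094 : sm ge N55612 = N55612 := ded_44_1 (flp_i L746092) L729496 L746092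
theorem L746095 : sm gf N55612 = N54068 := ded_48_1 (flp_i L729506) (flp_f L729497) L746092
theorem L746097 : sm gh N54067 = N55613 := rfl
theorem L746099 : sm ge N55613 = N55613 := ded_43_1 (flp_h L746097) L729503 L746097
theorem L746100 : sm gf N55613 = N54069 := ded_47_1 (flp_h L729510) (flp_f L729504) L746097
theorem L746102 : sm gh N54068 = N55614 := rfl
theorem L746104 : sm ge N55614 = N54113 := ded_43_1 (flp_h L729866) (flp_e L729508) L746102
theorem L746106 : sm gi N55614 = N54069 := ded_54_2 (flp_h L729510) (flp_i L710555) L710551 L729506 L746102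
theorem L746108 : sm gd N54069 = N55615 := rfl
theorem L746110 : sm gh N55615 = N54073 := ded_38_2 (flp_d L729536) (flp_h L710575) (flp_d L710557) L729510 L746108
theorem L746112 : sm gi N54070 = N55616 := rfl
theorem L746114 : sm gc N55616 = N54075 := ded_33_1 (flp_i L729542) (flp_c L729516) L746112
theorem L746116 : sm ge N55616 = N54093 := ded_44_1 (flp_i L729717) (flp_e L729518) L746112
theorem L746118 : sm gj N55616 = N54071 := ded_53_1 (flp_i L729520) L729514 L746112
theorem L746120 : sm gh N54071 = N55617 := rfl
theorem L746122 : sm gc N55617 = N54076 := ded_32_1 (flp_h L729550) (flp_c L729522) L746120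
theorem L746124 : sm ge N55617 = N54094 := ded_43_1 (flp_h L729726) (flp_e L729524) L746120
theorem L746126 : sm gg N55617 = N54072 := ded_50_1 (flp_h L729528) (flp_g L729526) L746120
theorem L746128 : sm gd N54072 = N55618 := rfl
theorem L746130 : sm gf N55618 = N54073 := ded_35_2 (flp_d L729536) (flp_f L729534) L746128
theorem L746132 : sm gc N54073 = N55619 := rfl
theorem L746134 : sm gd N55619 = N54078 := ded_27_2 (flp_c L729564) (flp_d L710609) (flp_c L710577) L729536 L746132
theorem L746136 : sm ge N54073 = N55620 := rfl
theorem L746138 : sm gd N55620 = N54074 := ded_34_1 (flp_e L729538) (flp_d L710581) (flp_e L710579) L729536 L746136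
theorem L746140 : sm gf N54074 = N55621 := rfl
theorem L746142 : sm gh N55621 = N54116 := ded_47_2 (flp_f L729881) (flp_h L729540) L746140
theorem L746144 : sm ge N55621 = N54096 := ded_40_1 (flp_f L729739) (flp_e L710808) (flp_f L710583) L729538 L746140
theorem L746146 : sm gh N54075 = N55622 := rfl
theorem L746148 : sm gb N55622 = N54405 := ded_25_1 (flp_h L731987) (flp_b L729544) L746146
theorem L746150 : sm ge N55622 = N54097 := ded_43_1 (flp_h L729743) (flp_e L729546) L746146
theorem L746152 : sm gj N55622 = N54076 := ded_52_1 (flp_h L729550) (flp_j L729548) L746146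
theorem L746154 : sm gd N54076 = N55623 := rfl
theorem L746156 : sm gb N55623 = N54406 := ded_20_1 (flp_d L731993) (flp_b L729552) L746154
theorem L746158 : sm gg N55623 = N54077 := ded_36_2 (flp_d L729558) (flp_g L729556) L746154
theorem L746160 : sm gc N54077 = N55624 := rfl
theorem L746162 : sm gf N55624 = N54078 := ded_29_2 (flp_c L729564) (flp_f L729562) L746160
theorem L746164 : sm gb N54078 = N55625 := rfl
theorem L746166 : sm gc N55625 = N54408 := ded_19_2 (flp_b L732001) (flp_c L713684) (flp_b L710611) L729564 L746164
theorem L746168 : sm gi N54079 = N55626 := rfl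
theorem L746170 : sm ga N55626 = N54082 := ded_18_1 (flp_i L729602) (flp_a L729568) L746168
theorem L746172 : sm gb N55626 = N54364 := ded_26_1 (flp_i L731700) (flp_b L729570) L746168
theorem L746174 : sm gc N55626 = N54409 := ded_33_1 (flp_i L732003) (flp_c L729572) L746168
theorem L746176 : sm gd N55626 = N55626 := ded_39_1 (flp_i L746168) L729574 L746168
theorem L746177 : sm gf N55626 = N54080 := ded_48_1 (flp_i L729579) L729566 L746168
theorem L746179 : sm gj N55626 = N54088 := ded_53_1 (flp_i L729662) (flp_j L729575) L746168
theorem L746181 : sm gh N54080 = N55627 := rfl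
theorem L746183 : sm ga N55627 = N54083 := ded_17_1 (flp_h L729613) (flp_a L729581) L746181
theorem L746185 : sm gb N55627 = N54369 := ded_25_1 (flp_h L731742) (flp_b L729583) L746181
theorem L746187 : sm gc N55627 = N54410 := ded_32_1 (flp_h L732013) (flp_c L729585) L746181
theorem L746189 : sm ge N55627 = N54081 := ded_43_1 (flp_h L729593) (flp_e L729588) L746181
theorem L746191 : sm gg N55627 = N55627 := ded_50_1 (flp_h L746181) L729590 L746181
theorem L746192 : sm gj N55627 = N54089 := ded_52_1 (flp_h L729675) (flp_j L729591) L746181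
theorem L746194 : sm gi N55627 = N54425 := ded_54_2 (flp_h L732131) (flp_i L713853) (flp_h L710624) L729579 L746181
theorem L746196 : sm gh N54082 = N55628 := rfl
theorem L746198 : sm gb N55628 = N54085 := ded_25_1 (flp_h L729637) (flp_b L729604) L746196
theorem L746200 : sm gc N55628 = N54411 := ded_32_1 (flp_h L732022) (flp_c L729606) L746196
theorem L746202 : sm gf N55628 = N54083 := ded_47_1 (flp_h L729613) (flp_f L729609) L746196
theorem L746204 : sm gj N55628 = N54091 := ded_52_1 (flp_h L729702) (flp_j L729611) L746196
theorem L746206 : sm gi N55628 = N54323 := ded_54_2 (flp_h L731402) (flp_i L713038) (flp_h L710647) L729602 L746196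
theorem L746208 : sm gd N54083 = N55629 := rfl
theorem L746210 : sm gb N55629 = N54086 := ded_20_1 (flp_d L729647) (flp_b L729615) L746208
theorem L746212 : sm gg N55629 = N55629 := ded_36_2 (flp_d L746208) L729621 L746208
theorem L746213 : sm gj N55629 = N54092 := ded_37_2 (flp_d L729710) (flp_j L729622) L746208
theorem L746215 : sm gi N55629 = N54470 := ded_39_2 (flp_d L732470) (flp_i L729624) L746208
theorem L746217 : sm gh N55629 = N55629 := ded_38_2 (flp_d L746208) (flp_h L729613) L710655 L729613 L746208
theorem L746218 : sm gd N54085 = N55630 := rfl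
theorem L746220 : sm gf N55630 = N54086 := ded_35_2 (flp_d L729647) (flp_f L729641) L746218
theorem L746222 : sm gj N55630 = N54095 := ded_37_2 (flp_d L729734) (flp_j L729643) L746218
theorem L746224 : sm gi N55630 = N54327 := ded_39_2 (flp_d L731428) (flp_i L729645) L746218
theorem L746226 : sm gh N55630 = N55630 := ded_38_2 (flp_d L746218) (flp_h L729637) L710674 L729637 L746218
theorem L746227 : sm gf N54087 = N55631 := rfl
theorem L746229 : sm gj N55631 = N54096 := ded_46_2 (flp_f L729739) (flp_j L729658) L746227
theorem L746231 : sm gh N55631 = N54117 := ded_47_2 (flp_f L729886) (flp_h L729660) L746227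
theorem L746233 : sm gh N54088 = N55632 := rfl
theorem L746235 : sm ga N55632 = N54091 := ded_17_1 (flp_h L729702) (flp_a L729664) L746233
theorem L746237 : sm gb N55632 = N54365 := ded_25_1 (flp_h L731709) (flp_b L729666) L746233
theorem L746239 : sm gc N55632 = N54417 := ded_32_1 (flp_h L732075) (flp_c L729668) L746233
theorem L746241 : sm gf N55632 = N54089 := ded_47_1 (flp_h L729675) (flp_f L729671) L746233
theorem L746243 : sm gg N55632 = N54362 := ded_50_1 (flp_h L731683) (flp_g L729673) L746233
theorem L746245 : sm gi N55632 = N54418 := ded_54_2 (flp_h L732081) (flp_i L713787) (flp_h L710716) L729662 L746233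
theorem L746247 : sm gd N54089 = N55633 := rfl
theorem L746249 : sm ga N55633 = N54092 := ded_12_1 (flp_d L729710) (flp_a L729677) L746247
theorem L746251 : sm gb N55633 = N54370 := ded_20_1 (flp_d L731751) (flp_b L729679) L746247
theorem L746253 : sm gg N55633 = N54098 := ded_36_2 (flp_d L729751) (flp_g L729685) L746247
theorem L746255 : sm gi N55633 = N54426 := ded_39_2 (flp_d L732140) (flp_i L729687) L746247
theorem L746257 : sm gh N55633 = N55633 := ded_38_2 (flp_d L746247) (flp_h L729675) L710728 L729675 L746247
theorem L746258 : sm gh N54090 = N55634 := rfl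
theorem L746260 : sm ga N55634 = N54362 := ded_17_1 (flp_h L731683) (flp_a L729691) L746258
theorem L746262 : sm gb N55634 = N54094 := ded_25_1 (flp_h L729726) (flp_b L729693) L746258
theorem L746264 : sm gc N55634 = N54418 := ded_32_1 (flp_h L732081) (flp_c L729695) L746258
theorem L746266 : sm gf N55634 = N54100 := ded_47_1 (flp_h L729777) (flp_f L729698) L746258
theorem L746268 : sm gg N55634 = N54091 := ded_50_1 (flp_h L729702) (flp_g L729700) L746258
theorem L746270 : sm gi N55634 = N54417 := ded_54_2 (flp_h L732075) (flp_i L713771) (flp_h L710750) L729689 L746258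
theorem L746272 : sm gd N54091 = N55635 := rfl
theorem L746274 : sm gb N55635 = N54095 := ded_20_1 (flp_d L729734) (flp_b L729704) L746272
theorem L746276 : sm gf N55635 = N54092 := ded_35_2 (flp_d L729710) (flp_f L729708) L746272
theorem L746278 : sm gh N55635 = N55635 := ded_38_2 (flp_d L746272) (flp_h L729702) L710760 L729702 L746272
theorem L746279 : sm gh N54093 = N55636 := rfl
theorem L746281 : sm gc N55636 = N54097 := ded_32_1 (flp_h L729743) (flp_c L729719) L746279
theorem L746283 : sm gf N55636 = N54101 := ded_47_1 (flp_h L729791) (flp_f L729722) L746279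
theorem L746285 : sm gj N55636 = N54094 := ded_52_1 (flp_h L729726) (flp_j L729724) L746279
theorem L746287 : sm gd N54094 = N55637 := rfl
theorem L746289 : sm gf N55637 = N54102 := ded_35_2 (flp_d L729798) (flp_f L729730) L746287
theorem L746291 : sm gg N55637 = N54095 := ded_36_2 (flp_d L729734) (flp_g L729732) L746287
theorem L746293 : sm gh N55637 = N55637 := ded_38_2 (flp_d L746287) (flp_h L729726) L710792 L729726 L746287
theorem L746294 : sm ge N54095 = N55638 := rfl
theorem L746296 : sm gh N55638 = N55638 := ded_43_2 (flp_e L746294) L729738 L746294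
theorem L746297 : sm gh N54099 = N55639 := rfl
theorem L746299 : sm ga N55639 = N54360 := ded_17_1 (flp_h L731662) (flp_a L729765) L746297
theorem L746301 : sm gb N55639 = N54101 := ded_25_1 (flp_h L729791) (flp_b L729767) L746297
theorem L746303 : sm gc N55639 = N54425 := ded_32_1 (flp_h L732131) (flp_c L729769) L746297
theorem L746305 : sm ge N55639 = N54359 := ded_43_1 (flp_h L731651) (flp_e L729772) L746297
theorem L746307 : sm gg N55639 = N55639 := ded_50_1 (flp_h L746297) L729774 L746297
theorem L746308 : sm gj N55639 = N54100 := ded_52_1 (flp_h L729777) (flp_j L729775) L746297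
theorem L746310 : sm gi N55639 = N54410 := ded_54_2 (flp_h L732013) (flp_i L713694) (flp_h L710858) L729763 L746297
theorem L746312 : sm gd N54101 = N55640 := rfl
theorem L746314 : sm gg N55640 = N55640 := ded_36_2 (flp_d L746312) L729795 L746312
theorem L746315 : sm gj N55640 = N54102 := ded_37_2 (flp_d L729798) (flp_j L729796) L746312
theorem L746317 : sm gh N55640 = N55640 := ded_38_2 (flp_d L746312) (flp_h L729791) L710899 L729791 L746312
theorem L746318 : sm ge N54103 = N55641 := rfl
theorem L746320 : sm gc N55641 = N54115 := ded_28_1 (flp_e L729876) (flp_c L729809) L746318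
theorem L746322 : sm gg N55641 = N54108 := ded_41_2 (flp_e L729839) (flp_g L729806) L746318
theorem L746324 : sm gi N55641 = N55641 := ded_44_2 (flp_e L746318) L729808 L746318
theorem L746325 : sm ge N54104 = N55642 := rfl
theorem L746327 : sm gb N55642 = N54108 := ded_21_1 (flp_e L729839) (flp_b L729813) L746325
theorem L746329 : sm gc N55642 = N54244 := ded_28_1 (flp_e L730814) (flp_c L729820) L746325
theorem L746331 : sm gj N55642 = N54112 := ded_42_2 (flp_e L729861) (flp_j L729817) L746325
theorem L746333 : sm gi N55642 = N55642 := ded_44_2 (flp_e L746325) L729819 L746325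
theorem L746334 : sm gh N54105 = N55643 := rfl
theorem L746336 : sm gf N55643 = N55643 := ded_47_1 (flp_h L746334) L729825 L746334
theorem L746337 : sm gj N55643 = N54113 := ded_52_1 (flp_h L729866) (flp_j L729826) L746334
theorem L746339 : sm gi N55643 = N54106 := ded_54_2 (flp_h L729828) (flp_i L710947) L710941 L729822 L746334
theorem L746341 : sm gd N54106 = N55644 := rfl
theorem L746343 : sm gf N55644 = N55644 := ded_35_2 (flp_d L746341) L729830 L746341
theorem L746344 : sm gj N55644 = N54114 := ded_37_2 (flp_d L729871) (flp_j L729831) L746341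
theorem L746346 : sm gh N55644 = N54107 := ded_38_2 (flp_d L729833) (flp_h L710954) (flp_d L710949) L729828 L746341
theorem L746348 : sm ge N54107 = N55645 := rfl
theorem L746350 : sm gj N55645 = N54115 := ded_42_2 (flp_e L729876) (flp_j L729836) L746348
theorem L746352 : sm gi N55645 = N55645 := ded_44_2 (flp_e L746348) L729838 L746348
theorem L746353 : sm gd N55645 = N54108 := ded_34_1 (flp_e L729839) (flp_d L710964) (flp_e L710958) L729833 L746348
theorem L746355 : sm gf N54108 = N55646 := rfl
theorem L746357 : sm gj N55646 = N54116 := ded_46_2 (flp_f L729881) (flp_j L729841) L746355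
theorem L746359 : sm gi N55646 = N55646 := ded_48_2 (flp_f L746355) L729843 L746355
theorem L746360 : sm ge N55646 = N54117 := ded_40_1 (flp_f L729886) (flp_e L711045) (flp_f L710966) L729839 L746355
theorem L746362 : sm gh N54109 = N55647 := rfl
theorem L746364 : sm gb N55647 = N54113 := ded_25_1 (flp_h L729866) (flp_b L729846) L746362
theorem L746366 : sm gf N55647 = N55647 := ded_47_1 (flp_h L746362) L729849 L746362
theorem L746367 : sm gi N55647 = N54110 := ded_54_2 (flp_h L729850) (flp_i L710986) L710980 L729844 L746362
theorem L746369 : sm gd N54110 = N55648 := rfl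
theorem L746371 : sm gb N55648 = N54114 := ded_20_1 (flp_d L729871) (flp_b L729852) L746369
theorem L746373 : sm gf N55648 = N55648 := ded_35_2 (flp_d L746369) L729854 L746369
theorem L746374 : sm gh N55648 = N54111 := ded_38_2 (flp_d L729855) (flp_h L710993) (flp_d L710990) L729850 L746369
theorem L746376 : sm ge N54111 = N55649 := rfl
theorem L746378 : sm gb N55649 = N54115 := ded_21_1 (flp_e L729876) (flp_b L729857) L746376
theorem L746380 : sm gi N55649 = N55649 := ded_44_2 (flp_e L746376) L729860 L746376
theorem L746381 : sm gd N55649 = N54112 := ded_34_1 (flp_e L729861) (flp_d L711003) (flp_e L710999) L729855 L746376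
theorem L746383 : sm gd N54113 = N55650 := rfl
theorem L746385 : sm gf N55650 = N55650 := ded_35_2 (flp_d L746383) L729868 L746383
theorem L746386 : sm gi N55650 = N54114 := ded_39_2 (flp_d L729871) (flp_i L729869) L746383
theorem L746388 : sm gh N55650 = N55650 := ded_38_2 (flp_d L746383) (flp_h L729866) L711012 L729866 L746383
theorem L746389 : sm ge N54114 = N55651 := rfl
theorem L746391 : sm gh N55651 = N54115 := ded_43_2 (flp_e L729876) (flp_h L729874) L746389
theorem L746393 : sm gf N54115 = N55652 := rfl
theorem L746395 : sm gd N55652 = N54116 := ded_35_1 (flp_f L729881) (flp_d L729879) L746393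
theorem L746397 : sm gi N55652 = N55652 := ded_48_2 (flp_f L746393) L729878 L746393
theorem L746398 : sm ge N55652 = N55652 := ded_40_1 (flp_f L746393) (flp_e L729876) L711019 L729876 L746393
theorem L746399 : sm gg N54117 = N55653 := rfl
theorem L746401 : sm gd N55653 = N55653 := ded_36_1 (flp_g L746399) L729888 L746399
theorem L746402 : sm gi N55653 = N55653 := ded_51_2 (flp_g L746399) L729891 L746399
theorem L746403 : sm gf N55653 = N55653 := ded_45_1 (flp_g L746399) (flp_f L729886) L711047 L729886 L746399
theorem L746404 : sm ge N54118 = N55654 := rfl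
theorem L746406 : sm ga N55654 = N54123 := ded_13_1 (flp_e L729937) (flp_a L729894) L746404
theorem L746408 : sm gc N55654 = N54126 := ded_28_1 (flp_e L729962) (flp_c L729898) L746404
theorem L746410 : sm gj N55654 = N54143 := ded_42_2 (flp_e L730117) (flp_j L729896) L746404
theorem L746412 : sm gh N55654 = N54120 := ded_43_2 (flp_e L729913) (flp_h L729900) L746404
theorem L746414 : sm ge N54121 = N55655 := rfl
theorem L746416 : sm gc N55655 = N54128 := ded_28_1 (flp_e L729979) (flp_c L729929) L746414
theorem L746418 : sm gj N55655 = N54154 := ded_42_2 (flp_e L730204) (flp_j L729925) L746414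
theorem L746420 : sm gh N55655 = N55655 := ded_43_2 (flp_e L746414) L729931 L746414
theorem L746421 : sm gi N55655 = N54123 := ded_44_2 (flp_e L729937) (flp_i L729927) L746414
theorem L746423 : sm ge N54122 = N55656 := rfl
theorem L746425 : sm gj N55656 = N54168 := ded_42_2 (flp_e L730300) (flp_j L729934) L746423
theorem L746427 : sm gh N55656 = N55656 := ded_43_2 (flp_e L746423) L729936 L746423
theorem L746428 : sm gd N55656 = N54123 := ded_34_1 (flp_e L729937) (flp_d L711134) (flp_e L711130) L729932 L746423
theorem L746430 : sm gf N54123 = N55657 := rfl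
theorem L746432 : sm gc N55657 = N54134 := ded_29_1 (flp_f L730023) (flp_c L729939) L746430
theorem L746434 : sm gj N55657 = N54169 := ded_46_2 (flp_f L730305) (flp_j L729941) L746430
theorem L746436 : sm gh N55657 = N54124 := ded_47_2 (flp_f L729945) (flp_h L729943) L746430
theorem L746438 : sm gh N54135 = N55658 := rfl
theorem L746440 : sm ga N55658 = N54151 := ded_17_1 (flp_h L730182) (flp_a L730031) L746438
theorem L746442 : sm gb N55658 = N54184 := ded_25_1 (flp_h L730412) (flp_b L730033) L746438
theorem L746444 : sm ge N55658 = N54136 := ded_43_1 (flp_h L730043) (flp_e L730037) L746438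
theorem L746446 : sm gf N55658 = N54155 := ded_47_1 (flp_h L730211) (flp_f L730039) L746438
theorem L746448 : sm gj N55658 = N54162 := ded_52_1 (flp_h L730262) (flp_j L730041) L746438
theorem L746450 : sm gi N55658 = N54141 := ded_54_2 (flp_h L730101) (flp_i L711387) (flp_h L711311) L730029 L746438
theorem L746452 : sm gh N54137 = N55659 := rfl
theorem L746454 : sm ga N55659 = N54155 := ded_17_1 (flp_h L730211) (flp_a L730059) L746452
theorem L746456 : sm gb N55659 = N54179 := ded_25_1 (flp_h L730372) (flp_b L730061) L746452
theorem L746458 : sm ge N55659 = N54138 := ded_43_1 (flp_h L730071) (flp_e L730065) L746452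
theorem L746460 : sm gf N55659 = N54151 := ded_47_1 (flp_h L730182) (flp_f L730067) L746452
theorem L746462 : sm gj N55659 = N54141 := ded_52_1 (flp_h L730101) (flp_j L730069) L746452
theorem L746464 : sm gi N55659 = N54162 := ded_54_2 (flp_h L730262) (flp_i L711574) (flp_h L711353) L730057 L746452
theorem L746466 : sm gh N54139 = N55660 := rfl
theorem L746468 : sm ga N55660 = N54160 := ded_17_1 (flp_h L730248) (flp_a L730087) L746466
theorem L746470 : sm gc N55660 = N54141 := ded_32_1 (flp_h L730101) (flp_c L730089) L746466
theorem L746472 : sm ge N55660 = N54140 := ded_43_1 (flp_h L730093) (flp_e L730091) L746466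
theorem L746474 : sm gd N54140 = N55661 := rfl
theorem L746476 : sm ga N55661 = N54161 := ded_12_1 (flp_d L730254) (flp_a L730095) L746474
theorem L746478 : sm gf N55661 = N54142 := ded_35_2 (flp_d L730107) (flp_f L730099) L746474
theorem L746480 : sm gc N55661 = N54186 := ded_27_1 (flp_d L730428) L711788 (flp_d L711401) (flp_c L730097) L746474
theorem L746482 : sm gh N55661 = N54145 := ded_38_2 (flp_d L730137) (flp_h L711442) (flp_d L711383) L730093 L746474
theorem L746484 : sm gd N54141 = N55662 := rfl
theorem L746486 : sm ga N55662 = N54163 := ded_12_1 (flp_d L730270) (flp_a L730103) L746484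
theorem L746488 : sm ge N55662 = N54187 := ded_34_2 (flp_d L730436) L711796 (flp_d L711401) (flp_e L730105) L746484
theorem L746490 : sm gh N55662 = N54252 := ded_38_2 (flp_d L730868) (flp_h L712403) (flp_d L711391) L730101 L746484
theorem L746492 : sm ge N54142 = N55663 := rfl
theorem L746494 : sm ga N55663 = N54166 := ded_13_1 (flp_e L730287) (flp_a L730109) L746492
theorem L746496 : sm gc N55663 = N54188 := ded_28_1 (flp_e L730442) (flp_c L730113) L746492
theorem L746498 : sm gg N55663 = N54143 := ded_41_2 (flp_e L730117) (flp_g L730111) L746492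
theorem L746500 : sm gh N55663 = N54147 := ded_43_2 (flp_e L730155) (flp_h L730115) L746492
theorem L746502 : sm gd N54144 = N55664 := rfl
theorem L746504 : sm ga N55664 = N54247 := ded_12_1 L730833 (flp_a L730127) L746502
theorem L746506 : sm gb N55664 = N54145 := ded_20_1 (flp_d L730137) (flp_b L730129) L746502
theorem L746508 : sm gf N55664 = N54146 := ded_35_2 (flp_d L730146) (flp_f L730132) L746502
theorem L746510 : sm gg N55664 = N54190 := ded_36_2 L730459 (flp_g L730134) L746502
theorem L746512 : sm gi N55664 = N55664 := ded_39_2 (flp_d L746502) L730136 L746502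
theorem L746513 : sm ge N54145 = N55665 := rfl
theorem L746515 : sm ga N55665 = N54173 := ded_13_1 (flp_e L730328) (flp_a L730139) L746513
theorem L746517 : sm gc N55665 = N54189 := ded_28_1 (flp_e L730450) (flp_c L730144) L746513
theorem L746519 : sm gi N55665 = N55665 := ded_44_2 (flp_e L746513) L730143 L746513
theorem L746520 : sm gf N54147 = N55666 := rfl
theorem L746522 : sm ga N55666 = N54174 := ded_14_1 (flp_f L730333) (flp_a L730157) L746520
theorem L746524 : sm gc N55666 = N54190 := ded_29_1 (flp_f L730455) (flp_c L730159) L746520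
theorem L746526 : sm gd N55666 = N55666 := ded_35_1 (flp_f L746520) L730164 L746520
theorem L746527 : sm gi N55666 = N55666 := ded_48_2 (flp_f L746520) L730163 L746520
theorem L746528 : sm gh N54148 = N55667 := rfl
theorem L746530 : sm ge N55667 = N55667 := ded_43_1 (flp_h L746528) L730167 L746528
theorem L746531 : sm gg N55667 = N54268 := ded_50_1 (flp_h L738451) L738446 L746528
theorem L746533 : sm gd N55667 = N54157 := ded_38_1 (flp_h L730224) (flp_d L711550) (flp_h L711492) L730165 L746528
theorem L746535 : sm gi N54148 = N55668 := rfl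
theorem L746537 : sm gd N55668 = N54149 := ded_39_1 (flp_i L730168) L730165 L746535
theorem L746539 : sm ge N55668 = N55668 := ded_44_1 (flp_i L746535) L730167 L746535
theorem L746540 : sm gh N54149 = N55669 := rfl
theorem L746542 : sm gc N55669 = N54151 := ded_32_1 (flp_h L730182) (flp_c L730170) L746540
theorem L746544 : sm ge N55669 = N54150 := ded_43_1 (flp_h L730174) (flp_e L730172) L746540
theorem L746546 : sm gi N55669 = N54160 := ded_54_2 (flp_h L730248) (flp_i L711562) (flp_h L711492) L730168 L746540
theorem L746548 : sm gd N54150 = N55670 := rfl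
theorem L746550 : sm gf N55670 = N54152 := ded_35_2 (flp_d L730188) (flp_f L730178) L746548
theorem L746552 : sm gi N55670 = N54161 := ded_39_2 (flp_d L730254) (flp_i L730180) L746548
theorem L746554 : sm gc N55670 = N54196 := ded_27_1 (flp_d L730494) L711876 (flp_d L711509) (flp_c L730176) L746548
theorem L746556 : sm gh N55670 = N55670 := ded_38_2 (flp_d L746548) (flp_h L730174) L711498 L730174 L746548
theorem L746557 : sm gd N54151 = N55671 := rfl
theorem L746559 : sm gi N55671 = N54163 := ded_39_2 (flp_d L730270) (flp_i L730186) L746557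
theorem L746561 : sm ge N55671 = N54197 := ded_34_2 (flp_d L730501) L711884 (flp_d L711509) (flp_e L730184) L746557
theorem L746563 : sm ge N54152 = N55672 := rfl
theorem L746565 : sm gc N55672 = N54199 := ded_28_1 (flp_e L730514) (flp_c L730194) L746563
theorem L746567 : sm gg N55672 = N54154 := ded_41_2 (flp_e L730204) (flp_g L730190) L746563
theorem L746569 : sm gh N55672 = N55672 := ded_43_2 (flp_e L746563) L730196 L746563
theorem L746570 : sm gi N55672 = N54166 := ded_44_2 (flp_e L730287) (flp_i L730192) L746563
theorem L746572 : sm gd N54155 = N55673 := rfl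
theorem L746574 : sm gj N55673 = N54163 := ded_37_2 (flp_d L730270) (flp_j L730215) L746572
theorem L746576 : sm ge N55673 = N54209 := ded_34_2 (flp_d L730586) L711987 (flp_d L711548) (flp_e L730213) L746572
theorem L746578 : sm gh N55673 = N54274 := ded_38_2 (flp_d L731034) (flp_h L712582) (flp_d L711536) L730211 L746572
theorem L746580 : sm gh N54156 = N55674 := rfl
theorem L746582 : sm gc N55674 = N54262 := ded_32_1 L730942 (flp_c L730219) L746580
theorem L746584 : sm ge N55674 = N55674 := ded_43_1 (flp_h L746580) L730223 L746580
theorem L746585 : sm gf N55674 = N54157 := ded_47_1 (flp_h L730224) L730217 L746580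
theorem L746587 : sm gg N55674 = N54259 := ded_50_1 (flp_h L739051) L739044 L746580
theorem L746589 : sm gi N54156 = N55675 := rfl
theorem L746591 : sm gc N55675 = N54279 := ded_33_1 (flp_i L731079) (flp_c L730219) L746589
theorem L746593 : sm gd N55675 = N54159 := ded_39_1 (flp_i L730240) (flp_d L730221) L746589
theorem L746595 : sm ge N55675 = N55675 := ded_44_1 (flp_i L746589) L730223 L746589
theorem L746596 : sm gf N55675 = N54158 := ded_48_1 (flp_i L730232) L730217 L746589
theorem L746598 : sm gi N54157 = N55676 := rfl
theorem L746600 : sm gc N55676 = N54272 := ded_33_1 (flp_i L731016) (flp_c L730226) L746598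
theorem L746602 : sm ge N55676 = N54170 := ded_44_1 (flp_i L730311) (flp_e L730228) L746598
theorem L746604 : sm gg N55676 = N54270 := ded_51_1 (flp_i L730998) (flp_g L730230) L746598
theorem L746606 : sm gh N54158 = N55677 := rfl
theorem L746608 : sm gc N55677 = N54280 := ded_32_1 (flp_h L731086) (flp_c L730234) L746606
theorem L746610 : sm ge N55677 = N54171 := ded_43_1 (flp_h L730319) (flp_e L730238) L746606
theorem L746612 : sm gh N54159 = N55678 := rfl
theorem L746614 : sm gc N55678 = N54162 := ded_32_1 (flp_h L730262) (flp_c L730242) L746612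
theorem L746616 : sm ge N55678 = N54164 := ded_43_1 (flp_h L730276) (flp_e L730244) L746612
theorem L746618 : sm gf N55678 = N54160 := ded_47_1 (flp_h L730248) (flp_f L730246) L746612
theorem L746620 : sm gd N54160 = N55679 := rfl
theorem L746622 : sm ge N54161 = N55680 := rfl
theorem L746624 : sm gc N55680 = N54221 := ded_28_1 (flp_e L730664) (flp_c L730258) L746622
theorem L746626 : sm gh N55680 = N54173 := ded_43_2 (flp_e L730328) (flp_h L730260) L746622
theorem L746628 : sm gd N54162 = N55681 := rfl
theorem L746630 : sm gb N55681 = N54187 := ded_20_1 (flp_d L730436) (flp_b L730264) L746628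
theorem L746632 : sm gf N55681 = N54163 := ded_35_2 (flp_d L730270) (flp_f L730268) L746628
theorem L746634 : sm gh N55681 = N54283 := ded_38_2 (flp_d L731100) (flp_h L712645) (flp_d L711578) L730262 L746628
theorem L746636 : sm gc N54163 = N55682 := rfl
theorem L746638 : sm ge N55682 = N54225 := ded_28_2 (flp_c L730688) (flp_e L730272) L746636
theorem L746640 : sm gh N55682 = N54284 := ded_32_2 (flp_c L731106) (flp_h L730274) L746636
theorem L746642 : sm gd N54164 = N55683 := rfl
theorem L746644 : sm gf N55683 = N54165 := ded_35_2 (flp_d L730282) (flp_f L730280) L746642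
theorem L746646 : sm gh N55683 = N55683 := ded_38_2 (flp_d L746642) (flp_h L730276) L711592 L730276 L746642
theorem L746647 : sm ge N54165 = N55684 := rfl
theorem L746649 : sm gg N55684 = N54168 := ded_41_2 (flp_e L730300) (flp_g L730284) L746647
theorem L746651 : sm gh N55684 = N55684 := ded_43_2 (flp_e L746647) L730286 L746647
theorem L746652 : sm gd N55684 = N54166 := ded_34_1 (flp_e L730287) (flp_d L711603) (flp_e L711599) L730282 L746647
theorem L746654 : sm gf N54166 = N55685 := rfl
theorem L746656 : sm gc N55685 = N54233 := ded_29_1 (flp_f L730744) (flp_c L730289) L746654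
theorem L746658 : sm gh N55685 = N54174 := ded_47_2 (flp_f L730333) (flp_h L730293) L746654
theorem L746660 : sm gg N54169 = N55686 := rfl
theorem L746662 : sm gc N55686 = N54234 := ded_30_1 (flp_g L730748) (flp_c L730307) L746660
theorem L746664 : sm gh N55686 = N54175 := ded_50_2 (flp_g L730339) (flp_h L730309) L746660
theorem L746666 : sm gh N54170 = N55687 := rfl
theorem L746668 : sm gc N55687 = N54289 := ded_32_1 (flp_h L731146) (flp_c L730313) L746666
theorem L746670 : sm gf N55687 = N55687 := ded_47_1 (flp_h L746666) L730316 L746666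
theorem L746671 : sm gg N55687 = N54287 := ded_50_1 (flp_h L731132) (flp_g L730317) L746666
theorem L746673 : sm gi N55687 = N54171 := ded_54_2 (flp_h L730319) (flp_i L711652) L711644 L730311 L746666
theorem L746675 : sm gd N54171 = N55688 := rfl
theorem L746677 : sm gf N55688 = N55688 := ded_35_2 (flp_d L746675) L730323 L746675
theorem L746678 : sm gh N55688 = N54172 := ded_38_2 (flp_d L730324) (flp_h L711659) (flp_d L711656) L730319 L746675
theorem L746680 : sm ge N54172 = N55689 := rfl
theorem L746682 : sm gi N55689 = N55689 := ded_44_2 (flp_e L746680) L730327 L746680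
theorem L746683 : sm gd N55689 = N54173 := ded_34_1 (flp_e L730328) (flp_d L711667) (flp_e L711663) L730324 L746680
theorem L746685 : sm gf N54173 = N55690 := rfl
theorem L746687 : sm gc N55690 = N54245 := ded_29_1 (flp_f L730819) (flp_c L730330) L746685
theorem L746689 : sm gi N55690 = N55690 := ded_48_2 (flp_f L746685) L730332 L746685
theorem L746690 : sm ge N55690 = N54174 := ded_40_1 (flp_f L730333) (flp_e L711674) (flp_f L711669) L730328 L746685
theorem L746692 : sm gg N54174 = N55691 := rfl
theorem L746694 : sm gc N55691 = N54247 := ded_30_1 (flp_g L730831) (flp_c L730335) L746692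
theorem L746696 : sm gd N55691 = N55691 := ded_36_1 (flp_g L746692) L730337 L746692
theorem L746697 : sm gi N55691 = N55691 := ded_51_2 (flp_g L746692) L730338 L746692
theorem L746698 : sm gf N55691 = N54175 := ded_45_1 (flp_g L730339) (flp_f L711682) (flp_g L711678) L730333 L746692
theorem L746700 : sm gi N54176 = N55692 := rfl
theorem L746702 : sm ga N55692 = N54194 := ded_18_1 (flp_i L730481) (flp_a L730347) L746700
theorem L746704 : sm gd N55692 = N54177 := ded_39_1 (flp_i L730354) L730345 L746700
theorem L746706 : sm ge N55692 = N55692 := ded_44_1 (flp_i L746700) L730353 L746700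
theorem L746707 : sm gf N55692 = N54382 := ded_48_1 (flp_i L731839) (flp_f L730349) L746700
theorem L746709 : sm gj N55692 = N54373 := ded_53_1 (flp_i L731773) (flp_j L730351) L746700
theorem L746711 : sm gh N54177 = N55693 := rfl
theorem L746713 : sm ga N55693 = N54195 := ded_17_1 (flp_h L730486) (flp_a L730356) L746711
theorem L746715 : sm gc N55693 = N54179 := ded_32_1 (flp_h L730372) (flp_c L730358) L746711
theorem L746717 : sm ge N55693 = N54178 := ded_43_1 (flp_h L730362) (flp_e L730360) L746711
theorem L746719 : sm gi N55693 = N54185 := ded_54_2 (flp_h L730420) (flp_i L711776) (flp_h L711694) L730354 L746711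
theorem L746721 : sm gd N54178 = N55694 := rfl
theorem L746723 : sm ga N55694 = N54196 := ded_12_1 (flp_d L730494) (flp_a L730364) L746721
theorem L746725 : sm gf N55694 = N54180 := ded_35_2 (flp_d L730380) (flp_f L730368) L746721
theorem L746727 : sm gi N55694 = N54186 := ded_39_2 (flp_d L730428) (flp_i L730370) L746721
theorem L746729 : sm gh N55694 = N55694 := ded_38_2 (flp_d L746721) (flp_h L730362) L711702 L730362 L746721
theorem L746730 : sm gd N54179 = N55695 := rfl
theorem L746732 : sm ga N55695 = N54197 := ded_12_1 (flp_d L730501) (flp_a L730374) L746730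
theorem L746734 : sm gi N55695 = N54187 := ded_39_2 (flp_d L730436) (flp_i L730378) L746730
theorem L746736 : sm gh N54182 = N55696 := rfl
theorem L746738 : sm ga N55696 = N54204 := ded_17_1 (flp_h L730548) (flp_a L730398) L746736
theorem L746740 : sm ge N55696 = N54183 := ded_43_1 (flp_h L730406) (flp_e L730402) L746736
theorem L746742 : sm gg N55696 = N54184 := ded_50_1 (flp_h L730412) (flp_g L730404) L746736
theorem L746744 : sm gd N54184 = N55697 := rfl
theorem L746746 : sm ga N55697 = N54209 := ded_12_1 (flp_d L730586) (flp_a L730414) L746744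
theorem L746748 : sm gj N55697 = N54187 := ded_37_2 (flp_d L730436) (flp_j L730418) L746744
theorem L746750 : sm gh N55697 = N54307 := ded_38_2 (flp_d L731289) (flp_h L712908) (flp_d L711762) L730412 L746744
theorem L746752 : sm gd N54185 = N55698 := rfl
theorem L746754 : sm ga N55698 = N54220 := ded_12_1 (flp_d L730662) (flp_a L730422) L746752
theorem L746756 : sm ge N54186 = N55699 := rfl
theorem L746758 : sm ga N55699 = N54221 := ded_13_1 (flp_e L730664) (flp_a L730430) L746756
theorem L746760 : sm gh N55699 = N54189 := ded_43_2 (flp_e L730450) (flp_h L730434) L746756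
theorem L746762 : sm gc N54187 = N55700 := rfl
theorem L746764 : sm ga N55700 = N54225 := ded_11_1 (flp_c L730688) (flp_a L730438) L746762
theorem L746766 : sm gh N55700 = N54315 := ded_32_2 (flp_c L731341) (flp_h L730440) L746762
theorem L746768 : sm gf N54188 = N55701 := rfl
theorem L746770 : sm ga N55701 = N54233 := ded_14_1 (flp_f L730744) (flp_a L730444) L746768
theorem L746772 : sm gh N55701 = N54190 := ded_47_2 (flp_f L730455) (flp_h L730448) L746768
theorem L746774 : sm gf N54189 = N55702 := rfl
theorem L746776 : sm ga N55702 = N54245 := ded_14_1 (flp_f L730819) (flp_a L730452) L746774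
theorem L746778 : sm gi N55702 = N55702 := ded_48_2 (flp_f L746774) L730454 L746774
theorem L746779 : sm ge N55702 = N54190 := ded_40_1 (flp_f L730455) (flp_e L711843) (flp_f L711840) L730450 L746774
theorem L746781 : sm gh N54191 = N55703 := rfl
theorem L746783 : sm gb N55703 = N54195 := ded_25_1 (flp_h L730486) (flp_b L730464) L746781
theorem L746785 : sm ge N55703 = N54192 := ded_43_1 (flp_h L730468) (flp_e L730466) L746781
theorem L746787 : sm gi N55703 = N54214 := ded_54_2 (flp_h L730620) (flp_i L712015) (flp_h L711856) L730462 L746781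
theorem L746789 : sm gd N54192 = N55704 := rfl
theorem L746791 : sm gb N55704 = N54196 := ded_20_1 (flp_d L730494) (flp_b L730470) L746789
theorem L746793 : sm gf N55704 = N54198 := ded_35_2 (flp_d L730505) (flp_f L730472) L746789
theorem L746795 : sm gi N55704 = N54215 := ded_39_2 (flp_d L730626) (flp_i L730474) L746789
theorem L746797 : sm gh N55704 = N55704 := ded_38_2 (flp_d L746789) (flp_h L730468) L711862 L730468 L746789
theorem L746798 : sm gi N54193 = N55705 := rfl
theorem L746800 : sm gd N55705 = N54216 := ded_39_1 (flp_i L730634) (flp_d L730479) L746798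
theorem L746802 : sm ge N55705 = N55705 := ded_44_1 (flp_i L746798) L730478 L746798
theorem L746803 : sm gh N54194 = N55706 := rfl
theorem L746805 : sm ge N55706 = N55706 := ded_43_1 (flp_h L746803) L730485 L746803
theorem L746806 : sm gd N54195 = N55707 := rfl
theorem L746808 : sm gi N55707 = N54220 := ded_39_2 (flp_d L730662) (flp_i L730492) L746806
theorem L746810 : sm ge N54196 = N55708 := rfl
theorem L746812 : sm gh N55708 = N55708 := ded_43_2 (flp_e L746810) L730500 L746810
theorem L746813 : sm gi N55708 = N54221 := ded_44_2 (flp_e L730664) (flp_i L730498) L746810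
theorem L746815 : sm gc N54197 = N55709 := rfl
theorem L746817 : sm gi N55709 = N54225 := ded_33_2 (flp_c L730688) (flp_i L730503) L746815
theorem L746819 : sm ge N54198 = N55710 := rfl
theorem L746821 : sm gb N55710 = N54199 := ded_21_1 (flp_e L730514) (flp_b L730507) L746819
theorem L746823 : sm gg N55710 = N54200 := ded_41_2 (flp_e L730521) (flp_g L730509) L746819
theorem L746825 : sm gh N55710 = N55710 := ded_43_2 (flp_e L746819) L730513 L746819
theorem L746826 : sm gi N55710 = N54230 := ded_44_2 (flp_e L730720) (flp_i L730511) L746819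
theorem L746828 : sm gf N54199 = N55711 := rfl
theorem L746830 : sm gh N55711 = N55711 := ded_47_2 (flp_f L746828) L730518 L746828
theorem L746831 : sm gi N55711 = N54233 := ded_48_2 (flp_f L730744) (flp_i L730519) L746828
theorem L746833 : sm gh N54201 = N55712 := rfl
theorem L746835 : sm gc N55712 = N54204 := ded_32_1 (flp_h L730548) (flp_c L730530) L746833
theorem L746837 : sm ge N55712 = N54202 := ded_43_1 (flp_h L730536) (flp_e L730532) L746833
theorem L746839 : sm gg N55712 = N54207 := ded_50_1 (flp_h L730570) (flp_g L730534) L746833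
theorem L746841 : sm gd N54202 = N55713 := rfl
theorem L746843 : sm gf N55713 = N54229 := ded_35_2 (flp_d L733226) L733220 L746841
theorem L746845 : sm gg N55713 = N54208 := ded_36_2 (flp_d L730578) (flp_g L730540) L746841
theorem L746847 : sm gc N55713 = N54215 := ded_27_1 (flp_d L730626) (flp_c L727732) L727738 (flp_c L730538) L746841
theorem L746849 : sm gh N55713 = N54235 := ded_38_2 (flp_d L730752) (flp_h L712227) (flp_d L711933) L730536 L746841
theorem L746851 : sm gh N54203 = N55714 := rfl
theorem L746853 : sm gf N55714 = N54204 := ded_47_1 (flp_h L730548) (flp_f L730546) L746851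
theorem L746855 : sm gd N54204 = N55715 := rfl
theorem L746857 : sm gg N55715 = N54209 := ded_36_2 (flp_d L730586) (flp_g L730552) L746855
theorem L746859 : sm gh N55715 = N54375 := ded_38_2 (flp_d L731785) (flp_h L713446) (flp_d L711943) L730548 L746855
theorem L746861 : sm gh N54205 = N55716 := rfl
theorem L746863 : sm gb N55716 = N54207 := ded_25_1 (flp_h L730570) (flp_b L730556) L746861
theorem L746865 : sm ge N55716 = N54206 := ded_43_1 (flp_h L730562) (flp_e L730558) L746861
theorem L746867 : sm gj N55716 = N54214 := ded_52_1 (flp_h L730620) (flp_j L730560) L746861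
theorem L746869 : sm gd N54206 = N55717 := rfl
theorem L746871 : sm gb N55717 = N54208 := ded_20_1 (flp_d L730578) (flp_b L730564) L746869
theorem L746873 : sm gf N55717 = N54226 := ded_35_2 (flp_d L730692) (flp_f L730566) L746869
theorem L746875 : sm gj N55717 = N54215 := ded_37_2 (flp_d L730626) (flp_j L730568) L746869
theorem L746877 : sm gh N55717 = N54236 := ded_38_2 (flp_d L730761) (flp_h L712236) (flp_d L711963) L730562 L746869
theorem L746879 : sm gd N54207 = N55718 := rfl
theorem L746881 : sm gj N55718 = N54220 := ded_37_2 (flp_d L730662) (flp_j L730576) L746879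
theorem L746883 : sm ge N54208 = N55719 := rfl
theorem L746885 : sm gj N55719 = N54221 := ded_42_2 (flp_e L730664) (flp_j L730582) L746883
theorem L746887 : sm gh N55719 = N54237 := ded_43_2 (flp_e L730770) (flp_h L730584) L746883
theorem L746889 : sm gc N54209 = N55720 := rfl
theorem L746891 : sm gj N55720 = N54225 := ded_31_2 (flp_c L730688) (flp_j L730588) L746889
theorem L746893 : sm gh N55720 = N54385 := ded_32_2 (flp_c L731859) (flp_h L730590) L746889
theorem L746895 : sm gh N54210 = N55721 := rfl
theorem L746897 : sm ga N55721 = N54214 := ded_17_1 (flp_h L730620) (flp_a L730594) L746895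
theorem L746899 : sm ge N55721 = N54211 := ded_43_1 (flp_h L730598) (flp_e L730596) L746895
theorem L746901 : sm gd N54211 = N55722 := rfl
theorem L746903 : sm ga N55722 = N54215 := ded_12_1 (flp_d L730626) (flp_a L730600) L746901
theorem L746905 : sm gf N55722 = N54227 := ded_35_2 (flp_d L730700) (flp_f L730602) L746901
theorem L746907 : sm gh N55722 = N54238 := ded_38_2 (flp_d L730775) (flp_h L712254) (flp_d L711999) L730598 L746901
theorem L746909 : sm gh N54212 = N55723 := rfl
theorem L746911 : sm gb N55723 = N54217 := ded_25_1 (flp_h L730640) (flp_b L730606) L746909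
theorem L746913 : sm ge N55723 = N54239 := ded_43_1 (flp_h L730782) (flp_e L730610) L746909
theorem L746915 : sm gh N54213 = N55724 := rfl
theorem L746917 : sm gb N55724 = N54219 := ded_25_1 (flp_h L730654) (flp_b L730614) L746915
theorem L746919 : sm ge N55724 = N54228 := ded_43_1 (flp_h L730708) (flp_e L730616) L746915
theorem L746921 : sm gf N55724 = N54214 := ded_47_1 (flp_h L730620) (flp_f L730618) L746915
theorem L746923 : sm gd N54214 = N55725 := rfl
theorem L746925 : sm gb N55725 = N54220 := ded_20_1 (flp_d L730662) (flp_b L730622) L746923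
theorem L746927 : sm ge N54215 = N55726 := rfl
theorem L746929 : sm gb N55726 = N54221 := ded_21_1 (flp_e L730664) (flp_b L730628) L746927
theorem L746931 : sm gh N55726 = N54241 := ded_43_2 (flp_e L730795) (flp_h L730632) L746927
theorem L746933 : sm gh N54216 = N55727 := rfl
theorem L746935 : sm gc N55727 = N54397 := ded_32_1 (flp_h L731943) (flp_c L730636) L746933
theorem L746937 : sm ge N55727 = N54242 := ded_43_1 (flp_h L730800) (flp_e L730638) L746933
theorem L746939 : sm gi N55727 = N54217 := ded_54_2 (flp_h L730640) (flp_i L712033) L712027 L730634 L746933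
theorem L746941 : sm gd N54217 = N55728 := rfl
theorem L746943 : sm gh N55728 = N54220 := ded_38_2 (flp_d L730662) (flp_h L712055) (flp_d L712037) L730640 L746941
theorem L746945 : sm gh N54218 = N55729 := rfl
theorem L746947 : sm gc N55729 = N54223 := ded_32_1 (flp_h L730676) (flp_c L730648) L746945
theorem L746949 : sm ge N55729 = N54231 := ded_43_1 (flp_h L730728) (flp_e L730650) L746945
theorem L746951 : sm gg N55729 = N54219 := ded_50_1 (flp_h L730654) (flp_g L730652) L746945
theorem L746953 : sm gd N54219 = N55730 := rfl
theorem L746955 : sm gf N55730 = N54220 := ded_35_2 (flp_d L730662) (flp_f L730660) L746953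
theorem L746957 : sm gc N54220 = N55731 := rfl
theorem L746959 : sm gd N55731 = N54225 := ded_27_2 (flp_c L730688) (flp_d L712087) (flp_c L712057) L730662 L746957
theorem L746961 : sm ge N54220 = N55732 := rfl
theorem L746963 : sm gd N55732 = N54221 := ded_34_1 (flp_e L730664) (flp_d L712061) (flp_e L712059) L730662 L746961
theorem L746965 : sm gf N54221 = N55733 := rfl
theorem L746967 : sm gh N55733 = N54245 := ded_47_2 (flp_f L730819) (flp_h L730666) L746965
theorem L746969 : sm ge N55733 = N54233 := ded_40_1 (flp_f L730744) (flp_e L712157) (flp_f L712063) L730664 L746965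
theorem L746971 : sm gh N54222 = N55734 := rfl
theorem L746973 : sm ge N55734 = N54232 := ded_43_1 L730742 (flp_e L730672) L746971
theorem L746975 : sm gj N55734 = N54223 := ded_52_1 (flp_h L730676) (flp_j L730674) L746971
theorem L746977 : sm gd N54223 = N55735 := rfl
theorem L746979 : sm gg N55735 = N54224 := ded_36_2 (flp_d L730682) (flp_g L730680) L746977
theorem L746981 : sm gh N55735 = N54406 := ded_38_2 (flp_d L731993) (flp_h L713674) (flp_d L712075) L730676 L746977
theorem L746983 : sm gc N54224 = N55736 := rfl
theorem L746985 : sm gf N55736 = N54225 := ded_29_2 (flp_c L730688) (flp_f L730684) L746983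
theorem L746987 : sm gh N55736 = N54407 := ded_32_2 (flp_c L731997) (flp_h L730686) L746983
theorem L746989 : sm gb N54225 = N55737 := rfl
theorem L746991 : sm gh N55737 = N54408 := ded_25_2 (flp_b L732001) (flp_h L730690) L746989
theorem L746993 : sm gf N54230 = N55738 := rfl
theorem L746995 : sm gb N55738 = N54233 := ded_22_1 (flp_f L730744) (flp_b L730722) L746993
theorem L746997 : sm gh N55738 = N54246 := ded_47_2 (flp_f L730824) (flp_h L730726) L746993
theorem L746999 : sm gg N54233 = N55739 := rfl
theorem L747001 : sm gh N55739 = N54247 := ded_50_2 (flp_g L730831) (flp_h L730746) L746999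
theorem L747003 : sm gf N55739 = N54234 := ded_45_1 (flp_g L730748) (flp_f L712223) (flp_g L712159) L730744 L746999
theorem L747005 : sm ge N54235 = N55740 := rfl
theorem L747007 : sm gc N55740 = N54241 := ded_28_1 (flp_e L730795) (flp_c L730759) L747005
theorem L747009 : sm gg N55740 = N54237 := ded_41_2 (flp_e L730770) (flp_g L730756) L747005
theorem L747011 : sm gi N55740 = N55740 := ded_44_2 (flp_e L747005) L730758 L747005
theorem L747012 : sm ge N54236 = N55741 := rfl
theorem L747014 : sm gb N55741 = N54237 := ded_21_1 (flp_e L730770) (flp_b L730763) L747012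
theorem L747016 : sm gj N55741 = N54241 := ded_42_2 (flp_e L730795) (flp_j L730767) L747012
theorem L747018 : sm gi N55741 = N55741 := ded_44_2 (flp_e L747012) L730769 L747012
theorem L747019 : sm ge N54238 = N55742 := rfl
theorem L747021 : sm ga N55742 = N54241 := ded_13_1 (flp_e L730795) (flp_a L730777) L747019
theorem L747023 : sm gi N55742 = N55742 := ded_44_2 (flp_e L747019) L730781 L747019
theorem L747024 : sm gd N54239 = N55743 := rfl
theorem L747026 : sm gb N55743 = N54243 := ded_20_1 (flp_d L730808) (flp_b L730784) L747024
theorem L747028 : sm gf N55743 = N54446 := ded_35_2 (flp_d L732294) (flp_f L730786) L747024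
theorem L747030 : sm gh N55743 = N54240 := ded_38_2 (flp_d L730788) (flp_h L712271) (flp_d L712267) L730782 L747024
theorem L747032 : sm ge N54240 = N55744 := rfl
theorem L747034 : sm gb N55744 = N54244 := ded_21_1 (flp_e L730814) (flp_b L730790) L747032
theorem L747036 : sm gi N55744 = N55744 := ded_44_2 (flp_e L747032) L730794 L747032
theorem L747037 : sm gd N55744 = N54241 := ded_34_1 (flp_e L730795) (flp_d L712282) (flp_e L712277) L730788 L747032
theorem L747039 : sm gf N54241 = N55745 := rfl
theorem L747041 : sm gb N55745 = N54245 := ded_22_1 (flp_f L730819) (flp_b L730797) L747039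
theorem L747043 : sm gi N55745 = N55745 := ded_48_2 (flp_f L747039) L730799 L747039
theorem L747044 : sm ge N55745 = N54246 := ded_40_1 (flp_f L730824) (flp_e L712331) (flp_f L712286) L730795 L747039
theorem L747046 : sm gd N54242 = N55746 := rfl
theorem L747048 : sm gf N55746 = N54447 := ded_35_2 (flp_d L732301) (flp_f L730804) L747046
theorem L747050 : sm gi N55746 = N54243 := ded_39_2 (flp_d L730808) (flp_i L730806) L747046
theorem L747052 : sm gh N55746 = N55746 := ded_38_2 (flp_d L747046) (flp_h L730800) L712293 L730800 L747046
theorem L747053 : sm ge N54243 = N55747 := rfl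
theorem L747055 : sm gh N55747 = N54244 := ded_43_2 (flp_e L730814) (flp_h L730812) L747053
theorem L747057 : sm gg N54245 = N55748 := rfl
theorem L747059 : sm ge N55748 = N54247 := ded_41_1 (flp_g L730831) (flp_e L730822) L747057
theorem L747061 : sm gi N55748 = N55748 := ded_51_2 (flp_g L747057) L730821 L747057
theorem L747062 : sm gi N54248 = N55749 := rfl
theorem L747064 : sm ga N55749 = N54263 := ded_18_1 (flp_i L730946) (flp_a L730840) L747062
theorem L747066 : sm ge N55749 = N55749 := ded_44_1 (flp_i L747062) L730842 L747062
theorem L747067 : sm gf N55749 = N54249 := ded_48_1 (flp_i L730843) L730838 L747062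
theorem L747069 : sm gh N54249 = N55750 := rfl
theorem L747071 : sm ga N55750 = N54264 := ded_17_1 (flp_h L730951) (flp_a L730845) L747069
theorem L747073 : sm ge N55750 = N54250 := ded_43_1 (flp_h L730851) (flp_e L730847) L747069
theorem L747075 : sm gg N55750 = N54251 := ded_50_1 (flp_h L730860) (flp_g L730849) L747069
theorem L747077 : sm gd N54251 = N55751 := rfl
theorem L747079 : sm ga N55751 = N54274 := ded_12_1 (flp_d L731034) (flp_a L730862) L747077
theorem L747081 : sm gj N55751 = N54252 := ded_37_2 (flp_d L730868) (flp_j L730866) L747077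
theorem L747083 : sm ge N55751 = N54307 := ded_34_2 (flp_d L731289) L712912 (flp_d L712401) (flp_e L730864) L747077
theorem L747085 : sm gc N54252 = N55752 := rfl
theorem L747087 : sm ga N55752 = N54284 := ded_11_1 (flp_c L731106) (flp_a L730870) L747085
theorem L747089 : sm ge N55752 = N54315 := ded_28_2 (flp_c L731341) (flp_e L730872) L747085
theorem L747091 : sm gd N54253 = N55753 := rfl
theorem L747093 : sm ge N55753 = N54328 := ded_34_2 (flp_d L731434) L713066 (flp_d L712419) (flp_e L730876) L747091
theorem L747095 : sm gh N55753 = N54258 := ded_38_2 (flp_d L730911) (flp_h L712458) (flp_d L712411) L730874 L747091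
theorem L747097 : sm gh N54254 = N55754 := rfl
theorem L747099 : sm ge N55754 = N54255 := ded_43_1 (flp_h L730884) (flp_e L730880) L747097
theorem L747101 : sm gg N55754 = N54256 := ded_50_1 (flp_h L730893) (flp_g L730882) L747097
theorem L747103 : sm gi N55754 = N54264 := ded_54_2 (flp_h L730951) (flp_i L712505) (flp_h L712425) L730878 L747097
theorem L747105 : sm gd N54256 = N55755 := rfl
theorem L747107 : sm gj N55755 = N54258 := ded_37_2 (flp_d L730911) (flp_j L730897) L747105
theorem L747109 : sm gi N55755 = N54274 := ded_39_2 (flp_d L731034) (flp_i L730899) L747105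
theorem L747111 : sm ge N55755 = N54338 := ded_34_2 (flp_d L731513) L713147 (flp_d L712446) (flp_e L730895) L747105
theorem L747113 : sm gd N54257 = N55756 := rfl
theorem L747115 : sm gb N55756 = N54299 := ded_20_1 (flp_d L731223) (flp_b L730903) L747113
theorem L747117 : sm gf N55756 = N54258 := ded_35_2 (flp_d L730911) (flp_f L730907) L747113
theorem L747119 : sm gi N55756 = N54283 := ded_39_2 (flp_d L731100) (flp_i L730909) L747113
theorem L747121 : sm gc N54258 = N55757 := rfl
theorem L747123 : sm ge N55757 = N54358 := ded_28_2 (flp_c L731647) (flp_e L730915) L747121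
theorem L747125 : sm gi N55757 = N54284 := ded_33_2 (flp_c L731106) (flp_i L730913) L747121
theorem L747127 : sm gi N54259 = N55758 := rfl
theorem L747129 : sm gc N55758 = N54263 := ded_33_1 (flp_i L730946) (flp_c L730919) L747127
theorem L747131 : sm ge N55758 = N55758 := ded_44_1 (flp_i L747127) L730921 L747127
theorem L747132 : sm gf N55758 = N54260 := ded_48_1 (flp_i L730922) L730917 L747127
theorem L747134 : sm gh N54260 = N55759 := rfl
theorem L747136 : sm gc N55759 = N54264 := ded_32_1 (flp_h L730951) (flp_c L730924) L747134
theorem L747138 : sm ge N55759 = N54261 := ded_43_1 (flp_h L730930) (flp_e L730926) L747134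
theorem L747140 : sm gg N55759 = N54271 := ded_50_1 (flp_h L731008) (flp_g L730928) L747134
theorem L747142 : sm gi N54262 = N55760 := rfl
theorem L747144 : sm gb N55760 = N54302 := ded_26_1 (flp_i L731248) (flp_b L730939) L747142
theorem L747146 : sm ge N55760 = N55760 := ded_44_1 (flp_i L747142) L730941 L747142
theorem L747147 : sm gf N55760 = N54272 := ded_48_1 (flp_i L731016) (flp_f L730944) L747142
theorem L747149 : sm gg N55760 = N54263 := ded_51_1 (flp_i L730946) L730937 L747142
theorem L747151 : sm gh N54263 = N55761 := rfl
theorem L747153 : sm ge N55761 = N55761 := ded_43_1 (flp_h L747151) L730948 L747151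
theorem L747154 : sm gf N55761 = N54264 := ded_47_1 (flp_h L730951) (flp_f L730949) L747151
theorem L747156 : sm gd N54264 = N55762 := rfl
theorem L747158 : sm gg N55762 = N54274 := ded_36_2 (flp_d L731034) (flp_g L730955) L747156
theorem L747160 : sm ge N55762 = N54375 := ded_34_2 (flp_d L731785) L713448 (flp_d L712516) (flp_e L730953) L747156
theorem L747162 : sm gi N54265 = N55763 := rfl
theorem L747164 : sm gb N55763 = N54270 := ded_26_1 (flp_i L730998) (flp_b L730959) L747162
theorem L747166 : sm gc N55763 = N54304 := ded_33_1 (flp_i L731263) (flp_c L730961) L747162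
theorem L747168 : sm ge N55763 = N54285 := ded_44_1 (flp_i L731110) (flp_e L730965) L747162
theorem L747170 : sm gf N55763 = N54266 := ded_48_1 (flp_i L730967) L730957 L747162
theorem L747172 : sm gj N55763 = N54277 := ded_53_1 (flp_i L731063) (flp_j L730963) L747162
theorem L747174 : sm gh N54266 = N55764 := rfl
theorem L747176 : sm gb N55764 = N54271 := ded_25_1 (flp_h L731008) (flp_b L730969) L747174
theorem L747178 : sm ge N55764 = N54267 := ded_43_1 (flp_h L730975) (flp_e L730971) L747174
theorem L747180 : sm gj N55764 = N54278 := ded_52_1 (flp_h L731073) (flp_j L730973) L747174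
theorem L747182 : sm gi N54268 = N55765 := rfl
theorem L747184 : sm gd N55765 = N54270 := ded_39_1 (flp_i L730998) (flp_d L730985) L747182
theorem L747186 : sm ge N55765 = N55765 := ded_44_1 (flp_i L747182) L730989 L747182
theorem L747187 : sm gf N55765 = N54269 := ded_48_1 (flp_i L730990) L730983 L747182
theorem L747189 : sm gj N55765 = N54279 := ded_53_1 (flp_i L731079) (flp_j L730987) L747182
theorem L747191 : sm gh N54269 = N55766 := rfl
theorem L747193 : sm ge N55766 = N54293 := ded_43_1 (flp_h L731175) (flp_e L730994) L747191
theorem L747195 : sm gj N55766 = N54280 := ded_52_1 (flp_h L731086) (flp_j L730996) L747191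
theorem L747197 : sm gh N54270 = N55767 := rfl
theorem L747199 : sm gc N55767 = N54273 := ded_32_1 (flp_h L731024) (flp_c L731000) L747197
theorem L747201 : sm ge N55767 = N54287 := ded_43_1 (flp_h L731132) (flp_e L731002) L747197
theorem L747203 : sm gf N55767 = N54271 := ded_47_1 (flp_h L731008) (flp_f L731004) L747197
theorem L747205 : sm gj N55767 = N54281 := ded_52_1 (flp_h L731090) (flp_j L731006) L747197
theorem L747207 : sm gd N54271 = N55768 := rfl
theorem L747209 : sm gj N55768 = N54282 := ded_37_2 (flp_d L731098) (flp_j L731014) L747207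
theorem L747211 : sm gh N54272 = N55769 := rfl
theorem L747213 : sm gb N55769 = N54303 := ded_25_1 (flp_h L731255) (flp_b L731018) L747211
theorem L747215 : sm ge N55769 = N54289 := ded_43_1 (flp_h L731146) (flp_e L731020) L747211
theorem L747217 : sm gg N55769 = N54273 := ded_50_1 (flp_h L731024) (flp_g L731022) L747211
theorem L747219 : sm gi N55769 = N54280 := ded_54_2 (flp_h L731086) (flp_i L712625) (flp_h L712570) L731016 L747211
theorem L747221 : sm gd N54273 = N55770 := rfl
theorem L747223 : sm gb N55770 = N54307 := ded_20_1 (flp_d L731289) (flp_b L731026) L747221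
theorem L747225 : sm gf N55770 = N54274 := ded_35_2 (flp_d L731034) (flp_f L731030) L747221
theorem L747227 : sm gj N55770 = N54283 := ded_37_2 (flp_d L731100) (flp_j L731032) L747221
theorem L747229 : sm gc N54274 = N55771 := rfl
theorem L747231 : sm ge N55771 = N54385 := ded_28_2 (flp_c L731859) (flp_e L731038) L747229
theorem L747233 : sm gj N55771 = N54284 := ded_31_2 (flp_c L731106) (flp_j L731036) L747229
theorem L747235 : sm gi N54275 = N55772 := rfl
theorem L747237 : sm ga N55772 = N54332 := ded_18_1 (flp_i L731462) (flp_a L731042) L747235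
theorem L747239 : sm gb N55772 = N54279 := ded_26_1 (flp_i L731079) (flp_b L731044) L747235
theorem L747241 : sm gd N55772 = N54277 := ded_39_1 (flp_i L731063) (flp_d L731046) L747235
theorem L747243 : sm ge N55772 = N55772 := ded_44_1 (flp_i L747235) L731050 L747235
theorem L747244 : sm gf N55772 = N54276 := ded_48_1 (flp_i L731051) L731040 L747235
theorem L747246 : sm gh N54276 = N55773 := rfl
theorem L747248 : sm ga N55773 = N54333 := ded_17_1 (flp_h L731467) (flp_a L731053) L747246
theorem L747250 : sm gb N55773 = N54280 := ded_25_1 (flp_h L731086) (flp_b L731055) L747246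
theorem L747252 : sm ge N55773 = N54294 := ded_43_1 (flp_h L731180) (flp_e L731059) L747246
theorem L747254 : sm gg N55773 = N54298 := ded_50_1 (flp_h L731213) (flp_g L731061) L747246
theorem L747256 : sm gi N55773 = N54303 := ded_54_2 (flp_h L731255) (flp_i L712857) L712598 L731051 L747246
theorem L747258 : sm gh N54277 = N55774 := rfl
theorem L747260 : sm gb N55774 = N54281 := ded_25_1 (flp_h L731090) (flp_b L731065) L747258
theorem L747262 : sm gc N55774 = N54311 := ded_32_1 (flp_h L731319) (flp_c L731067) L747258
theorem L747264 : sm ge N55774 = N54290 := ded_43_1 (flp_h L731155) (flp_e L731069) L747258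
theorem L747266 : sm gf N55774 = N54278 := ded_47_1 (flp_h L731073) (flp_f L731071) L747258
theorem L747268 : sm gd N54278 = N55775 := rfl
theorem L747270 : sm gb N55775 = N54282 := ded_20_1 (flp_d L731098) (flp_b L731075) L747268
theorem L747272 : sm gh N54279 = N55776 := rfl
theorem L747274 : sm ge N55776 = N55776 := ded_43_1 (flp_h L747272) L731083 L747272
theorem L747275 : sm gf N55776 = N54280 := ded_47_1 (flp_h L731086) (flp_f L731084) L747272
theorem L747277 : sm gd N54280 = N55777 := rfl
theorem L747279 : sm gh N55777 = N54282 := ded_38_2 (flp_d L731098) (flp_h L712639) (flp_d L712627) L731086 L747277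
theorem L747281 : sm gd N54281 = N55778 := rfl
theorem L747283 : sm gf N55778 = N54282 := ded_35_2 (flp_d L731098) (flp_f L731096) L747281
theorem L747285 : sm gc N54282 = N55779 := rfl
theorem L747287 : sm gd N55779 = N54284 := ded_27_2 (flp_c L731106) (flp_d L712653) (flp_c L712641) L731098 L747285
theorem L747289 : sm gc N54283 = N55780 := rfl
theorem L747291 : sm gf N55780 = N54284 := ded_29_2 (flp_c L731106) (flp_f L731104) L747289
theorem L747293 : sm gb N54284 = N55781 := rfl
theorem L747295 : sm ge N55781 = N54408 := ded_21_2 (flp_b L732001) (flp_e L731108) L747293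
theorem L747297 : sm gh N54285 = N55782 := rfl
theorem L747299 : sm gb N55782 = N54287 := ded_25_1 (flp_h L731132) (flp_b L731112) L747297
theorem L747301 : sm gc N55782 = N54305 := ded_32_1 (flp_h L731271) (flp_c L731114) L747297
theorem L747303 : sm gf N55782 = N54286 := ded_47_1 (flp_h L731121) (flp_f L731117) L747297
theorem L747305 : sm gj N55782 = N54290 := ded_52_1 (flp_h L731155) (flp_j L731119) L747297
theorem L747307 : sm gd N54286 = N55783 := rfl
theorem L747309 : sm gb N55783 = N54288 := ded_20_1 (flp_d L731140) (flp_b L731123) L747307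
theorem L747311 : sm gg N55783 = N55783 := ded_36_2 (flp_d L747307) L731129 L747307
theorem L747312 : sm gj N55783 = N54291 := ded_37_2 (flp_d L731163) (flp_j L731130) L747307
theorem L747314 : sm gh N55783 = N55783 := ded_38_2 (flp_d L747307) (flp_h L731121) L712672 L731121 L747307
theorem L747315 : sm gd N54287 = N55784 := rfl
theorem L747317 : sm gf N55784 = N54288 := ded_35_2 (flp_d L731140) (flp_f L731136) L747315
theorem L747319 : sm gj N55784 = N54292 := ded_37_2 (flp_d L731170) (flp_j L731138) L747315
theorem L747321 : sm gh N55784 = N55784 := ded_38_2 (flp_d L747315) (flp_h L731132) L712689 L731132 L747315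
theorem L747322 : sm gd N54290 = N55785 := rfl
theorem L747324 : sm gb N55785 = N54292 := ded_20_1 (flp_d L731170) (flp_b L731157) L747322
theorem L747326 : sm gf N55785 = N54291 := ded_35_2 (flp_d L731163) (flp_f L731161) L747322
theorem L747328 : sm gh N55785 = N55785 := ded_38_2 (flp_d L747322) (flp_h L731155) L712726 L731155 L747322
theorem L747329 : sm ge N54292 = N55786 := rfl
theorem L747331 : sm gh N55786 = N55786 := ded_43_2 (flp_e L747329) L731174 L747329
theorem L747332 : sm gh N54295 = N55787 := rfl
theorem L747334 : sm ga N55787 = N54326 := ded_17_1 (flp_h L731422) (flp_a L731193) L747332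
theorem L747336 : sm gc N55787 = N54297 := ded_32_1 (flp_h L731207) (flp_c L731195) L747332
theorem L747338 : sm ge N55787 = N54296 := ded_43_1 (flp_h L731199) (flp_e L731197) L747332
theorem L747340 : sm gd N54296 = N55788 := rfl
theorem L747342 : sm ga N55788 = N54327 := ded_12_1 (flp_d L731428) (flp_a L731201) L747340
theorem L747344 : sm gf N55788 = N54469 := ded_35_2 (flp_d L732463) (flp_f L731205) L747340
theorem L747346 : sm gh N55788 = N54429 := ded_38_2 (flp_d L732166) (flp_h L713921) (flp_d L712789) L731199 L747340
theorem L747348 : sm gd N54297 = N55789 := rfl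
theorem L747350 : sm ga N55789 = N54328 := ded_12_1 (flp_d L731434) (flp_a L731209) L747348
theorem L747352 : sm gh N55789 = N54299 := ded_38_2 (flp_d L731223) (flp_h L712825) (flp_d L712797) L731207 L747348
theorem L747354 : sm gd N54298 = N55790 := rfl
theorem L747356 : sm ga N55790 = N54338 := ded_12_1 (flp_d L731513) (flp_a L731215) L747354
theorem L747358 : sm gj N55790 = N54299 := ded_37_2 (flp_d L731223) (flp_j L731219) L747354
theorem L747360 : sm gi N55790 = N54307 := ded_39_2 (flp_d L731289) (flp_i L731221) L747354
theorem L747362 : sm gc N54299 = N55791 := rfl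
theorem L747364 : sm ga N55791 = N54358 := ded_11_1 (flp_c L731647) (flp_a L731225) L747362
theorem L747366 : sm gi N55791 = N54315 := ded_33_2 (flp_c L731341) (flp_i L731227) L747362
theorem L747368 : sm gh N54300 = N55792 := rfl
theorem L747370 : sm ga N55792 = N54372 := ded_17_1 (flp_h L731765) (flp_a L731231) L747368
theorem L747372 : sm gc N55792 = N54303 := ded_32_1 (flp_h L731255) (flp_c L731233) L747368
theorem L747374 : sm ge N55792 = N54301 := ded_43_1 (flp_h L731239) (flp_e L731235) L747368
theorem L747376 : sm gg N55792 = N54306 := ded_50_1 (flp_h L731279) (flp_g L731237) L747368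
theorem L747378 : sm gh N54302 = N55793 := rfl
theorem L747380 : sm ga N55793 = N54374 := ded_17_1 (flp_h L731780) (flp_a L731250) L747378
theorem L747382 : sm ge N55793 = N55793 := ded_43_1 (flp_h L747378) L731252 L747378
theorem L747383 : sm gf N55793 = N54303 := ded_47_1 (flp_h L731255) (flp_f L731253) L747378
theorem L747385 : sm gd N54303 = N55794 := rfl
theorem L747387 : sm ga N55794 = N54375 := ded_12_1 (flp_d L731785) (flp_a L731257) L747385
theorem L747389 : sm gg N55794 = N54307 := ded_36_2 (flp_d L731289) (flp_g L731261) L747385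
theorem L747391 : sm gh N54304 = N55795 := rfl
theorem L747393 : sm gb N55795 = N54306 := ded_25_1 (flp_h L731279) (flp_b L731265) L747391
theorem L747395 : sm ge N55795 = N54305 := ded_43_1 (flp_h L731271) (flp_e L731267) L747391
theorem L747397 : sm gj N55795 = N54311 := ded_52_1 (flp_h L731319) (flp_j L731269) L747391
theorem L747399 : sm gd N54306 = N55796 := rfl
theorem L747401 : sm ga N55796 = N54380 := ded_12_1 (flp_d L731827) (flp_a L731281) L747399
theorem L747403 : sm gj N55796 = N54314 := ded_37_2 (flp_d L731337) (flp_j L731287) L747399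
theorem L747405 : sm gc N54307 = N55797 := rfl
theorem L747407 : sm ga N55797 = N54385 := ded_11_1 (flp_c L731859) (flp_a L731291) L747405
theorem L747409 : sm gj N55797 = N54315 := ded_31_2 (flp_c L731341) (flp_j L731293) L747405
theorem L747411 : sm gh N54308 = N55798 := rfl
theorem L747413 : sm ga N55798 = N54311 := ded_17_1 (flp_h L731319) (flp_a L731297) L747411
theorem L747415 : sm gb N55798 = N54387 := ded_25_1 (flp_h L731871) (flp_b L731299) L747411
theorem L747417 : sm ge N55798 = N54309 := ded_43_1 (flp_h L731303) (flp_e L731301) L747411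
theorem L747419 : sm gh N54310 = N55799 := rfl
theorem L747421 : sm gb N55799 = N54313 := ded_25_1 (flp_h L731331) (flp_b L731313) L747419
theorem L747423 : sm ge N55799 = N54317 := ded_43_1 (flp_h L731356) (flp_e L731317) L747419
theorem L747425 : sm gd N54311 = N55800 := rfl
theorem L747427 : sm gb N55800 = N54314 := ded_20_1 (flp_d L731337) (flp_b L731321) L747425
theorem L747429 : sm gh N54312 = N55801 := rfl
theorem L747431 : sm ga N55801 = N54397 := ded_17_1 (flp_h L731943) (flp_a L731327) L747429
theorem L747433 : sm ge N55801 = N54318 := ded_43_1 (flp_h L731362) (flp_e L731329) L747429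
theorem L747435 : sm gi N55801 = N54313 := ded_54_2 (flp_h L731331) (flp_i L712956) L712950 L731325 L747429
theorem L747437 : sm gd N54313 = N55802 := rfl
theorem L747439 : sm ga N55802 = N54398 := ded_12_1 (flp_d L731949) (flp_a L731333) L747437
theorem L747441 : sm gh N55802 = N54314 := ded_38_2 (flp_d L731337) (flp_h L712964) (flp_d L712960) L731331 L747437
theorem L747443 : sm gc N54314 = N55803 := rfl
theorem L747445 : sm ga N55803 = N54402 := ded_11_1 (flp_c L731973) (flp_a L731339) L747443
theorem L747447 : sm gd N55803 = N54315 := ded_27_2 (flp_c L731341) (flp_d L712972) (flp_c L712968) L731337 L747443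
theorem L747449 : sm gb N54315 = N55804 := rfl
theorem L747451 : sm gi N54319 = N55805 := rfl
theorem L747453 : sm ga N55805 = N54322 := ded_18_1 (flp_i L731396) (flp_a L731372) L747451
theorem L747455 : sm gb N55805 = N54399 := ded_26_1 (flp_i L731953) (flp_b L731374) L747451
theorem L747457 : sm ge N55805 = N54320 := ded_44_1 (flp_i L731378) L731370 L747451
theorem L747459 : sm gj N55805 = N54390 := ded_53_1 (flp_i L731897) (flp_j L731376) L747451
theorem L747461 : sm gh N54320 = N55806 := rfl
theorem L747463 : sm ga N55806 = N54323 := ded_17_1 (flp_h L731402) (flp_a L731380) L747461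
theorem L747465 : sm gb N55806 = N54421 := ded_25_1 (flp_h L732105) (flp_b L731382) L747461
theorem L747467 : sm gf N55806 = N54425 := ded_47_1 (flp_h L732131) (flp_f L731386) L747461
theorem L747469 : sm gj N55806 = N54418 := ded_52_1 (flp_h L732081) (flp_j L731388) L747461
theorem L747471 : sm gi N54321 = N55807 := rfl
theorem L747473 : sm gb N55807 = N54325 := ded_26_1 (flp_i L731414) (flp_b L731392) L747471
theorem L747475 : sm gd N55807 = N54322 := ded_39_1 (flp_i L731396) L731390 L747471
theorem L747477 : sm ge N55807 = N54435 := ded_44_1 (flp_i L732232) (flp_e L731394) L747471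
theorem L747479 : sm gh N54322 = N55808 := rfl
theorem L747481 : sm gb N55808 = N54326 := ded_25_1 (flp_h L731422) (flp_b L731398) L747479
theorem L747483 : sm ge N55808 = N54323 := ded_43_1 (flp_h L731402) (flp_e L731400) L747479
theorem L747485 : sm gd N54323 = N55809 := rfl
theorem L747487 : sm gb N55809 = N54327 := ded_20_1 (flp_d L731428) (flp_b L731404) L747485
theorem L747489 : sm gf N55809 = N54470 := ded_35_2 (flp_d L732470) (flp_f L731406) L747485
theorem L747491 : sm gh N55809 = N54437 := ded_38_2 (flp_d L732248) (flp_h L714014) (flp_d L713042) L731402 L747485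
theorem L747493 : sm gi N54324 = N55810 := rfl
theorem L747495 : sm gc N55810 = N54349 := ded_33_1 (flp_i L731587) (flp_c L731410) L747493
theorem L747497 : sm ge N55810 = N54438 := ded_44_1 (flp_i L732255) (flp_e L731412) L747493
theorem L747499 : sm gh N54325 = N55811 := rfl
theorem L747501 : sm gc N55811 = N54350 := ded_32_1 (flp_h L731593) (flp_c L731416) L747499
theorem L747503 : sm ge N55811 = N54439 := ded_43_1 (flp_h L732261) (flp_e L731420) L747499
theorem L747505 : sm gd N54326 = N55812 := rfl
theorem L747507 : sm ge N54327 = N55813 := rfl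
theorem L747509 : sm gh N55813 = N54441 := ded_43_2 (flp_e L732270) (flp_h L731432) L747507
theorem L747511 : sm gc N54328 = N55814 := rfl
theorem L747513 : sm gh N55814 = N54358 := ded_32_2 (flp_c L731647) (flp_h L731436) L747511
theorem L747515 : sm gi N54329 = N55815 := rfl
theorem L747517 : sm gc N55815 = N54332 := ded_33_1 (flp_i L731462) (flp_c L731440) L747515
theorem L747519 : sm ge N55815 = N55815 := ded_44_1 (flp_i L747515) L731444 L747515
theorem L747520 : sm gf N55815 = N54330 := ded_48_1 (flp_i L731445) L731438 L747515
theorem L747522 : sm gh N54330 = N55816 := rfl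
theorem L747524 : sm gc N55816 = N54333 := ded_32_1 (flp_h L731467) (flp_c L731447) L747522
theorem L747526 : sm ge N55816 = N54331 := ded_43_1 (flp_h L731453) (flp_e L731449) L747522
theorem L747528 : sm gg N55816 = N54337 := ded_50_1 (flp_h L731503) (flp_g L731451) L747522
theorem L747530 : sm gi N55816 = N54372 := ded_54_2 (flp_h L731765) (flp_i L713421) (flp_h L713074) L731445 L747522
theorem L747532 : sm gh N54332 = N55817 := rfl
theorem L747534 : sm ge N55817 = N55817 := ded_43_1 (flp_h L747532) L731464 L747532
theorem L747535 : sm gf N55817 = N54333 := ded_47_1 (flp_h L731467) (flp_f L731465) L747532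
theorem L747537 : sm gi N55817 = N54374 := ded_54_2 (flp_h L731780) (flp_i L713441) (flp_h L713087) L731462 L747532
theorem L747539 : sm gd N54333 = N55818 := rfl
theorem L747541 : sm gg N55818 = N54338 := ded_36_2 (flp_d L731513) (flp_g L731471) L747539
theorem L747543 : sm gi N55818 = N54375 := ded_39_2 (flp_d L731785) (flp_i L731473) L747539
theorem L747545 : sm gh N54334 = N55819 := rfl
theorem L747547 : sm gb N55819 = N54337 := ded_25_1 (flp_h L731503) (flp_b L731477) L747545
theorem L747549 : sm ge N55819 = N54335 := ded_43_1 (flp_h L731483) (flp_e L731479) L747545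
theorem L747551 : sm gj N55819 = N54345 := ded_52_1 (flp_h L731560) (flp_j L731481) L747545
theorem L747553 : sm gi N55819 = N54377 := ded_54_2 (flp_h L731801) (flp_i L713462) (flp_h L713109) L731475 L747545
theorem L747555 : sm gh N54336 = N55820 := rfl
theorem L747557 : sm ge N55820 = N54442 := ded_43_1 (flp_h L732273) (flp_e L731499) L747555
theorem L747559 : sm gj N55820 = N54350 := ded_52_1 (flp_h L731593) (flp_j L731501) L747555
theorem L747561 : sm gd N54337 = N55821 := rfl
theorem L747563 : sm gj N55821 = N54354 := ded_37_2 (flp_d L731623) (flp_j L731509) L747561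
theorem L747565 : sm gi N55821 = N54380 := ded_39_2 (flp_d L731827) (flp_i L731511) L747561
theorem L747567 : sm gc N54338 = N55822 := rfl
theorem L747569 : sm gj N55822 = N54358 := ded_31_2 (flp_c L731647) (flp_j L731515) L747567
theorem L747571 : sm gi N55822 = N54385 := ded_33_2 (flp_c L731859) (flp_i L731517) L747567
theorem L747573 : sm gh N54339 = N55823 := rfl
theorem L747575 : sm ga N55823 = N54345 := ded_17_1 (flp_h L731560) (flp_a L731521) L747573
theorem L747577 : sm ge N55823 = N54340 := ded_43_1 (flp_h L731525) (flp_e L731523) L747573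
theorem L747579 : sm gi N55823 = N54387 := ded_54_2 (flp_h L731871) (flp_i L713550) (flp_h L713157) L731519 L747573
theorem L747581 : sm gi N54341 = N55824 := rfl
theorem L747583 : sm gc N55824 = N54343 := ded_33_1 (flp_i L731544) L731533 L747581
theorem L747585 : sm ge N55824 = N54443 := ded_44_1 (flp_i L732278) (flp_e L731535) L747581
theorem L747587 : sm gi N54342 = N55825 := rfl
theorem L747589 : sm gb N55825 = N54348 := ded_26_1 (flp_i L731580) (flp_b L731539) L747587
theorem L747591 : sm gd N55825 = N54344 := ded_39_1 (flp_i L731552) (flp_d L731541) L747587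
theorem L747593 : sm ge N55825 = N55825 := ded_44_1 (flp_i L747587) L731543 L747587
theorem L747594 : sm gf N55825 = N54343 := ded_48_1 (flp_i L731544) L731537 L747587
theorem L747596 : sm gh N54343 = N55826 := rfl
theorem L747598 : sm gb N55826 = N54350 := ded_25_1 (flp_h L731593) (flp_b L731546) L747596
theorem L747600 : sm ge N55826 = N54444 := ded_43_1 (flp_h L732284) (flp_e L731550) L747596
theorem L747602 : sm gh N54344 = N55827 := rfl
theorem L747604 : sm gb N55827 = N54353 := ded_25_1 (flp_h L731613) (flp_b L731554) L747602
theorem L747606 : sm ge N55827 = N54362 := ded_43_1 (flp_h L731683) (flp_e L731556) L747602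
theorem L747608 : sm gf N55827 = N54345 := ded_47_1 (flp_h L731560) (flp_f L731558) L747602
theorem L747610 : sm gi N55827 = N54391 := ded_54_2 (flp_h L731905) (flp_i L713588) (flp_h L713177) L731552 L747602
theorem L747612 : sm gd N54345 = N55828 := rfl
theorem L747614 : sm gb N55828 = N54354 := ded_20_1 (flp_d L731623) (flp_b L731562) L747612
theorem L747616 : sm gi N55828 = N54392 := ded_39_2 (flp_d L731913) (flp_i L731566) L747612
theorem L747618 : sm gh N54346 = N55829 := rfl
theorem L747620 : sm ge N55829 = N55829 := ded_43_1 (flp_h L747618) L731572 L747618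
theorem L747621 : sm gg N55829 = N54347 := ded_50_1 (flp_h L731573) L731568 L747618
theorem L747623 : sm gd N55829 = N54393 := ded_38_1 (flp_h L731917) L713614 (flp_h L713218) (flp_d L731570) L747618
theorem L747625 : sm gi N54346 = N55830 := rfl
theorem L747627 : sm gd N55830 = N54352 := ded_39_1 (flp_i L731605) (flp_d L731570) L747625
theorem L747629 : sm ge N55830 = N55830 := ded_44_1 (flp_i L747625) L731572 L747625
theorem L747630 : sm gg N55830 = N54348 := ded_51_1 (flp_i L731580) L731568 L747625
theorem L747632 : sm gi N54347 = N55831 := rfl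
theorem L747634 : sm gd N55831 = N54395 := ded_39_1 (flp_i L731931) (flp_d L731578) L747632
theorem L747636 : sm ge N55831 = N55831 := ded_44_1 (flp_i L747632) L731575 L747632
theorem L747637 : sm gf N55831 = N54349 := ded_48_1 (flp_i L731587) (flp_f L731576) L747632
theorem L747639 : sm gh N54348 = N55832 := rfl
theorem L747641 : sm ge N55832 = N55832 := ded_43_1 (flp_h L747639) L731584 L747639
theorem L747642 : sm gf N55832 = N54350 := ded_47_1 (flp_h L731593) (flp_f L731585) L747639
theorem L747644 : sm gh N54349 = N55833 := rfl
theorem L747646 : sm ge N55833 = N54445 := ded_43_1 (flp_h L732289) (flp_e L731591) L747644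
theorem L747648 : sm gi N55833 = N54350 := ded_54_2 (flp_h L731593) (flp_i L713206) L713200 L731587 L747644
theorem L747650 : sm gd N54350 = N55834 := rfl
theorem L747652 : sm gh N55834 = N54354 := ded_38_2 (flp_d L731623) (flp_h L713228) (flp_d L713208) L731593 L747650
theorem L747654 : sm gi N54351 = N55835 := rfl
theorem L747656 : sm gc N55835 = N54355 := ded_33_1 (flp_i L731627) (flp_c L731599) L747654
theorem L747658 : sm ge N55835 = N54364 := ded_44_1 (flp_i L731700) (flp_e L731601) L747654
theorem L747660 : sm gj N55835 = N54352 := ded_53_1 (flp_i L731605) L731597 L747654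
theorem L747662 : sm gh N54352 = N55836 := rfl
theorem L747664 : sm gc N55836 = N54356 := ded_32_1 (flp_h L731633) (flp_c L731607) L747662
theorem L747666 : sm ge N55836 = N54365 := ded_43_1 (flp_h L731709) (flp_e L731609) L747662
theorem L747668 : sm gg N55836 = N54353 := ded_50_1 (flp_h L731613) (flp_g L731611) L747662
theorem L747670 : sm gi N55836 = N54400 := ded_54_2 (flp_h L731961) (flp_i L713646) (flp_h L713218) L731605 L747662
theorem L747672 : sm gd N54353 = N55837 := rfl
theorem L747674 : sm gf N55837 = N54354 := ded_35_2 (flp_d L731623) (flp_f L731619) L747672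
theorem L747676 : sm gi N55837 = N54401 := ded_39_2 (flp_d L731969) (flp_i L731621) L747672
theorem L747678 : sm gc N54354 = N55838 := rfl
theorem L747680 : sm gi N55838 = N54402 := ded_33_2 (flp_c L731973) (flp_i L731625) L747678
theorem L747682 : sm gd N55838 = N54358 := ded_27_2 (flp_c L731647) (flp_d L713256) (flp_c L713230) L731623 L747678
theorem L747684 : sm gh N54355 = N55839 := rfl
theorem L747686 : sm ge N55839 = N54367 := ded_43_1 (flp_h L731726) (flp_e L731629) L747684
theorem L747688 : sm gj N55839 = N54356 := ded_52_1 (flp_h L731633) (flp_j L731631) L747684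
theorem L747690 : sm gi N55839 = N54405 := ded_54_2 (flp_h L731987) (flp_i L713668) (flp_h L713240) L731627 L747684
theorem L747692 : sm gd N54356 = N55840 := rfl
theorem L747694 : sm gg N55840 = N54357 := ded_36_2 (flp_d L731641) (flp_g L731637) L747692
theorem L747696 : sm gi N55840 = N54406 := ded_39_2 (flp_d L731993) (flp_i L731639) L747692
theorem L747698 : sm gc N54357 = N55841 := rfl
theorem L747700 : sm gf N55841 = N54358 := ded_29_2 (flp_c L731647) (flp_f L731643) L747698
theorem L747702 : sm gi N55841 = N54407 := ded_33_2 (flp_c L731997) (flp_i L731645) L747698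
theorem L747704 : sm gb N54358 = N55842 := rfl
theorem L747706 : sm gi N55842 = N54408 := ded_26_2 (flp_b L732001) (flp_i L731649) L747704
theorem L747708 : sm gd N54360 = N55843 := rfl
theorem L747710 : sm gb N55843 = N54361 := ded_20_1 (flp_d L731675) (flp_b L731664) L747708
theorem L747712 : sm gg N55843 = N55843 := ded_36_2 (flp_d L747708) L731670 L747708
theorem L747713 : sm gj N55843 = N54363 := ded_37_2 (flp_d L731691) (flp_j L731671) L747708
theorem L747715 : sm gi N55843 = N54412 := ded_39_2 (flp_d L732030) (flp_i L731673) L747708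
theorem L747717 : sm ge N55843 = N54456 := ded_34_2 (flp_d L732374) L714298 (flp_d L713288) (flp_e L731668) L747708
theorem L747719 : sm gh N55843 = N55843 := ded_38_2 (flp_d L747708) (flp_h L731662) L713275 L731662 L747708
theorem L747720 : sm gd N54362 = N55844 := rfl
theorem L747722 : sm gb N55844 = N54366 := ded_20_1 (flp_d L731719) (flp_b L731685) L747720
theorem L747724 : sm gf N55844 = N54363 := ded_35_2 (flp_d L731691) (flp_f L731687) L747720
theorem L747726 : sm gi N55844 = N54419 := ded_39_2 (flp_d L732089) (flp_i L731689) L747720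
theorem L747728 : sm gh N55844 = N55844 := ded_38_2 (flp_d L747720) (flp_h L731683) L713315 L731683 L747720
theorem L747729 : sm gc N54363 = N55845 := rfl
theorem L747731 : sm ge N55845 = N54370 := ded_28_2 (flp_c L735207) L735209 L747729
theorem L747733 : sm gg N55845 = N54368 := ded_30_2 (flp_c L731734) (flp_g L731695) L747729
theorem L747735 : sm gh N55845 = N55845 := ded_32_2 (flp_c L747729) L731699 L747729
theorem L747736 : sm gi N55845 = N54420 := ded_33_2 (flp_c L732097) (flp_i L731697) L747729
theorem L747738 : sm gh N54364 = N55846 := rfl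
theorem L747740 : sm gc N55846 = N54367 := ded_32_1 (flp_h L731726) (flp_c L731702) L747738
theorem L747742 : sm gf N55846 = N54369 := ded_47_1 (flp_h L731742) (flp_f L731705) L747738
theorem L747744 : sm gj N55846 = N54365 := ded_52_1 (flp_h L731709) (flp_j L731707) L747738
theorem L747746 : sm gi N55846 = N54421 := ded_54_2 (flp_h L732105) (flp_i L713811) (flp_h L713335) L731700 L747738
theorem L747748 : sm gd N54365 = N55847 := rfl
theorem L747750 : sm gf N55847 = N54370 := ded_35_2 (flp_d L731751) (flp_f L731713) L747748
theorem L747752 : sm gg N55847 = N54366 := ded_36_2 (flp_d L731719) (flp_g L731715) L747748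
theorem L747754 : sm gi N55847 = N54422 := ded_39_2 (flp_d L732113) (flp_i L731717) L747748
theorem L747756 : sm gh N55847 = N55847 := ded_38_2 (flp_d L747748) (flp_h L731709) L713341 L731709 L747748
theorem L747757 : sm ge N54366 = N55848 := rfl
theorem L747759 : sm gh N55848 = N55848 := ded_43_2 (flp_e L747757) L731725 L747757
theorem L747760 : sm gi N55848 = N54423 := ded_44_2 (flp_e L732121) (flp_i L731723) L747757
theorem L747762 : sm gd N54369 = N55849 := rfl
theorem L747764 : sm gg N55849 = N55849 := ded_36_2 (flp_d L747762) L731746 L747762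
theorem L747765 : sm gj N55849 = N54370 := ded_37_2 (flp_d L731751) (flp_j L731747) L747762
theorem L747767 : sm gi N55849 = N54427 := ded_39_2 (flp_d L732148) (flp_i L731749) L747762
theorem L747769 : sm gc N55849 = N54456 := ded_27_1 (flp_d L732374) (flp_c L717545) L717552 (flp_c L731744) L747762
theorem L747771 : sm gh N55849 = N55849 := ded_38_2 (flp_d L747762) (flp_h L731742) L713389 L731742 L747762
theorem L747772 : sm gh N54371 = N55850 := rfl
theorem L747774 : sm gc N55850 = N54374 := ded_32_1 (flp_h L731780) (flp_c L731760) L747772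
theorem L747776 : sm ge N55850 = N55850 := ded_43_1 (flp_h L747772) L731762 L747772
theorem L747777 : sm gf N55850 = N54372 := ded_47_1 (flp_h L731765) (flp_f L731763) L747772
theorem L747779 : sm gd N54372 = N55851 := rfl
theorem L747781 : sm gg N55851 = N54380 := ded_36_2 (flp_d L731827) (flp_g L731771) L747779
theorem L747783 : sm gh N54373 = N55852 := rfl
theorem L747785 : sm ge N55852 = N55852 := ded_43_1 (flp_h L747783) L731775 L747783
theorem L747786 : sm gf N55852 = N54383 := ded_47_1 (flp_h L731847) (flp_f L731776) L747783
theorem L747788 : sm gg N55852 = N54374 := ded_50_1 (flp_h L731780) (flp_g L731778) L747783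
theorem L747790 : sm gd N54374 = N55853 := rfl
theorem L747792 : sm gf N55853 = N54375 := ded_35_2 (flp_d L731785) (flp_f L731783) L747790
theorem L747794 : sm gc N54375 = N55854 := rfl
theorem L747796 : sm gg N55854 = N54385 := ded_30_2 (flp_c L731859) (flp_g L731787) L747794
theorem L747798 : sm gh N54376 = N55855 := rfl
theorem L747800 : sm gb N55855 = N54379 := ded_25_1 (flp_h L731817) (flp_b L731791) L747798
theorem L747802 : sm ge N55855 = N54411 := ded_43_1 (flp_h L732022) (flp_e L731795) L747798
theorem L747804 : sm gf N55855 = N54377 := ded_47_1 (flp_h L731801) (flp_f L731797) L747798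
theorem L747806 : sm gj N55855 = N54391 := ded_52_1 (flp_h L731905) (flp_j L731799) L747798
theorem L747808 : sm gd N54377 = N55856 := rfl
theorem L747810 : sm gb N55856 = N54380 := ded_20_1 (flp_d L731827) (flp_b L731803) L747808
theorem L747812 : sm gj N55856 = N54392 := ded_37_2 (flp_d L731913) (flp_j L731807) L747808
theorem L747814 : sm ge N55856 = N54398 := ded_34_2 (flp_d L731949) L713638 (flp_d L713480) (flp_e L731805) L747808
theorem L747816 : sm gh N55856 = N54403 := ded_38_2 L731979 L713666 (flp_d L713466) L731801 L747808
theorem L747818 : sm gd N54378 = N55857 := rfl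
theorem L747820 : sm gb N55857 = N54403 := ded_20_1 L731979 (flp_b L731811) L747818
theorem L747822 : sm gj N55857 = N54398 := ded_37_2 (flp_d L731949) (flp_j L731815) L747818
theorem L747824 : sm ge N55857 = N54392 := ded_34_2 (flp_d L731913) L713600 L713602 (flp_e L731813) L747818
theorem L747826 : sm gh N55857 = N54380 := ded_38_2 (flp_d L731827) (flp_h L713502) (flp_d L713486) L731809 L747818
theorem L747828 : sm gd N54379 = N55858 := rfl
theorem L747830 : sm gf N55858 = N54380 := ded_35_2 (flp_d L731827) (flp_f L731823) L747828
theorem L747832 : sm gj N55858 = N54401 := ded_37_2 (flp_d L731969) (flp_j L731825) L747828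
theorem L747834 : sm gc N54380 = N55859 := rfl
theorem L747836 : sm gj N55859 = N54402 := ded_31_2 (flp_c L731973) (flp_j L731829) L747834
theorem L747838 : sm gd N55859 = N54385 := ded_27_2 (flp_c L731859) (flp_d L713540) (flp_c L713504) L731827 L747834
theorem L747840 : sm ge N54380 = N55860 := rfl
theorem L747842 : sm gb N55860 = N54398 := ded_21_1 (flp_e L747814) L747810 L747840
theorem L747844 : sm gj N55860 = N54403 := ded_42_2 (flp_e L731977) (flp_j L731829) L747840
theorem L747846 : sm gh N55860 = N54392 := ded_43_2 (flp_e L747824) L747826 L747840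
theorem L747848 : sm gd N55860 = N54381 := ded_34_1 (flp_e L731831) (flp_d L713510) (flp_e L713506) L731827 L747840
theorem L747850 : sm gf N54381 = N55861 := rfl
theorem L747852 : sm gb N55861 = N54396 := ded_22_1 L731941 (flp_b L731833) L747850
theorem L747854 : sm gj N55861 = N54404 := ded_46_2 (flp_f L731981) (flp_j L731835) L747850
theorem L747856 : sm gh N55861 = N54389 := ded_47_2 L731893 (flp_h L731837) L747850
theorem L747858 : sm ge N55861 = N54415 := ded_40_1 (flp_f L732060) (flp_e L713748) (flp_f L713514) L731831 L747850
theorem L747860 : sm gh N54382 = N55862 := rfl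
theorem L747862 : sm ge N55862 = N54416 := ded_43_1 (flp_h L732068) (flp_e L731841) L747860
theorem L747864 : sm gg N55862 = N54405 := ded_50_1 (flp_h L731987) (flp_g L731843) L747860
theorem L747866 : sm gj N55862 = N54383 := ded_52_1 (flp_h L731847) (flp_j L731845) L747860
theorem L747868 : sm gd N54383 = N55863 := rfl
theorem L747870 : sm gg N55863 = N54384 := ded_36_2 (flp_d L731853) (flp_g L731851) L747868
theorem L747872 : sm gc N54384 = N55864 := rfl
theorem L747874 : sm gf N55864 = N54385 := ded_29_2 (flp_c L731859) (flp_f L731855) L747872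
theorem L747876 : sm gj N55864 = N54407 := ded_31_2 (flp_c L731997) (flp_j L731857) L747872
theorem L747878 : sm gb N54385 = N55865 := rfl
theorem L747880 : sm gj N55865 = N54408 := ded_24_2 (flp_b L732001) (flp_j L731861) L747878
theorem L747882 : sm gh N54386 = N55866 := rfl
theorem L747884 : sm ga N55866 = N54391 := ded_17_1 (flp_h L731905) (flp_a L731865) L747882
theorem L747886 : sm ge N55866 = N54417 := ded_43_1 (flp_h L732075) (flp_e L731867) L747882
theorem L747888 : sm gf N55866 = N54387 := ded_47_1 (flp_h L731871) (flp_f L731869) L747882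
theorem L747890 : sm gd N54387 = N55867 := rfl
theorem L747892 : sm ga N55867 = N54392 := ded_12_1 (flp_d L731913) (flp_a L731873) L747890
theorem L747894 : sm gi N54388 = N55868 := rfl
theorem L747896 : sm gb N55868 = N54394 := ded_26_1 (flp_i L731923) (flp_b L731879) L747894
theorem L747898 : sm gd N55868 = N54390 := ded_39_1 (flp_i L731897) (flp_d L731881) L747894
theorem L747900 : sm ge N55868 = N54428 := ded_44_1 L732163 (flp_e L731883) L747894
theorem L747902 : sm gg N55868 = N54389 := ded_51_1 (flp_i L731885) L731877 L747894
theorem L747904 : sm gh N54390 = N55869 := rfl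
theorem L747906 : sm gb N55869 = N54400 := ded_25_1 (flp_h L731961) (flp_b L731899) L747904
theorem L747908 : sm ge N55869 = N54418 := ded_43_1 (flp_h L732081) (flp_e L731901) L747904
theorem L747910 : sm gg N55869 = N54391 := ded_50_1 (flp_h L731905) (flp_g L731903) L747904
theorem L747912 : sm gd N54391 = N55870 := rfl
theorem L747914 : sm gb N55870 = N54401 := ded_20_1 (flp_d L731969) (flp_b L731907) L747912
theorem L747916 : sm gf N55870 = N54392 := ded_35_2 (flp_d L731913) (flp_f L731911) L747912
theorem L747918 : sm gc N54392 = N55871 := rfl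
theorem L747920 : sm gi N54393 = N55872 := rfl
theorem L747922 : sm ge N55872 = N54452 := ded_44_1 (flp_i L732351) (flp_e L731919) L747920
theorem L747924 : sm gg N55872 = N54395 := ded_51_1 (flp_i L731931) (flp_g L731921) L747920
theorem L747926 : sm gh N54394 = N55873 := rfl
theorem L747928 : sm ge N55873 = N54453 := ded_43_1 (flp_h L732357) (flp_e L731927) L747926
theorem L747930 : sm gg N55873 = N54396 := ded_50_1 (flp_h L731937) (flp_g L731929) L747926
theorem L747932 : sm gh N54395 = N55874 := rfl
theorem L747934 : sm ge N55874 = N54454 := ded_43_1 (flp_h L732362) (flp_e L731933) L747932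
theorem L747936 : sm gf N55874 = N54397 := ded_47_1 (flp_h L731943) (flp_f L731935) L747932
theorem L747938 : sm gi N55874 = N54396 := ded_54_2 (flp_h L731937) (flp_i L713624) L713618 L731931 L747932
theorem L747940 : sm gd N54396 = N55875 := rfl
theorem L747942 : sm gf N55875 = N54398 := ded_35_2 (flp_d L731949) (flp_f L731941) L747940
theorem L747944 : sm gh N55875 = N54401 := ded_38_2 (flp_d L731969) (flp_h L713654) (flp_d L713626) L731937 L747940
theorem L747946 : sm gd N54397 = N55876 := rfl
theorem L747948 : sm gi N55876 = N54398 := ded_39_2 (flp_d L731949) (flp_i L731947) L747946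
theorem L747950 : sm gc N54398 = N55877 := rfl
theorem L747952 : sm gh N55877 = N54402 := ded_32_2 (flp_c L731973) (flp_h L731951) L747950
theorem L747954 : sm gh N54399 = N55878 := rfl
theorem L747956 : sm gc N55878 = N54405 := ded_32_1 (flp_h L731987) (flp_c L731955) L747954
theorem L747958 : sm ge N55878 = N54421 := ded_43_1 (flp_h L732105) (flp_e L731957) L747954
theorem L747960 : sm gj N55878 = N54400 := ded_52_1 (flp_h L731961) (flp_j L731959) L747954
theorem L747962 : sm gd N54400 = N55879 := rfl
theorem L747964 : sm gg N55879 = N54401 := ded_36_2 (flp_d L731969) (flp_g L731967) L747962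
theorem L747966 : sm gc N54401 = N55880 := rfl
theorem L747968 : sm gf N55880 = N54402 := ded_29_2 (flp_c L731973) (flp_f L731971) L747966
theorem L747970 : sm gd N55880 = N54407 := ded_27_2 (flp_c L731997) (flp_d L713680) (flp_c L713656) L731969 L747966
theorem L747972 : sm ge N54401 = N55881 := rfl
theorem L747974 : sm gd N55881 = N54423 := ded_34_1 (flp_e L732121) (flp_d L713829) (flp_e L713658) L731969 L747972
theorem L747976 : sm gb N54402 = N55882 := rfl
theorem L747978 : sm gd N55882 = N54408 := ded_20_2 (flp_b L732001) (flp_d L731975) L747976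
theorem L747980 : sm ge N54402 = N55883 := rfl
theorem L747982 : sm gc N55883 = N54403 := ded_28_1 (flp_e L731977) L731973 L747980
theorem L747984 : sm gf N54403 = N55884 := rfl
theorem L747986 : sm gd N55884 = N54404 := ded_35_1 (flp_f L731981) (flp_d L731979) L747984
theorem L747988 : sm gd N54405 = N55885 := rfl
theorem L747990 : sm gj N55885 = N54406 := ded_37_2 (flp_d L731993) (flp_j L731991) L747988
theorem L747992 : sm gc N54406 = N55886 := rfl
theorem L747994 : sm gg N55886 = N54407 := ded_30_2 (flp_c L731997) (flp_g L731995) L747992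
theorem L747996 : sm gb N54407 = N55887 := rfl
theorem L747998 : sm gf N55887 = N54408 := ded_22_2 (flp_b L732001) (flp_f L731999) L747996
theorem L748000 : sm ga N54408 = N55888 := rfl
theorem L748002 : sm gh N54409 = N55889 := rfl
theorem L748004 : sm ga N55889 = N54411 := ded_17_1 (flp_h L732022) (flp_a L732005) L748002
theorem L748006 : sm gf N55889 = N54410 := ded_47_1 (flp_h L732013) (flp_f L732009) L748002
theorem L748008 : sm gj N55889 = N54417 := ded_52_1 (flp_h L732075) (flp_j L732011) L748002
theorem L748010 : sm gd N54411 = N55890 := rfl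
theorem L748012 : sm gb N55890 = N54413 := ded_20_1 (flp_d L732041) (flp_b L732024) L748010
theorem L748014 : sm gf N55890 = N54412 := ded_35_2 (flp_d L732030) (flp_f L732026) L748010
theorem L748016 : sm gj N55890 = N54419 := ded_37_2 (flp_d L732089) (flp_j L732028) L748010
theorem L748018 : sm gh N55890 = N54462 := ded_38_2 L732423 L714348 (flp_d L713718) L732022 L748010
theorem L748020 : sm gc N54412 = N55891 := rfl
theorem L748022 : sm ge N55891 = N54427 := ded_28_2 L732153 (flp_e L732037) L748020
theorem L748024 : sm gg N55891 = N55891 := ded_30_2 (flp_c L748020) L732034 L748020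
theorem L748025 : sm gj N55891 = N54420 := ded_31_2 (flp_c L732097) (flp_j L732035) L748020
theorem L748027 : sm gh N55891 = N54461 := ded_32_2 L732412 (flp_h L732039) L748020
theorem L748029 : sm ge N54413 = N55892 := rfl
theorem L748031 : sm gj N55892 = N54423 := ded_42_2 (flp_e L732121) (flp_j L732045) L748029
theorem L748033 : sm gh N55892 = N54463 := ded_43_2 (flp_e L732428) (flp_h L732047) L748029
theorem L748035 : sm gf N54414 = N55893 := rfl
theorem L748037 : sm gb N55893 = N54455 := ded_22_1 L732370 (flp_b L732051) L748035
theorem L748039 : sm gd N55893 = N54415 := ded_35_1 (flp_f L732060) (flp_d L732058) L748035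
theorem L748041 : sm gj N55893 = N54424 := ded_46_2 (flp_f L732125) (flp_j L732054) L748035
theorem L748043 : sm gh N55893 = N54451 := ded_47_2 L732346 (flp_h L732056) L748035
theorem L748045 : sm gg N54415 = N55894 := rfl
theorem L748047 : sm gb N55894 = N54453 := ded_23_1 L732360 (flp_b L732062) L748045
theorem L748049 : sm gh N55894 = N54428 := ded_50_2 (flp_g L732157) (flp_h L732066) L748045
theorem L748051 : sm gf N55894 = N55894 := ded_45_1 (flp_g L748045) (flp_f L732060) L713752 L732060 L748045
theorem L748052 : sm gd N54418 = N55895 := rfl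
theorem L748054 : sm gb N55895 = N54422 := ded_20_1 (flp_d L732113) (flp_b L732083) L748052
theorem L748056 : sm gf N55895 = N54426 := ded_35_2 (flp_d L732140) (flp_f L732085) L748052
theorem L748058 : sm gg N55895 = N54419 := ded_36_2 (flp_d L732089) (flp_g L732087) L748052
theorem L748060 : sm gh N55895 = N54464 := ded_38_2 (flp_d L732433) (flp_h L714389) (flp_d L713791) L732081 L748052
theorem L748062 : sm gc N54419 = N55896 := rfl
theorem L748064 : sm gf N55896 = N54420 := ded_29_2 (flp_c L732097) (flp_f L732093) L748062
theorem L748066 : sm gh N55896 = N54465 := ded_32_2 (flp_c L732442) (flp_h L732095) L748062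
theorem L748068 : sm ge N54419 = N55897 := rfl
theorem L748070 : sm gb N55897 = N54423 := ded_21_1 (flp_e L732121) (flp_b L732091) L748068
theorem L748072 : sm gh N55897 = N54466 := ded_43_2 (flp_e L732448) (flp_h L732095) L748068
theorem L748074 : sm gd N54421 = N55898 := rfl
theorem L748076 : sm gf N55898 = N54427 := ded_35_2 (flp_d L732148) (flp_f L732109) L748074
theorem L748078 : sm gj N55898 = N54422 := ded_37_2 (flp_d L732113) (flp_j L732111) L748074
theorem L748080 : sm gc N55898 = N54455 := ded_27_1 (flp_d L732368) (flp_c L717678) L717684 (flp_c L732107) L748074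
theorem L748082 : sm gh N55898 = N54458 := ded_38_2 L732393 L714359 (flp_d L713815) L732105 L748074
theorem L748084 : sm ge N54422 = N55899 := rfl
theorem L748086 : sm gg N55899 = N54423 := ded_41_2 (flp_e L732121) (flp_g L732117) L748084
theorem L748088 : sm gh N55899 = N54467 := ded_43_2 (flp_e L732453) (flp_h L732119) L748084
theorem L748090 : sm gf N54423 = N55900 := rfl
theorem L748092 : sm gh N55900 = N54468 := ded_47_2 (flp_f L732458) (flp_h L732123) L748090
theorem L748094 : sm ge N55900 = N54424 := ded_40_1 (flp_f L732125) (flp_e L713835) (flp_f L713831) L732121 L748090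
theorem L748096 : sm gd N54425 = N55901 := rfl
theorem L748098 : sm ga N55901 = N54470 := ded_12_1 (flp_d L732470) (flp_a L732133) L748096
theorem L748100 : sm gb N55901 = N54427 := ded_20_1 (flp_d L732148) (flp_b L732135) L748096
theorem L748102 : sm gg N55901 = N55901 := ded_36_2 (flp_d L748096) L732137 L748096
theorem L748103 : sm gj N55901 = N54426 := ded_37_2 (flp_d L732140) (flp_j L732138) L748096
theorem L748105 : sm gh N55901 = N54460 := ded_38_2 L732402 L714368 (flp_d L713859) L732131 L748096
theorem L748107 : sm ge N54429 = N55902 := rfl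
theorem L748109 : sm ga N55902 = N54441 := ded_13_1 (flp_e L732270) (flp_a L732168) L748107
theorem L748111 : sm gi N55902 = N55902 := ded_44_2 (flp_e L748107) L732172 L748107
theorem L748112 : sm gh N54430 = N55903 := rfl
theorem L748114 : sm ga N55903 = N54450 := ded_17_1 (flp_h L732331) (flp_a L732175) L748112
theorem L748116 : sm gb N55903 = N54433 := ded_25_1 (flp_h L732210) (flp_b L732177) L748112
theorem L748118 : sm gc N55903 = N55903 := ded_32_1 (flp_h L748112) L732179 L748112
theorem L748119 : sm ge N55903 = N54431 := ded_43_1 (flp_h L732187) (flp_e L732180) L748112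
theorem L748121 : sm gf N55903 = N55903 := ded_47_1 (flp_h L748112) L732182 L748112
theorem L748122 : sm gg N55903 = N54449 := ded_50_1 L732326 (flp_g L732183) L748112
theorem L748124 : sm gj N55903 = N54436 := ded_52_1 (flp_h L732239) (flp_j L732185) L748112
theorem L748126 : sm gi N55903 = N55903 := ded_54_2 (flp_h L748112) (flp_i L732173) L713941 L732173 L748112
theorem L748127 : sm gh N54432 = N55904 := rfl
theorem L748129 : sm gc N55904 = N54442 := ded_32_1 (flp_h L732273) (flp_c L732203) L748127
theorem L748131 : sm gf N55904 = N55904 := ded_47_1 (flp_h L748127) L732207 L748127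
theorem L748132 : sm gj N55904 = N54439 := ded_52_1 (flp_h L732261) (flp_j L732208) L748127
theorem L748134 : sm gd N54433 = N55905 := rfl
theorem L748136 : sm gf N55905 = N55905 := ded_35_2 (flp_d L748134) L732216 L748134
theorem L748137 : sm gj N55905 = N54440 := ded_37_2 (flp_d L732266) (flp_j L732217) L748134
theorem L748139 : sm gi N55905 = N55905 := ded_39_2 (flp_d L748134) L732219 L748134
theorem L748140 : sm gd N54434 = N55906 := rfl
theorem L748142 : sm ga N55906 = N54437 := ded_12_1 (flp_d L732248) (flp_a L732222) L748140
theorem L748144 : sm gb N55906 = N54458 := ded_20_1 L732393 (flp_b L732224) L748140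
theorem L748146 : sm gf N55906 = N54460 := ded_35_2 L732402 (flp_f L732227) L748140
theorem L748148 : sm gj N55906 = N54464 := ded_37_2 (flp_d L732433) (flp_j L732229) L748140
theorem L748150 : sm gi N55906 = N55906 := ded_39_2 (flp_d L748140) L732231 L748140
theorem L748151 : sm gh N54435 = N55907 := rfl
theorem L748153 : sm gb N55907 = N54439 := ded_25_1 (flp_h L732261) (flp_b L732234) L748151
theorem L748155 : sm gf N55907 = N55907 := ded_47_1 (flp_h L748151) L732238 L748151
theorem L748156 : sm gd N54436 = N55908 := rfl
theorem L748158 : sm gb N55908 = N54440 := ded_20_1 (flp_d L732266) (flp_b L732241) L748156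
theorem L748160 : sm gf N55908 = N55908 := ded_35_2 (flp_d L748156) L732246 L748156
theorem L748161 : sm gi N55908 = N55908 := ded_39_2 (flp_d L748156) L732247 L748156
theorem L748162 : sm gc N54437 = N55909 := rfl
theorem L748164 : sm gf N55909 = N54471 := ded_29_2 (flp_c L732477) (flp_f L732252) L748162
theorem L748166 : sm gi N55909 = N55909 := ded_33_2 (flp_c L748162) L732254 L748162
theorem L748167 : sm gd N55909 = N55909 := ded_27_2 (flp_c L748162) (flp_d L732248) L714018 L732248 L748162
theorem L748168 : sm ge N54437 = N55910 := rfl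
theorem L748170 : sm gb N55910 = N54441 := ded_21_1 (flp_e L732270) (flp_b L732250) L748168
theorem L748172 : sm gi N55910 = N55910 := ded_44_2 (flp_e L748168) L732254 L748168
theorem L748173 : sm gh N54438 = N55911 := rfl
theorem L748175 : sm gc N55911 = N54445 := ded_32_1 (flp_h L732289) (flp_c L732257) L748173
theorem L748177 : sm gf N55911 = N55911 := ded_47_1 (flp_h L748173) L732260 L748173
theorem L748178 : sm gi N55911 = N54439 := ded_54_2 (flp_h L732261) (flp_i L714028) L714022 L732255 L748173
theorem L748180 : sm gd N54439 = N55912 := rfl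
theorem L748182 : sm gf N55912 = N55912 := ded_35_2 (flp_d L748180) L732265 L748180
theorem L748183 : sm gh N55912 = N54440 := ded_38_2 (flp_d L732266) (flp_h L714035) (flp_d L714032) L732261 L748180
theorem L748185 : sm ge N54440 = N55913 := rfl
theorem L748187 : sm gi N55913 = N55913 := ded_44_2 (flp_e L748185) L732269 L748185
theorem L748188 : sm gd N55913 = N54441 := ded_34_1 (flp_e L732270) (flp_d L714043) (flp_e L714039) L732266 L748185
theorem L748190 : sm gh N54443 = N55914 := rfl
theorem L748192 : sm gc N55914 = N54444 := ded_32_1 (flp_h L732284) (flp_c L732280) L748190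
theorem L748194 : sm gf N55914 = N55914 := ded_47_1 (flp_h L748190) L732283 L748190
theorem L748195 : sm gd N54450 = N55915 := rfl
theorem L748197 : sm gb N55915 = N54457 := ded_20_1 (flp_d L732380) (flp_b L732333) L748195
theorem L748199 : sm gf N55915 = N55915 := ded_35_2 (flp_d L748195) L732338 L748195
theorem L748200 : sm gg N55915 = N54451 := ded_36_2 (flp_d L732342) (flp_g L732339) L748195
theorem L748202 : sm gi N55915 = N55915 := ded_39_2 (flp_d L748195) L732341 L748195
theorem L748203 : sm ge N54451 = N55916 := rfl
theorem L748205 : sm gb N55916 = N54459 := ded_21_1 (flp_e L732395) (flp_b L732344) L748203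
theorem L748207 : sm gj N55916 = N54468 := ded_42_2 L732461 (flp_j L732348) L748203
theorem L748209 : sm gi N55916 = N55916 := ded_44_2 (flp_e L748203) L732350 L748203
theorem L748210 : sm gd N55916 = N54466 := ded_34_1 (flp_e L732448) (flp_d L714399) (flp_e L714257) L732342 L748203
theorem L748212 : sm gf N55916 = N54463 := ded_40_2 (flp_e L732428) L714376 (flp_e L714272) (flp_f L732346) L748203
theorem L748214 : sm gh N54452 = N55917 := rfl
theorem L748216 : sm gf N55917 = N55917 := ded_47_1 (flp_h L748214) L732354 L748214
theorem L748217 : sm gg N55917 = N54454 := ded_50_1 (flp_h L732362) (flp_g L732355) L748214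
theorem L748219 : sm gi N55917 = N54453 := ded_54_2 (flp_h L732357) (flp_i L714280) L714274 L732351 L748214
theorem L748221 : sm gd N54453 = N55918 := rfl
theorem L748223 : sm gf N55918 = N55918 := ded_35_2 (flp_d L748221) L732359 L748221
theorem L748224 : sm gg N55918 = N54455 := ded_36_2 (flp_d L732368) (flp_g L732360) L748221
theorem L748226 : sm gh N55918 = N54457 := ded_38_2 (flp_d L732380) (flp_h L714308) (flp_d L714282) L732357 L748221
theorem L748228 : sm gd N54454 = N55919 := rfl
theorem L748230 : sm gf N55919 = N54456 := ded_35_2 (flp_d L732374) (flp_f L732364) L748228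
theorem L748232 : sm gi N55919 = N54455 := ded_39_2 (flp_d L732368) (flp_i L732366) L748228
theorem L748234 : sm gh N55919 = N55919 := ded_38_2 (flp_d L748228) (flp_h L732362) L714289 L732362 L748228
theorem L748235 : sm ge N54455 = N55920 := rfl
theorem L748237 : sm gh N55920 = N54459 := ded_43_2 (flp_e L732395) (flp_h L732372) L748235
theorem L748239 : sm ge N54457 = N55921 := rfl
theorem L748241 : sm gg N55921 = N54459 := ded_41_2 (flp_e L732395) (flp_g L732383) L748239
theorem L748243 : sm gi N55921 = N55921 := ded_44_2 (flp_e L748239) L732385 L748239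
theorem L748244 : sm gd N55921 = N54467 := ded_34_1 (flp_e L732453) (flp_d L714414) (flp_e L714312) L732380 L748239
theorem L748246 : sm ge N54458 = N55922 := rfl
theorem L748248 : sm gc N55922 = N54459 := ded_28_1 (flp_e L732395) L732386 L748246
theorem L748250 : sm gj N55922 = N54467 := ded_42_2 (flp_e L732453) (flp_j L732390) L748246
theorem L748252 : sm gi N55922 = N55922 := ded_44_2 (flp_e L748246) L732392 L748246
theorem L748253 : sm gf N54459 = N55923 := rfl
theorem L748255 : sm gb N55923 = N54463 := ded_22_1 (flp_f L748212) L748205 L748253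
theorem L748257 : sm gd N55923 = N54468 := ded_35_1 (flp_f L732458) (flp_d L732398) L748253
theorem L748259 : sm gj N55923 = N54466 := ded_46_2 (flp_f L735528) L735523 L748253
theorem L748261 : sm gi N55923 = N55923 := ded_48_2 (flp_f L748253) L732397 L748253
theorem L748262 : sm ge N55923 = N54462 := ded_40_1 (flp_f L732419) (flp_e L714331) (flp_f L714320) L732395 L748253
theorem L748264 : sm gf N54461 = N55924 := rfl
theorem L748266 : sm gc N55924 = N54462 := ded_29_1 (flp_f L732419) (flp_c L732412) L748264
theorem L748268 : sm gd N55924 = N55924 := ded_35_1 (flp_f L748264) L732418 L748264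
theorem L748269 : sm gj N55924 = N54465 := ded_46_2 L732444 (flp_j L732415) L748264
theorem L748271 : sm gi N55924 = N55924 := ded_48_2 (flp_f L748264) L732417 L748264
theorem L748272 : sm ge N54464 = N55925 := rfl
theorem L748274 : sm gb N55925 = N54467 := ded_21_1 (flp_e L732453) (flp_b L732435) L748272
theorem L748276 : sm gg N55925 = N54466 := ded_41_2 (flp_e L732448) (flp_g L732439) L748272
theorem L748278 : sm gi N55925 = N55925 := ded_44_2 (flp_e L748272) L732441 L748272
theorem L748279 : sm ge N54465 = N55926 := rfl
theorem L748281 : sm gc N55926 = N54466 := ded_28_1 (flp_e L732448) L732442 L748279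
theorem L748283 : sm gi N55926 = N55926 := ded_44_2 (flp_e L748279) L732446 L748279
theorem L748284 : sm gf N55926 = N54467 := ded_40_2 (flp_e L732453) L714416 (flp_e L714408) (flp_f L732444) L748279
theorem L748286 : sm gc N54470 = N55927 := rfl
theorem L748288 : sm gg N55927 = N55927 := ded_30_2 (flp_c L748286) L732474 L748286
theorem L748289 : sm gh N55927 = N54471 := ded_32_2 (flp_c L732477) (flp_h L732475) L748286
theorem L748291 : sm gd N54473 = N55928 := rfl
theorem L748293 : sm ga N55928 = N54848 := ded_12_1 (flp_d L737749) (flp_a L732502) L748291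
theorem L748295 : sm gb N55928 = N54823 := ded_20_1 (flp_d L737384) (flp_b L732504) L748291
theorem L748297 : sm gf N55928 = N54835 := ded_35_2 (flp_d L737581) (flp_f L732510) L748291
theorem L748299 : sm gg N55928 = N54854 := ded_36_2 (flp_d L737822) (flp_g L732512) L748291
theorem L748301 : sm gj N55928 = N54488 := ded_37_2 (flp_d L732763) (flp_j L732514) L748291
theorem L748303 : sm gi N55928 = N54476 := ded_39_2 (flp_d L732558) (flp_i L732516) L748291
theorem L748305 : sm gc N55928 = N55656 := ded_27_1 L746428 L729939 (flp_d L720510) (flp_c L732506) L748291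
theorem L748307 : sm ge N55928 = N54478 := ded_34_2 (flp_d L732590) L714810 (flp_d L714660) (flp_e L732508) L748291
theorem L748309 : sm gh N55928 = N55928 := ded_38_2 (flp_d L748291) (flp_h L732500) L714637 L732500 L748291
theorem L748310 : sm gc N54476 = N55929 := rfl
theorem L748312 : sm ga N55929 = N54853 := ded_11_1 L737812 (flp_a L732560) L748310
theorem L748314 : sm ge N55929 = N54481 := ded_28_2 (flp_c L732647) (flp_e L732570) L748310
theorem L748316 : sm gf N55929 = N54840 := ded_29_2 (flp_c L737643) (flp_f L732564) L748310
theorem L748318 : sm gg N55929 = N55654 := ded_30_2 L746408 (flp_g L732566) L748310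
theorem L748320 : sm gj N55929 = N54509 := ded_31_2 (flp_c L733095) (flp_j L732568) L748310
theorem L748322 : sm gh N55929 = N54477 := ded_32_2 (flp_c L732574) (flp_h L732572) L748310
theorem L748324 : sm gi N55929 = N55656 := ded_33_2 (flp_c L748305) L748303 L748310
theorem L748326 : sm gb N55929 = N55657 := ded_19_1 L746432 L737461 (flp_c L737445) (flp_b L732562) L748310
theorem L748328 : sm gd N55929 = N55655 := ded_27_2 L746416 (flp_d L732556) L732544 L732558 L748310
theorem L748330 : sm gb N54481 = N55930 := rfl
theorem L748332 : sm gd N55930 = N54836 := ded_20_2 L737594 (flp_d L732661) L748330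
theorem L748334 : sm ge N55930 = N55657 := ded_21_2 (flp_b L748326) L748314 L748330
theorem L748336 : sm gf N55930 = N54825 := ded_22_2 L737415 (flp_f L732651) L748330
theorem L748338 : sm gg N55930 = N54846 := ded_23_2 L737732 (flp_g L732653) L748330
theorem L748340 : sm gj N55930 = N54539 := ded_24_2 (flp_b L733563) (flp_j L732655) L748330
theorem L748342 : sm gh N55930 = N54482 := ded_25_2 (flp_b L732663) (flp_h L732657) L748330
theorem L748344 : sm gi N55930 = N54851 := ded_26_2 L737786 (flp_i L732659) L748330
theorem L748346 : sm ga N55930 = N54837 := ded_10_1 L737610 L720215 (flp_b L720469) (flp_a L732649) L748330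
theorem L748348 : sm gc N55930 = N54857 := ded_19_2 L737851 (flp_c L720524) (flp_b L714858) L732647 L748330
theorem L748350 : sm gi N54483 = N55931 := rfl
theorem L748352 : sm ga N55931 = N55044 := ded_18_1 (flp_i L740192) (flp_a L732682) L748350
theorem L748354 : sm gb N55931 = N54902 := ded_26_1 (flp_i L738489) (flp_b L732684) L748350
theorem L748356 : sm gc N55931 = N55086 := ded_33_1 (flp_i L740626) (flp_c L732686) L748350
theorem L748358 : sm gd N55931 = N55508 := ded_39_1 (flp_i L745095) (flp_d L732688) L748350
theorem L748360 : sm ge N55931 = N54486 := ded_44_1 (flp_i L732732) (flp_e L732694) L748350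
theorem L748362 : sm gf N55931 = N54484 := ded_48_1 (flp_i L732698) L732680 L748350
theorem L748364 : sm gg N55931 = N54969 := ded_51_1 (flp_i L739336) (flp_g L732696) L748350
theorem L748366 : sm gj N55931 = N55082 := ded_53_1 (flp_i L740598) (flp_j L732690) L748350
theorem L748368 : sm gh N54484 = N55932 := rfl
theorem L748370 : sm ga N55932 = N55461 := ded_17_1 (flp_h L744586) (flp_a L732700) L748368
theorem L748372 : sm gb N55932 = N54903 := ded_25_1 (flp_h L738495) (flp_b L732702) L748368
theorem L748374 : sm gc N55932 = N55734 := ded_32_1 (flp_h L746971) (flp_c L732704) L748368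
theorem L748376 : sm ge N55932 = N54485 := ded_43_1 (flp_h L732714) (flp_e L732708) L748368
theorem L748378 : sm gg N55932 = N55455 := ded_50_1 (flp_h L744512) (flp_g L732710) L748368
theorem L748380 : sm gj N55932 = N55729 := ded_52_1 (flp_h L746945) (flp_j L732712) L748368
theorem L748382 : sm gi N55932 = N54496 := ded_54_2 (flp_h L732896) (flp_i L715064) (flp_h L714908) L732698 L748368
theorem L748384 : sm gh N54486 = N55933 := rfl
theorem L748386 : sm ga N55933 = N55054 := ded_17_1 (flp_h L740294) (flp_a L732734) L748384
theorem L748388 : sm gb N55933 = N54907 := ded_25_1 (flp_h L738539) (flp_b L732736) L748384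
theorem L748390 : sm gc N55933 = N55101 := ded_32_1 (flp_h L740757) (flp_c L732738) L748384
theorem L748392 : sm gf N55933 = N54487 := ded_47_1 (flp_h L732747) (flp_f L732741) L748384
theorem L748394 : sm gg N55933 = N54976 := ded_50_1 (flp_h L739429) (flp_g L732743) L748384
theorem L748396 : sm gj N55933 = N55096 := ded_52_1 (flp_h L740726) (flp_j L732745) L748384
theorem L748398 : sm gi N55933 = N54505 := ded_54_2 (flp_h L733035) (flp_i L715223) (flp_h L714939) L732732 L748384
theorem L748400 : sm gd N54487 = N55934 := rfl
theorem L748402 : sm ga N55934 = N55058 := ded_12_1 (flp_d L740331) (flp_a L732749) L748400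
theorem L748404 : sm gb N55934 = N54908 := ded_20_1 (flp_d L738545) (flp_b L732751) L748400
theorem L748406 : sm gg N55934 = N54488 := ded_36_2 (flp_d L732763) (flp_g L732757) L748400
theorem L748408 : sm gj N55934 = N55107 := ded_37_2 (flp_d L740808) (flp_j L732759) L748400
theorem L748410 : sm gi N55934 = N54506 := ded_39_2 (flp_d L733045) (flp_i L732761) L748400
theorem L748412 : sm gc N55934 = N55684 := ded_27_1 L746652 L730289 (flp_d L723603) (flp_c L732753) L748400
theorem L748414 : sm ge N55934 = N54523 := ded_34_2 (flp_d L733327) L715717 (flp_d L714970) (flp_e L732755) L748400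
theorem L748416 : sm gh N55934 = N55934 := ded_38_2 (flp_d L748400) (flp_h L732747) L714951 L732747 L748400
theorem L748417 : sm gi N54489 = N55935 := rfl
theorem L748419 : sm ga N55935 = N55086 := ded_18_1 (flp_i L740626) (flp_a L732780) L748417
theorem L748421 : sm gb N55935 = N54880 := ded_26_1 (flp_i L738197) (flp_b L732782) L748417
theorem L748423 : sm gc N55935 = N55044 := ded_33_1 (flp_i L740192) (flp_c L732784) L748417
theorem L748425 : sm gd N55935 = N54579 := ded_39_1 (flp_i L734129) (flp_d L732786) L748417
theorem L748427 : sm ge N55935 = N54497 := ded_44_1 (flp_i L732906) (flp_e L732792) L748417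
theorem L748429 : sm gf N55935 = N54490 := ded_48_1 (flp_i L732796) L732778 L748417
theorem L748431 : sm gg N55935 = N55041 := ded_51_1 (flp_i L740163) (flp_g L732794) L748417
theorem L748433 : sm gj N55935 = N54495 := ded_53_1 (flp_i L732882) (flp_j L732788) L748417
theorem L748435 : sm gh N54490 = N55936 := rfl
theorem L748437 : sm ga N55936 = N55734 := ded_17_1 (flp_h L746971) (flp_a L732798) L748435
theorem L748439 : sm gb N55936 = N54916 := ded_25_1 (flp_h L738662) (flp_b L732800) L748435
theorem L748441 : sm gc N55936 = N55461 := ded_32_1 (flp_h L744586) (flp_c L732802) L748435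
theorem L748443 : sm ge N55936 = N54491 := ded_43_1 (flp_h L732812) (flp_e L732806) L748435
theorem L748445 : sm gg N55936 = N55462 := ded_50_1 (flp_h L744596) (flp_g L732808) L748435
theorem L748447 : sm gj N55936 = N54496 := ded_52_1 (flp_h L732896) (flp_j L732810) L748435
theorem L748449 : sm gi N55936 = N55729 := ded_54_2 (flp_h L746945) (flp_i L730646) (flp_h L715000) L732796 L748435
theorem L748451 : sm gi N54492 = N55937 := rfl
theorem L748453 : sm ga N55937 = N55082 := ded_18_1 (flp_i L740598) (flp_a L732832) L748451
theorem L748455 : sm gb N55937 = N55059 := ded_26_1 (flp_i L740342) (flp_b L732834) L748451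
theorem L748457 : sm gc N55937 = N54495 := ded_33_1 (flp_i L732882) (flp_c L732836) L748451
theorem L748459 : sm gd N55937 = N54733 := ded_39_1 (flp_i L736217) (flp_d L732838) L748451
theorem L748461 : sm ge N55937 = N54503 := ded_44_1 (flp_i L733006) (flp_e L732844) L748451
theorem L748463 : sm gf N55937 = N54493 := ded_48_1 (flp_i L732848) L732830 L748451
theorem L748465 : sm gg N55937 = N54991 := ded_51_1 (flp_i L739605) (flp_g L732846) L748451
theorem L748467 : sm gj N55937 = N55044 := ded_53_1 (flp_i L740192) (flp_j L732840) L748451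
theorem L748469 : sm gh N54493 = N55938 := rfl
theorem L748471 : sm ga N55938 = N55729 := ded_17_1 (flp_h L746945) (flp_a L732850) L748469
theorem L748473 : sm gb N55938 = N55060 := ded_25_1 (flp_h L740350) (flp_b L732852) L748469
theorem L748475 : sm gc N55938 = N54496 := ded_32_1 (flp_h L732896) (flp_c L732854) L748469
theorem L748477 : sm ge N55938 = N54494 := ded_43_1 (flp_h L732864) (flp_e L732858) L748469
theorem L748479 : sm gg N55938 = N54526 := ded_50_1 (flp_h L733373) (flp_g L732860) L748469
theorem L748481 : sm gj N55938 = N55461 := ded_52_1 (flp_h L744586) (flp_j L732862) L748469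
theorem L748483 : sm gi N55938 = N55734 := ded_54_2 (flp_h L746971) (flp_i L730668) (flp_h L715032) L732848 L748469
theorem L748485 : sm gh N54495 = N55939 := rfl
theorem L748487 : sm ga N55939 = N55087 := ded_17_1 (flp_h L740636) (flp_a L732884) L748485
theorem L748489 : sm gb N55939 = N54923 := ded_25_1 (flp_h L738742) (flp_b L732886) L748485
theorem L748491 : sm ge N55939 = N54505 := ded_43_1 (flp_h L733035) (flp_e L732890) L748485
theorem L748493 : sm gf N55939 = N54496 := ded_47_1 (flp_h L732896) (flp_f L732892) L748485
theorem L748495 : sm gg N55939 = N54994 := ded_50_1 (flp_h L739635) (flp_g L732894) L748485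
theorem L748497 : sm gd N54496 = N55940 := rfl
theorem L748499 : sm ga N55940 = N55735 := ded_12_1 (flp_d L746977) (flp_a L732898) L748497
theorem L748501 : sm gb N55940 = N54924 := ded_20_1 (flp_d L738748) (flp_b L732900) L748497
theorem L748503 : sm gg N55940 = N55456 := ded_36_2 (flp_d L744526) (flp_g L732904) L748497
theorem L748505 : sm ge N55940 = N54531 := ded_34_2 (flp_d L733453) L715865 (flp_d L715086) (flp_e L732902) L748497
theorem L748507 : sm gh N55940 = N54591 := ded_38_2 (flp_d L734288) (flp_h L716591) (flp_d L715070) L732896 L748497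
theorem L748509 : sm gh N54497 = N55941 := rfl
theorem L748511 : sm ga N55941 = N55101 := ded_17_1 (flp_h L740757) (flp_a L732908) L748509
theorem L748513 : sm gb N55941 = N54881 := ded_25_1 (flp_h L738213) (flp_b L732910) L748509
theorem L748515 : sm gc N55941 = N55054 := ded_32_1 (flp_h L740294) (flp_c L732912) L748509
theorem L748517 : sm gf N55941 = N54498 := ded_47_1 (flp_h L732922) (flp_f L732916) L748509
theorem L748519 : sm gg N55941 = N55051 := ded_50_1 (flp_h L740265) (flp_g L732918) L748509
theorem L748521 : sm gj N55941 = N54505 := ded_52_1 (flp_h L733035) (flp_j L732920) L748509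
theorem L748523 : sm gd N55941 = N55701 := ded_38_1 L746772 L730459 L715331 (flp_d L732914) L748509
theorem L748525 : sm gi N55941 = N55096 := ded_54_2 (flp_h L740726) (flp_i L723485) (flp_h L715100) L732906 L748509
theorem L748527 : sm gh N54499 = N55942 := rfl
theorem L748529 : sm ga N55942 = N54502 := ded_17_1 (flp_h L732990) (flp_a L732942) L748527
theorem L748531 : sm gb N55942 = N54870 := ded_25_1 (flp_h L738044) (flp_b L732944) L748527
theorem L748533 : sm gc N55942 = N54537 := ded_32_1 (flp_h L733533) (flp_c L732946) L748527
theorem L748535 : sm ge N55942 = N54904 := ded_43_1 (flp_h L738503) (flp_e L732950) L748527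
theorem L748537 : sm gf N55942 = N54982 := ded_47_1 (flp_h L739503) (flp_f L732952) L748527
theorem L748539 : sm gg N55942 = N54507 := ded_50_1 (flp_h L733059) (flp_g L732954) L748527
theorem L748541 : sm gj N55942 = N54536 := ded_52_1 (flp_h L733515) (flp_j L732956) L748527
theorem L748543 : sm gd N55942 = N54930 := ded_38_1 (flp_h L738822) L721551 (flp_h L715389) (flp_d L732948) L748527
theorem L748545 : sm gi N55942 = N54862 := ded_54_2 (flp_h L737921) (flp_i L720631) (flp_h L715148) L732940 L748527
theorem L748547 : sm gi N54500 = N55943 := rfl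
theorem L748549 : sm ga N55943 = N54897 := ded_18_1 (flp_i L738427) (flp_a L732960) L748547
theorem L748551 : sm gb N55943 = N54503 := ded_26_1 (flp_i L733006) (flp_b L732962) L748547
theorem L748553 : sm gc N55943 = N54859 := ded_33_1 (flp_i L737877) (flp_c L732964) L748547
theorem L748555 : sm gd N55943 = N55943 := ded_39_1 (flp_i L748547) L732966 L748547
theorem L748556 : sm ge N55943 = N55059 := ded_44_1 (flp_i L740342) (flp_e L732971) L748547
theorem L748558 : sm gf N55943 = N54501 := ded_48_1 (flp_i L732975) L732958 L748547
theorem L748560 : sm gg N55943 = N54960 := ded_51_1 (flp_i L739223) (flp_g L732973) L748547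
theorem L748562 : sm gj N55943 = N54521 := ded_53_1 (flp_i L733298) (flp_j L732967) L748547
theorem L748564 : sm gh N54501 = N55944 := rfl
theorem L748566 : sm ga N55944 = N54904 := ded_17_1 (flp_h L738503) (flp_a L732977) L748564
theorem L748568 : sm gb N55944 = N54504 := ded_25_1 (flp_h L733019) (flp_b L732979) L748564
theorem L748570 : sm gc N55944 = N54862 := ded_32_1 (flp_h L737921) (flp_c L732981) L748564
theorem L748572 : sm ge N55944 = N54502 := ded_43_1 (flp_h L732990) (flp_e L732984) L748564
theorem L748574 : sm gg N55944 = N54508 := ded_50_1 (flp_h L733077) (flp_g L732986) L748564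
theorem L748576 : sm gj N55944 = N54524 := ded_52_1 (flp_h L733342) (flp_j L732988) L748564
theorem L748578 : sm gi N55944 = N54537 := ded_54_2 (flp_h L733533) (flp_i L715955) (flp_h L715166) L732975 L748564
theorem L748580 : sm gd N55710 = N55944 := ded_20_0 L748568 (flp_d L733033) (flp_b L746821)
theorem L748582 : sm gh N54503 = N55945 := rfl
theorem L748584 : sm ga N55945 = N55096 := ded_17_1 (flp_h L740726) (flp_a L733008) L748582
theorem L748586 : sm gc N55945 = N54505 := ded_32_1 (flp_h L733035) (flp_c L733010) L748582
theorem L748588 : sm gf N55945 = N54504 := ded_47_1 (flp_h L733019) (flp_f L733013) L748582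
theorem L748590 : sm gg N55945 = N54999 := ded_50_1 (flp_h L739687) (flp_g L733015) L748582
theorem L748592 : sm gj N55945 = N55054 := ded_52_1 (flp_h L740294) (flp_j L733017) L748582
theorem L748594 : sm gi N55945 = N55101 := ded_54_2 (flp_h L740757) (flp_i L723511) (flp_h L715192) L733006 L748582
theorem L748596 : sm gd N55711 = N55945 := ded_35_3 L748588 (flp_d L733033) L746828
theorem L748598 : sm gd N54505 = N55946 := rfl
theorem L748600 : sm ga N55946 = N55102 := ded_12_1 (flp_d L740765) (flp_a L733037) L748598
theorem L748602 : sm gb N55946 = N54928 := ded_20_1 (flp_d L738800) (flp_b L733039) L748598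
theorem L748604 : sm gf N55946 = N54506 := ded_35_2 (flp_d L733045) (flp_f L733041) L748598
theorem L748606 : sm gg N55946 = N55002 := ded_36_2 (flp_d L739716) (flp_g L733043) L748598
theorem L748608 : sm gj N55946 = N55701 := ded_37_2 (flp_d L748523) L748521 L748598
theorem L748610 : sm gh N55946 = N54510 := ded_38_2 (flp_d L733111) (flp_h L715333) (flp_d L715229) L733035 L748598
theorem L748612 : sm gc N54506 = N55947 := rfl
theorem L748614 : sm ga N55947 = N55095 := ded_11_1 L740718 (flp_a L733047) L748612
theorem L748616 : sm ge N55947 = N54535 := ded_28_2 (flp_c L733501) (flp_e L733055) L748612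
theorem L748618 : sm gg N55947 = N54509 := ded_30_2 (flp_c L733095) (flp_g L733051) L748612
theorem L748620 : sm gj N55947 = N55663 := ded_31_2 L746496 (flp_j L733053) L748612
theorem L748622 : sm gh N55947 = N54511 := ded_32_2 (flp_c L733124) (flp_h L733057) L748612
theorem L748624 : sm gi N55947 = N55684 := ded_33_2 (flp_c L748412) L748410 L748612
theorem L748626 : sm gb N55947 = N55686 := ded_19_1 L746662 L738820 (flp_c L738806) (flp_b L733049) L748612
theorem L748628 : sm gd N55947 = N55672 := ded_27_2 L746565 L733033 L733023 L733045 L748612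
theorem L748630 : sm gc N54510 = N55948 := rfl
theorem L748632 : sm ga N55948 = N55109 := ded_11_1 (flp_c L740828) (flp_a L733113) L748630
theorem L748634 : sm gf N55948 = N54511 := ded_29_2 (flp_c L733124) (flp_f L733117) L748630
theorem L748636 : sm gg N55948 = N55009 := ded_30_2 (flp_c L739816) (flp_g L733119) L748630
theorem L748638 : sm gj N55948 = N55666 := ded_31_2 L746524 (flp_j L733121) L748630
theorem L748640 : sm gi N55948 = N55948 := ded_33_2 (flp_c L748630) L733123 L748630
theorem L748641 : sm gb N55948 = N55691 := ded_19_1 L746694 L738882 (flp_c L738869) (flp_b L733115) L748630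
theorem L748643 : sm gd N55948 = N55948 := ded_27_2 (flp_c L748630) (flp_d L733111) L715339 L733111 L748630
theorem L748644 : sm ge N54510 = N55949 := rfl
theorem L748646 : sm ga N55949 = N55110 := ded_13_1 (flp_e L740840) (flp_a L733113) L748644
theorem L748648 : sm gb N55949 = N54934 := ded_21_1 (flp_e L738884) (flp_b L733115) L748644
theorem L748650 : sm gg N55949 = N55010 := ded_41_2 (flp_e L739828) (flp_g L733119) L748644
theorem L748652 : sm gj N55949 = N55702 := ded_42_2 L746779 (flp_j L733121) L748644
theorem L748654 : sm gi N55949 = N55949 := ded_44_2 (flp_e L748644) L733123 L748644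
theorem L748655 : sm gd N55949 = N54611 := ded_34_1 (flp_e L734550) (flp_d L716839) (flp_e L715340) L733111 L748644
theorem L748657 : sm gf N55949 = N54542 := ded_40_2 (flp_e L733607) L716042 (flp_e L715360) (flp_f L733117) L748644
theorem L748659 : sm gh N54512 = N55950 := rfl
theorem L748661 : sm ga N55950 = N54949 := ded_17_1 (flp_h L739075) (flp_a L733140) L748659
theorem L748663 : sm gb N55950 = N54515 := ded_25_1 (flp_h L733194) (flp_b L733142) L748659
theorem L748665 : sm gc N55950 = N55703 := ded_32_1 (flp_h L746781) (flp_c L733144) L748659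
theorem L748667 : sm ge N55950 = N54513 := ded_43_1 (flp_h L733156) (flp_e L733148) L748659
theorem L748669 : sm gf N55950 = N55716 := ded_47_1 (flp_h L746861) (flp_f L733150) L748659
theorem L748671 : sm gg N55950 = N55457 := ded_50_1 (flp_h L744538) (flp_g L733152) L748659
theorem L748673 : sm gj N55950 = N55724 := ded_52_1 (flp_h L746915) (flp_j L733154) L748659
theorem L748675 : sm gi N55950 = N55465 := ded_54_2 (flp_h L744634) (flp_i L727716) (flp_h L715422) L733138 L748659
theorem L748677 : sm gd N54515 = N55951 := rfl
theorem L748679 : sm ga N55951 = N54531 := ded_12_1 (flp_d L733453) (flp_a L733196) L748677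
theorem L748681 : sm gf N55951 = N55718 := ded_35_2 (flp_d L746879) (flp_f L733202) L748677
theorem L748683 : sm gg N55951 = N55459 := ded_36_2 (flp_d L744566) (flp_g L733204) L748677
theorem L748685 : sm gj N55951 = N55730 := ded_37_2 (flp_d L746953) (flp_j L733206) L748677
theorem L748687 : sm gi N55951 = N55470 := ded_39_2 (flp_d L744699) (flp_i L733208) L748677
theorem L748689 : sm ge N55951 = N55735 := ded_34_2 (flp_d L746977) L730678 (flp_d L715525) (flp_e L733200) L748677
theorem L748691 : sm gh N55951 = N54668 := ded_38_2 (flp_d L735375) (flp_h L717748) (flp_d L715503) L733194 L748677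
theorem L748693 : sm gh N54517 = N55952 := rfl
theorem L748695 : sm ga N55952 = N55462 := ded_17_1 (flp_h L744596) (flp_a L733232) L748693
theorem L748697 : sm gb N55952 = N55035 := ded_25_1 (flp_h L740094) (flp_b L733234) L748693
theorem L748699 : sm gc N55952 = N55455 := ded_32_1 (flp_h L744512) (flp_c L733236) L748693
theorem L748701 : sm ge N55952 = N54518 := ded_43_1 (flp_h L733248) (flp_e L733240) L748693
theorem L748703 : sm gf N55952 = N55693 := ded_47_1 (flp_h L746711) (flp_f L733242) L748693
theorem L748705 : sm gg N55952 = N55734 := ded_50_1 (flp_h L746971) (flp_g L733244) L748693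
theorem L748707 : sm gj N55952 = N54520 := ded_52_1 (flp_h L733284) (flp_j L733246) L748693
theorem L748709 : sm gi N55952 = N54526 := ded_54_2 (flp_h L733373) (flp_i L715765) (flp_h L715595) L733230 L748693
theorem L748711 : sm gh N54519 = N55953 := rfl
theorem L748713 : sm ga N55953 = N55469 := ded_17_1 (flp_h L744687) (flp_a L733268) L748711
theorem L748715 : sm gb N55953 = N55045 := ded_25_1 (flp_h L740204) (flp_b L733270) L748711
theorem L748717 : sm gc N55953 = N55458 := ded_32_1 (flp_h L744552) (flp_c L733272) L748711
theorem L748719 : sm ge N55953 = N54522 := ded_43_1 (flp_h L733313) (flp_e L733276) L748711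
theorem L748721 : sm gf N55953 = N54520 := ded_47_1 (flp_h L733284) (flp_f L733278) L748711
theorem L748723 : sm gg N55953 = N55714 := ded_50_1 (flp_h L746851) (flp_g L733280) L748711
theorem L748725 : sm gj N55953 = N55693 := ded_52_1 (flp_h L746711) (flp_j L733282) L748711
theorem L748727 : sm gi N55953 = N54530 := ded_54_2 (flp_h L733439) (flp_i L715845) (flp_h L715629) L733266 L748711
theorem L748729 : sm gd N54520 = N55954 := rfl
theorem L748731 : sm ga N55954 = N55470 := ded_12_1 (flp_d L744699) (flp_a L733286) L748729
theorem L748733 : sm gb N55954 = N55046 := ded_20_1 (flp_d L740212) (flp_b L733288) L748729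
theorem L748735 : sm gg N55954 = N55460 := ded_36_2 (flp_d L744574) (flp_g L733294) L748729
theorem L748737 : sm gi N55954 = N54531 := ded_39_2 (flp_d L733453) (flp_i L733296) L748729
theorem L748739 : sm gh N55954 = N55863 := ded_38_2 (flp_d L747868) (flp_h L731847) (flp_d L715643) L733284 L748729
theorem L748741 : sm gh N54521 = N55955 := rfl
theorem L748743 : sm ga N55955 = N55476 := ded_17_1 (flp_h L744750) (flp_a L733300) L748741
theorem L748745 : sm gb N55955 = N55054 := ded_25_1 (flp_h L740294) (flp_b L733302) L748741
theorem L748747 : sm gc N55955 = N54861 := ded_32_1 (flp_h L737907) (flp_c L733304) L748741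
theorem L748749 : sm ge N55955 = N55714 := ded_43_1 (flp_h L746851) (flp_e L733307) L748741
theorem L748751 : sm gf N55955 = N54524 := ded_47_1 (flp_h L733342) (flp_f L733309) L748741
theorem L748753 : sm gg N55955 = N54522 := ded_50_1 (flp_h L733313) (flp_g L733311) L748741
theorem L748755 : sm gi N55955 = N54533 := ded_54_2 (flp_h L733477) (flp_i L715883) (flp_h L715692) L733298 L748741
theorem L748757 : sm gd N54522 = N55956 := rfl
theorem L748759 : sm ga N55956 = N55477 := ded_12_1 (flp_d L744760) (flp_a L733315) L748757
theorem L748761 : sm gb N55956 = N55055 := ded_20_1 (flp_d L740302) (flp_b L733317) L748757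
theorem L748763 : sm gf N55956 = N54523 := ded_35_2 (flp_d L733327) (flp_f L733321) L748757
theorem L748765 : sm gj N55956 = N55694 := ded_37_2 (flp_d L746721) (flp_j L733323) L748757
theorem L748767 : sm gi N55956 = N54534 := ded_39_2 (flp_d L733489) (flp_i L733325) L748757
theorem L748769 : sm gc N55956 = N55683 := ded_27_1 (flp_d L746642) L730278 (flp_d L727620) (flp_c L733319) L748757
theorem L748771 : sm gh N55956 = N55956 := ded_38_2 (flp_d L748757) (flp_h L733313) L715704 L733313 L748757
theorem L748772 : sm gd N54524 = N55957 := rfl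
theorem L748774 : sm ga N55957 = N55478 := ded_12_1 (flp_d L744769) (flp_a L733344) L748772
theorem L748776 : sm gb N55957 = N55058 := ded_20_1 (flp_d L740331) (flp_b L733346) L748772
theorem L748778 : sm gg N55957 = N54525 := ded_36_2 (flp_d L733356) (flp_g L733352) L748772
theorem L748780 : sm gj N55957 = N55710 := ded_37_2 L748580 L748576 L748772
theorem L748782 : sm gi N55957 = N54538 := ded_39_2 (flp_d L733547) (flp_i L733354) L748772
theorem L748784 : sm gc N55957 = N54951 := ded_27_1 (flp_d L739099) L721921 (flp_d L720653) (flp_c L733348) L748772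
theorem L748786 : sm ge N55957 = N55475 := ded_34_2 (flp_d L744739) L727858 (flp_d L727644) (flp_e L733350) L748772
theorem L748788 : sm gh N55957 = N55957 := ded_38_2 (flp_d L748772) (flp_h L733342) L715733 L733342 L748772
theorem L748789 : sm gd N54526 = N55958 := rfl
theorem L748791 : sm ga N55958 = N55730 := ded_12_1 (flp_d L746953) (flp_a L733375) L748789
theorem L748793 : sm gb N55958 = N55068 := ded_20_1 (flp_d L740437) (flp_b L733377) L748789
theorem L748795 : sm gf N55958 = N55698 := ded_35_2 (flp_d L746752) (flp_f L733383) L748789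
theorem L748797 : sm gj N55958 = N54531 := ded_37_2 (flp_d L733453) (flp_j L733385) L748789
theorem L748799 : sm gh N55958 = N54744 := ded_38_2 (flp_d L736360) (flp_h L718617) (flp_d L715773) L733373 L748789
theorem L748801 : sm gd N54527 = N55959 := rfl
theorem L748803 : sm ga N55959 = N55460 := ded_12_1 (flp_d L744574) (flp_a L733389) L748801
theorem L748805 : sm gb N55959 = N55673 := ded_20_1 (flp_d L746572) (flp_b L733391) L748801
theorem L748807 : sm gf N55959 = N55697 := ded_35_2 (flp_d L746744) (flp_f L733397) L748801
theorem L748809 : sm gg N55959 = N55470 := ded_36_2 (flp_d L744699) (flp_g L733399) L748801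
theorem L748811 : sm gj N55959 = N55456 := ded_37_2 (flp_d L744526) (flp_j L733401) L748801
theorem L748813 : sm gi N55959 = N55459 := ded_39_2 (flp_d L744566) (flp_i L733403) L748801
theorem L748815 : sm ge N55959 = N55463 := ded_34_2 (flp_d L744608) L727694 (flp_d L715825) (flp_e L733395) L748801
theorem L748817 : sm gh N55959 = N55484 := ded_38_2 (flp_d L744842) (flp_h L728038) (flp_d L715801) L733387 L748801
theorem L748819 : sm gi N54528 = N55960 := rfl
theorem L748821 : sm ga N55960 = N54917 := ded_18_1 (flp_i L738668) (flp_a L733407) L748819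
theorem L748823 : sm gb N55960 = N55086 := ded_26_1 (flp_i L740626) (flp_b L733409) L748819
theorem L748825 : sm gc N55960 = N54981 := ded_33_1 (flp_i L739491) (flp_c L733411) L748819
theorem L748827 : sm gd N55960 = N54760 := ded_39_1 (flp_i L736568) (flp_d L733413) L748819
theorem L748829 : sm ge N55960 = N54532 := ded_44_1 (flp_i L733461) (flp_e L733415) L748819
theorem L748831 : sm gf N55960 = N55029 := ded_48_1 (flp_i L740023) (flp_f L733417) L748819
theorem L748833 : sm gg N55960 = N54983 := ded_51_1 (flp_i L739511) (flp_g L733421) L748819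
theorem L748835 : sm gj N55960 = N54529 := ded_53_1 (flp_i L733423) L733405 L748819
theorem L748837 : sm gh N54529 = N55961 := rfl
theorem L748839 : sm ga N55961 = N55712 := ded_17_1 (flp_h L746833) (flp_a L733425) L748837
theorem L748841 : sm gb N55961 = N55087 := ded_25_1 (flp_h L740636) (flp_b L733427) L748837
theorem L748843 : sm gc N55961 = N55696 := ded_32_1 (flp_h L746736) (flp_c L733429) L748837
theorem L748845 : sm ge N55961 = N54533 := ded_43_1 (flp_h L733477) (flp_e L733433) L748837
theorem L748847 : sm gf N55961 = N55471 := ded_47_1 (flp_h L744701) (flp_f L733435) L748837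
theorem L748849 : sm gg N55961 = N54530 := ded_50_1 (flp_h L733439) (flp_g L733437) L748837
theorem L748851 : sm gi N55961 = N55714 := ded_54_2 (flp_h L746851) (flp_i L730542) (flp_h L715841) L733423 L748837
theorem L748853 : sm gd N54530 = N55962 := rfl
theorem L748855 : sm ga N55962 = N55718 := ded_12_1 (flp_d L746879) (flp_a L733441) L748853
theorem L748857 : sm gb N55962 = N55088 := ded_20_1 (flp_d L740644) (flp_b L733443) L748853
theorem L748859 : sm gf N55962 = N54531 := ded_35_2 (flp_d L733453) (flp_f L733449) L748853
theorem L748861 : sm gj N55962 = N55698 := ded_37_2 (flp_d L746752) (flp_j L733451) L748853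
theorem L748863 : sm gh N55962 = N54762 := ded_38_2 (flp_d L736588) (flp_h L718799) (flp_d L715853) L733439 L748853
theorem L748865 : sm gc N54531 = N55963 := rfl
theorem L748867 : sm gg N55963 = N55473 := ded_30_2 (flp_c L744723) (flp_g L733457) L748865
theorem L748869 : sm gh N55963 = N54763 := ded_32_2 (flp_c L736594) (flp_h L733459) L748865
theorem L748871 : sm gh N54532 = N55964 := rfl
theorem L748873 : sm ga N55964 = N54918 := ded_17_1 (flp_h L738680) (flp_a L733463) L748871
theorem L748875 : sm gb N55964 = N55101 := ded_25_1 (flp_h L740757) (flp_b L733465) L748871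
theorem L748877 : sm gc N55964 = N54982 := ded_32_1 (flp_h L739503) (flp_c L733467) L748871
theorem L748879 : sm gf N55964 = N54537 := ded_47_1 (flp_h L733533) (flp_f L733471) L748871
theorem L748881 : sm gg N55964 = N54984 := ded_50_1 (flp_h L739521) (flp_g L733473) L748871
theorem L748883 : sm gj N55964 = N54533 := ded_52_1 (flp_h L733477) (flp_j L733475) L748871
theorem L748885 : sm gd N55964 = N55738 := ded_38_1 L746997 L730828 L716017 (flp_d L733469) L748871
theorem L748887 : sm gd N54533 = N55965 := rfl
theorem L748889 : sm ga N55965 = N55713 := ded_12_1 (flp_d L746841) (flp_a L733479) L748887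
theorem L748891 : sm gb N55965 = N55102 := ded_20_1 (flp_d L740765) (flp_b L733481) L748887
theorem L748893 : sm gf N55965 = N54538 := ded_35_2 (flp_d L733547) (flp_f L733485) L748887
theorem L748895 : sm gg N55965 = N54534 := ded_36_2 (flp_d L733489) (flp_g L733487) L748887
theorem L748897 : sm gj N55965 = N55738 := ded_37_2 (flp_d L748885) L748883 L748887
theorem L748899 : sm gc N55965 = N55722 := ded_27_1 (flp_d L746901) (flp_c L738973) L738979 (flp_c L733483) L748887
theorem L748901 : sm gh N55965 = N54540 := ded_38_2 (flp_d L733579) (flp_h L716019) (flp_d L715891) L733477 L748887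
theorem L748903 : sm gc N54534 = N55966 := rfl
theorem L748905 : sm ga N55966 = N55077 := ded_11_1 L740562 (flp_a L733491) L748903
theorem L748907 : sm gf N55966 = N54535 := ded_29_2 (flp_c L733501) (flp_f L733495) L748903
theorem L748909 : sm gg N55966 = N55722 := ded_30_2 (flp_c L748899) L748895 L748903
theorem L748911 : sm gj N55966 = N55661 := ded_31_2 L746480 (flp_j L733497) L748903
theorem L748913 : sm gh N55966 = N54541 := ded_32_2 (flp_c L733594) (flp_h L733499) L748903
theorem L748915 : sm gi N55966 = N55683 := ded_33_2 (flp_c L748769) L748767 L748903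
theorem L748917 : sm gd N55966 = N55071 := ded_27_2 L740477 L730081 (flp_c L715903) L733489 L748903
theorem L748919 : sm ge N54534 = N55967 := rfl
theorem L748921 : sm ga N55967 = N55719 := ded_13_1 (flp_e L746883) (flp_a L733491) L748919
theorem L748923 : sm gb N55967 = N55104 := ded_21_1 (flp_e L740781) (flp_b L733493) L748919
theorem L748925 : sm gj N55967 = N55699 := ded_42_2 (flp_e L746756) (flp_j L733497) L748919
theorem L748927 : sm gh N55967 = N54542 := ded_43_2 (flp_e L733607) (flp_h L733499) L748919
theorem L748929 : sm gb N54535 = N55968 := rfl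
theorem L748931 : sm gd N55968 = N54997 := ded_20_2 L739665 (flp_d L733513) L748929
theorem L748933 : sm ge N55968 = N55686 := ded_21_2 (flp_b L748626) L748616 L748929
theorem L748935 : sm gg N55968 = N54539 := ded_23_2 (flp_b L733563) (flp_g L733505) L748929
theorem L748937 : sm gj N55968 = N55052 := ded_24_2 L740279 (flp_j L733507) L748929
theorem L748939 : sm gh N55968 = N54543 := ded_25_2 (flp_b L733618) (flp_h L733509) L748929
theorem L748941 : sm gi N55968 = N55091 := ded_26_2 L740668 (flp_i L733511) L748929
theorem L748943 : sm ga N55968 = N54998 := ded_10_1 L739679 L722479 (flp_b L723475) (flp_a L733503) L748929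
theorem L748945 : sm gc N55968 = N55105 := ded_19_2 (flp_b L740785) (flp_c L723531) (flp_b L715913) L733501 L748929
theorem L748947 : sm ge N54540 = N55969 := rfl
theorem L748949 : sm ga N55969 = N55740 := ded_13_1 (flp_e L747005) (flp_a L733581) L748947
theorem L748951 : sm gb N55969 = N55110 := ded_21_1 (flp_e L740840) (flp_b L733583) L748947
theorem L748953 : sm gc N55969 = N55742 := ded_28_1 (flp_e L747019) (flp_c L733592) L748947
theorem L748955 : sm gg N55969 = N54542 := ded_41_2 (flp_e L733607) (flp_g L733587) L748947
theorem L748957 : sm gj N55969 = N55745 := ded_42_2 L747044 (flp_j L733589) L748947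
theorem L748959 : sm gi N55969 = N55969 := ded_44_2 (flp_e L748947) L733591 L748947
theorem L748960 : sm gd N55969 = N54792 := ded_34_1 (flp_e L736952) (flp_d L719216) (flp_e L716027) L733579 L748947
theorem L748962 : sm gf N55969 = N55741 := ded_40_2 (flp_e L747012) L730765 (flp_e L716071) (flp_f L733585) L748947
theorem L748964 : sm gb N54541 = N55970 := rfl
theorem L748966 : sm gd N55970 = N55008 := ded_20_2 L739804 (flp_d L733605) L748964
theorem L748968 : sm gf N55970 = N54543 := ded_22_2 (flp_b L733618) (flp_f L733598) L748964
theorem L748970 : sm gg N55970 = N54939 := ded_23_2 L738944 (flp_g L733600) L748964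
theorem L748972 : sm gj N55970 = N55664 := ded_24_2 L746506 (flp_j L733602) L748964
theorem L748974 : sm gi N55970 = N55970 := ded_26_2 (flp_b L748964) L733604 L748964
theorem L748975 : sm ga N55970 = N55011 := ded_10_1 L739837 L722669 (flp_b L723792) (flp_a L733596) L748964
theorem L748977 : sm gc N55970 = N55111 := ded_19_2 (flp_b L740851) (flp_c L723633) (flp_b L716040) L733594 L748964
theorem L748979 : sm ge N54541 = N55971 := rfl
theorem L748981 : sm ga N55971 = N55122 := ded_13_1 (flp_e L740968) (flp_a L733596) L748979
theorem L748983 : sm gc N55971 = N54542 := ded_28_1 (flp_e L733607) L733594 L748979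
theorem L748985 : sm gg N55971 = N55742 := ded_41_2 (flp_e L747019) (flp_g L733600) L748979
theorem L748987 : sm gj N55971 = N55665 := ded_42_2 (flp_e L746513) (flp_j L733602) L748979
theorem L748989 : sm gi N55971 = N55971 := ded_44_2 (flp_e L748979) L733604 L748979
theorem L748990 : sm gf N54544 = N55972 := rfl
theorem L748992 : sm ga N55972 = N54694 := ded_14_1 (flp_f L735702) (flp_a L733635) L748990
theorem L748994 : sm gb N55972 = N55143 := ded_22_1 (flp_f L741208) (flp_b L733637) L748990
theorem L748996 : sm gc N55972 = N55374 := ded_29_1 L743754 (flp_c L733639) L748990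
theorem L748998 : sm gd N55972 = N54556 := ded_35_1 (flp_f L733804) (flp_d L733647) L748990
theorem L749000 : sm gj N55972 = N54549 := ded_46_2 (flp_f L733702) (flp_j L733643) L748990
theorem L749002 : sm gh N55972 = N54659 := ded_47_2 (flp_f L735245) (flp_h L733645) L748990
theorem L749004 : sm ge N55972 = N55972 := ded_40_1 (flp_f L748990) (flp_e L733633) L716092 L733633 L748990
theorem L749005 : sm gg N55972 = N55078 := ded_45_2 L740571 L723305 (flp_f L717460) (flp_g L733641) L748990
theorem L749007 : sm gi N54544 = N55973 := rfl
theorem L749009 : sm ga N55973 = N54695 := ded_18_1 (flp_i L735713) (flp_a L733635) L749007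
theorem L749011 : sm gb N55973 = N55144 := ded_26_1 (flp_i L741219) (flp_b L733637) L749007
theorem L749013 : sm gc N55973 = N55872 := ded_33_1 (flp_i L747920) (flp_c L733639) L749007
theorem L749015 : sm gd N55973 = N54557 := ded_39_1 (flp_i L733818) (flp_d L733647) L749007
theorem L749017 : sm ge N55973 = N54545 := ded_44_1 (flp_i L733649) L733633 L749007
theorem L749019 : sm gg N55973 = N54649 := ded_51_1 (flp_i L735094) (flp_g L733641) L749007
theorem L749021 : sm gj N55973 = N54550 := ded_53_1 (flp_i L733715) (flp_j L733643) L749007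
theorem L749023 : sm gh N54545 = N55974 := rfl
theorem L749025 : sm ga N55974 = N54696 := ded_17_1 (flp_h L735725) (flp_a L733651) L749023
theorem L749027 : sm gb N55974 = N55145 := ded_25_1 (flp_h L741229) (flp_b L733653) L749023
theorem L749029 : sm gc N55974 = N55917 := ded_32_1 (flp_h L748214) (flp_c L733655) L749023
theorem L749031 : sm gf N55974 = N55974 := ded_47_1 (flp_h L749023) L733659 L749023
theorem L749032 : sm gg N55974 = N54650 := ded_50_1 (flp_h L735106) (flp_g L733660) L749023
theorem L749034 : sm gj N55974 = N54551 := ded_52_1 (flp_h L733727) (flp_j L733662) L749023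
theorem L749036 : sm gd N55974 = N54684 := ded_38_1 (flp_h L735593) L717984 (flp_h L716115) (flp_d L733657) L749023
theorem L749038 : sm gi N55974 = N54661 := ded_54_2 (flp_h L735272) (flp_i L717647) (flp_h L716097) L733649 L749023
theorem L749040 : sm ge N54546 = N55975 := rfl
theorem L749042 : sm ga N55975 = N55356 := ded_13_1 L743602 (flp_a L733674) L749040
theorem L749044 : sm gb N55975 = N54547 := ded_21_1 (flp_e L733678) L733664 L749040
theorem L749046 : sm gc N55975 = N54578 := ded_28_1 L734123 (flp_c L733676) L749040
theorem L749048 : sm gg N55975 = N54575 := ded_41_2 L734083 (flp_g L733668) L749040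
theorem L749050 : sm gj N55975 = N55227 := ded_42_2 L742174 (flp_j L733670) L749040
theorem L749052 : sm gh N55975 = N55504 := ded_43_2 (flp_e L745045) (flp_h L733672) L749040
theorem L749054 : sm gd N55975 = N55024 := ded_56_3 L739978 L722797 (flp_a L727742) (flp_h L735060) (flp_f L735048) (flp_e L717423) (flp_d L697913) L676686 L676684 (flp_a L684194) L684203 L661851 (flp_e L661837) L363179 L249849 L249847 L172197 L172429 L172433 L118909 L118934 L118938 (flp_b L169437) (flp_a L245644) L245648 L635755 (flp_e L264063) (flp_d L383969) (flp_c L383965) (flp_b L376721) (flp_a L664766) L664776 (flp_f L664818) L687109 L687115 (flp_c L688005) (flp_b L709085) (flp_a L728052) L728060 (flp_f L718749) L718745 L699199 L686749 L664363 L664361 (flp_h L369652) L254223 L175123 L175122 (flp_c L254098) L254096 L546499 (flp_h L184903) (flp_f L268721) L391058 L671566 (flp_c L693424) (flp_b L714003) (flp_a L728359) (flp_h L733672) L733667 L749040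
theorem L749056 : sm gf N55023 = N55975 := ded_29_0 L749046 L734125 (flp_c L739973)
theorem L749058 : sm gi N54546 = N55976 := rfl
theorem L749060 : sm ga N55976 = N55393 := ded_18_1 (flp_i L743887) (flp_a L733674) L749058
theorem L749062 : sm gb N55976 = N54548 := ded_26_1 (flp_i L733690) L733664 L749058
theorem L749064 : sm gc N55976 = N54595 := ded_33_1 (flp_i L734339) (flp_c L733676) L749058
theorem L749066 : sm gd N55976 = N55976 := ded_39_1 (flp_i L749058) L733666 L749058
theorem L749067 : sm gf N55976 = N55976 := ded_48_1 (flp_i L749058) L733667 L749058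
theorem L749068 : sm gg N55976 = N54592 := ded_51_1 (flp_i L734298) (flp_g L733668) L749058
theorem L749070 : sm gj N55976 = N55244 := ded_53_1 (flp_i L742348) (flp_j L733670) L749058
theorem L749072 : sm gd N54547 = N55977 := rfl
theorem L749074 : sm ga N55977 = N55558 := ded_12_1 (flp_d L745598) (flp_a L733680) L749072
theorem L749076 : sm gb N55977 = N55024 := ded_20_1 (flp_d L749054) L749044 L749072
theorem L749078 : sm gg N55977 = N55452 := ded_36_2 L744481 (flp_g L733684) L749072
theorem L749080 : sm gj N55977 = N55829 := ded_37_2 L747623 (flp_j L733686) L749072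
theorem L749082 : sm gc N55977 = N54559 := ded_27_1 (flp_d L733842) L716226 (flp_d L716139) (flp_c L733682) L749072
theorem L749084 : sm ge N55977 = N55977 := ded_34_2 (flp_d L749072) (flp_e L733678) L716128 L733678 L749072
theorem L749085 : sm gh N55977 = N55276 := ded_38_2 L742712 L731603 (flp_d L728371) (flp_h L733688) L749072
theorem L749087 : sm gf N55021 = N55977 := ded_56_1 L749084 (flp_d L749072) L733682 L716133 L704894 (flp_h L712570) (flp_f L730944) L730941 (flp_d L738008) L738006 L721141 (flp_a L715022) L715032 (flp_f L723355) L723353 L704091 L682888 (flp_b L696535) L696533 L681351 L681345 (flp_e L675005) L675003 L658488 L658486 L359935 (flp_h L247796) L170714 (flp_e L171859) (flp_d L249456) L249454 L173874 L562219 (flp_h L182335) (flp_f L265004) L385653 (flp_d L660530) (flp_c L683001) L682999 (flp_a L677814) L677822 L677823 L677820 (flp_d L681969) (flp_c L681961) (flp_b L681697) (flp_a L695839) L695849 L687443 L687525 L687537 L687529 L669073 (flp_a L653701) (flp_h L675095) (flp_f L696107) L715583 L715597 (flp_c L728432) (flp_b L742669) L742667 (flp_h L739957)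
theorem L749089 : sm gf N54547 = N55978 := rfl
theorem L749091 : sm ga N55978 = N55282 := ded_14_1 L742785 (flp_a L733680) L749089
theorem L749093 : sm gb N55978 = N55023 := ded_22_1 L749056 L749044 L749089
theorem L749095 : sm gc N55978 = N54549 := ded_29_1 (flp_f L733702) (flp_c L733682) L749089
theorem L749097 : sm gd N55978 = N55021 := ded_35_1 L749087 (flp_d L749072) L749089
theorem L749099 : sm gj N55978 = N55374 := ded_46_2 L743754 (flp_j L733686) L749089
theorem L749101 : sm gh N55978 = N55373 := ded_47_2 L743749 (flp_h L733688) L749089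
theorem L749103 : sm ge N55978 = N55978 := ded_40_1 (flp_f L749089) (flp_e L733678) L716121 L733678 L749089
theorem L749104 : sm gg N55978 = N55202 := ded_45_2 (flp_f L741857) L724930 (flp_f L727957) (flp_g L733684) L749089
theorem L749106 : sm gi N54547 = N55979 := rfl
theorem L749108 : sm ga N55979 = N55559 := ded_18_1 (flp_i L745605) (flp_a L733680) L749106
theorem L749110 : sm gc N55979 = N54550 := ded_33_1 (flp_i L733715) (flp_c L733682) L749106
theorem L749112 : sm ge N55979 = N54548 := ded_44_1 (flp_i L733690) L733678 L749106
theorem L749114 : sm gg N55979 = N55479 := ded_51_1 (flp_i L744778) (flp_g L733684) L749106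
theorem L749116 : sm gj N55979 = N55872 := ded_53_1 (flp_i L747920) (flp_j L733686) L749106
theorem L749118 : sm gh N54548 = N55980 := rfl
theorem L749120 : sm ga N55980 = N55560 := ded_17_1 (flp_h L745613) (flp_a L733692) L749118
theorem L749122 : sm gc N55980 = N54551 := ded_32_1 (flp_h L733727) (flp_c L733694) L749118
theorem L749124 : sm gf N55980 = N55980 := ded_47_1 (flp_h L749118) L733697 L749118
theorem L749125 : sm gg N55980 = N55480 := ded_50_1 (flp_h L744790) (flp_g L733698) L749118
theorem L749127 : sm gj N55980 = N55917 := ded_52_1 (flp_h L748214) (flp_j L733700) L749118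
theorem L749129 : sm gi N55980 = N55507 := ded_54_2 (flp_h L745084) (flp_i L728373) (flp_h L716126) L733690 L749118
theorem L749131 : sm gi N54549 = N55981 := rfl
theorem L749133 : sm ga N55981 = N55286 := ded_18_1 (flp_i L742809) (flp_a L733704) L749131
theorem L749135 : sm gb N55981 = N55148 := ded_26_1 (flp_i L741259) (flp_b L733706) L749131
theorem L749137 : sm gd N55981 = N54562 := ded_39_1 (flp_i L733881) (flp_d L733708) L749131
theorem L749139 : sm ge N55981 = N55981 := ded_44_1 (flp_i L749131) L733712 L749131
theorem L749140 : sm gf N55981 = N54550 := ded_48_1 (flp_i L733715) L733702 L749131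
theorem L749142 : sm gg N55981 = N55205 := ded_51_1 (flp_i L741899) (flp_g L733713) L749131
theorem L749144 : sm gh N54550 = N55982 := rfl
theorem L749146 : sm ga N55982 = N55561 := ded_17_1 (flp_h L745622) (flp_a L733717) L749144
theorem L749148 : sm gb N55982 = N55149 := ded_25_1 (flp_h L741268) (flp_b L733719) L749144
theorem L749150 : sm ge N55982 = N54551 := ded_43_1 (flp_h L733727) (flp_e L733723) L749144
theorem L749152 : sm gg N55982 = N55481 := ded_50_1 (flp_h L744802) (flp_g L733725) L749144
theorem L749154 : sm gi N55982 = N55509 := ded_54_2 (flp_h L745102) (flp_i L728391) (flp_h L716137) L733715 L749144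
theorem L749156 : sm gi N54552 = N55983 := rfl
theorem L749158 : sm ga N55983 = N54683 := ded_18_1 (flp_i L735581) (flp_a L733742) L749156
theorem L749160 : sm gb N55983 = N55151 := ded_26_1 (flp_i L741291) (flp_b L733744) L749156
theorem L749162 : sm gc N55983 = N55595 := ded_33_1 (flp_i L745952) (flp_c L733746) L749156
theorem L749164 : sm gd N55983 = N54649 := ded_39_1 (flp_i L735094) (flp_d L733754) L749156
theorem L749166 : sm ge N55983 = N54553 := ded_44_1 (flp_i L733758) L733740 L749156
theorem L749168 : sm gf N55983 = N55705 := ded_48_1 (flp_i L746798) L733756 L749156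
theorem L749170 : sm gg N55983 = N54557 := ded_51_1 (flp_i L733818) (flp_g L733748) L749156
theorem L749172 : sm gj N55983 = N54647 := ded_53_1 (flp_i L735065) (flp_j L733750) L749156
theorem L749174 : sm gh N54553 = N55984 := rfl
theorem L749176 : sm ga N55984 = N54684 := ded_17_1 (flp_h L735593) (flp_a L733760) L749174
theorem L749178 : sm gb N55984 = N55152 := ded_25_1 (flp_h L741303) (flp_b L733762) L749174
theorem L749180 : sm gc N55984 = N55643 := ded_32_1 (flp_h L746334) (flp_c L733764) L749174
theorem L749182 : sm gf N55984 = N55984 := ded_47_1 (flp_h L749174) L733768 L749174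
theorem L749183 : sm gg N55984 = N54558 := ded_50_1 (flp_h L733828) (flp_g L733769) L749174
theorem L749185 : sm gj N55984 = N54648 := ded_52_1 (flp_h L735079) (flp_j L733771) L749174
theorem L749187 : sm gd N55984 = N54696 := ded_38_1 (flp_h L735725) L718067 (flp_h L716181) (flp_d L733766) L749174
theorem L749189 : sm gi N55984 = N54574 := ded_54_2 (flp_h L734054) (flp_i L716424) (flp_h L716163) L733758 L749174
theorem L749191 : sm gd N54554 = N55985 := rfl
theorem L749193 : sm ga N55985 = N55276 := ded_12_1 L742712 (flp_a L733775) L749191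
theorem L749195 : sm gb N55985 = N55512 := ded_20_1 L745132 (flp_b L733777) L749191
theorem L749197 : sm gf N55985 = N55273 := ded_35_2 L742675 (flp_f L733787) L749191
theorem L749199 : sm gg N55985 = N55565 := ded_36_2 L745674 (flp_g L733781) L749191
theorem L749201 : sm gj N55985 = N54559 := ded_37_2 (flp_d L733842) (flp_j L733783) L749191
theorem L749203 : sm gc N55985 = N55829 := ded_27_1 L747623 (flp_c L733639) L733647 (flp_c L733779) L749191
theorem L749205 : sm ge N55985 = N55985 := ded_34_2 (flp_d L749191) (flp_e L733773) L716197 L733773 L749191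
theorem L749206 : sm gh N55985 = N55558 := ded_38_2 (flp_d L745598) L728956 (flp_d L716451) (flp_h L733785) L749191
theorem L749208 : sm gi N54554 = N55986 := rfl
theorem L749210 : sm ga N55986 = N55835 := ded_18_1 (flp_i L747654) (flp_a L733775) L749208
theorem L749212 : sm gb N55986 = N55514 := ded_26_1 (flp_i L745151) (flp_b L733777) L749208
theorem L749214 : sm gc N55986 = N54557 := ded_33_1 (flp_i L733818) (flp_c L733779) L749208
theorem L749216 : sm ge N55986 = N54555 := ded_44_1 (flp_i L733789) L733773 L749208
theorem L749218 : sm gf N55986 = N55510 := ded_48_1 (flp_i L745110) (flp_f L733787) L749208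
theorem L749220 : sm gg N55986 = N55595 := ded_51_1 (flp_i L745952) (flp_g L733781) L749208
theorem L749222 : sm gj N55986 = N54560 := ded_53_1 (flp_i L733853) (flp_j L733783) L749208
theorem L749224 : sm gh N54555 = N55987 := rfl
theorem L749226 : sm ga N55987 = N55846 := ded_17_1 (flp_h L747738) (flp_a L733791) L749224
theorem L749228 : sm gb N55987 = N55530 := ded_25_1 (flp_h L745305) (flp_b L733793) L749224
theorem L749230 : sm gc N55987 = N54558 := ded_32_1 (flp_h L733828) (flp_c L733795) L749224
theorem L749232 : sm gf N55987 = N54564 := ded_47_1 (flp_h L733907) (flp_f L733798) L749224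
theorem L749234 : sm gg N55987 = N55643 := ded_50_1 (flp_h L746334) (flp_g L733800) L749224
theorem L749236 : sm gj N55987 = N54561 := ded_52_1 (flp_h L733867) (flp_j L733802) L749224
theorem L749238 : sm gi N55987 = N54577 := ded_54_2 (flp_h L734101) (flp_i L716453) (flp_h L716193) L733789 L749224
theorem L749240 : sm gg N54556 = N55988 := rfl
theorem L749242 : sm ga N55988 = N55299 := ded_15_1 L742968 (flp_a L733806) L749240
theorem L749244 : sm gb N55988 = N54889 := ded_23_1 L738333 (flp_b L733808) L749240
theorem L749246 : sm gc N55988 = N55504 := ded_30_1 L745051 (flp_c L733810) L749240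
theorem L749248 : sm gd N55988 = N55078 := ded_36_1 (flp_g L749005) L748998 L749240
theorem L749250 : sm ge N55988 = N54565 := ded_41_1 (flp_g L733922) (flp_e L733816) L749240
theorem L749252 : sm gh N55988 = N54578 := ded_50_2 (flp_g L734115) (flp_h L733814) L749240
theorem L749254 : sm gf N55988 = N55039 := ded_45_1 L740152 L733756 L733748 L733804 L749240
theorem L749256 : sm gj N55988 = N55210 := ded_49_2 (flp_g L741964) L725014 (flp_g L716259) (flp_j L733812) L749240
theorem L749258 : sm gi N54556 = N55989 := rfl
theorem L749260 : sm ga N55989 = N55312 := ded_18_1 (flp_i L743102) (flp_a L733806) L749258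
theorem L749262 : sm gb N55989 = N55153 := ded_26_1 (flp_i L741318) (flp_b L733808) L749258
theorem L749264 : sm gc N55989 = N55510 := ded_33_1 (flp_i L745110) (flp_c L733810) L749258
theorem L749266 : sm ge N55989 = N54566 := ded_44_1 (flp_i L733936) (flp_e L733816) L749258
theorem L749268 : sm gf N55989 = N54557 := ded_48_1 (flp_i L733818) L733804 L749258
theorem L749270 : sm gj N55989 = N54562 := ded_53_1 (flp_i L733881) (flp_j L733812) L749258
theorem L749272 : sm gh N54557 = N55990 := rfl
theorem L749274 : sm ga N55990 = N55839 := ded_17_1 (flp_h L747684) (flp_a L733820) L749272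
theorem L749276 : sm gb N55990 = N55154 := ded_25_1 (flp_h L741330) (flp_b L733822) L749272
theorem L749278 : sm ge N55990 = N54558 := ded_43_1 (flp_h L733828) (flp_e L733824) L749272
theorem L749280 : sm gj N55990 = N54563 := ded_52_1 (flp_h L733895) (flp_j L733826) L749272
theorem L749282 : sm gi N55990 = N54580 := ded_54_2 (flp_h L734141) (flp_i L716479) (flp_h L716206) L733818 L749272
theorem L749284 : sm gh N54559 = N55991 := rfl
theorem L749286 : sm ga N55991 = N55829 := ded_17_1 (flp_h L747618) (flp_a L733844) L749284
theorem L749288 : sm gb N55991 = N54689 := ded_25_1 L735655 (flp_b L733846) L749284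
theorem L749290 : sm gc N55991 = N55276 := ded_32_1 (flp_h L749085) L749082 L749284
theorem L749292 : sm ge N55991 = N55991 := ded_43_1 (flp_h L749284) L733852 L749284
theorem L749293 : sm gf N55991 = N54686 := ded_47_1 L735626 (flp_f L733848) L749284
theorem L749295 : sm gg N55991 = N54699 := ded_50_1 L735776 (flp_g L733850) L749284
theorem L749297 : sm gj N55991 = N55558 := ded_52_1 (flp_h L749206) L749201 L749284
theorem L749299 : sm gd N55991 = N54585 := ded_38_1 (flp_h L734214) (flp_d L716533) (flp_h L716230) L733842 L749284
theorem L749301 : sm gi N54559 = N55992 := rfl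
theorem L749303 : sm ga N55992 = N55830 := ded_18_1 (flp_i L747625) (flp_a L733844) L749301
theorem L749305 : sm gb N55992 = N55522 := ded_26_1 (flp_i L745235) (flp_b L733846) L749301
theorem L749307 : sm gd N55992 = N54560 := ded_39_1 (flp_i L733853) L733842 L749301
theorem L749309 : sm ge N55992 = N55992 := ded_44_1 (flp_i L749301) L733852 L749301
theorem L749310 : sm gf N55992 = N55519 := ded_48_1 (flp_i L745207) (flp_f L733848) L749301
theorem L749312 : sm gg N55992 = N55438 := ded_51_1 L744313 (flp_g L733850) L749301
theorem L749314 : sm gh N54560 = N55993 := rfl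
theorem L749316 : sm ga N55993 = N55836 := ded_17_1 (flp_h L747662) (flp_a L733855) L749314
theorem L749318 : sm gb N55993 = N55524 := ded_25_1 (flp_h L745258) (flp_b L733857) L749314
theorem L749320 : sm gc N55993 = N54563 := ded_32_1 (flp_h L733895) (flp_c L733859) L749314
theorem L749322 : sm ge N55993 = N54561 := ded_43_1 (flp_h L733867) (flp_e L733861) L749314
theorem L749324 : sm gf N55993 = N55520 := ded_47_1 (flp_h L745217) (flp_f L733863) L749314
theorem L749326 : sm gg N55993 = N55385 := ded_50_1 L743837 (flp_g L733865) L749314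
theorem L749328 : sm gi N55993 = N54588 := ded_54_2 (flp_h L734254) (flp_i L716559) (flp_h L716230) L733853 L749314
theorem L749330 : sm gd N54561 = N55994 := rfl
theorem L749332 : sm ga N55994 = N55847 := ded_12_1 (flp_d L747748) (flp_a L733869) L749330
theorem L749334 : sm gb N55994 = N55534 := ded_20_1 (flp_d L745350) (flp_b L733871) L749330
theorem L749336 : sm gf N55994 = N54568 := ded_35_2 (flp_d L733964) (flp_f L733875) L749330
theorem L749338 : sm gg N55994 = N55410 := ded_36_2 L744045 (flp_g L733877) L749330
theorem L749340 : sm gi N55994 = N54589 := ded_39_2 (flp_d L734264) (flp_i L733879) L749330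
theorem L749342 : sm gc N55994 = N54713 := ded_27_1 (flp_d L735951) L718200 (flp_d L716281) (flp_c L733873) L749330
theorem L749344 : sm gh N55994 = N55994 := ded_38_2 (flp_d L749330) (flp_h L733867) L716242 L733867 L749330
theorem L749345 : sm gh N54562 = N55995 := rfl
theorem L749347 : sm ga N55995 = N55313 := ded_17_1 (flp_h L743110) (flp_a L733883) L749345
theorem L749349 : sm gb N55995 = N55155 := ded_25_1 (flp_h L741342) (flp_b L733885) L749345
theorem L749351 : sm gc N55995 = N55520 := ded_32_1 (flp_h L745217) (flp_c L733887) L749345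
theorem L749353 : sm ge N55995 = N54569 := ded_43_1 (flp_h L733977) (flp_e L733889) L749345
theorem L749355 : sm gf N55995 = N54563 := ded_47_1 (flp_h L733895) (flp_f L733891) L749345
theorem L749357 : sm gg N55995 = N55213 := ded_50_1 (flp_h L741998) (flp_g L733893) L749345
theorem L749359 : sm gi N55995 = N54590 := ded_54_2 (flp_h L734276) (flp_i L716579) (flp_h L716255) L733881 L749345
theorem L749361 : sm gd N54563 = N55996 := rfl
theorem L749363 : sm ga N55996 = N55840 := ded_12_1 (flp_d L747692) (flp_a L733897) L749361
theorem L749365 : sm gb N55996 = N55156 := ded_20_1 (flp_d L741354) (flp_b L733899) L749361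
theorem L749367 : sm gg N55996 = N55483 := ded_36_2 (flp_d L744830) (flp_g L733903) L749361
theorem L749369 : sm gi N55996 = N54591 := ded_39_2 (flp_d L734288) (flp_i L733905) L749361
theorem L749371 : sm ge N55996 = N54717 := ded_34_2 (flp_d L736004) L718236 (flp_d L716281) (flp_e L733901) L749361
theorem L749373 : sm gd N54564 = N55997 := rfl
theorem L749375 : sm ga N55997 = N55849 := ded_12_1 (flp_d L747762) (flp_a L733909) L749373
theorem L749377 : sm gb N55997 = N55531 := ded_20_1 (flp_d L745317) (flp_b L733911) L749373
theorem L749379 : sm gg N55997 = N55997 := ded_36_2 (flp_d L749373) L733917 L749373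
theorem L749380 : sm gj N55997 = N54568 := ded_37_2 (flp_d L733964) (flp_j L733918) L749373
theorem L749382 : sm gi N55997 = N54594 := ded_39_2 (flp_d L734326) (flp_i L733920) L749373
theorem L749384 : sm gc N55997 = N54719 := ded_27_1 (flp_d L736027) L718260 (flp_d L716335) (flp_c L733913) L749373
theorem L749386 : sm gh N55997 = N55997 := ded_38_2 (flp_d L749373) (flp_h L733907) L716293 L733907 L749373
theorem L749387 : sm gi N54565 = N55998 := rfl
theorem L749389 : sm ga N55998 = N55319 := ded_18_1 (flp_i L743174) (flp_a L733924) L749387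
theorem L749391 : sm gb N55998 = N54890 := ded_26_1 (flp_i L738337) (flp_b L733926) L749387
theorem L749393 : sm gc N55998 = N55505 := ded_33_1 (flp_i L745057) (flp_c L733928) L749387
theorem L749395 : sm gd N55998 = N55998 := ded_39_1 (flp_i L749387) L733930 L749387
theorem L749396 : sm gf N55998 = N55998 := ded_48_1 (flp_i L749387) L733933 L749387
theorem L749397 : sm gg N55998 = N54566 := ded_51_1 (flp_i L733936) L733922 L749387
theorem L749399 : sm gj N55998 = N55215 := ded_53_1 (flp_i L742020) (flp_j L733934) L749387
theorem L749401 : sm gh N54566 = N55999 := rfl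
theorem L749403 : sm ga N55999 = N55326 := ded_17_1 (flp_h L743256) (flp_a L733938) L749401
theorem L749405 : sm gb N55999 = N55157 := ded_25_1 (flp_h L741364) (flp_b L733940) L749401
theorem L749407 : sm gc N55999 = N55511 := ded_32_1 (flp_h L745118) (flp_c L733942) L749401
theorem L749409 : sm gf N55999 = N54567 := ded_47_1 (flp_h L733949) (flp_f L733945) L749401
theorem L749411 : sm gj N55999 = N54569 := ded_52_1 (flp_h L733977) (flp_j L733947) L749401
theorem L749413 : sm gi N55999 = N54596 := ded_54_2 (flp_h L734352) (flp_i L716650) (flp_h L716310) L733936 L749401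
theorem L749415 : sm gd N54567 = N56000 := rfl
theorem L749417 : sm ga N56000 = N55332 := ded_12_1 (flp_d L743315) (flp_a L733951) L749415
theorem L749419 : sm gb N56000 = N55158 := ded_20_1 (flp_d L741376) (flp_b L733953) L749415
theorem L749421 : sm gg N56000 = N56000 := ded_36_2 (flp_d L749415) L733959 L749415
theorem L749422 : sm gj N56000 = N54570 := ded_37_2 (flp_d L733991) (flp_j L733960) L749415
theorem L749424 : sm gi N56000 = N54597 := ded_39_2 (flp_d L734362) (flp_i L733962) L749415
theorem L749426 : sm ge N56000 = N54722 := ded_34_2 (flp_d L736065) L718304 (flp_d L716335) (flp_e L733957) L749415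
theorem L749428 : sm gh N56000 = N56000 := ded_38_2 (flp_d L749415) (flp_h L733949) L716320 L733949 L749415
theorem L749429 : sm ge N54568 = N56001 := rfl
theorem L749431 : sm ga N56001 = N55845 := ded_13_1 L747731 (flp_a L733966) L749429
theorem L749433 : sm gb N56001 = N55219 := ded_21_1 L742067 (flp_b L733968) L749429
theorem L749435 : sm gc N56001 = N54725 := ded_28_1 (flp_e L736110) (flp_c L733974) L749429
theorem L749437 : sm gg N56001 = N54571 := ded_41_2 (flp_e L734004) (flp_g L733970) L749429
theorem L749439 : sm gh N56001 = N56001 := ded_43_2 (flp_e L749429) L733976 L749429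
theorem L749440 : sm gi N56001 = N54601 := ded_44_2 (flp_e L734418) (flp_i L733972) L749429
theorem L749442 : sm gd N56001 = N55533 := ded_34_1 (flp_e L745340) (flp_d L728637) (flp_e L716347) L733964 L749429
theorem L749444 : sm gd N54569 = N56002 := rfl
theorem L749446 : sm ga N56002 = N55327 := ded_12_1 (flp_d L743264) (flp_a L733979) L749444
theorem L749448 : sm gb N56002 = N55159 := ded_20_1 (flp_d L741390) (flp_b L733981) L749444
theorem L749450 : sm gf N56002 = N54570 := ded_35_2 (flp_d L733991) (flp_f L733985) L749444
theorem L749452 : sm gg N56002 = N55218 := ded_36_2 (flp_d L742054) (flp_g L733987) L749444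
theorem L749454 : sm gi N56002 = N54602 := ded_39_2 (flp_d L734430) (flp_i L733989) L749444
theorem L749456 : sm gh N56002 = N56002 := ded_38_2 (flp_d L749444) (flp_h L733977) L716361 L733977 L749444
theorem L749457 : sm gc N54570 = N56003 := rfl
theorem L749459 : sm ga N56003 = N55333 := ded_11_1 (flp_c L743325) (flp_a L733993) L749457
theorem L749461 : sm ge N56003 = N54729 := ded_28_2 (flp_c L736161) (flp_e L734001) L749457
theorem L749463 : sm gg N56003 = N54572 := ded_30_2 (flp_c L734020) (flp_g L733997) L749457
theorem L749465 : sm gh N56003 = N56003 := ded_32_2 (flp_c L749457) L734003 L749457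
theorem L749466 : sm gi N56003 = N54603 := ded_33_2 (flp_c L734442) (flp_i L733999) L749457
theorem L749468 : sm gb N56003 = N55419 := ded_19_1 L744123 L729712 (flp_c L724326) (flp_b L733995) L749457
theorem L749470 : sm gd N56003 = N55416 := ded_27_2 L744090 (flp_d L728637) (flp_c L716372) L733991 L749457
theorem L749472 : sm gh N54573 = N56004 := rfl
theorem L749474 : sm ga N56004 = N55862 := ded_17_1 (flp_h L747860) (flp_a L734038) L749472
theorem L749476 : sm gb N56004 = N55163 := ded_25_1 (flp_h L741445) (flp_b L734040) L749472
theorem L749478 : sm gc N56004 = N55596 := ded_32_1 (flp_h L745958) (flp_c L734042) L749472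
theorem L749480 : sm ge N56004 = N54574 := ded_43_1 (flp_h L734054) (flp_e L734046) L749472
theorem L749482 : sm gf N56004 = N55706 := ded_47_1 (flp_h L746803) (flp_f L734048) L749472
theorem L749484 : sm gg N56004 = N54580 := ded_50_1 (flp_h L734141) (flp_g L734050) L749472
theorem L749486 : sm gj N56004 = N55467 := ded_52_1 (flp_h L744661) (flp_j L734052) L749472
theorem L749488 : sm gi N54575 = N56005 := rfl
theorem L749490 : sm ga N56005 = N55380 := ded_18_1 (flp_i L743791) (flp_a L734071) L749488
theorem L749492 : sm gb N56005 = N55479 := ded_26_1 (flp_i L744778) (flp_b L734073) L749488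
theorem L749494 : sm gc N56005 = N54579 := ded_33_1 (flp_i L734129) (flp_c L734075) L749488
theorem L749496 : sm gd N56005 = N55585 := ded_39_1 (flp_i L745859) (flp_d L734077) L749488
theorem L749498 : sm ge N56005 = N54592 := ded_44_1 (flp_i L734298) (flp_e L734083) L749488
theorem L749500 : sm gf N56005 = N54576 := ded_48_1 (flp_i L734085) L734069 L749488
theorem L749502 : sm gj N56005 = N54587 := ded_53_1 (flp_i L734240) (flp_j L734079) L749488
theorem L749504 : sm gh N54576 = N56006 := rfl
theorem L749506 : sm ga N56006 = N55878 := ded_17_1 (flp_h L747954) (flp_a L734087) L749504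
theorem L749508 : sm gb N56006 = N55787 := ded_25_1 (flp_h L747332) (flp_b L734089) L749504
theorem L749510 : sm gc N56006 = N54580 := ded_32_1 (flp_h L734141) (flp_c L734091) L749504
theorem L749512 : sm ge N56006 = N54577 := ded_43_1 (flp_h L734101) (flp_e L734095) L749504
theorem L749514 : sm gg N56006 = N55596 := ded_50_1 (flp_h L745958) (flp_g L734097) L749504
theorem L749516 : sm gj N56006 = N54588 := ded_52_1 (flp_h L734254) (flp_j L734099) L749504
theorem L749518 : sm gd N54577 = N56007 := rfl
theorem L749520 : sm ga N56007 = N55898 := ded_12_1 (flp_d L748074) (flp_a L734103) L749518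
theorem L749522 : sm gb N56007 = N55788 := ded_20_1 (flp_d L747340) (flp_b L734105) L749518
theorem L749524 : sm gf N56007 = N54594 := ded_35_2 (flp_d L734326) (flp_f L734109) L749518
theorem L749526 : sm gg N56007 = N55644 := ded_36_2 (flp_d L746341) (flp_g L734111) L749518
theorem L749528 : sm gj N56007 = N54589 := ded_37_2 (flp_d L734264) (flp_j L734113) L749518
theorem L749530 : sm gc N56007 = N54740 := ded_27_1 (flp_d L736306) L718583 (flp_d L716499) (flp_c L734107) L749518
theorem L749532 : sm gh N56007 = N54613 := ded_38_2 (flp_d L734575) (flp_h L716873) (flp_d L716461) L734101 L749518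
theorem L749534 : sm gi N54578 = N56008 := rfl
theorem L749536 : sm ga N56008 = N55361 := ded_18_1 (flp_i L743642) (flp_a L734117) L749534
theorem L749538 : sm gb N56008 = N55146 := ded_26_1 (flp_i L741238) (flp_b L734119) L749534
theorem L749540 : sm gd N56008 = N55041 := ded_39_1 (flp_i L740163) (flp_d L734121) L749534
theorem L749542 : sm ge N56008 = N54595 := ded_44_1 (flp_i L734339) (flp_e L734123) L749534
theorem L749544 : sm gf N56008 = N55040 := ded_48_1 (flp_i L740156) (flp_f L734125) L749534
theorem L749546 : sm gg N56008 = N54579 := ded_51_1 (flp_i L734129) L734115 L749534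
theorem L749548 : sm gj N56008 = N55230 := ded_53_1 (flp_i L742206) (flp_j L734127) L749534
theorem L749550 : sm gh N54579 = N56009 := rfl
theorem L749552 : sm ga N56009 = N55386 := ded_17_1 (flp_h L743843) (flp_a L734131) L749550
theorem L749554 : sm gb N56009 = N55165 := ded_25_1 (flp_h L741469) (flp_b L734133) L749550
theorem L749556 : sm ge N56009 = N54596 := ded_43_1 (flp_h L734352) (flp_e L734135) L749550
theorem L749558 : sm gf N56009 = N54580 := ded_47_1 (flp_h L734141) (flp_f L734137) L749550
theorem L749560 : sm gj N56009 = N54590 := ded_52_1 (flp_h L734276) (flp_j L734139) L749550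
theorem L749562 : sm gd N54580 = N56010 := rfl
theorem L749564 : sm ga N56010 = N55885 := ded_12_1 (flp_d L747988) (flp_a L734143) L749562
theorem L749566 : sm gb N56010 = N55166 := ded_20_1 (flp_d L741479) (flp_b L734145) L749562
theorem L749568 : sm gj N56010 = N54591 := ded_37_2 (flp_d L734288) (flp_j L734149) L749562
theorem L749570 : sm ge N56010 = N54744 := ded_34_2 (flp_d L736360) L718621 (flp_d L716499) (flp_e L734147) L749562
theorem L749572 : sm gh N54581 = N56011 := rfl
theorem L749574 : sm ga N56011 = N55233 := ded_17_1 L742240 (flp_a L734153) L749572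
theorem L749576 : sm gb N56011 = N54585 := ded_25_1 (flp_h L734214) (flp_b L734155) L749572
theorem L749578 : sm gc N56011 = N54708 := ded_32_1 (flp_h L735899) (flp_c L734163) L749572
theorem L749580 : sm ge N56011 = N54614 := ded_43_1 (flp_h L734590) (flp_e L734165) L749572
theorem L749582 : sm gf N56011 = N54688 := ded_47_1 L735647 (flp_f L734157) L749572
theorem L749584 : sm gg N56011 = N54697 := ded_50_1 L735746 (flp_g L734159) L749572
theorem L749586 : sm gj N56011 = N55451 := ded_52_1 L744471 (flp_j L734161) L749572
theorem L749588 : sm gd N56011 = N54689 := ded_38_1 L735655 L728520 (flp_h L716513) L734151 L749572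
theorem L749590 : sm gi N54581 = N56012 := rfl
theorem L749592 : sm ga N56012 = N55574 := ded_18_1 (flp_i L745762) (flp_a L734153) L749590
theorem L749594 : sm gb N56012 = N54586 := ded_26_1 (flp_i L734226) (flp_b L734155) L749590
theorem L749596 : sm gc N56012 = N55334 := ded_33_1 (flp_i L743338) (flp_c L734163) L749590
theorem L749598 : sm gd N56012 = N54582 := ded_39_1 (flp_i L734167) L734151 L749590
theorem L749600 : sm ge N56012 = N54615 := ded_44_1 (flp_i L734604) (flp_e L734165) L749590
theorem L749602 : sm gf N56012 = N55499 := ded_48_1 (flp_i L744997) (flp_f L734157) L749590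
theorem L749604 : sm gg N56012 = N54737 := ded_51_1 (flp_i L736270) (flp_g L734159) L749590
theorem L749606 : sm gj N56012 = N55437 := ded_53_1 L744301 (flp_j L734161) L749590
theorem L749608 : sm gh N54582 = N56013 := rfl
theorem L749610 : sm ga N56013 = N55577 := ded_17_1 (flp_h L745782) (flp_a L734169) L749608
theorem L749612 : sm gb N56013 = N54588 := ded_25_1 (flp_h L734254) (flp_b L734171) L749608
theorem L749614 : sm gc N56013 = N55167 := ded_32_1 (flp_h L741485) (flp_c L734173) L749608
theorem L749616 : sm ge N56013 = N54583 := ded_43_1 (flp_h L734183) (flp_e L734175) L749608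
theorem L749618 : sm gf N56013 = N55500 := ded_47_1 (flp_h L745004) (flp_f L734177) L749608
theorem L749620 : sm gg N56013 = N55487 := ded_50_1 (flp_h L744882) (flp_g L734179) L749608
theorem L749622 : sm gj N56013 = N55787 := ded_52_1 (flp_h L747332) (flp_j L734181) L749608
theorem L749624 : sm gi N56013 = N55524 := ded_54_2 (flp_h L745258) (flp_i L728537) (flp_h L716513) L734167 L749608
theorem L749626 : sm gd N54583 = N56014 := rfl
theorem L749628 : sm ga N56014 = N55178 := ded_12_1 L741617 (flp_a L734185) L749626
theorem L749630 : sm gb N56014 = N54589 := ded_20_1 (flp_d L734264) (flp_b L734187) L749626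
theorem L749632 : sm gf N56014 = N54598 := ded_35_2 (flp_d L734375) (flp_f L734191) L749626
theorem L749634 : sm gg N56014 = N55488 := ded_36_2 (flp_d L744892) (flp_g L734193) L749626
theorem L749636 : sm gj N56014 = N55788 := ded_37_2 (flp_d L747340) (flp_j L734195) L749626
theorem L749638 : sm gi N56014 = N55534 := ded_39_2 (flp_d L745350) (flp_i L734197) L749626
theorem L749640 : sm gc N56014 = N55141 := ded_27_1 (flp_d L741191) L724100 (flp_d L724464) (flp_c L734189) L749626
theorem L749642 : sm gh N56014 = N54617 := ded_38_2 (flp_d L734635) (flp_h L716918) (flp_d L716525) L734183 L749626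
theorem L749644 : sm gh N54584 = N56015 := rfl
theorem L749646 : sm ga N56015 = N55374 := ded_17_1 (flp_h L743751) (flp_a L734201) L749644
theorem L749648 : sm gb N56015 = N54688 := ded_25_1 L735647 (flp_b L734203) L749644
theorem L749650 : sm gc N56015 = N54694 := ded_32_1 L735710 (flp_c L734205) L749644
theorem L749652 : sm ge N56015 = N56015 := ded_43_1 (flp_h L749644) L734211 L749644
theorem L749653 : sm gf N56015 = N54585 := ded_47_1 (flp_h L734214) L734199 L749644
theorem L749655 : sm gg N56015 = N55236 := ded_50_1 (flp_h L742270) (flp_g L734212) L749644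
theorem L749657 : sm gj N56015 = N55282 := ded_52_1 L742783 (flp_j L734209) L749644
theorem L749659 : sm gd N56015 = N54686 := ded_38_1 L735626 (flp_d L728490) (flp_h L716553) (flp_d L734207) L749644
theorem L749661 : sm gi N54584 = N56016 := rfl
theorem L749663 : sm ga N56016 = N55375 := ded_18_1 (flp_i L743758) (flp_a L734201) L749661
theorem L749665 : sm gb N56016 = N55499 := ded_26_1 (flp_i L744997) (flp_b L734203) L749661
theorem L749667 : sm gc N56016 = N54733 := ded_33_1 (flp_i L736217) (flp_c L734205) L749661
theorem L749669 : sm gd N56016 = N54587 := ded_39_1 (flp_i L734240) (flp_d L734207) L749661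
theorem L749671 : sm ge N56016 = N56016 := ded_44_1 (flp_i L749661) L734211 L749661
theorem L749672 : sm gf N56016 = N54586 := ded_48_1 (flp_i L734226) L734199 L749661
theorem L749674 : sm gg N56016 = N55237 := ded_51_1 (flp_i L742283) (flp_g L734212) L749661
theorem L749676 : sm gj N56016 = N55585 := ded_53_1 (flp_i L745859) (flp_j L734209) L749661
theorem L749678 : sm gi N54585 = N56017 := rfl
theorem L749680 : sm ga N56017 = N55872 := ded_18_1 (flp_i L747920) (flp_a L734216) L749678
theorem L749682 : sm gc N56017 = N54695 := ded_33_1 (flp_i L735713) (flp_c L734218) L749678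
theorem L749684 : sm ge N56017 = N54618 := ded_44_1 (flp_i L734650) (flp_e L734220) L749678
theorem L749686 : sm gg N56017 = N54700 := ded_51_1 (flp_i L735778) (flp_g L734222) L749678
theorem L749688 : sm gj N56017 = N55559 := ded_53_1 (flp_i L745605) (flp_j L734224) L749678
theorem L749690 : sm gh N54586 = N56018 := rfl
theorem L749692 : sm ga N56018 = N55873 := ded_17_1 (flp_h L747926) (flp_a L734228) L749690
theorem L749694 : sm gc N56018 = N54734 := ded_32_1 (flp_h L736226) (flp_c L734230) L749690
theorem L749696 : sm ge N56018 = N54619 := ded_43_1 (flp_h L734662) (flp_e L734234) L749690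
theorem L749698 : sm gg N56018 = N54739 := ded_50_1 (flp_h L736294) (flp_g L734236) L749690
theorem L749700 : sm gj N56018 = N55586 := ded_52_1 (flp_h L745866) (flp_j L734238) L749690
theorem L749702 : sm gh N54587 = N56019 := rfl
theorem L749704 : sm ga N56019 = N55381 := ded_17_1 (flp_h L743801) (flp_a L734242) L749702
theorem L749706 : sm gb N56019 = N55500 := ded_25_1 (flp_h L745004) (flp_b L734244) L749702
theorem L749708 : sm gc N56019 = N54590 := ded_32_1 (flp_h L734276) (flp_c L734246) L749702
theorem L749710 : sm ge N56019 = N54599 := ded_43_1 (flp_h L734393) (flp_e L734248) L749702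
theorem L749712 : sm gf N56019 = N54588 := ded_47_1 (flp_h L734254) (flp_f L734250) L749702
theorem L749714 : sm gg N56019 = N55240 := ded_50_1 (flp_h L742314) (flp_g L734252) L749702
theorem L749716 : sm gi N56019 = N55520 := ded_54_2 (flp_h L745217) (flp_i L728498) (flp_h L716553) L734240 L749702
theorem L749718 : sm gd N54588 = N56020 := rfl
theorem L749720 : sm ga N56020 = N55879 := ded_12_1 (flp_d L747962) (flp_a L734256) L749718
theorem L749722 : sm gg N56020 = N55489 := ded_36_2 (flp_d L744900) (flp_g L734262) L749718
theorem L749724 : sm ge N54589 = N56021 := rfl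
theorem L749726 : sm ga N56021 = N55899 := ded_13_1 (flp_e L748084) (flp_a L734266) L749724
theorem L749728 : sm gc N56021 = N54759 := ded_28_1 (flp_e L736562) (flp_c L734272) L749724
theorem L749730 : sm gg N56021 = N55490 := ded_41_2 (flp_e L744906) (flp_g L734270) L749724
theorem L749732 : sm gh N56021 = N54621 := ded_43_2 (flp_e L734685) (flp_h L734274) L749724
theorem L749734 : sm gd N54590 = N56022 := rfl
theorem L749736 : sm ga N56022 = N55387 := ded_12_1 (flp_d L743851) (flp_a L734278) L749734
theorem L749738 : sm gb N56022 = N55173 := ded_20_1 (flp_d L741567) (flp_b L734280) L749734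
theorem L749740 : sm gf N56022 = N54591 := ded_35_2 (flp_d L734288) (flp_f L734284) L749734
theorem L749742 : sm gg N56022 = N55242 := ded_36_2 (flp_d L742336) (flp_g L734286) L749734
theorem L749744 : sm gc N54591 = N56023 := rfl
theorem L749746 : sm ga N56023 = N55886 := ded_11_1 (flp_c L747992) (flp_a L734290) L749744
theorem L749748 : sm ge N56023 = N54763 := ded_28_2 (flp_c L736594) (flp_e L734296) L749744
theorem L749750 : sm gg N56023 = N55491 := ded_30_2 (flp_c L744914) (flp_g L734294) L749744
theorem L749752 : sm gh N54592 = N56024 := rfl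
theorem L749754 : sm ga N56024 = N55406 := ded_17_1 (flp_h L744012) (flp_a L734300) L749752
theorem L749756 : sm gb N56024 = N55480 := ded_25_1 (flp_h L744790) (flp_b L734302) L749752
theorem L749758 : sm gc N56024 = N54596 := ded_32_1 (flp_h L734352) (flp_c L734304) L749752
theorem L749760 : sm gf N56024 = N54593 := ded_47_1 (flp_h L734311) (flp_f L734307) L749752
theorem L749762 : sm gj N56024 = N54599 := ded_52_1 (flp_h L734393) (flp_j L734309) L749752
theorem L749764 : sm gi N56024 = N55511 := ded_54_2 (flp_h L745118) (flp_i L728414) (flp_h L716612) L734298 L749752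
theorem L749766 : sm gd N54593 = N56025 := rfl
theorem L749768 : sm ga N56025 = N55418 := ded_12_1 (flp_d L744115) (flp_a L734313) L749766
theorem L749770 : sm gb N56025 = N55503 := ded_20_1 (flp_d L745033) (flp_b L734315) L749766
theorem L749772 : sm gg N56025 = N56025 := ded_36_2 (flp_d L749766) L734321 L749766
theorem L749773 : sm gj N56025 = N54600 := ded_37_2 (flp_d L734407) (flp_j L734322) L749766
theorem L749775 : sm gi N56025 = N55529 := ded_39_2 (flp_d L745296) (flp_i L734324) L749766
theorem L749777 : sm gh N56025 = N56025 := ded_38_2 (flp_d L749766) (flp_h L734311) L716622 L734311 L749766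
theorem L749778 : sm ge N54594 = N56026 := rfl
theorem L749780 : sm ga N56026 = N55891 := ded_13_1 L748022 (flp_a L734328) L749778
theorem L749782 : sm gb N56026 = N55249 := ded_21_1 L742409 (flp_b L734330) L749778
theorem L749784 : sm gc N56026 = N54766 := ded_28_1 (flp_e L736622) (flp_c L734335) L749778
theorem L749786 : sm gg N56026 = N56026 := ded_41_2 (flp_e L749778) L734332 L749778
theorem L749787 : sm gj N56026 = N54601 := ded_42_2 (flp_e L734418) (flp_j L734333) L749778
theorem L749789 : sm gh N56026 = N54622 := ded_43_2 (flp_e L734694) (flp_h L734337) L749778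
theorem L749791 : sm gh N54595 = N56027 := rfl
theorem L749793 : sm ga N56027 = N55398 := ded_17_1 (flp_h L743939) (flp_a L734341) L749791
theorem L749795 : sm gb N56027 = N55147 := ded_25_1 (flp_h L741250) (flp_b L734343) L749791
theorem L749797 : sm gf N56027 = N56027 := ded_47_1 (flp_h L749791) L734347 L749791
theorem L749798 : sm gg N56027 = N54596 := ded_50_1 (flp_h L734352) (flp_g L734348) L749791
theorem L749800 : sm gj N56027 = N55247 := ded_52_1 (flp_h L742388) (flp_j L734350) L749791
theorem L749802 : sm gd N54596 = N56028 := rfl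
theorem L749804 : sm ga N56028 = N55411 := ded_12_1 (flp_d L744050) (flp_a L734354) L749802
theorem L749806 : sm gb N56028 = N55175 := ded_20_1 (flp_d L741577) (flp_b L734356) L749802
theorem L749808 : sm gf N56028 = N54597 := ded_35_2 (flp_d L734362) (flp_f L734358) L749802
theorem L749810 : sm gj N56028 = N54602 := ded_37_2 (flp_d L734430) (flp_j L734360) L749802
theorem L749812 : sm gh N56028 = N54608 := ded_38_2 (flp_d L734516) (flp_h L716813) (flp_d L716656) L734352 L749802
theorem L749814 : sm gc N54597 = N56029 := rfl
theorem L749816 : sm ga N56029 = N55420 := ded_11_1 (flp_c L744130) (flp_a L734364) L749814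
theorem L749818 : sm ge N56029 = N54770 := ded_28_2 (flp_c L736671) (flp_e L734371) L749814
theorem L749820 : sm gg N56029 = N56029 := ded_30_2 (flp_c L749814) L734368 L749814
theorem L749821 : sm gj N56029 = N54603 := ded_31_2 (flp_c L734442) (flp_j L734369) L749814
theorem L749823 : sm gh N56029 = N54609 := ded_32_2 (flp_c L734527) (flp_h L734373) L749814
theorem L749825 : sm gb N56029 = N55927 := ded_19_1 (flp_c L748286) L732472 (flp_c L724559) (flp_b L734366) L749814
theorem L749827 : sm gd N54599 = N56030 := rfl
theorem L749829 : sm ga N56030 = N55407 := ded_12_1 (flp_d L744020) (flp_a L734395) L749827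
theorem L749831 : sm gb N56030 = N55501 := ded_20_1 (flp_d L745014) (flp_b L734397) L749827
theorem L749833 : sm gf N56030 = N54600 := ded_35_2 (flp_d L734407) (flp_f L734401) L749827
theorem L749835 : sm gg N56030 = N55250 := ded_36_2 (flp_d L742416) (flp_g L734403) L749827
theorem L749837 : sm gi N56030 = N55521 := ded_39_2 (flp_d L745225) (flp_i L734405) L749827
theorem L749839 : sm gh N56030 = N56030 := ded_38_2 (flp_d L749827) (flp_h L734393) L716697 L734393 L749827
theorem L749840 : sm gc N54600 = N56031 := rfl
theorem L749842 : sm ga N56031 = N55330 := ded_11_1 L743298 (flp_a L734409) L749840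
theorem L749844 : sm gg N56031 = N54604 := ded_30_2 (flp_c L734452) (flp_g L734413) L749840
theorem L749846 : sm gh N56031 = N56031 := ded_32_2 (flp_c L749840) L734417 L749840
theorem L749847 : sm gi N56031 = N55416 := ded_33_2 L744090 (flp_i L734415) L749840
theorem L749849 : sm gb N56031 = N55845 := ded_19_1 (flp_c L747729) L731693 (flp_c L728347) (flp_b L734411) L749840
theorem L749851 : sm gd N56031 = N54603 := ded_27_2 (flp_c L734442) (flp_d L716736) (flp_c L716708) L734407 L749840
theorem L749853 : sm ge N55633 = N56031 := ded_13_0 L749842 L743291 (flp_a L746249)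
theorem L749855 : sm ge N54600 = N56032 := rfl
theorem L749857 : sm ga N56032 = N55419 := ded_13_1 (flp_e L744121) (flp_a L734409) L749855
theorem L749859 : sm gb N56032 = N55251 := ded_21_1 L742429 (flp_b L734411) L749855
theorem L749861 : sm gc N56032 = N55633 := ded_28_1 L749853 (flp_c L749840) L749855
theorem L749863 : sm gg N56032 = N54605 := ded_41_2 (flp_e L734468) (flp_g L734413) L749855
theorem L749865 : sm gh N56032 = N56032 := ded_43_2 (flp_e L749855) L734417 L749855
theorem L749866 : sm gi N56032 = N55533 := ded_44_2 (flp_e L745340) (flp_i L734415) L749855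
theorem L749868 : sm gd N56032 = N54601 := ded_34_1 (flp_e L734418) (flp_d L716716) (flp_e L716710) L734407 L749855
theorem L749870 : sm gf N54601 = N56033 := rfl
theorem L749872 : sm ga N56033 = N55896 := ded_14_1 L748064 (flp_a L734420) L749870
theorem L749874 : sm gb N56033 = N55252 := ded_22_1 L742442 (flp_b L734422) L749870
theorem L749876 : sm gc N56033 = N54776 := ded_29_1 (flp_f L736764) (flp_c L734424) L749870
theorem L749878 : sm gh N56033 = N54623 := ded_47_2 (flp_f L734707) (flp_h L734428) L749870
theorem L749880 : sm gc N54602 = N56034 := rfl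
theorem L749882 : sm ga N56034 = N55412 := ded_11_1 (flp_c L744058) (flp_a L734432) L749880
theorem L749884 : sm gf N56034 = N54603 := ded_29_2 (flp_c L734442) (flp_f L734436) L749880
theorem L749886 : sm gg N56034 = N55252 := ded_30_2 (flp_c L742438) (flp_g L734438) L749880
theorem L749888 : sm gh N56034 = N54610 := ded_32_2 (flp_c L734540) (flp_h L734440) L749880
theorem L749890 : sm ge N54602 = N56035 := rfl
theorem L749892 : sm ga N56035 = N55413 := ded_13_1 (flp_e L744068) (flp_a L734432) L749890
theorem L749894 : sm gb N56035 = N55179 := ded_21_1 (flp_e L741619) (flp_b L734434) L749890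
theorem L749896 : sm gg N56035 = N55253 := ded_41_2 (flp_e L742446) (flp_g L734438) L749890
theorem L749898 : sm gh N56035 = N54611 := ded_43_2 (flp_e L734550) (flp_h L734440) L749890
theorem L749900 : sm gf N56035 = N54780 := ded_40_2 (flp_e L736800) L719029 (flp_e L716744) (flp_f L734436) L749890
theorem L749902 : sm gb N54603 = N56036 := rfl
theorem L749904 : sm gd N56036 = N55845 := ded_20_2 (flp_b L749849) L749851 L749902
theorem L749906 : sm ge N56036 = N54781 := ded_21_2 (flp_b L736806) (flp_e L734446) L749902
theorem L749908 : sm gg N56036 = N54606 := ded_23_2 L734488 (flp_g L734448) L749902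
theorem L749910 : sm gj N56036 = N55927 := ded_24_2 (flp_b L749825) L749821 L749902
theorem L749912 : sm gh N56036 = N54612 := ded_25_2 (flp_b L734561) (flp_h L734450) L749902
theorem L749914 : sm gi N56036 = N55419 := ded_26_2 (flp_b L749468) L749466 L749902
theorem L749916 : sm ga N56036 = N55533 := ded_10_1 L745342 L728664 L727039 (flp_a L734444) L749902
theorem L749918 : sm gc N56036 = N54783 := ded_19_2 L736841 (flp_c L724607) (flp_b L716740) L734442 L749902
theorem L749920 : sm gd N54607 = N56037 := rfl
theorem L749922 : sm ga N56037 = N55421 := ded_12_1 (flp_d L744141) (flp_a L734503) L749920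
theorem L749924 : sm gb N56037 = N55181 := ded_20_1 (flp_d L741636) (flp_b L734505) L749920
theorem L749926 : sm gf N56037 = N56037 := ded_35_2 (flp_d L749920) L734510 L749920
theorem L749927 : sm gg N56037 = N54608 := ded_36_2 (flp_d L734516) (flp_g L734511) L749920
theorem L749929 : sm gj N56037 = N55254 := ded_37_2 (flp_d L742452) (flp_j L734513) L749920
theorem L749931 : sm gi N56037 = N56037 := ded_39_2 (flp_d L749920) L734515 L749920
theorem L749932 : sm gc N54608 = N56038 := rfl
theorem L749934 : sm ga N56038 = N55427 := ded_11_1 (flp_c L744191) (flp_a L734518) L749932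
theorem L749936 : sm gf N56038 = N54609 := ded_29_2 (flp_c L734527) (flp_f L734522) L749932
theorem L749938 : sm gj N56038 = N54610 := ded_31_2 (flp_c L734540) (flp_j L734524) L749932
theorem L749940 : sm gi N56038 = N56038 := ded_33_2 (flp_c L749932) L734526 L749932
theorem L749941 : sm gb N56038 = N55909 := ded_19_1 (flp_c L748162) L732250 (flp_c L724659) (flp_b L734520) L749932
theorem L749943 : sm gd N56038 = N56038 := ded_27_2 (flp_c L749932) (flp_d L734516) L716819 L734516 L749932
theorem L749944 : sm ge N54608 = N56039 := rfl
theorem L749946 : sm ga N56039 = N55428 := ded_13_1 (flp_e L744201) (flp_a L734518) L749944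
theorem L749948 : sm gb N56039 = N55182 := ded_21_1 (flp_e L741646) (flp_b L734520) L749944
theorem L749950 : sm gj N56039 = N54611 := ded_42_2 (flp_e L734550) (flp_j L734524) L749944
theorem L749952 : sm gi N56039 = N56039 := ded_44_2 (flp_e L749944) L734526 L749944
theorem L749953 : sm gd N56039 = N55702 := ded_34_1 L746779 L730459 (flp_e L716820) L734516 L749944
theorem L749955 : sm gf N56039 = N54788 := ded_40_2 (flp_e L736905) L719190 (flp_e L716837) (flp_f L734522) L749944
theorem L749957 : sm gb N54610 = N56040 := rfl
theorem L749959 : sm gd N56040 = N56040 := ded_20_2 (flp_b L749957) L734549 L749957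
theorem L749960 : sm gf N56040 = N54612 := ded_22_2 (flp_b L734561) (flp_f L734544) L749957
theorem L749962 : sm gg N56040 = N54623 := ded_23_2 L734711 (flp_g L734546) L749957
theorem L749964 : sm gj N56040 = N55909 := ded_24_2 (flp_b L749941) L749938 L749957
theorem L749966 : sm gi N56040 = N56040 := ded_26_2 (flp_b L749957) L734548 L749957
theorem L749967 : sm ga N56040 = N55550 := ded_10_1 L745509 L728867 L727108 (flp_a L734542) L749957
theorem L749969 : sm gc N56040 = N54812 := ded_19_2 L737196 (flp_c L724685) (flp_b L716843) L734540 L749957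
theorem L749971 : sm ge N54610 = N56041 := rfl
theorem L749973 : sm ga N56041 = N55429 := ded_13_1 (flp_e L744210) (flp_a L734542) L749971
theorem L749975 : sm gc N56041 = N54611 := ded_28_1 (flp_e L734550) L734540 L749971
theorem L749977 : sm gg N56041 = N55257 := ded_41_2 (flp_e L742477) (flp_g L734546) L749971
theorem L749979 : sm gi N56041 = N56041 := ded_44_2 (flp_e L749971) L734548 L749971
theorem L749980 : sm gf N56041 = N54794 := ded_40_2 (flp_e L736972) L719229 (flp_e L716854) (flp_f L734544) L749971
theorem L749982 : sm ge N54613 = N56042 := rfl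
theorem L749984 : sm ga N56042 = N55922 := ded_13_1 (flp_e L748246) (flp_a L734577) L749982
theorem L749986 : sm gb N56042 = N55902 := ded_21_1 (flp_e L748107) (flp_b L734579) L749982
theorem L749988 : sm gc N56042 = N54798 := ded_28_1 (flp_e L737019) (flp_c L734588) L749982
theorem L749990 : sm gg N56042 = N55645 := ded_41_2 (flp_e L746348) (flp_g L734583) L749982
theorem L749992 : sm gj N56042 = N54621 := ded_42_2 (flp_e L734685) (flp_j L734585) L749982
theorem L749994 : sm gi N56042 = N56042 := ded_44_2 (flp_e L749982) L734587 L749982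
theorem L749995 : sm gd N56042 = N55641 := ded_34_1 (flp_e L746318) (flp_d L729803) (flp_e L716881) L734575 L749982
theorem L749997 : sm gi N54614 = N56043 := rfl
theorem L749999 : sm ga N56043 = N55260 := ded_18_1 (flp_i L742510) (flp_a L734592) L749997
theorem L750001 : sm gb N56043 = N54618 := ded_26_1 (flp_i L734650) (flp_b L734594) L749997
theorem L750003 : sm gc N56043 = N55259 := ded_33_1 (flp_i L742497) (flp_c L734596) L749997
theorem L750005 : sm gd N56043 = N56043 := ded_39_1 (flp_i L749997) L734603 L749997
theorem L750006 : sm gf N56043 = N56043 := ded_48_1 (flp_i L749997) L734598 L749997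
theorem L750007 : sm gg N56043 = N54698 := ded_51_1 (flp_i L735752) (flp_g L734599) L749997
theorem L750009 : sm gj N56043 = N55449 := ded_53_1 L744444 (flp_j L734601) L749997
theorem L750011 : sm gh N54615 = N56044 := rfl
theorem L750013 : sm ga N56044 = N55904 := ded_17_1 (flp_h L748127) (flp_a L734606) L750011
theorem L750015 : sm gb N56044 = N54619 := ded_25_1 (flp_h L734662) (flp_b L734608) L750011
theorem L750017 : sm gc N56044 = N55335 := ded_32_1 (flp_h L743352) (flp_c L734610) L750011
theorem L750019 : sm gf N56044 = N56044 := ded_47_1 (flp_h L750011) L734614 L750011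
theorem L750020 : sm gg N56044 = N54738 := ded_50_1 (flp_h L736284) (flp_g L734615) L750011
theorem L750022 : sm gj N56044 = N55435 := ded_52_1 L744277 (flp_j L734617) L750011
theorem L750024 : sm gd N54616 = N56045 := rfl
theorem L750026 : sm ga N56045 = N55905 := ded_12_1 (flp_d L748134) (flp_a L734621) L750024
theorem L750028 : sm gb N56045 = N54620 := ded_20_1 (flp_d L734673) (flp_b L734623) L750024
theorem L750030 : sm gf N56045 = N56045 := ded_35_2 (flp_d L750024) L734629 L750024
theorem L750031 : sm gg N56045 = N54797 := ded_36_2 (flp_d L737010) (flp_g L734630) L750024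
theorem L750033 : sm gj N56045 = N55125 := ded_37_2 L741005 (flp_j L734632) L750024
theorem L750035 : sm gi N56045 = N56045 := ded_39_2 (flp_d L750024) L734634 L750024
theorem L750036 : sm gc N56045 = N55115 := ded_27_1 (flp_d L740887) L723693 (flp_d L717035) (flp_c L734625) L750024
theorem L750038 : sm ge N54617 = N56046 := rfl
theorem L750040 : sm ga N56046 = N55185 := ded_13_1 (flp_e L741673) (flp_a L734637) L750038
theorem L750042 : sm gb N56046 = N54621 := ded_21_1 (flp_e L734685) (flp_b L734639) L750038
theorem L750044 : sm gc N56046 = N55142 := ded_28_1 (flp_e L741201) (flp_c L734648) L750038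
theorem L750046 : sm gg N56046 = N55494 := ded_41_2 (flp_e L744948) (flp_g L734643) L750038
theorem L750048 : sm gj N56046 = N55902 := ded_42_2 (flp_e L748107) (flp_j L734645) L750038
theorem L750050 : sm gi N56046 = N56046 := ded_44_2 (flp_e L750038) L734647 L750038
theorem L750051 : sm gf N56046 = N55257 := ded_40_2 (flp_e L742477) L725517 L717008 (flp_f L734641) L750038
theorem L750053 : sm gh N54618 = N56047 := rfl
theorem L750055 : sm ga N56047 = N55917 := ded_17_1 (flp_h L748214) (flp_a L734652) L750053
theorem L750057 : sm gc N56047 = N54696 := ded_32_1 (flp_h L735725) (flp_c L734654) L750053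
theorem L750059 : sm gf N56047 = N56047 := ded_47_1 (flp_h L750053) L734657 L750053
theorem L750060 : sm gg N56047 = N54701 := ded_50_1 (flp_h L735790) (flp_g L734658) L750053
theorem L750062 : sm gj N56047 = N55560 := ded_52_1 (flp_h L745613) (flp_j L734660) L750053
theorem L750064 : sm gi N56047 = N54619 := ded_54_2 (flp_h L734662) (flp_i L716945) L716933 L734650 L750053
theorem L750066 : sm gd N54619 = N56048 := rfl
theorem L750068 : sm ga N56048 = N55918 := ded_12_1 (flp_d L748221) (flp_a L734664) L750066
theorem L750070 : sm gf N56048 = N56048 := ded_35_2 (flp_d L750066) L734668 L750066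
theorem L750071 : sm gg N56048 = N54740 := ded_36_2 (flp_d L736306) (flp_g L734669) L750066
theorem L750073 : sm gj N56048 = N55587 := ded_37_2 (flp_d L745874) (flp_j L734671) L750066
theorem L750075 : sm gc N56048 = N55644 := ded_27_1 (flp_d L746341) (flp_c L734060) L734067 (flp_c L734666) L750066
theorem L750077 : sm gh N56048 = N54620 := ded_38_2 (flp_d L734673) (flp_h L716958) (flp_d L716951) L734662 L750066
theorem L750079 : sm ge N54620 = N56049 := rfl
theorem L750081 : sm ga N56049 = N55921 := ded_13_1 (flp_e L748239) (flp_a L734675) L750079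
theorem L750083 : sm gc N56049 = N55645 := ded_28_1 (flp_e L746348) (flp_c L734683) L750079
theorem L750085 : sm gg N56049 = N54798 := ded_41_2 (flp_e L737019) (flp_g L734678) L750079
theorem L750087 : sm gj N56049 = N55641 := ded_42_2 (flp_e L746318) (flp_j L734680) L750079
theorem L750089 : sm gi N56049 = N56049 := ded_44_2 (flp_e L750079) L734682 L750079
theorem L750090 : sm gd N56049 = N54621 := ded_34_1 (flp_e L734685) (flp_d L716972) (flp_e L716964) L734673 L750079
theorem L750092 : sm gf N54621 = N56050 := rfl
theorem L750094 : sm ga N56050 = N55926 := ded_14_1 L748284 (flp_a L734687) L750092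
theorem L750096 : sm gb N56050 = N55257 := ded_22_1 (flp_f L750051) L750042 L750092
theorem L750098 : sm gc N56050 = N54808 := ded_29_1 (flp_f L737149) (flp_c L734689) L750092
theorem L750100 : sm gi N56050 = N56050 := ded_48_2 (flp_f L750092) L734693 L750092
theorem L750101 : sm ge N56050 = N54623 := ded_40_1 (flp_f L734707) (flp_e L717010) (flp_f L716976) L734685 L750092
theorem L750103 : sm gf N54622 = N56051 := rfl
theorem L750105 : sm ga N56051 = N55924 := ded_14_1 (flp_f L748264) (flp_a L734696) L750103
theorem L750107 : sm gb N56051 = N55255 := ded_22_1 L742464 (flp_b L734698) L750103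
theorem L750109 : sm gc N56051 = N54810 := ded_29_1 (flp_f L737170) (flp_c L734700) L750103
theorem L750111 : sm gd N56051 = N56051 := ded_35_1 (flp_f L750103) L734706 L750103
theorem L750112 : sm gj N56051 = N54623 := ded_46_2 (flp_f L734707) (flp_j L734703) L750103
theorem L750114 : sm gi N56051 = N56051 := ded_48_2 (flp_f L750103) L734705 L750103
theorem L750115 : sm gi N54624 = N56052 := rfl
theorem L750117 : sm ga N56052 = N55186 := ded_18_1 (flp_i L741682) (flp_a L734719) L750115
theorem L750119 : sm gb N56052 = N54649 := ded_26_1 (flp_i L735094) (flp_b L734721) L750115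
theorem L750121 : sm gc N56052 = N55171 := ded_33_1 (flp_i L741543) (flp_c L734723) L750115
theorem L750123 : sm gd N56052 = N55151 := ded_39_1 (flp_i L741291) (flp_d L734731) L750115
theorem L750125 : sm ge N56052 = N54625 := ded_44_1 (flp_i L734735) L734717 L750115
theorem L750127 : sm gf N56052 = N55191 := ded_48_1 (flp_i L741743) (flp_f L734733) L750115
theorem L750129 : sm gg N56052 = N55144 := ded_51_1 (flp_i L741219) (flp_g L734725) L750115
theorem L750131 : sm gj N56052 = N54626 := ded_53_1 (flp_i L734751) (flp_j L734727) L750115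
theorem L750133 : sm gh N54625 = N56053 := rfl
theorem L750135 : sm ga N56053 = N55187 := ded_17_1 (flp_h L741696) (flp_a L734737) L750133
theorem L750137 : sm gb N56053 = N54650 := ded_25_1 (flp_h L735106) (flp_b L734739) L750133
theorem L750139 : sm gc N56053 = N55176 := ded_32_1 (flp_h L741587) (flp_c L734741) L750133
theorem L750141 : sm gf N56053 = N54628 := ded_47_1 (flp_h L734783) (flp_f L734745) L750133
theorem L750143 : sm gg N56053 = N55145 := ded_50_1 (flp_h L741229) (flp_g L734747) L750133
theorem L750145 : sm gj N56053 = N54627 := ded_52_1 (flp_h L734767) (flp_j L734749) L750133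
theorem L750147 : sm gd N56053 = N55264 := ded_38_1 (flp_h L742564) L725649 (flp_h L717089) (flp_d L734743) L750133
theorem L750149 : sm gi N56053 = N54635 := ded_54_2 (flp_h L734884) (flp_i L717206) (flp_h L717071) L734735 L750133
theorem L750151 : sm gh N54626 = N56054 := rfl
theorem L750153 : sm ga N56054 = N55188 := ded_17_1 (flp_h L741712) (flp_a L734753) L750151
theorem L750155 : sm gb N56054 = N54655 := ded_25_1 (flp_h L735185) (flp_b L734755) L750151
theorem L750157 : sm gc N56054 = N55172 := ded_32_1 (flp_h L741557) (flp_c L734757) L750151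
theorem L750159 : sm ge N56054 = N54627 := ded_43_1 (flp_h L734767) (flp_e L734761) L750151
theorem L750161 : sm gf N56054 = N55195 := ded_47_1 (flp_h L741782) (flp_f L734763) L750151
theorem L750163 : sm gg N56054 = N55169 := ded_50_1 (flp_h L741517) (flp_g L734765) L750151
theorem L750165 : sm gi N56054 = N54640 := ded_54_2 (flp_h L734959) (flp_i L717263) (flp_h L717101) L734751 L750151
theorem L750167 : sm ge N54629 = N56055 := rfl
theorem L750169 : sm ga N56055 = N55073 := ded_13_1 L740506 (flp_a L734802) L750167
theorem L750171 : sm gb N56055 = N55210 := ded_21_1 L741970 (flp_b L734811) L750167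
theorem L750173 : sm gc N56055 = N54630 := ded_28_1 (flp_e L734814) L734800 L750167
theorem L750175 : sm gg N56055 = N54632 := ded_41_2 (flp_e L734841) (flp_g L734805) L750167
theorem L750177 : sm gj N56055 = N54889 := ded_42_2 (flp_e L738327) (flp_j L734807) L750167
theorem L750179 : sm gh N56055 = N55069 := ded_43_2 L740457 (flp_h L734809) L750167
theorem L750181 : sm gd N56055 = N55674 := ded_56_3 L746582 L730939 L712854 (flp_h L713087) (flp_f L713085) (flp_e L692474) (flp_d L670583) L387122 L268699 (flp_a L615742) L385872 L267974 (flp_e L267970) L184329 (flp_c L267801) (flp_b L267797) L542845 L362637 L362641 L249466 L362653 L546912 (flp_b L554282) L379338 (flp_h L379702) L666867 (flp_e L689103) L689097 (flp_c L692499) (flp_b L713105) (flp_a L725972) (flp_h L725970) L725960 L725968 L713690 L694154 (flp_b L699574) L699572 L677984 L677985 L665952 L650239 L272707 (flp_b L272700) L187603 L129530 (flp_f L129890) (flp_e L646431) (flp_d L546460) L253598 (flp_b L253593) L174624 (flp_h L172604) (flp_f L250560) L364317 L663238 (flp_c L683026) (flp_b L704346) (flp_a L723712) (flp_h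 L734809) L734804 L750167
theorem L750183 : sm gf N55667 = N56055 := ded_56_1 (flp_e L750167) L734813 (flp_c L734800) L717156 L698096 (flp_h L698543) L698538 L718051 L718061 (flp_c L731599) (flp_b L742736) L742734 L729301 (flp_f L728995) (flp_e L728985) L710107 L710114 (flp_b L692487) (flp_a L686733) L686741 L670299 (flp_e L665835) L665840 (flp_c L378690) L260304 L179215 L179219 L640958 (flp_e L246079) (flp_d L169567) L116995 (flp_b L118989) (flp_a L172319) (flp_h L172317) (flp_f L118811) L82138 L56903 L39544 L39543 L39541 L27555 (flp_f L39316) L39314 (flp_d L56567) (flp_c L81606) (flp_b L116389) (flp_a L168570) L244576 L244582 (flp_e L245611) L356936 L655143 (flp_b L655153) (flp_a L662653) L662659 L662902 (flp_e L685529) (flp_d L707078) (flp_c L723294) (flp_b L740491) L740489 L746528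
theorem L750185 : sm gi N54629 = N56056 := rfl
theorem L750187 : sm ga N56056 = N55119 := ded_18_1 (flp_i L740933) (flp_a L734802) L750185
theorem L750189 : sm gb N56056 = N55215 := ded_26_1 (flp_i L742020) (flp_b L734811) L750185
theorem L750191 : sm gc N56056 = N54631 := ded_33_1 (flp_i L734828) L734800 L750185
theorem L750193 : sm gd N56056 = N56056 := ded_39_1 (flp_i L750185) L734813 L750185
theorem L750194 : sm gf N56056 = N56056 := ded_48_1 (flp_i L750185) L734804 L750185
theorem L750195 : sm gg N56056 = N54633 := ded_51_1 (flp_i L734857) (flp_g L734805) L750185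
theorem L750197 : sm gj N56056 = N54890 := ded_53_1 (flp_i L738337) (flp_j L734807) L750185
theorem L750199 : sm gf N54630 = N56057 := rfl
theorem L750201 : sm ga N56057 = N54898 := ded_14_1 L738444 (flp_a L734816) L750199
theorem L750203 : sm gb N56057 = N54659 := ded_22_1 (flp_f L735245) (flp_b L734818) L750199
theorem L750205 : sm gc N56057 = N55667 := ded_29_1 L750183 L750173 L750199
theorem L750207 : sm gd N56057 = N54865 := ded_35_1 L737983 (flp_d L734826) L750199
theorem L750209 : sm gj N56057 = N54891 := ded_46_2 (flp_f L738347) (flp_j L734822) L750199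
theorem L750211 : sm gh N56057 = N55143 := ded_47_2 (flp_f L741208) (flp_h L734824) L750199
theorem L750213 : sm ge N56057 = N56057 := ded_40_1 (flp_f L750199) (flp_e L734814) L717158 L734814 L750199
theorem L750214 : sm gg N56057 = N55072 := ded_45_2 (flp_f L740487) L723246 (flp_f L717204) (flp_g L734820) L750199
theorem L750216 : sm gi N54630 = N56058 := rfl
theorem L750218 : sm ga N56058 = N55189 := ded_18_1 (flp_i L741722) (flp_a L734816) L750216
theorem L750220 : sm gb N56058 = N54660 := ded_26_1 (flp_i L735258) (flp_b L734818) L750216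
theorem L750222 : sm gd N56058 = N54894 := ded_39_1 (flp_i L738385) (flp_d L734826) L750216
theorem L750224 : sm ge N56058 = N54631 := ded_44_1 (flp_i L734828) L734814 L750216
theorem L750226 : sm gg N56058 = N54634 := ded_51_1 (flp_i L734870) (flp_g L734820) L750216
theorem L750228 : sm gj N56058 = N54892 := ded_53_1 (flp_i L738360) (flp_j L734822) L750216
theorem L750230 : sm gh N54631 = N56059 := rfl
theorem L750232 : sm ga N56059 = N55190 := ded_17_1 (flp_h L741732) (flp_a L734830) L750230
theorem L750234 : sm gb N56059 = N54661 := ded_25_1 (flp_h L735272) (flp_b L734832) L750230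
theorem L750236 : sm gf N56059 = N56059 := ded_47_1 (flp_h L750230) L734836 L750230
theorem L750237 : sm gg N56059 = N54635 := ded_50_1 (flp_h L734884) (flp_g L734837) L750230
theorem L750239 : sm gj N56059 = N54893 := ded_52_1 (flp_h L738372) (flp_j L734839) L750230
theorem L750241 : sm gd N56059 = N55020 := ded_38_1 (flp_h L739938) L722762 (flp_h L717179) (flp_d L734834) L750230
theorem L750243 : sm gi N56059 = N55145 := ded_54_2 (flp_h L741229) (flp_i L724145) (flp_h L717163) L734828 L750230
theorem L750245 : sm gi N54632 = N56060 := rfl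
theorem L750247 : sm ga N56060 = N55191 := ded_18_1 (flp_i L741743) (flp_a L734843) L750245
theorem L750249 : sm gb N56060 = N55211 := ded_26_1 (flp_i L741974) (flp_b L734845) L750245
theorem L750251 : sm gc N56060 = N54634 := ded_33_1 (flp_i L734870) (flp_c L734847) L750245
theorem L750253 : sm gd N56060 = N55758 := ded_39_1 (flp_i L747127) (flp_d L734855) L750245
theorem L750255 : sm ge N56060 = N54633 := ded_44_1 (flp_i L734857) L734841 L750245
theorem L750257 : sm gf N56060 = N55186 := ded_48_1 (flp_i L741682) (flp_f L734853) L750245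
theorem L750259 : sm gj N56060 = N54637 := ded_53_1 (flp_i L734913) (flp_j L734849) L750245
theorem L750261 : sm gh N54633 = N56061 := rfl
theorem L750263 : sm ga N56061 = N55192 := ded_17_1 (flp_h L741753) (flp_a L734859) L750261
theorem L750265 : sm gb N56061 = N55216 := ded_25_1 (flp_h L742030) (flp_b L734861) L750261
theorem L750267 : sm gc N56061 = N54635 := ded_32_1 (flp_h L734884) (flp_c L734863) L750261
theorem L750269 : sm gf N56061 = N54641 := ded_47_1 (flp_h L734969) (flp_f L734866) L750261
theorem L750271 : sm gj N56061 = N54638 := ded_52_1 (flp_h L734927) (flp_j L734868) L750261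
theorem L750273 : sm gi N56061 = N55176 := ded_54_2 (flp_h L741587) (flp_i L724581) (flp_h L717189) L734857 L750261
theorem L750275 : sm gh N54634 = N56062 := rfl
theorem L750277 : sm ga N56062 = N55193 := ded_17_1 (flp_h L741765) (flp_a L734872) L750275
theorem L750279 : sm gb N56062 = N54662 := ded_25_1 (flp_h L735285) (flp_b L734874) L750275
theorem L750281 : sm ge N56062 = N54635 := ded_43_1 (flp_h L734884) (flp_e L734878) L750275
theorem L750283 : sm gf N56062 = N55723 := ded_47_1 (flp_h L746909) (flp_f L734880) L750275
theorem L750285 : sm gj N56062 = N54640 := ded_52_1 (flp_h L734959) (flp_j L734882) L750275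
theorem L750287 : sm gi N54636 = N56063 := rfl
theorem L750289 : sm ga N56063 = N55194 := ded_18_1 (flp_i L741773) (flp_a L734898) L750287
theorem L750291 : sm gb N56063 = N55205 := ded_26_1 (flp_i L741899) (flp_b L734900) L750287
theorem L750293 : sm gc N56063 = N55162 := ded_33_1 (flp_i L741434) (flp_c L734908) L750287
theorem L750295 : sm gd N56063 = N54637 := ded_39_1 (flp_i L734913) L734896 L750287
theorem L750297 : sm ge N56063 = N56063 := ded_44_1 (flp_i L750287) L734910 L750287
theorem L750298 : sm gf N56063 = N55160 := ded_48_1 (flp_i L741401) (flp_f L734902) L750287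
theorem L750300 : sm gg N56063 = N55148 := ded_51_1 (flp_i L741259) (flp_g L734904) L750287
theorem L750302 : sm gj N56063 = N55758 := ded_53_1 (flp_i L747127) (flp_j L734906) L750287
theorem L750304 : sm gh N54637 = N56064 := rfl
theorem L750306 : sm ga N56064 = N55195 := ded_17_1 (flp_h L741782) (flp_a L734915) L750304
theorem L750308 : sm gb N56064 = N55213 := ded_25_1 (flp_h L741998) (flp_b L734917) L750304
theorem L750310 : sm gc N56064 = N54640 := ded_32_1 (flp_h L734959) (flp_c L734919) L750304
theorem L750312 : sm ge N56064 = N54638 := ded_43_1 (flp_h L734927) (flp_e L734921) L750304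
theorem L750314 : sm gf N56064 = N55188 := ded_47_1 (flp_h L741712) (flp_f L734923) L750304
theorem L750316 : sm gg N56064 = N55155 := ded_50_1 (flp_h L741342) (flp_g L734925) L750304
theorem L750318 : sm gi N56064 = N55172 := ded_54_2 (flp_h L741557) (flp_i L724524) (flp_h L717228) L734913 L750304
theorem L750320 : sm gd N54638 = N56065 := rfl
theorem L750322 : sm ga N56065 = N55196 := ded_12_1 (flp_d L741790) (flp_a L734929) L750320
theorem L750324 : sm gb N56065 = N55218 := ded_20_1 (flp_d L742054) (flp_b L734931) L750320
theorem L750326 : sm gf N56065 = N54642 := ded_35_2 (flp_d L734984) (flp_f L734935) L750320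
theorem L750328 : sm gg N56065 = N55159 := ded_36_2 (flp_d L741390) (flp_g L734937) L750320
theorem L750330 : sm gi N56065 = N55177 := ded_39_2 (flp_d L741597) (flp_i L734939) L750320
theorem L750332 : sm gc N56065 = N55637 := ded_27_1 (flp_d L746287) L729728 (flp_d L717283) (flp_c L734933) L750320
theorem L750334 : sm gh N56065 = N56065 := ded_38_2 (flp_d L750320) (flp_h L734927) L717240 L734927 L750320
theorem L750335 : sm gh N54639 = N56066 := rfl
theorem L750337 : sm ga N56066 = N55172 := ded_17_1 (flp_h L741557) (flp_a L734943) L750335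
theorem L750339 : sm gb N56066 = N54667 := ded_25_1 (flp_h L735363) (flp_b L734945) L750335
theorem L750341 : sm gc N56066 = N55188 := ded_32_1 (flp_h L741712) (flp_c L734947) L750335
theorem L750343 : sm ge N56066 = N54643 := ded_43_1 (flp_h L734999) (flp_e L734951) L750335
theorem L750345 : sm gf N56066 = N54640 := ded_47_1 (flp_h L734959) (flp_f L734953) L750335
theorem L750347 : sm gg N56066 = N55138 := ded_50_1 (flp_h L741154) (flp_g L734955) L750335
theorem L750349 : sm gj N56066 = N55723 := ded_52_1 (flp_h L746909) (flp_j L734957) L750335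
theorem L750351 : sm gi N56066 = N55195 := ded_54_2 (flp_h L741782) (flp_i L724853) (flp_h L717257) L734941 L750335
theorem L750353 : sm gd N54640 = N56067 := rfl
theorem L750355 : sm ga N56067 = N55197 := ded_12_1 (flp_d L741797) (flp_a L734961) L750353
theorem L750357 : sm gb N56067 = N54668 := ded_20_1 (flp_d L735375) (flp_b L734963) L750353
theorem L750359 : sm gg N56067 = N55498 := ded_36_2 (flp_d L744987) (flp_g L734967) L750353
theorem L750361 : sm ge N56067 = N55623 := ded_34_2 (flp_d L746154) L729554 (flp_d L717283) (flp_e L734965) L750353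
theorem L750363 : sm gd N54641 = N56068 := rfl
theorem L750365 : sm ga N56068 = N55198 := ded_12_1 (flp_d L741803) (flp_a L734971) L750363
theorem L750367 : sm gb N56068 = N55217 := ded_20_1 (flp_d L742042) (flp_b L734973) L750363
theorem L750369 : sm gg N56068 = N56068 := ded_36_2 (flp_d L750363) L734979 L750363
theorem L750370 : sm gj N56068 = N54642 := ded_37_2 (flp_d L734984) (flp_j L734980) L750363
theorem L750372 : sm gi N56068 = N55180 := ded_39_2 (flp_d L741625) (flp_i L734982) L750363
theorem L750374 : sm gc N56068 = N55640 := ded_27_1 (flp_d L746312) L729793 (flp_d L717310) (flp_c L734975) L750363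
theorem L750376 : sm ge N56068 = N55783 := ded_34_2 (flp_d L747307) L731127 (flp_d L724782) (flp_e L734977) L750363
theorem L750378 : sm gh N56068 = N56068 := ded_38_2 (flp_d L750363) (flp_h L734969) L717293 L734969 L750363
theorem L750379 : sm gd N54643 = N56069 := rfl
theorem L750381 : sm ga N56069 = N55177 := ded_12_1 (flp_d L741597) (flp_a L735001) L750379
theorem L750383 : sm gb N56069 = N54671 := ded_20_1 (flp_d L735413) (flp_b L735003) L750379
theorem L750385 : sm gf N56069 = N54644 := ded_35_2 (flp_d L735015) (flp_f L735007) L750379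
theorem L750387 : sm gg N56069 = N55141 := ded_36_2 (flp_d L741191) (flp_g L735009) L750379
theorem L750389 : sm gj N56069 = N55743 := ded_37_2 (flp_d L747024) (flp_j L735011) L750379
theorem L750391 : sm gi N56069 = N55196 := ded_39_2 (flp_d L741790) (flp_i L735013) L750379
theorem L750393 : sm gc N56069 = N55488 := ded_27_1 (flp_d L744892) L728092 (flp_d L724769) (flp_c L735005) L750379
theorem L750395 : sm gh N56069 = N54645 := ded_38_2 (flp_d L735033) (flp_h L717391) (flp_d L717334) L734999 L750379
theorem L750397 : sm ge N54645 = N56070 := rfl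
theorem L750399 : sm ga N56070 = N55184 := ded_13_1 (flp_e L741666) (flp_a L735035) L750397
theorem L750401 : sm gb N56070 = N54676 := ded_21_1 (flp_e L735486) (flp_b L735037) L750397
theorem L750403 : sm gc N56070 = N55494 := ded_28_1 (flp_e L744948) (flp_c L735046) L750397
theorem L750405 : sm gg N56070 = N55142 := ded_41_2 (flp_e L741201) (flp_g L735041) L750397
theorem L750407 : sm gj N56070 = N55744 := ded_42_2 (flp_e L747032) (flp_j L735043) L750397
theorem L750409 : sm gi N56070 = N56070 := ded_44_2 (flp_e L750397) L735045 L750397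
theorem L750410 : sm gd N56070 = N55741 := ded_34_1 (flp_e L747012) (flp_d L730761) (flp_e L717399) L735033 L750397
theorem L750412 : sm gf N56070 = N54792 := ded_40_2 (flp_e L736952) L719220 (flp_e L717421) (flp_f L735039) L750397
theorem L750414 : sm gi N54646 = N56071 := rfl
theorem L750416 : sm ga N56071 = N54692 := ded_18_1 (flp_i L735681) (flp_a L735050) L750414
theorem L750418 : sm gb N56071 = N55194 := ded_26_1 (flp_i L741773) (flp_b L735052) L750414
theorem L750420 : sm gc N56071 = N55612 := ded_33_1 (flp_i L746092) (flp_c L735054) L750414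
theorem L750422 : sm gd N56071 = N54654 := ded_39_1 (flp_i L735169) (flp_d L735056) L750414
theorem L750424 : sm ge N56071 = N56071 := ded_44_1 (flp_i L750414) L735062 L750414
theorem L750425 : sm gf N56071 = N54647 := ded_48_1 (flp_i L735065) L735048 L750414
theorem L750427 : sm gg N56071 = N55772 := ded_51_1 (flp_i L747235) (flp_g L735063) L750414
theorem L750429 : sm gj N56071 = N55705 := ded_53_1 (flp_i L746798) (flp_j L735058) L750414
theorem L750431 : sm gh N54647 = N56072 := rfl
theorem L750433 : sm ga N56072 = N54693 := ded_17_1 (flp_h L735692) (flp_a L735067) L750431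
theorem L750435 : sm gb N56072 = N55754 := ded_25_1 (flp_h L747097) (flp_b L735069) L750431
theorem L750437 : sm gc N56072 = N55614 := ded_32_1 (flp_h L746102) (flp_c L735071) L750431
theorem L750439 : sm ge N56072 = N54648 := ded_43_1 (flp_h L735079) (flp_e L735075) L750431
theorem L750441 : sm gg N56072 = N55482 := ded_50_1 (flp_h L744816) (flp_g L735077) L750431
theorem L750443 : sm gi N56072 = N55467 := ded_54_2 (flp_h L744661) (flp_i L727755) (flp_h L717433) L735065 L750431
theorem L750445 : sm gh N54649 = N56073 := rfl
theorem L750447 : sm ga N56073 = N54704 := ded_17_1 (flp_h L735830) (flp_a L735096) L750445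
theorem L750449 : sm gc N56073 = N55874 := ded_32_1 (flp_h L747932) (flp_c L735098) L750445
theorem L750451 : sm ge N56073 = N54650 := ded_43_1 (flp_h L735106) (flp_e L735100) L750445
theorem L750453 : sm gf N56073 = N55727 := ded_47_1 (flp_h L746933) (flp_f L735102) L750445
theorem L750455 : sm gj N56073 = N54655 := ded_52_1 (flp_h L735185) (flp_j L735104) L750445
theorem L750457 : sm gi N56073 = N54662 := ded_54_2 (flp_h L735285) (flp_i L717660) (flp_h L717458) L735094 L750445
theorem L750459 : sm gi N54651 = N56074 := rfl
theorem L750461 : sm ga N56074 = N54710 := ded_18_1 (flp_i L735918) (flp_a L735122) L750459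
theorem L750463 : sm gb N56074 = N55237 := ded_26_1 (flp_i L742283) (flp_b L735124) L750459
theorem L750465 : sm gc N56074 = N55575 := ded_33_1 (flp_i L745774) (flp_c L735132) L750459
theorem L750467 : sm gd N56074 = N54652 := ded_39_1 (flp_i L735137) L735120 L750459
theorem L750469 : sm ge N56074 = N56074 := ded_44_1 (flp_i L750459) L735134 L750459
theorem L750470 : sm gf N56074 = N55234 := ded_48_1 (flp_i L742246) (flp_f L735126) L750459
theorem L750472 : sm gg N56074 = N55499 := ded_51_1 (flp_i L744997) (flp_g L735128) L750459
theorem L750474 : sm gj N56074 = N55831 := ded_53_1 (flp_i L747632) (flp_j L735130) L750459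
theorem L750476 : sm gh N54652 = N56075 := rfl
theorem L750478 : sm ga N56075 = N54712 := ded_17_1 (flp_h L735941) (flp_a L735139) L750476
theorem L750480 : sm gb N56075 = N55240 := ded_25_1 (flp_h L742314) (flp_b L735141) L750476
theorem L750482 : sm gc N56075 = N54655 := ded_32_1 (flp_h L735185) (flp_c L735143) L750476
theorem L750484 : sm ge N56075 = N54653 := ded_43_1 (flp_h L735153) (flp_e L735145) L750476
theorem L750486 : sm gf N56075 = N55235 := ded_47_1 (flp_h L742258) (flp_f L735147) L750476
theorem L750488 : sm gg N56075 = N55500 := ded_50_1 (flp_h L745004) (flp_g L735149) L750476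
theorem L750490 : sm gj N56075 = N55874 := ded_52_1 (flp_h L747932) (flp_j L735151) L750476
theorem L750492 : sm gi N56075 = N54663 := ded_54_2 (flp_h L735297) (flp_i L717686) (flp_h L717486) L735137 L750476
theorem L750494 : sm gd N54653 = N56076 := rfl
theorem L750496 : sm ga N56076 = N54713 := ded_12_1 (flp_d L735951) (flp_a L735155) L750494
theorem L750498 : sm gb N56076 = N55250 := ded_20_1 (flp_d L742416) (flp_b L735157) L750494
theorem L750500 : sm gf N56076 = N54656 := ded_35_2 (flp_d L735195) (flp_f L735161) L750494
theorem L750502 : sm gg N56076 = N55501 := ded_36_2 (flp_d L745014) (flp_g L735163) L750494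
theorem L750504 : sm gj N56076 = N55919 := ded_37_2 (flp_d L748228) (flp_j L735165) L750494
theorem L750506 : sm gi N56076 = N54664 := ded_39_2 (flp_d L735313) (flp_i L735167) L750494
theorem L750508 : sm gc N56076 = N55847 := ded_27_1 (flp_d L747748) L731711 (flp_d L717537) (flp_c L735159) L750494
theorem L750510 : sm gh N56076 = N56076 := ded_38_2 (flp_d L750494) (flp_h L735153) L717498 L735153 L750494
theorem L750511 : sm gh N54654 = N56077 := rfl
theorem L750513 : sm ga N56077 = N54716 := ded_17_1 (flp_h L735994) (flp_a L735171) L750511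
theorem L750515 : sm gb N56077 = N55195 := ded_25_1 (flp_h L741782) (flp_b L735173) L750511
theorem L750517 : sm gc N56077 = N55235 := ded_32_1 (flp_h L742258) (flp_c L735175) L750511
theorem L750519 : sm ge N56077 = N54657 := ded_43_1 (flp_h L735212) (flp_e L735177) L750511
theorem L750521 : sm gf N56077 = N54655 := ded_47_1 (flp_h L735185) (flp_f L735179) L750511
theorem L750523 : sm gg N56077 = N55774 := ded_50_1 (flp_h L747258) (flp_g L735181) L750511
theorem L750525 : sm gj N56077 = N55727 := ded_52_1 (flp_h L746933) (flp_j L735183) L750511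
theorem L750527 : sm gi N56077 = N54667 := ded_54_2 (flp_h L735363) (flp_i L717734) (flp_h L717515) L735169 L750511
theorem L750529 : sm gd N54655 = N56078 := rfl
theorem L750531 : sm ga N56078 = N54717 := ded_12_1 (flp_d L736004) (flp_a L735187) L750529
theorem L750533 : sm gg N56078 = N55502 := ded_36_2 (flp_d L745025) (flp_g L735191) L750529
theorem L750535 : sm gi N56078 = N54668 := ded_39_2 (flp_d L735375) (flp_i L735193) L750529
theorem L750537 : sm ge N56078 = N55840 := ded_34_2 (flp_d L747692) L731635 (flp_d L717537) (flp_e L735189) L750529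
theorem L750539 : sm gd N54657 = N56079 := rfl
theorem L750541 : sm ga N56079 = N54728 := ded_12_1 (flp_d L736152) (flp_a L735214) L750539
theorem L750543 : sm gb N56079 = N55196 := ded_20_1 (flp_d L741790) (flp_b L735216) L750539
theorem L750545 : sm gf N56079 = N54658 := ded_35_2 (flp_d L735228) (flp_f L735220) L750539
theorem L750547 : sm gg N56079 = N55785 := ded_36_2 (flp_d L747322) (flp_g L735222) L750539
theorem L750549 : sm gj N56079 = N55746 := ded_37_2 (flp_d L747046) (flp_j L735224) L750539
theorem L750551 : sm gi N56079 = N54671 := ded_39_2 (flp_d L735413) (flp_i L735226) L750539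
theorem L750553 : sm gc N56079 = N55573 := ded_27_1 (flp_d L745753) L729082 (flp_d L725298) (flp_c L735218) L750539
theorem L750555 : sm gh N56079 = N56079 := ded_38_2 (flp_d L750539) (flp_h L735212) L717580 L735212 L750539
theorem L750556 : sm gi N54659 = N56080 := rfl
theorem L750558 : sm ga N56080 = N54733 := ded_18_1 (flp_i L736217) (flp_a L735247) L750556
theorem L750560 : sm gc N56080 = N55375 := ded_33_1 (flp_i L743758) (flp_c L735249) L750556
theorem L750562 : sm gd N56080 = N55082 := ded_39_1 (flp_i L740598) (flp_d L735251) L750556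
theorem L750564 : sm ge N56080 = N56080 := ded_44_1 (flp_i L750556) L735255 L750556
theorem L750565 : sm gf N56080 = N54660 := ded_48_1 (flp_i L735258) L735245 L750556
theorem L750567 : sm gg N56080 = N55079 := ded_51_1 (flp_i L740573) (flp_g L735256) L750556
theorem L750569 : sm gj N56080 = N55508 := ded_53_1 (flp_i L745095) (flp_j L735253) L750556
theorem L750571 : sm gh N54660 = N56081 := rfl
theorem L750573 : sm ga N56081 = N54734 := ded_17_1 (flp_h L736226) (flp_a L735260) L750571
theorem L750575 : sm gc N56081 = N55873 := ded_32_1 (flp_h L747926) (flp_c L735262) L750571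
theorem L750577 : sm ge N56081 = N54661 := ded_43_1 (flp_h L735272) (flp_e L735266) L750571
theorem L750579 : sm gg N56081 = N54662 := ded_50_1 (flp_h L735285) (flp_g L735268) L750571
theorem L750581 : sm gj N56081 = N55509 := ded_52_1 (flp_h L745102) (flp_j L735270) L750571
theorem L750583 : sm gd N54662 = N56082 := rfl
theorem L750585 : sm ga N56082 = N54744 := ded_12_1 (flp_d L736360) (flp_a L735287) L750583
theorem L750587 : sm gf N56082 = N55728 := ded_35_2 (flp_d L746941) (flp_f L735293) L750583
theorem L750589 : sm gj N56082 = N54668 := ded_37_2 (flp_d L735375) (flp_j L735295) L750583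
theorem L750591 : sm ge N56082 = N55885 := ded_34_2 (flp_d L747988) L731989 (flp_d L717684) (flp_e L735291) L750583
theorem L750593 : sm gh N56082 = N55730 := ded_38_2 (flp_d L746953) (flp_h L730654) (flp_d L717666) L735285 L750583
theorem L750595 : sm gd N54663 = N56083 := rfl
theorem L750597 : sm ga N56083 = N54758 := ded_12_1 (flp_d L736558) (flp_a L735299) L750595
theorem L750599 : sm gb N56083 = N55884 := ded_20_1 L747986 (flp_b L735301) L750595
theorem L750601 : sm gf N56083 = N55857 := ded_35_2 (flp_d L747818) (flp_f L735307) L750595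
theorem L750603 : sm gg N56083 = N55525 := ded_36_2 (flp_d L745268) (flp_g L735309) L750595
theorem L750605 : sm gj N56083 = N55875 := ded_37_2 (flp_d L747940) (flp_j L735311) L750595
theorem L750607 : sm gh N56083 = N55858 := ded_38_2 (flp_d L747828) (flp_h L731817) (flp_d L717694) L735297 L750595
theorem L750609 : sm ge N54664 = N56084 := rfl
theorem L750611 : sm ga N56084 = N54759 := ded_13_1 (flp_e L736562) (flp_a L735315) L750609
theorem L750613 : sm gb N56084 = N55900 := ded_21_1 L748094 (flp_b L735317) L750609
theorem L750615 : sm gc N56084 = N55899 := ded_28_1 (flp_e L748084) (flp_c L735325) L750609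
theorem L750617 : sm gg N56084 = N55526 := ded_41_2 (flp_e L745272) (flp_g L735321) L750609
theorem L750619 : sm gj N56084 = N55920 := ded_42_2 (flp_e L748235) (flp_j L735323) L750609
theorem L750621 : sm gh N56084 = N54678 := ded_43_2 (flp_e L735513) (flp_h L735327) L750609
theorem L750623 : sm gf N56084 = N55897 := ded_40_2 (flp_e L748068) L732093 (flp_e L717768) (flp_f L735319) L750609
theorem L750625 : sm gi N54665 = N56085 := rfl
theorem L750627 : sm ga N56085 = N54760 := ded_18_1 (flp_i L736568) (flp_a L735331) L750625
theorem L750629 : sm gb N56085 = N54919 := ded_26_1 (flp_i L738692) (flp_b L735333) L750625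
theorem L750631 : sm gc N56085 = N55336 := ded_33_1 (flp_i L743365) (flp_c L735335) L750625
theorem L750633 : sm gd N56085 = N54917 := ded_39_1 (flp_i L738668) (flp_d L735337) L750625
theorem L750635 : sm ge N56085 = N54669 := ded_44_1 (flp_i L735383) (flp_e L735339) L750625
theorem L750637 : sm gf N56085 = N55128 := ded_48_1 (flp_i L741019) (flp_f L735341) L750625
theorem L750639 : sm gg N56085 = N55063 := ded_51_1 (flp_i L740383) (flp_g L735345) L750625
theorem L750641 : sm gj N56085 = N54666 := ded_53_1 (flp_i L735347) L735329 L750625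
theorem L750643 : sm gh N54666 = N56086 := rfl
theorem L750645 : sm ga N56086 = N54761 := ded_17_1 (flp_h L736578) (flp_a L735349) L750643
theorem L750647 : sm gb N56086 = N55138 := ded_25_1 (flp_h L741154) (flp_b L735351) L750643
theorem L750649 : sm gc N56086 = N55372 := ded_32_1 L743736 (flp_c L735353) L750643
theorem L750651 : sm ge N56086 = N54670 := ded_43_1 (flp_h L735399) (flp_e L735357) L750643
theorem L750653 : sm gf N56086 = N55132 := ded_47_1 (flp_h L741073) (flp_f L735359) L750643
theorem L750655 : sm gg N56086 = N54667 := ded_50_1 (flp_h L735363) (flp_g L735361) L750643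
theorem L750657 : sm gi N56086 = N55774 := ded_54_2 (flp_h L747258) (flp_i L731063) (flp_h L717730) L735347 L750643
theorem L750659 : sm gd N54667 = N56087 := rfl
theorem L750661 : sm ga N56087 = N54762 := ded_12_1 (flp_d L736588) (flp_a L735365) L750659
theorem L750663 : sm gf N56087 = N54668 := ded_35_2 (flp_d L735375) (flp_f L735371) L750659
theorem L750665 : sm gj N56087 = N55728 := ded_37_2 (flp_d L746941) (flp_j L735373) L750659
theorem L750667 : sm gh N56087 = N55718 := ded_38_2 (flp_d L746879) (flp_h L730570) (flp_d L717740) L735363 L750659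
theorem L750669 : sm gc N54668 = N56088 := rfl
theorem L750671 : sm ga N56088 = N54763 := ded_11_1 (flp_c L736594) (flp_a L735377) L750669
theorem L750673 : sm ge N56088 = N55886 := ded_28_2 (flp_c L747992) (flp_e L735381) L750669
theorem L750675 : sm gg N56088 = N55528 := ded_30_2 (flp_c L745290) (flp_g L735379) L750669
theorem L750677 : sm gh N54669 = N56089 := rfl
theorem L750679 : sm ga N56089 = N54777 := ded_17_1 (flp_h L736772) (flp_a L735385) L750677
theorem L750681 : sm gb N56089 = N54936 := ded_25_1 (flp_h L738906) (flp_b L735387) L750677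
theorem L750683 : sm gc N56089 = N55350 := ded_32_1 L743539 (flp_c L735389) L750677
theorem L750685 : sm gf N56089 = N54672 := ded_47_1 (flp_h L735425) (flp_f L735393) L750677
theorem L750687 : sm gg N56089 = N55114 := ded_50_1 (flp_h L740878) (flp_g L735395) L750677
theorem L750689 : sm gj N56089 = N54670 := ded_52_1 (flp_h L735399) (flp_j L735397) L750677
theorem L750691 : sm gi N56089 = N55782 := ded_54_2 (flp_h L747297) (flp_i L731110) (flp_h L717784) L735383 L750677
theorem L750693 : sm gd N54670 = N56090 := rfl
theorem L750695 : sm ga N56090 = N54778 := ded_12_1 (flp_d L736780) (flp_a L735401) L750693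
theorem L750697 : sm gb N56090 = N55141 := ded_20_1 (flp_d L741191) (flp_b L735403) L750693
theorem L750699 : sm gf N56090 = N54673 := ded_35_2 (flp_d L735440) (flp_f L735407) L750693
theorem L750701 : sm gg N56090 = N54671 := ded_36_2 (flp_d L735413) (flp_g L735409) L750693
theorem L750703 : sm gi N56090 = N55785 := ded_39_2 (flp_d L747322) (flp_i L735411) L750693
theorem L750705 : sm gc N56090 = N54752 := ded_27_1 (flp_d L736474) L718699 L726614 (flp_c L735405) L750693
theorem L750707 : sm gh N56090 = N54675 := ded_38_2 (flp_d L735473) (flp_h L717888) (flp_d L717796) L735399 L750693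
theorem L750709 : sm ge N54671 = N56091 := rfl
theorem L750711 : sm ga N56091 = N54780 := ded_13_1 (flp_e L736800) (flp_a L735415) L750709
theorem L750713 : sm gc N56091 = N55610 := ded_28_1 (flp_e L746073) (flp_c L735421) L750709
theorem L750715 : sm gj N56091 = N55747 := ded_42_2 (flp_e L747053) (flp_j L735419) L750709
theorem L750717 : sm gh N56091 = N54676 := ded_43_2 (flp_e L735486) (flp_h L735423) L750709
theorem L750719 : sm gf N56091 = N55413 := ded_40_2 (flp_e L744068) L726950 (flp_e L717822) (flp_f L735417) L750709
theorem L750721 : sm gd N54672 = N56092 := rfl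
theorem L750723 : sm ga N56092 = N54784 := ded_12_1 (flp_d L736853) (flp_a L735427) L750721
theorem L750725 : sm gb N56092 = N55140 := ded_20_1 (flp_d L741176) (flp_b L735429) L750721
theorem L750727 : sm gg N56092 = N56092 := ded_36_2 (flp_d L750721) L735435 L750721
theorem L750728 : sm gj N56092 = N54673 := ded_37_2 (flp_d L735440) (flp_j L735436) L750721
theorem L750730 : sm gi N56092 = N55783 := ded_39_2 (flp_d L747307) (flp_i L735438) L750721
theorem L750732 : sm gc N56092 = N54765 := ded_27_1 (flp_d L736613) L718832 L726756 (flp_c L735431) L750721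
theorem L750734 : sm ge N56092 = N55180 := ded_34_2 (flp_d L741625) L724627 (flp_d L723978) (flp_e L735433) L750721
theorem L750736 : sm gh N56092 = N54677 := ded_38_2 (flp_d L735499) (flp_h L717914) (flp_d L717834) L735425 L750721
theorem L750738 : sm gd N54674 = N56093 := rfl
theorem L750740 : sm ga N56093 = N54790 := ded_12_1 (flp_d L736930) (flp_a L735458) L750738
theorem L750742 : sm gb N56093 = N54937 := ded_20_1 (flp_d L738920) (flp_b L735460) L750738
theorem L750744 : sm gf N56093 = N54677 := ded_35_2 (flp_d L735499) (flp_f L735466) L750738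
theorem L750746 : sm gg N56093 = N55115 := ded_36_2 (flp_d L740887) (flp_g L735468) L750738
theorem L750748 : sm gj N56093 = N54675 := ded_37_2 (flp_d L735473) (flp_j L735470) L750738
theorem L750750 : sm gi N56093 = N56093 := ded_39_2 (flp_d L750738) L735472 L750738
theorem L750751 : sm gc N56093 = N54797 := ded_27_1 (flp_d L737010) L719293 L719531 (flp_c L735462) L750738
theorem L750753 : sm ge N54675 = N56094 := rfl
theorem L750755 : sm ga N56094 = N54792 := ded_13_1 (flp_e L736952) (flp_a L735475) L750753
theorem L750757 : sm gb N56094 = N55142 := ded_21_1 (flp_e L741201) (flp_b L735477) L750753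
theorem L750759 : sm gc N56094 = N54804 := ded_28_1 (flp_e L737101) (flp_c L735484) L750753
theorem L750761 : sm gg N56094 = N54676 := ded_41_2 (flp_e L735486) (flp_g L735481) L750753
theorem L750763 : sm gi N56094 = N56094 := ded_44_2 (flp_e L750753) L735483 L750753
theorem L750764 : sm gd N56094 = N55740 := ded_34_1 (flp_e L747005) (flp_d L730752) (flp_e L717896) L735473 L750753
theorem L750766 : sm gf N56094 = N55184 := ded_40_2 (flp_e L741666) L724680 (flp_e L717939) (flp_f L735479) L750753
theorem L750768 : sm ge N54679 = N56095 := rfl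
theorem L750770 : sm ga N56095 = N55021 := ded_13_1 (flp_e L739949) (flp_a L735540) L750768
theorem L750772 : sm gb N56095 = N54680 := ded_21_1 (flp_e L735544) L735530 L750768
theorem L750774 : sm gc N56095 = N55265 := ded_28_1 (flp_e L742578) (flp_c L735542) L750768
theorem L750776 : sm gg N56095 = N55279 := ded_41_2 L742744 (flp_g L735534) L750768
theorem L750778 : sm gj N56095 = N54686 := ded_42_2 (flp_e L735618) (flp_j L735536) L750768
theorem L750780 : sm gh N56095 = N55273 := ded_43_2 (flp_e L742665) (flp_h L735538) L750768
theorem L750782 : sm gd N56095 = N55282 := ded_56_3 L742780 L725769 (flp_a L731042) L731048 (flp_f L712852) (flp_e L692194) (flp_d L670279) L386579 L265835 L265833 (flp_h L183197) L126152 (flp_e L181642) L181641 (flp_c L263830) (flp_b L376685) (flp_a L652668) L674185 L674195 L652707 L674201 L674211 (flp_b L687649) (flp_a L701459) (flp_h L715148) L715142 L722252 L722260 (flp_c L725139) L725137 (flp_a L725311) (flp_h L725309) L725302 L725308 L725306 L706036 (flp_b L705230) (flp_a L717247) L717257 (flp_f L717105) (flp_e L717091) (flp_d L697594) L676386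 L671372 L671370 (flp_h L390022) L267980 L184398 L184397 (flp_c L552059) L249832 L172178 L172401 (flp_f L250302) (flp_e L363878) L662552 L685113 L706455 L725709 (flp_h L735538) L735533 L750768
theorem L750784 : sm gf N55558 = N56095 := ded_56_1 (flp_e L750768) L735532 L735542 (flp_b L725657) L706435 L710980 L710984 (flp_e L729433) (flp_d L743383) L743381 (flp_b L736208) L736206 L740566 L740571 L723303 L704388 L704383 L705931 L705920 (flp_h L706504) L706499 L725791 L725803 (flp_c L718631) L718629 L706613 (flp_h L706038) (flp_f L706032) (flp_e L684699) L662182 (flp_c L363756) L250197 L250195 L172570 L120596 L83348 (flp_d L83342) (flp_c L83246) L83245 L562779 L489628 L120251 L120257 (flp_d L174400) (flp_c L249972) (flp_b L363177) (flp_a L654719) L676380 L676390 L654755 L676406 L676414 L661450 L363557 (flp_h L363943) L662673 (flp_e L685213) (flp_d L706479) (flp_c L725749) (flp_b L742710) (flp_a L749193) L749206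
theorem L750786 : sm gi N54679 = N56096 := rfl
theorem L750788 : sm ga N56096 = N55022 := ded_18_1 (flp_i L739959) (flp_a L735540) L750786
theorem L750790 : sm gb N56096 = N54681 := ded_26_1 (flp_i L735556) L735530 L750786
theorem L750792 : sm gc N56096 = N55266 := ded_33_1 (flp_i L742592) (flp_c L735542) L750786
theorem L750794 : sm gd N56096 = N56096 := ded_39_1 (flp_i L750786) L735532 L750786
theorem L750795 : sm gf N56096 = N56096 := ded_48_1 (flp_i L750786) L735533 L750786
theorem L750796 : sm gg N56096 = N55626 := ded_51_1 (flp_i L746168) (flp_g L735534) L750786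
theorem L750798 : sm gj N56096 = N54687 := ded_53_1 (flp_i L735628) (flp_j L735536) L750786
theorem L750800 : sm gd N54680 = N56097 := rfl
theorem L750802 : sm ga N56097 = N55565 := ded_12_1 L745674 (flp_a L735546) L750800
theorem L750804 : sm gb N56097 = N55282 := ded_20_1 (flp_d L750782) L750772 L750800
theorem L750806 : sm gg N56097 = N55276 := ded_36_2 L742712 (flp_g L735550) L750800
theorem L750808 : sm gj N56097 = N54688 := ded_37_2 (flp_d L735638) (flp_j L735552) L750800
theorem L750810 : sm gc N56097 = N54699 := ded_27_1 (flp_d L735765) L718091 (flp_d L717978) (flp_c L735548) L750800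
theorem L750812 : sm ge N56097 = N56097 := ded_34_2 (flp_d L750800) (flp_e L735544) L717967 L735544 L750800
theorem L750813 : sm gh N56097 = N55452 := ded_38_2 L744481 L727955 L728424 (flp_h L735554) L750800
theorem L750815 : sm gf N55451 = N56097 := ded_14_0 L750802 L745670 (flp_a L744463)
theorem L750817 : sm gf N54680 = N56098 := rfl
theorem L750819 : sm ga N56098 = N55593 := ded_14_1 L745935 (flp_a L735546) L750817
theorem L750821 : sm gb N56098 = N55558 := ded_22_1 L750784 L750772 L750817
theorem L750823 : sm gc N56098 = N54682 := ded_29_1 (flp_f L735568) (flp_c L735548) L750817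
theorem L750825 : sm gd N56098 = N55451 := ded_35_1 L750815 (flp_d L750800) L750817
theorem L750827 : sm gj N56098 = N54689 := ded_46_2 (flp_f L735649) (flp_j L735552) L750817
theorem L750829 : sm gh N56098 = N55512 := ded_47_2 (flp_f L745126) (flp_h L735554) L750817
theorem L750831 : sm ge N56098 = N56098 := ded_40_1 (flp_f L750817) (flp_e L735544) L717960 L735544 L750817
theorem L750832 : sm gg N56098 = N55562 := ded_45_2 L745636 (flp_g L742696) (flp_f L742704) (flp_g L735550) L750817
theorem L750834 : sm gi N54680 = N56099 := rfl
theorem L750836 : sm ga N56099 = N55595 := ded_18_1 (flp_i L745952) (flp_a L735546) L750834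
theorem L750838 : sm gc N56099 = N54683 := ded_33_1 (flp_i L735581) (flp_c L735548) L750834
theorem L750840 : sm ge N56099 = N54681 := ded_44_1 (flp_i L735556) L735544 L750834
theorem L750842 : sm gg N56099 = N55835 := ded_51_1 (flp_i L747654) (flp_g L735550) L750834
theorem L750844 : sm gj N56099 = N54690 := ded_53_1 (flp_i L735660) (flp_j L735552) L750834
theorem L750846 : sm gh N54681 = N56100 := rfl
theorem L750848 : sm ga N56100 = N55643 := ded_17_1 (flp_h L746334) (flp_a L735558) L750846
theorem L750850 : sm gc N56100 = N54684 := ded_32_1 (flp_h L735593) (flp_c L735560) L750846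
theorem L750852 : sm gf N56100 = N56100 := ded_47_1 (flp_h L750846) L735563 L750846
theorem L750853 : sm gg N56100 = N55846 := ded_50_1 (flp_h L747738) (flp_g L735564) L750846
theorem L750855 : sm gj N56100 = N54691 := ded_52_1 (flp_h L735670) (flp_j L735566) L750846
theorem L750857 : sm gi N56100 = N55539 := ded_54_2 (flp_h L745403) (flp_i L728721) (flp_h L717965) L735556 L750846
theorem L750859 : sm gg N54682 = N56101 := rfl
theorem L750861 : sm ga N56101 = N55039 := ded_15_1 L740152 (flp_a L735570) L750859
theorem L750863 : sm gb N56101 = N55270 := ded_23_1 (flp_g L742641) (flp_b L735572) L750859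
theorem L750865 : sm gc N56101 = N55562 := ded_30_1 (flp_g L750832) L750823 L750859
theorem L750867 : sm gd N56101 = N54702 := ded_36_1 (flp_g L735802) (flp_d L735574) L750859
theorem L750869 : sm ge N56101 = N56101 := ded_41_1 (flp_g L750859) L735580 L750859
theorem L750870 : sm gh N56101 = N54965 := ded_50_2 L739289 (flp_h L735578) L750859
theorem L750872 : sm gf N56101 = N55299 := ded_45_1 L742968 L726034 (flp_g L717972) L735568 L750859
theorem L750874 : sm gj N56101 = N55291 := ded_49_2 (flp_g L742860) L725820 (flp_g L718030) (flp_j L735576) L750859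
theorem L750876 : sm gi N54682 = N56102 := rfl
theorem L750878 : sm ga N56102 = N55705 := ded_18_1 (flp_i L746798) (flp_a L735570) L750876
theorem L750880 : sm gb N56102 = N55271 := ded_26_1 (flp_i L742650) (flp_b L735572) L750876
theorem L750882 : sm gd N56102 = N54703 := ded_39_1 (flp_i L735816) (flp_d L735574) L750876
theorem L750884 : sm ge N56102 = N56102 := ded_44_1 (flp_i L750876) L735580 L750876
theorem L750885 : sm gf N56102 = N54683 := ded_48_1 (flp_i L735581) L735568 L750876
theorem L750887 : sm gj N56102 = N54692 := ded_53_1 (flp_i L735681) (flp_j L735576) L750876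
theorem L750889 : sm gh N54683 = N56103 := rfl
theorem L750891 : sm gb N56103 = N55272 := ded_25_1 (flp_h L742659) (flp_b L735583) L750889
theorem L750893 : sm ge N56103 = N54684 := ded_43_1 (flp_h L735593) (flp_e L735587) L750889
theorem L750895 : sm gg N56103 = N55839 := ded_50_1 (flp_h L747684) (flp_g L735589) L750889
theorem L750897 : sm gj N56103 = N54693 := ded_52_1 (flp_h L735692) (flp_j L735591) L750889
theorem L750899 : sm gi N56103 = N55862 := ded_54_2 (flp_h L747860) (flp_i L731839) (flp_h L717976) L735581 L750889
theorem L750901 : sm ge N54685 = N56104 := rfl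
theorem L750903 : sm ga N56104 = N54686 := ded_13_1 (flp_e L735618) L735604 L750901
theorem L750905 : sm gb N56104 = N55016 := ded_21_1 (flp_e L739891) (flp_b L735616) L750901
theorem L750907 : sm gc N56104 = N55273 := ded_28_1 (flp_e L742665) (flp_c L735606) L750901
theorem L750909 : sm gg N56104 = N55305 := ded_41_2 L743024 (flp_g L735610) L750901
theorem L750911 : sm gj N56104 = N55021 := ded_42_2 (flp_e L739949) (flp_j L735612) L750901
theorem L750913 : sm gh N56104 = N55265 := ded_43_2 (flp_e L742578) (flp_h L735614) L750901
theorem L750915 : sm gd N56104 = N55374 := ded_56_3 (flp_c L748996) L748994 L741210 (flp_h L738451) L738444 (flp_e L724786) (flp_d L705595) L684390 L684388 L662145 (flp_h L363998) L250353 (flp_e L360957) (flp_d L659928) L659927 L659925 (flp_a L652737) L674289 L674299 L652771 L652825 L652835 L652829 (flp_a L658209) L658219 L658213 L661061 (flp_d L683529) L683522 L669719 L386478 L266015 (flp_f L266098) L387316 (flp_d L669003) (flp_c L691083) (flp_b L711955) (flp_a L721443) (flp_h L738483) L738485 (flp_e L721772) (flp_d L702605) L681628 L665530 (flp_a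 L665518) L641037 (flp_f L641082) L373375 L373374 (flp_c L653169) L653167 L355343 L355549 (flp_f L653590) L653588 (flp_d L671009) (flp_c L688870) (flp_b L709899) (flp_a L725666) (flp_h L735614) L735609 L750901
theorem L750917 : sm gf N55829 = N56104 := ded_56_1 (flp_e L750901) L735608 L735606 L725718 L709838 L710941 L710943 (flp_e L729336) (flp_d L745674) L745667 (flp_b L742145) L742143 L743552 L743559 L726473 L707692 L686723 L686721 L670420 L387678 L268945 (flp_e L646426) L543391 L268555 (flp_b L268551) L184748 (flp_h L183226) L183224 L126197 (flp_d L129325) (flp_c L129320) L89231 (flp_a L129041) L129045 (flp_f L187333) L640942 (flp_d L245989) (flp_c L245831) L245829 (flp_a L250036) (flp_h L250034) (flp_f L250022) (flp_e L360637) (flp_d L659522) L659521 (flp_b L680629) L680627 L681056 L681064 L665469 (flp_d L687489) L687499 (flp_b L669047) (flp_a L653745) (flp_h L675126) L696179 (flp_e L715631) L715625 (flp_c L728518) (flp_b L733846) L733844 L747618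
theorem L750919 : sm gi N54685 = N56105 := rfl
theorem L750921 : sm ga N56105 = N54687 := ded_18_1 (flp_i L735628) L735604 L750919
theorem L750923 : sm gb N56105 = N55017 := ded_26_1 (flp_i L739903) (flp_b L735616) L750919
theorem L750925 : sm gc N56105 = N55274 := ded_33_1 (flp_i L742677) (flp_c L735606) L750919
theorem L750927 : sm gd N56105 = N56105 := ded_39_1 (flp_i L750919) L735608 L750919
theorem L750928 : sm gf N56105 = N56105 := ded_48_1 (flp_i L750919) L735609 L750919
theorem L750929 : sm gg N56105 = N55551 := ded_51_1 (flp_i L745517) (flp_g L735610) L750919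
theorem L750931 : sm gj N56105 = N55022 := ded_53_1 (flp_i L739959) (flp_j L735612) L750919
theorem L750933 : sm gi N54686 = N56106 := rfl
theorem L750935 : sm gb N56106 = N54690 := ded_26_1 (flp_i L735660) (flp_b L735620) L750933
theorem L750937 : sm gc N56106 = N55277 := ded_33_1 (flp_i L742717) (flp_c L735622) L750933
theorem L750939 : sm ge N56106 = N54687 := ded_44_1 (flp_i L735628) L735618 L750933
theorem L750941 : sm gg N56106 = N55552 := ded_51_1 (flp_i L745530) (flp_g L735624) L750933
theorem L750943 : sm gh N54687 = N56107 := rfl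
theorem L750945 : sm gb N56107 = N54691 := ded_25_1 (flp_h L735670) (flp_b L735630) L750943
theorem L750947 : sm gc N56107 = N55278 := ded_32_1 (flp_h L742725) (flp_c L735632) L750943
theorem L750949 : sm gf N56107 = N56107 := ded_47_1 (flp_h L750943) L735635 L750943
theorem L750950 : sm gg N56107 = N55553 := ded_50_1 (flp_h L745542) (flp_g L735636) L750943
theorem L750952 : sm gi N56107 = N55542 := ded_54_2 (flp_h L745435) (flp_i L728771) (flp_h L717997) L735628 L750943
theorem L750954 : sm gi N54688 = N56108 := rfl
theorem L750956 : sm ga N56108 = N55575 := ded_18_1 (flp_i L745774) (flp_a L735640) L750954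
theorem L750958 : sm gc N56108 = N54710 := ded_33_1 (flp_i L735918) (flp_c L735644) L750954
theorem L750960 : sm gd N56108 = N54690 := ded_39_1 (flp_i L735660) L735638 L750954
theorem L750962 : sm ge N56108 = N56108 := ded_44_1 (flp_i L750954) L735646 L750954
theorem L750963 : sm gg N56108 = N55554 := ded_51_1 (flp_i L745554) (flp_g L735642) L750954
theorem L750965 : sm gi N54689 = N56109 := rfl
theorem L750967 : sm ga N56109 = N55612 := ded_18_1 (flp_i L746092) (flp_a L735651) L750965
theorem L750969 : sm gc N56109 = N54692 := ded_33_1 (flp_i L735681) (flp_c L735653) L750965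
theorem L750971 : sm ge N56109 = N56109 := ded_44_1 (flp_i L750965) L735657 L750965
theorem L750972 : sm gf N56109 = N54690 := ded_48_1 (flp_i L735660) L735649 L750965
theorem L750974 : sm gg N56109 = N55815 := ded_51_1 (flp_i L747515) (flp_g L735658) L750965
theorem L750976 : sm gh N54690 = N56110 := rfl
theorem L750978 : sm ga N56110 = N55614 := ded_17_1 (flp_h L746102) (flp_a L735662) L750976
theorem L750980 : sm gc N56110 = N54693 := ded_32_1 (flp_h L735692) (flp_c L735664) L750976
theorem L750982 : sm ge N56110 = N54691 := ded_43_1 (flp_h L735670) (flp_e L735666) L750976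
theorem L750984 : sm gg N56110 = N55555 := ded_50_1 (flp_h L745565) (flp_g L735668) L750976
theorem L750986 : sm gi N56110 = N55523 := ded_54_2 (flp_h L745248) (flp_i L728525) (flp_h L718009) L735660 L750976
theorem L750988 : sm gd N54691 = N56111 := rfl
theorem L750990 : sm ga N56111 = N55650 := ded_12_1 (flp_d L746383) (flp_a L735672) L750988
theorem L750992 : sm gf N56111 = N56111 := ded_35_2 (flp_d L750988) L735676 L750988
theorem L750993 : sm gg N56111 = N55556 := ded_36_2 (flp_d L745577) (flp_g L735677) L750988
theorem L750995 : sm gi N56111 = N55545 := ded_39_2 (flp_d L745457) (flp_i L735679) L750988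
theorem L750997 : sm gh N56111 = N56111 := ded_38_2 (flp_d L750988) (flp_h L735670) L718017 L735670 L750988
theorem L750998 : sm gh N54692 = N56112 := rfl
theorem L751000 : sm gb N56112 = N55287 := ded_25_1 (flp_h L742820) (flp_b L735683) L750998
theorem L751002 : sm ge N56112 = N56112 := ded_43_1 (flp_h L750998) L735687 L750998
theorem L751003 : sm gf N56112 = N54693 := ded_47_1 (flp_h L735692) (flp_f L735688) L750998
theorem L751005 : sm gg N56112 = N55817 := ded_50_1 (flp_h L747532) (flp_g L735690) L750998
theorem L751007 : sm gi N56112 = N55852 := ded_54_2 (flp_h L747783) (flp_i L731773) (flp_h L718027) L735681 L750998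
theorem L751009 : sm gd N54693 = N56113 := rfl
theorem L751011 : sm gb N56113 = N55288 := ded_20_1 (flp_d L742825) (flp_b L735694) L751009
theorem L751013 : sm gg N56113 = N55557 := ded_36_2 (flp_d L745586) (flp_g L735698) L751009
theorem L751015 : sm gi N56113 = N55863 := ded_39_2 (flp_d L747868) (flp_i L735700) L751009
theorem L751017 : sm gh N56113 = N54717 := ded_38_2 (flp_d L736004) (flp_h L718232) (flp_d L718036) L735692 L751009
theorem L751019 : sm gg N54694 = N56114 := rfl
theorem L751021 : sm ga N56114 = N55078 := ded_15_1 (flp_g L749005) L748992 L751019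
theorem L751023 : sm gb N56114 = N55291 := ded_23_1 (flp_g L742860) (flp_b L735704) L751019
theorem L751025 : sm gc N56114 = N55236 := ded_30_1 (flp_g L749655) L749650 L751019
theorem L751027 : sm gd N56114 = N55299 := ded_36_1 L742968 (flp_d L735706) L751019
theorem L751029 : sm ge N56114 = N56114 := ded_41_1 (flp_g L751019) L735712 L751019
theorem L751030 : sm gh N56114 = N54732 := ded_50_2 (flp_g L736204) (flp_h L735710) L751019
theorem L751032 : sm gf N56114 = N54702 := ded_45_1 (flp_g L735802) (flp_f L718110) (flp_g L718055) L735702 L751019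
theorem L751034 : sm gj N56114 = N55270 := ded_49_2 (flp_g L742641) L725693 L725767 (flp_j L735708) L751019
theorem L751036 : sm gi N54694 = N56115 := rfl
theorem L751038 : sm gb N56115 = N55292 := ded_26_1 (flp_i L742871) (flp_b L735704) L751036
theorem L751040 : sm gd N56115 = N55312 := ded_39_1 (flp_i L743102) (flp_d L735706) L751036
theorem L751042 : sm ge N56115 = N56115 := ded_44_1 (flp_i L751036) L735712 L751036
theorem L751043 : sm gf N56115 = N54695 := ded_48_1 (flp_i L735713) L735702 L751036
theorem L751045 : sm gj N56115 = N55286 := ded_53_1 (flp_i L742809) (flp_j L735708) L751036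
theorem L751047 : sm gh N54695 = N56116 := rfl
theorem L751049 : sm gb N56116 = N55293 := ded_25_1 (flp_h L742878) (flp_b L735715) L751047
theorem L751051 : sm ge N56116 = N54696 := ded_43_1 (flp_h L735725) (flp_e L735719) L751047
theorem L751053 : sm gg N56116 = N54704 := ded_50_1 (flp_h L735830) (flp_g L735721) L751047
theorem L751055 : sm gj N56116 = N55561 := ded_52_1 (flp_h L745622) (flp_j L735723) L751047
theorem L751057 : sm gi N56116 = N54734 := ded_54_2 (flp_h L736226) (flp_i L718506) (flp_h L718059) L735713 L751047
theorem L751059 : sm gi N54697 = N56117 := rfl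
theorem L751061 : sm ga N56117 = N55348 := ded_18_1 (flp_i L743507) (flp_a L735738) L751059
theorem L751063 : sm gb N56117 = N54700 := ded_26_1 (flp_i L735778) (flp_b L735740) L751059
theorem L751065 : sm gc N56117 = N55294 := ded_33_1 (flp_i L742888) (flp_c L735742) L751059
theorem L751067 : sm gd N56117 = N55815 := ded_39_1 (flp_i L747515) (flp_d L735750) L751059
theorem L751069 : sm ge N56117 = N54698 := ded_44_1 (flp_i L735752) L735736 L751059
theorem L751071 : sm gf N56117 = N55344 := ded_48_1 (flp_i L743446) (flp_f L735748) L751059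
theorem L751073 : sm gj N56117 = N54706 := ded_53_1 (flp_i L735857) (flp_j L735744) L751059
theorem L751075 : sm gh N54698 = N56118 := rfl
theorem L751077 : sm ga N56118 = N55391 := ded_17_1 (flp_h L743869) (flp_a L735754) L751075
theorem L751079 : sm gb N56118 = N54701 := ded_25_1 (flp_h L735790) (flp_b L735756) L751075
theorem L751081 : sm gc N56118 = N55295 := ded_32_1 (flp_h L742900) (flp_c L735758) L751075
theorem L751083 : sm gf N56118 = N54718 := ded_47_1 (flp_h L736012) (flp_f L735761) L751075
theorem L751085 : sm gj N56118 = N54707 := ded_52_1 (flp_h L735871) (flp_j L735763) L751075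
theorem L751087 : sm gi N56118 = N54738 := ded_54_2 (flp_h L736284) (flp_i L718553) (flp_h L718081) L735752 L751075
theorem L751089 : sm gi N54699 = N56119 := rfl
theorem L751091 : sm ga N56119 = N55831 := ded_18_1 (flp_i L747632) (flp_a L735767) L751089
theorem L751093 : sm gb N56119 = N55815 := ded_26_1 (flp_i L747515) (flp_b L735769) L751089
theorem L751095 : sm gd N56119 = N54700 := ded_39_1 (flp_i L735778) L735765 L751089
theorem L751097 : sm ge N56119 = N56119 := ded_44_1 (flp_i L751089) L735775 L751089
theorem L751098 : sm gf N56119 = N55450 := ded_48_1 L744457 (flp_f L735771) L751089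
theorem L751100 : sm gj N56119 = N54710 := ded_53_1 (flp_i L735918) (flp_j L735773) L751089
theorem L751102 : sm gh N54700 = N56120 := rfl
theorem L751104 : sm ga N56120 = N55874 := ded_17_1 (flp_h L747932) (flp_a L735780) L751102
theorem L751106 : sm gc N56120 = N54704 := ded_32_1 (flp_h L735830) (flp_c L735782) L751102
theorem L751108 : sm ge N56120 = N54701 := ded_43_1 (flp_h L735790) (flp_e L735784) L751102
theorem L751110 : sm gf N56120 = N55801 := ded_47_1 (flp_h L747429) (flp_f L735786) L751102
theorem L751112 : sm gj N56120 = N54712 := ded_52_1 (flp_h L735941) (flp_j L735788) L751102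
theorem L751114 : sm gi N56120 = N54739 := ded_54_2 (flp_h L736294) (flp_i L718565) (flp_h L718095) L735778 L751102
theorem L751116 : sm gd N54701 = N56121 := rfl
theorem L751118 : sm ga N56121 = N55919 := ded_12_1 (flp_d L748228) (flp_a L735792) L751116
theorem L751120 : sm gf N56121 = N54719 := ded_35_2 (flp_d L736027) (flp_f L735796) L751116
theorem L751122 : sm gj N56121 = N54713 := ded_37_2 (flp_d L735951) (flp_j L735798) L751116
theorem L751124 : sm gi N56121 = N54740 := ded_39_2 (flp_d L736306) (flp_i L735800) L751116
theorem L751126 : sm gh N56121 = N56121 := ded_38_2 (flp_d L751116) (flp_h L735790) L718105 L735790 L751116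
theorem L751127 : sm gi N54702 = N56122 := rfl
theorem L751129 : sm ga N56122 = N55080 := ded_18_1 (flp_i L740582) (flp_a L735804) L751127
theorem L751131 : sm gb N56122 = N55300 := ded_26_1 (flp_i L742970) (flp_b L735806) L751127
theorem L751133 : sm gc N56122 = N55238 := ded_33_1 (flp_i L742292) (flp_c L735808) L751127
theorem L751135 : sm ge N56122 = N54720 := ded_44_1 (flp_i L736037) (flp_e L735810) L751127
theorem L751137 : sm gg N56122 = N54703 := ded_51_1 (flp_i L735816) L735802 L751127
theorem L751139 : sm gj N56122 = N55824 := ded_53_1 (flp_i L747581) L735814 L751127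
theorem L751141 : sm gh N54703 = N56123 := rfl
theorem L751143 : sm ga N56123 = N55727 := ded_17_1 (flp_h L746933) (flp_a L735818) L751141
theorem L751145 : sm gb N56123 = N55301 := ded_25_1 (flp_h L742976) (flp_b L735820) L751141
theorem L751147 : sm gc N56123 = N55801 := ded_32_1 (flp_h L747429) (flp_c L735822) L751141
theorem L751149 : sm ge N56123 = N54721 := ded_43_1 (flp_h L736051) (flp_e L735824) L751141
theorem L751151 : sm gf N56123 = N54704 := ded_47_1 (flp_h L735830) (flp_f L735826) L751141
theorem L751153 : sm gj N56123 = N54716 := ded_52_1 (flp_h L735994) (flp_j L735828) L751141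
theorem L751155 : sm gi N56123 = N54743 := ded_54_2 (flp_h L736346) (flp_i L718601) (flp_h L718120) L735816 L751141
theorem L751157 : sm gd N54704 = N56124 := rfl
theorem L751159 : sm gb N56124 = N55302 := ded_20_1 (flp_d L742986) (flp_b L735832) L751157
theorem L751161 : sm gj N56124 = N54717 := ded_37_2 (flp_d L736004) (flp_j L735836) L751157
theorem L751163 : sm gi N56124 = N54744 := ded_39_2 (flp_d L736360) (flp_i L735838) L751157
theorem L751165 : sm gi N54705 = N56125 := rfl
theorem L751167 : sm ga N56125 = N55367 := ded_18_1 (flp_i L743685) (flp_a L735842) L751165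
theorem L751169 : sm gb N56125 = N54710 := ded_26_1 (flp_i L735918) (flp_b L735844) L751165
theorem L751171 : sm gc N56125 = N55292 := ded_33_1 (flp_i L742871) L735855 L751165
theorem L751173 : sm gd N56125 = N54706 := ded_39_1 (flp_i L735857) L735840 L751165
theorem L751175 : sm ge N56125 = N56125 := ded_44_1 (flp_i L751165) L735852 L751165
theorem L751176 : sm gf N56125 = N55289 := ded_48_1 (flp_i L742831) (flp_f L735846) L751165
theorem L751178 : sm gg N56125 = N55570 := ded_51_1 (flp_i L745720) (flp_g L735848) L751165
theorem L751180 : sm gj N56125 = N55815 := ded_53_1 (flp_i L747515) (flp_j L735850) L751165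
theorem L751182 : sm gh N54706 = N56126 := rfl
theorem L751184 : sm ga N56126 = N55370 := ded_17_1 (flp_h L743716) (flp_a L735859) L751182
theorem L751186 : sm gb N56126 = N54712 := ded_25_1 (flp_h L735941) (flp_b L735861) L751182
theorem L751188 : sm gc N56126 = N55304 := ded_32_1 (flp_h L743006) (flp_c L735863) L751182
theorem L751190 : sm ge N56126 = N54707 := ded_43_1 (flp_h L735871) (flp_e L735865) L751182
theorem L751192 : sm gf N56126 = N55365 := ded_47_1 (flp_h L743666) (flp_f L735867) L751182
theorem L751194 : sm gg N56126 = N55572 := ded_50_1 (flp_h L745743) (flp_g L735869) L751182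
theorem L751196 : sm gi N56126 = N54751 := ded_54_2 (flp_h L736464) (flp_i L718685) (flp_h L718152) L735857 L751182
theorem L751198 : sm gd N54707 = N56127 := rfl
theorem L751200 : sm ga N56127 = N55405 := ded_12_1 (flp_d L744005) (flp_a L735873) L751198
theorem L751202 : sm gb N56127 = N54713 := ded_20_1 (flp_d L735951) (flp_b L735875) L751198
theorem L751204 : sm gf N56127 = N54723 := ded_35_2 (flp_d L736077) (flp_f L735879) L751198
theorem L751206 : sm gg N56127 = N55573 := ded_36_2 (flp_d L745753) (flp_g L735881) L751198
theorem L751208 : sm gi N56127 = N54752 := ded_39_2 (flp_d L736474) (flp_i L735883) L751198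
theorem L751210 : sm gc N56127 = N55785 := ded_27_1 (flp_d L747322) L731159 (flp_d L725956) (flp_c L735877) L751198
theorem L751212 : sm gh N56127 = N56127 := ded_38_2 (flp_d L751198) (flp_h L735871) L718164 L735871 L751198
theorem L751213 : sm gi N54708 = N56128 := rfl
theorem L751215 : sm ga N56128 = N55234 := ded_18_1 (flp_i L742246) (flp_a L735887) L751213
theorem L751217 : sm gb N56128 = N55289 := ded_26_1 (flp_i L742831) (flp_b L735889) L751213
theorem L751219 : sm gd N56128 = N54711 := ded_39_1 (flp_i L735925) (flp_d L735891) L751213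
theorem L751221 : sm ge N56128 = N55259 := ded_44_1 (flp_i L742497) L735895 L751213
theorem L751223 : sm gf N56128 = N54710 := ded_48_1 (flp_i L735918) L735885 L751213
theorem L751225 : sm gg N56128 = N55294 := ded_51_1 (flp_i L742888) L735897 L751213
theorem L751227 : sm gj N56128 = N55450 := ded_53_1 L744457 (flp_j L735893) L751213
theorem L751229 : sm gi N54709 = N56129 := rfl
theorem L751231 : sm ga N56129 = N55554 := ded_18_1 (flp_i L745554) (flp_a L735903) L751229
theorem L751233 : sm gb N56129 = N55338 := ded_26_1 (flp_i L743390) (flp_b L735905) L751229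
theorem L751235 : sm gc N56129 = N55499 := ded_33_1 (flp_i L744997) (flp_c L735907) L751229
theorem L751237 : sm gd N56129 = N54753 := ded_39_1 (flp_i L736484) (flp_d L735916) L751229
theorem L751239 : sm ge N56129 = N56129 := ded_44_1 (flp_i L751229) L735909 L751229
theorem L751240 : sm gf N56129 = N55334 := ded_48_1 (flp_i L743338) (flp_f L735910) L751229
theorem L751242 : sm gg N56129 = N55575 := ded_51_1 (flp_i L745774) (flp_g L735912) L751229
theorem L751244 : sm gj N56129 = N55438 := ded_53_1 L744313 (flp_j L735914) L751229
theorem L751246 : sm gh N54710 = N56130 := rfl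
theorem L751248 : sm ge N56130 = N56130 := ded_43_1 (flp_h L751246) L735922 L751246
theorem L751249 : sm gg N56130 = N55576 := ded_50_1 (flp_h L745779) (flp_g L735923) L751246
theorem L751251 : sm gh N54711 = N56131 := rfl
theorem L751253 : sm ga N56131 = N55235 := ded_17_1 (flp_h L742258) (flp_a L735927) L751251
theorem L751255 : sm gb N56131 = N55365 := ded_25_1 (flp_h L743666) (flp_b L735929) L751251
theorem L751257 : sm gc N56131 = N54716 := ded_32_1 (flp_h L735994) (flp_c L735931) L751251
theorem L751259 : sm ge N56131 = N54724 := ded_43_1 (flp_h L736092) (flp_e L735933) L751251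
theorem L751261 : sm gf N56131 = N54712 := ded_47_1 (flp_h L735941) (flp_f L735935) L751251
theorem L751263 : sm gg N56131 = N55798 := ded_50_1 (flp_h L747411) (flp_g L735937) L751251
theorem L751265 : sm gj N56131 = N55801 := ded_52_1 (flp_h L747429) (flp_j L735939) L751251
theorem L751267 : sm gi N56131 = N54757 := ded_54_2 (flp_h L736546) (flp_i L718751) (flp_h L718184) L735925 L751251
theorem L751269 : sm gd N54712 = N56132 := rfl
theorem L751271 : sm gg N56132 = N55578 := ded_36_2 (flp_d L745794) (flp_g L735947) L751269
theorem L751273 : sm gi N56132 = N54758 := ded_39_2 (flp_d L736558) (flp_i L735949) L751269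
theorem L751275 : sm ge N54713 = N56133 := rfl
theorem L751277 : sm gg N56133 = N55579 := ded_41_2 (flp_e L745798) (flp_g L735955) L751275
theorem L751279 : sm gh N56133 = N56133 := ded_43_2 (flp_e L751275) L735959 L751275
theorem L751280 : sm gi N56133 = N54759 := ded_44_2 (flp_e L736562) (flp_i L735957) L751275
theorem L751282 : sm gi N54714 = N56134 := rfl
theorem L751284 : sm ga N56134 = N55763 := ded_18_1 (flp_i L747162) (flp_a L735962) L751282
theorem L751286 : sm gb N56134 = N55312 := ded_26_1 (flp_i L743102) (flp_b L735964) L751282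
theorem L751288 : sm gc N56134 = N55303 := ded_33_1 (flp_i L742992) (flp_c L735966) L751282
theorem L751290 : sm gd N56134 = N55292 := ded_39_1 (flp_i L742871) (flp_d L735968) L751282
theorem L751292 : sm ge N56134 = N54726 := ded_44_1 (flp_i L736123) (flp_e L735970) L751282
theorem L751294 : sm gf N56134 = N55263 := ded_48_1 (flp_i L742550) (flp_f L735972) L751282
theorem L751296 : sm gg N56134 = N55824 := ded_51_1 (flp_i L747581) (flp_g L735976) L751282
theorem L751298 : sm gj N56134 = N54715 := ded_53_1 (flp_i L735978) L735960 L751282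
theorem L751300 : sm gh N54715 = N56135 := rfl
theorem L751302 : sm ga N56135 = N55774 := ded_17_1 (flp_h L747258) (flp_a L735980) L751300
theorem L751304 : sm gb N56135 = N55313 := ded_25_1 (flp_h L743110) (flp_b L735982) L751300
theorem L751306 : sm gc N56135 = N55798 := ded_32_1 (flp_h L747411) (flp_c L735984) L751300
theorem L751308 : sm ge N56135 = N54727 := ded_43_1 (flp_h L736138) (flp_e L735988) L751300
theorem L751310 : sm gf N56135 = N55580 := ded_47_1 (flp_h L745803) (flp_f L735990) L751300
theorem L751312 : sm gg N56135 = N54716 := ded_50_1 (flp_h L735994) (flp_g L735992) L751300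
theorem L751314 : sm gi N56135 = N54761 := ded_54_2 (flp_h L736578) (flp_i L718789) (flp_h L718220) L735978 L751300
theorem L751316 : sm gd N54716 = N56136 := rfl
theorem L751318 : sm gb N56136 = N55314 := ded_20_1 (flp_d L743120) (flp_b L735996) L751316
theorem L751320 : sm gf N56136 = N54717 := ded_35_2 (flp_d L736004) (flp_f L736000) L751316
theorem L751322 : sm gi N56136 = N54762 := ded_39_2 (flp_d L736588) (flp_i L736002) L751316
theorem L751324 : sm gc N54717 = N56137 := rfl
theorem L751326 : sm gg N56137 = N55582 := ded_30_2 (flp_c L745827) (flp_g L736008) L751324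
theorem L751328 : sm gi N56137 = N54763 := ded_33_2 (flp_c L736594) (flp_i L736010) L751324
theorem L751330 : sm gd N54718 = N56138 := rfl
theorem L751332 : sm ga N56138 = N55392 := ded_12_1 (flp_d L743879) (flp_a L736014) L751330
theorem L751334 : sm gb N56138 = N54719 := ded_20_1 (flp_d L736027) (flp_b L736016) L751330
theorem L751336 : sm gg N56138 = N56138 := ded_36_2 (flp_d L751330) L736022 L751330
theorem L751337 : sm gj N56138 = N54723 := ded_37_2 (flp_d L736077) (flp_j L736023) L751330
theorem L751339 : sm gi N56138 = N54765 := ded_39_2 (flp_d L736613) (flp_i L736025) L751330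
theorem L751341 : sm gc N56138 = N55783 := ded_27_1 (flp_d L747307) L731125 (flp_d L726069) (flp_c L736018) L751330
theorem L751343 : sm ge N56138 = N55640 := ded_34_2 (flp_d L746312) (flp_e L736828) L736833 (flp_e L736020) L751330
theorem L751345 : sm gh N56138 = N56138 := ded_38_2 (flp_d L751330) (flp_h L736012) L718250 L736012 L751330
theorem L751346 : sm ge N54719 = N56139 := rfl
theorem L751348 : sm ga N56139 = N55843 := ded_13_1 L747717 (flp_a L736029) L751346
theorem L751350 : sm gb N56139 = N55640 := ded_21_1 (flp_e L751343) L751334 L751346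
theorem L751352 : sm gg N56139 = N56139 := ded_41_2 (flp_e L751346) L736031 L751346
theorem L751353 : sm gj N56139 = N54725 := ded_42_2 (flp_e L736110) (flp_j L736032) L751346
theorem L751355 : sm gh N56139 = N56139 := ded_43_2 (flp_e L751346) L736036 L751346
theorem L751356 : sm gi N56139 = N54766 := ded_44_2 (flp_e L736622) (flp_i L736034) L751346
theorem L751358 : sm gd N56139 = N55639 := ded_34_1 L746305 L731658 (flp_e L718262) L736027 L751346
theorem L751360 : sm gh N54720 = N56140 := rfl
theorem L751362 : sm ga N56140 = N55123 := ded_17_1 (flp_h L740979) (flp_a L736039) L751360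
theorem L751364 : sm gb N56140 = N55320 := ded_25_1 (flp_h L743186) (flp_b L736041) L751360
theorem L751366 : sm gc N56140 = N55262 := ded_32_1 (flp_h L742535) (flp_c L736043) L751360
theorem L751368 : sm gf N56140 = N56140 := ded_47_1 (flp_h L751360) L736046 L751360
theorem L751369 : sm gg N56140 = N54721 := ded_50_1 (flp_h L736051) (flp_g L736047) L751360
theorem L751371 : sm gj N56140 = N55914 := ded_52_1 (flp_h L748190) (flp_j L736049) L751360
theorem L751373 : sm gi N56140 = N54768 := ded_54_2 (flp_h L736648) (flp_i L718863) (flp_h L718278) L736037 L751360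
theorem L751375 : sm gd N54721 = N56141 := rfl
theorem L751377 : sm ga N56141 = N55746 := ded_12_1 (flp_d L747046) (flp_a L736053) L751375
theorem L751379 : sm gb N56141 = N55321 := ded_20_1 (flp_d L743193) (flp_b L736055) L751375
theorem L751381 : sm gf N56141 = N54722 := ded_35_2 (flp_d L736065) (flp_f L736059) L751375
theorem L751383 : sm gj N56141 = N54728 := ded_37_2 (flp_d L736152) (flp_j L736061) L751375
theorem L751385 : sm gi N56141 = N54769 := ded_39_2 (flp_d L736659) (flp_i L736063) L751375
theorem L751387 : sm gh N56141 = N56141 := ded_38_2 (flp_d L751375) (flp_h L736051) L718291 L736051 L751375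
theorem L751388 : sm gc N54722 = N56142 := rfl
theorem L751390 : sm ga N56142 = N55583 := ded_11_1 L745840 (flp_a L736067) L751388
theorem L751392 : sm gg N56142 = N56142 := ded_30_2 (flp_c L751388) L736071 L751388
theorem L751393 : sm gj N56142 = N54729 := ded_31_2 (flp_c L736161) (flp_j L736072) L751388
theorem L751395 : sm gh N56142 = N56142 := ded_32_2 (flp_c L751388) L736076 L751388
theorem L751396 : sm gi N56142 = N54770 := ded_33_2 (flp_c L736671) (flp_i L736074) L751388
theorem L751398 : sm gd N56142 = N55417 := ded_27_2 L744106 L731658 (flp_c L718302) L736065 L751388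
theorem L751400 : sm gb N55418 = N56142 := ded_55_6 (flp_c L751388) (flp_d L736065) L718309 (flp_h L699124) L677583 (flp_f L677834) L677832 (flp_d L690868) (flp_b L703991) (flp_c L723383) L723385 (flp_i L723379) (flp_h L722334) L722326 L703277 L682303 (flp_d L703154) L703164 L682705 (flp_d L668268) L668282 L668296 (flp_d L668765) (flp_f L690852) (flp_e L711764) L711762 (flp_b L712574) (flp_c L731000) (flp_d L747184) (flp_i L747182) (flp_h L738451) (flp_d L738440) (flp_f L737951) (flp_e L737935) (flp_d L720655) L701508 L681933 (flp_d L681491) L702549 L721756 L721769 L712355 L691579 L693822 L693826 (flp_c L693833) (flp_d L691604) L691603 L694471 L694462 L694465 L673228 (flp_d L663603) L364611 L250790 (flp_d L249792) L249794 (flp_h L174220) L120126 (flp_f L120094) L120093 (flp_d L174186) (flp_b L561825) (flp_c L182646) L182648 (flp_i L181939) L264486 L384894 L384898 (flp_e L534703) (flp_d L378994) L260510 L179399 L179512 L260894 L379587 L648254 (flp_f L650754) (flp_e L672570) L694131 L694133 L714353 (flp_d L732393) L732392 (flp_h L748082) (flp_d L748074) L732109 (flp_e L727004)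 L744115
theorem L751402 : sm gf N54725 = N56143 := rfl
theorem L751404 : sm ga N56143 = N55844 := ded_14_1 L747724 (flp_a L736112) L751402
theorem L751406 : sm gb N56143 = N55637 := ded_22_1 L746289 (flp_b L736114) L751402
theorem L751408 : sm gd N56143 = N55634 := ded_35_1 L746266 (flp_d L736121) L751402
theorem L751410 : sm gh N56143 = N56143 := ded_47_2 (flp_f L751402) L736118 L751402
theorem L751411 : sm gi N56143 = N54776 := ded_48_2 (flp_f L736764) (flp_i L736119) L751402
theorem L751413 : sm gg N56143 = N55635 := ded_45_2 L746276 L729714 L718439 (flp_g L736116) L751402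
theorem L751415 : sm gh N54726 = N56144 := rfl
theorem L751417 : sm ga N56144 = N55782 := ded_17_1 (flp_h L747297) (flp_a L736125) L751415
theorem L751419 : sm gb N56144 = N55326 := ded_25_1 (flp_h L743256) (flp_b L736127) L751415
theorem L751421 : sm gc N56144 = N55447 := ded_32_1 (flp_h L744409) (flp_c L736129) L751415
theorem L751423 : sm gf N56144 = N54730 := ded_47_1 (flp_h L736174) (flp_f L736132) L751415
theorem L751425 : sm gg N56144 = N55914 := ded_50_1 (flp_h L748190) (flp_g L736134) L751415
theorem L751427 : sm gj N56144 = N54727 := ded_52_1 (flp_h L736138) (flp_j L736136) L751415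
theorem L751429 : sm gi N56144 = N54777 := ded_54_2 (flp_h L736772) (flp_i L719007) (flp_h L718377) L736123 L751415
theorem L751431 : sm gd N54727 = N56145 := rfl
theorem L751433 : sm ga N56145 = N55785 := ded_12_1 (flp_d L747322) (flp_a L736140) L751431
theorem L751435 : sm gb N56145 = N55327 := ded_20_1 (flp_d L743264) (flp_b L736142) L751431
theorem L751437 : sm gf N56145 = N54731 := ded_35_2 (flp_d L736189) (flp_f L736146) L751431
theorem L751439 : sm gg N56145 = N54728 := ded_36_2 (flp_d L736152) (flp_g L736148) L751431
theorem L751441 : sm gi N56145 = N54778 := ded_39_2 (flp_d L736780) (flp_i L736150) L751431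
theorem L751443 : sm gc N56145 = N55405 := ded_27_1 (flp_d L744005) (flp_c L736704) L736712 (flp_c L736144) L751431
theorem L751445 : sm gh N56145 = N56145 := ded_38_2 (flp_d L751431) (flp_h L736138) L718389 L736138 L751431
theorem L751446 : sm gc N54728 = N56146 := rfl
theorem L751448 : sm ga N56146 = N55573 := ded_11_1 (flp_c L750553) L750541 L751446
theorem L751450 : sm gf N56146 = N54729 := ded_29_2 (flp_c L736161) (flp_f L736156) L751446
theorem L751452 : sm gg N56146 = N55405 := ded_30_2 (flp_c L751443) L751439 L751446
theorem L751454 : sm gh N56146 = N56146 := ded_32_2 (flp_c L751446) L736160 L751446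
theorem L751455 : sm gi N56146 = N54779 := ded_33_2 (flp_c L736790) (flp_i L736158) L751446
theorem L751457 : sm gd N56146 = N55404 := ded_27_2 L743997 (flp_d L736106) L736098 L736152 L751446
theorem L751459 : sm gb N55407 = N56146 := ded_10_0 L751448 L745755 (flp_a L745016) (flp_b L749831) L749829
theorem L751461 : sm ge N54728 = N56147 := rfl
theorem L751463 : sm gb N56147 = N55329 := ded_21_1 (flp_e L743282) (flp_b L736154) L751461
theorem L751465 : sm gh N56147 = N56147 := ded_43_2 (flp_e L751461) L736160 L751461
theorem L751466 : sm gi N56147 = N54780 := ded_44_2 (flp_e L736800) (flp_i L736158) L751461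
theorem L751468 : sm gd N54730 = N56148 := rfl
theorem L751470 : sm ga N56148 = N55783 := ded_12_1 (flp_d L747307) (flp_a L736176) L751468
theorem L751472 : sm gb N56148 = N55332 := ded_20_1 (flp_d L743315) (flp_b L736178) L751468
theorem L751474 : sm gg N56148 = N56148 := ded_36_2 (flp_d L751468) L736184 L751468
theorem L751475 : sm gj N56148 = N54731 := ded_37_2 (flp_d L736189) (flp_j L736185) L751468
theorem L751477 : sm gi N56148 = N54784 := ded_39_2 (flp_d L736853) (flp_i L736187) L751468
theorem L751479 : sm gc N56148 = N55392 := ded_27_1 (flp_d L743879) L726749 (flp_d L731354) (flp_c L736180) L751468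
theorem L751481 : sm ge N56148 = N55198 := ded_34_2 (flp_d L741803) (flp_e L734791) L734796 (flp_e L736182) L751468
theorem L751483 : sm gh N56148 = N56148 := ded_38_2 (flp_d L751468) (flp_h L736174) L718449 L736174 L751468
theorem L751484 : sm gj N54732 = N56149 := rfl
theorem L751486 : sm ga N56149 = N55061 := ded_16_1 L740366 (flp_a L736206) L751484
theorem L751488 : sm gb N56149 = N54965 := ded_24_1 L739291 (flp_b L736208) L751484
theorem L751490 : sm gc N56149 = N55225 := ded_31_1 L742149 (flp_c L736210) L751484
theorem L751492 : sm gd N56149 = N54963 := ded_37_1 L739264 (flp_d L736212) L751484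
theorem L751494 : sm ge N56149 = N56149 := ded_42_1 (flp_j L751484) L736214 L751484
theorem L751495 : sm gf N56149 = N54741 := ded_46_1 (flp_j L736316) (flp_f L736215) L751484
theorem L751497 : sm gh N56149 = N55270 := ded_52_2 (flp_j L751034) L751030 L751484
theorem L751499 : sm gg N56149 = N55018 := ded_49_1 L739921 L722804 (flp_j L718503) L736204 L751484
theorem L751501 : sm gi N54732 = N56150 := rfl
theorem L751503 : sm ga N56150 = N55079 := ded_18_1 (flp_i L740573) (flp_a L736206) L751501
theorem L751505 : sm gb N56150 = N55341 := ded_26_1 (flp_i L743426) (flp_b L736208) L751501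
theorem L751507 : sm gc N56150 = N55237 := ded_33_1 (flp_i L742283) (flp_c L736210) L751501
theorem L751509 : sm gd N56150 = N54991 := ded_39_1 (flp_i L739605) (flp_d L736212) L751501
theorem L751511 : sm ge N56150 = N56150 := ded_44_1 (flp_i L751501) L736214 L751501
theorem L751512 : sm gf N56150 = N54742 := ded_48_1 (flp_i L736332) (flp_f L736215) L751501
theorem L751514 : sm gg N56150 = N54733 := ded_51_1 (flp_i L736217) L736204 L751501
theorem L751516 : sm gh N54733 = N56151 := rfl
theorem L751518 : sm gb N56151 = N55342 := ded_25_1 (flp_h L743433) (flp_b L736219) L751516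
theorem L751520 : sm ge N56151 = N56151 := ded_43_1 (flp_h L751516) L736221 L751516
theorem L751521 : sm gf N56151 = N54734 := ded_47_1 (flp_h L736226) (flp_f L736222) L751516
theorem L751523 : sm gj N56151 = N55588 := ded_52_1 (flp_h L745883) (flp_j L736224) L751516
theorem L751525 : sm gd N54734 = N56152 := rfl
theorem L751527 : sm gb N56152 = N55343 := ded_20_1 (flp_d L743440) (flp_b L736228) L751525
theorem L751529 : sm gg N56152 = N54744 := ded_36_2 (flp_d L736360) (flp_g L736232) L751525
theorem L751531 : sm gj N56152 = N55589 := ded_37_2 (flp_d L745890) (flp_j L736234) L751525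
theorem L751533 : sm gi N54735 = N56153 := rfl
theorem L751535 : sm ga N56153 = N54737 := ded_18_1 (flp_i L736270) (flp_a L736238) L751533
theorem L751537 : sm gb N56153 = N55297 := ded_26_1 (flp_i L742932) (flp_b L736240) L751533
theorem L751539 : sm gc N56153 = N55344 := ded_33_1 (flp_i L743446) (flp_c L736242) L751533
theorem L751541 : sm gd N56153 = N55485 := ded_39_1 (flp_i L744854) (flp_d L736250) L751533
theorem L751543 : sm ge N56153 = N54736 := ded_44_1 (flp_i L736254) L736236 L751533
theorem L751545 : sm gf N56153 = N55294 := ded_48_1 (flp_i L742888) (flp_f L736252) L751533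
theorem L751547 : sm gg N56153 = N55574 := ded_51_1 (flp_i L745762) (flp_g L736244) L751533
theorem L751549 : sm gj N56153 = N54746 := ded_53_1 (flp_i L736384) (flp_j L736246) L751533
theorem L751551 : sm gh N54736 = N56154 := rfl
theorem L751553 : sm ga N56154 = N54738 := ded_17_1 (flp_h L736284) (flp_a L736256) L751551
theorem L751555 : sm gb N56154 = N55317 := ded_25_1 (flp_h L743147) (flp_b L736258) L751551
theorem L751557 : sm gc N56154 = N55345 := ded_32_1 (flp_h L743460) (flp_c L736260) L751551
theorem L751559 : sm gf N56154 = N54764 := ded_47_1 (flp_h L736598) (flp_f L736264) L751551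
theorem L751561 : sm gg N56154 = N55904 := ded_50_1 (flp_h L748127) (flp_g L736266) L751551
theorem L751563 : sm gj N56154 = N54747 := ded_52_1 (flp_h L736398) (flp_j L736268) L751551
theorem L751565 : sm gi N56154 = N55391 := ded_54_2 (flp_h L743869) (flp_i L726734) (flp_h L718537) L736254 L751551
theorem L751567 : sm gh N54737 = N56155 := rfl
theorem L751569 : sm gb N56155 = N54739 := ded_25_1 (flp_h L736294) (flp_b L736272) L751567
theorem L751571 : sm gc N56155 = N55349 := ded_32_1 (flp_h L743519) (flp_c L736274) L751567
theorem L751573 : sm ge N56155 = N54738 := ded_43_1 (flp_h L736284) (flp_e L736278) L751567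
theorem L751575 : sm gf N56155 = N55799 := ded_47_1 (flp_h L747419) (flp_f L736280) L751567
theorem L751577 : sm gj N56155 = N54751 := ded_52_1 (flp_h L736464) (flp_j L736282) L751567
theorem L751579 : sm gd N54738 = N56156 := rfl
theorem L751581 : sm gb N56156 = N54740 := ded_20_1 (flp_d L736306) (flp_b L736286) L751579
theorem L751583 : sm gf N56156 = N54765 := ded_35_2 (flp_d L736613) (flp_f L736290) L751579
theorem L751585 : sm gj N56156 = N54752 := ded_37_2 (flp_d L736474) (flp_j L736292) L751579
theorem L751587 : sm gh N56156 = N54797 := ded_38_2 (flp_d L737010) (flp_h L719289) (flp_d L718559) L736284 L751579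
theorem L751589 : sm gd N54739 = N56157 := rfl
theorem L751591 : sm ga N56157 = N55875 := ded_12_1 (flp_d L747940) (flp_a L736296) L751589
theorem L751593 : sm gf N56157 = N55802 := ded_35_2 (flp_d L747437) (flp_f L736302) L751589
theorem L751595 : sm gj N56157 = N54758 := ded_37_2 (flp_d L736558) (flp_j L736304) L751589
theorem L751597 : sm gh N56157 = N55489 := ded_38_2 (flp_d L744900) (flp_h L728096) (flp_d L718571) L736294 L751589
theorem L751599 : sm ge N54740 = N56158 := rfl
theorem L751601 : sm ga N56158 = N55920 := ded_13_1 (flp_e L748235) (flp_a L736308) L751599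
theorem L751603 : sm gj N56158 = N54759 := ded_42_2 (flp_e L736562) (flp_j L736312) L751599
theorem L751605 : sm gh N56158 = N54798 := ded_43_2 (flp_e L737019) (flp_h L736314) L751599
theorem L751607 : sm gi N54741 = N56159 := rfl
theorem L751609 : sm ga N56159 = N55063 := ded_18_1 (flp_i L740383) (flp_a L736318) L751607
theorem L751611 : sm gb N56159 = N55361 := ded_26_1 (flp_i L743642) (flp_b L736320) L751607
theorem L751613 : sm gc N56159 = N55226 := ded_33_1 (flp_i L742154) (flp_c L736322) L751607
theorem L751615 : sm gd N56159 = N54983 := ded_39_1 (flp_i L739511) (flp_d L736324) L751607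
theorem L751617 : sm ge N56159 = N54767 := ded_44_1 (flp_i L736633) (flp_e L736326) L751607
theorem L751619 : sm gg N56159 = N54760 := ded_51_1 (flp_i L736568) (flp_g L736330) L751607
theorem L751621 : sm gj N56159 = N54742 := ded_53_1 (flp_i L736332) L736316 L751607
theorem L751623 : sm gh N54742 = N56160 := rfl
theorem L751625 : sm ga N56160 = N55081 := ded_17_1 (flp_h L740590) (flp_a L736334) L751623
theorem L751627 : sm gb N56160 = N55362 := ded_25_1 (flp_h L743650) (flp_b L736336) L751623
theorem L751629 : sm gc N56160 = N55239 := ded_32_1 (flp_h L742306) (flp_c L736338) L751623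
theorem L751631 : sm ge N56160 = N54768 := ded_43_1 (flp_h L736648) (flp_e L736342) L751623
theorem L751633 : sm gg N56160 = N54743 := ded_50_1 (flp_h L736346) (flp_g L736344) L751623
theorem L751635 : sm gd N54743 = N56161 := rfl
theorem L751637 : sm ga N56161 = N55728 := ded_12_1 (flp_d L746941) (flp_a L736348) L751635
theorem L751639 : sm gb N56161 = N55363 := ded_20_1 (flp_d L743656) (flp_b L736350) L751635
theorem L751641 : sm gf N56161 = N54744 := ded_35_2 (flp_d L736360) (flp_f L736356) L751635
theorem L751643 : sm gj N56161 = N54762 := ded_37_2 (flp_d L736588) (flp_j L736358) L751635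
theorem L751645 : sm gh N56161 = N55698 := ded_38_2 (flp_d L746752) (flp_h L730420) (flp_d L718609) L736346 L751635
theorem L751647 : sm gc N54744 = N56162 := rfl
theorem L751649 : sm gj N56162 = N54763 := ded_31_2 (flp_c L736594) (flp_j L736364) L751647
theorem L751651 : sm gi N54745 = N56163 := rfl
theorem L751653 : sm ga N56163 = N54749 := ded_18_1 (flp_i L736430) (flp_a L736368) L751651
theorem L751655 : sm gb N56163 = N55306 := ded_26_1 (flp_i L743032) (flp_b L736370) L751651
theorem L751657 : sm gc N56163 = N55263 := ded_33_1 (flp_i L742550) (flp_c L736378) L751651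
theorem L751659 : sm gd N56163 = N54746 := ded_39_1 (flp_i L736384) L736366 L751651
theorem L751661 : sm ge N56163 = N54799 := ded_44_1 (flp_i L737028) (flp_e L736380) L751651
theorem L751663 : sm gf N56163 = N55303 := ded_48_1 (flp_i L742992) (flp_f L736372) L751651
theorem L751665 : sm gg N56163 = N55268 := ded_51_1 (flp_i L742620) (flp_g L736374) L751651
theorem L751667 : sm gj N56163 = N55485 := ded_53_1 (flp_i L744854) (flp_j L736376) L751651
theorem L751669 : sm gh N54746 = N56164 := rfl
theorem L751671 : sm ga N56164 = N54751 := ded_17_1 (flp_h L736464) (flp_a L736386) L751669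
theorem L751673 : sm gb N56164 = N55310 := ded_25_1 (flp_h L743080) (flp_b L736388) L751669
theorem L751675 : sm gc N56164 = N55365 := ded_32_1 (flp_h L743666) (flp_c L736390) L751669
theorem L751677 : sm ge N56164 = N54747 := ded_43_1 (flp_h L736398) (flp_e L736392) L751669
theorem L751679 : sm gf N56164 = N55304 := ded_47_1 (flp_h L743006) (flp_f L736394) L751669
theorem L751681 : sm gg N56164 = N55603 := ded_50_1 (flp_h L746016) (flp_g L736396) L751669
theorem L751683 : sm gi N56164 = N55370 := ded_54_2 (flp_h L743716) (flp_i L726598) (flp_h L718635) L736384 L751669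
theorem L751685 : sm gd N54747 = N56165 := rfl
theorem L751687 : sm ga N56165 = N54752 := ded_12_1 (flp_d L736474) (flp_a L736400) L751685
theorem L751689 : sm gb N56165 = N55325 := ded_20_1 (flp_d L743244) (flp_b L736402) L751685
theorem L751691 : sm gf N56165 = N54771 := ded_35_2 (flp_d L736682) (flp_f L736406) L751685
theorem L751693 : sm gg N56165 = N54779 := ded_36_2 L736798 (flp_g L736408) L751685
theorem L751695 : sm gi N56165 = N55405 := ded_39_2 (flp_d L744005) (flp_i L736410) L751685
theorem L751697 : sm gc N56165 = N54778 := ded_27_1 (flp_d L736780) (flp_c L736754) L736760 (flp_c L736404) L751685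
theorem L751699 : sm gh N56165 = N54791 := ded_38_2 L736950 (flp_h L719343) (flp_d L718647) L736398 L751685
theorem L751701 : sm gi N54748 = N56166 := rfl
theorem L751703 : sm ga N56166 = N55616 := ded_18_1 (flp_i L746112) (flp_a L736414) L751701
theorem L751705 : sm gb N56166 = N54753 := ded_26_1 (flp_i L736484) (flp_b L736416) L751701
theorem L751707 : sm gc N56166 = N55128 := ded_33_1 (flp_i L741019) (flp_c L736418) L751701
theorem L751709 : sm gd N56166 = N55338 := ded_39_1 (flp_i L743390) (flp_d L736428) L751701
theorem L751711 : sm ge N56166 = N54801 := ded_44_1 (flp_i L737061) (flp_e L736420) L751701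
theorem L751713 : sm gf N56166 = N55336 := ded_48_1 (flp_i L743365) (flp_f L736422) L751701
theorem L751715 : sm gg N56166 = N55605 := ded_51_1 (flp_i L746033) (flp_g L736424) L751701
theorem L751717 : sm gj N56166 = N55130 := ded_53_1 (flp_i L741043) (flp_j L736426) L751701
theorem L751719 : sm gh N54749 = N56167 := rfl
theorem L751721 : sm gb N56167 = N54754 := ded_25_1 (flp_h L736498) (flp_b L736432) L751719
theorem L751723 : sm gc N56167 = N55764 := ded_32_1 (flp_h L747174) (flp_c L736434) L751719
theorem L751725 : sm ge N56167 = N54802 := ded_43_1 (flp_h L737076) (flp_e L736438) L751719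
theorem L751727 : sm gf N56167 = N55795 := ded_47_1 (flp_h L747391) (flp_f L736440) L751719
theorem L751729 : sm gg N56167 = N55606 := ded_50_1 (flp_h L746039) (flp_g L736442) L751719
theorem L751731 : sm gj N56167 = N55487 := ded_52_1 (flp_h L744882) (flp_j L736444) L751719
theorem L751733 : sm gh N54750 = N56168 := rfl
theorem L751735 : sm ga N56168 = N55304 := ded_17_1 (flp_h L743006) (flp_a L736448) L751733
theorem L751737 : sm gb N56168 = N54757 := ded_25_1 (flp_h L736546) (flp_b L736450) L751733
theorem L751739 : sm gc N56168 = N55370 := ded_32_1 (flp_h L743716) (flp_c L736452) L751733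
theorem L751741 : sm ge N56168 = N54772 := ded_43_1 (flp_h L736698) (flp_e L736456) L751733
theorem L751743 : sm gf N56168 = N54751 := ded_47_1 (flp_h L736464) (flp_f L736458) L751733
theorem L751745 : sm gg N56168 = N55823 := ded_50_1 (flp_h L747573) (flp_g L736460) L751733
theorem L751747 : sm gj N56168 = N55799 := ded_52_1 (flp_h L747419) (flp_j L736462) L751733
theorem L751749 : sm gi N56168 = N55365 := ded_54_2 (flp_h L743666) (flp_i L726551) (flp_h L718679) L736446 L751733
theorem L751751 : sm gd N54751 = N56169 := rfl
theorem L751753 : sm gb N56169 = N54758 := ded_20_1 (flp_d L736558) (flp_b L736466) L751751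
theorem L751755 : sm gg N56169 = N55609 := ded_36_2 (flp_d L746069) (flp_g L736472) L751751
theorem L751757 : sm ge N54752 = N56170 := rfl
theorem L751759 : sm gb N56170 = N54759 := ded_21_1 (flp_e L736562) (flp_b L736476) L751757
theorem L751761 : sm gg N56170 = N55610 := ded_41_2 (flp_e L746073) (flp_g L736480) L751757
theorem L751763 : sm gh N56170 = N54804 := ded_43_2 (flp_e L737101) (flp_h L736482) L751757
theorem L751765 : sm gh N54753 = N56171 := rfl
theorem L751767 : sm ga N56171 = N55555 := ded_17_1 (flp_h L745565) (flp_a L736486) L751765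
theorem L751769 : sm gc N56171 = N55482 := ded_32_1 (flp_h L744816) (flp_c L736488) L751765
theorem L751771 : sm ge N56171 = N54805 := ded_43_1 (flp_h L737108) (flp_e L736490) L751765
theorem L751773 : sm gf N56171 = N55360 := ded_47_1 L743638 (flp_f L736492) L751765
theorem L751775 : sm gg N56171 = N55614 := ded_50_1 (flp_h L746102) (flp_g L736494) L751765
theorem L751777 : sm gj N56171 = N55385 := ded_52_1 L743837 (flp_j L736496) L751765
theorem L751779 : sm gi N56171 = N54754 := ded_54_2 (flp_h L736498) (flp_i L718719) L718705 L736484 L751765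
theorem L751781 : sm gd N54754 = N56172 := rfl
theorem L751783 : sm ga N56172 = N55858 := ded_12_1 (flp_d L747828) (flp_a L736500) L751781
theorem L751785 : sm gf N56172 = N55796 := ded_35_2 (flp_d L747399) (flp_f L736506) L751781
theorem L751787 : sm gg N56172 = N55615 := ded_36_2 (flp_d L746108) (flp_g L736508) L751781
theorem L751789 : sm gj N56172 = N55489 := ded_37_2 (flp_d L744900) (flp_j L736510) L751781
theorem L751791 : sm gh N56172 = N54758 := ded_38_2 (flp_d L736558) (flp_h L718765) (flp_d L718725) L736498 L751781
theorem L751793 : sm gi N54755 = N56173 := rfl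
theorem L751795 : sm ga N56173 = N55336 := ded_18_1 (flp_i L743365) (flp_a L736514) L751793
theorem L751797 : sm gb N56173 = N55307 := ded_26_1 (flp_i L743044) (flp_b L736516) L751793
theorem L751799 : sm gc N56173 = N54760 := ded_33_1 (flp_i L736568) (flp_c L736518) L751793
theorem L751801 : sm gd N56173 = N55221 := ded_39_1 (flp_i L742091) (flp_d L736520) L751793
theorem L751803 : sm ge N56173 = N54774 := ded_44_1 (flp_i L736732) (flp_e L736522) L751793
theorem L751805 : sm gf N56173 = N55616 := ded_48_1 (flp_i L746112) (flp_f L736524) L751793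
theorem L751807 : sm gg N56173 = N55226 := ded_51_1 (flp_i L742154) (flp_g L736528) L751793
theorem L751809 : sm gj N56173 = N54756 := ded_53_1 (flp_i L736530) L736512 L751793
theorem L751811 : sm gh N54756 = N56174 := rfl
theorem L751813 : sm ga N56174 = N55372 := ded_17_1 L743736 (flp_a L736532) L751811
theorem L751815 : sm gb N56174 = N55823 := ded_25_1 (flp_h L747573) (flp_b L736534) L751811
theorem L751817 : sm gc N56174 = N54761 := ded_32_1 (flp_h L736578) (flp_c L736536) L751811
theorem L751819 : sm ge N56174 = N54775 := ded_43_1 (flp_h L736748) (flp_e L736540) L751811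
theorem L751821 : sm gf N56174 = N55617 := ded_47_1 (flp_h L746120) (flp_f L736542) L751811
theorem L751823 : sm gg N56174 = N54757 := ded_50_1 (flp_h L736546) (flp_g L736544) L751811
theorem L751825 : sm gi N56174 = N55798 := ded_54_2 (flp_h L747411) (flp_i L731295) (flp_h L718747) L736530 L751811
theorem L751827 : sm gd N54757 = N56175 := rfl
theorem L751829 : sm ga N56175 = N55857 := ded_12_1 (flp_d L747818) (flp_a L736548) L751827
theorem L751831 : sm gf N56175 = N54758 := ded_35_2 (flp_d L736558) (flp_f L736554) L751827
theorem L751833 : sm gj N56175 = N55802 := ded_37_2 (flp_d L747437) (flp_j L736556) L751827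
theorem L751835 : sm ge N56175 = N55867 := ded_34_2 (flp_d L747890) L731875 (flp_d L718995) (flp_e L736552) L751827
theorem L751837 : sm gh N56175 = N55796 := ded_38_2 (flp_d L747399) (flp_h L731279) (flp_d L718757) L736546 L751827
theorem L751839 : sm gc N54758 = N56176 := rfl
theorem L751841 : sm gg N56176 = N55619 := ded_30_2 (flp_c L746132) (flp_g L736560) L751839
theorem L751843 : sm gd N56176 = N54763 := ded_27_2 (flp_c L736594) (flp_d L718807) (flp_c L718767) L736558 L751839
theorem L751845 : sm ge N54758 = N56177 := rfl
theorem L751847 : sm gg N56177 = N55620 := ded_41_2 (flp_e L746136) (flp_g L736560) L751845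
theorem L751849 : sm gd N56177 = N54759 := ded_34_1 (flp_e L736562) (flp_d L718773) (flp_e L718769) L736558 L751845
theorem L751851 : sm gf N54759 = N56178 := rfl
theorem L751853 : sm ga N56178 = N55897 := ded_14_1 (flp_f L750623) L750611 L751851
theorem L751855 : sm gh N56178 = N54808 := ded_47_2 (flp_f L737149) (flp_h L736566) L751851
theorem L751857 : sm ge N56178 = N54776 := ded_40_1 (flp_f L736764) (flp_e L718997) (flp_f L718775) L736562 L751851
theorem L751859 : sm gh N54760 = N56179 := rfl
theorem L751861 : sm gb N56179 = N55386 := ded_25_1 (flp_h L743843) (flp_b L736570) L751859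
theorem L751863 : sm ge N56179 = N54777 := ded_43_1 (flp_h L736772) (flp_e L736572) L751859
theorem L751865 : sm gf N56179 = N55622 := ded_47_1 (flp_h L746146) (flp_f L736574) L751859
theorem L751867 : sm gj N56179 = N54761 := ded_52_1 (flp_h L736578) (flp_j L736576) L751859
theorem L751869 : sm gd N54761 = N56180 := rfl
theorem L751871 : sm gb N56180 = N55387 := ded_20_1 (flp_d L743851) (flp_b L736580) L751869
theorem L751873 : sm gf N56180 = N55623 := ded_35_2 (flp_d L746154) (flp_f L736584) L751869
theorem L751875 : sm gg N56180 = N54762 := ded_36_2 (flp_d L736588) (flp_g L736586) L751869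
theorem L751877 : sm gc N54762 = N56181 := rfl
theorem L751879 : sm gf N56181 = N54763 := ded_29_2 (flp_c L736594) (flp_f L736592) L751877
theorem L751881 : sm ge N54762 = N56182 := rfl
theorem L751883 : sm gb N56182 = N55389 := ded_21_1 (flp_e L743861) (flp_b L736590) L751881
theorem L751885 : sm gd N56182 = N54780 := ded_34_1 (flp_e L736800) (flp_d L719025) (flp_e L718803) L736588 L751881
theorem L751887 : sm gb N54763 = N56183 := rfl
theorem L751889 : sm gg N56183 = N55625 := ded_23_2 (flp_b L746164) (flp_g L736596) L751887
theorem L751891 : sm gc N56183 = N55390 := ded_19_2 (flp_b L743865) (flp_c L726719) (flp_b L718809) L736594 L751887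
theorem L751893 : sm gd N54764 = N56184 := rfl
theorem L751895 : sm ga N56184 = N54765 := ded_12_1 (flp_d L736613) (flp_a L736600) L751893
theorem L751897 : sm gb N56184 = N55318 := ded_20_1 (flp_d L743159) (flp_b L736602) L751893
theorem L751899 : sm gg N56184 = N56184 := ded_36_2 (flp_d L751893) L736608 L751893
theorem L751900 : sm gj N56184 = N54771 := ded_37_2 (flp_d L736682) (flp_j L736609) L751893
theorem L751902 : sm gi N56184 = N55392 := ded_39_2 (flp_d L743879) (flp_i L736611) L751893
theorem L751904 : sm gc N56184 = N54784 := ded_27_1 (flp_d L736853) (flp_c L736826) L736833 (flp_c L736604) L751893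
theorem L751906 : sm ge N56184 = N55493 := ded_34_2 (flp_d L744937) L728147 (flp_d L726069) (flp_e L736606) L751893
theorem L751908 : sm gh N56184 = N54795 := ded_38_2 L736991 (flp_h L719452) (flp_d L718821) L736598 L751893
theorem L751910 : sm ge N54765 = N56185 := rfl
theorem L751912 : sm ga N56185 = N55493 := ded_13_1 (flp_e L751906) L751895 L751910
theorem L751914 : sm gb N56185 = N54766 := ded_21_1 (flp_e L736622) (flp_b L736615) L751910
theorem L751916 : sm gc N56185 = N55180 := ded_28_1 (flp_e L750734) L750732 L751910
theorem L751918 : sm gg N56185 = N56185 := ded_41_2 (flp_e L751910) L736617 L751910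
theorem L751919 : sm gj N56185 = N54773 := ded_42_2 (flp_e L736716) (flp_j L736618) L751910
theorem L751921 : sm gh N56185 = N54809 := ded_43_2 (flp_e L737156) (flp_h L736620) L751910
theorem L751923 : sm gi N56185 = N55640 := ded_44_2 (flp_e L751343) L751339 L751910
theorem L751925 : sm gd N56185 = N55492 := ded_34_1 L744930 L731354 (flp_e L718834) L736613 L751910
theorem L751927 : sm gf N54766 = N56186 := rfl
theorem L751929 : sm ga N56186 = N55890 := ded_14_1 L748014 (flp_a L736624) L751927
theorem L751931 : sm gd N56186 = N55889 := ded_35_1 L748006 (flp_d L736631) L751927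
theorem L751933 : sm gj N56186 = N54776 := ded_46_2 (flp_f L736764) (flp_j L736627) L751927
theorem L751935 : sm gh N56186 = N54810 := ded_47_2 (flp_f L737170) (flp_h L736629) L751927
theorem L751937 : sm gh N54767 = N56187 := rfl
theorem L751939 : sm ga N56187 = N55114 := ded_17_1 (flp_h L740878) (flp_a L736635) L751937
theorem L751941 : sm gb N56187 = N55398 := ded_25_1 (flp_h L743939) (flp_b L736637) L751937
theorem L751943 : sm gc N56187 = N55258 := ded_32_1 (flp_h L742484) (flp_c L736639) L751937
theorem L751945 : sm gf N56187 = N56187 := ded_47_1 (flp_h L751937) L736643 L751937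
theorem L751946 : sm gg N56187 = N54777 := ded_50_1 (flp_h L736772) (flp_g L736644) L751937
theorem L751948 : sm gj N56187 = N54768 := ded_52_1 (flp_h L736648) (flp_j L736646) L751937
theorem L751950 : sm gi N56187 = N55914 := ded_54_2 (flp_h L748190) (flp_i L732278) (flp_h L718859) L736633 L751937
theorem L751952 : sm gd N54768 = N56188 := rfl
theorem L751954 : sm ga N56188 = N55124 := ded_12_1 (flp_d L740988) (flp_a L736650) L751952
theorem L751956 : sm gb N56188 = N55399 := ded_20_1 (flp_d L743946) (flp_b L736652) L751952
theorem L751958 : sm gf N56188 = N56188 := ded_35_2 (flp_d L751952) L736656 L751952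
theorem L751959 : sm gg N56188 = N54769 := ded_36_2 (flp_d L736659) (flp_g L736657) L751952
theorem L751961 : sm gc N56188 = N55912 := ded_27_1 (flp_d L748180) L732263 (flp_d L725627) (flp_c L736654) L751952
theorem L751963 : sm gh N56188 = N54786 := ded_38_2 (flp_d L736880) (flp_h L719170) (flp_d L718871) L736648 L751952
theorem L751965 : sm gc N54769 = N56189 := rfl
theorem L751967 : sm ga N56189 = N55592 := ded_11_1 L745926 (flp_a L736661) L751965
theorem L751969 : sm gf N56189 = N54770 := ded_29_2 (flp_c L736671) (flp_f L736665) L751965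
theorem L751971 : sm gg N56189 = N55912 := ded_30_2 (flp_c L751961) L751959 L751965
theorem L751973 : sm gj N56189 = N54779 := ded_31_2 (flp_c L736790) (flp_j L736667) L751965
theorem L751975 : sm gh N56189 = N54787 := ded_32_2 (flp_c L736892) (flp_h L736669) L751965
theorem L751977 : sm gd N56189 = N55445 := ded_27_2 L744396 L727429 (flp_c L718882) L736659 L751965
theorem L751979 : sm ge N54769 = N56190 := rfl
theorem L751981 : sm ga N56190 = N55747 := ded_13_1 (flp_e L747053) (flp_a L736661) L751979
theorem L751983 : sm gb N56190 = N55401 := ded_21_1 (flp_e L743961) (flp_b L736663) L751979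
theorem L751985 : sm gj N56190 = N54780 := ded_42_2 (flp_e L736800) (flp_j L736667) L751979
theorem L751987 : sm gh N56190 = N54788 := ded_43_2 (flp_e L736905) (flp_h L736669) L751979
theorem L751989 : sm gb N54770 = N56191 := rfl
theorem L751991 : sm gd N56191 = N55331 := ded_20_2 L743304 (flp_d L736680) L751989
theorem L751993 : sm ge N56191 = N55927 := ded_21_2 (flp_b L749825) L749818 L751989
theorem L751995 : sm gg N56191 = N56191 := ded_23_2 (flp_b L751989) L736675 L751989
theorem L751996 : sm gj N56191 = N54781 := ded_24_2 (flp_b L736806) (flp_j L736676) L751989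
theorem L751998 : sm gh N56191 = N54789 := ded_25_2 (flp_b L736916) (flp_h L736678) L751989
theorem L752000 : sm gi N56191 = N55418 := ded_26_2 L751400 L751396 L751989
theorem L752002 : sm ga N56191 = N55529 := ded_10_1 L745298 L728614 (flp_b L729628) (flp_a L736673) L751989
theorem L752004 : sm gc N56191 = N55402 := ded_19_2 (flp_b L743967) (flp_c L726836) (flp_b L718892) L736671 L751989
theorem L752006 : sm gf N54773 = N56192 := rfl
theorem L752008 : sm ga N56192 = N55488 := ded_14_1 L744896 (flp_a L736718) L752006
theorem L752010 : sm gb N56192 = N54776 := ded_22_1 (flp_f L736764) (flp_b L736720) L752006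
theorem L752012 : sm gc N56192 = N55177 := ded_29_1 L741601 (flp_c L736722) L752006
theorem L752014 : sm gd N56192 = N55486 := ded_35_1 L744876 (flp_d L736730) L752006
theorem L752016 : sm gh N56192 = N54811 := ded_47_2 (flp_f L737179) (flp_h L736726) L752006
theorem L752018 : sm gi N56192 = N55637 := ded_48_2 L746289 (flp_i L736728) L752006
theorem L752020 : sm gg N56192 = N55178 := ded_45_2 L741609 L724611 (flp_f L719075) (flp_g L736724) L752006
theorem L752022 : sm gh N54774 = N56193 := rfl
theorem L752024 : sm ga N56193 = N55350 := ded_17_1 L743539 (flp_a L736734) L752022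
theorem L752026 : sm gb N56193 = N55448 := ded_25_1 (flp_h L744423) (flp_b L736736) L752022
theorem L752028 : sm gc N56193 = N54777 := ded_32_1 (flp_h L736772) (flp_c L736738) L752022
theorem L752030 : sm gf N56193 = N54782 := ded_47_1 (flp_h L736820) (flp_f L736742) L752022
theorem L752032 : sm gg N56193 = N55258 := ded_50_1 (flp_h L742484) (flp_g L736744) L752022
theorem L752034 : sm gj N56193 = N54775 := ded_52_1 (flp_h L736748) (flp_j L736746) L752022
theorem L752036 : sm gd N56193 = N55345 := ded_38_1 (flp_h L743460) L726410 (flp_h L725542) (flp_d L736740) L752022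
theorem L752038 : sm gi N56193 = N55447 := ded_54_2 (flp_h L744409) (flp_i L727393) (flp_h L718967) L736732 L752022
theorem L752040 : sm gg N54776 = N56194 := rfl
theorem L752042 : sm ga N56194 = N55895 := ded_15_1 L748058 (flp_a L736766) L752040
theorem L752044 : sm gb N56194 = N55178 := ded_23_1 (flp_g L752020) L752010 L752040
theorem L752046 : sm gd N56194 = N55584 := ded_36_1 L745853 (flp_d L736768) L752040
theorem L752048 : sm gh N56194 = N54812 := ded_50_2 (flp_g L737192) (flp_h L736770) L752040
theorem L752050 : sm gi N56194 = N55635 := ded_51_2 (flp_g L751413) L751411 L752040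
theorem L752052 : sm gf N56194 = N54783 := ded_45_1 (flp_g L736837) (flp_f L719108) (flp_g L719001) L736764 L752040
theorem L752054 : sm gj N55809 = N56194 := ded_24_0 L752044 L741611 (flp_b L747487)
theorem L752056 : sm gd N54777 = N56195 := rfl
theorem L752058 : sm gb N56195 = N55411 := ded_20_1 (flp_d L744050) (flp_b L736774) L752056
theorem L752060 : sm gf N56195 = N54784 := ded_35_2 (flp_d L736853) (flp_f L736776) L752056
theorem L752062 : sm gj N56195 = N54778 := ded_37_2 (flp_d L736780) (flp_j L736778) L752056
theorem L752064 : sm gh N56195 = N54790 := ded_38_2 (flp_d L736930) (flp_h L719205) (flp_d L719011) L736772 L752056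
theorem L752066 : sm ge N54778 = N56196 := rfl
theorem L752068 : sm gb N56196 = N55413 := ded_21_1 (flp_e L744068) (flp_b L736782) L752066
theorem L752070 : sm gg N56196 = N54780 := ded_41_2 (flp_e L736800) (flp_g L736786) L752066
theorem L752072 : sm gh N56196 = N54792 := ded_43_2 (flp_e L736952) (flp_h L736788) L752066
theorem L752074 : sm gb N54779 = N56197 := rfl
theorem L752076 : sm gd N56197 = N55324 := ded_20_2 L743234 (flp_d L736798) L752074
theorem L752078 : sm gf N56197 = N54781 := ded_22_2 (flp_b L736806) (flp_f L736794) L752074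
theorem L752080 : sm gg N56197 = N55325 := ded_23_2 (flp_b L751689) L751693 L752074
theorem L752082 : sm gh N56197 = N54793 := ded_25_2 (flp_b L736959) (flp_h L736796) L752074
theorem L752084 : sm gi N56197 = N55407 := ded_26_2 L751459 L751455 L752074
theorem L752086 : sm ga N56197 = N55521 := ded_10_1 L745227 L728557 (flp_b L729477) (flp_a L736792) L752074
theorem L752088 : sm gc N56197 = N55414 := ded_19_2 (flp_b L744074) (flp_c L726956) (flp_b L719027) L736790 L752074
theorem L752090 : sm ge N54779 = N56198 := rfl
theorem L752092 : sm ga N56198 = N55610 := ded_13_1 (flp_e L746073) (flp_a L736792) L752090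
theorem L752094 : sm gc N56198 = N54780 := ded_28_1 (flp_e L736800) L736790 L752090
theorem L752096 : sm gh N56198 = N54794 := ded_43_2 (flp_e L736972) (flp_h L736796) L752090
theorem L752098 : sm gd N54785 = N56199 := rfl
theorem L752100 : sm ga N56199 = N55115 := ded_12_1 (flp_d L740887) (flp_a L736866) L752098
theorem L752102 : sm gb N56199 = N55421 := ded_20_1 (flp_d L744141) (flp_b L736868) L752098
theorem L752104 : sm gf N56199 = N56199 := ded_35_2 (flp_d L752098) L736874 L752098
theorem L752105 : sm gg N56199 = N54790 := ded_36_2 (flp_d L736930) (flp_g L736875) L752098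
theorem L752107 : sm gj N56199 = N54786 := ded_37_2 (flp_d L736880) (flp_j L736877) L752098
theorem L752109 : sm gi N56199 = N56199 := ded_39_2 (flp_d L752098) L736879 L752098
theorem L752110 : sm gc N56199 = N55905 := ded_27_1 (flp_d L748134) L732212 (flp_d L722650) (flp_c L736870) L752098
theorem L752112 : sm ge N54786 = N56200 := rfl
theorem L752114 : sm ga N56200 = N55126 := ded_13_1 (flp_e L741007) (flp_a L736882) L752112
theorem L752116 : sm gb N56200 = N55423 := ded_21_1 (flp_e L744156) (flp_b L736884) L752112
theorem L752118 : sm gc N56200 = N55913 := ded_28_1 (flp_e L748185) (flp_c L736890) L752112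
theorem L752120 : sm gg N56200 = N54788 := ded_41_2 (flp_e L736905) (flp_g L736887) L752112
theorem L752122 : sm gi N56200 = N56200 := ded_44_2 (flp_e L752112) L736889 L752112
theorem L752123 : sm gd N56200 = N55012 := ded_34_1 (flp_e L739846) (flp_d L722667) (flp_e L719178) L736880 L752112
theorem L752125 : sm gb N54787 = N56201 := rfl
theorem L752127 : sm gd N56201 = N55443 := ded_20_2 L744372 (flp_d L736903) L752125
theorem L752129 : sm gf N56201 = N54789 := ded_22_2 (flp_b L736916) (flp_f L736896) L752125
theorem L752131 : sm gg N56201 = N55908 := ded_23_2 L748158 (flp_g L736898) L752125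
theorem L752133 : sm gj N56201 = N54793 := ded_24_2 (flp_b L736959) (flp_j L736900) L752125
theorem L752135 : sm gi N56201 = N56201 := ded_26_2 (flp_b L752125) L736902 L752125
theorem L752136 : sm ga N56201 = N55538 := ded_10_1 L745396 L728750 (flp_b L729813) (flp_a L736894) L752125
theorem L752138 : sm gc N56201 = N55424 := ded_19_2 (flp_b L744161) (flp_c L727071) (flp_b L719188) L736892 L752125
theorem L752140 : sm ge N54787 = N56202 := rfl
theorem L752142 : sm ga N56202 = N55642 := ded_13_1 (flp_e L746325) (flp_a L736894) L752140
theorem L752144 : sm gc N56202 = N54788 := ded_28_1 (flp_e L736905) L736892 L752140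
theorem L752146 : sm gg N56202 = N55913 := ded_41_2 (flp_e L748185) (flp_g L736898) L752140
theorem L752148 : sm gj N56202 = N54794 := ded_42_2 (flp_e L736972) (flp_j L736900) L752140
theorem L752150 : sm gi N56202 = N56202 := ded_44_2 (flp_e L752140) L736902 L752140
theorem L752151 : sm gd N56202 = N55446 := ded_34_1 (flp_e L744404) (flp_d L727387) (flp_e L727378) (flp_d L736903) L752140
theorem L752153 : sm gc N54790 = N56203 := rfl
theorem L752155 : sm ga N56203 = N54797 := ded_11_1 (flp_c L750751) L750740 L752153
theorem L752157 : sm gf N56203 = N54795 := ded_29_2 (flp_c L736979) (flp_f L736934) L752153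
theorem L752159 : sm gg N56203 = N55905 := ded_30_2 (flp_c L752110) L752105 L752153
theorem L752161 : sm gj N56203 = N54791 := ded_31_2 (flp_c L736939) (flp_j L736936) L752153
theorem L752163 : sm gi N56203 = N56203 := ded_33_2 (flp_c L752153) L736938 L752153
theorem L752164 : sm gb N56203 = N55496 := ded_19_1 L744966 L744199 (flp_c L744191) (flp_b L736932) L752153
theorem L752166 : sm gd N56203 = N54796 := ded_27_2 L736999 (flp_d L732497) L732487 L736930 L752153
theorem L752168 : sm ge N54790 = N56204 := rfl
theorem L752170 : sm gb N56204 = N55428 := ded_21_1 (flp_e L744201) (flp_b L736932) L752168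
theorem L752172 : sm gj N56204 = N54792 := ded_42_2 (flp_e L736952) (flp_j L736936) L752168
theorem L752174 : sm gi N56204 = N56204 := ded_44_2 (flp_e L752168) L736938 L752168
theorem L752175 : sm gd N56204 = N55745 := ded_34_1 L747044 L730828 (flp_e L719209) L736930 L752168
theorem L752177 : sm gf N56204 = N55744 := ded_40_2 (flp_e L747032) L730792 (flp_e L719258) (flp_f L736934) L752168
theorem L752179 : sm ge N54791 = N56205 := rfl
theorem L752181 : sm ga N56205 = N54804 := ded_13_1 (flp_e L737101) (flp_a L736941) L752179
theorem L752183 : sm gb N56205 = N55495 := ded_21_1 L744960 (flp_b L736948) L752179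
theorem L752185 : sm gc N56205 = N54792 := ded_28_1 (flp_e L736952) L736939 L752179
theorem L752187 : sm gg N56205 = N54794 := ded_41_2 (flp_e L736972) (flp_g L736945) L752179
theorem L752189 : sm gi N56205 = N56205 := ded_44_2 (flp_e L752179) L736947 L752179
theorem L752190 : sm gf N56205 = N55494 := ded_40_2 (flp_e L744948) L728202 (flp_e L719264) (flp_f L736943) L752179
theorem L752192 : sm ge N54793 = N56206 := rfl
theorem L752194 : sm ga N56206 = N55544 := ded_13_1 (flp_e L745450) (flp_a L736968) L752192
theorem L752196 : sm gb N56206 = N54794 := ded_21_1 (flp_e L736972) L736959 L752192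
theorem L752198 : sm gc N56206 = N55431 := ded_28_1 (flp_e L744233) (flp_c L736970) L752192
theorem L752200 : sm gg N56206 = N55495 := ded_41_2 L744960 (flp_g L736965) L752192
theorem L752202 : sm gi N56206 = N56206 := ded_44_2 (flp_e L752192) L736967 L752192
theorem L752203 : sm gd N54794 = N56207 := rfl
theorem L752205 : sm ga N56207 = N55649 := ded_12_1 L746381 (flp_a L736974) L752203
theorem L752207 : sm gj N56207 = N55446 := ded_37_2 (flp_d L752151) L752148 L752203
theorem L752209 : sm gi N56207 = N56207 := ded_39_2 (flp_d L752203) L736978 L752203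
theorem L752210 : sm ge N56207 = N55441 := ded_34_2 (flp_d L744345) L727314 (flp_d L719232) L736972 L752203
theorem L752212 : sm ge N54797 = N56208 := rfl
theorem L752214 : sm gb N56208 = N54798 := ded_21_1 (flp_e L737019) (flp_b L737012) L752212
theorem L752216 : sm gj N56208 = N54804 := ded_42_2 (flp_e L737101) (flp_j L737016) L752212
theorem L752218 : sm gi N56208 = N56208 := ded_44_2 (flp_e L752212) L737018 L752212
theorem L752219 : sm gd N56208 = N55494 := ded_34_1 (flp_e L744948) (flp_d L728198) (flp_e L719295) L737010 L752212
theorem L752221 : sm gf N54798 = N56209 := rfl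
theorem L752223 : sm ga N56209 = N55923 := ded_14_1 (flp_f L748253) (flp_a L737021) L752221
theorem L752225 : sm gd N56209 = N55495 := ded_35_1 (flp_f L744953) (flp_d L737026) L752221
theorem L752227 : sm gj N56209 = N54808 := ded_46_2 (flp_f L737149) (flp_j L737023) L752221
theorem L752229 : sm gi N56209 = N56209 := ded_48_2 (flp_f L752221) L737025 L752221
theorem L752230 : sm ge N56209 = N54810 := ded_40_1 (flp_f L737170) (flp_e L719474) (flp_f L719306) L737019 L752221
theorem L752232 : sm gh N54799 = N56210 := rfl
theorem L752234 : sm ga N56210 = N54802 := ded_17_1 (flp_h L737076) (flp_a L737030) L752232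
theorem L752236 : sm gb N56210 = N55889 := ded_25_1 (flp_h L748002) (flp_b L737032) L752232
theorem L752238 : sm gc N56210 = N55264 := ded_32_1 (flp_h L742564) (flp_c L737034) L752232
theorem L752240 : sm gf N56210 = N55492 := ded_47_1 (flp_h L744922) (flp_f L737038) L752232
theorem L752242 : sm gg N56210 = N55269 := ded_50_1 (flp_h L742632) (flp_g L737040) L752232
theorem L752244 : sm gj N56210 = N55486 := ded_52_1 (flp_h L744868) (flp_j L737042) L752232
theorem L752246 : sm gi N56210 = N55636 := ded_54_2 (flp_h L746279) (flp_i L729717) (flp_h L719325) L737028 L752232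
theorem L752248 : sm gd N54800 = N56211 := rfl
theorem L752250 : sm ga N56211 = N54803 := ded_12_1 (flp_d L737088) (flp_a L737046) L752248
theorem L752252 : sm gb N56211 = N54810 := ded_20_1 L737174 (flp_b L737048) L752248
theorem L752254 : sm gf N56211 = N54809 := ded_35_2 L737168 (flp_f L737054) L752248
theorem L752256 : sm gg N56211 = N55441 := ded_36_2 (flp_d L744345) (flp_g L737056) L752248
theorem L752258 : sm gj N56211 = N54811 := ded_37_2 L737187 (flp_j L737058) L752248
theorem L752260 : sm gi N56211 = N56211 := ded_39_2 (flp_d L752248) L737060 L752248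
theorem L752261 : sm gc N56211 = N55183 := ded_27_1 (flp_d L741655) L724667 (flp_d L719559) (flp_c L737050) L752248
theorem L752263 : sm gh N54801 = N56212 := rfl
theorem L752265 : sm ga N56212 = N55636 := ded_17_1 (flp_h L746279) (flp_a L737063) L752263
theorem L752267 : sm gb N56212 = N54805 := ded_25_1 (flp_h L737108) (flp_b L737065) L752263
theorem L752269 : sm gc N56212 = N55129 := ded_32_1 (flp_h L741029) (flp_c L737067) L752263
theorem L752271 : sm gf N56212 = N55133 := ded_47_1 (flp_h L741085) (flp_f L737070) L752263
theorem L752273 : sm gg N56212 = N55647 := ded_50_1 (flp_h L746362) (flp_g L737072) L752263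
theorem L752275 : sm gj N56212 = N55131 := ded_52_1 (flp_h L741059) (flp_j L737074) L752263
theorem L752277 : sm gi N56212 = N54802 := ded_54_2 (flp_h L737076) (flp_i L719371) L719356 L737061 L752263
theorem L752279 : sm gd N54802 = N56213 := rfl
theorem L752281 : sm gb N56213 = N54806 := ded_20_1 (flp_d L737122) (flp_b L737078) L752279
theorem L752283 : sm gf N56213 = N55493 := ded_35_2 (flp_d L744937) (flp_f L737082) L752279
theorem L752285 : sm gg N56213 = N55648 := ded_36_2 (flp_d L746369) (flp_g L737084) L752279
theorem L752287 : sm gj N56213 = N55488 := ded_37_2 (flp_d L744892) (flp_j L737086) L752279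
theorem L752289 : sm gc N56213 = N55743 := ded_27_1 (flp_d L747024) (flp_c L741700) L741708 (flp_c L737080) L752279
theorem L752291 : sm gh N56213 = N54803 := ded_38_2 (flp_d L737088) (flp_h L719385) (flp_d L719377) L737076 L752279
theorem L752293 : sm ge N54803 = N56214 := rfl
theorem L752295 : sm gb N56214 = N54807 := ded_21_1 (flp_e L737136) (flp_b L737090) L752293
theorem L752297 : sm gc N56214 = N55744 := ded_28_1 (flp_e L747032) (flp_c L737099) L752293
theorem L752299 : sm gg N56214 = N55649 := ded_41_2 (flp_e L746376) (flp_g L737094) L752293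
theorem L752301 : sm gj N56214 = N55494 := ded_42_2 (flp_e L744948) (flp_j L737096) L752293
theorem L752303 : sm gi N56214 = N56214 := ded_44_2 (flp_e L752293) L737098 L752293
theorem L752304 : sm gd N56214 = N54804 := ded_34_1 (flp_e L737101) (flp_d L719400) (flp_e L719391) L737088 L752293
theorem L752306 : sm gf N54804 = N56215 := rfl
theorem L752308 : sm ga N56215 = N55494 := ded_14_1 (flp_f L752190) L752181 L752306
theorem L752310 : sm gb N56215 = N54808 := ded_22_1 (flp_f L737149) (flp_b L737103) L752306
theorem L752312 : sm gc N56215 = N55184 := ded_29_1 (flp_f L750766) L750759 L752306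
theorem L752314 : sm gi N56215 = N56215 := ded_48_2 (flp_f L752306) L737107 L752306
theorem L752315 : sm ge N56215 = N54811 := ded_40_1 (flp_f L737179) (flp_e L719484) (flp_f L719404) L737101 L752306
theorem L752317 : sm gg N56215 = N55185 := ded_45_2 L741680 (flp_g L744216) L744219 (flp_g L737105) L752306
theorem L752319 : sm gd N54805 = N56216 := rfl
theorem L752321 : sm ga N56216 = N55556 := ded_12_1 (flp_d L745577) (flp_a L737110) L752319
theorem L752323 : sm gf N56216 = N55397 := ded_35_2 L743937 (flp_f L737114) L752319
theorem L752325 : sm gg N56216 = N55650 := ded_36_2 (flp_d L746383) (flp_g L737116) L752319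
theorem L752327 : sm gj N56216 = N55410 := ded_37_2 L744045 (flp_j L737118) L752319
theorem L752329 : sm gi N56216 = N54806 := ded_39_2 (flp_d L737122) (flp_i L737120) L752319
theorem L752331 : sm gc N56216 = N55568 := ded_27_1 (flp_d L745699) L729029 (flp_d L728022) (flp_c L737112) L752319
theorem L752333 : sm gh N56216 = N56216 := ded_38_2 (flp_d L752319) (flp_h L737108) L719415 L737108 L752319
theorem L752334 : sm ge N54806 = N56217 := rfl
theorem L752336 : sm ga N56217 = N55892 := ded_13_1 (flp_e L748029) (flp_a L737124) L752334
theorem L752338 : sm gc N56217 = N55599 := ded_28_1 (flp_e L745980) (flp_c L737132) L752334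
theorem L752340 : sm gg N56217 = N55651 := ded_41_2 (flp_e L746389) (flp_g L737128) L752334
theorem L752342 : sm gj N56217 = N55490 := ded_42_2 (flp_e L744906) (flp_j L737130) L752334
theorem L752344 : sm gh N56217 = N54807 := ded_43_2 (flp_e L737136) (flp_h L737134) L752334
theorem L752346 : sm gf N54807 = N56218 := rfl
theorem L752348 : sm ga N56218 = N55916 := ded_14_1 L748212 (flp_a L737138) L752346
theorem L752350 : sm gc N56218 = N55646 := ded_29_1 (flp_f L746355) (flp_c L737140) L752346
theorem L752352 : sm gd N56218 = N54808 := ded_35_1 (flp_f L737149) (flp_d L737147) L752346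
theorem L752354 : sm gj N56218 = N55495 := ded_46_2 (flp_f L744953) (flp_j L737144) L752346
theorem L752356 : sm gi N56218 = N56218 := ded_48_2 (flp_f L752346) L737146 L752346
theorem L752357 : sm ge N56218 = N55496 := ded_40_1 (flp_f L744962) (flp_e L728236) (flp_f L719438) L737136 L752346
theorem L752359 : sm gg N54808 = N56219 := rfl
theorem L752361 : sm ga N56219 = N55925 := ded_15_1 L748276 (flp_a L737151) L752359
theorem L752363 : sm gb N56219 = N55185 := ded_23_1 (flp_g L752317) L752310 L752359
theorem L752365 : sm ge N56219 = N54812 := ded_41_1 (flp_g L737192) (flp_e L737154) L752359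
theorem L752367 : sm gi N56219 = N56219 := ded_51_2 (flp_g L752359) L737153 L752359
theorem L752368 : sm gf N56219 = N55431 := ded_45_1 L744237 (flp_f L729881) (flp_g L719449) L737149 L752359
theorem L752370 : sm gj N55910 = N56219 := ded_24_0 L752363 L741677 (flp_b L748170)
theorem L752372 : sm gg N54810 = N56220 := rfl
theorem L752374 : sm ga N56220 = N55543 := ded_15_1 L745447 (flp_a L737172) L752372
theorem L752376 : sm gb N56220 = N55441 := ded_23_1 (flp_g L752256) L752252 L752372
theorem L752378 : sm gd N56220 = N55440 := ded_36_1 L744340 (flp_d L737174) L752372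
theorem L752380 : sm gi N56220 = N56220 := ded_51_2 (flp_g L752372) L737178 L752372
theorem L752381 : sm gf N56220 = N56220 := ded_45_1 (flp_g L752372) (flp_f L737170) L719478 L737170 L752372
theorem L752382 : sm gj N56220 = N55444 := ded_49_2 L744389 L737203 (flp_g L737192) (flp_j L737176) L752372
theorem L752384 : sm gd N54815 = N56221 := rfl
theorem L752386 : sm ga N56221 = N54821 := ded_12_1 (flp_d L737355) (flp_a L737247) L752384
theorem L752388 : sm gb N56221 = N54854 := ded_20_1 (flp_d L737822) (flp_b L737249) L752384
theorem L752390 : sm gf N56221 = N54852 := ded_35_2 (flp_d L737793) (flp_f L737255) L752384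
theorem L752392 : sm gg N56221 = N54823 := ded_36_2 (flp_d L737384) (flp_g L737257) L752384
theorem L752394 : sm gj N56221 = N54874 := ded_37_2 (flp_d L738107) (flp_j L737259) L752384
theorem L752396 : sm gi N56221 = N54818 := ded_39_2 (flp_d L737301) (flp_i L737261) L752384
theorem L752398 : sm gc N56221 = N54834 := ded_27_1 (flp_d L737570) L720113 (flp_d L719660) (flp_c L737251) L752384
theorem L752400 : sm ge N56221 = N54844 := ded_34_2 (flp_d L737700) L720331 (flp_d L719770) (flp_e L737253) L752384
theorem L752402 : sm gh N56221 = N56221 := ded_38_2 (flp_d L752384) (flp_h L737245) L719624 L737245 L752384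
theorem L752403 : sm gd N54816 = N56222 := rfl
theorem L752405 : sm ga N56222 = N54823 := ded_12_1 (flp_d L737384) (flp_a L737265) L752403
theorem L752407 : sm gb N56222 = N55454 := ded_20_1 (flp_d L744499) (flp_b L737267) L752403
theorem L752409 : sm gf N56222 = N55453 := ded_35_2 (flp_d L744486) (flp_f L737273) L752403
theorem L752411 : sm gg N56222 = N54821 := ded_36_2 (flp_d L737355) (flp_g L737275) L752403
theorem L752413 : sm gj N56222 = N54875 := ded_37_2 (flp_d L738122) (flp_j L737277) L752403
theorem L752415 : sm gi N56222 = N54819 := ded_39_2 (flp_d L737319) (flp_i L737279) L752403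
theorem L752417 : sm gc N56222 = N54843 := ded_27_1 (flp_d L737689) L720319 (flp_d L719770) (flp_c L737269) L752403
theorem L752419 : sm ge N56222 = N54835 := ded_34_2 (flp_d L737581) L720125 (flp_d L719660) (flp_e L737271) L752403
theorem L752421 : sm gh N56222 = N56222 := ded_38_2 (flp_d L752403) (flp_h L737263) L719641 L737263 L752403
theorem L752422 : sm gd N54820 = N56223 := rfl
theorem L752424 : sm ga N56223 = N54850 := ded_12_1 (flp_d L737771) (flp_a L737339) L752422
theorem L752426 : sm gb N56223 = N54821 := ded_20_1 (flp_d L737355) (flp_b L737341) L752422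
theorem L752428 : sm gf N56223 = N54843 := ded_35_2 (flp_d L737689) (flp_f L737347) L752422
theorem L752430 : sm gg N56223 = N55454 := ded_36_2 (flp_d L744499) (flp_g L737349) L752422
theorem L752432 : sm gj N56223 = N54909 := ded_37_2 (flp_d L738554) (flp_j L737351) L752422
theorem L752434 : sm gi N56223 = N54824 := ded_39_2 (flp_d L737393) (flp_i L737353) L752422
theorem L752436 : sm gc N56223 = N55453 := ded_27_1 (flp_d L744486) L727491 (flp_d L720293) (flp_c L737343) L752422
theorem L752438 : sm ge N56223 = N54829 := ded_34_2 (flp_d L737481) (flp_e L737289) L737297 (flp_e L737345) L752422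
theorem L752440 : sm gh N56223 = N56223 := ded_38_2 (flp_d L752422) (flp_h L737337) L719782 L737337 L752422
theorem L752441 : sm ge N54821 = N56224 := rfl
theorem L752443 : sm ga N56224 = N54844 := ded_13_1 (flp_e L752400) L752386 L752441
theorem L752445 : sm gb N56224 = N54829 := ded_21_1 (flp_e L752438) L752426 L752441
theorem L752447 : sm gc N56224 = N54847 := ded_28_1 (flp_e L737742) (flp_c L737363) L752441
theorem L752449 : sm gg N56224 = N54835 := ded_41_2 (flp_e L752419) L752411 L752441
theorem L752451 : sm gj N56224 = N54910 := ded_42_2 (flp_e L738569) (flp_j L737359) L752441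
theorem L752453 : sm gh N56224 = N56224 := ded_43_2 (flp_e L752441) L737365 L752441
theorem L752454 : sm gi N56224 = N54825 := ded_44_2 (flp_e L737411) (flp_i L737361) L752441
theorem L752456 : sm gd N56224 = N54828 := ded_34_1 L737471 (flp_d L737241) L737233 L737355 L752441
theorem L752458 : sm gf N54851 = N56224 := ded_55_3 (flp_e L752441) (flp_d L737355) (flp_b L737341) L737343 L720293 (flp_i L719842) (flp_h L719826) L700391 L678964 L656975 (flp_d L657032) (flp_b L673743) L673745 L673746 (flp_i L652184) (flp_h L354019) L243664 L243667 (flp_e L353991) (flp_d L652055) L652051 L358291 L358292 L246544 L246973 L358959 (flp_f L657689) L679747 L679751 (flp_b L694942) L694944 L673692 L673755 L695014 L714747 L714753 (flp_e L719741) (flp_d L719726) L700283 L690262 L668090 L382167 (flp_h L382159) (flp_d L374994) L637274 L261851 L180201 L180199 (flp_c L177176) L642786 (flp_i L241603) (flp_h L166589) (flp_d L643128) L84268 L643130 L114815 (flp_b L114802) L114804 (flp_d L643150) L96981 L592827 (flp_d L644823) L167506 L115623 L83840 L83836 L58070 L58073 L83873 (flp_h L121252) (flp_d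 L643787) L167213 L115567 (flp_d L115977) (flp_b L167981) (flp_c L243662) L243664 L243665 L243974 L642733 L185675 (flp_e L262259) (flp_d L381392) (flp_b L657738) (flp_c L679778) L679784 L701066 L720403 L737784
theorem L752460 : sm gd N54822 = N56225 := rfl
theorem L752462 : sm ga N56225 = N55453 := ded_12_1 (flp_d L744486) (flp_a L737368) L752460
theorem L752464 : sm gb N56225 = N54835 := ded_20_1 (flp_d L737581) (flp_b L737370) L752460
theorem L752466 : sm gf N56225 = N54823 := ded_35_2 (flp_d L737384) (flp_f L737376) L752460
theorem L752468 : sm gg N56225 = N54829 := ded_36_2 (flp_d L737481) (flp_g L737378) L752460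
theorem L752470 : sm gj N56225 = N54912 := ded_37_2 (flp_d L738600) (flp_j L737380) L752460
theorem L752472 : sm gi N56225 = N54826 := ded_39_2 (flp_d L737427) (flp_i L737382) L752460
theorem L752474 : sm gc N56225 = N54850 := ded_27_1 (flp_d L737771) (flp_c L737211) L737221 (flp_c L737372) L752460
theorem L752476 : sm ge N56225 = N55454 := ded_34_2 (flp_d L744499) L727507 (flp_d L719986) (flp_e L737374) L752460
theorem L752478 : sm gh N56225 = N56225 := ded_38_2 (flp_d L752460) (flp_h L737366) L719809 L737366 L752460
theorem L752479 : sm gc N54823 = N56226 := rfl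
theorem L752481 : sm ga N56226 = N54843 := ded_11_1 (flp_c L752417) L752405 L752479
theorem L752483 : sm ge N56226 = N54849 := ded_28_2 (flp_c L737764) (flp_e L737390) L752479
theorem L752485 : sm gf N56226 = N54850 := ded_29_2 (flp_c L752474) L752466 L752479
theorem L752487 : sm gg N56226 = N54834 := ded_30_2 (flp_c L752398) L752392 L752479
theorem L752489 : sm gj N56226 = N54913 := ded_31_2 (flp_c L738615) (flp_j L737386) L752479
theorem L752491 : sm gh N56226 = N56226 := ded_32_2 (flp_c L752479) L737392 L752479
theorem L752492 : sm gi N56226 = N54827 := ded_33_2 (flp_c L737445) (flp_i L737388) L752479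
theorem L752494 : sm gd N56226 = N54831 := ded_27_2 L737520 (flp_d L737241) L737231 L737384 L752479
theorem L752496 : sm gb N54838 = N56226 := ded_55_6 (flp_c L752479) (flp_d L737384) L719824 (flp_h L700463) L679046 (flp_f L679101) L679099 L657075 L358635 L246847 L170146 (flp_i L170141) (flp_h L117361) L81168 (flp_f L56260) (flp_e L39099) L27231 L19963 L19955 L15232 (flp_i L21787) L21786 L21781 L21782 L31293 L45052 L45056 (flp_c L589426) L45144 (flp_i L45140) (flp_h L31335) (flp_d L21801) L21811 L21822 (flp_d L31329) (flp_b L45086) (flp_c L65085) (flp_d L85655) L85659 L85850 L124361 L124363 L124379 (flp_d L170213) (flp_b L244004) (flp_c L350807) L350813 L651298 L673005 L694439 L694444 (flp_e L693652) (flp_d L671792) L649663 (flp_c L671678) L693558 L693565 L695083 L695074 L678573 (flp_e L700047) (flp_d L719570) L719566 L700225 L679046 (flp_i L657052) L358378 (flp_d L656993) L679030 L679040 (flp_d L657308) L358598 L246806 L246902 L358873 L657593 (flp_d L678873) L678869 L667739 L667742 L381621 (flp_c L667908) L690145 L690151 (flp_h L711172) (flp_d L711166) (flp_f L700826) (flp_e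 L720209) L737620
theorem L752498 : sm gd N54832 = N56227 := rfl
theorem L752500 : sm ga N56227 = N54851 := ded_12_1 (flp_d L737784) (flp_a L737534) L752498
theorem L752502 : sm gb N56227 = N54834 := ded_20_1 (flp_d L737570) (flp_b L737536) L752498
theorem L752504 : sm gf N56227 = N54844 := ded_35_2 (flp_d L737700) (flp_f L737542) L752498
theorem L752506 : sm gg N56227 = N54838 := ded_36_2 (flp_d L737620) (flp_g L737544) L752498
theorem L752508 : sm gj N56227 = N54978 := ded_37_2 (flp_d L739446) (flp_j L737546) L752498
theorem L752510 : sm gi N56227 = N54837 := ded_39_2 (flp_d L737608) (flp_i L737548) L752498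
theorem L752512 : sm gc N56227 = N54856 := ded_27_1 L737847 (flp_c L737417) L737425 (flp_c L737538) L752498
theorem L752514 : sm ge N56227 = N54855 := ded_34_2 L737840 (flp_e L737449) L737459 (flp_e L737540) L752498
theorem L752516 : sm gh N56227 = N56227 := ded_38_2 (flp_d L752498) (flp_h L737532) L720082 L737532 L752498
theorem L752517 : sm ge N54834 = N56228 := rfl
theorem L752519 : sm ga N56228 = N54847 := ded_13_1 (flp_e L737742) (flp_a L737572) L752517
theorem L752521 : sm gb N56228 = N54855 := ded_21_1 (flp_e L752514) L752502 L752517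
theorem L752523 : sm gc N56228 = N54844 := ded_28_1 (flp_e L752400) L752398 L752517
theorem L752525 : sm gg N56228 = N54849 := ded_41_2 (flp_e L752483) L752487 L752517
theorem L752527 : sm gj N56228 = N54979 := ded_42_2 (flp_e L739461) (flp_j L737576) L752517
theorem L752529 : sm gh N56228 = N56228 := ded_43_2 (flp_e L752517) L737580 L752517
theorem L752530 : sm gi N56228 = N54839 := ded_44_2 (flp_e L737631) (flp_i L737578) L752517
theorem L752532 : sm gd N56228 = N54857 := ded_34_1 L737857 (flp_d L737566) L737558 L737570 L752517
theorem L752534 : sm gf N56228 = N54856 := ded_40_2 (flp_e L737842) (flp_f L737826) L737832 (flp_f L737574) L752517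
theorem L752536 : sm gc N54835 = N56229 := rfl
theorem L752538 : sm ga N56229 = N54849 := ded_11_1 (flp_c L737764) (flp_a L737583) L752536
theorem L752540 : sm ge N56229 = N54843 := ded_28_2 (flp_c L752417) L752419 L752536
theorem L752542 : sm gf N56229 = N55656 := ded_29_2 (flp_c L748305) L748297 L752536
theorem L752544 : sm gg N56229 = N54847 := ded_30_2 (flp_c L752447) L752449 L752536
theorem L752546 : sm gj N56229 = N54980 := ded_31_2 (flp_c L739476) (flp_j L737585) L752536
theorem L752548 : sm gh N56229 = N56229 := ded_32_2 (flp_c L752536) L737589 L752536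
theorem L752549 : sm gi N56229 = N54840 := ded_33_2 (flp_c L737643) (flp_i L737587) L752536
theorem L752551 : sm gb N56229 = N55655 := ded_19_1 L746416 (flp_b L737773) (flp_c L752474) L752464 L752536
theorem L752553 : sm gd N56229 = N55657 := ded_27_2 L746432 (flp_d L737566) L737556 L737581 L752536
theorem L752555 : sm gc N54837 = N56230 := rfl
theorem L752557 : sm ga N56230 = N54857 := ded_11_1 (flp_c L748348) L748346 L752555
theorem L752559 : sm gf N56230 = N54839 := ded_29_2 L737635 (flp_f L737612) L752555
theorem L752561 : sm gg N56230 = N55657 := ded_30_2 L746432 (flp_g L737614) L752555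
theorem L752563 : sm gj N56230 = N55004 := ded_31_2 (flp_c L739738) (flp_j L737616) L752555
theorem L752565 : sm gh N56230 = N54841 := ded_32_2 (flp_c L737657) (flp_h L737618) L752555
theorem L752567 : sm gi N56230 = N54856 := ded_33_2 (flp_c L752512) L752510 L752555
theorem L752569 : sm gb N56230 = N55654 := ded_19_1 L746408 (flp_b L737305) L737313 (flp_b L737610) L752555
theorem L752571 : sm gd N56230 = N54847 := ded_27_2 (flp_c L752447) L752456 L737469 L737608 L752555
theorem L752573 : sm ge N54846 = N56230 := ded_13_0 L752557 L737857 (flp_a L737730)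
theorem L752575 : sm ge N54837 = N56231 := rfl
theorem L752577 : sm ga N56231 = N55657 := ded_13_1 (flp_e L748334) L748346 L752575
theorem L752579 : sm gb N56231 = N54839 := ded_21_1 (flp_e L737631) (flp_b L737610) L752575
theorem L752581 : sm gc N56231 = N54846 := ded_28_1 L752573 (flp_c L752555) L752575
theorem L752583 : sm gg N56231 = N54857 := ded_41_2 L737857 (flp_g L737614) L752575
theorem L752585 : sm gj N56231 = N55005 := ded_42_2 (flp_e L739754) (flp_j L737616) L752575
theorem L752587 : sm gh N56231 = N54842 := ded_43_2 (flp_e L737673) (flp_h L737618) L752575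
theorem L752589 : sm gi N56231 = N54855 := ded_44_2 (flp_e L752514) L752510 L752575
theorem L752591 : sm gd N56231 = N54849 := ded_34_1 (flp_e L752483) L752494 L737522 L737608 L752575
theorem L752593 : sm gf N56231 = N55654 := ded_40_2 (flp_e L746404) (flp_f L737307) L737315 (flp_f L737612) L752575
theorem L752595 : sm gc N54838 = N56232 := rfl
theorem L752597 : sm ga N56232 = N54855 := ded_11_1 (flp_c L737835) (flp_a L737622) L752595
theorem L752599 : sm gf N56232 = N55655 := ded_29_2 L746416 (flp_f L737624) L752595
theorem L752601 : sm gg N56232 = N54856 := ded_30_2 (flp_c L752512) L752506 L752595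
theorem L752603 : sm gj N56232 = N55006 := ded_31_2 (flp_c L739770) (flp_j L737626) L752595
theorem L752605 : sm gh N56232 = N56232 := ded_32_2 (flp_c L752595) L737630 L752595
theorem L752606 : sm gi N56232 = N55657 := ded_33_2 L746432 (flp_i L737628) L752595
theorem L752608 : sm gb N56232 = N55656 := ded_19_1 (flp_c L748305) L748295 L752479 (flp_b L752496) L752595
theorem L752610 : sm gd N56232 = N54840 := ded_27_2 (flp_c L737643) (flp_d L720223) (flp_c L720207) L737620 L752595
theorem L752612 : sm ge N54851 = N56232 := ded_13_0 L752597 (flp_e L752514) L752500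
theorem L752614 : sm ge N54838 = N56233 := rfl
theorem L752616 : sm ga N56233 = N54856 := ded_13_1 (flp_e L737842) (flp_a L737622) L752614
theorem L752618 : sm gb N56233 = N54849 := ded_21_1 (flp_e L752483) (flp_b L752496) L752614
theorem L752620 : sm gc N56233 = N54851 := ded_28_1 L752612 (flp_c L752595) L752614
theorem L752622 : sm gg N56233 = N54855 := ded_41_2 (flp_e L752514) L752506 L752614
theorem L752624 : sm gj N56233 = N55007 := ded_42_2 (flp_e L739785) (flp_j L737626) L752614
theorem L752626 : sm gh N56233 = N56233 := ded_43_2 (flp_e L752614) L737630 L752614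
theorem L752627 : sm gi N56233 = N54857 := ded_44_2 L737857 (flp_i L737628) L752614
theorem L752629 : sm gd N56233 = N54839 := ded_34_1 (flp_e L737631) (flp_d L720213) (flp_e L720209) L737620 L752614
theorem L752631 : sm gf N56233 = N54847 := ded_40_2 (flp_e L737742) L720371 L729979 (flp_f L737624) L752614
theorem L752633 : sm ge N54845 = N56234 := rfl
theorem L752635 : sm ga N56234 = N55656 := ded_13_1 (flp_e L746423) (flp_a L737713) L752633
theorem L752637 : sm gb N56234 = N54847 := ded_21_1 (flp_e L737742) (flp_b L737715) L752633
theorem L752639 : sm gc N56234 = N54848 := ded_28_1 L737761 (flp_c L737725) L752633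
theorem L752641 : sm gg N56234 = N55655 := ded_41_2 (flp_e L746414) (flp_g L737719) L752633
theorem L752643 : sm gj N56234 = N55057 := ded_42_2 (flp_e L740316) (flp_j L737721) L752633
theorem L752645 : sm gh N56234 = N56234 := ded_43_2 (flp_e L752633) L737727 L752633
theorem L752646 : sm gi N56234 = N54853 := ded_44_2 (flp_e L737808) (flp_i L737723) L752633
theorem L752648 : sm gd N56234 = N55654 := ded_34_1 (flp_e L746404) (flp_d L729892) (flp_e L720347) L737711 L752633
theorem L752650 : sm gf N56234 = N54849 := ded_40_2 (flp_e L752483) L752485 L737781 (flp_f L737717) L752633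
theorem L752652 : sm ge N54852 = N56235 := rfl
theorem L752654 : sm ga N56235 = N55655 := ded_13_1 (flp_e L746414) (flp_a L737795) L752652
theorem L752656 : sm gb N56235 = N54856 := ded_21_1 (flp_e L737842) (flp_b L737797) L752652
theorem L752658 : sm gc N56235 = N54854 := ded_28_1 L737832 (flp_c L737805) L752652
theorem L752660 : sm gg N56235 = N55656 := ded_41_2 (flp_e L746423) (flp_g L737799) L752652
theorem L752662 : sm gj N56235 = N55106 := ded_42_2 (flp_e L740793) (flp_j L737801) L752652
theorem L752664 : sm gh N56235 = N56235 := ded_43_2 (flp_e L752652) L737807 L752652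
theorem L752665 : sm gi N56235 = N55654 := ded_44_2 (flp_e L746404) (flp_i L737803) L752652
theorem L752667 : sm gd N56235 = N54853 := ded_34_1 (flp_e L737808) (flp_d L720467) (flp_e L720459) L737793 L752652
theorem L752669 : sm gf N56235 = N54855 := ded_40_2 (flp_e L752514) L752504 (flp_e L752400) L752390 L752652
theorem L752671 : sm gi N54858 = N56236 := rfl
theorem L752673 : sm ga N56236 = N55029 := ded_18_1 (flp_i L740023) (flp_a L737861) L752671
theorem L752675 : sm gb N56236 = N54878 := ded_26_1 (flp_i L738171) (flp_b L737863) L752671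
theorem L752677 : sm gc N56236 = N55059 := ded_33_1 (flp_i L740342) (flp_c L737865) L752671
theorem L752679 : sm gd N56236 = N55128 := ded_39_1 (flp_i L741019) (flp_d L737873) L752671
theorem L752681 : sm ge N56236 = N54859 := ded_44_1 (flp_i L737877) L737859 L752671
theorem L752683 : sm gf N56236 = N54917 := ded_48_1 (flp_i L738668) (flp_f L737875) L752671
theorem L752685 : sm gg N56236 = N54961 := ded_51_1 (flp_i L739236) (flp_g L737867) L752671
theorem L752687 : sm gj N56236 = N54860 := ded_53_1 (flp_i L737891) (flp_j L737869) L752671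
theorem L752689 : sm gh N54859 = N56237 := rfl
theorem L752691 : sm ga N56237 = N55030 := ded_17_1 (flp_h L740035) (flp_a L737879) L752689
theorem L752693 : sm gb N56237 = N54879 := ded_25_1 (flp_h L738185) (flp_b L737881) L752689
theorem L752695 : sm gf N56237 = N54862 := ded_47_1 (flp_h L737921) (flp_f L737885) L752689
theorem L752697 : sm gg N56237 = N54962 := ded_50_1 (flp_h L739244) (flp_g L737887) L752689
theorem L752699 : sm gj N56237 = N54861 := ded_52_1 (flp_h L737907) (flp_j L737889) L752689
theorem L752701 : sm gd N56237 = N54943 := ded_38_1 (flp_h L738997) L721830 (flp_h L720601) (flp_d L737883) L752689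
theorem L752703 : sm gi N56237 = N54982 := ded_54_2 (flp_h L739503) (flp_i L722262) (flp_h L720584) L737877 L752689
theorem L752705 : sm gh N54860 = N56238 := rfl
theorem L752707 : sm ga N56238 = N55471 := ded_17_1 (flp_h L744701) (flp_a L737893) L752705
theorem L752709 : sm gb N56238 = N54883 := ded_25_1 (flp_h L738243) (flp_b L737895) L752705
theorem L752711 : sm gc N56238 = N55714 := ded_32_1 (flp_h L746851) (flp_c L737897) L752705
theorem L752713 : sm ge N56238 = N54861 := ded_43_1 (flp_h L737907) (flp_e L737901) L752705
theorem L752715 : sm gf N56238 = N55712 := ded_47_1 (flp_h L746833) (flp_f L737903) L752705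
theorem L752717 : sm gg N56238 = N55458 := ded_50_1 (flp_h L744552) (flp_g L737905) L752705
theorem L752719 : sm gi N56238 = N55696 := ded_54_2 (flp_h L746736) (flp_i L730396) (flp_h L720613) L737891 L752705
theorem L752721 : sm gi N54863 = N56239 := rfl
theorem L752723 : sm ga N56239 = N54894 := ded_18_1 (flp_i L738385) (flp_a L737937) L752721
theorem L752725 : sm gb N56239 = N54981 := ded_26_1 (flp_i L739491) (flp_b L737939) L752721
theorem L752727 : sm gc N56239 = N54902 := ded_33_1 (flp_i L738489) (flp_c L737941) L752721
theorem L752729 : sm gd N56239 = N55189 := ded_39_1 (flp_i L741722) (flp_d L737949) L752721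
theorem L752731 : sm ge N56239 = N54864 := ded_44_1 (flp_i L737953) L737935 L752721
theorem L752733 : sm gf N56239 = N54899 := ded_48_1 (flp_i L738453) (flp_f L737951) L752721
theorem L752735 : sm gg N56239 = N54942 := ded_51_1 (flp_i L738983) (flp_g L737943) L752721
theorem L752737 : sm gj N56239 = N54868 := ded_53_1 (flp_i L738018) (flp_j L737945) L752721
theorem L752739 : sm gh N54864 = N56240 := rfl
theorem L752741 : sm ga N56240 = N54895 := ded_17_1 (flp_h L738395) (flp_a L737955) L752739
theorem L752743 : sm gb N56240 = N54982 := ded_25_1 (flp_h L739503) (flp_b L737957) L752739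
theorem L752745 : sm gc N56240 = N54907 := ded_32_1 (flp_h L738539) (flp_c L737959) L752739
theorem L752747 : sm gf N56240 = N54870 := ded_47_1 (flp_h L738044) (flp_f L737963) L752739
theorem L752749 : sm gg N56240 = N54943 := ded_50_1 (flp_h L738997) (flp_g L737965) L752739
theorem L752751 : sm gj N56240 = N54869 := ded_52_1 (flp_h L738030) (flp_j L737967) L752739
theorem L752753 : sm gd N56240 = N54962 := ded_38_1 (flp_h L739244) L722041 (flp_h L720686) (flp_d L737961) L752739
theorem L752755 : sm gi N56240 = N54879 := ded_54_2 (flp_h L738185) (flp_i L720870) (flp_h L720667) L737953 L752739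
theorem L752757 : sm gi N54865 = N56241 := rfl
theorem L752759 : sm ga N56241 = N54899 := ded_18_1 (flp_i L738453) (flp_a L737971) L752757
theorem L752761 : sm gb N56241 = N55082 := ded_26_1 (flp_i L740598) (flp_b L737973) L752757
theorem L752763 : sm gc N56241 = N54868 := ded_33_1 (flp_i L738018) (flp_c L737975) L752757
theorem L752765 : sm ge N56241 = N54866 := ded_44_1 (flp_i L737985) L737969 L752757
theorem L752767 : sm gf N56241 = N54894 := ded_48_1 (flp_i L738385) (flp_f L737983) L752757
theorem L752769 : sm gg N56241 = N55075 := ded_51_1 (flp_i L740526) (flp_g L737977) L752757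
theorem L752771 : sm gj N56241 = N54902 := ded_53_1 (flp_i L738489) (flp_j L737979) L752757
theorem L752773 : sm gh N54866 = N56242 := rfl
theorem L752775 : sm ga N56242 = N54900 := ded_17_1 (flp_h L738461) (flp_a L737987) L752773
theorem L752777 : sm gb N56242 = N55096 := ded_25_1 (flp_h L740726) (flp_b L737989) L752773
theorem L752779 : sm gc N56242 = N54869 := ded_32_1 (flp_h L738030) (flp_c L737991) L752773
theorem L752781 : sm gf N56242 = N54871 := ded_47_1 (flp_h L738060) (flp_f L737994) L752773
theorem L752783 : sm gg N56242 = N55093 := ded_50_1 (flp_h L740685) (flp_g L737996) L752773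
theorem L752785 : sm gj N56242 = N54907 := ded_52_1 (flp_h L738539) (flp_j L737998) L752773
theorem L752787 : sm gi N56242 = N54881 := ded_54_2 (flp_h L738213) (flp_i L720896) (flp_h L720698) L737985 L752773
theorem L752789 : sm gi N54867 = N56243 := rfl
theorem L752791 : sm ga N56243 = N54902 := ded_18_1 (flp_i L738489) (flp_a L738002) L752789
theorem L752793 : sm gb N56243 = N55468 := ded_26_1 (flp_i L744673) (flp_b L738004) L752789
theorem L752795 : sm gc N56243 = N54894 := ded_33_1 (flp_i L738385) (flp_c L738006) L752789
theorem L752797 : sm gd N56243 = N55760 := ded_39_1 (flp_i L747142) (flp_d L738008) L752789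
theorem L752799 : sm ge N56243 = N54872 := ded_44_1 (flp_i L738076) (flp_e L738014) L752789
theorem L752801 : sm gf N56243 = N54868 := ded_48_1 (flp_i L738018) L738000 L752789
theorem L752803 : sm gg N56243 = N55464 := ded_51_1 (flp_i L744620) (flp_g L738016) L752789
theorem L752805 : sm gj N56243 = N54899 := ded_53_1 (flp_i L738453) (flp_j L738010) L752789
theorem L752807 : sm gh N54868 = N56244 := rfl
theorem L752809 : sm ga N56244 = N54903 := ded_17_1 (flp_h L738495) (flp_a L738020) L752807
theorem L752811 : sm gb N56244 = N55696 := ded_25_1 (flp_h L746736) (flp_b L738022) L752807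
theorem L752813 : sm ge N56244 = N54869 := ded_43_1 (flp_h L738030) (flp_e L738026) L752807
theorem L752815 : sm gg N56244 = N55658 := ded_50_1 (flp_h L746438) (flp_g L738028) L752807
theorem L752817 : sm gi N56244 = N54883 := ded_54_2 (flp_h L738243) (flp_i L720926) (flp_h L720711) L738018 L752807
theorem L752819 : sm gd N54871 = N56245 := rfl
theorem L752821 : sm ga N56245 = N54905 := ded_12_1 (flp_d L738515) (flp_a L738062) L752819
theorem L752823 : sm gb N56245 = N55107 := ded_20_1 (flp_d L740808) (flp_b L738064) L752819
theorem L752825 : sm gg N56245 = N54874 := ded_36_2 (flp_d L738107) (flp_g L738070) L752819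
theorem L752827 : sm gj N56245 = N54908 := ded_37_2 (flp_d L738545) (flp_j L738072) L752819
theorem L752829 : sm gi N56245 = N54884 := ded_39_2 (flp_d L738251) (flp_i L738074) L752819
theorem L752831 : sm gc N56245 = N54975 := ded_27_1 (flp_d L739420) L722183 (flp_d L720792) (flp_c L738066) L752819
theorem L752833 : sm ge N56245 = N55049 := ded_34_2 (flp_d L740239) L723009 (flp_d L721221) (flp_e L738068) L752819
theorem L752835 : sm gh N56245 = N56245 := ded_38_2 (flp_d L752819) (flp_h L738060) L720749 L738060 L752819
theorem L752836 : sm gh N54872 = N56246 := rfl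
theorem L752838 : sm ga N56246 = N54907 := ded_17_1 (flp_h L738539) (flp_a L738078) L752836
theorem L752840 : sm gb N56246 = N55476 := ded_25_1 (flp_h L744750) (flp_b L738080) L752836
theorem L752842 : sm gc N56246 = N54895 := ded_32_1 (flp_h L738395) (flp_c L738082) L752836
theorem L752844 : sm gf N56246 = N54873 := ded_47_1 (flp_h L738091) (flp_f L738085) L752836
theorem L752846 : sm gg N56246 = N55474 := ded_50_1 (flp_h L744727) (flp_g L738087) L752836
theorem L752848 : sm gj N56246 = N54900 := ded_52_1 (flp_h L738461) (flp_j L738089) L752836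
theorem L752850 : sm gi N56246 = N54885 := ded_54_2 (flp_h L738267) (flp_i L720972) (flp_h L720767) L738076 L752836
theorem L752852 : sm gd N54873 = N56247 := rfl
theorem L752854 : sm ga N56247 = N54908 := ded_12_1 (flp_d L738545) (flp_a L738093) L752852
theorem L752856 : sm gb N56247 = N55478 := ded_20_1 (flp_d L744769) (flp_b L738095) L752852
theorem L752858 : sm gg N56247 = N54875 := ded_36_2 (flp_d L738122) (flp_g L738101) L752852
theorem L752860 : sm gj N56247 = N54905 := ded_37_2 (flp_d L738515) (flp_j L738103) L752852
theorem L752862 : sm gi N56247 = N54886 := ded_39_2 (flp_d L738281) (flp_i L738105) L752852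
theorem L752864 : sm gc N56247 = N55047 := ded_27_1 (flp_d L740218) L722988 (flp_d L721221) (flp_c L738097) L752852
theorem L752866 : sm ge N56247 = N54977 := ded_34_2 (flp_d L739437) L722200 (flp_d L720792) (flp_e L738099) L752852
theorem L752868 : sm gh N56247 = N56247 := ded_38_2 (flp_d L752852) (flp_h L738091) L720779 L738091 L752852
theorem L752869 : sm gi N54876 = N56248 := rfl
theorem L752871 : sm ga N56248 = N54914 := ded_18_1 (flp_i L738630) (flp_a L738139) L752869
theorem L752873 : sm gb N56248 = N54961 := ded_26_1 (flp_i L739236) (flp_b L738141) L752869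
theorem L752875 : sm gc N56248 = N54922 := ded_33_1 (flp_i L738726) (flp_c L738143) L752869
theorem L752877 : sm gd N56248 = N55135 := ded_39_1 (flp_i L741115) (flp_d L738151) L752869
theorem L752879 : sm ge N56248 = N54877 := ded_44_1 (flp_i L738155) L738137 L752869
theorem L752881 : sm gf N56248 = N54947 := ded_48_1 (flp_i L739053) (flp_f L738153) L752869
theorem L752883 : sm gg N56248 = N54878 := ded_51_1 (flp_i L738171) (flp_g L738145) L752869
theorem L752885 : sm gj N56248 = N54940 := ded_53_1 (flp_i L738953) (flp_j L738147) L752869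
theorem L752887 : sm gh N54877 = N56249 := rfl
theorem L752889 : sm ga N56249 = N54915 := ded_17_1 (flp_h L738646) (flp_a L738157) L752887
theorem L752891 : sm gb N56249 = N54962 := ded_25_1 (flp_h L739244) (flp_b L738159) L752887
theorem L752893 : sm gc N56249 = N54927 := ded_32_1 (flp_h L738788) (flp_c L738161) L752887
theorem L752895 : sm gf N56249 = N54930 := ded_47_1 (flp_h L738822) (flp_f L738165) L752887
theorem L752897 : sm gg N56249 = N54879 := ded_50_1 (flp_h L738185) (flp_g L738167) L752887
theorem L752899 : sm gj N56249 = N54941 := ded_52_1 (flp_h L738967) (flp_j L738169) L752887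
theorem L752901 : sm gd N56249 = N54982 := ded_38_1 (flp_h L739503) L722266 (flp_h L720856) (flp_d L738163) L752887
theorem L752903 : sm gi N56249 = N54943 := ded_54_2 (flp_h L738997) (flp_i L721824) (flp_h L720838) L738155 L752887
theorem L752905 : sm gh N54878 = N56250 := rfl
theorem L752907 : sm ga N56250 = N54916 := ded_17_1 (flp_h L738662) (flp_a L738173) L752905
theorem L752909 : sm gc N56250 = N54923 := ded_32_1 (flp_h L738742) (flp_c L738175) L752905
theorem L752911 : sm ge N56250 = N54879 := ded_43_1 (flp_h L738185) (flp_e L738179) L752905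
theorem L752913 : sm gf N56250 = N54920 := ded_47_1 (flp_h L738708) (flp_f L738181) L752905
theorem L752915 : sm gj N56250 = N54883 := ded_52_1 (flp_h L738243) (flp_j L738183) L752905
theorem L752917 : sm gh N54880 = N56251 := rfl
theorem L752919 : sm ga N56251 = N54920 := ded_17_1 (flp_h L738708) (flp_a L738199) L752917
theorem L752921 : sm gc N56251 = N54883 := ded_32_1 (flp_h L738243) (flp_c L738201) L752917
theorem L752923 : sm ge N56251 = N54881 := ded_43_1 (flp_h L738213) (flp_e L738205) L752917
theorem L752925 : sm gf N56251 = N54916 := ded_47_1 (flp_h L738662) (flp_f L738207) L752917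
theorem L752927 : sm gg N56251 = N55660 := ded_50_1 (flp_h L746466) (flp_g L738209) L752917
theorem L752929 : sm gj N56251 = N54923 := ded_52_1 (flp_h L738742) (flp_j L738211) L752917
theorem L752931 : sm gd N54881 = N56252 := rfl
theorem L752933 : sm ga N56252 = N54921 := ded_12_1 (flp_d L738716) (flp_a L738215) L752931
theorem L752935 : sm gb N56252 = N55701 := ded_20_1 (flp_d L748523) L748513 L752931
theorem L752937 : sm gf N56252 = N54884 := ded_35_2 (flp_d L738251) (flp_f L738219) L752931
theorem L752939 : sm gg N56252 = N55661 := ded_36_2 (flp_d L746474) (flp_g L738221) L752931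
theorem L752941 : sm gj N56252 = N54928 := ded_37_2 (flp_d L738800) (flp_j L738223) L752931
theorem L752943 : sm gc N56252 = N54993 := ded_27_1 (flp_d L739625) L722378 (flp_d L720944) (flp_c L738217) L752931
theorem L752945 : sm gh N56252 = N54888 := ded_38_2 (flp_d L738312) (flp_h L721074) (flp_d L720902) L738213 L752931
theorem L752947 : sm gh N54882 = N56253 := rfl
theorem L752949 : sm ga N56253 = N54923 := ded_17_1 (flp_h L738742) (flp_a L738227) L752947
theorem L752951 : sm gb N56253 = N55712 := ded_25_1 (flp_h L746833) (flp_b L738229) L752947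
theorem L752953 : sm gc N56253 = N54916 := ded_32_1 (flp_h L738662) (flp_c L738231) L752947
theorem L752955 : sm ge N56253 = N54885 := ded_43_1 (flp_h L738267) (flp_e L738235) L752947
theorem L752957 : sm gf N56253 = N54883 := ded_47_1 (flp_h L738243) (flp_f L738237) L752947
theorem L752959 : sm gg N56253 = N55716 := ded_50_1 (flp_h L746861) (flp_g L738239) L752947
theorem L752961 : sm gj N56253 = N54920 := ded_52_1 (flp_h L738708) (flp_j L738241) L752947
theorem L752963 : sm gd N54883 = N56254 := rfl
theorem L752965 : sm ga N56254 = N54924 := ded_12_1 (flp_d L738748) (flp_a L738245) L752963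
theorem L752967 : sm gg N56254 = N55662 := ded_36_2 (flp_d L746484) (flp_g L738249) L752963
theorem L752969 : sm ge N56254 = N54995 := ded_34_2 (flp_d L739643) L722398 (flp_d L720944) (flp_e L738247) L752963
theorem L752971 : sm gh N56254 = N55139 := ded_38_2 (flp_d L741166) (flp_h L724071) (flp_d L720930) L738243 L752963
theorem L752973 : sm gd N54885 = N56255 := rfl
theorem L752975 : sm ga N56255 = N54928 := ded_12_1 (flp_d L738800) (flp_a L738269) L752973
theorem L752977 : sm gb N56255 = N55713 := ded_20_1 (flp_d L746841) (flp_b L738271) L752973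
theorem L752979 : sm gf N56255 = N54886 := ded_35_2 (flp_d L738281) (flp_f L738275) L752973
theorem L752981 : sm gg N56255 = N55717 := ded_36_2 (flp_d L746869) (flp_g L738277) L752973
theorem L752983 : sm gj N56255 = N54921 := ded_37_2 (flp_d L738716) (flp_j L738279) L752973
theorem L752985 : sm gc N56255 = N55066 := ded_27_1 (flp_d L740417) L723190 (flp_d L721383) (flp_c L738273) L752973
theorem L752987 : sm gh N56255 = N54887 := ded_38_2 (flp_d L738297) (flp_h L721042) (flp_d L720980) L738267 L752973
theorem L752989 : sm ge N54887 = N56256 := rfl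
theorem L752991 : sm ga N56256 = N54934 := ded_13_1 (flp_e L738884) (flp_a L738299) L752989
theorem L752993 : sm gb N56256 = N55740 := ded_21_1 (flp_e L747005) (flp_b L738301) L752989
theorem L752995 : sm gc N56256 = N55116 := ded_28_1 (flp_e L740895) (flp_c L738310) L752989
theorem L752997 : sm gg N56256 = N55741 := ded_41_2 (flp_e L747012) (flp_g L738305) L752989
theorem L752999 : sm gj N56256 = N54938 := ded_42_2 (flp_e L738933) (flp_j L738307) L752989
theorem L753001 : sm gi N56256 = N56256 := ded_44_2 (flp_e L752989) L738309 L752989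
theorem L753002 : sm gd N56256 = N55142 := ded_34_1 (flp_e L741201) (flp_d L724130) (flp_e L721050) L738297 L752989
theorem L753004 : sm gf N56256 = N55010 := ded_40_2 (flp_e L739828) L722591 (flp_e L721072) (flp_f L738303) L752989
theorem L753006 : sm ge N54888 = N56257 := rfl
theorem L753008 : sm ga N56257 = N54938 := ded_13_1 (flp_e L738933) (flp_a L738314) L753006
theorem L753010 : sm gb N56257 = N55702 := ded_21_1 L746779 (flp_b L738316) L753006
theorem L753012 : sm gc N56257 = N55012 := ded_28_1 (flp_e L739846) (flp_c L738325) L753006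
theorem L753014 : sm gg N56257 = N55665 := ded_41_2 (flp_e L746513) (flp_g L738320) L753006
theorem L753016 : sm gj N56257 = N54934 := ded_42_2 (flp_e L738884) (flp_j L738322) L753006
theorem L753018 : sm gi N56257 = N56257 := ded_44_2 (flp_e L753006) L738324 L753006
theorem L753019 : sm gd N56257 = N55182 := ded_34_1 (flp_e L741646) (flp_d L724652) (flp_e L721082) L738312 L753006
theorem L753021 : sm gf N56257 = N55108 := ded_40_2 (flp_e L740819) L723619 (flp_e L721104) (flp_f L738318) L753006
theorem L753023 : sm gd N54889 = N56258 := rfl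
theorem L753025 : sm ga N56258 = N55667 := ded_12_1 L746533 (flp_a L738329) L753023
theorem L753027 : sm gb N56258 = N55078 := ded_20_1 (flp_d L749248) L749244 L753023
theorem L753029 : sm gg N56258 = N55143 := ded_36_2 L741214 (flp_g L738333) L753023
theorem L753031 : sm gj N56258 = N55674 := ded_37_2 (flp_d L750181) L750177 L753023
theorem L753033 : sm gc N56258 = N54898 := ded_27_1 (flp_d L738440) L721176 (flp_d L721126) (flp_c L738331) L753023
theorem L753035 : sm ge N56258 = N56258 := ded_34_2 (flp_d L753023) (flp_e L738327) L721115 L738327 L753023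
theorem L753036 : sm gh N56258 = N55072 := ded_38_2 L740495 L723264 (flp_d L724162) (flp_h L738335) L753023
theorem L753038 : sm gf N55073 = N56258 := ded_14_0 L753025 L750183 L750169
theorem L753040 : sm gf N54889 = N56259 := rfl
theorem L753042 : sm ga N56259 = N55674 := ded_14_1 L746585 (flp_a L738329) L753040
theorem L753044 : sm gb N56259 = N55039 := ded_22_1 (flp_f L749254) L749244 L753040
theorem L753046 : sm gc N56259 = N54891 := ded_29_1 (flp_f L738347) (flp_c L738331) L753040
theorem L753048 : sm gd N56259 = N55073 := ded_35_1 L753038 (flp_d L753023) L753040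
theorem L753050 : sm gj N56259 = N55667 := ded_46_2 L750183 L750177 L753040
theorem L753052 : sm gh N56259 = N55036 := ded_47_2 L740108 (flp_h L738335) L753040
theorem L753054 : sm ge N56259 = N56259 := ded_40_1 (flp_f L753040) (flp_e L738327) L721110 L738327 L753040
theorem L753055 : sm gg N56259 = N55150 := ded_45_2 (flp_f L741276) L724207 L724226 (flp_g L738333) L753040
theorem L753057 : sm gi N54889 = N56260 := rfl
theorem L753059 : sm ga N56260 = N55676 := ded_18_1 (flp_i L746598) (flp_a L738329) L753057
theorem L753061 : sm gc N56260 = N54892 := ded_33_1 (flp_i L738360) (flp_c L738331) L753057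
theorem L753063 : sm ge N56260 = N54890 := ded_44_1 (flp_i L738337) L738327 L753057
theorem L753065 : sm gg N56260 = N55153 := ded_51_1 (flp_i L741318) (flp_g L738333) L753057
theorem L753067 : sm gh N54890 = N56261 := rfl
theorem L753069 : sm ga N56261 = N55687 := ded_17_1 (flp_h L746666) (flp_a L738339) L753067
theorem L753071 : sm gc N56261 = N54893 := ded_32_1 (flp_h L738372) (flp_c L738341) L753067
theorem L753073 : sm gf N56261 = N56261 := ded_47_1 (flp_h L753067) L738344 L753067
theorem L753074 : sm gg N56261 = N55157 := ded_50_1 (flp_h L741364) (flp_g L738345) L753067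
theorem L753076 : sm gi N56261 = N55147 := ded_54_2 (flp_h L741250) (flp_i L724164) (flp_h L721113) L738337 L753067
theorem L753078 : sm gi N54891 = N56262 := rfl
theorem L753080 : sm ga N56262 = N55760 := ded_18_1 (flp_i L747142) (flp_a L738349) L753078
theorem L753082 : sm gb N56262 = N55508 := ded_26_1 (flp_i L745095) (flp_b L738351) L753078
theorem L753084 : sm gd N56262 = N54902 := ded_39_1 (flp_i L738489) (flp_d L738353) L753078
theorem L753086 : sm ge N56262 = N56262 := ded_44_1 (flp_i L753078) L738357 L753078
theorem L753087 : sm gf N56262 = N54892 := ded_48_1 (flp_i L738360) L738347 L753078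
theorem L753089 : sm gg N56262 = N55749 := ded_51_1 (flp_i L747062) (flp_g L738358) L753078
theorem L753091 : sm gh N54892 = N56263 := rfl
theorem L753093 : sm ga N56263 = N55769 := ded_17_1 (flp_h L747211) (flp_a L738362) L753091
theorem L753095 : sm gb N56263 = N55509 := ded_25_1 (flp_h L745102) (flp_b L738364) L753091
theorem L753097 : sm ge N56263 = N54893 := ded_43_1 (flp_h L738372) (flp_e L738368) L753091
theorem L753099 : sm gg N56263 = N55497 := ded_50_1 (flp_h L744973) (flp_g L738370) L753091
theorem L753101 : sm gi N56263 = N55149 := ded_54_2 (flp_h L741268) (flp_i L724182) (flp_h L721124) L738360 L753091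
theorem L753103 : sm gh N54894 = N56264 := rfl
theorem L753105 : sm gb N56264 = N55729 := ded_25_1 (flp_h L746945) (flp_b L738387) L753103
theorem L753107 : sm ge N56264 = N54895 := ded_43_1 (flp_h L738395) (flp_e L738389) L753103
theorem L753109 : sm gg N56264 = N55724 := ded_50_1 (flp_h L746915) (flp_g L738391) L753103
theorem L753111 : sm gj N56264 = N54903 := ded_52_1 (flp_h L738495) (flp_j L738393) L753103
theorem L753113 : sm gi N56264 = N54916 := ded_54_2 (flp_h L738662) (flp_i L721369) (flp_h L721147) L738385 L753103
theorem L753115 : sm gi N54896 = N56265 := rfl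
theorem L753117 : sm ga N56265 = N55059 := ded_18_1 (flp_i L740342) (flp_a L738411) L753115
theorem L753119 : sm gb N56265 = N54899 := ded_26_1 (flp_i L738453) (flp_b L738413) L753115
theorem L753121 : sm gc N56265 = N55029 := ded_33_1 (flp_i L740023) (flp_c L738415) L753115
theorem L753123 : sm gd N56265 = N55223 := ded_39_1 (flp_i L742122) L738425 L753115
theorem L753125 : sm ge N56265 = N54897 := ded_44_1 (flp_i L738427) L738409 L753115
theorem L753127 : sm gf N56265 = N54981 := ded_48_1 (flp_i L739491) (flp_f L738423) L753115
theorem L753129 : sm gg N56265 = N55032 := ded_51_1 (flp_i L740062) (flp_g L738417) L753115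
theorem L753131 : sm gj N56265 = N55468 := ded_53_1 (flp_i L744673) (flp_j L738419) L753115
theorem L753133 : sm gh N54897 = N56266 := rfl
theorem L753135 : sm gb N56266 = N54900 := ded_25_1 (flp_h L738461) (flp_b L738429) L753133
theorem L753137 : sm gc N56266 = N55030 := ded_32_1 (flp_h L740035) (flp_c L738431) L753133
theorem L753139 : sm gf N56266 = N54904 := ded_47_1 (flp_h L738503) (flp_f L738434) L753133
theorem L753141 : sm gg N56266 = N55033 := ded_50_1 (flp_h L740072) (flp_g L738436) L753133
theorem L753143 : sm gj N56266 = N55476 := ded_52_1 (flp_h L744750) (flp_j L738438) L753133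
theorem L753145 : sm gi N56266 = N54918 := ded_54_2 (flp_h L738680) (flp_i L721395) (flp_h L721170) L738427 L753133
theorem L753147 : sm gi N54898 = N56267 := rfl
theorem L753149 : sm gb N56267 = N55223 := ded_26_1 (flp_i L742122) (flp_b L738442) L753147
theorem L753151 : sm gd N56267 = N54899 := ded_39_1 (flp_i L738453) L738440 L753147
theorem L753153 : sm ge N56267 = N56267 := ded_44_1 (flp_i L753147) L738450 L753147
theorem L753154 : sm gf N56267 = N55189 := ded_48_1 (flp_i L741722) (flp_f L738444) L753147
theorem L753156 : sm gg N56267 = N55668 := ded_51_1 (flp_i L746535) (flp_g L738446) L753147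
theorem L753158 : sm gj N56267 = N55760 := ded_53_1 (flp_i L747142) (flp_j L738448) L753147
theorem L753160 : sm gh N54899 = N56268 := rfl
theorem L753162 : sm gc N56268 = N54903 := ded_32_1 (flp_h L738495) (flp_c L738455) L753160
theorem L753164 : sm ge N56268 = N54900 := ded_43_1 (flp_h L738461) (flp_e L738457) L753160
theorem L753166 : sm gg N56268 = N55669 := ded_50_1 (flp_h L746540) (flp_g L738459) L753160
theorem L753168 : sm gi N56268 = N54920 := ded_54_2 (flp_h L738708) (flp_i L721425) (flp_h L721180) L738453 L753160
theorem L753170 : sm gd N54900 = N56269 := rfl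
theorem L753172 : sm gf N56269 = N54905 := ded_35_2 (flp_d L738515) (flp_f L738465) L753170
theorem L753174 : sm gg N56269 = N55670 := ded_36_2 (flp_d L746548) (flp_g L738467) L753170
theorem L753176 : sm gi N56269 = N54921 := ded_39_2 (flp_d L738716) (flp_i L738469) L753170
theorem L753178 : sm gc N56269 = N55043 := ded_27_1 (flp_d L740183) L722950 (flp_d L721209) (flp_c L738463) L753170
theorem L753180 : sm gh N56269 = N56269 := ded_38_2 (flp_d L753170) (flp_h L738461) L721186 L738461 L753170
theorem L753181 : sm gi N54901 = N56270 := rfl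
theorem L753183 : sm ga N56270 = N55464 := ded_18_1 (flp_i L744620) (flp_a L738473) L753181
theorem L753185 : sm gb N56270 = N54969 := ded_26_1 (flp_i L739336) (flp_b L738475) L753181
theorem L753187 : sm gc N56270 = N54942 := ded_33_1 (flp_i L738983) (flp_c L738477) L753181
theorem L753189 : sm gd N56270 = N55749 := ded_39_1 (flp_i L747062) (flp_d L738479) L753181
theorem L753191 : sm ge N56270 = N54906 := ded_44_1 (flp_i L738524) (flp_e L738481) L753181
theorem L753193 : sm gf N56270 = N54940 := ded_48_1 (flp_i L738953) (flp_f L738485) L753181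
theorem L753195 : sm gg N56270 = N54902 := ded_51_1 (flp_i L738489) L738471 L753181
theorem L753197 : sm gj N56270 = N54947 := ded_53_1 (flp_i L739053) (flp_j L738487) L753181
theorem L753199 : sm gh N54902 = N56271 := rfl
theorem L753201 : sm ge N56271 = N54907 := ded_43_1 (flp_h L738539) (flp_e L738491) L753199
theorem L753203 : sm gf N56271 = N54903 := ded_47_1 (flp_h L738495) (flp_f L738493) L753199
theorem L753205 : sm gi N56271 = N54923 := ded_54_2 (flp_h L738742) (flp_i L721455) (flp_h L721193) L738489 L753199
theorem L753207 : sm gd N54903 = N56272 := rfl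
theorem L753209 : sm gg N56272 = N55671 := ded_36_2 (flp_d L746557) (flp_g L738499) L753207
theorem L753211 : sm gi N56272 = N54924 := ded_39_2 (flp_d L738748) (flp_i L738501) L753207
theorem L753213 : sm ge N56272 = N55046 := ded_34_2 (flp_d L740212) L722978 (flp_d L721209) (flp_e L738497) L753207
theorem L753215 : sm gd N54904 = N56273 := rfl
theorem L753217 : sm ga N56273 = N55710 := ded_12_1 L748580 L748566 L753215
theorem L753219 : sm gb N56273 = N54905 := ded_20_1 (flp_d L738515) (flp_b L738505) L753215
theorem L753221 : sm gg N56273 = N54909 := ded_36_2 (flp_d L738554) (flp_g L738509) L753215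
theorem L753223 : sm gj N56273 = N55478 := ded_37_2 (flp_d L744769) (flp_j L738511) L753215
theorem L753225 : sm gi N56273 = N54925 := ded_39_2 (flp_d L738756) (flp_i L738513) L753215
theorem L753227 : sm gc N56273 = N55475 := ded_27_1 (flp_d L744739) L727856 (flp_d L727932) (flp_c L738507) L753215
theorem L753229 : sm ge N56273 = N54951 := ded_34_2 (flp_d L739099) (flp_e L738830) (flp_d L748543) L748535 L753215
theorem L753231 : sm gh N56273 = N56273 := ded_38_2 (flp_d L753215) (flp_h L738503) L721231 L738503 L753215
theorem L753232 : sm ge N54905 = N56274 := rfl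
theorem L753234 : sm ga N56274 = N55049 := ded_13_1 (flp_e L752833) L752821 L753232
theorem L753236 : sm gb N56274 = N54951 := ded_21_1 (flp_e L753229) L753219 L753232
theorem L753238 : sm gc N56274 = N55053 := ded_28_1 (flp_e L740287) (flp_c L738521) L753232
theorem L753240 : sm gg N56274 = N54910 := ded_41_2 (flp_e L738569) (flp_g L738517) L753232
theorem L753242 : sm gj N56274 = N54977 := ded_42_2 (flp_e L752866) L752860 L753232
theorem L753244 : sm gh N56274 = N56274 := ded_43_2 (flp_e L753232) L738523 L753232
theorem L753245 : sm gi N56274 = N54926 := ded_44_2 (flp_e L738772) (flp_i L738519) L753232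
theorem L753247 : sm gd N56274 = N54950 := ded_34_1 L739091 (flp_d L738056) L738050 L738515 L753232
theorem L753249 : sm gh N54906 = N56275 := rfl
theorem L753251 : sm ga N56275 = N55474 := ded_17_1 (flp_h L744727) (flp_a L738526) L753249
theorem L753253 : sm gb N56275 = N54976 := ded_25_1 (flp_h L739429) (flp_b L738528) L753249
theorem L753255 : sm gc N56275 = N54943 := ded_32_1 (flp_h L738997) (flp_c L738530) L753249
theorem L753257 : sm gf N56275 = N54911 := ded_47_1 (flp_h L738584) (flp_f L738533) L753249
theorem L753259 : sm gg N56275 = N54907 := ded_50_1 (flp_h L738539) (flp_g L738535) L753249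
theorem L753261 : sm gj N56275 = N54948 := ded_52_1 (flp_h L739063) (flp_j L738537) L753249
theorem L753263 : sm gi N56275 = N54927 := ded_54_2 (flp_h L738788) (flp_i L721483) (flp_h L721253) L738524 L753249
theorem L753265 : sm gd N54907 = N56276 := rfl
theorem L753267 : sm gf N56276 = N54908 := ded_35_2 (flp_d L738545) (flp_f L738541) L753265
theorem L753269 : sm gi N56276 = N54928 := ded_39_2 (flp_d L738800) (flp_i L738543) L753265
theorem L753271 : sm gh N56276 = N56276 := ded_38_2 (flp_d L753265) (flp_h L738539) L721261 L738539 L753265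
theorem L753272 : sm gc N54908 = N56277 := rfl
theorem L753274 : sm ga N56277 = N55047 := ded_11_1 (flp_c L752864) L752854 L753272
theorem L753276 : sm ge N56277 = N55056 := ded_28_2 (flp_c L740309) (flp_e L738551) L753272
theorem L753278 : sm gg N56277 = N54913 := ded_30_2 (flp_c L738615) (flp_g L738547) L753272
theorem L753280 : sm gj N56277 = N54975 := ded_31_2 (flp_c L752831) L752827 L753272
theorem L753282 : sm gh N56277 = N56277 := ded_32_2 (flp_c L753272) L738553 L753272
theorem L753283 : sm gi N56277 = N54929 := ded_33_2 (flp_c L738806) (flp_i L738549) L753272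
theorem L753285 : sm gd N56277 = N54971 := ded_27_2 L739360 (flp_d L738056) L738048 L738545 L753272
theorem L753287 : sm gb N55000 = N56277 := ded_55_6 (flp_c L753272) (flp_d L738545) L721270 (flp_h L702239) L681136 (flp_f L681246) L681244 (flp_d L684004) (flp_b L697117) (flp_c L716695) L716697 (flp_i L716689) L697088 L688549 L666613 L379573 (flp_d L666429) (flp_b L666427) (flp_c L379328) (flp_d L260708) L260714 (flp_h L575907) (flp_d L266173) (flp_f L387457) (flp_e L670948) (flp_d L691161) (flp_b L708736) (flp_c L727785) (flp_d L744652) (flp_i L744644) (flp_h L735060) L735056 (flp_f L717505) (flp_e L697978) (flp_d L676701) (flp_b L676384) L676386 (flp_d L683264) L704509 L723862 L723877 L709325 (flp_e L708928) (flp_d L714627) L714626 (flp_c L714612) (flp_d L694846) L673535 (flp_h L673527) L651837 (flp_f L673454) L673452 L666085 L385921 L265199 L182444 (flp_i L125653) (flp_h L86709) L59972 (flp_f L60551) L60550 (flp_d L86698) (flp_b L125549) (flp_c L182170) (flp_d L264755) L264759 L265990 L387127 L387129 L387170 (flp_d L615004) L287320 L202365 L203620 L295785 L651254 (flp_d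 L672931) (flp_f L693324) (flp_e L701886) L701892 L682261 (flp_c L703396) L722667 L722675 (flp_h L739633) (flp_d L739625) L722380 (flp_e L722473) L739695
theorem L753289 : sm gd N54911 = N56278 := rfl
theorem L753291 : sm ga N56278 = N55475 := ded_12_1 (flp_d L744739) (flp_a L738586) L753289
theorem L753293 : sm gb N56278 = N54977 := ded_20_1 (flp_d L739437) (flp_b L738588) L753289
theorem L753295 : sm gg N56278 = N54912 := ded_36_2 (flp_d L738600) (flp_g L738594) L753289
theorem L753297 : sm gj N56278 = N54951 := ded_37_2 (flp_d L739099) (flp_j L738596) L753289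
theorem L753299 : sm gi N56278 = N54931 := ded_39_2 (flp_d L738838) (flp_i L738598) L753289
theorem L753301 : sm gc N56278 = N55710 := ded_27_1 L748580 L748570 L737933 (flp_c L738590) L753289
theorem L753303 : sm ge N56278 = N55478 := ded_34_2 (flp_d L744769) (flp_e L733523) L733529 (flp_e L738592) L753289
theorem L753305 : sm gh N56278 = N56278 := ded_38_2 (flp_d L753289) (flp_h L738584) L721311 L738584 L753289
theorem L753306 : sm gh N54914 = N56279 := rfl
theorem L753308 : sm gb N56279 = N55462 := ded_25_1 (flp_h L744596) (flp_b L738632) L753306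
theorem L753310 : sm gc N56279 = N55716 := ded_32_1 (flp_h L746861) (flp_c L738634) L753306
theorem L753312 : sm ge N56279 = N54915 := ded_43_1 (flp_h L738646) (flp_e L738638) L753306
theorem L753314 : sm gf N56279 = N55703 := ded_47_1 (flp_h L746781) (flp_f L738640) L753306
theorem L753316 : sm gg N56279 = N54916 := ded_50_1 (flp_h L738662) (flp_g L738642) L753306
theorem L753318 : sm gj N56279 = N55465 := ded_52_1 (flp_h L744634) (flp_j L738644) L753306
theorem L753320 : sm gi N56279 = N55724 := ded_54_2 (flp_h L746915) (flp_i L730612) (flp_h L721349) L738630 L753306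
theorem L753322 : sm gd N54916 = N56280 := rfl
theorem L753324 : sm gj N56280 = N54924 := ded_37_2 (flp_d L738748) (flp_j L738666) L753322
theorem L753326 : sm ge N56280 = N55068 := ded_34_2 (flp_d L740437) L723210 (flp_d L721383) (flp_e L738664) L753322
theorem L753328 : sm gh N56280 = N55166 := ded_38_2 (flp_d L741479) (flp_h L724430) (flp_d L721371) L738662 L753322
theorem L753330 : sm gh N54917 = N56281 := rfl
theorem L753332 : sm gb N56281 = N54920 := ded_25_1 (flp_h L738708) (flp_b L738670) L753330
theorem L753334 : sm gc N56281 = N55060 := ded_32_1 (flp_h L740350) (flp_c L738672) L753330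
theorem L753336 : sm ge N56281 = N54918 := ded_43_1 (flp_h L738680) (flp_e L738674) L753330
theorem L753338 : sm gg N56281 = N55065 := ded_50_1 (flp_h L740407) (flp_g L738676) L753330
theorem L753340 : sm gj N56281 = N55712 := ded_52_1 (flp_h L746833) (flp_j L738678) L753330
theorem L753342 : sm gd N54918 = N56282 := rfl
theorem L753344 : sm ga N56282 = N55738 := ded_12_1 (flp_d L748885) L748873 L753342
theorem L753346 : sm gb N56282 = N54921 := ded_20_1 (flp_d L738716) (flp_b L738682) L753342
theorem L753348 : sm gf N56282 = N54925 := ded_35_2 (flp_d L738756) (flp_f L738686) L753342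
theorem L753350 : sm gg N56282 = N55066 := ded_36_2 (flp_d L740417) (flp_g L738688) L753342
theorem L753352 : sm gj N56282 = N55713 := ded_37_2 (flp_d L746841) (flp_j L738690) L753342
theorem L753354 : sm gc N56282 = N55717 := ded_27_1 (flp_d L746869) (flp_c L738650) L738658 (flp_c L738684) L753342
theorem L753356 : sm gh N56282 = N54935 := ded_38_2 (flp_d L738891) (flp_h L721673) (flp_d L721401) L738680 L753342
theorem L753358 : sm gh N54919 = N56283 := rfl
theorem L753360 : sm ga N56283 = N55165 := ded_17_1 (flp_h L741469) (flp_a L738694) L753358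
theorem L753362 : sm gc N56283 = N55168 := ded_32_1 (flp_h L741501) (flp_c L738696) L753358
theorem L753364 : sm ge N56283 = N54936 := ded_43_1 (flp_h L738906) (flp_e L738700) L753358
theorem L753366 : sm gf N56283 = N55137 := ded_47_1 (flp_h L741142) (flp_f L738702) L753358
theorem L753368 : sm gg N56283 = N55677 := ded_50_1 (flp_h L746606) (flp_g L738704) L753358
theorem L753370 : sm gj N56283 = N55138 := ded_52_1 (flp_h L741154) (flp_j L738706) L753358
theorem L753372 : sm gi N56283 = N55767 := ded_54_2 (flp_h L747197) (flp_i L730998) L721423 L738692 L753358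
theorem L753374 : sm gd N54920 = N56284 := rfl
theorem L753376 : sm gg N56284 = N55679 := ded_36_2 (flp_d L746620) (flp_g L738714) L753374
theorem L753378 : sm ge N54921 = N56285 := rfl
theorem L753380 : sm gc N56285 = N55085 := ded_28_1 (flp_e L740620) (flp_c L738722) L753378
theorem L753382 : sm gg N56285 = N55680 := ded_41_2 (flp_e L746622) (flp_g L738720) L753378
theorem L753384 : sm gh N56285 = N54938 := ded_43_2 (flp_e L738933) (flp_h L738724) L753378
theorem L753386 : sm gh N54922 = N56286 := rfl
theorem L753388 : sm ga N56286 = N55716 := ded_17_1 (flp_h L746861) (flp_a L738728) L753386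
theorem L753390 : sm gb N56286 = N54994 := ded_25_1 (flp_h L739635) (flp_b L738730) L753386
theorem L753392 : sm ge N56286 = N54927 := ded_43_1 (flp_h L738788) (flp_e L738734) L753386
theorem L753394 : sm gf N56286 = N54949 := ded_47_1 (flp_h L739075) (flp_f L738736) L753386
theorem L753396 : sm gg N56286 = N54923 := ded_50_1 (flp_h L738742) (flp_g L738738) L753386
theorem L753398 : sm gj N56286 = N55721 := ded_52_1 (flp_h L746895) (flp_j L738740) L753386
theorem L753400 : sm gd N54923 = N56287 := rfl
theorem L753402 : sm gf N56287 = N54924 := ded_35_2 (flp_d L738748) (flp_f L738746) L753400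
theorem L753404 : sm gh N56287 = N55173 := ded_38_2 (flp_d L741567) (flp_h L724534) (flp_d L721457) L738742 L753400
theorem L753406 : sm gc N54924 = N56288 := rfl
theorem L753408 : sm ge N56288 = N55089 := ded_28_2 (flp_c L740650) (flp_e L738752) L753406
theorem L753410 : sm gg N56288 = N55682 := ded_30_2 (flp_c L746636) (flp_g L738750) L753406
theorem L753412 : sm gh N56288 = N55174 := ded_32_2 (flp_c L741571) (flp_h L738754) L753406
theorem L753414 : sm gf N54926 = N56289 := rfl
theorem L753416 : sm ga N56289 = N55092 := ded_14_1 L740679 (flp_a L738774) L753414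
theorem L753418 : sm gb N56289 = N55722 := ded_22_1 L746905 (flp_b L738776) L753414
theorem L753420 : sm gc N56289 = N55100 := ded_29_1 (flp_f L740753) (flp_c L738778) L753414
theorem L753422 : sm gd N56289 = N54996 := ded_35_1 L739657 (flp_d L738786) L753414
theorem L753424 : sm gj N56289 = N55002 := ded_46_2 L739720 (flp_j L738782) L753414
theorem L753426 : sm gh N56289 = N54939 := ded_47_2 (flp_f L738940) (flp_h L738784) L753414
theorem L753428 : sm gd N54927 = N56290 := rfl
theorem L753430 : sm ga N56290 = N55717 := ded_12_1 (flp_d L746869) (flp_a L738790) L753428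
theorem L753432 : sm gb N56290 = N55002 := ded_20_1 (flp_d L739716) (flp_b L738792) L753428
theorem L753434 : sm gf N56290 = N54931 := ded_35_2 (flp_d L738838) (flp_f L738794) L753428
theorem L753436 : sm gg N56290 = N54928 := ded_36_2 (flp_d L738800) (flp_g L738796) L753428
theorem L753438 : sm gj N56290 = N55722 := ded_37_2 (flp_d L746901) (flp_j L738798) L753428
theorem L753440 : sm gc N56290 = N55738 := ded_27_1 (flp_d L748885) L748877 (flp_d L752901) L752893 L753428
theorem L753442 : sm gh N56290 = N54932 := ded_38_2 (flp_d L738854) (flp_h L721621) (flp_d L721489) L738788 L753428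
theorem L753444 : sm gc N54928 = N56291 := rfl
theorem L753446 : sm ga N56291 = N55066 := ded_11_1 (flp_c L752985) L752975 L753444
theorem L753448 : sm gf N56291 = N54929 := ded_29_2 (flp_c L738806) (flp_f L738802) L753444
theorem L753450 : sm gg N56291 = N55738 := ded_30_2 (flp_c L753440) L753436 L753444
theorem L753452 : sm gj N56291 = N54993 := ded_31_2 (flp_c L752943) L752941 L753444
theorem L753454 : sm gh N56291 = N54933 := ded_32_2 (flp_c L738869) (flp_h L738804) L753444
theorem L753456 : sm gd N56291 = N54984 := ded_27_2 L739525 (flp_d L738195) L738189 L738800 L753444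
theorem L753458 : sm gb N55739 = N56291 := ded_22_3 L753448 (flp_b L738820) (flp_f L747003)
theorem L753460 : sm ge N54928 = N56292 := rfl
theorem L753462 : sm gh N56292 = N54934 := ded_43_2 (flp_e L738884) (flp_h L738804) L753460
theorem L753464 : sm gf N56292 = N55104 := ded_40_2 (flp_e L740781) L723527 (flp_e L721505) (flp_f L738802) L753460
theorem L753466 : sm ge N54932 = N56293 := rfl
theorem L753468 : sm ga N56293 = N55741 := ded_13_1 (flp_e L747012) (flp_a L738856) L753466
theorem L753470 : sm gb N56293 = N55010 := ded_21_1 (flp_e L739828) (flp_b L738858) L753466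
theorem L753472 : sm gc N56293 = N55745 := ded_28_1 L747044 (flp_c L738867) L753466
theorem L753474 : sm gg N56293 = N54934 := ded_41_2 (flp_e L738884) (flp_g L738862) L753466
theorem L753476 : sm gj N56293 = N55742 := ded_42_2 (flp_e L747019) (flp_j L738864) L753466
theorem L753478 : sm gi N56293 = N56293 := ded_44_2 (flp_e L753466) L738866 L753466
theorem L753479 : sm gd N56293 = N55184 := ded_34_1 (flp_e L741666) (flp_d L724676) (flp_e L721629) L738854 L753466
theorem L753481 : sm gf N56293 = N55740 := ded_40_2 (flp_e L747005) L730754 (flp_e L721671) (flp_f L738860) L753466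
theorem L753483 : sm ge N54933 = N56294 := rfl
theorem L753485 : sm ga N56294 = N55116 := ded_13_1 (flp_e L740895) (flp_a L738871) L753483
theorem L753487 : sm gb N56294 = N55748 := ded_21_1 L747059 L738882 L753483
theorem L753489 : sm gc N56294 = N54934 := ded_28_1 (flp_e L738884) L738869 L753483
theorem L753491 : sm gg N56294 = N55745 := ded_41_2 L747044 (flp_g L738875) L753483
theorem L753493 : sm gj N56294 = N55012 := ded_42_2 (flp_e L739846) (flp_j L738877) L753483
theorem L753495 : sm gi N56294 = N56294 := ded_44_2 (flp_e L753483) L738879 L753483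
theorem L753496 : sm gf N56294 = N55112 := ded_40_2 (flp_e L740859) L723635 (flp_e L721647) (flp_f L738873) L753483
theorem L753498 : sm ge N54935 = N56295 := rfl
theorem L753500 : sm ga N56295 = N55745 := ded_13_1 L747044 (flp_a L738893) L753498
theorem L753502 : sm gb N56295 = N54938 := ded_21_1 (flp_e L738933) (flp_b L738895) L753498
theorem L753504 : sm gc N56295 = N55741 := ded_28_1 (flp_e L747012) (flp_c L738904) L753498
theorem L753506 : sm gg N56295 = N55116 := ded_41_2 (flp_e L740895) (flp_g L738899) L753498
theorem L753508 : sm gj N56295 = N55740 := ded_42_2 (flp_e L747005) (flp_j L738901) L753498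
theorem L753510 : sm gi N56295 = N56295 := ded_44_2 (flp_e L753498) L738903 L753498
theorem L753511 : sm gf N56295 = N55742 := ded_40_2 (flp_e L747019) L730779 (flp_e L721739) (flp_f L738897) L753498
theorem L753513 : sm gd N54936 = N56296 := rfl
theorem L753515 : sm ga N56296 = N55175 := ded_12_1 (flp_d L741577) (flp_a L738908) L753513
theorem L753517 : sm gf N56296 = N55140 := ded_35_2 (flp_d L741176) (flp_f L738912) L753513
theorem L753519 : sm gg N56296 = N55688 := ded_36_2 (flp_d L746675) (flp_g L738914) L753513
theorem L753521 : sm gj N56296 = N55141 := ded_37_2 (flp_d L741191) (flp_j L738916) L753513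
theorem L753523 : sm gi N56296 = N55784 := ded_39_2 (flp_d L747315) (flp_i L738918) L753513
theorem L753525 : sm gc N56296 = N55788 := ded_27_1 (flp_d L747340) L731203 (flp_d L724721) (flp_c L738910) L753513
theorem L753527 : sm gh N56296 = N54937 := ded_38_2 (flp_d L738920) (flp_h L721702) (flp_d L721694) L738906 L753513
theorem L753529 : sm ge N54937 = N56297 := rfl
theorem L753531 : sm ga N56297 = N55182 := ded_13_1 (flp_e L741646) (flp_a L738922) L753529
theorem L753533 : sm gc N56297 = N55902 := ded_28_1 (flp_e L748107) (flp_c L738931) L753529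
theorem L753535 : sm gg N56297 = N55689 := ded_41_2 (flp_e L746680) (flp_g L738926) L753529
theorem L753537 : sm gj N56297 = N55142 := ded_42_2 (flp_e L741201) (flp_j L738928) L753529
theorem L753539 : sm gi N56297 = N56297 := ded_44_2 (flp_e L753529) L738930 L753529
theorem L753540 : sm gd N56297 = N54938 := ded_34_1 (flp_e L738933) (flp_d L721717) (flp_e L721708) L738920 L753529
theorem L753542 : sm gf N56297 = N55256 := ded_40_2 (flp_e L742470) L725497 (flp_e L724128) (flp_f L738924) L753529
theorem L753544 : sm gf N54938 = N56298 := rfl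
theorem L753546 : sm ga N56298 = N55108 := ded_14_1 (flp_f L753021) L753008 L753544
theorem L753548 : sm gb N56298 = N55742 := ded_22_1 (flp_f L753511) L753502 L753544
theorem L753550 : sm gc N56298 = N55127 := ded_29_1 (flp_f L741014) (flp_c L738935) L753544
theorem L753552 : sm gd N56298 = N55256 := ded_35_1 (flp_f L753542) L753540 L753544
theorem L753554 : sm gj N56298 = N55010 := ded_46_2 (flp_f L753004) L752999 L753544
theorem L753556 : sm gi N56298 = N56298 := ded_48_2 (flp_f L753544) L738939 L753544
theorem L753557 : sm ge N56298 = N54939 := ded_40_1 (flp_f L738940) (flp_e L721741) (flp_f L721719) L738933 L753544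
theorem L753559 : sm gh N54940 = N56299 := rfl
theorem L753561 : sm ga N56299 = N55465 := ded_17_1 (flp_h L744634) (flp_a L738955) L753559
theorem L753563 : sm gb N56299 = N54970 := ded_25_1 (flp_h L739344) (flp_b L738957) L753559
theorem L753565 : sm gc N56299 = N55721 := ded_32_1 (flp_h L746895) (flp_c L738959) L753559
theorem L753567 : sm ge N56299 = N54941 := ded_43_1 (flp_h L738967) (flp_e L738963) L753559
theorem L753569 : sm gg N56299 = N55659 := ded_50_1 (flp_h L746452) (flp_g L738965) L753559
theorem L753571 : sm gi N56299 = N54949 := ded_54_2 (flp_h L739075) (flp_i L721872) (flp_h L721782) L738953 L753559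
theorem L753573 : sm gh N54942 = N56300 := rfl
theorem L753575 : sm ga N56300 = N55724 := ded_17_1 (flp_h L746915) (flp_a L738985) L753573
theorem L753577 : sm gb N56300 = N54987 := ded_25_1 (flp_h L739563) (flp_b L738987) L753573
theorem L753579 : sm ge N56300 = N54943 := ded_43_1 (flp_h L738997) (flp_e L738991) L753573
theorem L753581 : sm gf N56300 = N55721 := ded_47_1 (flp_h L746895) (flp_f L738993) L753573
theorem L753583 : sm gj N56300 = N54949 := ded_52_1 (flp_h L739075) (flp_j L738995) L753573
theorem L753585 : sm gd N54944 = N56301 := rfl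
theorem L753587 : sm ga N56301 = N55018 := ded_12_1 L739919 (flp_a L739009) L753585
theorem L753589 : sm gb N56301 = N54946 := ded_20_1 (flp_d L739038) (flp_b L739011) L753585
theorem L753591 : sm gf N56301 = N54952 := ded_35_2 L739122 (flp_f L739021) L753585
theorem L753593 : sm gg N56301 = N55061 := ded_36_2 L740364 (flp_g L739015) L753585
theorem L753595 : sm gj N56301 = N54956 := ded_37_2 L739173 (flp_j L739017) L753585
theorem L753597 : sm gc N56301 = N55351 := ded_27_1 L743545 L726491 (flp_d L722344) (flp_c L739013) L753585
theorem L753599 : sm ge N56301 = N56301 := ded_34_2 (flp_d L753585) (flp_e L739007) L721838 L739007 L753585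
theorem L753600 : sm gh N56301 = N55199 := ded_38_2 L741821 L725016 (flp_d L722298) (flp_h L739019) L753585
theorem L753602 : sm gi N54944 = N56302 := rfl
theorem L753604 : sm ga N56302 = N55034 := ded_18_1 (flp_i L740084) (flp_a L739009) L753602
theorem L753606 : sm gb N56302 = N54947 := ded_26_1 (flp_i L739053) (flp_b L739011) L753602
theorem L753608 : sm gc N56302 = N54989 := ded_33_1 (flp_i L739587) (flp_c L739013) L753602
theorem L753610 : sm ge N56302 = N54945 := ded_44_1 (flp_i L739023) L739007 L753602
theorem L753612 : sm gf N56302 = N54961 := ded_48_1 (flp_i L739236) (flp_f L739021) L753602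
theorem L753614 : sm gg N56302 = N55064 := ded_51_1 (flp_i L740395) (flp_g L739015) L753602
theorem L753616 : sm gj N56302 = N54969 := ded_53_1 (flp_i L739336) (flp_j L739017) L753602
theorem L753618 : sm gh N54945 = N56303 := rfl
theorem L753620 : sm ga N56303 = N55048 := ded_17_1 (flp_h L740229) (flp_a L739025) L753618
theorem L753622 : sm gb N56303 = N54948 := ded_25_1 (flp_h L739063) (flp_b L739027) L753618
theorem L753624 : sm gc N56303 = N54990 := ded_32_1 (flp_h L739597) (flp_c L739029) L753618
theorem L753626 : sm gf N56303 = N54950 := ded_47_1 (flp_h L739083) (flp_f L739032) L753618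
theorem L753628 : sm gg N56303 = N55090 := ded_50_1 (flp_h L740656) (flp_g L739034) L753618
theorem L753630 : sm gj N56303 = N54976 := ded_52_1 (flp_h L739429) (flp_j L739036) L753618
theorem L753632 : sm gi N56303 = N54996 := ded_54_2 (flp_h L739651) (flp_i L722412) (flp_h L721845) L739023 L753618
theorem L753634 : sm gi N54946 = N56304 := rfl
theorem L753636 : sm ga N56304 = N55162 := ded_18_1 (flp_i L741434) (flp_a L739040) L753634
theorem L753638 : sm gc N56304 = N55194 := ded_33_1 (flp_i L741773) (flp_c L739048) L753634
theorem L753640 : sm gd N56304 = N54947 := ded_39_1 (flp_i L739053) L739038 L753634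
theorem L753642 : sm ge N56304 = N56304 := ded_44_1 (flp_i L753634) L739050 L753634
theorem L753643 : sm gf N56304 = N55135 := ded_48_1 (flp_i L741115) (flp_f L739042) L753634
theorem L753645 : sm gg N56304 = N55675 := ded_51_1 (flp_i L746589) (flp_g L739044) L753634
theorem L753647 : sm gj N56304 = N55749 := ded_53_1 (flp_i L747062) (flp_j L739046) L753634
theorem L753649 : sm gh N54947 = N56305 := rfl
theorem L753651 : sm ga N56305 = N55703 := ded_17_1 (flp_h L746781) (flp_a L739055) L753649
theorem L753653 : sm gc N56305 = N54949 := ded_32_1 (flp_h L739075) (flp_c L739057) L753649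
theorem L753655 : sm ge N56305 = N54948 := ded_43_1 (flp_h L739063) (flp_e L739059) L753649
theorem L753657 : sm gg N56305 = N55678 := ded_50_1 (flp_h L746612) (flp_g L739061) L753649
theorem L753659 : sm gi N56305 = N55721 := ded_54_2 (flp_h L746895) (flp_i L730592) (flp_h L721859) L739053 L753649
theorem L753661 : sm gd N54948 = N56306 := rfl
theorem L753663 : sm ga N56306 = N55704 := ded_12_1 (flp_d L746789) (flp_a L739065) L753661
theorem L753665 : sm gf N56306 = N54951 := ded_35_2 (flp_d L739099) (flp_f L739069) L753661
theorem L753667 : sm gg N56306 = N55683 := ded_36_2 (flp_d L746642) (flp_g L739071) L753661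
theorem L753669 : sm gi N56306 = N55722 := ded_39_2 (flp_d L746901) (flp_i L739073) L753661
theorem L753671 : sm gh N56306 = N56306 := ded_38_2 (flp_d L753661) (flp_h L739063) L721867 L739063 L753661
theorem L753672 : sm gd N54949 = N56307 := rfl
theorem L753674 : sm gb N56307 = N54995 := ded_20_1 (flp_d L739643) (flp_b L739077) L753672
theorem L753676 : sm gg N56307 = N55681 := ded_36_2 (flp_d L746628) (flp_g L739081) L753672
theorem L753678 : sm gh N56307 = N55197 := ded_38_2 (flp_d L741797) (flp_h L724869) (flp_d L721876) L739075 L753672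
theorem L753680 : sm gi N54952 = N56308 := rfl
theorem L753682 : sm ga N56308 = N55019 := ded_18_1 (flp_i L739926) (flp_a L739110) L753680
theorem L753684 : sm gb N56308 = N55135 := ded_26_1 (flp_i L741115) (flp_b L739112) L753680
theorem L753686 : sm gc N56308 = N55605 := ded_33_1 (flp_i L746033) (flp_c L739114) L753680
theorem L753688 : sm gd N56308 = N54961 := ded_39_1 (flp_i L739236) (flp_d L739122) L753680
theorem L753690 : sm ge N56308 = N54953 := ded_44_1 (flp_i L739124) L739108 L753680
theorem L753692 : sm gg N56308 = N55128 := ded_51_1 (flp_i L741019) (flp_g L739116) L753680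
theorem L753694 : sm gj N56308 = N54957 := ded_53_1 (flp_i L739180) (flp_j L739118) L753680
theorem L753696 : sm gh N54953 = N56309 := rfl
theorem L753698 : sm ga N56309 = N55020 := ded_17_1 (flp_h L739938) (flp_a L739126) L753696
theorem L753700 : sm gb N56309 = N55136 := ded_25_1 (flp_h L741127) (flp_b L739128) L753696
theorem L753702 : sm gc N56309 = N55647 := ded_32_1 (flp_h L746362) (flp_c L739130) L753696
theorem L753704 : sm gf N56309 = N56309 := ded_47_1 (flp_h L753696) L739134 L753696
theorem L753705 : sm gg N56309 = N55129 := ded_50_1 (flp_h L741029) (flp_g L739135) L753696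
theorem L753707 : sm gj N56309 = N54958 := ded_52_1 (flp_h L739192) (flp_j L739137) L753696
theorem L753709 : sm gd N56309 = N55190 := ded_38_1 (flp_h L741732) L724800 (flp_h L721977) (flp_d L739132) L753696
theorem L753711 : sm gi N56309 = N55201 := ded_54_2 (flp_h L741842) (flp_i L724907) (flp_h L721959) L739124 L753696
theorem L753713 : sm gd N54954 = N56310 := rfl
theorem L753715 : sm ga N56310 = N55023 := ded_12_1 (flp_d L739969) (flp_a L739141) L753713
theorem L753717 : sm gb N56310 = N55565 := ded_20_1 L745674 (flp_b L739143) L753713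
theorem L753719 : sm gg N56310 = N55512 := ded_36_2 L745132 (flp_g L739147) L753713
theorem L753721 : sm gj N56310 = N55337 := ded_37_2 L743383 (flp_j L739149) L753713
theorem L753723 : sm gc N56310 = N54965 := ded_27_1 (flp_d L739285) L722066 (flp_d L722003) (flp_c L739145) L753713
theorem L753725 : sm ge N56310 = N56310 := ded_34_2 (flp_d L753713) (flp_e L739139) L721992 L739139 L753713
theorem L753726 : sm gh N56310 = N55562 := ded_38_2 (flp_d L745632) L728993 (flp_d L724934) (flp_h L739151) L753713
theorem L753728 : sm gf N55356 = N56310 := ded_56_1 L753725 (flp_d L753713) L739145 L721997 L712372 (flp_h L712425) (flp_f L724846) L724850 (flp_d L724844) L705645 L684422 L662186 (flp_h L662607) L685209 L685213 L662675 (flp_c L685298) (flp_b L698972) (flp_a L698960) (flp_h L698593) L698589 (flp_e L677322) L662883 L364383 L250779 (flp_a L250772) L172716 (flp_f L175049) L254211 (flp_d L646841) L562929 L253520 L253518 (flp_h L174890) L120580 L120579 (flp_d L172549) (flp_c L250351) (flp_b L357231) (flp_a L655078) L676823 L676831 L676829 (flp_d L691219) L691217 (flp_b L687576)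 (flp_a L701432) L701440 (flp_f L696459) L696455 L687625 L687623 L665322 (flp_a L652777) (flp_h L674213) (flp_f L695287) L714896 L714910 (flp_c L728365) (flp_b L745049) L745047 (flp_h L743604)
theorem L753730 : sm gf N54954 = N56311 := rfl
theorem L753732 : sm ga N56311 = N55024 := ded_14_1 (flp_f L739976) (flp_a L739141) L753730
theorem L753734 : sm gb N56311 = N55593 := ded_22_1 L745935 (flp_b L739143) L753730
theorem L753736 : sm gc N56311 = N54956 := ded_29_1 (flp_f L739167) (flp_c L739145) L753730
theorem L753738 : sm gd N56311 = N55356 := ded_35_1 L753728 (flp_d L753713) L753730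
theorem L753740 : sm gj N56311 = N55351 := ded_46_2 L743548 (flp_j L739149) L753730
theorem L753742 : sm gh N56311 = N55202 := ded_47_2 (flp_f L741857) (flp_h L739151) L753730
theorem L753744 : sm ge N56311 = N56311 := ded_40_1 (flp_f L753730) (flp_e L739139) L721983 L739139 L753730
theorem L753745 : sm gg N56311 = N55373 := ded_45_2 L743749 L728367 L728436 (flp_g L739147) L753730
theorem L753747 : sm gi N54954 = N56312 := rfl
theorem L753749 : sm ga N56312 = N55025 := ded_18_1 (flp_i L739985) (flp_a L739141) L753747
theorem L753751 : sm gb N56312 = N55595 := ded_26_1 (flp_i L745952) (flp_b L739143) L753747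
theorem L753753 : sm gc N56312 = N54957 := ded_33_1 (flp_i L739180) (flp_c L739145) L753747
theorem L753755 : sm ge N56312 = N54955 := ded_44_1 (flp_i L739153) L739139 L753747
theorem L753757 : sm gg N56312 = N55514 := ded_51_1 (flp_i L745151) (flp_g L739147) L753747
theorem L753759 : sm gj N56312 = N55605 := ded_53_1 (flp_i L746033) (flp_j L739149) L753747
theorem L753761 : sm gh N54955 = N56313 := rfl
theorem L753763 : sm ga N56313 = N55026 := ded_17_1 (flp_h L739993) (flp_a L739155) L753761
theorem L753765 : sm gb N56313 = N55643 := ded_25_1 (flp_h L746334) (flp_b L739157) L753761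
theorem L753767 : sm gc N56313 = N54958 := ded_32_1 (flp_h L739192) (flp_c L739159) L753761
theorem L753769 : sm gf N56313 = N56313 := ded_47_1 (flp_h L753761) L739162 L753761
theorem L753770 : sm gg N56313 = N55530 := ded_50_1 (flp_h L745305) (flp_g L739163) L753761
theorem L753772 : sm gj N56313 = N55647 := ded_52_1 (flp_h L746362) (flp_j L739165) L753761
theorem L753774 : sm gi N56313 = N55204 := ded_54_2 (flp_h L741886) (flp_i L724936) (flp_h L721988) L739153 L753761
theorem L753776 : sm gi N54956 = N56314 := rfl
theorem L753778 : sm ga N56314 = N55027 := ded_18_1 (flp_i L740002) (flp_a L739169) L753776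
theorem L753780 : sm gb N56314 = N55749 := ded_26_1 (flp_i L747062) (flp_b L739171) L753776
theorem L753782 : sm gd N56314 = N54969 := ded_39_1 (flp_i L739336) (flp_d L739173) L753776
theorem L753784 : sm ge N56314 = N56314 := ded_44_1 (flp_i L753776) L739177 L753776
theorem L753785 : sm gf N56314 = N54957 := ded_48_1 (flp_i L739180) L739167 L753776
theorem L753787 : sm gg N56314 = N55508 := ded_51_1 (flp_i L745095) (flp_g L739178) L753776
theorem L753789 : sm gh N54957 = N56315 := rfl
theorem L753791 : sm ga N56315 = N55028 := ded_17_1 (flp_h L740013) (flp_a L739182) L753789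
theorem L753793 : sm gb N56315 = N55750 := ded_25_1 (flp_h L747069) (flp_b L739184) L753789
theorem L753795 : sm ge N56315 = N54958 := ded_43_1 (flp_h L739192) (flp_e L739188) L753789
theorem L753797 : sm gg N56315 = N55517 := ded_50_1 (flp_h L745185) (flp_g L739190) L753789
theorem L753799 : sm gi N56315 = N55206 := ded_54_2 (flp_h L741908) (flp_i L724958) (flp_h L722001) L739180 L753789
theorem L753801 : sm gi N54959 = N56316 := rfl
theorem L753803 : sm ga N56316 = N55032 := ded_18_1 (flp_i L740062) (flp_a L739207) L753801
theorem L753805 : sm gb N56316 = N54991 := ded_26_1 (flp_i L739605) (flp_b L739209) L753801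
theorem L753807 : sm gc N56316 = N54961 := ded_33_1 (flp_i L739236) (flp_c L739211) L753801
theorem L753809 : sm gd N56316 = N55341 := ded_39_1 (flp_i L743426) L739221 L753801
theorem L753811 : sm ge N56316 = N54960 := ded_44_1 (flp_i L739223) L739205 L753801
theorem L753813 : sm gf N56316 = N54989 := ded_48_1 (flp_i L739587) (flp_f L739219) L753801
theorem L753815 : sm gg N56316 = N55059 := ded_51_1 (flp_i L740342) (flp_g L739213) L753801
theorem L753817 : sm gj N56316 = N54967 := ded_53_1 (flp_i L739314) (flp_j L739215) L753801
theorem L753819 : sm gh N54960 = N56317 := rfl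
theorem L753821 : sm ga N56317 = N55033 := ded_17_1 (flp_h L740072) (flp_a L739225) L753819
theorem L753823 : sm gb N56317 = N54999 := ded_25_1 (flp_h L739687) (flp_b L739227) L753819
theorem L753825 : sm gc N56317 = N54962 := ded_32_1 (flp_h L739244) (flp_c L739229) L753819
theorem L753827 : sm gf N56317 = N54971 := ded_47_1 (flp_h L739354) (flp_f L739232) L753819
theorem L753829 : sm gj N56317 = N54968 := ded_52_1 (flp_h L739324) (flp_j L739234) L753819
theorem L753831 : sm gi N56317 = N54984 := ded_54_2 (flp_h L739521) (flp_i L722280) (flp_h L722024) L739223 L753819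
theorem L753833 : sm gh N54961 = N56318 := rfl
theorem L753835 : sm ga N56318 = N55035 := ded_17_1 (flp_h L740094) (flp_a L739238) L753833
theorem L753837 : sm ge N56318 = N54962 := ded_43_1 (flp_h L739244) (flp_e L739240) L753833
theorem L753839 : sm gj N56318 = N54970 := ded_52_1 (flp_h L739344) (flp_j L739242) L753833
theorem L753841 : sm gi N56318 = N54987 := ded_54_2 (flp_h L739563) (flp_i L722304) (flp_h L722035) L739236 L753833
theorem L753843 : sm gi N54963 = N56319 := rfl
theorem L753845 : sm ga N56319 = N55064 := ded_18_1 (flp_i L740395) (flp_a L739256) L753843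
theorem L753847 : sm gb N56319 = N54967 := ded_26_1 (flp_i L739314) (flp_b L739258) L753843
theorem L753849 : sm gc N56319 = N54986 := ded_33_1 (flp_i L739549) (flp_c L739260) L753843
theorem L753851 : sm ge N56319 = N54964 := ded_44_1 (flp_i L739270) L739254 L753843
theorem L753853 : sm gf N56319 = N54983 := ded_48_1 (flp_i L739511) (flp_f L739268) L753843
theorem L753855 : sm gg N56319 = N55034 := ded_51_1 (flp_i L740084) (flp_g L739262) L753843
theorem L753857 : sm gj N56319 = N54991 := ded_53_1 (flp_i L739605) (flp_j L739264) L753843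
theorem L753859 : sm gh N54964 = N56320 := rfl
theorem L753861 : sm ga N56320 = N55090 := ded_17_1 (flp_h L740656) (flp_a L739272) L753859
theorem L753863 : sm gb N56320 = N54968 := ded_25_1 (flp_h L739324) (flp_b L739274) L753859
theorem L753865 : sm gc N56320 = N54996 := ded_32_1 (flp_h L739651) (flp_c L739276) L753859
theorem L753867 : sm gf N56320 = N54972 := ded_47_1 (flp_h L739370) (flp_f L739279) L753859
theorem L753869 : sm gg N56320 = N55048 := ded_50_1 (flp_h L740229) (flp_g L739281) L753859
theorem L753871 : sm gj N56320 = N54999 := ded_52_1 (flp_h L739687) (flp_j L739283) L753859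
theorem L753873 : sm gi N56320 = N54990 := ded_54_2 (flp_h L739597) (flp_i L722346) (flp_h L722056) L739270 L753859
theorem L753875 : sm gi N54965 = N56321 := rfl
theorem L753877 : sm ga N56321 = N55040 := ded_18_1 (flp_i L740156) (flp_a L739287) L753875
theorem L753879 : sm gd N56321 = N54967 := ded_39_1 (flp_i L739314) L739285 L753875
theorem L753881 : sm ge N56321 = N56321 := ded_44_1 (flp_i L753875) L739293 L753875
theorem L753882 : sm gf N56321 = N55361 := ded_48_1 (flp_i L743642) L739294 L753875
theorem L753884 : sm gg N56321 = N55692 := ded_51_1 (flp_i L746700) (flp_g L739289) L753875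
theorem L753886 : sm gj N56321 = N55341 := ded_53_1 (flp_i L743426) (flp_j L739291) L753875
theorem L753888 : sm gi N54966 = N56322 := rfl
theorem L753890 : sm ga N56322 = N55041 := ded_18_1 (flp_i L740163) (flp_a L739298) L753888
theorem L753892 : sm gb N56322 = N54983 := ded_26_1 (flp_i L739511) (flp_b L739300) L753888
theorem L753894 : sm gc N56322 = N54969 := ded_33_1 (flp_i L739336) (flp_c L739302) L753888
theorem L753896 : sm gd N56322 = N55361 := ded_39_1 (flp_i L743642) (flp_d L739304) L753888
theorem L753898 : sm ge N56322 = N54973 := ded_44_1 (flp_i L739386) (flp_e L739310) L753888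
theorem L753900 : sm gf N56322 = N54967 := ded_48_1 (flp_i L739314) L739296 L753888
theorem L753902 : sm gg N56322 = N55086 := ded_51_1 (flp_i L740626) (flp_g L739312) L753888
theorem L753904 : sm gj N56322 = N54989 := ded_53_1 (flp_i L739587) (flp_j L739306) L753888
theorem L753906 : sm gh N54967 = N56323 := rfl
theorem L753908 : sm ga N56323 = N55042 := ded_17_1 (flp_h L740173) (flp_a L739316) L753906
theorem L753910 : sm gc N56323 = N54970 := ded_32_1 (flp_h L739344) (flp_c L739318) L753906
theorem L753912 : sm ge N56323 = N54968 := ded_43_1 (flp_h L739324) (flp_e L739320) L753906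
theorem L753914 : sm gg N56323 = N55693 := ded_50_1 (flp_h L746711) (flp_g L739322) L753906
theorem L753916 : sm gi N56323 = N54992 := ded_54_2 (flp_h L739615) (flp_i L722364) (flp_h L722070) L739314 L753906
theorem L753918 : sm gd N54968 = N56324 := rfl
theorem L753920 : sm ga N56324 = N55043 := ded_12_1 (flp_d L740183) (flp_a L739326) L753918
theorem L753922 : sm gf N56324 = N54975 := ded_35_2 (flp_d L739420) (flp_f L739330) L753918
theorem L753924 : sm gg N56324 = N55694 := ded_36_2 (flp_d L746721) (flp_g L739332) L753918
theorem L753926 : sm gi N56324 = N54993 := ded_39_2 (flp_d L739625) (flp_i L739334) L753918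
theorem L753928 : sm gh N56324 = N56324 := ded_38_2 (flp_d L753918) (flp_h L739324) L722078 L739324 L753918
theorem L753929 : sm gh N54969 = N56325 := rfl
theorem L753931 : sm ga N56325 = N55045 := ded_17_1 (flp_h L740204) (flp_a L739338) L753929
theorem L753933 : sm ge N56325 = N54976 := ded_43_1 (flp_h L739429) (flp_e L739340) L753929
theorem L753935 : sm gf N56325 = N54970 := ded_47_1 (flp_h L739344) (flp_f L739342) L753929
theorem L753937 : sm gi N56325 = N54994 := ded_54_2 (flp_h L739635) (flp_i L722384) (flp_h L722087) L739336 L753929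
theorem L753939 : sm gd N54970 = N56326 := rfl
theorem L753941 : sm ga N56326 = N55046 := ded_12_1 (flp_d L740212) (flp_a L739346) L753939
theorem L753943 : sm gg N56326 = N55695 := ded_36_2 (flp_d L746730) (flp_g L739350) L753939
theorem L753945 : sm gi N56326 = N54995 := ded_39_2 (flp_d L739643) (flp_i L739352) L753939
theorem L753947 : sm gd N54972 = N56327 := rfl
theorem L753949 : sm ga N56327 = N55091 := ded_12_1 (flp_d L740666) (flp_a L739372) L753947
theorem L753951 : sm gb N56327 = N54975 := ded_20_1 (flp_d L739420) (flp_b L739374) L753947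
theorem L753953 : sm gg N56327 = N54978 := ded_36_2 (flp_d L739446) (flp_g L739380) L753947
theorem L753955 : sm gj N56327 = N55000 := ded_37_2 (flp_d L739695) (flp_j L739382) L753947
theorem L753957 : sm gi N56327 = N54998 := ded_39_2 (flp_d L739677) (flp_i L739384) L753947
theorem L753959 : sm gc N56327 = N55099 := ded_27_1 L740751 (flp_c L738778) L738786 (flp_c L739376) L753947
theorem L753961 : sm ge N56327 = N55098 := ded_34_2 L740744 (flp_e L738810) L738818 (flp_e L739378) L753947
theorem L753963 : sm gh N56327 = N56327 := ded_38_2 (flp_d L753947) (flp_h L739370) L722140 L739370 L753947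
theorem L753964 : sm gh N54973 = N56328 := rfl
theorem L753966 : sm ga N56328 = N55051 := ded_17_1 (flp_h L740265) (flp_a L739388) L753964
theorem L753968 : sm gb N56328 = N54984 := ded_25_1 (flp_h L739521) (flp_b L739390) L753964
theorem L753970 : sm gc N56328 = N54976 := ded_32_1 (flp_h L739429) (flp_c L739392) L753964
theorem L753972 : sm gf N56328 = N54974 := ded_47_1 (flp_h L739402) (flp_f L739396) L753964
theorem L753974 : sm gg N56328 = N55101 := ded_50_1 (flp_h L740757) (flp_g L739398) L753964
theorem L753976 : sm gj N56328 = N54990 := ded_52_1 (flp_h L739597) (flp_j L739400) L753964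
theorem L753978 : sm gd N56328 = N55739 := ded_38_1 L747001 L730833 L722623 (flp_d L739394) L753964
theorem L753980 : sm gi N56328 = N54999 := ded_54_2 (flp_h L739687) (flp_i L722458) (flp_h L722159) L739386 L753964
theorem L753982 : sm ge N54975 = N56329 := rfl
theorem L753984 : sm ga N56329 = N55053 := ded_13_1 (flp_e L740287) (flp_a L739422) L753982
theorem L753986 : sm gb N56329 = N55098 := ded_21_1 (flp_e L753961) L753951 L753982
theorem L753988 : sm gc N56329 = N55049 := ded_28_1 (flp_e L752833) L752831 L753982
theorem L753990 : sm gg N56329 = N54979 := ded_41_2 (flp_e L739461) (flp_g L739424) L753982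
theorem L753992 : sm gj N56329 = N55056 := ded_42_2 (flp_e L753276) L753280 L753982
theorem L753994 : sm gh N56329 = N56329 := ded_43_2 (flp_e L753982) L739428 L753982
theorem L753995 : sm gi N56329 = N55001 := ded_44_2 (flp_e L739704) (flp_i L739426) L753982
theorem L753997 : sm gd N56329 = N55105 := ded_34_1 L740787 (flp_d L739416) L739410 L739420 L753982
theorem L753999 : sm gd N54976 = N56330 := rfl
theorem L754001 : sm ga N56330 = N55055 := ded_12_1 (flp_d L740302) (flp_a L739431) L753999
theorem L754003 : sm gf N56330 = N54977 := ded_35_2 (flp_d L739437) (flp_f L739433) L753999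
theorem L754005 : sm gi N56330 = N55002 := ded_39_2 (flp_d L739716) (flp_i L739435) L753999
theorem L754007 : sm gh N56330 = N56330 := ded_38_2 (flp_d L753999) (flp_h L739429) L722193 L739429 L753999
theorem L754008 : sm gc N54977 = N56331 := rfl
theorem L754010 : sm ga N56331 = N55056 := ded_11_1 (flp_c L740309) (flp_a L739439) L754008
theorem L754012 : sm ge N56331 = N55047 := ded_28_2 (flp_c L752864) L752866 L754008
theorem L754014 : sm gg N56331 = N54980 := ded_30_2 (flp_c L739476) (flp_g L739441) L754008
theorem L754016 : sm gj N56331 = N55053 := ded_31_2 (flp_c L753238) L753242 L754008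
theorem L754018 : sm gh N56331 = N56331 := ded_32_2 (flp_c L754008) L739445 L754008
theorem L754019 : sm gi N56331 = N55003 := ded_33_2 (flp_c L739724) (flp_i L739443) L754008
theorem L754021 : sm gb N56331 = N55672 := ded_19_1 L746565 (flp_b L746821) (flp_c L753301) L753293 L754008
theorem L754023 : sm gd N56331 = N55686 := ded_27_2 L746662 (flp_d L739416) L739408 L739437 L754008
theorem L754025 : sm gh N54981 = N56332 := rfl
theorem L754027 : sm ga N56332 = N55060 := ded_17_1 (flp_h L740350) (flp_a L739493) L754025
theorem L754029 : sm ge N56332 = N54982 := ded_43_1 (flp_h L739503) (flp_e L739497) L754025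
theorem L754031 : sm gg N56332 = N54987 := ded_50_1 (flp_h L739563) (flp_g L739499) L754025
theorem L754033 : sm gj N56332 = N55696 := ded_52_1 (flp_h L746736) (flp_j L739501) L754025
theorem L754035 : sm gh N54983 = N56333 := rfl
theorem L754037 : sm ga N56333 = N55065 := ded_17_1 (flp_h L740407) (flp_a L739513) L754035
theorem L754039 : sm gc N56333 = N54987 := ded_32_1 (flp_h L739563) (flp_c L739515) L754035
theorem L754041 : sm ge N56333 = N54984 := ded_43_1 (flp_h L739521) (flp_e L739517) L754035
theorem L754043 : sm gj N56333 = N54992 := ded_52_1 (flp_h L739615) (flp_j L739519) L754035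
theorem L754045 : sm gi N54985 = N56334 := rfl
theorem L754047 : sm ga N56334 = N54989 := ded_18_1 (flp_i L739587) (flp_a L739533) L754045
theorem L754049 : sm gb N56334 = N55070 := ded_26_1 (flp_i L740459) (flp_b L739535) L754045
theorem L754051 : sm gc N56334 = N55034 := ded_33_1 (flp_i L740084) (flp_c L739537) L754045
theorem L754053 : sm gd N56334 = N55230 := ded_39_1 (flp_i L742206) (flp_d L739539) L754045
theorem L754055 : sm ge N56334 = N54988 := ded_44_1 (flp_i L739571) (flp_e L739541) L754045
theorem L754057 : sm gf N56334 = N55032 := ded_48_1 (flp_i L740062) (flp_f L739545) L754045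
theorem L754059 : sm gg N56334 = N54986 := ded_51_1 (flp_i L739549) L739531 L754045
theorem L754061 : sm gj N56334 = N55041 := ded_53_1 (flp_i L740163) (flp_j L739547) L754045
theorem L754063 : sm gh N54986 = N56335 := rfl
theorem L754065 : sm ga N56335 = N55067 := ded_17_1 (flp_h L740427) (flp_a L739551) L754063
theorem L754067 : sm gb N56335 = N55721 := ded_25_1 (flp_h L746895) (flp_b L739553) L754063
theorem L754069 : sm ge N56335 = N54996 := ded_43_1 (flp_h L739651) (flp_e L739557) L754063
theorem L754071 : sm gf N56335 = N54987 := ded_47_1 (flp_h L739563) (flp_f L739559) L754063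
theorem L754073 : sm gj N56335 = N54994 := ded_52_1 (flp_h L739635) (flp_j L739561) L754063
theorem L754075 : sm gd N54987 = N56336 := rfl
theorem L754077 : sm ga N56336 = N55068 := ded_12_1 (flp_d L740437) (flp_a L739565) L754075
theorem L754079 : sm gj N56336 = N54995 := ded_37_2 (flp_d L739643) (flp_j L739569) L754075
theorem L754081 : sm gh N56336 = N55232 := ded_38_2 (flp_d L742224) (flp_h L725258) (flp_d L722308) L739563 L754075
theorem L754083 : sm gh N54988 = N56337 := rfl
theorem L754085 : sm ga N56337 = N54990 := ded_17_1 (flp_h L739597) (flp_a L739573) L754083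
theorem L754087 : sm gb N56337 = N55071 := ded_25_1 (flp_h L740473) (flp_b L739575) L754083
theorem L754089 : sm gc N56337 = N55048 := ded_32_1 (flp_h L740229) (flp_c L739577) L754083
theorem L754091 : sm gf N56337 = N54997 := ded_47_1 (flp_h L739661) (flp_f L739581) L754083
theorem L754093 : sm gg N56337 = N54996 := ded_50_1 (flp_h L739651) (flp_g L739583) L754083
theorem L754095 : sm gj N56337 = N55051 := ded_52_1 (flp_h L740265) (flp_j L739585) L754083
theorem L754097 : sm gi N56337 = N55090 := ded_54_2 (flp_h L740656) (flp_i L723379) (flp_h L722334) L739571 L754083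
theorem L754099 : sm gh N54989 = N56338 := rfl
theorem L754101 : sm gb N56338 = N54992 := ded_25_1 (flp_h L739615) (flp_b L739589) L754099
theorem L754103 : sm ge N56338 = N54990 := ded_43_1 (flp_h L739597) (flp_e L739593) L754099
theorem L754105 : sm gg N56338 = N55067 := ded_50_1 (flp_h L740427) (flp_g L739595) L754099
theorem L754107 : sm gd N54990 = N56339 := rfl
theorem L754109 : sm gb N56339 = N54993 := ded_20_1 (flp_d L739625) (flp_b L739599) L754107
theorem L754111 : sm gf N56339 = N54998 := ded_35_2 (flp_d L739677) (flp_f L739601) L754107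
theorem L754113 : sm gg N56339 = N55092 := ded_36_2 (flp_d L740675) (flp_g L739603) L754107
theorem L754115 : sm gj N56339 = N55739 := ded_37_2 (flp_d L753978) L753976 L754107
theorem L754117 : sm gh N56339 = N55011 := ded_38_2 (flp_d L739835) (flp_h L722653) (flp_d L722350) L739597 L754107
theorem L754119 : sm gh N54991 = N56340 := rfl
theorem L754121 : sm ga N56340 = N55083 := ded_17_1 (flp_h L740608) (flp_a L739607) L754119
theorem L754123 : sm gc N56340 = N54994 := ded_32_1 (flp_h L739635) (flp_c L739609) L754119
theorem L754125 : sm ge N56340 = N54999 := ded_43_1 (flp_h L739687) (flp_e L739611) L754119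
theorem L754127 : sm gf N56340 = N54992 := ded_47_1 (flp_h L739615) (flp_f L739613) L754119
theorem L754129 : sm gd N54992 = N56341 := rfl
theorem L754131 : sm ga N56341 = N55084 := ded_12_1 (flp_d L740616) (flp_a L739617) L754129
theorem L754133 : sm gg N56341 = N55698 := ded_36_2 (flp_d L746752) (flp_g L739623) L754129
theorem L754135 : sm ge N54993 = N56342 := rfl
theorem L754137 : sm ga N56342 = N55085 := ded_13_1 (flp_e L740620) (flp_a L739627) L754135
theorem L754139 : sm gg N56342 = N55699 := ded_41_2 (flp_e L746756) (flp_g L739631) L754135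
theorem L754141 : sm gh N56342 = N55012 := ded_43_2 (flp_e L739846) (flp_h L739633) L754135
theorem L754143 : sm gd N54994 = N56343 := rfl
theorem L754145 : sm ga N56343 = N55088 := ded_12_1 (flp_d L740644) (flp_a L739637) L754143
theorem L754147 : sm gf N56343 = N54995 := ded_35_2 (flp_d L739643) (flp_f L739641) L754143
theorem L754149 : sm gh N56343 = N55242 := ded_38_2 (flp_d L742336) (flp_h L725355) (flp_d L722388) L739635 L754143
theorem L754151 : sm gc N54995 = N56344 := rfl
theorem L754153 : sm ga N56344 = N55089 := ded_11_1 (flp_c L740650) (flp_a L739645) L754151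
theorem L754155 : sm gg N56344 = N55700 := ded_30_2 (flp_c L746762) (flp_g L739647) L754151
theorem L754157 : sm gh N56344 = N55243 := ded_32_2 (flp_c L742342) (flp_h L739649) L754151
theorem L754159 : sm gc N54998 = N56345 := rfl
theorem L754161 : sm ga N56345 = N55105 := ded_11_1 (flp_c L748945) L748943 L754159
theorem L754163 : sm gg N56345 = N55004 := ded_30_2 (flp_c L739738) (flp_g L739681) L754159
theorem L754165 : sm gj N56345 = N55686 := ded_31_2 L746662 (flp_j L739683) L754159
theorem L754167 : sm gh N56345 = N55013 := ded_32_2 (flp_c L739853) (flp_h L739685) L754159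
theorem L754169 : sm gi N56345 = N55099 := ded_33_2 (flp_c L753959) L753957 L754159
theorem L754171 : sm gb N56345 = N55663 := ded_19_1 L746496 (flp_b L738255) L738261 (flp_b L739679) L754159
theorem L754173 : sm gd N56345 = N55053 := ded_27_2 (flp_c L753238) L753247 L739089 L739677 L754159
theorem L754175 : sm ge N55052 = N56345 := ded_13_0 L754161 L740787 (flp_a L740277)
theorem L754177 : sm ge N54998 = N56346 := rfl
theorem L754179 : sm ga N56346 = N55686 := ded_13_1 (flp_e L748933) L748943 L754177
theorem L754181 : sm gb N56346 = N55001 := ded_21_1 (flp_e L739704) (flp_b L739679) L754177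
theorem L754183 : sm gc N56346 = N55052 := ded_28_1 L754175 (flp_c L754159) L754177
theorem L754185 : sm gg N56346 = N55005 := ded_41_2 (flp_e L739754) (flp_g L739681) L754177
theorem L754187 : sm gj N56346 = N55105 := ded_42_2 L740787 (flp_j L739683) L754177
theorem L754189 : sm gh N56346 = N55014 := ded_43_2 (flp_e L739867) (flp_h L739685) L754177
theorem L754191 : sm gi N56346 = N55098 := ded_44_2 (flp_e L753961) L753957 L754177
theorem L754193 : sm gd N56346 = N55056 := ded_34_1 (flp_e L753276) L753285 L739362 L739677 L754177
theorem L754195 : sm gd N54999 = N56347 := rfl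
theorem L754197 : sm ga N56347 = N55097 := ded_12_1 (flp_d L740734) (flp_a L739689) L754195
theorem L754199 : sm gf N56347 = N55000 := ded_35_2 (flp_d L739695) (flp_f L739693) L754195
theorem L754201 : sm gg N56347 = N55711 := ded_36_2 L748596 L748590 L754195
theorem L754203 : sm gi N56347 = N55739 := ded_39_2 (flp_d L753978) L753980 L754195
theorem L754205 : sm gh N56347 = N56347 := ded_38_2 (flp_d L754195) (flp_h L739687) L722464 L739687 L754195
theorem L754206 : sm gc N55000 = N56348 := rfl
theorem L754208 : sm ga N56348 = N55098 := ded_11_1 (flp_c L740739) (flp_a L739697) L754206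
theorem L754210 : sm gg N56348 = N55006 := ded_30_2 (flp_c L739770) (flp_g L739699) L754206
theorem L754212 : sm gj N56348 = N55099 := ded_31_2 (flp_c L753959) L753955 L754206
theorem L754214 : sm gh N56348 = N56348 := ded_32_2 (flp_c L754206) L739703 L754206
theorem L754215 : sm gi N56348 = N55686 := ded_33_2 L746662 (flp_i L739701) L754206
theorem L754217 : sm gb N56348 = N55684 := ded_19_1 (flp_c L748412) L748404 L753272 (flp_b L753287) L754206
theorem L754219 : sm gd N56348 = N55003 := ded_27_2 (flp_c L739724) (flp_d L722491) (flp_c L722471) L739695 L754206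
theorem L754221 : sm ge N55091 = N56348 := ded_13_0 L754208 (flp_e L753961) L753949
theorem L754223 : sm ge N55000 = N56349 := rfl
theorem L754225 : sm ga N56349 = N55099 := ded_13_1 (flp_e L740746) (flp_a L739697) L754223
theorem L754227 : sm gb N56349 = N55056 := ded_21_1 (flp_e L753276) (flp_b L753287) L754223
theorem L754229 : sm gc N56349 = N55091 := ded_28_1 L754221 (flp_c L754206) L754223
theorem L754231 : sm gg N56349 = N55007 := ded_41_2 (flp_e L739785) (flp_g L739699) L754223
theorem L754233 : sm gj N56349 = N55098 := ded_42_2 (flp_e L753961) L753955 L754223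
theorem L754235 : sm gh N56349 = N56349 := ded_43_2 (flp_e L754223) L739703 L754223
theorem L754236 : sm gi N56349 = N55105 := ded_44_2 L740787 (flp_i L739701) L754223
theorem L754238 : sm gd N56349 = N55001 := ded_34_1 (flp_e L739704) (flp_d L722477) (flp_e L722473) L739695 L754223
theorem L754240 : sm gf N55001 = N56350 := rfl
theorem L754242 : sm ga N56350 = N55100 := ded_14_1 (flp_f L740753) (flp_a L739706) L754240
theorem L754244 : sm gc N56350 = N55092 := ded_29_1 L740679 (flp_c L739708) L754240
theorem L754246 : sm gj N56350 = N55103 := ded_46_2 L740777 (flp_j L739712) L754240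
theorem L754248 : sm gh N56350 = N55015 := ded_47_2 (flp_f L739881) (flp_h L739714) L754240
theorem L754250 : sm gc N55002 = N56351 := rfl
theorem L754252 : sm ga N56351 = N55103 := ded_11_1 (flp_c L740775) (flp_a L739718) L754250
theorem L754254 : sm gf N56351 = N55003 := ded_29_2 (flp_c L739724) (flp_f L739720) L754250
theorem L754256 : sm gj N56351 = N55100 := ded_31_2 (flp_c L753420) L753424 L754250
theorem L754258 : sm gh N56351 = N55009 := ded_32_2 (flp_c L739816) (flp_h L739722) L754250
theorem L754260 : sm gb N56351 = N55685 := ded_19_1 L746656 (flp_b L746995) (flp_c L753440) L753432 L754250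
theorem L754262 : sm ge N55002 = N56352 := rfl
theorem L754264 : sm ga N56352 = N55104 := ded_13_1 (flp_e L740781) (flp_a L739718) L754262
theorem L754266 : sm gh N56352 = N55010 := ded_43_2 (flp_e L739828) (flp_h L739722) L754262
theorem L754268 : sm ge N55009 = N56353 := rfl
theorem L754270 : sm ga N56353 = N55112 := ded_13_1 (flp_e L740859) (flp_a L739818) L754268
theorem L754272 : sm gb N56353 = N55690 := ded_21_1 L746690 (flp_b L739825) L754268
theorem L754274 : sm gc N56353 = N55010 := ded_28_1 (flp_e L739828) L739816 L754268
theorem L754276 : sm gj N56353 = N55127 := ded_42_2 L741017 (flp_j L739822) L754268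
theorem L754278 : sm gi N56353 = N56353 := ded_44_2 (flp_e L754268) L739824 L754268
theorem L754279 : sm gf N56353 = N55116 := ded_40_2 (flp_e L740895) L723705 (flp_e L722598) (flp_f L739820) L754268
theorem L754281 : sm gc N55011 = N56354 := rfl
theorem L754283 : sm ga N56354 = N55111 := ded_11_1 (flp_c L748977) L748975 L754281
theorem L754285 : sm gf N56354 = N55013 := ded_29_2 (flp_c L739853) (flp_f L739839) L754281
theorem L754287 : sm gg N56354 = N55015 := ded_30_2 L739885 (flp_g L739841) L754281
theorem L754289 : sm gj N56354 = N55691 := ded_31_2 L746694 (flp_j L739843) L754281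
theorem L754291 : sm gi N56354 = N56354 := ded_33_2 (flp_c L754281) L739845 L754281
theorem L754292 : sm gb N56354 = N55666 := ded_19_1 L746524 (flp_b L738316) L738325 (flp_b L739837) L754281
theorem L754294 : sm gd N56354 = N56354 := ded_27_2 (flp_c L754281) (flp_d L739835) L722657 L739835 L754281
theorem L754295 : sm ge N55011 = N56355 := rfl
theorem L754297 : sm gb N56355 = N55012 := ded_21_1 (flp_e L739846) (flp_b L739837) L754295
theorem L754299 : sm gg N56355 = N55108 := ded_41_2 (flp_e L740819) (flp_g L739841) L754295
theorem L754301 : sm gj N56355 = N55748 := ded_42_2 L747059 (flp_j L739843) L754295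
theorem L754303 : sm gi N56355 = N56355 := ded_44_2 (flp_e L754295) L739845 L754295
theorem L754304 : sm gd N56355 = N55423 := ded_34_1 (flp_e L744156) (flp_d L727065) (flp_e L722658) L739835 L754295
theorem L754306 : sm gf N55012 = N56356 := rfl
theorem L754308 : sm ga N56356 = N55127 := ded_14_1 (flp_f L741014) (flp_a L739848) L754306
theorem L754310 : sm gc N56356 = N55108 := ded_29_1 (flp_f L753021) L753012 L754306
theorem L754312 : sm gj N56356 = N55112 := ded_46_2 (flp_f L753496) L753493 L754306
theorem L754314 : sm gi N56356 = N56356 := ded_48_2 (flp_f L754306) L739852 L754306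
theorem L754315 : sm ge N56356 = N55015 := ded_40_1 (flp_f L739881) (flp_e L722698) (flp_f L722671) L739846 L754306
theorem L754317 : sm gf N55014 = N56357 := rfl
theorem L754319 : sm ga N56357 = N55691 := ded_14_1 L746698 (flp_a L739869) L754317
theorem L754321 : sm gb N56357 = N55015 := ded_22_1 (flp_f L739881) (flp_b L739871) L754317
theorem L754323 : sm gc N56357 = N55664 := ded_29_1 L746508 (flp_c L739873) L754317
theorem L754325 : sm gd N56357 = N56357 := ded_35_1 (flp_f L754317) L739880 L754317
theorem L754326 : sm gj N56357 = N55111 := ded_46_2 L740854 (flp_j L739877) L754317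
theorem L754328 : sm gi N56357 = N56357 := ded_48_2 (flp_f L754317) L739879 L754317
theorem L754329 : sm gg N56357 = N55666 := ded_45_2 (flp_f L746520) L730161 (flp_f L722732) (flp_g L739875) L754317
theorem L754331 : sm gd N55016 = N56358 := rfl
theorem L754333 : sm ga N56358 = N55337 := ded_12_1 L743383 (flp_a L739893) L754331
theorem L754335 : sm gb N56358 = N55374 := ded_20_1 (flp_d L750915) L750905 L754331
theorem L754337 : sm gg N56358 = N55220 := ded_36_2 L742084 (flp_g L739897) L754331
theorem L754339 : sm gj N56358 = N55023 := ded_37_2 (flp_d L739969) (flp_j L739899) L754331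
theorem L754341 : sm gc N56358 = N55031 := ded_27_1 (flp_d L740049) L722853 (flp_d L722756) (flp_c L739895) L754331
theorem L754343 : sm ge N56358 = N56358 := ded_34_2 (flp_d L754331) (flp_e L739891) L722745 L739891 L754331
theorem L754344 : sm gh N56358 = N55366 := ded_38_2 L743680 L726594 (flp_d L725676) (flp_h L739901) L754331
theorem L754346 : sm gf N55227 = N56358 := ded_56_1 L754343 (flp_d L754331) L739895 L722748 (flp_a L716410) (flp_h L733752) (flp_f L733756) L730478 L730479 L712029 (flp_b L705956) L705954 (flp_h L706545) L725866 L725878 L706684 L694025 (flp_b L699543) (flp_a L699530) L677935 L677931 L656041 L650211 L272662 (flp_b L272655) L187576 L129507 L89674 (flp_e L88004) (flp_d L127413) (flp_c L127408) L87920 (flp_a L562501) L174971 (flp_f L254059) (flp_e L369430) L664282 L686804 L686814 (flp_a L688755) L688764 L688759 L688757 (flp_d L693143) L693141 (flp_b L689612) (flp_a L704571) L704579 L691785 L691873 L691882 L691877 (flp_b L670355) L386624 (flp_h L387166) (flp_f L670599) L692497 L713121 (flp_c L729090) (flp_b L742918) L742916 (flp_h L742176)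
theorem L754348 : sm gf N55016 = N56359 := rfl
theorem L754350 : sm ga N56359 = N55351 := ded_14_1 L743548 (flp_a L739893) L754348
theorem L754352 : sm gb N56359 = N55829 := ded_22_1 L750917 L750905 L754348
theorem L754354 : sm gc N56359 = N55018 := ded_29_1 (flp_f L739915) (flp_c L739895) L754348
theorem L754356 : sm gd N56359 = N55227 := ded_35_1 L754346 (flp_d L754331) L754348
theorem L754358 : sm gj N56359 = N55024 := ded_46_2 (flp_f L739976) (flp_j L739899) L754348
theorem L754360 : sm gh N56359 = N55267 := ded_47_2 (flp_f L742605) (flp_h L739901) L754348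
theorem L754362 : sm ge N56359 = N56359 := ded_40_1 (flp_f L754348) (flp_e L739891) L722738 L739891 L754348
theorem L754363 : sm gg N56359 = N55225 := ded_45_2 (flp_f L742141) (flp_g L736528) L736524 (flp_g L739897) L754348
theorem L754365 : sm gi N55016 = N56360 := rfl
theorem L754367 : sm ga N56360 = N55605 := ded_18_1 (flp_i L746033) (flp_a L739893) L754365
theorem L754369 : sm gc N56360 = N55019 := ded_33_1 (flp_i L739926) (flp_c L739895) L754365
theorem L754371 : sm ge N56360 = N55017 := ded_44_1 (flp_i L739903) L739891 L754365
theorem L754373 : sm gg N56360 = N55616 := ded_51_1 (flp_i L746112) (flp_g L739897) L754365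
theorem L754375 : sm gj N56360 = N55025 := ded_53_1 (flp_i L739985) (flp_j L739899) L754365
theorem L754377 : sm gh N55017 = N56361 := rfl
theorem L754379 : sm ga N56361 = N55647 := ded_17_1 (flp_h L746362) (flp_a L739905) L754377
theorem L754381 : sm gc N56361 = N55020 := ded_32_1 (flp_h L739938) (flp_c L739907) L754377
theorem L754383 : sm gf N56361 = N56361 := ded_47_1 (flp_h L754377) L739910 L754377
theorem L754384 : sm gg N56361 = N55636 := ded_50_1 (flp_h L746279) (flp_g L739911) L754377
theorem L754386 : sm gj N56361 = N55026 := ded_52_1 (flp_h L739993) (flp_j L739913) L754377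
theorem L754388 : sm gi N56361 = N55269 := ded_54_2 (flp_h L742632) (flp_i L725678) (flp_h L722743) L739903 L754377
theorem L754390 : sm gi N55018 = N56362 := rfl
theorem L754392 : sm gb N56362 = N55692 := ded_26_1 (flp_i L746700) (flp_b L739917) L754390
theorem L754394 : sm gd N56362 = N55034 := ded_39_1 (flp_i L740084) (flp_d L739919) L754390
theorem L754396 : sm ge N56362 = N56362 := ded_44_1 (flp_i L754390) L739925 L754390
theorem L754397 : sm gf N56362 = N55019 := ded_48_1 (flp_i L739926) L739915 L754390
theorem L754399 : sm gj N56362 = N55027 := ded_53_1 (flp_i L740002) (flp_j L739921) L754390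
theorem L754401 : sm gh N55019 = N56363 := rfl
theorem L754403 : sm gb N56363 = N55862 := ded_25_1 (flp_h L747860) (flp_b L739928) L754401
theorem L754405 : sm ge N56363 = N55020 := ded_43_1 (flp_h L739938) (flp_e L739932) L754401
theorem L754407 : sm gg N56363 = N55622 := ded_50_1 (flp_h L746146) (flp_g L739934) L754401
theorem L754409 : sm gj N56363 = N55028 := ded_52_1 (flp_h L740013) (flp_j L739936) L754401
theorem L754411 : sm gi N56363 = N55272 := ded_54_2 (flp_h L742659) (flp_i L725696) (flp_h L722754) L739926 L754401
theorem L754413 : sm gi N55021 = N56364 := rfl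
theorem L754415 : sm gb N56364 = N55025 := ded_26_1 (flp_i L739985) (flp_b L739951) L754413
theorem L754417 : sm gc N56364 = N55519 := ded_33_1 (flp_i L745207) (flp_c L739953) L754413
theorem L754419 : sm ge N56364 = N55022 := ded_44_1 (flp_i L739959) L739949 L754413
theorem L754421 : sm gg N56364 = N55590 := ded_51_1 (flp_i L745896) (flp_g L739955) L754413
theorem L754423 : sm gh N55022 = N56365 := rfl
theorem L754425 : sm gb N56365 = N55026 := ded_25_1 (flp_h L739993) (flp_b L739961) L754423
theorem L754427 : sm gc N56365 = N55542 := ded_32_1 (flp_h L745435) (flp_c L739963) L754423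
theorem L754429 : sm gf N56365 = N56365 := ded_47_1 (flp_h L754423) L739966 L754423
theorem L754430 : sm gg N56365 = N55628 := ded_50_1 (flp_h L746196) (flp_g L739967) L754423
theorem L754432 : sm gi N56365 = N55278 := ded_54_2 (flp_h L742725) (flp_i L725726) (flp_h L722775) L739959 L754423
theorem L754434 : sm gh N55023 = N56366 := rfl
theorem L754436 : sm ga N56366 = N55562 := ded_17_1 (flp_h L753726) L753715 L754434
theorem L754438 : sm gb N56366 = N55373 := ded_25_1 (flp_h L749101) L749093 L754434
theorem L754440 : sm gc N56366 = N55039 := ded_32_1 (flp_h L740149) (flp_c L739973) L754434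
theorem L754442 : sm ge N56366 = N56366 := ded_43_1 (flp_h L754434) L739975 L754434
theorem L754443 : sm gf N56366 = N55504 := ded_47_1 (flp_h L749052) (flp_f L749056) L754434
theorem L754445 : sm gg N56366 = N55593 := ded_50_1 (flp_h L745930) (flp_g L739971) L754434
theorem L754447 : sm gj N56366 = N55366 := ded_52_1 (flp_h L754344) L754339 L754434
theorem L754449 : sm gd N56366 = N55280 := ded_38_1 (flp_h L742748) (flp_d L725735) (flp_h L722785) L739969 L754434
theorem L754451 : sm gi N55023 = N56367 := rfl
theorem L754453 : sm gc N56367 = N55040 := ded_33_1 (flp_i L740156) (flp_c L739973) L754451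
theorem L754455 : sm gd N56367 = N55025 := ded_39_1 (flp_i L739985) L739969 L754451
theorem L754457 : sm ge N56367 = N56367 := ded_44_1 (flp_i L754451) L739975 L754451
theorem L754458 : sm gg N56367 = N55594 := ded_51_1 (flp_i L745941) (flp_g L739971) L754451
theorem L754460 : sm gi N55024 = N56368 := rfl
theorem L754462 : sm gc N56368 = N55027 := ded_33_1 (flp_i L740002) (flp_c L739978) L754460
theorem L754464 : sm ge N56368 = N56368 := ded_44_1 (flp_i L754460) L739982 L754460
theorem L754465 : sm gf N56368 = N55025 := ded_48_1 (flp_i L739985) L739976 L754460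
theorem L754467 : sm gg N56368 = N55585 := ded_51_1 (flp_i L745859) (flp_g L739983) L754460
theorem L754469 : sm gh N55025 = N56369 := rfl
theorem L754471 : sm gc N56369 = N55028 := ded_32_1 (flp_h L740013) (flp_c L739987) L754469
theorem L754473 : sm ge N56369 = N55026 := ded_43_1 (flp_h L739993) (flp_e L739989) L754469
theorem L754475 : sm gg N56369 = N55597 := ded_50_1 (flp_h L745964) (flp_g L739991) L754469
theorem L754477 : sm gi N56369 = N55284 := ded_54_2 (flp_h L742794) (flp_i L725752) (flp_h L722785) L739985 L754469
theorem L754479 : sm gd N55026 = N56370 := rfl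
theorem L754481 : sm gf N56370 = N56370 := ded_35_2 (flp_d L754479) L739997 L754479
theorem L754482 : sm gg N56370 = N55630 := ded_36_2 (flp_d L746218) (flp_g L739998) L754479
theorem L754484 : sm gi N56370 = N55285 := ded_39_2 (flp_d L742802) (flp_i L740000) L754479
theorem L754486 : sm gh N56370 = N56370 := ded_38_2 (flp_d L754479) (flp_h L739993) L722791 L739993 L754479
theorem L754487 : sm gh N55027 = N56371 := rfl
theorem L754489 : sm gb N56371 = N55852 := ded_25_1 (flp_h L747783) (flp_b L740004) L754487
theorem L754491 : sm ge N56371 = N56371 := ded_43_1 (flp_h L754487) L740008 L754487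
theorem L754492 : sm gf N56371 = N55028 := ded_47_1 (flp_h L740013) (flp_f L740009) L754487
theorem L754494 : sm gg N56371 = N55588 := ded_50_1 (flp_h L745883) (flp_g L740011) L754487
theorem L754496 : sm gi N56371 = N55287 := ded_54_2 (flp_h L742820) (flp_i L725778) (flp_h L722801) L740002 L754487
theorem L754498 : sm gd N55028 = N56372 := rfl
theorem L754500 : sm gb N56372 = N55863 := ded_20_1 (flp_d L747868) (flp_b L740015) L754498
theorem L754502 : sm gg N56372 = N55600 := ded_36_2 (flp_d L745986) (flp_g L740019) L754498
theorem L754504 : sm gi N56372 = N55288 := ded_39_2 (flp_d L742825) (flp_i L740021) L754498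
theorem L754506 : sm gh N56372 = N55046 := ded_38_2 (flp_d L740212) (flp_h L722976) (flp_d L722810) L740013 L754498
theorem L754508 : sm gh N55029 = N56373 := rfl
theorem L754510 : sm gb N56373 = N55734 := ded_25_1 (flp_h L746971) (flp_b L740025) L754508
theorem L754512 : sm ge N56373 = N55030 := ded_43_1 (flp_h L740035) (flp_e L740029) L754508
theorem L754514 : sm gg N56373 = N55035 := ded_50_1 (flp_h L740094) (flp_g L740031) L754508
theorem L754516 : sm gj N56373 = N55471 := ded_52_1 (flp_h L744701) (flp_j L740033) L754508
theorem L754518 : sm gi N56373 = N55060 := ded_54_2 (flp_h L740350) (flp_i L723140) (flp_h L722833) L740023 L754508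
theorem L754520 : sm gh N55031 = N56374 := rfl
theorem L754522 : sm ga N56374 = N55291 := ded_17_1 L742867 (flp_a L740051) L754520
theorem L754524 : sm gb N56374 = N55667 := ded_25_1 (flp_h L746528) (flp_b L740053) L754520
theorem L754526 : sm gc N56374 = N55366 := ded_32_1 (flp_h L754344) L754341 L754520
theorem L754528 : sm ge N56374 = N56374 := ded_43_1 (flp_h L754520) L740061 L754520
theorem L754529 : sm gf N56374 = N55210 := ded_47_1 L741972 (flp_f L740055) L754520
theorem L754531 : sm gg N56374 = N55207 := ded_50_1 L741928 (flp_g L740057) L754520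
theorem L754533 : sm gj N56374 = N55039 := ded_52_1 (flp_h L740149) (flp_j L740059) L754520
theorem L754535 : sm gd N56374 = N55062 := ded_38_1 (flp_h L740369) (flp_d L723156) (flp_h L722857) L740049 L754520
theorem L754537 : sm gi N55031 = N56375 := rfl
theorem L754539 : sm ga N56375 = N55341 := ded_18_1 (flp_i L743426) (flp_a L740051) L754537
theorem L754541 : sm gb N56375 = N55668 := ded_26_1 (flp_i L746535) (flp_b L740053) L754537
theorem L754543 : sm gd N56375 = N55032 := ded_39_1 (flp_i L740062) L740049 L754537
theorem L754545 : sm ge N56375 = N56375 := ded_44_1 (flp_i L754537) L740061 L754537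
theorem L754546 : sm gf N56375 = N55230 := ded_48_1 (flp_i L742206) (flp_f L740055) L754537
theorem L754548 : sm gg N56375 = N55223 := ded_51_1 (flp_i L742122) (flp_g L740057) L754537
theorem L754550 : sm gj N56375 = N55040 := ded_53_1 (flp_i L740156) (flp_j L740059) L754537
theorem L754552 : sm gh N55032 = N56376 := rfl
theorem L754554 : sm gb N56376 = N55669 := ded_25_1 (flp_h L746540) (flp_b L740064) L754552
theorem L754556 : sm gc N56376 = N55035 := ded_32_1 (flp_h L740094) (flp_c L740066) L754552
theorem L754558 : sm ge N56376 = N55033 := ded_43_1 (flp_h L740072) (flp_e L740068) L754552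
theorem L754560 : sm gj N56376 = N55042 := ded_52_1 (flp_h L740173) (flp_j L740070) L754552
theorem L754562 : sm gi N56376 = N55065 := ded_54_2 (flp_h L740407) (flp_i L723176) (flp_h L722857) L740062 L754552
theorem L754564 : sm gd N55033 = N56377 := rfl
theorem L754566 : sm gb N56377 = N55670 := ded_20_1 (flp_d L746548) (flp_b L740074) L754564
theorem L754568 : sm gf N56377 = N55047 := ded_35_2 (flp_d L740218) (flp_f L740078) L754564
theorem L754570 : sm gj N56377 = N55043 := ded_37_2 (flp_d L740183) (flp_j L740080) L754564
theorem L754572 : sm gi N56377 = N55066 := ded_39_2 (flp_d L740417) (flp_i L740082) L754564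
theorem L754574 : sm gh N56377 = N56377 := ded_38_2 (flp_d L754564) (flp_h L740072) L722865 L740072 L754564
theorem L754575 : sm gh N55034 = N56378 := rfl
theorem L754577 : sm gb N56378 = N55693 := ded_25_1 (flp_h L746711) (flp_b L740086) L754575
theorem L754579 : sm ge N56378 = N55048 := ded_43_1 (flp_h L740229) (flp_e L740088) L754575
theorem L754581 : sm gf N56378 = N55035 := ded_47_1 (flp_h L740094) (flp_f L740090) L754575
theorem L754583 : sm gj N56378 = N55045 := ded_52_1 (flp_h L740204) (flp_j L740092) L754575
theorem L754585 : sm gi N56378 = N55067 := ded_54_2 (flp_h L740427) (flp_i L723196) (flp_h L722876) L740084 L754575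
theorem L754587 : sm gd N55035 = N56379 := rfl
theorem L754589 : sm gj N56379 = N55046 := ded_37_2 (flp_d L740212) (flp_j L740098) L754587
theorem L754591 : sm gi N56379 = N55068 := ded_39_2 (flp_d L740437) (flp_i L740100) L754587
theorem L754593 : sm gi N55036 = N56380 := rfl
theorem L754595 : sm ga N56380 = N55675 := ded_18_1 (flp_i L746589) (flp_a L740104) L754593
theorem L754597 : sm gb N56380 = N55040 := ded_26_1 (flp_i L740156) (flp_b L740106) L754593
theorem L754599 : sm gc N56380 = N55148 := ded_33_1 (flp_i L741259) (flp_c L740114) L754593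
theorem L754601 : sm gd N56380 = N55037 := ded_39_1 (flp_i L740117) L740102 L754593
theorem L754603 : sm ge N56380 = N56380 := ded_44_1 (flp_i L754593) L740116 L754593
theorem L754604 : sm gf N56380 = N55146 := ded_48_1 (flp_i L741238) (flp_f L740108) L754593
theorem L754606 : sm gg N56380 = N55162 := ded_51_1 (flp_i L741434) (flp_g L740110) L754593
theorem L754608 : sm gj N56380 = N55668 := ded_53_1 (flp_i L746535) (flp_j L740112) L754593
theorem L754610 : sm gh N55037 = N56381 := rfl
theorem L754612 : sm ga N56381 = N55678 := ded_17_1 (flp_h L746612) (flp_a L740119) L754610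
theorem L754614 : sm gb N56381 = N55042 := ded_25_1 (flp_h L740173) (flp_b L740121) L754610
theorem L754616 : sm gc N56381 = N55457 := ded_32_1 (flp_h L744538) (flp_c L740123) L754610
theorem L754618 : sm ge N56381 = N55038 := ded_43_1 (flp_h L740133) (flp_e L740125) L754610
theorem L754620 : sm gf N56381 = N55660 := ded_47_1 (flp_h L746466) (flp_f L740127) L754610
theorem L754622 : sm gg N56381 = N55703 := ded_50_1 (flp_h L746781) (flp_g L740129) L754610
theorem L754624 : sm gj N56381 = N55669 := ded_52_1 (flp_h L746540) (flp_j L740131) L754610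
theorem L754626 : sm gi N56381 = N55076 := ded_54_2 (flp_h L740540) (flp_i L723268) (flp_h L722906) L740117 L754610
theorem L754628 : sm gd N55038 = N56382 := rfl
theorem L754630 : sm ga N56382 = N55683 := ded_12_1 (flp_d L746642) (flp_a L740135) L754628
theorem L754632 : sm gb N56382 = N55043 := ded_20_1 (flp_d L740183) (flp_b L740137) L754628
theorem L754634 : sm gf N56382 = N55050 := ded_35_2 (flp_d L740250) (flp_f L740141) L754628
theorem L754636 : sm gg N56382 = N55704 := ded_36_2 (flp_d L746789) (flp_g L740143) L754628
theorem L754638 : sm gj N56382 = N55670 := ded_37_2 (flp_d L746548) (flp_j L740145) L754628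
theorem L754640 : sm gi N56382 = N55077 := ded_39_2 (flp_d L740552) (flp_i L740147) L754628
theorem L754642 : sm gc N56382 = N55477 := ded_27_1 (flp_d L744760) L727877 (flp_d L727586) (flp_c L740139) L754628
theorem L754644 : sm gh N56382 = N56382 := ded_38_2 (flp_d L754628) (flp_h L740133) L722918 L740133 L754628
theorem L754645 : sm gi N55039 = N56383 := rfl
theorem L754647 : sm gd N56383 = N55080 := ded_39_1 (flp_i L740582) (flp_d L740154) L754645
theorem L754649 : sm ge N56383 = N56383 := ded_44_1 (flp_i L754645) L740151 L754645
theorem L754650 : sm gg N56383 = N55705 := ded_51_1 (flp_i L746798) (flp_g L740152) L754645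
theorem L754652 : sm gh N55040 = N56384 := rfl
theorem L754654 : sm ge N56384 = N56384 := ded_43_1 (flp_h L754652) L740160 L754652
theorem L754655 : sm gg N56384 = N55706 := ded_50_1 (flp_h L746803) (flp_g L740161) L754652
theorem L754657 : sm gh N55041 = N56385 := rfl
theorem L754659 : sm gb N56385 = N55660 := ded_25_1 (flp_h L746466) (flp_b L740165) L754657
theorem L754661 : sm gc N56385 = N55045 := ded_32_1 (flp_h L740204) (flp_c L740167) L754657
theorem L754663 : sm ge N56385 = N55051 := ded_43_1 (flp_h L740265) (flp_e L740169) L754657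
theorem L754665 : sm gf N56385 = N55042 := ded_47_1 (flp_h L740173) (flp_f L740171) L754657
theorem L754667 : sm gi N56385 = N55083 := ded_54_2 (flp_h L740608) (flp_i L723325) (flp_h L722936) L740163 L754657
theorem L754669 : sm gd N55042 = N56386 := rfl
theorem L754671 : sm gg N56386 = N55707 := ded_36_2 (flp_d L746806) (flp_g L740179) L754669
theorem L754673 : sm gi N56386 = N55084 := ded_39_2 (flp_d L740616) (flp_i L740181) L754669
theorem L754675 : sm ge N55043 = N56387 := rfl
theorem L754677 : sm gg N56387 = N55708 := ded_41_2 (flp_e L746810) (flp_g L740187) L754675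
theorem L754679 : sm gh N56387 = N56387 := ded_43_2 (flp_e L754675) L740191 L754675
theorem L754680 : sm gi N56387 = N55085 := ded_44_2 (flp_e L740620) (flp_i L740189) L754675
theorem L754682 : sm gh N55044 = N56388 := rfl
theorem L754684 : sm gb N56388 = N55714 := ded_25_1 (flp_h L746851) (flp_b L740194) L754682
theorem L754686 : sm ge N56388 = N55054 := ded_43_1 (flp_h L740294) (flp_e L740198) L754682
theorem L754688 : sm gf N56388 = N55461 := ded_47_1 (flp_h L744586) (flp_f L740200) L754682
theorem L754690 : sm gg N56388 = N55045 := ded_50_1 (flp_h L740204) (flp_g L740202) L754682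
theorem L754692 : sm gi N56388 = N55087 := ded_54_2 (flp_h L740636) (flp_i L723357) (flp_h L722966) L740192 L754682
theorem L754694 : sm gd N55045 = N56389 := rfl
theorem L754696 : sm gf N56389 = N55046 := ded_35_2 (flp_d L740212) (flp_f L740208) L754694
theorem L754698 : sm gi N56389 = N55088 := ded_39_2 (flp_d L740644) (flp_i L740210) L754694
theorem L754700 : sm gc N55046 = N56390 := rfl
theorem L754702 : sm gg N56390 = N55709 := ded_30_2 (flp_c L746815) (flp_g L740214) L754700
theorem L754704 : sm gi N56390 = N55089 := ded_33_2 (flp_c L740650) (flp_i L740216) L754700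
theorem L754706 : sm gd N55048 = N56391 := rfl
theorem L754708 : sm gb N56391 = N55694 := ded_20_1 (flp_d L746721) (flp_b L740231) L754706
theorem L754710 : sm gf N56391 = N55049 := ded_35_2 (flp_d L740239) (flp_f L740233) L754706
theorem L754712 : sm gj N56391 = N55055 := ded_37_2 (flp_d L740302) (flp_j L740235) L754706
theorem L754714 : sm gi N56391 = N55092 := ded_39_2 (flp_d L740675) (flp_i L740237) L754706
theorem L754716 : sm gh N56391 = N56391 := ded_38_2 (flp_d L754706) (flp_h L740229) L723000 L740229 L754706
theorem L754717 : sm ge N55050 = N56392 := rfl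
theorem L754719 : sm ga N56392 = N55684 := ded_13_1 (flp_e L746647) (flp_a L740252) L754717
theorem L754721 : sm gb N56392 = N55053 := ded_21_1 (flp_e L740287) (flp_b L740254) L754717
theorem L754723 : sm gc N56392 = N55058 := ded_28_1 L740339 (flp_c L740262) L754717
theorem L754725 : sm gg N56392 = N55057 := ded_41_2 (flp_e L740316) (flp_g L740256) L754717
theorem L754727 : sm gj N56392 = N55672 := ded_42_2 (flp_e L746563) (flp_j L740258) L754717
theorem L754729 : sm gh N56392 = N56392 := ded_43_2 (flp_e L754717) L740264 L754717
theorem L754730 : sm gi N56392 = N55095 := ded_44_2 (flp_e L740714) (flp_i L740260) L754717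
theorem L754732 : sm gd N56392 = N55663 := ded_34_1 (flp_e L746492) (flp_d L730107) (flp_e L723025) L740250 L754717
theorem L754734 : sm gd N55051 = N56393 := rfl
theorem L754736 : sm ga N56393 = N55739 := ded_12_1 (flp_d L753978) L753966 L754734
theorem L754738 : sm gb N56393 = N55661 := ded_20_1 (flp_d L746474) (flp_b L740267) L754734
theorem L754740 : sm gf N56393 = N55052 := ded_35_2 (flp_d L740275) (flp_f L740271) L754734
theorem L754742 : sm gg N56393 = N55701 := ded_36_2 (flp_d L748523) L748519 L754734
theorem L754744 : sm gi N56393 = N55097 := ded_39_2 (flp_d L740734) (flp_i L740273) L754734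
theorem L754746 : sm gh N56393 = N55664 := ded_38_2 (flp_d L746502) (flp_h L730125) (flp_d L723039) L740265 L754734
theorem L754748 : sm gf N55053 = N56394 := rfl
theorem L754750 : sm gh N56394 = N56394 := ded_47_2 (flp_f L754748) L740291 L754748
theorem L754751 : sm gi N56394 = N55100 := ded_48_2 (flp_f L740753) (flp_i L740292) L754748
theorem L754753 : sm gd N55054 = N56395 := rfl
theorem L754755 : sm gf N56395 = N55058 := ded_35_2 (flp_d L740331) (flp_f L740296) L754753
theorem L754757 : sm gg N56395 = N55055 := ded_36_2 (flp_d L740302) (flp_g L740298) L754753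
theorem L754759 : sm gj N56395 = N55711 := ded_37_2 L748596 L748592 L754753
theorem L754761 : sm gi N56395 = N55102 := ded_39_2 (flp_d L740765) (flp_i L740300) L754753
theorem L754763 : sm gh N56395 = N56395 := ded_38_2 (flp_d L754753) (flp_h L740294) L723064 L740294 L754753
theorem L754764 : sm gc N55055 = N56396 := rfl
theorem L754766 : sm gf N56396 = N55056 := ded_29_2 (flp_c L740309) (flp_f L740304) L754764
theorem L754768 : sm gh N56396 = N56396 := ded_32_2 (flp_c L754764) L740308 L754764
theorem L754769 : sm gi N56396 = N55103 := ded_33_2 (flp_c L740775) (flp_i L740306) L754764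
theorem L754771 : sm ge N55055 = N56397 := rfl
theorem L754773 : sm gh N56397 = N56397 := ded_43_2 (flp_e L754771) L740308 L754771
theorem L754774 : sm gi N56397 = N55104 := ded_44_2 (flp_e L740781) (flp_i L740306) L754771
theorem L754776 : sm gh N55059 = N56398 := rfl
theorem L754778 : sm gf N56398 = N55060 := ded_47_1 (flp_h L740350) (flp_f L740346) L754776
theorem L754780 : sm gj N56398 = N55714 := ded_52_1 (flp_h L746851) (flp_j L740348) L754776
theorem L754782 : sm gd N55060 = N56399 := rfl
theorem L754784 : sm gg N56399 = N55068 := ded_36_2 (flp_d L740437) (flp_g L740354) L754782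
theorem L754786 : sm gj N56399 = N55715 := ded_37_2 (flp_d L746855) (flp_j L740356) L754782
theorem L754788 : sm gh N56399 = N55343 := ded_38_2 (flp_d L743440) (flp_h L726382) (flp_d L723142) L740350 L754782
theorem L754790 : sm gh N55061 = N56400 := rfl
theorem L754792 : sm ga N56400 = N55270 := ded_17_1 (flp_h L751497) L751486 L754790
theorem L754794 : sm gb N56400 = N55674 := ded_25_1 (flp_h L746580) (flp_b L740360) L754790
theorem L754796 : sm gc N56400 = N55352 := ded_32_1 (flp_h L743552) (flp_c L740362) L754790
theorem L754798 : sm ge N56400 = N56400 := ded_43_1 (flp_h L754790) L740368 L754790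
theorem L754799 : sm gf N56400 = N55062 := ded_47_1 (flp_h L740369) L740358 L754790
theorem L754801 : sm gg N56400 = N55199 := ded_50_1 (flp_h L753600) L753593 L754790
theorem L754803 : sm gj N56400 = N55078 := ded_52_1 (flp_h L740566) (flp_j L740366) L754790
theorem L754805 : sm gd N56400 = N55210 := ded_38_1 L741972 (flp_d L739539) L739543 (flp_d L740364) L754790
theorem L754807 : sm gi N55061 = N56401 := rfl
theorem L754809 : sm gb N56401 = N55675 := ded_26_1 (flp_i L746589) (flp_b L740360) L754807
theorem L754811 : sm gc N56401 = N55353 := ded_33_1 (flp_i L743567) (flp_c L740362) L754807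
theorem L754813 : sm gd N56401 = N55064 := ded_39_1 (flp_i L740395) (flp_d L740364) L754807
theorem L754815 : sm ge N56401 = N56401 := ded_44_1 (flp_i L754807) L740368 L754807
theorem L754816 : sm gf N56401 = N55063 := ded_48_1 (flp_i L740383) L740358 L754807
theorem L754818 : sm gj N56401 = N55079 := ded_53_1 (flp_i L740573) (flp_j L740366) L754807
theorem L754820 : sm gi N55062 = N56402 := rfl
theorem L754822 : sm ga N56402 = N55824 := ded_18_1 (flp_i L747581) (flp_a L740371) L754820
theorem L754824 : sm gb N56402 = N55676 := ded_26_1 (flp_i L746598) (flp_b L740373) L754820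
theorem L754826 : sm gc N56402 = N55354 := ded_33_1 (flp_i L743576) (flp_c L740375) L754820
theorem L754828 : sm ge N56402 = N55113 := ded_44_1 (flp_i L740864) (flp_e L740377) L754820
theorem L754830 : sm gg N56402 = N55763 := ded_51_1 (flp_i L747162) (flp_g L740379) L754820
theorem L754832 : sm gj N56402 = N55080 := ded_53_1 (flp_i L740582) (flp_j L740381) L754820
theorem L754834 : sm gh N55063 = N56403 := rfl
theorem L754836 : sm gb N56403 = N55677 := ded_25_1 (flp_h L746606) (flp_b L740385) L754834
theorem L754838 : sm gc N56403 = N55355 := ded_32_1 (flp_h L743590) (flp_c L740387) L754834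
theorem L754840 : sm ge N56403 = N55114 := ded_43_1 (flp_h L740878) (flp_e L740391) L754834
theorem L754842 : sm gj N56403 = N55081 := ded_52_1 (flp_h L740590) (flp_j L740393) L754834
theorem L754844 : sm gh N55064 = N56404 := rfl
theorem L754846 : sm gb N56404 = N55678 := ded_25_1 (flp_h L746612) (flp_b L740397) L754844
theorem L754848 : sm gc N56404 = N55067 := ded_32_1 (flp_h L740427) (flp_c L740399) L754844
theorem L754850 : sm ge N56404 = N55090 := ded_43_1 (flp_h L740656) (flp_e L740401) L754844
theorem L754852 : sm gf N56404 = N55065 := ded_47_1 (flp_h L740407) (flp_f L740403) L754844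
theorem L754854 : sm gj N56404 = N55083 := ded_52_1 (flp_h L740608) (flp_j L740405) L754844
theorem L754856 : sm gd N55065 = N56405 := rfl
theorem L754858 : sm gb N56405 = N55679 := ded_20_1 (flp_d L746620) (flp_b L740409) L754856
theorem L754860 : sm gj N56405 = N55084 := ded_37_2 (flp_d L740616) (flp_j L740415) L754856
theorem L754862 : sm ge N55066 = N56406 := rfl
theorem L754864 : sm gb N56406 = N55680 := ded_21_1 (flp_e L746622) (flp_b L740419) L754862
theorem L754866 : sm gj N56406 = N55085 := ded_42_2 (flp_e L740620) (flp_j L740423) L754862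
theorem L754868 : sm gh N56406 = N55116 := ded_43_2 (flp_e L740895) (flp_h L740425) L754862
theorem L754870 : sm gd N55067 = N56407 := rfl
theorem L754872 : sm gb N56407 = N55698 := ded_20_1 (flp_d L746752) (flp_b L740429) L754870
theorem L754874 : sm gf N56407 = N55068 := ded_35_2 (flp_d L740437) (flp_f L740433) L754870
theorem L754876 : sm gj N56407 = N55088 := ded_37_2 (flp_d L740644) (flp_j L740435) L754870
theorem L754878 : sm gh N56407 = N55363 := ded_38_2 (flp_d L743656) (flp_h L726539) (flp_d L723200) L740427 L754870
theorem L754880 : sm gc N55068 = N56408 := rfl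
theorem L754882 : sm gj N56408 = N55089 := ded_31_2 (flp_c L740650) (flp_j L740439) L754880
theorem L754884 : sm gh N56408 = N55364 := ded_32_2 (flp_c L743662) (flp_h L740441) L754880
theorem L754886 : sm gi N55069 = N56409 := rfl
theorem L754888 : sm ga N56409 = N55074 := ded_18_1 (flp_i L740512) (flp_a L740445) L754886
theorem L754890 : sm gb N56409 = N55230 := ded_26_1 (flp_i L742206) (flp_b L740447) L754886
theorem L754892 : sm gc N56409 = N55144 := ded_33_1 (flp_i L741219) (flp_c L740455) L754886
theorem L754894 : sm gd N56409 = N55070 := ded_39_1 (flp_i L740459) L740443 L754886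
theorem L754896 : sm ge N56409 = N55117 := ded_44_1 (flp_i L740902) (flp_e L740457) L754886
theorem L754898 : sm gf N56409 = N55668 := ded_48_1 (flp_i L746535) (flp_f L740449) L754886
theorem L754900 : sm gg N56409 = N55171 := ded_51_1 (flp_i L741543) (flp_g L740451) L754886
theorem L754902 : sm gj N56409 = N55146 := ded_53_1 (flp_i L741238) (flp_j L740453) L754886
theorem L754904 : sm gh N55070 = N56410 := rfl
theorem L754906 : sm ga N56410 = N55076 := ded_17_1 (flp_h L740540) (flp_a L740461) L754904
theorem L754908 : sm gc N56410 = N55659 := ded_32_1 (flp_h L746452) (flp_c L740463) L754904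
theorem L754910 : sm ge N56410 = N55071 := ded_43_1 (flp_h L740473) (flp_e L740465) L754904
theorem L754912 : sm gf N56410 = N55669 := ded_47_1 (flp_h L746540) (flp_f L740467) L754904
theorem L754914 : sm gg N56410 = N55721 := ded_50_1 (flp_h L746895) (flp_g L740469) L754904
theorem L754916 : sm gj N56410 = N55660 := ded_52_1 (flp_h L746466) (flp_j L740471) L754904
theorem L754918 : sm gi N56410 = N55678 := ded_54_2 (flp_h L746612) (flp_i L730240) (flp_h L723224) L740459 L754904
theorem L754920 : sm gi N55072 = N56411 := rfl
theorem L754922 : sm ga N56411 = N55668 := ded_18_1 (flp_i L746535) (flp_a L740489) L754920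
theorem L754924 : sm gb N56411 = N55079 := ded_26_1 (flp_i L740573) (flp_b L740491) L754920
theorem L754926 : sm gc N56411 = N55765 := ded_33_1 (flp_i L747182) (flp_c L740493) L754920
theorem L754928 : sm gd N56411 = N55075 := ded_39_1 (flp_i L740526) (flp_d L740495) L754920
theorem L754930 : sm ge N56411 = N56411 := ded_44_1 (flp_i L754920) L740499 L754920
theorem L754931 : sm gf N56411 = N55074 := ded_48_1 (flp_i L740512) L740487 L754920
theorem L754933 : sm gj N56411 = N55675 := ded_53_1 (flp_i L746589) (flp_j L740497) L754920
theorem L754935 : sm gi N55073 = N56412 := rfl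
theorem L754937 : sm gb N56412 = N55080 := ded_26_1 (flp_i L740582) (flp_b L740502) L754935
theorem L754939 : sm gc N56412 = N55189 := ded_33_1 (flp_i L741722) (flp_c L740504) L754935
theorem L754941 : sm ge N56412 = N55119 := ded_44_1 (flp_i L740933) (flp_e L740506) L754935
theorem L754943 : sm gg N56412 = N55191 := ded_51_1 (flp_i L741743) (flp_g L740508) L754935
theorem L754945 : sm gj N56412 = N55676 := ded_53_1 (flp_i L746598) (flp_j L740510) L754935
theorem L754947 : sm gh N55074 = N56413 := rfl
theorem L754949 : sm gb N56413 = N55081 := ded_25_1 (flp_h L740590) (flp_b L740514) L754947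
theorem L754951 : sm gc N56413 = N55766 := ded_32_1 (flp_h L747191) (flp_c L740516) L754947
theorem L754953 : sm ge N56413 = N55120 := ded_43_1 (flp_h L740945) (flp_e L740520) L754947
theorem L754955 : sm gg N56413 = N55723 := ded_50_1 (flp_h L746909) (flp_g L740522) L754947
theorem L754957 : sm gj N56413 = N55677 := ded_52_1 (flp_h L746606) (flp_j L740524) L754947
theorem L754959 : sm gh N55075 = N56414 := rfl
theorem L754961 : sm ga N56414 = N55669 := ded_17_1 (flp_h L746540) (flp_a L740528) L754959
theorem L754963 : sm gb N56414 = N55083 := ded_25_1 (flp_h L740608) (flp_b L740530) L754959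
theorem L754965 : sm gc N56414 = N55658 := ded_32_1 (flp_h L746438) (flp_c L740532) L754959
theorem L754967 : sm ge N56414 = N55093 := ded_43_1 (flp_h L740685) (flp_e L740534) L754959
theorem L754969 : sm gf N56414 = N55076 := ded_47_1 (flp_h L740540) (flp_f L740536) L754959
theorem L754971 : sm gj N56414 = N55678 := ded_52_1 (flp_h L746612) (flp_j L740538) L754959
theorem L754973 : sm gi N56414 = N55660 := ded_54_2 (flp_h L746466) (flp_i L730085) (flp_h L723264) L740526 L754959
theorem L754975 : sm gd N55076 = N56415 := rfl
theorem L754977 : sm gb N56415 = N55084 := ded_20_1 (flp_d L740616) (flp_b L740542) L754975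
theorem L754979 : sm gg N56415 = N55725 := ded_36_2 (flp_d L746923) (flp_g L740548) L754975
theorem L754981 : sm gj N56415 = N55679 := ded_37_2 (flp_d L746620) (flp_j L740550) L754975
theorem L754983 : sm ge N55077 = N56416 := rfl
theorem L754985 : sm gb N56416 = N55085 := ded_21_1 (flp_e L740620) (flp_b L740554) L754983
theorem L754987 : sm gc N56416 = N55719 := ded_28_1 (flp_e L746883) (flp_c L740562) L754983
theorem L754989 : sm gg N56416 = N55726 := ded_41_2 (flp_e L746927) (flp_g L740558) L754983
theorem L754991 : sm gj N56416 = N55680 := ded_42_2 (flp_e L746622) (flp_j L740560) L754983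
theorem L754993 : sm gh N56416 = N55122 := ded_43_2 (flp_e L740968) (flp_h L740564) L754983
theorem L754995 : sm gi N55078 = N56417 := rfl
theorem L754997 : sm gc N56417 = N55376 := ded_33_1 (flp_i L743767) (flp_c L740568) L754995
theorem L754999 : sm ge N56417 = N56417 := ded_44_1 (flp_i L754995) L740570 L754995
theorem L755000 : sm gf N56417 = N55080 := ded_48_1 (flp_i L740582) (flp_f L740571) L754995
theorem L755002 : sm gh N55079 = N56418 := rfl
theorem L755004 : sm gc N56418 = N55377 := ded_32_1 (flp_h L743772) (flp_c L740575) L755002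
theorem L755006 : sm ge N56418 = N56418 := ded_43_1 (flp_h L755002) L740579 L755002
theorem L755007 : sm gf N56418 = N55081 := ded_47_1 (flp_h L740590) (flp_f L740580) L755002
theorem L755009 : sm gh N55080 = N56419 := rfl
theorem L755011 : sm gc N56419 = N55378 := ded_32_1 (flp_h L743777) (flp_c L740584) L755009
theorem L755013 : sm ge N56419 = N55123 := ded_43_1 (flp_h L740979) (flp_e L740586) L755009
theorem L755015 : sm gg N56419 = N55727 := ded_50_1 (flp_h L746933) (flp_g L740588) L755009
theorem L755017 : sm gi N56419 = N55081 := ded_54_2 (flp_h L740590) (flp_i L723307) L723299 L740582 L755009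
theorem L755019 : sm gd N55081 = N56420 := rfl
theorem L755021 : sm gg N56420 = N55728 := ded_36_2 (flp_d L746941) (flp_g L740596) L755019
theorem L755023 : sm gh N56420 = N55084 := ded_38_2 (flp_d L740616) (flp_h L723333) (flp_d L723311) L740590 L755019
theorem L755025 : sm gh N55082 = N56421 := rfl
theorem L755027 : sm gc N56421 = N55087 := ded_32_1 (flp_h L740636) (flp_c L740600) L755025
theorem L755029 : sm ge N56421 = N55096 := ded_43_1 (flp_h L740726) (flp_e L740602) L755025
theorem L755031 : sm gf N56421 = N55729 := ded_47_1 (flp_h L746945) (flp_f L740604) L755025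
theorem L755033 : sm gg N56421 = N55083 := ded_50_1 (flp_h L740608) (flp_g L740606) L755025
theorem L755035 : sm gd N55083 = N56422 := rfl
theorem L755037 : sm gf N56422 = N55084 := ded_35_2 (flp_d L740616) (flp_f L740614) L755035
theorem L755039 : sm gc N55084 = N56423 := rfl
theorem L755041 : sm gg N56423 = N55731 := ded_30_2 (flp_c L746957) (flp_g L740618) L755039
theorem L755043 : sm gd N56423 = N55089 := ded_27_2 (flp_c L740650) (flp_d L723373) (flp_c L723335) L740616 L755039
theorem L755045 : sm ge N55084 = N56424 := rfl
theorem L755047 : sm gg N56424 = N55732 := ded_41_2 (flp_e L746961) (flp_g L740618) L755045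
theorem L755049 : sm gd N56424 = N55085 := ded_34_1 (flp_e L740620) (flp_d L723341) (flp_e L723337) L740616 L755045
theorem L755051 : sm gf N55085 = N56425 := rfl
theorem L755053 : sm gh N56425 = N55127 := ded_47_2 (flp_f L741014) (flp_h L740624) L755051
theorem L755055 : sm ge N56425 = N55100 := ded_40_1 (flp_f L740753) (flp_e L723505) (flp_f L723343) L740620 L755051
theorem L755057 : sm gh N55086 = N56426 := rfl
theorem L755059 : sm ge N56426 = N55101 := ded_43_1 (flp_h L740757) (flp_e L740630) L755057
theorem L755061 : sm gf N56426 = N55734 := ded_47_1 (flp_h L746971) (flp_f L740632) L755057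
theorem L755063 : sm gj N56426 = N55087 := ded_52_1 (flp_h L740636) (flp_j L740634) L755057
theorem L755065 : sm gd N55087 = N56427 := rfl
theorem L755067 : sm gf N56427 = N55735 := ded_35_2 (flp_d L746977) (flp_f L740640) L755065
theorem L755069 : sm gg N56427 = N55088 := ded_36_2 (flp_d L740644) (flp_g L740642) L755065
theorem L755071 : sm gh N56427 = N55387 := ded_38_2 (flp_d L743851) (flp_h L726707) (flp_d L723359) L740636 L755065
theorem L755073 : sm gc N55088 = N56428 := rfl
theorem L755075 : sm gf N56428 = N55089 := ded_29_2 (flp_c L740650) (flp_f L740646) L755073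
theorem L755077 : sm gh N56428 = N55388 := ded_32_2 (flp_c L743857) (flp_h L740648) L755073
theorem L755079 : sm ge N55088 = N56429 := rfl
theorem L755081 : sm gh N56429 = N55389 := ded_43_2 (flp_e L743861) (flp_h L740648) L755079
theorem L755083 : sm gd N56429 = N55104 := ded_34_1 (flp_e L740781) (flp_d L723525) (flp_e L723369) L740644 L755079
theorem L755085 : sm gb N55089 = N56430 := rfl
theorem L755087 : sm gg N56430 = N55737 := ded_23_2 (flp_b L746989) (flp_g L740652) L755085
theorem L755089 : sm gh N56430 = N55390 := ded_25_2 (flp_b L743865) (flp_h L740654) L755085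
theorem L755091 : sm gd N55090 = N56431 := rfl
theorem L755093 : sm gb N56431 = N55683 := ded_20_1 (flp_d L746642) (flp_b L740658) L755091
theorem L755095 : sm gf N56431 = N55091 := ded_35_2 (flp_d L740666) (flp_f L740662) L755091
theorem L755097 : sm gj N56431 = N55097 := ded_37_2 (flp_d L740734) (flp_j L740664) L755091
theorem L755099 : sm gh N56431 = N56431 := ded_38_2 (flp_d L755091) (flp_h L740656) L723385 L740656 L755091
theorem L755100 : sm ge N55092 = N56432 := rfl
theorem L755102 : sm gb N56432 = N55699 := ded_21_1 (flp_e L746756) (flp_b L740677) L755100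
theorem L755104 : sm gj N56432 = N55104 := ded_42_2 (flp_e L740781) (flp_j L740681) L755100
theorem L755106 : sm gh N56432 = N55108 := ded_43_2 (flp_e L740819) (flp_h L740683) L755100
theorem L755108 : sm gd N55093 = N56433 := rfl
theorem L755110 : sm ga N56433 = N55670 := ded_12_1 (flp_d L746548) (flp_a L740687) L755108
theorem L755112 : sm gb N56433 = N55097 := ded_20_1 (flp_d L740734) (flp_b L740689) L755108
theorem L755114 : sm gf N56433 = N55094 := ded_35_2 (flp_d L740699) (flp_f L740693) L755108
theorem L755116 : sm gj N56433 = N55683 := ded_37_2 (flp_d L746642) (flp_j L740695) L755108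
theorem L755118 : sm gi N56433 = N55661 := ded_39_2 (flp_d L746474) (flp_i L740697) L755108
theorem L755120 : sm gc N56433 = N55694 := ded_27_1 (flp_d L746721) L730366 (flp_d L730053) (flp_c L740691) L755108
theorem L755122 : sm gh N56433 = N56433 := ded_38_2 (flp_d L755108) (flp_h L740685) L723452 L740685 L755108
theorem L755123 : sm ge N55094 = N56434 := rfl
theorem L755125 : sm ga N56434 = N55672 := ded_13_1 (flp_e L746563) (flp_a L740701) L755123
theorem L755127 : sm gb N56434 = N55099 := ded_21_1 (flp_e L740746) (flp_b L740703) L755123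
theorem L755129 : sm gc N56434 = N55107 := ded_28_1 L740816 (flp_c L740711) L755123
theorem L755131 : sm gg N56434 = N55106 := ded_41_2 (flp_e L740793) (flp_g L740705) L755123
theorem L755133 : sm gj N56434 = N55684 := ded_42_2 (flp_e L746647) (flp_j L740707) L755123
theorem L755135 : sm gh N56434 = N56434 := ded_43_2 (flp_e L755123) L740713 L755123
theorem L755136 : sm gi N56434 = N55663 := ded_44_2 (flp_e L746492) (flp_i L740709) L755123
theorem L755138 : sm gd N56434 = N55095 := ded_34_1 (flp_e L740714) (flp_d L723473) (flp_e L723465) L740699 L755123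
theorem L755140 : sm gf N55095 = N56435 := rfl
theorem L755142 : sm gb N56435 = N55100 := ded_22_1 (flp_f L740753) (flp_b L740716) L755140
theorem L755144 : sm gc N56435 = N55102 := ded_29_1 L740767 (flp_c L740718) L755140
theorem L755146 : sm gj N56435 = N55685 := ded_46_2 (flp_f L746654) (flp_j L740722) L755140
theorem L755148 : sm gh N56435 = N55109 := ded_47_2 L740830 (flp_h L740724) L755140
theorem L755150 : sm gg N56435 = N55103 := ded_45_2 L740777 L723533 (flp_f L723556) (flp_g L740720) L755140
theorem L755152 : sm gd N55096 = N56436 := rfl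
theorem L755154 : sm ga N56436 = N55711 := ded_12_1 L748596 L748584 L755152
theorem L755156 : sm gf N56436 = N55107 := ded_35_2 (flp_d L740808) (flp_f L740730) L755152
theorem L755158 : sm gg N56436 = N55097 := ded_36_2 (flp_d L740734) (flp_g L740732) L755152
theorem L755160 : sm gi N56436 = N55701 := ded_39_2 (flp_d L748523) L748525 L755152
theorem L755162 : sm gh N56436 = N56436 := ded_38_2 (flp_d L755152) (flp_h L740726) L723489 L740726 L755152
theorem L755163 : sm gc N55097 = N56437 := rfl
theorem L755165 : sm gf N56437 = N55098 := ded_29_2 (flp_c L740739) (flp_f L740736) L755163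
theorem L755167 : sm gh N56437 = N56437 := ded_32_2 (flp_c L755163) L740738 L755163
theorem L755168 : sm gd N56437 = N55103 := ded_27_2 (flp_c L740775) (flp_d L723525) (flp_c L723496) L740734 L755163
theorem L755170 : sm ge N55097 = N56438 := rfl
theorem L755172 : sm gh N56438 = N56438 := ded_43_2 (flp_e L755170) L740738 L755170
theorem L755173 : sm gf N55099 = N56439 := rfl
theorem L755175 : sm gd N56439 = N55100 := ded_35_1 (flp_f L740753) (flp_d L740751) L755173
theorem L755177 : sm gh N56439 = N56439 := ded_47_2 (flp_f L755173) L740750 L755173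
theorem L755178 : sm gg N55100 = N56440 := rfl
theorem L755180 : sm gb N56440 = N55103 := ded_23_1 (flp_g L755150) L755142 L755178
theorem L755182 : sm gh N56440 = N55111 := ded_50_2 L740856 (flp_h L740755) L755178
theorem L755184 : sm gf N56440 = N55105 := ded_45_1 L740789 (flp_f L723587) (flp_g L723507) L740753 L755178
theorem L755186 : sm ge N55102 = N56441 := rfl
theorem L755188 : sm gg N56441 = N55104 := ded_41_2 (flp_e L740781) (flp_g L740769) L755186
theorem L755190 : sm gj N56441 = N55733 := ded_42_2 L746969 (flp_j L740771) L755186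
theorem L755192 : sm gh N56441 = N55110 := ded_43_2 (flp_e L740840) (flp_h L740773) L755186
theorem L755194 : sm gf N56441 = N55719 := ded_40_2 (flp_e L746883) L730580 (flp_e L723611) (flp_f L740767) L755186
theorem L755196 : sm ge N55103 = N56442 := rfl
theorem L755198 : sm gc N56442 = N55104 := ded_28_1 (flp_e L740781) L740775 L755196
theorem L755200 : sm gh N56442 = N55112 := ded_43_2 (flp_e L740859) (flp_h L740779) L755196
theorem L755202 : sm ge N55109 = N56443 := rfl
theorem L755204 : sm gb N56443 = N55127 := ded_21_1 L741017 (flp_b L740837) L755202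
theorem L755206 : sm gc N56443 = N55110 := ded_28_1 (flp_e L740840) L740828 L755202
theorem L755208 : sm gg N56443 = N55112 := ded_41_2 (flp_e L740859) (flp_g L740832) L755202
theorem L755210 : sm gj N56443 = N55690 := ded_42_2 L746690 (flp_j L740834) L755202
theorem L755212 : sm gi N56443 = N56443 := ded_44_2 (flp_e L755202) L740836 L755202
theorem L755213 : sm gf N56443 = N55122 := ded_40_2 (flp_e L740968) L723794 (flp_e L723654) (flp_f L740830) L755202
theorem L755215 : sm ge N55111 = N56444 := rfl
theorem L755217 : sm gb N56444 = N55112 := ded_21_1 (flp_e L740859) L740851 L755215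
theorem L755219 : sm gg N56444 = N55127 := ded_41_2 L741017 (flp_g L740856) L755215
theorem L755221 : sm gi N56444 = N56444 := ded_44_2 (flp_e L755215) L740858 L755215
theorem L755222 : sm gf N56444 = N55748 := ded_40_2 L747059 L730836 (flp_e L723647) (flp_f L740854) L755215
theorem L755224 : sm gd N55112 = N56445 := rfl
theorem L755226 : sm gi N56445 = N56445 := ded_39_2 (flp_d L755224) L740863 L755224
theorem L755227 : sm gc N56445 = N55432 := ded_27_1 (flp_d L744240) L727125 (flp_d L723642) (flp_c L740861) L755224
theorem L755229 : sm ge N56445 = N56445 := ded_34_2 (flp_d L755224) (flp_e L740859) L723638 L740859 L755224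
theorem L755230 : sm gh N55113 = N56446 := rfl
theorem L755232 : sm ga N56446 = N55914 := ded_17_1 (flp_h L748190) (flp_a L740866) L755230
theorem L755234 : sm gb N56446 = N55687 := ded_25_1 (flp_h L746666) (flp_b L740868) L755230
theorem L755236 : sm gc N56446 = N55433 := ded_32_1 (flp_h L744244) (flp_c L740870) L755230
theorem L755238 : sm gf N56446 = N56446 := ded_47_1 (flp_h L755230) L740873 L755230
theorem L755239 : sm gg N56446 = N55782 := ded_50_1 (flp_h L747297) (flp_g L740874) L755230
theorem L755241 : sm gj N56446 = N55123 := ded_52_1 (flp_h L740979) (flp_j L740876) L755230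
theorem L755243 : sm gi N56446 = N55114 := ded_54_2 (flp_h L740878) (flp_i L723678) L723664 L740864 L755230
theorem L755245 : sm gd N55114 = N56447 := rfl
theorem L755247 : sm gb N56447 = N55688 := ded_20_1 (flp_d L746675) (flp_b L740880) L755245
theorem L755249 : sm gf N56447 = N56447 := ded_35_2 (flp_d L755245) L740884 L755245
theorem L755250 : sm gj N56447 = N55124 := ded_37_2 (flp_d L740988) (flp_j L740885) L755245
theorem L755252 : sm gh N56447 = N55115 := ded_38_2 (flp_d L740887) (flp_h L723689) (flp_d L723684) L740878 L755245
theorem L755254 : sm ge N55115 = N56448 := rfl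
theorem L755256 : sm gb N56448 = N55689 := ded_21_1 (flp_e L746680) (flp_b L740889) L755254
theorem L755258 : sm gj N56448 = N55126 := ded_42_2 (flp_e L741007) (flp_j L740892) L755254
theorem L755260 : sm gi N56448 = N56448 := ded_44_2 (flp_e L755254) L740894 L755254
theorem L755261 : sm gd N56448 = N55116 := ded_34_1 (flp_e L740895) (flp_d L723701) (flp_e L723695) L740887 L755254
theorem L755263 : sm gh N55117 = N56449 := rfl
theorem L755265 : sm ga N56449 = N55120 := ded_17_1 (flp_h L740945) (flp_a L740904) L755263
theorem L755267 : sm gb N56449 = N55247 := ded_25_1 (flp_h L742388) (flp_b L740906) L755263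
theorem L755269 : sm gc N56449 = N55145 := ded_32_1 (flp_h L741229) (flp_c L740908) L755263
theorem L755271 : sm gf N56449 = N56449 := ded_47_1 (flp_h L755263) L740912 L755263
theorem L755272 : sm gg N56449 = N55176 := ded_50_1 (flp_h L741587) (flp_g L740913) L755263
theorem L755274 : sm gj N56449 = N55147 := ded_52_1 (flp_h L741250) (flp_j L740915) L755263
theorem L755276 : sm gd N55118 = N56450 := rfl
theorem L755278 : sm ga N56450 = N55121 := ded_12_1 (flp_d L740956) (flp_a L740919) L755276
theorem L755280 : sm gb N56450 = N55254 := ded_20_1 (flp_d L742452) (flp_b L740921) L755276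
theorem L755282 : sm gf N56450 = N56450 := ded_35_2 (flp_d L755276) L740927 L755276
theorem L755283 : sm gg N56450 = N55183 := ded_36_2 (flp_d L741655) (flp_g L740928) L755276
theorem L755285 : sm gj N56450 = N55181 := ded_37_2 (flp_d L741636) (flp_j L740930) L755276
theorem L755287 : sm gi N56450 = N56450 := ded_39_2 (flp_d L755276) L740932 L755276
theorem L755288 : sm gc N56450 = N55441 := ded_27_1 (flp_d L744345) L727312 (flp_d L723859) (flp_c L740923) L755276
theorem L755290 : sm gh N55119 = N56451 := rfl
theorem L755292 : sm gb N56451 = N55123 := ded_25_1 (flp_h L740979) (flp_b L740935) L755290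
theorem L755294 : sm gc N56451 = N55190 := ded_32_1 (flp_h L741732) (flp_c L740937) L755290
theorem L755296 : sm gf N56451 = N56451 := ded_47_1 (flp_h L755290) L740940 L755290
theorem L755297 : sm gg N56451 = N55192 := ded_50_1 (flp_h L741753) (flp_g L740941) L755290
theorem L755299 : sm gj N56451 = N55687 := ded_52_1 (flp_h L746666) (flp_j L740943) L755290
theorem L755301 : sm gi N56451 = N55120 := ded_54_2 (flp_h L740945) (flp_i L723763) L723751 L740933 L755290
theorem L755303 : sm gd N55120 = N56452 := rfl
theorem L755305 : sm gb N56452 = N55124 := ded_20_1 (flp_d L740988) (flp_b L740947) L755303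
theorem L755307 : sm gf N56452 = N56452 := ded_35_2 (flp_d L755303) L740951 L755303
theorem L755308 : sm gg N56452 = N55743 := ded_36_2 (flp_d L747024) (flp_g L740952) L755303
theorem L755310 : sm gj N56452 = N55688 := ded_37_2 (flp_d L746675) (flp_j L740954) L755303
theorem L755312 : sm gc N56452 = N55648 := ded_27_1 (flp_d L746369) (flp_c L741848) L741855 (flp_c L740949) L755303
theorem L755314 : sm gh N56452 = N55121 := ded_38_2 (flp_d L740956) (flp_h L723776) (flp_d L723769) L740945 L755303
theorem L755316 : sm ge N55121 = N56453 := rfl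
theorem L755318 : sm gb N56453 = N55126 := ded_21_1 (flp_e L741007) (flp_b L740958) L755316
theorem L755320 : sm gc N56453 = N55649 := ded_28_1 (flp_e L746376) (flp_c L740966) L755316
theorem L755322 : sm gg N56453 = N55744 := ded_41_2 (flp_e L747032) (flp_g L740961) L755316
theorem L755324 : sm gj N56453 = N55689 := ded_42_2 (flp_e L746680) (flp_j L740963) L755316
theorem L755326 : sm gi N56453 = N56453 := ded_44_2 (flp_e L755316) L740965 L755316
theorem L755327 : sm gd N56453 = N55122 := ded_34_1 (flp_e L740968) (flp_d L723790) (flp_e L723782) L740956 L755316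
theorem L755329 : sm gd N55123 = N56454 := rfl
theorem L755331 : sm gf N56454 = N56454 := ded_35_2 (flp_d L755329) L740983 L755329
theorem L755332 : sm gg N56454 = N55746 := ded_36_2 (flp_d L747046) (flp_g L740984) L755329
theorem L755334 : sm gi N56454 = N55124 := ded_39_2 (flp_d L740988) (flp_i L740986) L755329
theorem L755336 : sm gh N56454 = N56454 := ded_38_2 (flp_d L755329) (flp_h L740979) L723807 L740979 L755329
theorem L755337 : sm gc N55124 = N56455 := rfl
theorem L755339 : sm ga N56455 = N55912 := ded_11_1 (flp_c L751961) L751954 L755337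
theorem L755341 : sm gf N56455 = N56455 := ded_29_2 (flp_c L755337) L740990 L755337
theorem L755342 : sm gg N56455 = N55592 := ded_30_2 L745926 (flp_g L740991) L755337
theorem L755344 : sm gh N56455 = N55125 := ded_32_2 (flp_c L740995) (flp_h L740993) L755337
theorem L755346 : sm gb N56455 = N55587 := ded_19_1 L745879 (flp_b L746371) (flp_c L755312) L755305 L755337
theorem L755348 : sm gd N56455 = N55435 := ded_27_2 (flp_c L744270) (flp_d L727232) (flp_c L723813) L740988 L755337
theorem L755350 : sm ge N55124 = N56456 := rfl
theorem L755352 : sm gg N56456 = N55747 := ded_41_2 (flp_e L747053) (flp_g L740991) L755350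
theorem L755354 : sm gh N56456 = N55126 := ded_43_2 (flp_e L741007) (flp_h L740993) L755350
theorem L755356 : sm ge N55125 = N56457 := rfl
theorem L755358 : sm ga N56457 = N55913 := ded_13_1 (flp_e L748185) (flp_a L740997) L755356
theorem L755360 : sm gb N56457 = N55641 := ded_21_1 (flp_e L746318) (flp_b L741003) L755356
theorem L755362 : sm gc N56457 = N55126 := ded_28_1 (flp_e L741007) L740995 L755356
theorem L755364 : sm gg N56457 = N55642 := ded_41_2 (flp_e L746325) (flp_g L741000) L755356
theorem L755366 : sm gi N56457 = N56457 := ded_44_2 (flp_e L755356) L741002 L755356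
theorem L755367 : sm gd N56457 = N55902 := ded_34_1 (flp_e L748107) (flp_d L732166) (flp_e L723833) (flp_d L741005) L755356
theorem L755369 : sm gf N55126 = N56458 := rfl
theorem L755371 : sm gd N56458 = N55127 := ded_35_1 (flp_f L741014) (flp_d L741012) L755369
theorem L755373 : sm gi N56458 = N56458 := ded_48_2 (flp_f L755369) L741011 L755369
theorem L755374 : sm ge N56458 = N56458 := ded_40_1 (flp_f L755369) (flp_e L741007) L723820 L741007 L755369
theorem L755375 : sm gh N55128 = N56459 := rfl
theorem L755377 : sm ga N56459 = N55622 := ded_17_1 (flp_h L746146) (flp_a L741021) L755375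
theorem L755379 : sm gb N56459 = N55137 := ded_25_1 (flp_h L741142) (flp_b L741023) L755375
theorem L755381 : sm ge N56459 = N55129 := ded_43_1 (flp_h L741029) (flp_e L741025) L755375
theorem L755383 : sm gj N56459 = N55132 := ded_52_1 (flp_h L741073) (flp_j L741027) L755375
theorem L755385 : sm gi N56459 = N55764 := ded_54_2 (flp_h L747174) (flp_i L730967) (flp_h L723888) L741019 L755375
theorem L755387 : sm gh N55130 = N56460 := rfl
theorem L755389 : sm ga N56460 = N55617 := ded_17_1 (flp_h L746120) (flp_a L741045) L755387
theorem L755391 : sm gb N56460 = N55385 := ded_25_1 L743837 (flp_b L741047) L755387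
theorem L755393 : sm gc N56460 = N55132 := ded_32_1 (flp_h L741073) (flp_c L741049) L755387
theorem L755395 : sm ge N56460 = N55131 := ded_43_1 (flp_h L741059) (flp_e L741053) L755387
theorem L755397 : sm gf N56460 = N55372 := ded_47_1 L743736 (flp_f L741055) L755387
theorem L755399 : sm gg N56460 = N55524 := ded_50_1 (flp_h L745258) (flp_g L741057) L755387
theorem L755401 : sm gi N56460 = N55487 := ded_54_2 (flp_h L744882) (flp_i L728078) (flp_h L723912) L741043 L755387
theorem L755403 : sm gd N55131 = N56461 := rfl
theorem L755405 : sm ga N56461 = N55637 := ded_12_1 (flp_d L746287) (flp_a L741061) L755403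
theorem L755407 : sm gb N56461 = N55410 := ded_20_1 L744045 (flp_b L741063) L755403
theorem L755409 : sm gf N56461 = N55134 := ded_35_2 (flp_d L741100) (flp_f L741067) L755403
theorem L755411 : sm gg N56461 = N55534 := ded_36_2 (flp_d L745350) (flp_g L741069) L755403
theorem L755413 : sm gi N56461 = N55488 := ded_39_2 (flp_d L744892) (flp_i L741071) L755403
theorem L755415 : sm gc N56461 = N55196 := ded_27_1 (flp_d L741790) L724863 (flp_d L723951) (flp_c L741065) L755403
theorem L755417 : sm gh N56461 = N56461 := ded_38_2 (flp_d L755403) (flp_h L741059) L723926 L741059 L755403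
theorem L755418 : sm gd N55132 = N56462 := rfl
theorem L755420 : sm ga N56462 = N55623 := ded_12_1 (flp_d L746154) (flp_a L741075) L755418
theorem L755422 : sm gb N56462 = N55139 := ded_20_1 (flp_d L741166) (flp_b L741077) L755418
theorem L755424 : sm gg N56462 = N55527 := ded_36_2 (flp_d L745280) (flp_g L741081) L755418
theorem L755426 : sm gi N56462 = N55775 := ded_39_2 (flp_d L747268) (flp_i L741083) L755418
theorem L755428 : sm ge N56462 = N55197 := ded_34_2 (flp_d L741797) L724873 (flp_d L723951) (flp_e L741079) L755418
theorem L755430 : sm gd N55133 = N56463 := rfl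
theorem L755432 : sm ga N56463 = N55640 := ded_12_1 (flp_d L746312) (flp_a L741087) L755430
theorem L755434 : sm gb N56463 = N55397 := ded_20_1 L743937 (flp_b L741089) L755430
theorem L755436 : sm gg N56463 = N56463 := ded_36_2 (flp_d L755430) L741095 L755430
theorem L755437 : sm gj N56463 = N55134 := ded_37_2 (flp_d L741100) (flp_j L741096) L755430
theorem L755439 : sm gi N56463 = N55493 := ded_39_2 (flp_d L744937) (flp_i L741098) L755430
theorem L755441 : sm gc N56463 = N55198 := ded_27_1 (flp_d L741803) L724881 (flp_d L723978) (flp_c L741091) L755430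
theorem L755443 : sm ge N56463 = N55392 := ded_34_2 (flp_d L743879) L726751 L726756 (flp_e L741093) L755430
theorem L755445 : sm gh N56463 = N56463 := ded_38_2 (flp_d L755430) (flp_h L741085) L723963 L741085 L755430
theorem L755446 : sm gh N55135 = N56464 := rfl
theorem L755448 : sm ga N56464 = N55163 := ded_17_1 (flp_h L741445) (flp_a L741117) L755446
theorem L755450 : sm gc N56464 = N55754 := ded_32_1 (flp_h L747097) (flp_c L741119) L755446
theorem L755452 : sm ge N56464 = N55136 := ded_43_1 (flp_h L741127) (flp_e L741121) L755446
theorem L755454 : sm gg N56464 = N55137 := ded_50_1 (flp_h L741142) (flp_g L741123) L755446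
theorem L755456 : sm gj N56464 = N55750 := ded_52_1 (flp_h L747069) (flp_j L741125) L755446
theorem L755458 : sm gi N56464 = N55759 := ded_54_2 (flp_h L747134) (flp_i L730922) (flp_h L724022) L741115 L755446
theorem L755460 : sm gd N55137 = N56465 := rfl
theorem L755462 : sm ga N56465 = N55166 := ded_12_1 (flp_d L741479) (flp_a L741144) L755460
theorem L755464 : sm gj N56465 = N55139 := ded_37_2 (flp_d L741166) (flp_j L741150) L755460
theorem L755466 : sm gi N56465 = N55768 := ded_39_2 (flp_d L747207) (flp_i L741152) L755460
theorem L755468 : sm ge N56465 = N55232 := ded_34_2 (flp_d L742224) L725262 (flp_d L724057) (flp_e L741148) L755460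
theorem L755470 : sm gd N55138 = N56466 := rfl
theorem L755472 : sm ga N56466 = N55173 := ded_12_1 (flp_d L741567) (flp_a L741156) L755470
theorem L755474 : sm gf N56466 = N55139 := ded_35_2 (flp_d L741166) (flp_f L741162) L755470
theorem L755476 : sm gi N56466 = N55778 := ded_39_2 (flp_d L747281) (flp_i L741164) L755470
theorem L755478 : sm gc N55139 = N56467 := rfl
theorem L755480 : sm ga N56467 = N55174 := ded_11_1 (flp_c L741571) (flp_a L741168) L755478
theorem L755482 : sm ge N56467 = N55243 := ded_28_2 (flp_c L742342) (flp_e L741174) L755478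
theorem L755484 : sm gg N56467 = N55752 := ded_30_2 (flp_c L747085) (flp_g L741170) L755478
theorem L755486 : sm gi N56467 = N55779 := ded_33_2 (flp_c L747285) (flp_i L741172) L755478
theorem L755488 : sm gd N56467 = N55757 := ded_27_2 (flp_c L747121) (flp_d L730911) (flp_c L724075) L741166 L755478
theorem L755490 : sm ge N55141 = N56468 := rfl
theorem L755492 : sm ga N56468 = N55179 := ded_13_1 (flp_e L741619) (flp_a L741193) L755490
theorem L755494 : sm gh N56468 = N55142 := ded_43_2 (flp_e L741201) (flp_h L741199) L755490
theorem L755496 : sm gi N56468 = N55786 := ded_44_2 (flp_e L747329) (flp_i L741197) L755490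
theorem L755498 : sm gf N56468 = N55253 := ded_40_2 (flp_e L742446) L725460 (flp_e L724114) (flp_f L741195) L755490
theorem L755500 : sm gi N55143 = N56469 := rfl
theorem L755502 : sm ga N56469 = N55765 := ded_18_1 (flp_i L747182) (flp_a L741210) L755500
theorem L755504 : sm gc N56469 = N55668 := ded_33_1 (flp_i L746535) (flp_c L741212) L755500
theorem L755506 : sm gd N56469 = N55153 := ded_39_1 (flp_i L741318) (flp_d L741214) L755500
theorem L755508 : sm ge N56469 = N56469 := ded_44_1 (flp_i L755500) L741218 L755500
theorem L755509 : sm gf N56469 = N55144 := ded_48_1 (flp_i L741219) L741208 L755500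
theorem L755511 : sm gj N56469 = N55148 := ded_53_1 (flp_i L741259) (flp_j L741216) L755500
theorem L755513 : sm gh N55144 = N56470 := rfl
theorem L755515 : sm ga N56470 = N55766 := ded_17_1 (flp_h L747191) (flp_a L741221) L755513
theorem L755517 : sm ge N56470 = N55145 := ded_43_1 (flp_h L741229) (flp_e L741225) L755513
theorem L755519 : sm gj N56470 = N55149 := ded_52_1 (flp_h L741268) (flp_j L741227) L755513
theorem L755521 : sm gh N55146 = N56471 := rfl
theorem L755523 : sm ga N56471 = N55677 := ded_17_1 (flp_h L746606) (flp_a L741240) L755521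
theorem L755525 : sm gc N56471 = N55149 := ded_32_1 (flp_h L741268) (flp_c L741242) L755521
theorem L755527 : sm ge N56471 = N55147 := ded_43_1 (flp_h L741250) (flp_e L741246) L755521
theorem L755529 : sm gg N56471 = N55165 := ded_50_1 (flp_h L741469) (flp_g L741248) L755521
theorem L755531 : sm gd N55147 = N56472 := rfl
theorem L755533 : sm ga N56472 = N55688 := ded_12_1 (flp_d L746675) (flp_a L741252) L755531
theorem L755535 : sm gf N56472 = N56472 := ded_35_2 (flp_d L755531) L741256 L755531
theorem L755536 : sm gg N56472 = N55175 := ded_36_2 (flp_d L741577) (flp_g L741257) L755531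
theorem L755538 : sm gc N56472 = N55285 := ded_27_1 (flp_d L742802) L725762 (flp_d L724199) (flp_c L741254) L755531
theorem L755540 : sm gh N56472 = N55181 := ded_38_2 (flp_d L741636) (flp_h L724640) (flp_d L724170) L741250 L755531
theorem L755542 : sm gh N55148 = N56473 := rfl
theorem L755544 : sm ga N56473 = N55776 := ded_17_1 (flp_h L747272) (flp_a L741261) L755542
theorem L755546 : sm ge N56473 = N56473 := ded_43_1 (flp_h L755542) L741265 L755542
theorem L755547 : sm gf N56473 = N55149 := ded_47_1 (flp_h L741268) (flp_f L741266) L755542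
theorem L755549 : sm gd N55149 = N56474 := rfl
theorem L755551 : sm ga N56474 = N55777 := ded_12_1 (flp_d L747277) (flp_a L741270) L755549
theorem L755553 : sm gg N56474 = N55753 := ded_36_2 (flp_d L747091) (flp_g L741274) L755549
theorem L755555 : sm ge N56474 = N55288 := ded_34_2 (flp_d L742825) L725787 (flp_d L724199) (flp_e L741272) L755549
theorem L755557 : sm gh N56474 = N55156 := ded_38_2 (flp_d L741354) (flp_h L724272) (flp_d L724186) L741268 L755549
theorem L755559 : sm gi N55150 = N56475 := rfl
theorem L755561 : sm ga N56475 = N55758 := ded_18_1 (flp_i L747127) (flp_a L741278) L755559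
theorem L755563 : sm gb N56475 = N55705 := ded_26_1 (flp_i L746798) (flp_b L741280) L755559
theorem L755565 : sm gc N56475 = N55749 := ded_33_1 (flp_i L747062) (flp_c L741282) L755559
theorem L755567 : sm gd N56475 = N55191 := ded_39_1 (flp_i L741743) (flp_d L741284) L755559
theorem L755569 : sm ge N56475 = N56475 := ded_44_1 (flp_i L755559) L741290 L755559
theorem L755570 : sm gf N56475 = N55151 := ded_48_1 (flp_i L741291) L741276 L755559
theorem L755572 : sm gj N56475 = N55194 := ded_53_1 (flp_i L741773) (flp_j L741286) L755559
theorem L755574 : sm gh N55151 = N56476 := rfl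
theorem L755576 : sm ga N56476 = N55759 := ded_17_1 (flp_h L747134) (flp_a L741293) L755574
theorem L755578 : sm gc N56476 = N55750 := ded_32_1 (flp_h L747069) (flp_c L741295) L755574
theorem L755580 : sm ge N56476 = N55152 := ded_43_1 (flp_h L741303) (flp_e L741297) L755574
theorem L755582 : sm gg N56476 = N55154 := ded_50_1 (flp_h L741330) (flp_g L741299) L755574
theorem L755584 : sm gj N56476 = N55754 := ded_52_1 (flp_h L747097) (flp_j L741301) L755574
theorem L755586 : sm gi N56476 = N55163 := ded_54_2 (flp_h L741445) (flp_i L724371) (flp_h L724211) L741291 L755574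
theorem L755588 : sm gh N55153 = N56477 := rfl
theorem L755590 : sm ga N56477 = N55767 := ded_17_1 (flp_h L747197) (flp_a L741320) L755588
theorem L755592 : sm gc N56477 = N55497 := ded_32_1 (flp_h L744973) (flp_c L741322) L755588
theorem L755594 : sm ge N56477 = N55157 := ded_43_1 (flp_h L741364) (flp_e L741324) L755588
theorem L755596 : sm gf N56477 = N55154 := ded_47_1 (flp_h L741330) (flp_f L741326) L755588
theorem L755598 : sm gj N56477 = N55155 := ded_52_1 (flp_h L741342) (flp_j L741328) L755588
theorem L755600 : sm gi N56477 = N55165 := ded_54_2 (flp_h L741469) (flp_i L724420) (flp_h L724234) L741318 L755588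
theorem L755602 : sm gd N55154 = N56478 := rfl
theorem L755604 : sm ga N56478 = N55768 := ded_12_1 (flp_d L747207) (flp_a L741332) L755602
theorem L755606 : sm gj N56478 = N55156 := ded_37_2 (flp_d L741354) (flp_j L741338) L755602
theorem L755608 : sm gi N56478 = N55166 := ded_39_2 (flp_d L741479) (flp_i L741340) L755602
theorem L755610 : sm ge N56478 = N55302 := ded_34_2 (flp_d L742986) L725922 (flp_d L724258) (flp_e L741336) L755602
theorem L755612 : sm gd N55155 = N56479 := rfl
theorem L755614 : sm ga N56479 = N55778 := ded_12_1 (flp_d L747281) (flp_a L741344) L755612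
theorem L755616 : sm gf N56479 = N55156 := ded_35_2 (flp_d L741354) (flp_f L741350) L755612
theorem L755618 : sm gi N56479 = N55173 := ded_39_2 (flp_d L741567) (flp_i L741352) L755612
theorem L755620 : sm gc N55156 = N56480 := rfl
theorem L755622 : sm ga N56480 = N55779 := ded_11_1 (flp_c L747285) (flp_a L741356) L755620
theorem L755624 : sm ge N56480 = N55315 := ded_28_2 (flp_c L743126) (flp_e L741362) L755620
theorem L755626 : sm gg N56480 = N55757 := ded_30_2 (flp_c L747121) (flp_g L741358) L755620
theorem L755628 : sm gi N56480 = N55174 := ded_33_2 (flp_c L741571) (flp_i L741360) L755620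
theorem L755630 : sm gd N56480 = N55752 := ded_27_2 (flp_c L747085) (flp_d L730868) (flp_c L724276) L741354 L755620
theorem L755632 : sm gd N55157 = N56481 := rfl
theorem L755634 : sm ga N56481 = N55784 := ded_12_1 (flp_d L747315) (flp_a L741366) L755632
theorem L755636 : sm gf N56481 = N55158 := ded_35_2 (flp_d L741376) (flp_f L741370) L755632
theorem L755638 : sm gj N56481 = N55159 := ded_37_2 (flp_d L741390) (flp_j L741372) L755632
theorem L755640 : sm gi N56481 = N55175 := ded_39_2 (flp_d L741577) (flp_i L741374) L755632
theorem L755642 : sm gc N56481 = N55630 := ded_27_1 (flp_d L746218) L729639 (flp_d L728281) (flp_c L741368) L755632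
theorem L755644 : sm gh N56481 = N56481 := ded_38_2 (flp_d L755632) (flp_h L741364) L724290 L741364 L755632
theorem L755645 : sm ge N55159 = N56482 := rfl
theorem L755647 : sm ga N56482 = N55786 := ded_13_1 (flp_e L747329) (flp_a L741392) L755645
theorem L755649 : sm gc N56482 = N55638 := ded_28_1 (flp_e L746294) (flp_c L741398) L755645
theorem L755651 : sm gh N56482 = N56482 := ded_43_2 (flp_e L755645) L741400 L755645
theorem L755652 : sm gi N56482 = N55179 := ded_44_2 (flp_e L741619) (flp_i L741396) L755645
theorem L755654 : sm gf N56482 = N55329 := ded_40_2 (flp_e L743282) L726218 (flp_e L724328) (flp_f L741394) L755645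
theorem L755656 : sm gh N55160 = N56483 := rfl
theorem L755658 : sm ga N56483 = N55754 := ded_17_1 (flp_h L747097) (flp_a L741403) L755656
theorem L755660 : sm gb N56483 = N55206 := ded_25_1 (flp_h L741908) (flp_b L741405) L755656
theorem L755662 : sm gc N56483 = N55163 := ded_32_1 (flp_h L741445) (flp_c L741407) L755656
theorem L755664 : sm ge N56483 = N55161 := ded_43_1 (flp_h L741417) (flp_e L741411) L755656
theorem L755666 : sm gg N56483 = N55164 := ded_50_1 (flp_h L741453) (flp_g L741413) L755656
theorem L755668 : sm gj N56483 = N55759 := ded_52_1 (flp_h L747134) (flp_j L741415) L755656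
theorem L755670 : sm gi N56483 = N55750 := ded_54_2 (flp_h L747069) (flp_i L730843) (flp_h L724343) L741401 L755656
theorem L755672 : sm gh N55162 = N56484 := rfl
theorem L755674 : sm gb N56484 = N55706 := ded_25_1 (flp_h L746803) (flp_b L741436) L755672
theorem L755676 : sm ge N56484 = N56484 := ded_43_1 (flp_h L755672) L741440 L755672
theorem L755677 : sm gf N56484 = N55163 := ded_47_1 (flp_h L741445) (flp_f L741441) L755672
theorem L755679 : sm gj N56484 = N55761 := ded_52_1 (flp_h L747151) (flp_j L741443) L755672
theorem L755681 : sm gd N55163 = N56485 := rfl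
theorem L755683 : sm gg N56485 = N55166 := ded_36_2 (flp_d L741479) (flp_g L741449) L755681
theorem L755685 : sm gj N56485 = N55762 := ded_37_2 (flp_d L747156) (flp_j L741451) L755681
theorem L755687 : sm ge N56485 = N55343 := ded_34_2 (flp_d L743440) L726384 (flp_d L724386) (flp_e L741447) L755681
theorem L755689 : sm gd N55164 = N56486 := rfl
theorem L755691 : sm ga N56486 = N55755 := ded_12_1 (flp_d L747105) (flp_a L741455) L755689
theorem L755693 : sm gb N56486 = N55789 := ded_20_1 (flp_d L747348) (flp_b L741457) L755689
theorem L755695 : sm gf N56486 = N55753 := ded_35_2 (flp_d L747091) (flp_f L741463) L755689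
theorem L755697 : sm gj N56486 = N55170 := ded_37_2 (flp_d L741533) (flp_j L741465) L755689
theorem L755699 : sm gi N56486 = N55751 := ded_39_2 (flp_d L747077) (flp_i L741467) L755689
theorem L755701 : sm ge N56486 = N55790 := ded_34_2 (flp_d L747354) L731217 (flp_d L724416) (flp_e L741461) L755689
theorem L755703 : sm gh N56486 = N55756 := ded_38_2 (flp_d L747113) (flp_h L730901) (flp_d L724396) L741453 L755689
theorem L755705 : sm gd N55165 = N56487 := rfl
theorem L755707 : sm gf N56487 = N55166 := ded_35_2 (flp_d L741479) (flp_f L741475) L755705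
theorem L755709 : sm gj N56487 = N55173 := ded_37_2 (flp_d L741567) (flp_j L741477) L755705
theorem L755711 : sm gc N55166 = N56488 := rfl
theorem L755713 : sm ge N56488 = N55364 := ded_28_2 (flp_c L743662) (flp_e L741483) L755711
theorem L755715 : sm gj N56488 = N55174 := ded_31_2 (flp_c L741571) (flp_j L741481) L755711
theorem L755717 : sm gd N55167 = N56489 := rfl
theorem L755719 : sm ga N56489 = N55581 := ded_12_1 (flp_d L745815) (flp_a L741487) L755717
theorem L755721 : sm gb N56489 = N55170 := ded_20_1 (flp_d L741533) (flp_b L741489) L755717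
theorem L755723 : sm gf N56489 = N55502 := ded_35_2 (flp_d L745025) (flp_f L741493) L755717
theorem L755725 : sm gg N56489 = N55775 := ded_36_2 (flp_d L747268) (flp_g L741495) L755717
theorem L755727 : sm gj N56489 = N55789 := ded_37_2 (flp_d L747348) (flp_j L741497) L755717
theorem L755729 : sm gi N56489 = N55527 := ded_39_2 (flp_d L745280) (flp_i L741499) L755717
theorem L755731 : sm ge N56489 = N55756 := ded_34_2 (flp_d L747113) L730905 (flp_d L724464) (flp_e L741491) L755717
theorem L755733 : sm gh N56489 = N55790 := ded_38_2 (flp_d L747354) (flp_h L731213) (flp_d L724442) L741485 L755717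
theorem L755735 : sm gd N55168 = N56490 := rfl
theorem L755737 : sm ga N56490 = N55753 := ded_12_1 (flp_d L747091) (flp_a L741503) L755735
theorem L755739 : sm gb N56490 = N55790 := ded_20_1 (flp_d L747354) (flp_b L741505) L755735
theorem L755741 : sm gf N56490 = N55755 := ded_35_2 (flp_d L747105) (flp_f L741509) L755735
theorem L755743 : sm gg N56490 = N55777 := ded_36_2 (flp_d L747277) (flp_g L741511) L755735
theorem L755745 : sm gj N56490 = N55756 := ded_37_2 (flp_d L747113) (flp_j L741513) L755735
theorem L755747 : sm gi N56490 = N55770 := ded_39_2 (flp_d L747221) (flp_i L741515) L755735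
theorem L755749 : sm ge N56490 = N55789 := ded_34_2 (flp_d L747348) L731211 (flp_d L724721) (flp_e L741507) L755735
theorem L755751 : sm gh N56490 = N55170 := ded_38_2 (flp_d L741533) (flp_h L724500) (flp_d L724474) L741501 L755735
theorem L755753 : sm gd N55169 = N56491 := rfl
theorem L755755 : sm ga N56491 = N55756 := ded_12_1 (flp_d L747113) (flp_a L741519) L755753
theorem L755757 : sm gb N56491 = N55502 := ded_20_1 (flp_d L745025) (flp_b L741521) L755753
theorem L755759 : sm gf N56491 = N55170 := ded_35_2 (flp_d L741533) (flp_f L741527) L755753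
theorem L755761 : sm gj N56491 = N55753 := ded_37_2 (flp_d L747091) (flp_j L741529) L755753
theorem L755763 : sm gi N56491 = N55498 := ded_39_2 (flp_d L744987) (flp_i L741531) L755753
theorem L755765 : sm ge N56491 = N55581 := ded_34_2 (flp_d L745815) L729149 (flp_d L724577) (flp_e L741525) L755753
theorem L755767 : sm gh N56491 = N55755 := ded_38_2 (flp_d L747105) (flp_h L730893) (flp_d L724492) L741517 L755753
theorem L755769 : sm gc N55170 = N56492 := rfl
theorem L755771 : sm ga N56492 = N55757 := ded_11_1 (flp_c L747121) (flp_a L741535) L755769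
theorem L755773 : sm ge N56492 = N55791 := ded_28_2 (flp_c L747362) (flp_e L741541) L755769
theorem L755775 : sm gg N56492 = N55779 := ded_30_2 (flp_c L747285) (flp_g L741537) L755769
theorem L755777 : sm gi N56492 = N55752 := ded_33_2 (flp_c L747085) (flp_i L741539) L755769
theorem L755779 : sm gd N56492 = N55174 := ded_27_2 (flp_c L741571) (flp_d L724540) (flp_c L724504) L741533 L755769
theorem L755781 : sm gh N55171 = N56493 := rfl
theorem L755783 : sm ga N56493 = N55723 := ded_17_1 (flp_h L746909) (flp_a L741545) L755781
theorem L755785 : sm gb N56493 = N55231 := ded_25_1 (flp_h L742214) (flp_b L741547) L755781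
theorem L755787 : sm ge N56493 = N55176 := ded_43_1 (flp_h L741587) (flp_e L741551) L755781
theorem L755789 : sm gf N56493 = N55193 := ded_47_1 (flp_h L741765) (flp_f L741553) L755781
theorem L755791 : sm gj N56493 = N55172 := ded_52_1 (flp_h L741557) (flp_j L741555) L755781
theorem L755793 : sm gd N55172 = N56494 := rfl
theorem L755795 : sm gb N56494 = N55242 := ded_20_1 (flp_d L742336) (flp_b L741559) L755793
theorem L755797 : sm gf N56494 = N55197 := ded_35_2 (flp_d L741797) (flp_f L741563) L755793
theorem L755799 : sm gg N56494 = N55173 := ded_36_2 (flp_d L741567) (flp_g L741565) L755793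
theorem L755801 : sm gc N55173 = N56495 := rfl
theorem L755803 : sm gf N56495 = N55174 := ded_29_2 (flp_c L741571) (flp_f L741569) L755801
theorem L755805 : sm ge N55173 = N56496 := rfl
theorem L755807 : sm gd N56496 = N55179 := ded_34_1 (flp_e L741619) (flp_d L724601) (flp_e L724536) L741567 L755805
theorem L755809 : sm gf N56496 = N55389 := ded_40_2 (flp_e L743861) L726717 (flp_e L724544) (flp_f L741569) L755805
theorem L755811 : sm gb N55174 = N56497 := rfl
theorem L755813 : sm ge N56497 = N55390 := ded_21_2 (flp_b L743865) (flp_e L741573) L755811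
theorem L755815 : sm gg N56497 = N55781 := ded_23_2 (flp_b L747293) (flp_g L741575) L755811
theorem L755817 : sm ge N55175 = N56498 := rfl
theorem L755819 : sm gc N56498 = N55813 := ded_28_1 (flp_e L747507) (flp_c L741583) L755817
theorem L755821 : sm gj N56498 = N55179 := ded_42_2 (flp_e L741619) (flp_j L741581) L755817
theorem L755823 : sm gh N56498 = N55182 := ded_43_2 (flp_e L741646) (flp_h L741585) L755817
theorem L755825 : sm gf N56498 = N55401 := ded_40_2 (flp_e L743961) L726830 (flp_e L724561) (flp_f L741579) L755817
theorem L755827 : sm gd N55176 = N56499 := rfl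
theorem L755829 : sm ga N56499 = N55743 := ded_12_1 (flp_d L747024) (flp_a L741589) L755827
theorem L755831 : sm gb N56499 = N55248 := ded_20_1 (flp_d L742395) (flp_b L741591) L755827
theorem L755833 : sm gf N56499 = N55180 := ded_35_2 (flp_d L741625) (flp_f L741593) L755827
theorem L755835 : sm gj N56499 = N55177 := ded_37_2 (flp_d L741597) (flp_j L741595) L755827
theorem L755837 : sm gh N56499 = N55183 := ded_38_2 (flp_d L741655) (flp_h L724661) (flp_d L724587) L741587 L755827
theorem L755839 : sm ge N55177 = N56500 := rfl
theorem L755841 : sm gb N56500 = N55253 := ded_21_1 (flp_e L742446) (flp_b L741599) L755839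
theorem L755843 : sm gg N56500 = N55179 := ded_41_2 (flp_e L741619) (flp_g L741603) L755839
theorem L755845 : sm gh N56500 = N55184 := ded_43_2 (flp_e L741666) (flp_h L741605) L755839
theorem L755847 : sm ge N55178 = N56501 := rfl
theorem L755849 : sm gc N56501 = N55179 := ded_28_1 (flp_e L741619) L741607 L755847
theorem L755851 : sm gj N56501 = N55813 := ded_42_2 (flp_e L747507) (flp_j L741611) L755847
theorem L755853 : sm gh N56501 = N55185 := ded_43_2 (flp_e L741673) (flp_h L741613) L755847
theorem L755855 : sm gi N56501 = N55638 := ded_44_2 (flp_e L746294) (flp_i L741615) L755847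
theorem L755857 : sm gf N56501 = N55415 := ded_40_2 (flp_e L744082) L726958 (flp_e L724609) (flp_f L741609) L755847
theorem L755859 : sm ge N55181 = N56502 := rfl
theorem L755861 : sm ga N56502 = N55689 := ded_13_1 (flp_e L746680) (flp_a L741638) L755859
theorem L755863 : sm gc N56502 = N55446 := ded_28_1 (flp_e L744404) (flp_c L741644) L755859
theorem L755865 : sm gg N56502 = N55182 := ded_41_2 (flp_e L741646) (flp_g L741641) L755859
theorem L755867 : sm gi N56502 = N56502 := ded_44_2 (flp_e L755859) L741643 L755859
theorem L755868 : sm gd N56502 = N55665 := ded_34_1 (flp_e L746513) (flp_d L730137) (flp_e L724646) L741636 L755859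
theorem L755870 : sm ge N55183 = N56503 := rfl
theorem L755872 : sm ga N56503 = N55744 := ded_13_1 (flp_e L747032) (flp_a L741657) L755870
theorem L755874 : sm gb N56503 = N55256 := ded_21_1 (flp_e L742470) (flp_b L741659) L755870
theorem L755876 : sm gj N56503 = N55184 := ded_42_2 (flp_e L741666) (flp_j L741663) L755870
theorem L755878 : sm gi N56503 = N56503 := ded_44_2 (flp_e L755870) L741665 L755870
theorem L755879 : sm gd N56503 = N55742 := ded_34_1 (flp_e L747019) (flp_d L730775) (flp_e L724669) L741655 L755870
theorem L755881 : sm gd N55185 = N56504 := rfl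
theorem L755883 : sm gf N56504 = N55432 := ded_35_2 (flp_d L744240) (flp_f L741680) L755881
theorem L755885 : sm gj N56504 = N55913 := ded_37_2 L748188 (flp_j L741677) L755881
theorem L755887 : sm gi N56504 = N56504 := ded_39_2 (flp_d L755881) L741679 L755881
theorem L755888 : sm ge N56504 = N55905 := ded_34_2 (flp_d L748134) L732214 (flp_d L724692) L741673 L755881
theorem L755890 : sm gh N55186 = N56505 := rfl
theorem L755892 : sm gb N56505 = N55212 := ded_25_1 (flp_h L741986) (flp_b L741684) L755890
theorem L755894 : sm gc N56505 = N55723 := ded_32_1 (flp_h L746909) (flp_c L741686) L755890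
theorem L755896 : sm ge N56505 = N55187 := ded_43_1 (flp_h L741696) (flp_e L741690) L755890
theorem L755898 : sm gg N56505 = N55766 := ded_50_1 (flp_h L747191) (flp_g L741692) L755890
theorem L755900 : sm gj N56505 = N55188 := ded_52_1 (flp_h L741712) (flp_j L741694) L755890
theorem L755902 : sm gi N56505 = N55193 := ded_54_2 (flp_h L741765) (flp_i L724828) (flp_h L724735) L741682 L755890
theorem L755904 : sm gd N55188 = N56506 := rfl
theorem L755906 : sm gb N56506 = N55214 := ded_20_1 (flp_d L742010) (flp_b L741714) L755904
theorem L755908 : sm gg N56506 = N55756 := ded_36_2 (flp_d L747113) (flp_g L741718) L755904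
theorem L755910 : sm gi N56506 = N55197 := ded_39_2 (flp_d L741797) (flp_i L741720) L755904
theorem L755912 : sm ge N56506 = N55775 := ded_34_2 (flp_d L747268) L731077 (flp_d L724769) (flp_e L741716) L755904
theorem L755914 : sm gh N55189 = N56507 := rfl
theorem L755916 : sm gb N56507 = N55224 := ded_25_1 (flp_h L742131) (flp_b L741724) L755914
theorem L755918 : sm ge N56507 = N55190 := ded_43_1 (flp_h L741732) (flp_e L741726) L755914
theorem L755920 : sm gg N56507 = N55193 := ded_50_1 (flp_h L741765) (flp_g L741728) L755914
theorem L755922 : sm gj N56507 = N55769 := ded_52_1 (flp_h L747211) (flp_j L741730) L755914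
theorem L755924 : sm gi N56507 = N55766 := ded_54_2 (flp_h L747191) (flp_i L730990) (flp_h L724794) L741722 L755914
theorem L755926 : sm gh N55191 = N56508 := rfl
theorem L755928 : sm gb N56508 = N55727 := ded_25_1 (flp_h L746933) (flp_b L741745) L755926
theorem L755930 : sm gc N56508 = N55193 := ded_32_1 (flp_h L741765) (flp_c L741747) L755926
theorem L755932 : sm ge N56508 = N55192 := ded_43_1 (flp_h L741753) (flp_e L741749) L755926
theorem L755934 : sm gj N56508 = N55195 := ded_52_1 (flp_h L741782) (flp_j L741751) L755926
theorem L755936 : sm gi N56508 = N55723 := ded_54_2 (flp_h L746909) (flp_i L730604) (flp_h L724815) L741743 L755926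
theorem L755938 : sm gd N55192 = N56509 := rfl
theorem L755940 : sm gb N56509 = N55746 := ded_20_1 (flp_d L747046) (flp_b L741755) L755938
theorem L755942 : sm gf N56509 = N55198 := ded_35_2 (flp_d L741803) (flp_f L741759) L755938
theorem L755944 : sm gj N56509 = N55196 := ded_37_2 (flp_d L741790) (flp_j L741761) L755938
theorem L755946 : sm gi N56509 = N55743 := ded_39_2 (flp_d L747024) (flp_i L741763) L755938
theorem L755948 : sm gh N56509 = N56509 := ded_38_2 (flp_d L755938) (flp_h L741753) L724823 L741753 L755938
theorem L755949 : sm gd N55193 = N56510 := rfl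
theorem L755951 : sm gb N56510 = N55232 := ded_20_1 (flp_d L742224) (flp_b L741767) L755949
theorem L755953 : sm gj N56510 = N55197 := ded_37_2 (flp_d L741797) (flp_j L741771) L755949
theorem L755955 : sm gh N55194 = N56511 := rfl
theorem L755957 : sm ge N56511 = N56511 := ded_43_1 (flp_h L755955) L741777 L755955
theorem L755958 : sm gf N56511 = N55754 := ded_47_1 (flp_h L747097) (flp_f L741778) L755955
theorem L755960 : sm gg N56511 = N55776 := ded_50_1 (flp_h L747272) (flp_g L741780) L755955
theorem L755962 : sm gi N56511 = N55761 := ded_54_2 (flp_h L747151) (flp_i L730946) L724851 L741773 L755955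
theorem L755964 : sm gd N55195 = N56512 := rfl
theorem L755966 : sm gg N56512 = N55778 := ded_36_2 (flp_d L747281) (flp_g L741788) L755964
theorem L755968 : sm ge N55196 = N56513 := rfl
theorem L755970 : sm gg N56513 = N55786 := ded_41_2 (flp_e L747329) (flp_g L741794) L755968
theorem L755972 : sm gh N56513 = N56513 := ded_43_2 (flp_e L755968) L741796 L755968
theorem L755973 : sm gc N55197 = N56514 := rfl
theorem L755975 : sm gg N56514 = N55780 := ded_30_2 (flp_c L747289) (flp_g L741801) L755973
theorem L755977 : sm gi N55199 = N56515 := rfl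
theorem L755979 : sm ga N56515 = N55271 := ded_18_1 (flp_i L742650) (flp_a L741815) L755977
theorem L755981 : sm gb N56515 = N55758 := ded_26_1 (flp_i L747127) (flp_b L741817) L755977
theorem L755983 : sm gc N56515 = N55604 := ded_33_1 (flp_i L746024) (flp_c L741819) L755977
theorem L755985 : sm gd N56515 = N55211 := ded_39_1 (flp_i L741974) (flp_d L741821) L755977
theorem L755987 : sm ge N56515 = N56515 := ded_44_1 (flp_i L755977) L741825 L755977
theorem L755988 : sm gf N56515 = N55200 := ded_48_1 (flp_i L741826) L741813 L755977
theorem L755990 : sm gj N56515 = N55205 := ded_53_1 (flp_i L741899) (flp_j L741823) L755977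
theorem L755992 : sm gh N55200 = N56516 := rfl
theorem L755994 : sm ga N56516 = N55272 := ded_17_1 (flp_h L742659) (flp_a L741828) L755992
theorem L755996 : sm gb N56516 = N55759 := ded_25_1 (flp_h L747134) (flp_b L741830) L755992
theorem L755998 : sm gc N56516 = N55606 := ded_32_1 (flp_h L746039) (flp_c L741832) L755992
theorem L756000 : sm ge N56516 = N55201 := ded_43_1 (flp_h L741842) (flp_e L741836) L755992
theorem L756002 : sm gg N56516 = N55764 := ded_50_1 (flp_h L747174) (flp_g L741838) L755992
theorem L756004 : sm gj N56516 = N55206 := ded_52_1 (flp_h L741908) (flp_j L741840) L755992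
theorem L756006 : sm gi N55202 = N56517 := rfl
theorem L756008 : sm ga N56517 = N55283 := ded_18_1 (flp_i L742787) (flp_a L741859) L756006
theorem L756010 : sm gb N56517 = N55594 := ded_26_1 (flp_i L745941) (flp_b L741861) L756006
theorem L756012 : sm gc N56517 = N55205 := ded_33_1 (flp_i L741899) (flp_c L741863) L756006
theorem L756014 : sm gd N56517 = N55590 := ded_39_1 (flp_i L745896) (flp_d L741865) L756006
theorem L756016 : sm ge N56517 = N56517 := ded_44_1 (flp_i L756006) L741869 L756006
theorem L756017 : sm gf N56517 = N55203 := ded_48_1 (flp_i L741870) L741857 L756006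
theorem L756019 : sm gj N56517 = N55604 := ded_53_1 (flp_i L746024) (flp_j L741867) L756006
theorem L756021 : sm gh N55203 = N56518 := rfl
theorem L756023 : sm ga N56518 = N55284 := ded_17_1 (flp_h L742794) (flp_a L741872) L756021
theorem L756025 : sm gb N56518 = N55596 := ded_25_1 (flp_h L745958) (flp_b L741874) L756021
theorem L756027 : sm gc N56518 = N55206 := ded_32_1 (flp_h L741908) (flp_c L741876) L756021
theorem L756029 : sm ge N56518 = N55204 := ded_43_1 (flp_h L741886) (flp_e L741880) L756021
theorem L756031 : sm gg N56518 = N55787 := ded_50_1 (flp_h L747332) (flp_g L741882) L756021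
theorem L756033 : sm gj N56518 = N55606 := ded_52_1 (flp_h L746039) (flp_j L741884) L756021
theorem L756035 : sm gd N55204 = N56519 := rfl
theorem L756037 : sm ga N56519 = N55285 := ded_12_1 (flp_d L742802) (flp_a L741888) L756035
theorem L756039 : sm gb N56519 = N55644 := ded_20_1 (flp_d L746341) (flp_b L741890) L756035
theorem L756041 : sm gf N56519 = N56519 := ded_35_2 (flp_d L756035) L741894 L756035
theorem L756042 : sm gg N56519 = N55788 := ded_36_2 (flp_d L747340) (flp_g L741895) L756035
theorem L756044 : sm gj N56519 = N55648 := ded_37_2 (flp_d L746369) (flp_j L741897) L756035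
theorem L756046 : sm gc N56519 = N55688 := ded_27_1 (flp_d L746675) L730321 (flp_d L724975) (flp_c L741892) L756035
theorem L756048 : sm gh N56519 = N55439 := ded_38_2 (flp_d L744316) (flp_h L727278) (flp_d L724944) L741886 L756035
theorem L756050 : sm gh N55205 = N56520 := rfl
theorem L756052 : sm ga N56520 = N55287 := ded_17_1 (flp_h L742820) (flp_a L741901) L756050
theorem L756054 : sm ge N56520 = N56520 := ded_43_1 (flp_h L756050) L741905 L756050
theorem L756055 : sm gf N56520 = N55206 := ded_47_1 (flp_h L741908) (flp_f L741906) L756050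
theorem L756057 : sm gd N55206 = N56521 := rfl
theorem L756059 : sm ga N56521 = N55288 := ded_12_1 (flp_d L742825) (flp_a L741910) L756057
theorem L756061 : sm gg N56521 = N55789 := ded_36_2 (flp_d L747348) (flp_g L741914) L756057
theorem L756063 : sm ge N56521 = N55777 := ded_34_2 (flp_d L747277) L731088 (flp_d L724975) (flp_e L741912) L756057
theorem L756065 : sm gh N56521 = N55214 := ded_38_2 (flp_d L742010) (flp_h L725054) (flp_d L724962) L741908 L756057
theorem L756067 : sm gi N55207 = N56522 := rfl
theorem L756069 : sm ga N56522 = N55292 := ded_18_1 (flp_i L742871) (flp_a L741918) L756067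
theorem L756071 : sm gb N56522 = N55765 := ded_26_1 (flp_i L747182) (flp_b L741920) L756067
theorem L756073 : sm gc N56522 = N55367 := ded_33_1 (flp_i L743685) (flp_c L741922) L756067
theorem L756075 : sm gd N56522 = N55763 := ded_39_1 (flp_i L747162) (flp_d L741924) L756067
theorem L756077 : sm ge N56522 = N56522 := ded_44_1 (flp_i L756067) L741930 L756067
theorem L756078 : sm gf N56522 = N55208 := ded_48_1 (flp_i L741931) L741916 L756067
theorem L756080 : sm gj N56522 = N55772 := ded_53_1 (flp_i L747235) (flp_j L741926) L756067
theorem L756082 : sm gh N55208 = N56523 := rfl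
theorem L756084 : sm ga N56523 = N55293 := ded_17_1 (flp_h L742878) (flp_a L741933) L756082
theorem L756086 : sm gb N56523 = N55766 := ded_25_1 (flp_h L747191) (flp_b L741935) L756082
theorem L756088 : sm gc N56523 = N55368 := ded_32_1 (flp_h L743694) (flp_c L741937) L756082
theorem L756090 : sm ge N56523 = N55209 := ded_43_1 (flp_h L741947) (flp_e L741941) L756082
theorem L756092 : sm gg N56523 = N55212 := ded_50_1 (flp_h L741986) (flp_g L741943) L756082
theorem L756094 : sm gj N56523 = N55773 := ded_52_1 (flp_h L747246) (flp_j L741945) L756082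
theorem L756096 : sm gi N56523 = N55224 := ded_54_2 (flp_h L742131) (flp_i L725169) (flp_h L724989) L741931 L756082
theorem L756098 : sm gi N55210 = N56524 := rfl
theorem L756100 : sm ga N56524 = N55300 := ded_18_1 (flp_i L742970) (flp_a L741966) L756098
theorem L756102 : sm gc N56524 = N55868 := ded_33_1 (flp_i L747894) (flp_c L741968) L756098
theorem L756104 : sm ge N56524 = N55215 := ded_44_1 (flp_i L742020) (flp_e L741970) L756098
theorem L756106 : sm gg N56524 = N55211 := ded_51_1 (flp_i L741974) L741964 L756098
theorem L756108 : sm gh N55211 = N56525 := rfl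
theorem L756110 : sm ga N56525 = N55301 := ded_17_1 (flp_h L742976) (flp_a L741976) L756108
theorem L756112 : sm gc N56525 = N55861 := ded_32_1 L747856 (flp_c L741978) L756108
theorem L756114 : sm ge N56525 = N55216 := ded_43_1 (flp_h L742030) (flp_e L741980) L756108
theorem L756116 : sm gf N56525 = N55212 := ded_47_1 (flp_h L741986) (flp_f L741982) L756108
theorem L756118 : sm gj N56525 = N55213 := ded_52_1 (flp_h L741998) (flp_j L741984) L756108
theorem L756120 : sm gi N56525 = N55231 := ded_54_2 (flp_h L742214) (flp_i L725248) (flp_h L725016) L741974 L756108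
theorem L756122 : sm gd N55212 = N56526 := rfl
theorem L756124 : sm ga N56526 = N55302 := ded_12_1 (flp_d L742986) (flp_a L741988) L756122
theorem L756126 : sm gj N56526 = N55214 := ded_37_2 (flp_d L742010) (flp_j L741994) L756122
theorem L756128 : sm gi N56526 = N55232 := ded_39_2 (flp_d L742224) (flp_i L741996) L756122
theorem L756130 : sm ge N56526 = N55768 := ded_34_2 (flp_d L747207) L731012 (flp_d L725040) (flp_e L741992) L756122
theorem L756132 : sm gd N55213 = N56527 := rfl
theorem L756134 : sm ga N56527 = N55314 := ded_12_1 (flp_d L743120) (flp_a L742000) L756132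
theorem L756136 : sm gf N56527 = N55214 := ded_35_2 (flp_d L742010) (flp_f L742006) L756132
theorem L756138 : sm gi N56527 = N55242 := ded_39_2 (flp_d L742336) (flp_i L742008) L756132
theorem L756140 : sm gc N55214 = N56528 := rfl
theorem L756142 : sm ga N56528 = N55315 := ded_11_1 (flp_c L743126) (flp_a L742012) L756140
theorem L756144 : sm ge N56528 = N55779 := ded_28_2 (flp_c L747285) (flp_e L742018) L756140
theorem L756146 : sm gg N56528 = N55791 := ded_30_2 (flp_c L747362) (flp_g L742014) L756140
theorem L756148 : sm gi N56528 = N55243 := ded_33_2 (flp_c L742342) (flp_i L742016) L756140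
theorem L756150 : sm gd N56528 = N55883 := ded_27_2 L747982 L731979 (flp_c L725058) L742010 L756140
theorem L756152 : sm gh N55215 = N56529 := rfl
theorem L756154 : sm ga N56529 = N55320 := ded_17_1 (flp_h L743186) (flp_a L742022) L756152
theorem L756156 : sm gc N56529 = N55894 := ded_32_1 L748049 (flp_c L742024) L756152
theorem L756158 : sm gf N56529 = N56529 := ded_47_1 (flp_h L756152) L742027 L756152
theorem L756159 : sm gg N56529 = N55216 := ded_50_1 (flp_h L742030) (flp_g L742028) L756152
theorem L756161 : sm gi N56529 = N55247 := ded_54_2 (flp_h L742388) (flp_i L725409) (flp_h L725073) L742020 L756152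
theorem L756163 : sm gd N55216 = N56530 := rfl
theorem L756165 : sm ga N56530 = N55321 := ded_12_1 (flp_d L743193) (flp_a L742032) L756163
theorem L756167 : sm gf N56530 = N55217 := ded_35_2 (flp_d L742042) (flp_f L742036) L756163
theorem L756169 : sm gj N56530 = N55218 := ded_37_2 (flp_d L742054) (flp_j L742038) L756163
theorem L756171 : sm gi N56530 = N55248 := ded_39_2 (flp_d L742395) (flp_i L742040) L756163
theorem L756173 : sm gh N56530 = N56530 := ded_38_2 (flp_d L756163) (flp_h L742030) L725082 L742030 L756163
theorem L756174 : sm gc N55217 = N56531 := rfl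
theorem L756176 : sm ga N56531 = N55322 := ded_11_1 (flp_c L743202) (flp_a L742044) L756174
theorem L756178 : sm ge N56531 = N55531 := ded_28_2 L745326 (flp_e L742051) L756174
theorem L756180 : sm gg N56531 = N56531 := ded_30_2 (flp_c L756174) L742046 L756174
theorem L756181 : sm gj N56531 = N55219 := ded_31_2 (flp_c L742063) (flp_j L742047) L756174
theorem L756183 : sm gh N56531 = N56531 := ded_32_2 (flp_c L756174) L742053 L756174
theorem L756184 : sm gi N56531 = N55249 := ded_33_2 (flp_c L742405) (flp_i L742049) L756174
theorem L756186 : sm gd N56531 = N55532 := ded_27_2 L745333 L732058 (flp_c L725091) L742042 L756174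
theorem L756188 : sm gc N55218 = N56532 := rfl
theorem L756190 : sm ga N56532 = N55328 := ded_11_1 (flp_c L743273) (flp_a L742056) L756188
theorem L756192 : sm gf N56532 = N55219 := ded_29_2 (flp_c L742063) (flp_f L742058) L756188
theorem L756194 : sm gh N56532 = N56532 := ded_32_2 (flp_c L756188) L742062 L756188
theorem L756195 : sm gi N56532 = N55252 := ded_33_2 (flp_c L742438) (flp_i L742060) L756188
theorem L756197 : sm gd N56532 = N55535 := ded_27_2 L745363 L732127 (flp_c L725104) L742054 L756188
theorem L756199 : sm ge N55218 = N56533 := rfl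
theorem L756201 : sm ga N56533 = N55329 := ded_13_1 (flp_e L743282) (flp_a L742056) L756199
theorem L756203 : sm gh N56533 = N56533 := ded_43_2 (flp_e L756199) L742062 L756199
theorem L756204 : sm gi N56533 = N55253 := ded_44_2 (flp_e L742446) (flp_i L742060) L756199
theorem L756206 : sm gf N56533 = N55786 := ded_40_2 (flp_e L747329) L731172 (flp_e L725118) (flp_f L742058) L756199
theorem L756208 : sm gi N55220 = N56534 := rfl
theorem L756210 : sm ga N56534 = N55338 := ded_18_1 (flp_i L743390) (flp_a L742078) L756208
theorem L756212 : sm gb N56534 = N55376 := ded_26_1 (flp_i L743767) (flp_b L742080) L756208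
theorem L756214 : sm gc N56534 = N55223 := ded_33_1 (flp_i L742122) (flp_c L742082) L756208
theorem L756216 : sm gd N56534 = N55616 := ded_39_1 (flp_i L746112) (flp_d L742084) L756208
theorem L756218 : sm ge N56534 = N56534 := ded_44_1 (flp_i L756208) L742090 L756208
theorem L756219 : sm gf N56534 = N55221 := ded_48_1 (flp_i L742091) L742076 L756208
theorem L756221 : sm gj N56534 = N55611 := ded_53_1 (flp_i L746079) (flp_j L742086) L756208
theorem L756223 : sm gh N55221 = N56535 := rfl
theorem L756225 : sm ga N56535 = N55339 := ded_17_1 (flp_h L743399) (flp_a L742093) L756223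
theorem L756227 : sm gb N56535 = N55378 := ded_25_1 (flp_h L743777) (flp_b L742095) L756223
theorem L756229 : sm gc N56535 = N55224 := ded_32_1 (flp_h L742131) (flp_c L742097) L756223
theorem L756231 : sm ge N56535 = N55222 := ded_43_1 (flp_h L742105) (flp_e L742099) L756223
theorem L756233 : sm gg N56535 = N55229 := ded_50_1 (flp_h L742192) (flp_g L742101) L756223
theorem L756235 : sm gj N56535 = N55792 := ded_52_1 (flp_h L747368) (flp_j L742103) L756223
theorem L756237 : sm gi N56535 = N55368 := ded_54_2 (flp_h L743694) (flp_i L726574) (flp_h L725145) L742091 L756223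
theorem L756239 : sm gh N55223 = N56536 := rfl
theorem L756241 : sm ga N56536 = N55342 := ded_17_1 (flp_h L743433) (flp_a L742124) L756239
theorem L756243 : sm ge N56536 = N56536 := ded_43_1 (flp_h L756239) L742126 L756239
theorem L756244 : sm gf N56536 = N55224 := ded_47_1 (flp_h L742131) (flp_f L742127) L756239
theorem L756246 : sm gj N56536 = N55793 := ded_52_1 (flp_h L747378) (flp_j L742129) L756239
theorem L756248 : sm gd N55224 = N56537 := rfl
theorem L756250 : sm ga N56537 = N55343 := ded_12_1 (flp_d L743440) (flp_a L742133) L756248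
theorem L756252 : sm gg N56537 = N55232 := ded_36_2 (flp_d L742224) (flp_g L742137) L756248
theorem L756254 : sm gj N56537 = N55794 := ded_37_2 (flp_d L747385) (flp_j L742139) L756248
theorem L756256 : sm gi N55225 = N56538 := rfl
theorem L756258 : sm ga N56538 = N55353 := ded_18_1 (flp_i L743567) (flp_a L742143) L756256
theorem L756260 : sm gb N56538 = N55831 := ded_26_1 (flp_i L747632) (flp_b L742145) L756256
theorem L756262 : sm gd N56538 = N55228 := ded_39_1 (flp_i L742178) (flp_d L742147) L756256
theorem L756264 : sm ge N56538 = N56538 := ded_44_1 (flp_i L756256) L742153 L756256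
theorem L756265 : sm gf N56538 = N55226 := ded_48_1 (flp_i L742154) L742141 L756256
theorem L756267 : sm gj N56538 = N55237 := ded_53_1 (flp_i L742283) (flp_j L742149) L756256
theorem L756269 : sm gh N55226 = N56539 := rfl
theorem L756271 : sm ga N56539 = N55355 := ded_17_1 (flp_h L743590) (flp_a L742156) L756269
theorem L756273 : sm gb N56539 = N55833 := ded_25_1 (flp_h L747644) (flp_b L742158) L756269
theorem L756275 : sm ge N56539 = N55258 := ded_43_1 (flp_h L742484) (flp_e L742162) L756269
theorem L756277 : sm gj N56539 = N55239 := ded_52_1 (flp_h L742306) (flp_j L742164) L756269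
theorem L756279 : sm gi N56539 = N55826 := ded_54_2 (flp_h L747596) (flp_i L731544) (flp_h L725198) L742154 L756269
theorem L756281 : sm gi N55227 = N56540 := rfl
theorem L756283 : sm ga N56540 = N55357 := ded_18_1 (flp_i L743608) (flp_a L742168) L756281
theorem L756285 : sm gb N56540 = N55872 := ded_26_1 (flp_i L747920) (flp_b L742170) L756281
theorem L756287 : sm gc N56540 = N55230 := ded_33_1 (flp_i L742206) (flp_c L742172) L756281
theorem L756289 : sm ge N56540 = N55244 := ded_44_1 (flp_i L742348) (flp_e L742174) L756281
theorem L756291 : sm gg N56540 = N55228 := ded_51_1 (flp_i L742178) L742166 L756281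
theorem L756293 : sm gh N55228 = N56541 := rfl
theorem L756295 : sm ga N56541 = N55358 := ded_17_1 (flp_h L743616) (flp_a L742180) L756293
theorem L756297 : sm gb N56541 = N55874 := ded_25_1 (flp_h L747932) (flp_b L742182) L756293
theorem L756299 : sm gc N56541 = N55231 := ded_32_1 (flp_h L742214) (flp_c L742184) L756293
theorem L756301 : sm ge N56541 = N55245 := ded_43_1 (flp_h L742360) (flp_e L742186) L756293
theorem L756303 : sm gf N56541 = N55229 := ded_47_1 (flp_h L742192) (flp_f L742188) L756293
theorem L756305 : sm gj N56541 = N55240 := ded_52_1 (flp_h L742314) (flp_j L742190) L756293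
theorem L756307 : sm gi N56541 = N55861 := ded_54_2 L747856 (flp_i L731885) (flp_h L725210) L742178 L756293
theorem L756309 : sm gd N55229 = N56542 := rfl
theorem L756311 : sm ga N56542 = N55359 := ded_12_1 (flp_d L743626) (flp_a L742194) L756309
theorem L756313 : sm gb N56542 = N55876 := ded_20_1 (flp_d L747946) (flp_b L742196) L756309
theorem L756315 : sm gj N56542 = N55241 := ded_37_2 (flp_d L742326) (flp_j L742202) L756309
theorem L756317 : sm gi N56542 = N55860 := ded_39_2 L747848 (flp_i L742204) L756309
theorem L756319 : sm ge N56542 = N55821 := ded_34_2 (flp_d L747561) L731507 (flp_d L725238) (flp_e L742200) L756309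
theorem L756321 : sm gh N55230 = N56543 := rfl
theorem L756323 : sm ga N56543 = N55362 := ded_17_1 (flp_h L743650) (flp_a L742208) L756321
theorem L756325 : sm ge N56543 = N55247 := ded_43_1 (flp_h L742388) (flp_e L742210) L756321
theorem L756327 : sm gg N56543 = N55231 := ded_50_1 (flp_h L742214) (flp_g L742212) L756321
theorem L756329 : sm gd N55231 = N56544 := rfl
theorem L756331 : sm ga N56544 = N55363 := ded_12_1 (flp_d L743656) (flp_a L742216) L756329
theorem L756333 : sm gf N56544 = N55232 := ded_35_2 (flp_d L742224) (flp_f L742220) L756329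
theorem L756335 : sm gj N56544 = N55242 := ded_37_2 (flp_d L742336) (flp_j L742222) L756329
theorem L756337 : sm gc N55232 = N56545 := rfl
theorem L756339 : sm ga N56545 = N55364 := ded_11_1 (flp_c L743662) (flp_a L742226) L756337
theorem L756341 : sm gj N56545 = N55243 := ded_31_2 (flp_c L742342) (flp_j L742228) L756337
theorem L756343 : sm gi N55233 = N56546 := rfl
theorem L756345 : sm gb N56546 = N55357 := ded_26_1 (flp_i L743608) (flp_b L742242) L756343
theorem L756347 : sm gc N56546 = N55234 := ded_33_1 (flp_i L742246) L742230 L756343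
theorem L756349 : sm gd N56546 = N55612 := ded_39_1 (flp_i L746092) (flp_d L742244) L756343
theorem L756351 : sm ge N56546 = N55260 := ded_44_1 (flp_i L742510) (flp_e L742232) L756343
theorem L756353 : sm gf N56546 = N55575 := ded_48_1 (flp_i L745774) (flp_f L742234) L756343
theorem L756355 : sm gg N56546 = N55348 := ded_51_1 (flp_i L743507) (flp_g L742236) L756343
theorem L756357 : sm gj N56546 = N55810 := ded_53_1 (flp_i L747493) (flp_j L742238) L756343
theorem L756359 : sm gh N55234 = N56547 := rfl
theorem L756361 : sm gb N56547 = N55239 := ded_25_1 (flp_h L742306) (flp_b L742248) L756359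
theorem L756363 : sm ge N56547 = N55261 := ded_43_1 (flp_h L742522) (flp_e L742252) L756359
theorem L756365 : sm gg N56547 = N55799 := ded_50_1 (flp_h L747419) (flp_g L742254) L756359
theorem L756367 : sm gj N56547 = N55833 := ded_52_1 (flp_h L747644) (flp_j L742256) L756359
theorem L756369 : sm gi N56547 = N55820 := ded_54_2 (flp_h L747555) (flp_i L731495) (flp_h L725276) L742246 L756359
theorem L756371 : sm gd N55235 = N56548 := rfl
theorem L756373 : sm gb N56548 = N55241 := ded_20_1 (flp_d L742326) (flp_b L742260) L756371
theorem L756375 : sm gg N56548 = N55800 := ded_36_2 (flp_d L747425) (flp_g L742264) L756371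
theorem L756377 : sm gj N56548 = N55876 := ded_37_2 (flp_d L747946) (flp_j L742266) L756371
theorem L756379 : sm gi N56548 = N55857 := ded_39_2 (flp_d L747818) (flp_i L742268) L756371
theorem L756381 : sm ge N56548 = N55828 := ded_34_2 (flp_d L747612) L731564 (flp_d L725298) (flp_e L742262) L756371
theorem L756383 : sm gi N55236 = N56549 := rfl
theorem L756385 : sm ga N56549 = N55376 := ded_18_1 (flp_i L743767) (flp_a L742272) L756383
theorem L756387 : sm gb N56549 = N55554 := ded_26_1 (flp_i L745554) (flp_b L742274) L756383
theorem L756389 : sm gd N56549 = N55552 := ded_39_1 (flp_i L745530) (flp_d L742281) L756383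
theorem L756391 : sm ge N56549 = N56549 := ded_44_1 (flp_i L756383) L742276 L756383
theorem L756392 : sm gf N56549 = N55238 := ded_48_1 (flp_i L742292) (flp_f L742277) L756383
theorem L756394 : sm gj N56549 = N55825 := ded_53_1 (flp_i L747587) (flp_j L742279) L756383
theorem L756396 : sm gh N55237 = N56550 := rfl
theorem L756398 : sm ga N56550 = N55377 := ded_17_1 (flp_h L743772) (flp_a L742285) L756396
theorem L756400 : sm ge N56550 = N56550 := ded_43_1 (flp_h L756396) L742289 L756396
theorem L756401 : sm gf N56550 = N55239 := ded_47_1 (flp_h L742306) (flp_f L742290) L756396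
theorem L756403 : sm gh N55238 = N56551 := rfl
theorem L756405 : sm ga N56551 = N55378 := ded_17_1 (flp_h L743777) (flp_a L742294) L756403
theorem L756407 : sm gb N56551 = N55820 := ded_25_1 (flp_h L747555) (flp_b L742296) L756403
theorem L756409 : sm ge N56551 = N55262 := ded_43_1 (flp_h L742535) (flp_e L742300) L756403
theorem L756411 : sm gg N56551 = N55801 := ded_50_1 (flp_h L747429) (flp_g L742302) L756403
theorem L756413 : sm gj N56551 = N55826 := ded_52_1 (flp_h L747596) (flp_j L742304) L756403
theorem L756415 : sm gi N56551 = N55239 := ded_54_2 (flp_h L742306) (flp_i L725323) L725309 L742292 L756403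
theorem L756417 : sm gd N55239 = N56552 := rfl
theorem L756419 : sm ga N56552 = N55379 := ded_12_1 (flp_d L743785) (flp_a L742308) L756417
theorem L756421 : sm gg N56552 = N55802 := ded_36_2 (flp_d L747437) (flp_g L742312) L756417
theorem L756423 : sm ge N56552 = N55834 := ded_34_2 (flp_d L747650) L731595 (flp_d L725627) (flp_e L742310) L756417
theorem L756425 : sm gh N56552 = N55241 := ded_38_2 (flp_d L742326) (flp_h L725343) (flp_d L725327) L742306 L756417
theorem L756427 : sm gd N55240 = N56553 := rfl
theorem L756429 : sm ga N56553 = N55382 := ded_12_1 (flp_d L743811) (flp_a L742316) L756427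
theorem L756431 : sm gf N56553 = N55241 := ded_35_2 (flp_d L742326) (flp_f L742322) L756427
theorem L756433 : sm gi N56553 = N55884 := ded_39_2 L747986 (flp_i L742324) L756427
theorem L756435 : sm gc N55241 = N56554 := rfl
theorem L756437 : sm ga N56554 = N55383 := ded_11_1 (flp_c L743815) (flp_a L742328) L756435
theorem L756439 : sm ge N56554 = N55838 := ded_28_2 (flp_c L747678) (flp_e L742334) L756435
theorem L756441 : sm gg N56554 = N55803 := ded_30_2 (flp_c L747443) (flp_g L742330) L756435
theorem L756443 : sm gi N56554 = N55883 := ded_33_2 L747982 (flp_i L742332) L756435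
theorem L756445 : sm gd N56554 = N55243 := ded_27_2 (flp_c L742342) (flp_d L725363) (flp_c L725347) L742326 L756435
theorem L756447 : sm gc N55242 = N56555 := rfl
theorem L756449 : sm ga N56555 = N55388 := ded_11_1 (flp_c L743857) (flp_a L742338) L756447
theorem L756451 : sm gf N56555 = N55243 := ded_29_2 (flp_c L742342) (flp_f L742340) L756447
theorem L756453 : sm ge N55242 = N56556 := rfl
theorem L756455 : sm ga N56556 = N55389 := ded_13_1 (flp_e L743861) (flp_a L742338) L756453
theorem L756457 : sm gd N56556 = N55253 := ded_34_1 (flp_e L742446) (flp_d L725456) (flp_e L725359) L742336 L756453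
theorem L756459 : sm gb N55243 = N56557 := rfl
theorem L756461 : sm gg N56557 = N55804 := ded_23_2 (flp_b L747449) (flp_g L742346) L756459
theorem L756463 : sm gh N55244 = N56558 := rfl
theorem L756465 : sm ga N56558 = N55394 := ded_17_1 (flp_h L743899) (flp_a L742350) L756463
theorem L756467 : sm gb N56558 = N55917 := ded_25_1 (flp_h L748214) (flp_b L742352) L756463
theorem L756469 : sm gc N56558 = N55247 := ded_32_1 (flp_h L742388) (flp_c L742354) L756463
theorem L756471 : sm gf N56558 = N56558 := ded_47_1 (flp_h L756463) L742357 L756463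
theorem L756472 : sm gg N56558 = N55245 := ded_50_1 (flp_h L742360) (flp_g L742358) L756463
theorem L756474 : sm gi N56558 = N55894 := ded_54_2 L748049 L732163 (flp_h L725378) L742348 L756463
theorem L756476 : sm gd N55245 = N56559 := rfl
theorem L756478 : sm ga N56559 = N55395 := ded_12_1 (flp_d L743906) (flp_a L742362) L756476
theorem L756480 : sm gb N56559 = N55919 := ded_20_1 (flp_d L748228) (flp_b L742364) L756476
theorem L756482 : sm gf N56559 = N55246 := ded_35_2 (flp_d L742374) (flp_f L742368) L756476
theorem L756484 : sm gj N56559 = N55250 := ded_37_2 (flp_d L742416) (flp_j L742370) L756476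
theorem L756486 : sm gi N56559 = N55893 := ded_39_2 L748039 (flp_i L742372) L756476
theorem L756488 : sm gh N56559 = N56559 := ded_38_2 (flp_d L756476) (flp_h L742360) L725389 L742360 L756476
theorem L756489 : sm gc N55246 = N56560 := rfl
theorem L756491 : sm ga N56560 = N55396 := ded_11_1 (flp_c L743913) (flp_a L742376) L756489
theorem L756493 : sm ge N56560 = N55503 := ded_28_2 L745042 (flp_e L742385) L756489
theorem L756495 : sm gg N56560 = N56560 := ded_30_2 (flp_c L756489) L742380 L756489
theorem L756496 : sm gj N56560 = N55251 := ded_31_2 (flp_c L742425) (flp_j L742381) L756489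
theorem L756498 : sm gh N56560 = N56560 := ded_32_2 (flp_c L756489) L742387 L756489
theorem L756499 : sm gi N56560 = N55532 := ded_33_2 L745333 (flp_i L742383) L756489
theorem L756501 : sm gd N56560 = N55249 := ded_27_2 (flp_c L742405) (flp_d L725426) (flp_c L725400) L742374 L756489
theorem L756503 : sm gd N55247 = N56561 := rfl
theorem L756505 : sm ga N56561 = N55399 := ded_12_1 (flp_d L743946) (flp_a L742390) L756503
theorem L756507 : sm gf N56561 = N56561 := ded_35_2 (flp_d L756503) L742392 L756503
theorem L756508 : sm gg N56561 = N55248 := ded_36_2 (flp_d L742395) (flp_g L742393) L756503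
theorem L756510 : sm gh N56561 = N55254 := ded_38_2 (flp_d L742452) (flp_h L725484) (flp_d L725413) L742388 L756503
theorem L756512 : sm gc N55248 = N56562 := rfl
theorem L756514 : sm ga N56562 = N55400 := ded_11_1 (flp_c L743953) (flp_a L742397) L756512
theorem L756516 : sm gf N56562 = N55249 := ded_29_2 (flp_c L742405) (flp_f L742399) L756512
theorem L756518 : sm gj N56562 = N55252 := ded_31_2 (flp_c L742438) (flp_j L742401) L756512
theorem L756520 : sm gh N56562 = N55255 := ded_32_2 (flp_c L742460) (flp_h L742403) L756512
theorem L756522 : sm ge N55248 = N56563 := rfl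
theorem L756524 : sm ga N56563 = N55401 := ded_13_1 (flp_e L743961) (flp_a L742397) L756522
theorem L756526 : sm gj N56563 = N55253 := ded_42_2 (flp_e L742446) (flp_j L742401) L756522
theorem L756528 : sm gh N56563 = N55256 := ded_43_2 (flp_e L742470) (flp_h L742403) L756522
theorem L756530 : sm gc N55250 = N56564 := rfl
theorem L756532 : sm ga N56564 = N55408 := ded_11_1 (flp_c L744027) (flp_a L742418) L756530
theorem L756534 : sm gf N56564 = N55251 := ded_29_2 (flp_c L742425) (flp_f L742420) L756530
theorem L756536 : sm gh N56564 = N56564 := ded_32_2 (flp_c L756530) L742424 L756530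
theorem L756537 : sm gi N56564 = N55535 := ded_33_2 L745363 (flp_i L742422) L756530
theorem L756539 : sm gd N56564 = N55252 := ded_27_2 (flp_c L742438) (flp_d L725456) (flp_c L725439) L742416 L756530
theorem L756541 : sm ge N55250 = N56565 := rfl
theorem L756543 : sm ga N56565 = N55409 := ded_13_1 (flp_e L744036) (flp_a L742418) L756541
theorem L756545 : sm gh N56565 = N56565 := ded_43_2 (flp_e L756541) L742424 L756541
theorem L756546 : sm gi N56565 = N55900 := ded_44_2 L748094 (flp_i L742422) L756541
theorem L756548 : sm gf N56565 = N55848 := ded_40_2 (flp_e L747757) L731721 (flp_e L725453) (flp_f L742420) L756541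
theorem L756550 : sm ge N55252 = N56566 := rfl
theorem L756552 : sm ga N56566 = N55415 := ded_13_1 (flp_e L744082) (flp_a L742440) L756550
theorem L756554 : sm gc N56566 = N55253 := ded_28_1 (flp_e L742446) L742438 L756550
theorem L756556 : sm gh N56566 = N55257 := ded_43_2 (flp_e L742477) (flp_h L742444) L756550
theorem L756558 : sm gc N55254 = N56567 := rfl
theorem L756560 : sm ga N56567 = N55422 := ded_11_1 (flp_c L744149) (flp_a L742454) L756558
theorem L756562 : sm gf N56567 = N56567 := ded_29_2 (flp_c L756558) L742456 L756558
theorem L756563 : sm gg N56567 = N55255 := ded_30_2 (flp_c L742460) (flp_g L742457) L756558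
theorem L756565 : sm gi N56567 = N56567 := ded_33_2 (flp_c L756558) L742459 L756558
theorem L756566 : sm gd N56567 = N56567 := ded_27_2 (flp_c L756558) (flp_d L742452) L725488 L742452 L756558
theorem L756567 : sm ge N55254 = N56568 := rfl
theorem L756569 : sm ga N56568 = N55423 := ded_13_1 (flp_e L744156) (flp_a L742454) L756567
theorem L756571 : sm gg N56568 = N55256 := ded_41_2 (flp_e L742470) (flp_g L742457) L756567
theorem L756573 : sm gi N56568 = N56568 := ded_44_2 (flp_e L756567) L742459 L756567
theorem L756574 : sm ge N55255 = N56569 := rfl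
theorem L756576 : sm ga N56569 = N55425 := ded_13_1 (flp_e L744169) (flp_a L742462) L756574
theorem L756578 : sm gc N56569 = N55256 := ded_28_1 (flp_e L742470) L742460 L756574
theorem L756580 : sm gj N56569 = N55257 := ded_42_2 (flp_e L742477) (flp_j L742466) L756574
theorem L756582 : sm gi N56569 = N56569 := ded_44_2 (flp_e L756574) L742468 L756574
theorem L756583 : sm gf N56569 = N55902 := ded_40_2 (flp_e L748107) L732170 (flp_e L725506) (flp_f L742464) L756574
theorem L756585 : sm gd N55257 = N56570 := rfl
theorem L756587 : sm ga N56570 = N55432 := ded_12_1 (flp_d L744240) (flp_a L742479) L756585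
theorem L756589 : sm gi N56570 = N56570 := ded_39_2 (flp_d L756585) L742483 L756585
theorem L756590 : sm ge N56570 = N56570 := ded_34_2 (flp_d L756585) (flp_e L742477) L725520 L742477 L756585
theorem L756591 : sm gh N55259 = N56571 := rfl
theorem L756593 : sm ga N56571 = N55261 := ded_17_1 (flp_h L742522) (flp_a L742499) L756591
theorem L756595 : sm gb N56571 = N55290 := ded_25_1 (flp_h L742845) (flp_b L742501) L756591
theorem L756597 : sm gf N56571 = N56571 := ded_47_1 (flp_h L756591) L742505 L756591
theorem L756598 : sm gg N56571 = N55295 := ded_50_1 (flp_h L742900) (flp_g L742506) L756591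
theorem L756600 : sm gj N56571 = N55434 := ded_52_1 L744268 (flp_j L742508) L756591
theorem L756602 : sm gd N56571 = N55433 := ded_38_1 (flp_h L744244) L727184 (flp_h L725582) (flp_d L742503) L756591
theorem L756604 : sm gi N56571 = N55335 := ded_54_2 (flp_h L743352) (flp_i L726319) (flp_h L725566) L742497 L756591
theorem L756606 : sm gh N55260 = N56572 := rfl
theorem L756608 : sm gb N56572 = N55394 := ded_25_1 (flp_h L743899) (flp_b L742512) L756606
theorem L756610 : sm gc N56572 = N55261 := ded_32_1 (flp_h L742522) (flp_c L742514) L756606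
theorem L756612 : sm gf N56572 = N56572 := ded_47_1 (flp_h L756606) L742517 L756606
theorem L756613 : sm gg N56572 = N55391 := ded_50_1 (flp_h L743869) (flp_g L742518) L756606
theorem L756615 : sm gj N56572 = N55911 := ded_52_1 (flp_h L748173) (flp_j L742520) L756606
theorem L756617 : sm gi N56572 = N55904 := ded_54_2 (flp_h L748127) (flp_i L732201) (flp_h L725591) L742510 L756606
theorem L756619 : sm gh N55263 = N56573 := rfl
theorem L756621 : sm ga N56573 = N55764 := ded_17_1 (flp_h L747174) (flp_a L742552) L756619
theorem L756623 : sm gb N56573 = N55839 := ded_25_1 (flp_h L747684) (flp_b L742554) L756619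
theorem L756625 : sm ge N56573 = N55264 := ded_43_1 (flp_h L742564) (flp_e L742558) L756619
theorem L756627 : sm gg N56573 = N55272 := ded_50_1 (flp_h L742659) (flp_g L742560) L756619
theorem L756629 : sm gj N56573 = N55580 := ded_52_1 (flp_h L745803) (flp_j L742562) L756619
theorem L756631 : sm gi N56573 = N55622 := ded_54_2 (flp_h L746146) (flp_i L729542) (flp_h L725639) L742550 L756619
theorem L756633 : sm gi N55265 = N56574 := rfl
theorem L756635 : sm ga N56574 = N55519 := ded_18_1 (flp_i L745207) (flp_a L742580) L756633
theorem L756637 : sm gb N56574 = N55268 := ded_26_1 (flp_i L742620) (flp_b L742582) L756633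
theorem L756639 : sm gd N56574 = N55309 := ded_39_1 (flp_i L743066) (flp_d L742588) L756633
theorem L756641 : sm ge N56574 = N55266 := ded_44_1 (flp_i L742592) L742578 L756633
theorem L756643 : sm gf N56574 = N55830 := ded_48_1 (flp_i L747625) L742590 L756633
theorem L756645 : sm gg N56574 = N55306 := ded_51_1 (flp_i L743032) (flp_g L742584) L756633
theorem L756647 : sm gj N56574 = N55277 := ded_53_1 (flp_i L742717) (flp_j L742586) L756633
theorem L756649 : sm gh N55266 = N56575 := rfl
theorem L756651 : sm ga N56575 = N55542 := ded_17_1 (flp_h L745435) (flp_a L742594) L756649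
theorem L756653 : sm gb N56575 = N55269 := ded_25_1 (flp_h L742632) (flp_b L742596) L756649
theorem L756655 : sm gf N56575 = N56575 := ded_47_1 (flp_h L756649) L742600 L756649
theorem L756656 : sm gg N56575 = N55889 := ded_50_1 (flp_h L748002) (flp_g L742601) L756649
theorem L756658 : sm gj N56575 = N55278 := ded_52_1 (flp_h L742725) (flp_j L742603) L756649
theorem L756660 : sm gi N55267 = N56576 := rfl
theorem L756662 : sm ga N56576 = N55604 := ded_18_1 (flp_i L746024) (flp_a L742607) L756660
theorem L756664 : sm gb N56576 = N55830 := ded_26_1 (flp_i L747625) (flp_b L742609) L756660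
theorem L756666 : sm gc N56576 = N55271 := ded_33_1 (flp_i L742650) (flp_c L742611) L756660
theorem L756668 : sm gd N56576 = N55602 := ded_39_1 (flp_i L746002) (flp_d L742613) L756660
theorem L756670 : sm ge N56576 = N56576 := ded_44_1 (flp_i L756660) L742617 L756660
theorem L756671 : sm gf N56576 = N55268 := ded_48_1 (flp_i L742620) L742605 L756660
theorem L756673 : sm gg N56576 = N55825 := ded_51_1 (flp_i L747587) (flp_g L742618) L756660
theorem L756675 : sm gj N56576 = N55283 := ded_53_1 (flp_i L742787) (flp_j L742615) L756660

end Cfsg.Agent.Helper28.FicA
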