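import Cfsg.Agent.Helper28.FicB42

/-! # The Fi₂₃ presentation, cosets of the subgroup generated by a, …, i: the coset enumeration, part 43 (helper28; generated) -/

set_option autoImplicit false

noncomputable section

namespace Cfsg.Agent.Helper28.FicA

open Cfsg.Agent.Helper28.CosetTable

theorem L756677 : sm gh N55268 = N56577 := rfl
theorem L756679 : sm ga N56577 = N55606 := ded_17_1 (flp_h L746039) (flp_a L742622) L756677
theorem L756681 : sm gc N56577 = N55272 := ded_32_1 (flp_h L742659) (flp_c L742624) L756677
theorem L756683 : sm ge N56577 = N55269 := ded_43_1 (flp_h L742632) (flp_e L742628) L756677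
theorem L756685 : sm gj N56577 = N55284 := ded_52_1 (flp_h L742794) (flp_j L742630) L756677
theorem L756687 : sm gd N55269 = N56578 := rfl
theorem L756689 : sm ga N56578 = N55648 := ded_12_1 (flp_d L746369) (flp_a L742634) L756687
theorem L756691 : sm gf N56578 = N56578 := ded_35_2 (flp_d L756687) L742638 L756687
theorem L756692 : sm gj N56578 = N55285 := ded_37_2 (flp_d L742802) (flp_j L742639) L756687
theorem L756694 : sm gh N56578 = N55441 := ded_38_2 (flp_d L744345) (flp_h L727308) (flp_d L725684) L742632 L756687
theorem L756696 : sm gi N55270 = N56579 := rfl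
theorem L756698 : sm gc N56579 = N55825 := ded_33_1 (flp_i L747587) (flp_c L742643) L756696
theorem L756700 : sm gd N56579 = N55300 := ded_39_1 (flp_i L742970) (flp_d L742645) L756696
theorem L756702 : sm ge N56579 = N56579 := ded_44_1 (flp_i L756696) L742647 L756696
theorem L756703 : sm gf N56579 = N55824 := ded_48_1 (flp_i L747581) (flp_f L742648) L756696
theorem L756705 : sm gg N56579 = N55271 := ded_51_1 (flp_i L742650) L742641 L756696
theorem L756707 : sm gh N55271 = N56580 := rfl
theorem L756709 : sm ge N56580 = N56580 := ded_43_1 (flp_h L756707) L742654 L756707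
theorem L756710 : sm gf N56580 = N55272 := ded_47_1 (flp_h L742659) (flp_f L742655) L756707
theorem L756712 : sm gj N56580 = N55287 := ded_52_1 (flp_h L742820) (flp_j L742657) L756707
theorem L756714 : sm gd N55272 = N56581 := rfl
theorem L756716 : sm gj N56581 = N55288 := ded_37_2 (flp_d L742825) (flp_j L742663) L756714
theorem L756718 : sm gh N56581 = N55302 := ded_38_2 (flp_d L742986) (flp_h L725920) (flp_d L725698) L742659 L756714
theorem L756720 : sm gi N55273 = N56582 := rfl
theorem L756722 : sm ga N56582 = N55277 := ded_18_1 (flp_i L742717) (flp_a L742667) L756720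
theorem L756724 : sm gb N56582 = N55513 := ded_26_1 (flp_i L745137) (flp_b L742669) L756720
theorem L756726 : sm gd N56582 = N55510 := ded_39_1 (flp_i L745110) (flp_d L742675) L756720
theorem L756728 : sm ge N56582 = N55274 := ded_44_1 (flp_i L742677) L742665 L756720
theorem L756730 : sm gg N56582 = N55805 := ded_51_1 (flp_i L747451) (flp_g L742671) L756720
theorem L756732 : sm gj N56582 = N55519 := ded_53_1 (flp_i L745207) (flp_j L742673) L756720
theorem L756734 : sm gh N55274 = N56583 := rfl
theorem L756736 : sm ga N56583 = N55278 := ded_17_1 (flp_h L742725) (flp_a L742679) L756734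
theorem L756738 : sm gb N56583 = N55539 := ded_25_1 (flp_h L745403) (flp_b L742681) L756734
theorem L756740 : sm gf N56583 = N56583 := ded_47_1 (flp_h L756734) L742685 L756734
theorem L756741 : sm gg N56583 = N55806 := ded_50_1 (flp_h L747461) (flp_g L742686) L756734
theorem L756743 : sm gj N56583 = N55542 := ded_52_1 (flp_h L745435) (flp_j L742688) L756734
theorem L756745 : sm gi N55275 = N56584 := rfl
theorem L756747 : sm ga N56584 = N55510 := ded_18_1 (flp_i L745110) (flp_a L742692) L756745
theorem L756749 : sm gb N56584 = N55281 := ded_26_1 (flp_i L742764) (flp_b L742694) L756745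
theorem L756751 : sm gc N56584 = N55312 := ded_33_1 (flp_i L743102) (flp_c L742702) L756745
theorem L756753 : sm gd N56584 = N55277 := ded_39_1 (flp_i L742717) L742690 L756745
theorem L756755 : sm ge N56584 = N55323 := ded_44_1 (flp_i L743214) (flp_e L742700) L756745
theorem L756757 : sm gf N56584 = N55835 := ded_48_1 (flp_i L747654) L742704 L756745
theorem L756759 : sm gg N56584 = N55807 := ded_51_1 (flp_i L747471) (flp_g L742696) L756745
theorem L756761 : sm gj N56584 = N55309 := ded_53_1 (flp_i L743066) (flp_j L742698) L756745
theorem L756763 : sm gi N55276 = N56585 := rfl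
theorem L756765 : sm gb N56585 = N55283 := ded_26_1 (flp_i L742787) (flp_b L742710) L756763
theorem L756767 : sm gd N56585 = N55835 := ded_39_1 (flp_i L747654) (flp_d L742712) L756763
theorem L756769 : sm ge N56585 = N56585 := ded_44_1 (flp_i L756763) L742716 L756763
theorem L756770 : sm gf N56585 = N55277 := ded_48_1 (flp_i L742717) L742708 L756763
theorem L756772 : sm gj N56585 = N55830 := ded_53_1 (flp_i L747625) (flp_j L742714) L756763
theorem L756774 : sm gh N55277 = N56586 := rfl
theorem L756776 : sm gb N56586 = N55284 := ded_25_1 (flp_h L742794) (flp_b L742719) L756774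
theorem L756778 : sm ge N56586 = N55278 := ded_43_1 (flp_h L742725) (flp_e L742721) L756774
theorem L756780 : sm gg N56586 = N55808 := ded_50_1 (flp_h L747479) (flp_g L742723) L756774
theorem L756782 : sm gd N55278 = N56587 := rfl
theorem L756784 : sm gb N56587 = N55285 := ded_20_1 (flp_d L742802) (flp_b L742727) L756782
theorem L756786 : sm gf N56587 = N56587 := ded_35_2 (flp_d L756782) L742729 L756782
theorem L756787 : sm gg N56587 = N55809 := ded_36_2 (flp_d L747485) (flp_g L742730) L756782
theorem L756789 : sm gh N56587 = N55444 := ded_38_2 (flp_d L744384) (flp_h L727349) (flp_d L725730) L742725 L756782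
theorem L756791 : sm gi N55279 = N56588 := rfl
theorem L756793 : sm ga N56588 = N55590 := ded_18_1 (flp_i L745896) (flp_a L742734) L756791
theorem L756795 : sm gb N56588 = N55835 := ded_26_1 (flp_i L747654) (flp_b L742736) L756791
theorem L756797 : sm gc N56588 = N55306 := ded_33_1 (flp_i L743032) (flp_c L742738) L756791
theorem L756799 : sm gd N56588 = N55283 := ded_39_1 (flp_i L742787) (flp_d L742740) L756791
theorem L756801 : sm ge N56588 = N55626 := ded_44_1 (flp_i L746168) (flp_e L742744) L756791
theorem L756803 : sm gf N56588 = N55281 := ded_48_1 (flp_i L742764) L742732 L756791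
theorem L756805 : sm gj N56588 = N55602 := ded_53_1 (flp_i L746002) (flp_j L742742) L756791
theorem L756807 : sm gi N55280 = N56589 := rfl
theorem L756809 : sm ga N56589 = N55563 := ded_18_1 (flp_i L745641) (flp_a L742750) L756807
theorem L756811 : sm gb N56589 = N55380 := ded_26_1 (flp_i L743791) (flp_b L742752) L756807
theorem L756813 : sm gc N56589 = N55307 := ded_33_1 (flp_i L743044) (flp_c L742754) L756807
theorem L756815 : sm ge N56589 = N55403 := ded_44_1 (flp_i L743976) (flp_e L742756) L756807
theorem L756817 : sm gf N56589 = N55805 := ded_48_1 (flp_i L747451) (flp_f L742758) L756807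
theorem L756819 : sm gg N56589 = N55810 := ded_51_1 (flp_i L747493) (flp_g L742760) L756807
theorem L756821 : sm gj N56589 = N55369 := ded_53_1 (flp_i L743702) (flp_j L742762) L756807
theorem L756823 : sm gh N55281 = N56590 := rfl
theorem L756825 : sm ga N56590 = N55591 := ded_17_1 (flp_h L745908) (flp_a L742766) L756823
theorem L756827 : sm gc N56590 = N55308 := ded_32_1 (flp_h L743056) (flp_c L742768) L756823
theorem L756829 : sm ge N56590 = N55445 := ded_43_1 (flp_h L744392) (flp_e L742772) L756823
theorem L756831 : sm gg N56590 = N55811 := ded_50_1 (flp_h L747499) (flp_g L742774) L756823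
theorem L756833 : sm gj N56590 = N55603 := ded_52_1 (flp_h L746016) (flp_j L742776) L756823
theorem L756835 : sm gi N55282 = N56591 := rfl
theorem L756837 : sm gc N56591 = N55286 := ded_33_1 (flp_i L742809) (flp_c L742780) L756835
theorem L756839 : sm ge N56591 = N56591 := ded_44_1 (flp_i L756835) L742782 L756835
theorem L756840 : sm gf N56591 = N55559 := ded_48_1 (flp_i L745605) (flp_f L742785) L756835
theorem L756842 : sm gg N56591 = N55283 := ded_51_1 (flp_i L742787) L742778 L756835
theorem L756844 : sm gh N55283 = N56592 := rfl
theorem L756846 : sm gc N56592 = N55287 := ded_32_1 (flp_h L742820) (flp_c L742789) L756844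
theorem L756848 : sm ge N56592 = N56592 := ded_43_1 (flp_h L756844) L742791 L756844
theorem L756849 : sm gf N56592 = N55284 := ded_47_1 (flp_h L742794) (flp_f L742792) L756844
theorem L756851 : sm gd N55284 = N56593 := rfl
theorem L756853 : sm gg N56593 = N55812 := ded_36_2 (flp_d L747505) (flp_g L742800) L756851
theorem L756855 : sm ge N55285 = N56594 := rfl
theorem L756857 : sm gg N56594 = N55813 := ded_41_2 (flp_e L747507) (flp_g L742805) L756855
theorem L756859 : sm gh N56594 = N55446 := ded_43_2 (flp_e L744404) (flp_h L742807) L756855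
theorem L756861 : sm gh N55286 = N56595 := rfl
theorem L756863 : sm gb N56595 = N55817 := ded_25_1 (flp_h L747532) (flp_b L742811) L756861
theorem L756865 : sm ge N56595 = N56595 := ded_43_1 (flp_h L756861) L742815 L756861
theorem L756866 : sm gf N56595 = N55561 := ded_47_1 (flp_h L745622) (flp_f L742816) L756861
theorem L756868 : sm gg N56595 = N55287 := ded_50_1 (flp_h L742820) (flp_g L742818) L756861
theorem L756870 : sm gi N56595 = N55588 := ded_54_2 (flp_h L745883) (flp_i L729278) (flp_h L725774) L742809 L756861
theorem L756872 : sm gd N55287 = N56596 := rfl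
theorem L756874 : sm gf N56596 = N55288 := ded_35_2 (flp_d L742825) (flp_f L742823) L756872
theorem L756876 : sm gh N56596 = N55314 := ded_38_2 (flp_d L743120) (flp_h L726046) (flp_d L725780) L742820 L756872
theorem L756878 : sm gc N55288 = N56597 := rfl
theorem L756880 : sm gg N56597 = N55814 := ded_30_2 (flp_c L747511) (flp_g L742827) L756878
theorem L756882 : sm gh N56597 = N55315 := ded_32_2 (flp_c L743126) (flp_h L742829) L756878
theorem L756884 : sm gh N55289 = N56598 := rfl
theorem L756886 : sm ga N56598 = N55368 := ded_17_1 (flp_h L743694) (flp_a L742833) L756884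
theorem L756888 : sm gc N56598 = N55293 := ded_32_1 (flp_h L742878) (flp_c L742835) L756884
theorem L756890 : sm ge N56598 = N55290 := ded_43_1 (flp_h L742845) (flp_e L742839) L756884
theorem L756892 : sm gg N56598 = N55298 := ded_50_1 (flp_h L742946) (flp_g L742841) L756884
theorem L756894 : sm gj N56598 = N55816 := ded_52_1 (flp_h L747522) (flp_j L742843) L756884
theorem L756896 : sm gi N56598 = N55339 := ded_54_2 (flp_h L743399) (flp_i L726351) (flp_h L725801) L742831 L756884
theorem L756898 : sm gi N55291 = N56599 := rfl
theorem L756900 : sm gc N56599 = N55570 := ded_33_1 (flp_i L745720) (flp_c L742862) L756898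
theorem L756902 : sm gd N56599 = N55824 := ded_39_1 (flp_i L747581) (flp_d L742864) L756898
theorem L756904 : sm ge N56599 = N56599 := ded_44_1 (flp_i L756898) L742866 L756898
theorem L756905 : sm gf N56599 = N55300 := ded_48_1 (flp_i L742970) (flp_f L742869) L756898
theorem L756907 : sm gg N56599 = N55292 := ded_51_1 (flp_i L742871) L742860 L756898
theorem L756909 : sm gh N55292 = N56600 := rfl
theorem L756911 : sm ge N56600 = N56600 := ded_43_1 (flp_h L756909) L742873 L756909
theorem L756912 : sm gf N56600 = N55293 := ded_47_1 (flp_h L742878) (flp_f L742874) L756909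
theorem L756914 : sm gj N56600 = N55817 := ded_52_1 (flp_h L747532) (flp_j L742876) L756909
theorem L756916 : sm gi N56600 = N55342 := ded_54_2 (flp_h L743433) (flp_i L726375) (flp_h L725822) L742871 L756909
theorem L756918 : sm gd N55293 = N56601 := rfl
theorem L756920 : sm gg N56601 = N55302 := ded_36_2 (flp_d L742986) (flp_g L742882) L756918
theorem L756922 : sm gj N56601 = N55818 := ded_37_2 (flp_d L747539) (flp_j L742884) L756918
theorem L756924 : sm gi N56601 = N55343 := ded_39_2 (flp_d L743440) (flp_i L742886) L756918
theorem L756926 : sm gh N55294 = N56602 := rfl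
theorem L756928 : sm ga N56602 = N55799 := ded_17_1 (flp_h L747419) (flp_a L742890) L756926
theorem L756930 : sm gb N56602 = N55298 := ded_25_1 (flp_h L742946) (flp_b L742892) L756926
theorem L756932 : sm ge N56602 = N55295 := ded_43_1 (flp_h L742900) (flp_e L742896) L756926
theorem L756934 : sm gj N56602 = N55304 := ded_52_1 (flp_h L743006) (flp_j L742898) L756926
theorem L756936 : sm gi N56602 = N55349 := ded_54_2 (flp_h L743519) (flp_i L726444) (flp_h L725850) L742888 L756926
theorem L756938 : sm gi N55296 = N56603 := rfl
theorem L756940 : sm ga N56603 = N55868 := ded_18_1 (flp_i L747894) (flp_a L742916) L756938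
theorem L756942 : sm gb N56603 = N55574 := ded_26_1 (flp_i L745762) (flp_b L742918) L756938
theorem L756944 : sm gc N56603 = N55300 := ded_33_1 (flp_i L742970) (flp_c L742920) L756938
theorem L756946 : sm gd N56603 = N55571 := ded_39_1 (flp_i L745727) (flp_d L742922) L756938
theorem L756948 : sm ge N56603 = N55316 := ded_44_1 (flp_i L743132) (flp_e L742924) L756938
theorem L756950 : sm gf N56603 = N55570 := ded_48_1 (flp_i L745720) (flp_f L742928) L756938
theorem L756952 : sm gg N56603 = N55297 := ded_51_1 (flp_i L742932) L742914 L756938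
theorem L756954 : sm gj N56603 = N55807 := ded_53_1 (flp_i L747471) (flp_j L742930) L756938
theorem L756956 : sm gh N55297 = N56604 := rfl
theorem L756958 : sm ga N56604 = N55861 := ded_17_1 L747856 (flp_a L742934) L756956
theorem L756960 : sm gc N56604 = N55301 := ded_32_1 (flp_h L742976) (flp_c L742936) L756956
theorem L756962 : sm ge N56604 = N55317 := ded_43_1 (flp_h L743147) (flp_e L742940) L756956
theorem L756964 : sm gf N56604 = N55298 := ded_47_1 (flp_h L742946) (flp_f L742942) L756956
theorem L756966 : sm gj N56604 = N55310 := ded_52_1 (flp_h L743080) (flp_j L742944) L756956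
theorem L756968 : sm gi N56604 = N55358 := ded_54_2 (flp_h L743616) (flp_i L726495) (flp_h L725876) L742932 L756956
theorem L756970 : sm gd N55298 = N56605 := rfl
theorem L756972 : sm ga N56605 = N55860 := ded_12_1 L747848 (flp_a L742948) L756970
theorem L756974 : sm gj N56605 = N55311 := ded_37_2 (flp_d L743092) (flp_j L742954) L756970
theorem L756976 : sm gi N56605 = N55359 := ded_39_2 (flp_d L743626) (flp_i L742956) L756970
theorem L756978 : sm ge N56605 = N55796 := ded_34_2 (flp_d L747399) L731285 (flp_d L725902) (flp_e L742952) L756970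
theorem L756980 : sm gh N56605 = N55867 := ded_38_2 (flp_d L747890) (flp_h L731871) (flp_d L725886) L742946 L756970
theorem L756982 : sm gi N55299 = N56606 := rfl
theorem L756984 : sm gb N56606 = N55824 := ded_26_1 (flp_i L747581) (flp_b L742960) L756982
theorem L756986 : sm gc N56606 = N55807 := ded_33_1 (flp_i L747471) (flp_c L742962) L756982
theorem L756988 : sm ge N56606 = N55319 := ded_44_1 (flp_i L743174) (flp_e L742964) L756982
theorem L756990 : sm gg N56606 = N55312 := ded_51_1 (flp_i L743102) (flp_g L742968) L756982
theorem L756992 : sm gj N56606 = N55300 := ded_53_1 (flp_i L742970) L742958 L756982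
theorem L756994 : sm gh N55300 = N56607 := rfl
theorem L756996 : sm ge N56607 = N55320 := ded_43_1 (flp_h L743186) (flp_e L742972) L756994
theorem L756998 : sm gg N56607 = N55301 := ded_50_1 (flp_h L742976) (flp_g L742974) L756994
theorem L757000 : sm gi N56607 = N55362 := ded_54_2 (flp_h L743650) (flp_i L726533) (flp_h L725910) L742970 L756994
theorem L757002 : sm gd N55301 = N56608 := rfl
theorem L757004 : sm gf N56608 = N55302 := ded_35_2 (flp_d L742986) (flp_f L742980) L757002
theorem L757006 : sm gj N56608 = N55314 := ded_37_2 (flp_d L743120) (flp_j L742982) L757002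
theorem L757008 : sm gi N56608 = N55363 := ded_39_2 (flp_d L743656) (flp_i L742984) L757002
theorem L757010 : sm gc N55302 = N56609 := rfl
theorem L757012 : sm gj N56609 = N55315 := ded_31_2 (flp_c L743126) (flp_j L742988) L757010
theorem L757014 : sm gi N56609 = N55364 := ded_33_2 (flp_c L743662) (flp_i L742990) L757010
theorem L757016 : sm gh N55303 = N56610 := rfl
theorem L757018 : sm ga N56610 = N55795 := ded_17_1 (flp_h L747391) (flp_a L742994) L757016
theorem L757020 : sm gb N56610 = N55308 := ded_25_1 (flp_h L743056) (flp_b L742996) L757016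
theorem L757022 : sm ge N56610 = N55447 := ded_43_1 (flp_h L744409) (flp_e L743000) L757016
theorem L757024 : sm gg N56610 = N55826 := ded_50_1 (flp_h L747596) (flp_g L743002) L757016
theorem L757026 : sm gj N56610 = N55798 := ded_52_1 (flp_h L747411) (flp_j L743004) L757016
theorem L757028 : sm gd N55304 = N56611 := rfl
theorem L757030 : sm gb N56611 = N55311 := ded_20_1 (flp_d L743092) (flp_b L743008) L757028
theorem L757032 : sm gg N56611 = N55828 := ded_36_2 (flp_d L747612) (flp_g L743012) L757028
theorem L757034 : sm gi N56611 = N55371 := ded_39_2 (flp_d L743724) (flp_i L743014) L757028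
theorem L757036 : sm ge N56611 = N55800 := ded_34_2 (flp_d L747425) L731323 (flp_d L725956) (flp_e L743010) L757028
theorem L757038 : sm gi N55305 = N56612 := rfl
theorem L757040 : sm ga N56612 = N55552 := ded_18_1 (flp_i L745530) (flp_a L743018) L757038
theorem L757042 : sm gb N56612 = N55616 := ded_26_1 (flp_i L746112) (flp_b L743020) L757038
theorem L757044 : sm gc N56612 = N55805 := ded_33_1 (flp_i L747451) (flp_c L743022) L757038
theorem L757046 : sm gd N56612 = N55376 := ded_39_1 (flp_i L743767) (flp_d L743030) L757038
theorem L757048 : sm ge N56612 = N55551 := ded_44_1 (flp_i L745517) (flp_e L743024) L757038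
theorem L757050 : sm gf N56612 = N55307 := ded_48_1 (flp_i L743044) (flp_f L743026) L757038
theorem L757052 : sm gj N56612 = N55607 := ded_53_1 (flp_i L746045) (flp_j L743028) L757038
theorem L757054 : sm gh N55306 = N56613 := rfl
theorem L757056 : sm ga N56613 = N55855 := ded_17_1 (flp_h L747798) (flp_a L743034) L757054
theorem L757058 : sm ge N56613 = N55889 := ded_43_1 (flp_h L748002) (flp_e L743038) L757054
theorem L757060 : sm gf N56613 = N55308 := ded_47_1 (flp_h L743056) (flp_f L743040) L757054
theorem L757062 : sm gj N56613 = N55866 := ded_52_1 (flp_h L747882) (flp_j L743042) L757054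
theorem L757064 : sm gh N55307 = N56614 := rfl
theorem L757066 : sm ga N56614 = N55819 := ded_17_1 (flp_h L747545) (flp_a L743046) L757064
theorem L757068 : sm ge N56614 = N55448 := ded_43_1 (flp_h L744423) (flp_e L743050) L757064
theorem L757070 : sm gg N56614 = N55833 := ded_50_1 (flp_h L747644) (flp_g L743052) L757064
theorem L757072 : sm gj N56614 = N55823 := ded_52_1 (flp_h L747573) (flp_j L743054) L757064
theorem L757074 : sm gi N56614 = N55308 := ded_54_2 (flp_h L743056) (flp_i L725982) L725970 L743044 L757064
theorem L757076 : sm gd N55308 = N56615 := rfl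
theorem L757078 : sm ga N56615 = N55856 := ded_12_1 (flp_d L747808) (flp_a L743058) L757076
theorem L757080 : sm gg N56615 = N55834 := ded_36_2 (flp_d L747650) (flp_g L743062) L757076
theorem L757082 : sm gj N56615 = N55867 := ded_37_2 (flp_d L747890) (flp_j L743064) L757076
theorem L757084 : sm ge N56615 = N55802 := ded_34_2 (flp_d L747437) L731335 (flp_d L727429) (flp_e L743060) L757076
theorem L757086 : sm gh N56615 = N55311 := ded_38_2 (flp_d L743092) (flp_h L726018) (flp_d L725986) L743056 L757076
theorem L757088 : sm gh N55309 = N56616 := rfl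
theorem L757090 : sm ga N56616 = N55520 := ded_17_1 (flp_h L745217) (flp_a L743068) L757088
theorem L757092 : sm gb N56616 = N55603 := ded_25_1 (flp_h L746016) (flp_b L743070) L757088
theorem L757094 : sm gc N56616 = N55313 := ded_32_1 (flp_h L743110) (flp_c L743072) L757088
theorem L757096 : sm ge N56616 = N55324 := ded_43_1 (flp_h L743230) (flp_e L743074) L757088
theorem L757098 : sm gf N56616 = N55836 := ded_47_1 (flp_h L747662) (flp_f L743076) L757088
theorem L757100 : sm gg N56616 = N55310 := ded_50_1 (flp_h L743080) (flp_g L743078) L757088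
theorem L757102 : sm gi N56616 = N55381 := ded_54_2 (flp_h L743801) (flp_i L726665) (flp_h L726004) L743066 L757088
theorem L757104 : sm gd N55310 = N56617 := rfl
theorem L757106 : sm ga N56617 = N55884 := ded_12_1 L747986 (flp_a L743082) L757104
theorem L757108 : sm gf N56617 = N55311 := ded_35_2 (flp_d L743092) (flp_f L743088) L757104
theorem L757110 : sm gi N56617 = N55382 := ded_39_2 (flp_d L743811) (flp_i L743090) L757104
theorem L757112 : sm gc N55311 = N56618 := rfl
theorem L757114 : sm ga N56618 = N55883 := ded_11_1 L747982 (flp_a L743094) L757112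
theorem L757116 : sm ge N56618 = N55803 := ded_28_2 (flp_c L747443) (flp_e L743100) L757112
theorem L757118 : sm gg N56618 = N55838 := ded_30_2 (flp_c L747678) (flp_g L743096) L757112
theorem L757120 : sm gi N56618 = N55383 := ded_33_2 (flp_c L743815) (flp_i L743098) L757112
theorem L757122 : sm gd N56618 = N55315 := ded_27_2 (flp_c L743126) (flp_d L726054) (flp_c L726022) L743092 L757112
theorem L757124 : sm gh N55312 = N56619 := rfl
theorem L757126 : sm ge N56619 = N55326 := ded_43_1 (flp_h L743256) (flp_e L743104) L757124
theorem L757128 : sm gf N56619 = N55839 := ded_47_1 (flp_h L747684) (flp_f L743106) L757124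
theorem L757130 : sm gj N56619 = N55313 := ded_52_1 (flp_h L743110) (flp_j L743108) L757124
theorem L757132 : sm gi N56619 = N55386 := ded_54_2 (flp_h L743843) (flp_i L726699) (flp_h L726036) L743102 L757124
theorem L757134 : sm gd N55313 = N56620 := rfl
theorem L757136 : sm gf N56620 = N55840 := ded_35_2 (flp_d L747692) (flp_f L743114) L757134
theorem L757138 : sm gg N56620 = N55314 := ded_36_2 (flp_d L743120) (flp_g L743116) L757134
theorem L757140 : sm gi N56620 = N55387 := ded_39_2 (flp_d L743851) (flp_i L743118) L757134
theorem L757142 : sm gc N55314 = N56621 := rfl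
theorem L757144 : sm gf N56621 = N55315 := ded_29_2 (flp_c L743126) (flp_f L743122) L757142
theorem L757146 : sm gi N56621 = N55388 := ded_33_2 (flp_c L743857) (flp_i L743124) L757142
theorem L757148 : sm ge N55314 = N56622 := rfl
theorem L757150 : sm gi N56622 = N55389 := ded_44_2 (flp_e L743861) (flp_i L743124) L757148
theorem L757152 : sm gd N56622 = N55329 := ded_34_1 (flp_e L743282) (flp_d L726216) (flp_e L726048) L743120 L757148
theorem L757154 : sm gb N55315 = N56623 := rfl
theorem L757156 : sm gg N56623 = N55842 := ded_23_2 (flp_b L747704) (flp_g L743128) L757154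
theorem L757158 : sm gi N56623 = N55390 := ded_26_2 (flp_b L743865) (flp_i L743130) L757154
theorem L757160 : sm gh N55316 = N56624 := rfl
theorem L757162 : sm ga N56624 = N55894 := ded_17_1 L748049 (flp_a L743134) L757160
theorem L757164 : sm gb N56624 = N55904 := ded_25_1 (flp_h L748127) (flp_b L743136) L757160
theorem L757166 : sm gc N56624 = N55320 := ded_32_1 (flp_h L743186) (flp_c L743138) L757160
theorem L757168 : sm gf N56624 = N56624 := ded_47_1 (flp_h L757160) L743142 L757160
theorem L757169 : sm gg N56624 = N55317 := ded_50_1 (flp_h L743147) (flp_g L743143) L757160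
theorem L757171 : sm gj N56624 = N55907 := ded_52_1 (flp_h L748151) (flp_j L743145) L757160
theorem L757173 : sm gi N56624 = N55394 := ded_54_2 (flp_h L743899) (flp_i L726779) (flp_h L726083) L743132 L757160
theorem L757175 : sm gd N55317 = N56625 := rfl
theorem L757177 : sm ga N56625 = N55893 := ded_12_1 L748039 (flp_a L743149) L757175
theorem L757179 : sm gf N56625 = N55318 := ded_35_2 (flp_d L743159) (flp_f L743153) L757175
theorem L757181 : sm gj N56625 = N55325 := ded_37_2 (flp_d L743244) (flp_j L743155) L757175
theorem L757183 : sm gi N56625 = N55395 := ded_39_2 (flp_d L743906) (flp_i L743157) L757175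
theorem L757185 : sm gh N56625 = N55496 := ded_38_2 L744968 L732326 (flp_d L726094) L743147 L757175
theorem L757187 : sm gc N55631 = N56625 := ded_29_3 L757179 (flp_c L743172) L746227
theorem L757189 : sm gh N55319 = N56626 := rfl
theorem L757191 : sm gb N56626 = N55914 := ded_25_1 (flp_h L748190) (flp_b L743176) L757189
theorem L757193 : sm gc N56626 = N55907 := ded_32_1 (flp_h L748151) (flp_c L743178) L757189
theorem L757195 : sm gf N56626 = N56626 := ded_47_1 (flp_h L757189) L743181 L757189
theorem L757196 : sm gg N56626 = N55326 := ded_50_1 (flp_h L743256) (flp_g L743182) L757189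
theorem L757198 : sm gj N56626 = N55320 := ded_52_1 (flp_h L743186) (flp_j L743184) L757189
theorem L757200 : sm gi N56626 = N55398 := ded_54_2 (flp_h L743939) (flp_i L726814) (flp_h L726121) L743174 L757189
theorem L757202 : sm gd N55320 = N56627 := rfl
theorem L757204 : sm gf N56627 = N56627 := ded_35_2 (flp_d L757202) L743188 L757202
theorem L757205 : sm gg N56627 = N55321 := ded_36_2 (flp_d L743193) (flp_g L743189) L757202
theorem L757207 : sm gi N56627 = N55399 := ded_39_2 (flp_d L743946) (flp_i L743191) L757202
theorem L757209 : sm gh N56627 = N56627 := ded_38_2 (flp_d L757202) (flp_h L743186) L726127 L743186 L757202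
theorem L757210 : sm gc N55321 = N56628 := rfl
theorem L757212 : sm gf N56628 = N55322 := ded_29_2 (flp_c L743202) (flp_f L743195) L757210
theorem L757214 : sm gj N56628 = N55328 := ded_31_2 (flp_c L743273) (flp_j L743197) L757210
theorem L757216 : sm gh N56628 = N56628 := ded_32_2 (flp_c L757210) L743201 L757210
theorem L757217 : sm gi N56628 = N55400 := ded_33_2 (flp_c L743953) (flp_i L743199) L757210
theorem L757219 : sm gd N56628 = N55631 := ded_27_2 L757187 (flp_d L757175) L743151 L743193 L757210
theorem L757221 : sm ge N55321 = N56629 := rfl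
theorem L757223 : sm gj N56629 = N55329 := ded_42_2 (flp_e L743282) (flp_j L743197) L757221
theorem L757225 : sm gh N56629 = N56629 := ded_43_2 (flp_e L757221) L743201 L757221
theorem L757226 : sm gi N56629 = N55401 := ded_44_2 (flp_e L743961) (flp_i L743199) L757221
theorem L757228 : sm gb N55322 = N56630 := rfl
theorem L757230 : sm gd N56630 = N55420 := ded_20_2 (flp_b L744139) (flp_d L743212) L757228
theorem L757232 : sm ge N56630 = N55629 := ded_21_2 L746210 (flp_e L743204) L757228
theorem L757234 : sm gg N56630 = N56630 := ded_23_2 (flp_b L757228) L743206 L757228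
theorem L757235 : sm gj N56630 = N55330 := ded_24_2 (flp_b L743287) (flp_j L743207) L757228
theorem L757237 : sm gh N56630 = N56630 := ded_25_2 (flp_b L757228) L743209 L757228
theorem L757238 : sm gi N56630 = N55402 := ded_26_2 (flp_b L743967) (flp_i L743210) L757228
theorem L757240 : sm gc N56630 = N55418 := ded_19_2 L751400 (flp_c L751388) L736069 L743202 L757228
theorem L757242 : sm gh N55323 = N56631 := rfl
theorem L757244 : sm ga N56631 = N55511 := ded_17_1 (flp_h L745118) (flp_a L743216) L757242
theorem L757246 : sm gb N56631 = N55445 := ded_25_1 (flp_h L744392) (flp_b L743218) L757242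
theorem L757248 : sm gc N56631 = N55326 := ded_32_1 (flp_h L743256) (flp_c L743220) L757242
theorem L757250 : sm gf N56631 = N55331 := ded_47_1 (flp_h L743300) (flp_f L743224) L757242
theorem L757252 : sm gg N56631 = N55907 := ded_50_1 (flp_h L748151) (flp_g L743226) L757242
theorem L757254 : sm gj N56631 = N55324 := ded_52_1 (flp_h L743230) (flp_j L743228) L757242
theorem L757256 : sm gi N56631 = N55406 := ded_54_2 (flp_h L744012) (flp_i L726886) (flp_h L726159) L743214 L757242
theorem L757258 : sm ge N55325 = N56632 := rfl
theorem L757260 : sm ga N56632 = N55900 := ded_13_1 L748094 (flp_a L743246) L757258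
theorem L757262 : sm gc N56632 = N55621 := ded_28_1 L746144 L743254 L757258
theorem L757264 : sm gh N56632 = N55495 := ded_43_2 L744960 (flp_h L743252) L757258
theorem L757266 : sm gi N56632 = N55409 := ded_44_2 (flp_e L744036) (flp_i L743250) L757258
theorem L757268 : sm gf N56632 = N55490 := ded_40_2 (flp_e L744906) L728110 (flp_e L726195) (flp_f L743248) L757258
theorem L757270 : sm gd N55326 = N56633 := rfl
theorem L757272 : sm gf N56633 = N55332 := ded_35_2 (flp_d L743315) (flp_f L743258) L757270
theorem L757274 : sm gj N56633 = N55327 := ded_37_2 (flp_d L743264) (flp_j L743260) L757270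
theorem L757276 : sm gi N56633 = N55411 := ded_39_2 (flp_d L744050) (flp_i L743262) L757270
theorem L757278 : sm gh N56633 = N56633 := ded_38_2 (flp_d L757270) (flp_h L743256) L726203 L743256 L757270
theorem L757279 : sm gc N55327 = N56634 := rfl
theorem L757281 : sm gf N56634 = N55333 := ded_29_2 (flp_c L743325) (flp_f L743266) L757279
theorem L757283 : sm gg N56634 = N55328 := ded_30_2 (flp_c L743273) (flp_g L743268) L757279
theorem L757285 : sm gh N56634 = N56634 := ded_32_2 (flp_c L757279) L743272 L757279
theorem L757286 : sm gi N56634 = N55412 := ded_33_2 (flp_c L744058) (flp_i L743270) L757279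
theorem L757288 : sm gb N56634 = N55408 := ded_19_1 (flp_c L744027) (flp_b L744007) (flp_c L751443) L751435 L757279
theorem L757290 : sm gd N56634 = N55414 := ded_27_2 (flp_c L752088) L752076 L743236 L743264 L757279
theorem L757292 : sm ge N55327 = N56635 := rfl
theorem L757294 : sm gg N56635 = N55329 := ded_41_2 (flp_e L743282) (flp_g L743268) L757292
theorem L757296 : sm gh N56635 = N56635 := ded_43_2 (flp_e L757292) L743272 L757292
theorem L757297 : sm gi N56635 = N55413 := ded_44_2 (flp_e L744068) (flp_i L743270) L757292
theorem L757299 : sm gb N55328 = N56636 := rfl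
theorem L757301 : sm gd N56636 = N55412 := ded_20_2 (flp_b L744066) (flp_d L743280) L757299
theorem L757303 : sm gf N56636 = N55330 := ded_22_2 (flp_b L743287) (flp_f L743275) L757299
theorem L757305 : sm gg N56636 = N55408 := ded_23_2 (flp_b L757288) L757283 L757299
theorem L757307 : sm gh N56636 = N56636 := ded_25_2 (flp_b L757299) L743277 L757299
theorem L757308 : sm gi N56636 = N55414 := ded_26_2 (flp_b L744074) (flp_i L743278) L757299
theorem L757310 : sm gc N56636 = N55407 := ded_19_2 L751459 (flp_c L751446) L736154 L743273 L757299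
theorem L757312 : sm ge N55328 = N56637 := rfl
theorem L757314 : sm gc N56637 = N55329 := ded_28_1 (flp_e L743282) L743273 L757312
theorem L757316 : sm gh N56637 = N56637 := ded_43_2 (flp_e L757312) L743277 L757312
theorem L757317 : sm gi N56637 = N55415 := ded_44_2 (flp_e L744082) (flp_i L743278) L757312
theorem L757319 : sm gf N56637 = N55638 := ded_40_2 (flp_e L746294) L729736 (flp_e L726225) (flp_f L743275) L757312
theorem L757321 : sm gc N55332 = N56638 := rfl
theorem L757323 : sm ge N56638 = N55583 := ded_28_2 L745840 (flp_e L743322) L757321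
theorem L757325 : sm gg N56638 = N56638 := ded_30_2 (flp_c L757321) L743317 L757321
theorem L757326 : sm gj N56638 = N55333 := ded_31_2 (flp_c L743325) (flp_j L743318) L757321
theorem L757328 : sm gh N56638 = N56638 := ded_32_2 (flp_c L757321) L743324 L757321
theorem L757329 : sm gi N56638 = N55420 := ded_33_2 (flp_c L744130) (flp_i L743320) L757321
theorem L757331 : sm gb N56638 = N55396 := ded_19_1 (flp_c L743913) (flp_b L743881) (flp_c L751479) L751472 L757321
theorem L757333 : sm gd N56638 = N55402 := ded_27_2 (flp_c L752004) L751991 L743306 L743315 L757321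
theorem L757335 : sm gh N55334 = N56639 := rfl
theorem L757337 : sm ga N56639 = N55820 := ded_17_1 (flp_h L747555) (flp_a L743340) L757335
theorem L757339 : sm gb N56639 = N55339 := ded_25_1 (flp_h L743399) (flp_b L743342) L757335
theorem L757341 : sm ge N56639 = N55335 := ded_43_1 (flp_h L743352) (flp_e L743346) L757335
theorem L757343 : sm gg N56639 = N55349 := ded_50_1 (flp_h L743519) (flp_g L743348) L757335
theorem L757345 : sm gj N56639 = N55436 := ded_52_1 L744289 (flp_j L743350) L757335
theorem L757347 : sm gh N55336 = N56640 := rfl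
theorem L757349 : sm gb N56640 = N55360 := ded_25_1 L743638 (flp_b L743367) L757347
theorem L757351 : sm ge N56640 = N55350 := ded_43_1 L743539 (flp_e L743371) L757347
theorem L757353 : sm gg N56640 = N55355 := ded_50_1 (flp_h L743590) (flp_g L743373) L757347
theorem L757355 : sm gj N56640 = N55372 := ded_52_1 L743736 (flp_j L743375) L757347
theorem L757357 : sm gi N56640 = N55795 := ded_54_2 (flp_h L747391) (flp_i L731263) (flp_h L726342) L743365 L757347
theorem L757359 : sm gi N55337 = N56641 := rfl
theorem L757361 : sm gb N56641 = N55575 := ded_26_1 (flp_i L745774) (flp_b L743379) L757359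
theorem L757363 : sm gc N56641 = N55341 := ded_33_1 (flp_i L743426) (flp_c L743381) L757359
theorem L757365 : sm gd N56641 = N55605 := ded_39_1 (flp_i L746033) (flp_d L743383) L757359
theorem L757367 : sm ge N56641 = N56641 := ded_44_1 (flp_i L757359) L743385 L757359
theorem L757368 : sm gf N56641 = N55357 := ded_48_1 (flp_i L743608) (flp_f L743388) L757359
theorem L757370 : sm gg N56641 = N55338 := ded_51_1 (flp_i L743390) L743377 L757359
theorem L757372 : sm gh N55338 = N56642 := rfl
theorem L757374 : sm gc N56642 = N55342 := ded_32_1 (flp_h L743433) (flp_c L743392) L757372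
theorem L757376 : sm ge N56642 = N56642 := ded_43_1 (flp_h L757372) L743394 L757372
theorem L757377 : sm gf N56642 = N55339 := ded_47_1 (flp_h L743399) (flp_f L743395) L757372
theorem L757379 : sm gj N56642 = N55850 := ded_52_1 (flp_h L747772) (flp_j L743397) L757372
theorem L757381 : sm gd N55339 = N56643 := rfl
theorem L757383 : sm gg N56643 = N55359 := ded_36_2 (flp_d L743626) (flp_g L743405) L757381
theorem L757385 : sm gj N56643 = N55851 := ded_37_2 (flp_d L747779) (flp_j L743407) L757381
theorem L757387 : sm ge N55340 = N56644 := rfl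
theorem L757389 : sm ga N56644 = N55816 := ded_13_1 L747526 (flp_a L743411) L757387
theorem L757391 : sm gb N56644 = N55355 := ded_21_1 L743592 (flp_b L743413) L757387
theorem L757393 : sm gc N56644 = N55773 := ded_28_1 L747252 (flp_c L743422) L757387
theorem L757395 : sm gg N56644 = N55360 := ded_41_2 (flp_e L743630) (flp_g L743416) L757387
theorem L757397 : sm gj N56644 = N55368 := ded_42_2 L743698 (flp_j L743418) L757387
theorem L757399 : sm gh N56644 = N55347 := ded_43_2 L743501 (flp_h L743424) L757387
theorem L757401 : sm gi N56644 = N55792 := ded_44_2 L747374 (flp_i L743420) L757387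
theorem L757403 : sm gh N55341 = N56645 := rfl
theorem L757405 : sm ge N56645 = N56645 := ded_43_1 (flp_h L757403) L743428 L757403
theorem L757406 : sm gf N56645 = N55362 := ded_47_1 (flp_h L743650) (flp_f L743429) L757403
theorem L757408 : sm gg N56645 = N55342 := ded_50_1 (flp_h L743433) (flp_g L743431) L757403
theorem L757410 : sm gd N55342 = N56646 := rfl
theorem L757412 : sm gf N56646 = N55343 := ded_35_2 (flp_d L743440) (flp_f L743436) L757410
theorem L757414 : sm gj N56646 = N55853 := ded_37_2 (flp_d L747790) (flp_j L743438) L757410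
theorem L757416 : sm gc N55343 = N56647 := rfl
theorem L757418 : sm gg N56647 = N55364 := ded_30_2 (flp_c L743662) (flp_g L743442) L757416
theorem L757420 : sm gj N56647 = N55854 := ded_31_2 (flp_c L747794) (flp_j L743444) L757416
theorem L757422 : sm gh N55344 = N56648 := rfl
theorem L757424 : sm ga N56648 = N55349 := ded_17_1 (flp_h L743519) (flp_a L743448) L757422
theorem L757426 : sm gb N56648 = N55801 := ded_25_1 (flp_h L747429) (flp_b L743450) L757422
theorem L757428 : sm ge N56648 = N55345 := ded_43_1 (flp_h L743460) (flp_e L743454) L757422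
theorem L757430 : sm gg N56648 = N55820 := ded_50_1 (flp_h L747555) (flp_g L743456) L757422
theorem L757432 : sm gj N56648 = N55365 := ded_52_1 (flp_h L743666) (flp_j L743458) L757422
theorem L757434 : sm gi N56648 = N55799 := ded_54_2 (flp_h L747419) (flp_i L731311) (flp_h L726400) L743446 L757422
theorem L757436 : sm gi N55346 = N56649 := rfl
theorem L757438 : sm ga N56649 = N55815 := ded_18_1 (flp_i L747515) (flp_a L743476) L757436
theorem L757440 : sm gb N56649 = N55353 := ded_26_1 (flp_i L743567) (flp_b L743478) L757436
theorem L757442 : sm gc N56649 = N55772 := ded_33_1 (flp_i L747235) (flp_c L743480) L757436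
theorem L757444 : sm gd N56649 = N55348 := ded_39_1 (flp_i L743507) (flp_d L743482) L757436
theorem L757446 : sm ge N56649 = N56649 := ded_44_1 (flp_i L757436) L743488 L757436
theorem L757447 : sm gf N56649 = N55347 := ded_48_1 (flp_i L743491) L743474 L757436
theorem L757449 : sm gg N56649 = N55612 := ded_51_1 (flp_i L746092) (flp_g L743489) L757436
theorem L757451 : sm gj N56649 = N55367 := ded_53_1 (flp_i L743685) (flp_j L743484) L757436
theorem L757453 : sm gh N55348 = N56650 := rfl
theorem L757455 : sm gb N56650 = N55358 := ded_25_1 (flp_h L743616) (flp_b L743509) L757453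
theorem L757457 : sm gc N56650 = N55799 := ded_32_1 (flp_h L747419) (flp_c L743511) L757453
theorem L757459 : sm ge N56650 = N55391 := ded_43_1 (flp_h L743869) (flp_e L743513) L757453
theorem L757461 : sm gf N56650 = N55349 := ded_47_1 (flp_h L743519) (flp_f L743515) L757453
theorem L757463 : sm gj N56650 = N55370 := ded_52_1 (flp_h L743716) (flp_j L743517) L757453
theorem L757465 : sm gd N55349 = N56651 := rfl
theorem L757467 : sm gb N56651 = N55359 := ded_20_1 (flp_d L743626) (flp_b L743521) L757465
theorem L757469 : sm gj N56651 = N55371 := ded_37_2 (flp_d L743724) (flp_j L743525) L757465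
theorem L757471 : sm gi N55351 = N56652 := rfl
theorem L757473 : sm gb N56652 = N55612 := ded_26_1 (flp_i L746092) (flp_b L743543) L757471
theorem L757475 : sm gd N56652 = N55357 := ded_39_1 (flp_i L743608) (flp_d L743545) L757471
theorem L757477 : sm ge N56652 = N56652 := ded_44_1 (flp_i L757471) L743547 L757471
theorem L757478 : sm gf N56652 = N55605 := ded_48_1 (flp_i L746033) (flp_f L743548) L757471
theorem L757480 : sm gg N56652 = N55353 := ded_51_1 (flp_i L743567) L743541 L757471
theorem L757482 : sm gi N55352 = N56653 := rfl
theorem L757484 : sm ga N56653 = N55825 := ded_18_1 (flp_i L747587) (flp_a L743554) L757482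
theorem L757486 : sm gb N56653 = N55611 := ded_26_1 (flp_i L746079) (flp_b L743556) L757482
theorem L757488 : sm gd N56653 = N55607 := ded_39_1 (flp_i L746045) (flp_d L743565) L757482
theorem L757490 : sm ge N56653 = N56653 := ded_44_1 (flp_i L757482) L743558 L757482
theorem L757491 : sm gf N56653 = N55354 := ded_48_1 (flp_i L743576) (flp_f L743559) L757482
theorem L757493 : sm gg N56653 = N55604 := ded_51_1 (flp_i L746024) (flp_g L743561) L757482
theorem L757495 : sm gj N56653 = N55376 := ded_53_1 (flp_i L743767) (flp_j L743563) L757482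
theorem L757497 : sm gh N55353 = N56654 := rfl
theorem L757499 : sm ge N56654 = N56654 := ded_43_1 (flp_h L757497) L743571 L757497
theorem L757500 : sm gf N56654 = N55355 := ded_47_1 (flp_h L743590) (flp_f L743572) L757497
theorem L757502 : sm gj N56654 = N55377 := ded_52_1 (flp_h L743772) (flp_j L743574) L757497
theorem L757504 : sm gh N55354 = N56655 := rfl
theorem L757506 : sm ga N56655 = N55826 := ded_17_1 (flp_h L747596) (flp_a L743578) L757504
theorem L757508 : sm gb N56655 = N55792 := ded_25_1 (flp_h L747368) (flp_b L743580) L757504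
theorem L757510 : sm ge N56655 = N55433 := ded_43_1 (flp_h L744244) (flp_e L743584) L757504
theorem L757512 : sm gg N56655 = N55795 := ded_50_1 (flp_h L747391) (flp_g L743586) L757504
theorem L757514 : sm gj N56655 = N55378 := ded_52_1 (flp_h L743777) (flp_j L743588) L757504
theorem L757516 : sm gi N56655 = N55355 := ded_54_2 (flp_h L743590) (flp_i L726481) L726467 L743576 L757504
theorem L757518 : sm gd N55355 = N56656 := rfl
theorem L757520 : sm gj N56656 = N55379 := ded_37_2 (flp_d L743785) (flp_j L743594) L757518
theorem L757522 : sm gh N56656 = N55359 := ded_38_2 (flp_d L743626) (flp_h L726505) (flp_d L726483) L743590 L757518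
theorem L757524 : sm gi N55356 = N56657 := rfl
theorem L757526 : sm gb N56657 = N55810 := ded_26_1 (flp_i L747493) (flp_b L743598) L757524
theorem L757528 : sm gc N56657 = N55361 := ded_33_1 (flp_i L743642) (flp_c L743600) L757524
theorem L757530 : sm ge N56657 = N55393 := ded_44_1 (flp_i L743887) (flp_e L743602) L757524
theorem L757532 : sm gg N56657 = N55380 := ded_51_1 (flp_i L743791) (flp_g L743606) L757524
theorem L757534 : sm gj N56657 = N55357 := ded_53_1 (flp_i L743608) L743596 L757524
theorem L757536 : sm gh N55357 = N56658 := rfl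
theorem L757538 : sm gc N56658 = N55362 := ded_32_1 (flp_h L743650) (flp_c L743610) L757536
theorem L757540 : sm ge N56658 = N55394 := ded_43_1 (flp_h L743899) (flp_e L743612) L757536
theorem L757542 : sm gg N56658 = N55358 := ded_50_1 (flp_h L743616) (flp_g L743614) L757536
theorem L757544 : sm gd N55358 = N56659 := rfl
theorem L757546 : sm gf N56659 = N55359 := ded_35_2 (flp_d L743626) (flp_f L743622) L757544
theorem L757548 : sm gj N56659 = N55382 := ded_37_2 (flp_d L743811) (flp_j L743624) L757544
theorem L757550 : sm gc N55359 = N56660 := rfl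
theorem L757552 : sm gj N56660 = N55383 := ded_31_2 (flp_c L743815) (flp_j L743628) L757550
theorem L757554 : sm gd N56660 = N55364 := ded_27_2 (flp_c L743662) (flp_d L726547) (flp_c L726507) L743626 L757550
theorem L757556 : sm ge N55359 = N56661 := rfl
theorem L757558 : sm ga N56661 = N55821 := ded_13_1 (flp_e L756319) L756311 L757556
theorem L757560 : sm gj N56661 = N55384 := ded_42_2 (flp_e L743821) (flp_j L743628) L757556
theorem L757562 : sm gi N56661 = N55796 := ded_44_2 (flp_e L756978) L756976 L757556
theorem L757564 : sm gd N56661 = N55360 := ded_34_1 (flp_e L743630) (flp_d L726513) (flp_e L726509) L743626 L757556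
theorem L757566 : sm gh N55361 = N56662 := rfl
theorem L757568 : sm ge N56662 = N55398 := ded_43_1 (flp_h L743939) (flp_e L743644) L757566
theorem L757570 : sm gg N56662 = N55386 := ded_50_1 (flp_h L743843) (flp_g L743646) L757566
theorem L757572 : sm gj N56662 = N55362 := ded_52_1 (flp_h L743650) (flp_j L743648) L757566
theorem L757574 : sm gd N55362 = N56663 := rfl
theorem L757576 : sm gg N56663 = N55363 := ded_36_2 (flp_d L743656) (flp_g L743654) L757574
theorem L757578 : sm gc N55363 = N56664 := rfl
theorem L757580 : sm gf N56664 = N55364 := ded_29_2 (flp_c L743662) (flp_f L743658) L757578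
theorem L757582 : sm gj N56664 = N55388 := ded_31_2 (flp_c L743857) (flp_j L743660) L757578
theorem L757584 : sm ge N55363 = N56665 := rfl
theorem L757586 : sm gj N56665 = N55389 := ded_42_2 (flp_e L743861) (flp_j L743660) L757584
theorem L757588 : sm gd N56665 = N55401 := ded_34_1 (flp_e L743961) (flp_d L726828) (flp_e L726541) L743656 L757584
theorem L757590 : sm gb N55364 = N56666 := rfl
theorem L757592 : sm gj N56666 = N55390 := ded_24_2 (flp_b L743865) (flp_j L743664) L757590
theorem L757594 : sm gd N55365 = N56667 := rfl
theorem L757596 : sm ga N56667 = N55371 := ded_12_1 (flp_d L743724) (flp_a L743668) L757594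
theorem L757598 : sm gg N56667 = N55867 := ded_36_2 (flp_d L747890) (flp_g L743672) L757594
theorem L757600 : sm gi N55366 = N56668 := rfl
theorem L757602 : sm ga N56668 = N55570 := ded_18_1 (flp_i L745720) (flp_a L743676) L757600
theorem L757604 : sm gb N56668 = N55375 := ded_26_1 (flp_i L743758) (flp_b L743678) L757600
theorem L757606 : sm gd N56668 = N55369 := ded_39_1 (flp_i L743702) (flp_d L743680) L757600
theorem L757608 : sm ge N56668 = N56668 := ded_44_1 (flp_i L757600) L743682 L757600
theorem L757609 : sm gf N56668 = N55868 := ded_48_1 (flp_i L747894) (flp_f L743683) L757600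
theorem L757611 : sm gg N56668 = N55367 := ded_51_1 (flp_i L743685) L743674 L757600
theorem L757613 : sm gh N55367 = N56669 := rfl
theorem L757615 : sm gb N56669 = N55377 := ded_25_1 (flp_h L743772) (flp_b L743687) L757613
theorem L757617 : sm ge N56669 = N56669 := ded_43_1 (flp_h L757613) L743691 L757613
theorem L757618 : sm gf N56669 = N55368 := ded_47_1 (flp_h L743694) (flp_f L743692) L757613
theorem L757620 : sm gd N55368 = N56670 := rfl
theorem L757622 : sm gb N56670 = N55379 := ded_20_1 (flp_d L743785) (flp_b L743696) L757620
theorem L757624 : sm gg N56670 = N55860 := ded_36_2 L747848 (flp_g L743700) L757620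
theorem L757626 : sm ge N56670 = N55851 := ded_34_2 (flp_d L747779) L731769 (flp_d L727213) (flp_e L743698) L757620
theorem L757628 : sm gh N56670 = N55371 := ded_38_2 (flp_d L743724) (flp_h L726606) (flp_d L726578) L743694 L757620
theorem L757630 : sm gh N55369 = N56671 := rfl
theorem L757632 : sm ga N56671 = N55572 := ded_17_1 (flp_h L745743) (flp_a L743704) L757630
theorem L757634 : sm gb N56671 = N55381 := ded_25_1 (flp_h L743801) (flp_b L743706) L757630
theorem L757636 : sm gc N56671 = N55823 := ded_32_1 (flp_h L747573) (flp_c L743708) L757630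
theorem L757638 : sm ge N56671 = N55404 := ded_43_1 (flp_h L743991) (flp_e L743710) L757630
theorem L757640 : sm gf N56671 = N55869 := ded_47_1 (flp_h L747904) (flp_f L743712) L757630
theorem L757642 : sm gg N56671 = N55370 := ded_50_1 (flp_h L743716) (flp_g L743714) L757630
theorem L757644 : sm gi N56671 = N55603 := ded_54_2 (flp_h L746016) (flp_i L729406) (flp_h L726594) L743702 L757630
theorem L757646 : sm gd N55370 = N56672 := rfl
theorem L757648 : sm gb N56672 = N55382 := ded_20_1 (flp_d L743811) (flp_b L743718) L757646
theorem L757650 : sm gf N56672 = N55371 := ded_35_2 (flp_d L743724) (flp_f L743722) L757646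
theorem L757652 : sm gc N55371 = N56673 := rfl
theorem L757654 : sm gg N56673 = N55871 := ded_30_2 (flp_c L747918) (flp_g L743728) L757652
theorem L757656 : sm ge N55371 = N56674 := rfl
theorem L757658 : sm gb N56674 = N55384 := ded_21_1 (flp_e L743821) (flp_b L743726) L757656
theorem L757660 : sm gg N56674 = N55857 := ded_41_2 L747824 (flp_g L743728) L757656
theorem L757662 : sm gh N56674 = N55851 := ded_43_2 (flp_e L757626) L757628 L757656
theorem L757664 : sm gi N56674 = N55800 := ded_44_2 (flp_e L757036) L757034 L757656
theorem L757666 : sm gd N56674 = N55372 := ded_34_1 (flp_e L743730) (flp_d L726614) (flp_e L726610) L743724 L757656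
theorem L757668 : sm gi N55373 = N56675 := rfl
theorem L757670 : sm ga N56675 = N55585 := ded_18_1 (flp_i L745859) (flp_a L743742) L757668
theorem L757672 : sm gc N56675 = N55508 := ded_33_1 (flp_i L745095) (flp_c L743744) L757668
theorem L757674 : sm gd N56675 = N55380 := ded_39_1 (flp_i L743791) (flp_d L743746) L757668
theorem L757676 : sm ge N56675 = N56675 := ded_44_1 (flp_i L757668) L743748 L757668
theorem L757677 : sm gf N56675 = N55506 := ded_48_1 (flp_i L745070) (flp_f L743749) L757668
theorem L757679 : sm gj N56675 = N55375 := ded_53_1 (flp_i L743758) L743740 L757668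
theorem L757681 : sm gi N55374 = N56676 := rfl
theorem L757683 : sm ge N56676 = N56676 := ded_44_1 (flp_i L757681) L743753 L757681
theorem L757684 : sm gf N56676 = N55872 := ded_48_1 (flp_i L747920) (flp_f L743754) L757681
theorem L757686 : sm gg N56676 = N55376 := ded_51_1 (flp_i L743767) (flp_g L743756) L757681
theorem L757688 : sm gh N55375 = N56677 := rfl
theorem L757690 : sm ge N56677 = N56677 := ded_43_1 (flp_h L757688) L743762 L757688
theorem L757691 : sm gf N56677 = N55873 := ded_47_1 (flp_h L747926) (flp_f L743763) L757688
theorem L757693 : sm gg N56677 = N55377 := ded_50_1 (flp_h L743772) (flp_g L743765) L757688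
theorem L757695 : sm gh N55376 = N56678 := rfl
theorem L757697 : sm ge N56678 = N56678 := ded_43_1 (flp_h L757695) L743769 L757695
theorem L757698 : sm gf N56678 = N55378 := ded_47_1 (flp_h L743777) (flp_f L743770) L757695
theorem L757700 : sm gi N56678 = N55377 := ded_54_2 (flp_h L743772) (flp_i L726638) L726633 L743767 L757695
theorem L757702 : sm gd N55377 = N56679 := rfl
theorem L757704 : sm gf N56679 = N55379 := ded_35_2 (flp_d L743785) (flp_f L743775) L757702
theorem L757706 : sm gh N56679 = N55382 := ded_38_2 (flp_d L743811) (flp_h L726675) (flp_d L726640) L743772 L757702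
theorem L757708 : sm gd N55378 = N56680 := rfl
theorem L757710 : sm gg N56680 = N55876 := ded_36_2 (flp_d L747946) (flp_g L743781) L757708
theorem L757712 : sm gi N56680 = N55379 := ded_39_2 (flp_d L743785) (flp_i L743783) L757708
theorem L757714 : sm gc N55379 = N56681 := rfl
theorem L757716 : sm gg N56681 = N55877 := ded_30_2 (flp_c L747950) (flp_g L743787) L757714
theorem L757718 : sm gh N56681 = N55383 := ded_32_2 (flp_c L743815) (flp_h L743789) L757714
theorem L757720 : sm ge N55379 = N56682 := rfl
theorem L757722 : sm ga N56682 = N55834 := ded_13_1 (flp_e L756423) L756419 L757720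
theorem L757724 : sm gb N56682 = N55851 := ded_21_1 (flp_e L757626) L757622 L757720
theorem L757726 : sm gg N56682 = N55856 := ded_41_2 L747814 (flp_g L743787) L757720
theorem L757728 : sm gh N56682 = N55384 := ded_43_2 (flp_e L743821) (flp_h L743789) L757720
theorem L757730 : sm gd N56682 = N55436 := ded_34_1 (flp_e L744281) (flp_d L727232) (flp_e L726653) L743785 L757720
theorem L757732 : sm gh N55380 = N56683 := rfl
theorem L757734 : sm gc N56683 = N55386 := ded_32_1 (flp_h L743843) (flp_c L743793) L757732
theorem L757736 : sm ge N56683 = N55406 := ded_43_1 (flp_h L744012) (flp_e L743795) L757732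
theorem L757738 : sm gf N56683 = N55878 := ded_47_1 (flp_h L747954) (flp_f L743797) L757732
theorem L757740 : sm gj N56683 = N55381 := ded_52_1 (flp_h L743801) (flp_j L743799) L757732
theorem L757742 : sm gd N55381 = N56684 := rfl
theorem L757744 : sm gf N56684 = N55879 := ded_35_2 (flp_d L747962) (flp_f L743807) L757742
theorem L757746 : sm gg N56684 = N55382 := ded_36_2 (flp_d L743811) (flp_g L743809) L757742
theorem L757748 : sm gc N55382 = N56685 := rfl
theorem L757750 : sm gf N56685 = N55383 := ded_29_2 (flp_c L743815) (flp_f L743813) L757748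
theorem L757752 : sm gd N56685 = N55388 := ded_27_2 (flp_c L743857) (flp_d L726715) (flp_c L726677) L743811 L757748
theorem L757754 : sm ge N55382 = N56686 := rfl
theorem L757756 : sm gd N56686 = N55409 := ded_34_1 (flp_e L744036) (flp_d L726903) (flp_e L726679) L743811 L757754
theorem L757758 : sm gb N55383 = N56687 := rfl
theorem L757760 : sm gd N56687 = N55390 := ded_20_2 (flp_b L743865) (flp_d L743819) L757758
theorem L757762 : sm gg N56687 = N55882 := ded_23_2 (flp_b L747976) (flp_g L743817) L757758
theorem L757764 : sm ge N55383 = N56688 := rfl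
theorem L757766 : sm ga N56688 = N55838 := ded_13_1 (flp_e L756439) L756437 L757764
theorem L757768 : sm gc N56688 = N55384 := ded_28_1 (flp_e L743821) L743815 L757764
theorem L757770 : sm gg N56688 = N55883 := ded_41_2 (flp_e L747980) (flp_g L743817) L757764
theorem L757772 : sm gi N56688 = N55803 := ded_44_2 (flp_e L757116) L757120 L757764
theorem L757774 : sm gd N56688 = N55791 := ded_34_1 (flp_e L755773) L755779 L741573 (flp_d L743819) L757764
theorem L757776 : sm gf N55384 = N56689 := rfl
theorem L757778 : sm ga N56689 = N55837 := ded_14_1 L747674 (flp_a L743823) L757776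
theorem L757780 : sm gd N56689 = N55385 := ded_35_1 (flp_f L743831) (flp_d L743829) L757776
theorem L757782 : sm gi N56689 = N55489 := ded_48_2 L744904 (flp_i L743827) L757776
theorem L757784 : sm gd N55386 = N56690 := rfl
theorem L757786 : sm gf N56690 = N55885 := ded_35_2 (flp_d L747988) (flp_f L743847) L757784
theorem L757788 : sm gj N56690 = N55387 := ded_37_2 (flp_d L743851) (flp_j L743849) L757784
theorem L757790 : sm gc N55387 = N56691 := rfl
theorem L757792 : sm gf N56691 = N55886 := ded_29_2 (flp_c L747992) (flp_f L743853) L757790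
theorem L757794 : sm gg N56691 = N55388 := ded_30_2 (flp_c L743857) (flp_g L743855) L757790
theorem L757796 : sm ge N55387 = N56692 := rfl
theorem L757798 : sm gg N56692 = N55389 := ded_41_2 (flp_e L743861) (flp_g L743855) L757796
theorem L757800 : sm gd N56692 = N55413 := ded_34_1 (flp_e L744068) (flp_d L726948) (flp_e L726709) L743851 L757796
theorem L757802 : sm gb N55388 = N56693 := rfl
theorem L757804 : sm gf N56693 = N55390 := ded_22_2 (flp_b L743865) (flp_f L743859) L757802
theorem L757806 : sm ge N55388 = N56694 := rfl
theorem L757808 : sm gc N56694 = N55389 := ded_28_1 (flp_e L743861) L743857 L757806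
theorem L757810 : sm ga N55390 = N56695 := rfl
theorem L757812 : sm gg N56695 = N55888 := ded_15_2 (flp_a L748000) (flp_g L743867) L757810
theorem L757814 : sm gd N55391 = N56696 := rfl
theorem L757816 : sm gb N56696 = N55395 := ded_20_1 (flp_d L743906) (flp_b L743871) L757814
theorem L757818 : sm gf N56696 = N55392 := ded_35_2 (flp_d L743879) (flp_f L743875) L757814
theorem L757820 : sm gj N56696 = N55405 := ded_37_2 (flp_d L744005) (flp_j L743877) L757814
theorem L757822 : sm gh N56696 = N56696 := ded_38_2 (flp_d L757814) (flp_h L743869) L726740 L743869 L757814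
theorem L757823 : sm gh N55393 = N56697 := rfl
theorem L757825 : sm gb N56697 = N55911 := ded_25_1 (flp_h L748173) (flp_b L743889) L757823
theorem L757827 : sm gc N56697 = N55398 := ded_32_1 (flp_h L743939) (flp_c L743891) L757823
theorem L757829 : sm gf N56697 = N56697 := ded_47_1 (flp_h L757823) L743894 L757823
theorem L757830 : sm gg N56697 = N55406 := ded_50_1 (flp_h L744012) (flp_g L743895) L757823
theorem L757832 : sm gj N56697 = N55394 := ded_52_1 (flp_h L743899) (flp_j L743897) L757823
theorem L757834 : sm gi N56697 = N55907 := ded_54_2 (flp_h L748151) (flp_i L732232) (flp_h L726775) L743887 L757823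
theorem L757836 : sm gd N55394 = N56698 := rfl
theorem L757838 : sm gf N56698 = N56698 := ded_35_2 (flp_d L757836) L743903 L757836
theorem L757839 : sm gg N56698 = N55395 := ded_36_2 (flp_d L743906) (flp_g L743904) L757836
theorem L757841 : sm gh N56698 = N56698 := ded_38_2 (flp_d L757836) (flp_h L743899) L726783 L743899 L757836
theorem L757842 : sm gc N55395 = N56699 := rfl
theorem L757844 : sm gf N56699 = N55396 := ded_29_2 (flp_c L743913) (flp_f L743908) L757842
theorem L757846 : sm gj N56699 = N55408 := ded_31_2 (flp_c L744027) (flp_j L743910) L757842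
theorem L757848 : sm gh N56699 = N56699 := ded_32_2 (flp_c L757842) L743912 L757842
theorem L757849 : sm gi N56699 = N55631 := ded_33_2 L757187 L757183 L757842
theorem L757851 : sm gd N56699 = N55400 := ded_27_2 (flp_c L743953) (flp_d L726828) (flp_c L726789) L743906 L757842
theorem L757853 : sm ge N55395 = N56700 := rfl
theorem L757855 : sm gj N56700 = N55409 := ded_42_2 (flp_e L744036) (flp_j L743910) L757853
theorem L757857 : sm gh N56700 = N56700 := ded_43_2 (flp_e L757853) L743912 L757853
theorem L757858 : sm gd N55398 = N56701 := rfl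
theorem L757860 : sm gf N56701 = N56701 := ded_35_2 (flp_d L757858) L743941 L757858
theorem L757861 : sm gg N56701 = N55411 := ded_36_2 (flp_d L744050) (flp_g L743942) L757858
theorem L757863 : sm gj N56701 = N55399 := ded_37_2 (flp_d L743946) (flp_j L743944) L757858
theorem L757865 : sm gh N56701 = N55421 := ded_38_2 (flp_d L744141) (flp_h L727054) (flp_d L726816) L743939 L757858
theorem L757867 : sm gc N55399 = N56702 := rfl
theorem L757869 : sm gf N56702 = N56702 := ded_29_2 (flp_c L757867) L743948 L757867
theorem L757870 : sm gg N56702 = N55400 := ded_30_2 (flp_c L743953) (flp_g L743949) L757867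
theorem L757872 : sm gh N56702 = N55422 := ded_32_2 (flp_c L744149) (flp_h L743951) L757867
theorem L757874 : sm ge N55399 = N56703 := rfl
theorem L757876 : sm gg N56703 = N55401 := ded_41_2 (flp_e L743961) (flp_g L743949) L757874
theorem L757878 : sm gh N56703 = N55423 := ded_43_2 (flp_e L744156) (flp_h L743951) L757874
theorem L757880 : sm gb N55400 = N56704 := rfl
theorem L757882 : sm gf N56704 = N55402 := ded_22_2 (flp_b L743967) (flp_f L743955) L757880
theorem L757884 : sm gj N56704 = N55414 := ded_24_2 (flp_b L744074) (flp_j L743957) L757880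
theorem L757886 : sm gh N56704 = N55424 := ded_25_2 (flp_b L744161) (flp_h L743959) L757880
theorem L757888 : sm ge N55400 = N56705 := rfl
theorem L757890 : sm gc N56705 = N55401 := ded_28_1 (flp_e L743961) L743953 L757888
theorem L757892 : sm gj N56705 = N55415 := ded_42_2 (flp_e L744082) (flp_j L743957) L757888
theorem L757894 : sm gh N56705 = N55425 := ded_43_2 (flp_e L744169) (flp_h L743959) L757888
theorem L757896 : sm gf N56705 = N55813 := ded_40_2 (flp_e L747507) L731430 (flp_e L726838) (flp_f L743955) L757888
theorem L757898 : sm ga N55402 = N56706 := rfl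
theorem L757900 : sm gc N56706 = N55529 := ded_11_2 (flp_a L752002) L752004 L757898
theorem L757902 : sm ge N56706 = N55901 := ded_13_2 L748098 (flp_e L743969) L757898
theorem L757904 : sm gg N56706 = N56706 := ded_15_2 (flp_a L757898) L743971 L757898
theorem L757905 : sm gj N56706 = N55416 := ded_16_2 (flp_a L744088) (flp_j L743972) L757898
theorem L757907 : sm gh N56706 = N55426 := ded_17_2 (flp_a L744178) (flp_h L743974) L757898
theorem L757909 : sm gb N56706 = N55891 := ded_10_2 (flp_a L749780) L749782 L742407 L743967 L757898
theorem L757911 : sm gh N55403 = N56707 := rfl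
theorem L757913 : sm ga N56707 = N55564 := ded_17_1 (flp_h L745653) (flp_a L743978) L757911
theorem L757915 : sm gb N56707 = N55406 := ded_25_1 (flp_h L744012) (flp_b L743980) L757911
theorem L757917 : sm gc N56707 = N55448 := ded_32_1 (flp_h L744423) (flp_c L743982) L757911
theorem L757919 : sm gf N56707 = N55417 := ded_47_1 (flp_h L744100) (flp_f L743985) L757911
theorem L757921 : sm gg N56707 = N55911 := ded_50_1 (flp_h L748173) (flp_g L743987) L757911
theorem L757923 : sm gj N56707 = N55404 := ded_52_1 (flp_h L743991) (flp_j L743989) L757911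
theorem L757925 : sm gi N56707 = N55445 := ded_54_2 (flp_h L744392) (flp_i L727358) (flp_h L726856) L743976 L757911
theorem L757927 : sm ge N55405 = N56708 := rfl
theorem L757929 : sm gb N56708 = N55409 := ded_21_1 (flp_e L744036) (flp_b L744007) L757927
theorem L757931 : sm gh N56708 = N56708 := ded_43_2 (flp_e L757927) L744011 L757927
theorem L757932 : sm gd N55406 = N56709 := rfl
theorem L757934 : sm gf N56709 = N55418 := ded_35_2 (flp_d L744115) (flp_f L744016) L757932
theorem L757936 : sm gj N56709 = N55407 := ded_37_2 (flp_d L744020) (flp_j L744018) L757932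
theorem L757938 : sm gh N56709 = N56709 := ded_38_2 (flp_d L757932) (flp_h L744012) L726890 L744012 L757932
theorem L757939 : sm ge N55407 = N56710 := rfl
theorem L757941 : sm gg N56710 = N55409 := ded_41_2 (flp_e L744036) (flp_g L744024) L757939
theorem L757943 : sm gh N56710 = N56710 := ded_43_2 (flp_e L757939) L744026 L757939
theorem L757944 : sm ge N55408 = N56711 := rfl
theorem L757946 : sm gc N56711 = N55409 := ded_28_1 (flp_e L744036) L744027 L757944
theorem L757948 : sm gh N56711 = N56711 := ded_43_2 (flp_e L757944) L744031 L757944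
theorem L757949 : sm gi N56711 = N55621 := ded_44_2 L746144 (flp_i L744032) L757944
theorem L757951 : sm gf N56711 = N55579 := ded_40_2 (flp_e L745798) L729128 L726917 (flp_f L744029) L757944
theorem L757953 : sm gf N55409 = N56712 := rfl
theorem L757955 : sm ga N56712 = N55848 := ded_14_1 (flp_f L756548) L756543 L757953
theorem L757957 : sm gc N56712 = N55579 := ded_29_1 (flp_f L757951) L757946 L757953
theorem L757959 : sm gh N56712 = N56712 := ded_47_2 (flp_f L757953) L744038 L757953
theorem L757960 : sm gi N56712 = N55490 := ded_48_2 (flp_f L757268) L757266 L757953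
theorem L757962 : sm ge N56712 = N55410 := ded_40_1 (flp_f L744039) (flp_e L726919) (flp_f L726905) L744036 L757953
theorem L757964 : sm gc N55411 = N56713 := rfl
theorem L757966 : sm gf N56713 = N55420 := ded_29_2 (flp_c L744130) (flp_f L744052) L757964
theorem L757968 : sm gj N56713 = N55412 := ded_31_2 (flp_c L744058) (flp_j L744054) L757964
theorem L757970 : sm gh N56713 = N55427 := ded_32_2 (flp_c L744191) (flp_h L744056) L757964
theorem L757972 : sm gb N55631 = N56713 := ded_22_3 L757966 (flp_b L744139) L746227
theorem L757974 : sm ge N55411 = N56714 := rfl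
theorem L757976 : sm gj N56714 = N55413 := ded_42_2 (flp_e L744068) (flp_j L744054) L757974
theorem L757978 : sm gh N56714 = N55428 := ded_43_2 (flp_e L744201) (flp_h L744056) L757974
theorem L757980 : sm gf N56714 = N55747 := ded_40_2 (flp_e L747053) L730810 (flp_e L727027) (flp_f L744052) L757974
theorem L757982 : sm ge N55412 = N56715 := rfl
theorem L757984 : sm gb N56715 = N55621 := ded_21_1 L746144 L744066 L757982
theorem L757986 : sm gc N56715 = N55413 := ded_28_1 (flp_e L744068) L744058 L757982
theorem L757988 : sm gg N56715 = N55415 := ded_41_2 (flp_e L744082) (flp_g L744062) L757982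
theorem L757990 : sm gh N56715 = N55429 := ded_43_2 (flp_e L744210) (flp_h L744064) L757982
theorem L757992 : sm gf N56715 = N55610 := ded_40_2 (flp_e L746073) L729479 (flp_e L727033) (flp_f L744060) L757982
theorem L757994 : sm ga N55414 = N56716 := rfl
theorem L757996 : sm gc N56716 = N55521 := ded_11_2 (flp_a L752086) L752088 L757994
theorem L757998 : sm gf N56716 = N55416 := ded_14_2 (flp_a L744088) (flp_f L744076) L757994
theorem L758000 : sm gg N56716 = N55535 := ded_15_2 L745361 (flp_g L744078) L757994
theorem L758002 : sm gh N56716 = N55430 := ded_17_2 (flp_a L744221) (flp_h L744080) L757994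
theorem L758004 : sm gb N56716 = N55896 := ded_10_2 (flp_a L749872) L749874 L742440 L744074 L757994
theorem L758006 : sm ge N55414 = N56717 := rfl
theorem L758008 : sm gb N56717 = N55415 := ded_21_1 (flp_e L744082) L744074 L758006
theorem L758010 : sm gg N56717 = N55621 := ded_41_2 L746144 (flp_g L744078) L758006
theorem L758012 : sm gh N56717 = N55431 := ded_43_2 (flp_e L744233) (flp_h L744080) L758006
theorem L758014 : sm gd N55415 = N56718 := rfl
theorem L758016 : sm ge N55418 = N56719 := rfl
theorem L758018 : sm gc N56719 = N55629 := ded_28_1 (flp_e L757232) L757240 L758016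
theorem L758020 : sm gg N56719 = N56719 := ded_41_2 (flp_e L758016) L744117 L758016
theorem L758021 : sm gj N56719 = N55419 := ded_42_2 (flp_e L744121) (flp_j L744118) L758016
theorem L758023 : sm gh N56719 = N56719 := ded_43_2 (flp_e L758016) L744120 L758016
theorem L758024 : sm gi N56719 = N55927 := ded_44_2 (flp_e L751993) L752000 L758016
theorem L758026 : sm gd N56719 = N55891 := ded_34_1 L748022 (flp_d L732148) (flp_e L727004) L744115 L758016
theorem L758028 : sm gf N55419 = N56720 := rfl
theorem L758030 : sm gc N56720 = N55635 := ded_29_1 L746276 (flp_c L744123) L758028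
theorem L758032 : sm gd N56720 = N55896 := ded_35_1 L748064 (flp_d L744128) L758028
theorem L758034 : sm gh N56720 = N56720 := ded_47_2 (flp_f L758028) L744127 L758028
theorem L758035 : sm gc N55421 = N56721 := rfl
theorem L758037 : sm gf N56721 = N56721 := ded_29_2 (flp_c L758035) L744143 L758035
theorem L758038 : sm gg N56721 = N55427 := ded_30_2 (flp_c L744191) (flp_g L744144) L758035
theorem L758040 : sm gj N56721 = N55422 := ded_31_2 (flp_c L744149) (flp_j L744146) L758035
theorem L758042 : sm gi N56721 = N56721 := ded_33_2 (flp_c L758035) L744148 L758035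
theorem L758043 : sm gd N56721 = N56721 := ded_27_2 (flp_c L758035) (flp_d L744141) L727056 L744141 L758035
theorem L758044 : sm gb N55653 = N56721 := ded_23_3 L758038 (flp_b L744199) L746399
theorem L758046 : sm ge N55421 = N56722 := rfl
theorem L758048 : sm gg N56722 = N55428 := ded_41_2 (flp_e L744201) (flp_g L744144) L758046
theorem L758050 : sm gj N56722 = N55423 := ded_42_2 (flp_e L744156) (flp_j L744146) L758046
theorem L758052 : sm gi N56722 = N56722 := ded_44_2 (flp_e L758046) L744148 L758046
theorem L758053 : sm gd N56722 = N55748 := ded_34_1 L747059 L730833 (flp_e L727057) L744141 L758046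
theorem L758055 : sm gb N55422 = N56723 := rfl
theorem L758057 : sm gd N56723 = N56723 := ded_20_2 (flp_b L758055) L744155 L758055
theorem L758058 : sm gf N56723 = N56723 := ded_22_2 (flp_b L758055) L744151 L758055
theorem L758059 : sm gg N56723 = N55424 := ded_23_2 (flp_b L744161) (flp_g L744152) L758055
theorem L758061 : sm gj N56723 = N55653 := ded_24_2 L758044 L758040 L758055
theorem L758063 : sm gi N56723 = N56723 := ded_26_2 (flp_b L758055) L744154 L758055
theorem L758064 : sm gc N56723 = N55908 := ded_19_2 L748158 (flp_c L736890) L736884 L744149 L758055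
theorem L758066 : sm ge N55422 = N56724 := rfl
theorem L758068 : sm gc N56724 = N55423 := ded_28_1 (flp_e L744156) L744149 L758066
theorem L758070 : sm gg N56724 = N55425 := ded_41_2 (flp_e L744169) (flp_g L744152) L758066
theorem L758072 : sm gi N56724 = N56724 := ded_44_2 (flp_e L758066) L744154 L758066
theorem L758073 : sm gf N55423 = N56725 := rfl
theorem L758075 : sm gi N56725 = N56725 := ded_48_2 (flp_f L758073) L744160 L758073
theorem L758076 : sm ge N56725 = N56725 := ded_40_1 (flp_f L758073) (flp_e L744156) L727067 L744156 L758073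
theorem L758077 : sm ga N55424 = N56726 := rfl
theorem L758079 : sm gc N56726 = N55538 := ded_11_2 (flp_a L752136) L752138 L758077
theorem L758081 : sm gd N56726 = N56726 := ded_12_2 (flp_a L758077) L744163 L758077
theorem L758082 : sm gf N56726 = N55426 := ded_14_2 (flp_a L744178) (flp_f L744164) L758077
theorem L758084 : sm gj N56726 = N55430 := ded_16_2 (flp_a L744221) (flp_j L744166) L758077
theorem L758086 : sm gi N56726 = N56726 := ded_18_2 (flp_a L758077) L744168 L758077
theorem L758087 : sm gb N56726 = N55924 := ded_10_2 (flp_a L750105) L750107 L742462 L744161 L758077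
theorem L758089 : sm ge N55424 = N56727 := rfl
theorem L758091 : sm gb N56727 = N55425 := ded_21_1 (flp_e L744169) L744161 L758089
theorem L758093 : sm gj N56727 = N55431 := ded_42_2 (flp_e L744233) (flp_j L744166) L758089
theorem L758095 : sm gi N56727 = N56727 := ded_44_2 (flp_e L758089) L744168 L758089
theorem L758096 : sm gf N56727 = N55910 := ded_40_2 (flp_e L748168) L732252 (flp_e L727087) (flp_f L744164) L758089
theorem L758098 : sm gd N55425 = N56728 := rfl
theorem L758100 : sm gf N56728 = N55913 := ded_35_2 L748188 (flp_f L744176) L758098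
theorem L758102 : sm gj N56728 = N55432 := ded_37_2 (flp_d L744240) (flp_j L744173) L758098
theorem L758104 : sm gi N56728 = N56728 := ded_39_2 (flp_d L758098) L744175 L758098
theorem L758105 : sm ge N56728 = N56728 := ded_34_2 (flp_d L758098) (flp_e L744169) L727078 L744169 L758098
theorem L758106 : sm ge N55427 = N56729 := rfl
theorem L758108 : sm gb N56729 = N55646 := ded_21_1 L746360 L744199 L758106
theorem L758110 : sm gc N56729 = N55428 := ded_28_1 (flp_e L744201) L744191 L758106
theorem L758112 : sm gj N56729 = N55429 := ded_42_2 (flp_e L744210) (flp_j L744195) L758106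
theorem L758114 : sm gi N56729 = N56729 := ded_44_2 (flp_e L758106) L744197 L758106
theorem L758115 : sm gf N56729 = N55642 := ded_40_2 (flp_e L746325) L729815 (flp_e L727142) (flp_f L744193) L758106
theorem L758117 : sm gd N55429 = N56730 := rfl
theorem L758119 : sm gb N56730 = N55652 := ded_20_1 L746395 (flp_b L744212) L758117
theorem L758121 : sm gf N56730 = N55649 := ded_35_2 L746381 (flp_f L744219) L758117
theorem L758123 : sm gg N56730 = N55432 := ded_36_2 (flp_d L744240) (flp_g L744216) L758117
theorem L758125 : sm gi N56730 = N56730 := ded_39_2 (flp_d L758117) L744218 L758117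
theorem L758126 : sm ge N56730 = N56730 := ded_34_2 (flp_d L758117) (flp_e L744210) L727107 L744210 L758117
theorem L758127 : sm ge N55430 = N56731 := rfl
theorem L758129 : sm ga N56731 = N55431 := ded_13_1 (flp_e L744233) L744221 L758127
theorem L758131 : sm gb N56731 = N55926 := ded_21_1 (flp_e L748279) (flp_b L744231) L758127
theorem L758133 : sm gc N56731 = N55544 := ded_28_1 (flp_e L745450) (flp_c L744223) L758127
theorem L758135 : sm gg N56731 = N55547 := ded_41_2 L745482 (flp_g L744228) L758127
theorem L758137 : sm gi N56731 = N56731 := ded_44_2 (flp_e L758127) L744230 L758127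
theorem L758138 : sm gf N56731 = N55925 := ded_40_2 (flp_e L748272) L732437 (flp_e L727133) (flp_f L744226) L758127
theorem L758140 : sm gd N55431 = N56732 := rfl
theorem L758142 : sm gb N56732 = N55432 := ded_20_1 (flp_d L744240) (flp_b L744235) L758140
theorem L758144 : sm gg N56732 = N55652 := ded_36_2 L746395 (flp_g L744237) L758140
theorem L758146 : sm gi N56732 = N56732 := ded_39_2 (flp_d L758140) L744239 L758140
theorem L758147 : sm ge N56732 = N56732 := ded_34_2 (flp_d L758140) (flp_e L744233) L727117 L744233 L758140
theorem L758148 : sm gh N55432 = N56733 := rfl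
theorem L758150 : sm ge N56733 = N56733 := ded_43_1 (flp_h L758148) L744243 L758148
theorem L758151 : sm gc N55434 = N56734 := rfl
theorem L758153 : sm ga N56734 = N55911 := ded_11_1 L748175 (flp_a L744259) L758151
theorem L758155 : sm gf N56734 = N56734 := ded_29_2 (flp_c L758151) L744263 L758151
theorem L758156 : sm gg N56734 = N55564 := ded_30_2 L745657 (flp_g L744264) L758151
theorem L758158 : sm gh N56734 = N55449 := ded_32_2 (flp_c L744437) (flp_h L744268) L758151
theorem L758160 : sm gi N56734 = N55435 := ded_33_2 (flp_c L744270) (flp_i L744266) L758151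
theorem L758162 : sm gb N56734 = N55560 := ded_19_1 L745615 L728978 (flp_c L731455) (flp_b L744261) L758151
theorem L758164 : sm ge N55434 = N56735 := rfl
theorem L758166 : sm ga N56735 = N55833 := ded_13_1 L747646 (flp_a L744259) L758164
theorem L758168 : sm gb N56735 = N55816 := ded_21_1 L747526 (flp_b L744261) L758164
theorem L758170 : sm gg N56735 = N55819 := ded_41_2 L747549 (flp_g L744264) L758164
theorem L758172 : sm gh N56735 = N55450 := ded_43_2 (flp_e L744449) (flp_h L744268) L758164
theorem L758174 : sm gi N56735 = N55436 := ded_44_2 (flp_e L744281) (flp_i L744266) L758164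
theorem L758176 : sm ge N55435 = N56736 := rfl
theorem L758178 : sm ga N56736 = N55811 := ded_13_1 L747503 (flp_a L744272) L758176
theorem L758180 : sm gb N56736 = N55586 := ded_21_1 L745870 (flp_b L744279) L758176
theorem L758182 : sm gc N56736 = N55436 := ded_28_1 (flp_e L744281) L744270 L758176
theorem L758184 : sm gg N56736 = N55591 := ded_41_2 L745914 (flp_g L744275) L758176
theorem L758186 : sm gh N56736 = N55437 := ded_43_2 (flp_e L744291) (flp_h L744277) L758176
theorem L758188 : sm gf N55436 = N56737 := rfl
theorem L758190 : sm ga N56737 = N55832 := ded_14_1 L747642 (flp_a L744283) L758188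
theorem L758192 : sm gb N56737 = N55850 := ded_22_1 L747777 (flp_b L744285) L758188
theorem L758194 : sm gh N56737 = N55438 := ded_47_2 (flp_f L744305) (flp_h L744289) L758188
theorem L758196 : sm ge N56737 = N56737 := ded_40_1 (flp_f L758188) (flp_e L744281) L727238 L744281 L758188
theorem L758197 : sm gf N55437 = N56738 := rfl
theorem L758199 : sm ga N56738 = N55566 := ded_14_1 L745683 (flp_a L744293) L758197
theorem L758201 : sm gb N56738 = N55585 := ded_22_1 L745864 (flp_b L744295) L758197
theorem L758203 : sm gc N56738 = N55438 := ded_29_1 (flp_f L744305) (flp_c L744297) L758197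
theorem L758205 : sm gd N56738 = N55479 := ded_35_1 L744786 (flp_d L744303) L758197
theorem L758207 : sm gj N56738 = N55499 := ded_46_2 (flp_f L749602) L749606 L758197
theorem L758209 : sm gi N56738 = N55452 := ded_48_2 (flp_f L744473) (flp_i L744301) L758197
theorem L758211 : sm ge N56738 = N56738 := ded_40_1 (flp_f L758197) (flp_e L744291) L727247 L744291 L758197
theorem L758212 : sm ge N55439 = N56739 := rfl
theorem L758214 : sm ga N56739 = N55446 := ded_13_1 (flp_e L744404) (flp_a L744318) L758212
theorem L758216 : sm gb N56739 = N55645 := ded_21_1 (flp_e L746348) (flp_b L744320) L758212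
theorem L758218 : sm gc N56739 = N55689 := ded_28_1 (flp_e L746680) (flp_c L744328) L758212
theorem L758220 : sm gg N56739 = N55902 := ded_41_2 (flp_e L748107) (flp_g L744323) L758212
theorem L758222 : sm gj N56739 = N55649 := ded_42_2 (flp_e L746376) (flp_j L744325) L758212
theorem L758224 : sm gi N56739 = N56739 := ded_44_2 (flp_e L758212) L744327 L758212
theorem L758225 : sm gd N56739 = N55642 := ded_34_1 (flp_e L746325) (flp_d L729811) (flp_e L727286) L744316 L758212
theorem L758227 : sm gd N55442 = N56740 := rfl
theorem L758229 : sm ga N56740 = N55444 := ded_12_1 (flp_d L744384) (flp_a L744355) L758227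
theorem L758231 : sm gb N56740 = N55540 := ded_20_1 (flp_d L745414) (flp_b L744357) L758227
theorem L758233 : sm gf N56740 = N56740 := ded_35_2 (flp_d L758227) L744362 L758227
theorem L758234 : sm gg N56740 = N55906 := ded_36_2 (flp_d L748140) (flp_g L744363) L758227
theorem L758236 : sm gj N56740 = N55543 := ded_37_2 (flp_d L745442) (flp_j L744365) L758227
theorem L758238 : sm gi N56740 = N56740 := ded_39_2 (flp_d L758227) L744367 L758227
theorem L758239 : sm gc N55444 = N56741 := rfl
theorem L758241 : sm gf N56741 = N56741 := ded_29_2 (flp_c L758239) L744388 L758239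
theorem L758242 : sm gg N56741 = N55909 := ded_30_2 (flp_c L748162) (flp_g L744389) L758239
theorem L758244 : sm gi N56741 = N56741 := ded_33_2 (flp_c L758239) L744391 L758239
theorem L758245 : sm gd N56741 = N56741 := ded_27_2 (flp_c L758239) (flp_d L744384) L727353 L744384 L758239
theorem L758246 : sm ge N55444 = N56742 := rfl
theorem L758248 : sm gb N56742 = N55446 := ded_21_1 (flp_e L744404) (flp_b L744386) L758246
theorem L758250 : sm gg N56742 = N55910 := ded_41_2 (flp_e L748168) (flp_g L744389) L758246
theorem L758252 : sm gi N56742 = N56742 := ded_44_2 (flp_e L758246) L744391 L758246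
theorem L758253 : sm gf N55446 = N56743 := rfl
theorem L758255 : sm gi N56743 = N56743 := ded_48_2 (flp_f L758253) L744408 L758253
theorem L758256 : sm ge N56743 = N56743 := ded_40_1 (flp_f L758253) (flp_e L744404) L727389 L744404 L758253
theorem L758257 : sm ge N55449 = N56744 := rfl
theorem L758259 : sm ga N56744 = N55810 := ded_13_1 L747497 (flp_a L744439) L758257
theorem L758261 : sm gb N56744 = N55559 := ded_21_1 L745609 (flp_b L744446) L758257
theorem L758263 : sm gc N56744 = N55450 := ded_28_1 (flp_e L744449) L744437 L758257
theorem L758265 : sm gg N56744 = N55563 := ded_41_2 L745647 (flp_g L744442) L758257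
theorem L758267 : sm gi N56744 = N55451 := ded_44_2 (flp_e L744461) (flp_i L744444) L758257
theorem L758269 : sm gd N55455 = N56745 := rfl
theorem L758271 : sm ga N56745 = N55463 := ded_12_1 (flp_d L744608) (flp_a L744514) L758269
theorem L758273 : sm gb N56745 = N55671 := ded_20_1 (flp_d L746557) (flp_b L744516) L758269
theorem L758275 : sm gf N56745 = N55695 := ded_35_2 (flp_d L746730) (flp_f L744520) L758269
theorem L758277 : sm gj N56745 = N55459 := ded_37_2 (flp_d L744566) (flp_j L744522) L758269
theorem L758279 : sm gi N56745 = N55456 := ded_39_2 (flp_d L744526) (flp_i L744524) L758269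
theorem L758281 : sm ge N56745 = N55460 := ded_34_2 (flp_d L744574) L727628 (flp_d L727548) (flp_e L744518) L758269
theorem L758283 : sm gh N56745 = N55518 := ded_38_2 (flp_d L745199) (flp_h L728482) (flp_d L727530) L744512 L758269
theorem L758285 : sm gc N55456 = N56746 := rfl
theorem L758287 : sm ga N56746 = N55736 := ded_11_1 (flp_c L746983) (flp_a L744528) L758285
theorem L758289 : sm ge N56746 = N55473 := ded_28_2 (flp_c L744723) (flp_e L744534) L758285
theorem L758291 : sm gf N56746 = N55700 := ded_29_2 (flp_c L746762) (flp_f L744532) L758285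
theorem L758293 : sm gh N56746 = N55491 := ded_32_2 (flp_c L744914) (flp_h L744536) L758285
theorem L758295 : sm gd N55457 = N56747 := rfl
theorem L758297 : sm ga N56747 = N55681 := ded_12_1 (flp_d L746628) (flp_a L744540) L758295
theorem L758299 : sm gb N56747 = N55459 := ded_20_1 (flp_d L744566) (flp_b L744542) L758295
theorem L758301 : sm gf N56747 = N55662 := ded_35_2 (flp_d L746484) (flp_f L744546) L758295
theorem L758303 : sm gj N56747 = N55671 := ded_37_2 (flp_d L746557) (flp_j L744548) L758295
theorem L758305 : sm gi N56747 = N55673 := ded_39_2 (flp_d L746572) (flp_i L744550) L758295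
theorem L758307 : sm ge N56747 = N55472 := ded_34_2 (flp_d L744711) L727813 (flp_d L727586) (flp_e L744544) L758295
theorem L758309 : sm gh N56747 = N55498 := ded_38_2 (flp_d L744987) (flp_h L728285) (flp_d L727568) L744538 L758295
theorem L758311 : sm gd N55458 = N56748 := rfl
theorem L758313 : sm ga N56748 = N55472 := ded_12_1 (flp_d L744711) (flp_a L744554) L758311
theorem L758315 : sm gb N56748 = N55662 := ded_20_1 (flp_d L746484) (flp_b L744556) L758311
theorem L758317 : sm gf N56748 = N55459 := ded_35_2 (flp_d L744566) (flp_f L744560) L758311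
theorem L758319 : sm gj N56748 = N55695 := ded_37_2 (flp_d L746730) (flp_j L744562) L758311
theorem L758321 : sm gi N56748 = N55697 := ded_39_2 (flp_d L746744) (flp_i L744564) L758311
theorem L758323 : sm ge N56748 = N55681 := ded_34_2 (flp_d L746628) L730266 (flp_d L727620) (flp_e L744558) L758311
theorem L758325 : sm gh N56748 = N55527 := ded_38_2 (flp_d L745280) (flp_h L728565) (flp_d L727596) L744552 L758311
theorem L758327 : sm gc N55459 = N56749 := rfl
theorem L758329 : sm ga N56749 = N55473 := ded_11_1 (flp_c L744723) (flp_a L744568) L758327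
theorem L758331 : sm ge N56749 = N55736 := ded_28_2 (flp_c L746983) (flp_e L744570) L758327
theorem L758333 : sm gh N56749 = N55528 := ded_32_2 (flp_c L745290) (flp_h L744572) L758327
theorem L758335 : sm gc N55460 = N56750 := rfl
theorem L758337 : sm gf N56750 = N55720 := ded_29_2 (flp_c L746889) (flp_f L744578) L758335
theorem L758339 : sm gj N56750 = N55736 := ded_31_2 (flp_c L746983) (flp_j L744580) L758335
theorem L758341 : sm gh N56750 = N55864 := ded_32_2 (flp_c L747872) (flp_h L744584) L758335
theorem L758343 : sm gi N56750 = N55473 := ded_33_2 (flp_c L744723) (flp_i L744582) L758335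
theorem L758345 : sm gd N55461 = N56751 := rfl
theorem L758347 : sm gb N56751 = N55715 := ded_20_1 (flp_d L746855) (flp_b L744588) L758345
theorem L758349 : sm gg N56751 = N55463 := ded_36_2 (flp_d L744608) (flp_g L744592) L758345
theorem L758351 : sm gi N56751 = N55735 := ded_39_2 (flp_d L746977) (flp_i L744594) L758345
theorem L758353 : sm ge N56751 = N55470 := ded_34_2 (flp_d L744699) L727797 (flp_d L727666) (flp_e L744590) L758345
theorem L758355 : sm gh N56751 = N55589 := ded_38_2 (flp_d L745890) (flp_h L729285) (flp_d L727652) L744586 L758345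
theorem L758357 : sm gd N55462 = N56752 := rfl
theorem L758359 : sm gf N56752 = N55707 := ded_35_2 (flp_d L746806) (flp_f L744602) L758357
theorem L758361 : sm gj N56752 = N55470 := ded_37_2 (flp_d L744699) (flp_j L744604) L758357
theorem L758363 : sm gi N56752 = N55730 := ded_39_2 (flp_d L746953) (flp_i L744606) L758357
theorem L758365 : sm gc N55463 = N56753 := rfl
theorem L758367 : sm gf N56753 = N55709 := ded_29_2 (flp_c L746815) (flp_f L744612) L758365
theorem L758369 : sm gj N56753 = N55473 := ded_31_2 (flp_c L744723) (flp_j L744614) L758365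
theorem L758371 : sm gh N56753 = N55601 := ded_32_2 (flp_c L745998) (flp_h L744618) L758365
theorem L758373 : sm gi N56753 = N55736 := ded_33_2 (flp_c L746983) (flp_i L744616) L758365
theorem L758375 : sm gh N55464 = N56754 := rfl
theorem L758377 : sm gb N56754 = N55469 := ded_25_1 (flp_h L744687) (flp_b L744622) L758375
theorem L758379 : sm gc N56754 = N55724 := ded_32_1 (flp_h L746915) (flp_c L744624) L758375
theorem L758381 : sm ge N56754 = N55474 := ded_43_1 (flp_h L744727) (flp_e L744628) L758375
theorem L758383 : sm gf N56754 = N55465 := ded_47_1 (flp_h L744634) (flp_f L744630) L758375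
theorem L758385 : sm gj N56754 = N55703 := ded_52_1 (flp_h L746781) (flp_j L744632) L758375
theorem L758387 : sm gi N56754 = N55716 := ded_54_2 (flp_h L746861) (flp_i L730554) (flp_h L727712) L744620 L758375
theorem L758389 : sm gd N55465 = N56755 := rfl
theorem L758391 : sm gb N56755 = N55470 := ded_20_1 (flp_d L744699) (flp_b L744636) L758389
theorem L758393 : sm gg N56755 = N55673 := ded_36_2 (flp_d L746572) (flp_g L744642) L758389
theorem L758395 : sm ge N56755 = N55715 := ded_34_2 (flp_d L746855) L730550 (flp_d L727738) (flp_e L744640) L758389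
theorem L758397 : sm gh N56755 = N55762 := ded_38_2 (flp_d L747156) (flp_h L730951) (flp_d L727722) L744634 L758389
theorem L758399 : sm gh N55466 = N56756 := rfl
theorem L758401 : sm ga N56756 = N55852 := ded_17_1 (flp_h L747783) (flp_a L744646) L758399
theorem L758403 : sm gb N56756 = N55761 := ded_25_1 (flp_h L747151) (flp_b L744648) L758399
theorem L758405 : sm gc N56756 = N55613 := ded_32_1 (flp_h L746097) (flp_c L744650) L758399
theorem L758407 : sm ge N56756 = N56756 := ded_43_1 (flp_h L758399) L744654 L758399
theorem L758408 : sm gf N56756 = N55467 := ded_47_1 (flp_h L744661) (flp_f L744655) L758399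
theorem L758410 : sm gg N56756 = N55793 := ded_50_1 (flp_h L747378) (flp_g L744657) L758399
theorem L758412 : sm gj N56756 = N55706 := ded_52_1 (flp_h L746803) (flp_j L744659) L758399
theorem L758414 : sm gd N55467 = N56757 := rfl
theorem L758416 : sm ga N56757 = N55863 := ded_12_1 (flp_d L747868) (flp_a L744663) L758414
theorem L758418 : sm gb N56757 = N55762 := ded_20_1 (flp_d L747156) (flp_b L744665) L758414
theorem L758420 : sm gg N56757 = N55484 := ded_36_2 (flp_d L744842) (flp_g L744671) L758414
theorem L758422 : sm ge N56757 = N55589 := ded_34_2 (flp_d L745890) L729289 (flp_d L727945) (flp_e L744669) L758414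
theorem L758424 : sm gh N56757 = N55470 := ded_38_2 (flp_d L744699) (flp_h L727793) (flp_d L727763) L744661 L758414
theorem L758426 : sm gh N55468 = N56758 := rfl
theorem L758428 : sm ga N56758 = N55714 := ded_17_1 (flp_h L746851) (flp_a L744675) L758426
theorem L758430 : sm gc N56758 = N55471 := ded_32_1 (flp_h L744701) (flp_c L744677) L758426
theorem L758432 : sm ge N56758 = N55476 := ded_43_1 (flp_h L744750) (flp_e L744681) L758426
theorem L758434 : sm gf N56758 = N55696 := ded_47_1 (flp_h L746736) (flp_f L744683) L758426
theorem L758436 : sm gg N56758 = N55469 := ded_50_1 (flp_h L744687) (flp_g L744685) L758426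
theorem L758438 : sm gi N56758 = N55712 := ded_54_2 (flp_h L746833) (flp_i L730528) (flp_h L727779) L744673 L758426
theorem L758440 : sm gd N55469 = N56759 := rfl
theorem L758442 : sm gf N56759 = N55470 := ded_35_2 (flp_d L744699) (flp_f L744693) L758440
theorem L758444 : sm gj N56759 = N55707 := ded_37_2 (flp_d L746806) (flp_j L744695) L758440
theorem L758446 : sm gi N56759 = N55718 := ded_39_2 (flp_d L746879) (flp_i L744697) L758440
theorem L758448 : sm gc N55470 = N56760 := rfl
theorem L758450 : sm gd N56760 = N55473 := ded_27_2 (flp_c L744723) (flp_d L727821) (flp_c L727795) L744699 L758448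
theorem L758452 : sm gd N55471 = N56761 := rfl
theorem L758454 : sm gb N56761 = N55735 := ded_20_1 (flp_d L746977) (flp_b L744703) L758452
theorem L758456 : sm gg N56761 = N55472 := ded_36_2 (flp_d L744711) (flp_g L744707) L758452
theorem L758458 : sm gi N56761 = N55715 := ded_39_2 (flp_d L746855) (flp_i L744709) L758452
theorem L758460 : sm gh N56761 = N55623 := ded_38_2 (flp_d L746154) (flp_h L729550) (flp_d L727803) L744701 L758452
theorem L758462 : sm gc N55472 = N56762 := rfl
theorem L758464 : sm gf N56762 = N55473 := ded_29_2 (flp_c L744723) (flp_f L744715) L758462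
theorem L758466 : sm gj N56762 = N55709 := ded_31_2 (flp_c L746815) (flp_j L744717) L758462
theorem L758468 : sm gh N56762 = N55624 := ded_32_2 (flp_c L746160) (flp_h L744721) L758462
theorem L758470 : sm gi N56762 = N55720 := ded_33_2 (flp_c L746889) (flp_i L744719) L758462
theorem L758472 : sm gb N55473 = N56763 := rfl
theorem L758474 : sm gh N56763 = N55625 := ded_25_2 (flp_b L746164) (flp_h L744725) L758472
theorem L758476 : sm gc N56763 = N55737 := ded_19_2 (flp_b L746989) (flp_c L730688) (flp_b L727823) L744723 L758472
theorem L758478 : sm gd N55474 = N56764 := rfl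
theorem L758480 : sm gb N56764 = N55477 := ded_20_1 (flp_d L744760) (flp_b L744729) L758478
theorem L758482 : sm gf N56764 = N55475 := ded_35_2 (flp_d L744739) (flp_f L744733) L758478
theorem L758484 : sm gj N56764 = N55704 := ded_37_2 (flp_d L746789) (flp_j L744735) L758478
theorem L758486 : sm gi N56764 = N55717 := ded_39_2 (flp_d L746869) (flp_i L744737) L758478
theorem L758488 : sm gh N56764 = N56764 := ded_38_2 (flp_d L758478) (flp_h L744727) L727847 L744727 L758478
theorem L758489 : sm gd N55476 = N56765 := rfl
theorem L758491 : sm gf N56765 = N55478 := ded_35_2 (flp_d L744769) (flp_f L744754) L758489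
theorem L758493 : sm gg N56765 = N55477 := ded_36_2 (flp_d L744760) (flp_g L744756) L758489
theorem L758495 : sm gi N56765 = N55713 := ded_39_2 (flp_d L746841) (flp_i L744758) L758489
theorem L758497 : sm gc N56765 = N55704 := ded_27_1 (flp_d L746789) (flp_c L733162) L733170 (flp_c L744752) L758489
theorem L758499 : sm gh N56765 = N56765 := ded_38_2 (flp_d L758489) (flp_h L744750) L727870 L744750 L758489
theorem L758500 : sm ge N55477 = N56766 := rfl
theorem L758502 : sm gj N56766 = N55708 := ded_42_2 (flp_e L746810) (flp_j L744764) L758500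
theorem L758504 : sm gh N56766 = N56766 := ded_43_2 (flp_e L758500) L744768 L758500
theorem L758505 : sm gi N56766 = N55719 := ded_44_2 (flp_e L746883) (flp_i L744766) L758500
theorem L758507 : sm gh N55479 = N56767 := rfl
theorem L758509 : sm ga N56767 = N55567 := ded_17_1 (flp_h L745687) (flp_a L744780) L758507
theorem L758511 : sm gc N56767 = N55481 := ded_32_1 (flp_h L744802) (flp_c L744782) L758507
theorem L758513 : sm ge N56767 = N55480 := ded_43_1 (flp_h L744790) (flp_e L744784) L758507
theorem L758515 : sm gf N56767 = N55787 := ded_47_1 (flp_h L747332) (flp_f L744786) L758507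
theorem L758517 : sm gj N56767 = N55500 := ded_52_1 (flp_h L745004) (flp_j L744788) L758507
theorem L758519 : sm gi N56767 = N55515 := ded_54_2 (flp_h L745163) (flp_i L728448) (flp_h L727955) L744778 L758507
theorem L758521 : sm gd N55480 = N56768 := rfl
theorem L758523 : sm ga N56768 = N55568 := ded_12_1 (flp_d L745699) (flp_a L744792) L758521
theorem L758525 : sm gf N56768 = N55503 := ded_35_2 (flp_d L745033) (flp_f L744796) L758521
theorem L758527 : sm gj N56768 = N55501 := ded_37_2 (flp_d L745014) (flp_j L744798) L758521
theorem L758529 : sm gi N56768 = N55516 := ded_39_2 (flp_d L745173) (flp_i L744800) L758521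
theorem L758531 : sm gc N56768 = N55556 := ded_27_1 (flp_d L745577) L728930 (flp_d L727994) (flp_c L744794) L758521
theorem L758533 : sm gh N56768 = N56768 := ded_38_2 (flp_d L758521) (flp_h L744790) L727965 L744790 L758521
theorem L758534 : sm gd N55481 = N56769 := rfl
theorem L758536 : sm ga N56769 = N55569 := ded_12_1 (flp_d L745708) (flp_a L744804) L758534
theorem L758538 : sm gb N56769 = N55753 := ded_20_1 (flp_d L747091) (flp_b L744806) L758534
theorem L758540 : sm gf N56769 = N55789 := ded_35_2 (flp_d L747348) (flp_f L744810) L758534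
theorem L758542 : sm gj N56769 = N55502 := ded_37_2 (flp_d L745025) (flp_j L744812) L758534
theorem L758544 : sm gi N56769 = N55518 := ded_39_2 (flp_d L745199) (flp_i L744814) L758534
theorem L758546 : sm ge N56769 = N55557 := ded_34_2 (flp_d L745586) L728942 (flp_d L727994) (flp_e L744808) L758534
theorem L758548 : sm gh N56769 = N55483 := ded_38_2 (flp_d L744830) (flp_h L728026) (flp_d L727976) L744802 L758534
theorem L758550 : sm gd N55482 = N56770 := rfl
theorem L758552 : sm ga N56770 = N55557 := ded_12_1 (flp_d L745586) (flp_a L744818) L758550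
theorem L758554 : sm gb N56770 = N55755 := ded_20_1 (flp_d L747105) (flp_b L744820) L758550
theorem L758556 : sm gf N56770 = N55790 := ded_35_2 (flp_d L747354) (flp_f L744824) L758550
theorem L758558 : sm gj N56770 = N55483 := ded_37_2 (flp_d L744830) (flp_j L744826) L758550
theorem L758560 : sm gi N56770 = N55484 := ded_39_2 (flp_d L744842) (flp_i L744828) L758550
theorem L758562 : sm ge N56770 = N55569 := ded_34_2 (flp_d L745708) L729041 (flp_d L728022) (flp_e L744822) L758550
theorem L758564 : sm gh N56770 = N55502 := ded_38_2 (flp_d L745025) (flp_h L728318) (flp_d L728004) L744816 L758550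
theorem L758566 : sm gc N55483 = N56771 := rfl
theorem L758568 : sm ga N56771 = N55841 := ded_11_1 (flp_c L747698) (flp_a L744832) L758566
theorem L758570 : sm ge N56771 = N55582 := ded_28_2 (flp_c L745827) (flp_e L744840) L758566
theorem L758572 : sm gf N56771 = N55791 := ded_29_2 (flp_c L747362) (flp_f L744836) L758566
theorem L758574 : sm gi N56771 = N55491 := ded_33_2 (flp_c L744914) (flp_i L744838) L758566
theorem L758576 : sm gc N55484 = N56772 := rfl
theorem L758578 : sm ga N56772 = N55864 := ded_11_1 (flp_c L747872) (flp_a L744844) L758576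
theorem L758580 : sm ge N56772 = N55601 := ded_28_2 (flp_c L745998) (flp_e L744852) L758576
theorem L758582 : sm gf N56772 = N55797 := ded_29_2 (flp_c L747405) (flp_f L744848) L758576
theorem L758584 : sm gj N56772 = N55491 := ded_31_2 (flp_c L744914) (flp_j L744850) L758576
theorem L758586 : sm gh N55485 = N56773 := rfl
theorem L758588 : sm ga N56773 = N55487 := ded_17_1 (flp_h L744882) (flp_a L744856) L758586
theorem L758590 : sm gb N56773 = N55866 := ded_25_1 (flp_h L747882) (flp_b L744858) L758586
theorem L758592 : sm gc N56773 = N55580 := ded_32_1 (flp_h L745803) (flp_c L744860) L758586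
theorem L758594 : sm ge N56773 = N55486 := ded_43_1 (flp_h L744868) (flp_e L744862) L758586
theorem L758596 : sm gf N56773 = N55798 := ded_47_1 (flp_h L747411) (flp_f L744864) L758586
theorem L758598 : sm gg N56773 = N55577 := ded_50_1 (flp_h L745782) (flp_g L744866) L758586
theorem L758600 : sm gi N56773 = N55617 := ded_54_2 (flp_h L746120) (flp_i L729520) (flp_h L728060) L744854 L758586
theorem L758602 : sm gd N55487 = N56774 := rfl
theorem L758604 : sm gb N56774 = N55489 := ded_20_1 (flp_d L744900) (flp_b L744884) L758602
theorem L758606 : sm gf N56774 = N55800 := ded_35_2 (flp_d L747425) (flp_f L744890) L758602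
theorem L758608 : sm ge N55488 = N56775 := rfl
theorem L758610 : sm gb N56775 = N55490 := ded_21_1 (flp_e L744906) (flp_b L744894) L758608
theorem L758612 : sm gh N56775 = N55494 := ded_43_2 (flp_e L744948) (flp_h L744898) L758608
theorem L758614 : sm gc N55489 = N56776 := rfl
theorem L758616 : sm ga N56776 = N55880 := ded_11_1 (flp_c L747966) (flp_a L744902) L758614
theorem L758618 : sm gf N56776 = N55803 := ded_29_2 (flp_c L747443) (flp_f L744904) L758614
theorem L758620 : sm gd N56776 = N55491 := ded_27_2 (flp_c L744914) (flp_d L728116) (flp_c L728100) L744900 L758614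
theorem L758622 : sm ge N55489 = N56777 := rfl
theorem L758624 : sm ga N56777 = N55881 := ded_13_1 (flp_e L747972) (flp_a L744902) L758622
theorem L758626 : sm gd N56777 = N55490 := ded_34_1 (flp_e L744906) (flp_d L728106) (flp_e L728102) L744900 L758622
theorem L758628 : sm gb N55491 = N56778 := rfl
theorem L758630 : sm ge N56778 = N55625 := ded_21_2 (flp_b L746164) (flp_e L744918) L758628
theorem L758632 : sm gf N56778 = N55804 := ded_22_2 (flp_b L747449) (flp_f L744920) L758628
theorem L758634 : sm gc N56778 = N55781 := ded_19_2 (flp_b L747293) (flp_c L731106) (flp_b L728120) L744914 L758628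
theorem L758636 : sm gg N55496 = N56779 := rfl
theorem L758638 : sm ga N56779 = N55915 := ded_15_1 L748200 (flp_a L744964) L758636
theorem L758640 : sm gb N56779 = N55905 := ded_23_1 (flp_g L752159) L752164 L758636
theorem L758642 : sm gc N56779 = N55653 := ded_30_1 (flp_g L746399) (flp_c L744966) L758636
theorem L758644 : sm gd N56779 = N55903 := ded_36_1 L748122 (flp_d L744968) L758636
theorem L758646 : sm gi N56779 = N56779 := ded_51_2 (flp_g L758636) L744972 L758636
theorem L758647 : sm gf N56779 = N56779 := ded_45_1 (flp_g L758636) (flp_f L744962) L728242 L744962 L758636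
theorem L758648 : sm gj N56779 = N55908 := ded_49_2 (flp_g L752131) L752133 L736965 (flp_j L744970) L758636
theorem L758650 : sm gd N55497 = N56780 := rfl
theorem L758652 : sm ga N56780 = N55770 := ded_12_1 (flp_d L747221) (flp_a L744975) L758650
theorem L758654 : sm gb N56780 = N55518 := ded_20_1 (flp_d L745199) (flp_b L744977) L758650
theorem L758656 : sm gf N56780 = N55751 := ded_35_2 (flp_d L747077) (flp_f L744981) L758650
theorem L758658 : sm gj N56780 = N55498 := ded_37_2 (flp_d L744987) (flp_j L744983) L758650
theorem L758660 : sm gi N56780 = N55753 := ded_39_2 (flp_d L747091) (flp_i L744985) L758650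
theorem L758662 : sm ge N56780 = N55600 := ded_34_2 (flp_d L745986) L729378 (flp_d L728281) (flp_e L744979) L758650
theorem L758664 : sm gh N56780 = N55671 := ded_38_2 (flp_d L746557) (flp_h L730182) (flp_d L728263) L744973 L758650
theorem L758666 : sm gc N55498 = N56781 := rfl
theorem L758668 : sm ga N56781 = N55780 := ded_11_1 (flp_c L747289) (flp_a L744989) L758666
theorem L758670 : sm ge N56781 = N55624 := ded_28_2 (flp_c L746160) (flp_e L744995) L758666
theorem L758672 : sm gf N56781 = N55752 := ded_29_2 (flp_c L747085) (flp_f L744993) L758666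
theorem L758674 : sm gh N55499 = N56782 := rfl
theorem L758676 : sm ga N56782 = N55576 := ded_17_1 (flp_h L745779) (flp_a L744999) L758674
theorem L758678 : sm ge N56782 = N56782 := ded_43_1 (flp_h L758674) L745003 L758674
theorem L758679 : sm gd N55500 = N56783 := rfl
theorem L758681 : sm ga N56783 = N55578 := ded_12_1 (flp_d L745794) (flp_a L745006) L758679
theorem L758683 : sm gi N56783 = N55525 := ded_39_2 (flp_d L745268) (flp_i L745012) L758679
theorem L758685 : sm ge N55501 = N56784 := rfl
theorem L758687 : sm ga N56784 = N55579 := ded_13_1 (flp_e L745798) (flp_a L745016) L758685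
theorem L758689 : sm gc N56784 = N55848 := ded_28_1 (flp_e L747757) (flp_c L745022) L758685
theorem L758691 : sm gh N56784 = N56784 := ded_43_2 (flp_e L758685) L745024 L758685
theorem L758692 : sm gi N56784 = N55526 := ded_44_2 (flp_e L745272) (flp_i L745020) L758685
theorem L758694 : sm gc N55502 = N56785 := rfl
theorem L758696 : sm ga N56785 = N55582 := ded_11_1 (flp_c L745827) (flp_a L745027) L758694
theorem L758698 : sm ge N56785 = N55841 := ded_28_2 (flp_c L747698) (flp_e L745031) L758694
theorem L758700 : sm gi N56785 = N55528 := ded_33_2 (flp_c L745290) (flp_i L745029) L758694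
theorem L758702 : sm gi N55504 = N56786 := rfl
theorem L758704 : sm ga N56786 = N55807 := ded_18_1 (flp_i L747471) (flp_a L745047) L758702
theorem L758706 : sm gb N56786 = N55506 := ded_26_1 (flp_i L745070) (flp_b L745049) L758702
theorem L758708 : sm gd N56786 = N55805 := ded_39_1 (flp_i L747451) (flp_d L745055) L758702
theorem L758710 : sm ge N56786 = N55505 := ded_44_1 (flp_i L745057) L745045 L758702
theorem L758712 : sm gg N56786 = N55510 := ded_51_1 (flp_i L745110) (flp_g L745051) L758702
theorem L758714 : sm gj N56786 = N55868 := ded_53_1 (flp_i L747894) (flp_j L745053) L758702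
theorem L758716 : sm gh N55505 = N56787 := rfl
theorem L758718 : sm ga N56787 = N55907 := ded_17_1 (flp_h L748151) (flp_a L745059) L758716
theorem L758720 : sm gb N56787 = N55507 := ded_25_1 (flp_h L745084) (flp_b L745061) L758716
theorem L758722 : sm gf N56787 = N56787 := ded_47_1 (flp_h L758716) L745065 L758716
theorem L758723 : sm gg N56787 = N55511 := ded_50_1 (flp_h L745118) (flp_g L745066) L758716
theorem L758725 : sm gj N56787 = N55894 := ded_52_1 L748049 (flp_j L745068) L758716
theorem L758727 : sm gh N55506 = N56788 := rfl
theorem L758729 : sm ga N56788 = N55586 := ded_17_1 (flp_h L745866) (flp_a L745072) L758727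
theorem L758731 : sm gc N56788 = N55509 := ded_32_1 (flp_h L745102) (flp_c L745074) L758727
theorem L758733 : sm ge N56788 = N55507 := ded_43_1 (flp_h L745084) (flp_e L745078) L758727
theorem L758735 : sm gg N56788 = N55515 := ded_50_1 (flp_h L745163) (flp_g L745080) L758727
theorem L758737 : sm gj N56788 = N55873 := ded_52_1 (flp_h L747926) (flp_j L745082) L758727
theorem L758739 : sm gd N55507 = N56789 := rfl
theorem L758741 : sm ga N56789 = N55587 := ded_12_1 (flp_d L745874) (flp_a L745086) L758739
theorem L758743 : sm gf N56789 = N56789 := ded_35_2 (flp_d L758739) L745090 L758739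
theorem L758744 : sm gg N56789 = N55516 := ded_36_2 (flp_d L745173) (flp_g L745091) L758739
theorem L758746 : sm gj N56789 = N55918 := ded_37_2 (flp_d L748221) (flp_j L745093) L758739
theorem L758748 : sm gc N56789 = N55545 := ded_27_1 (flp_d L745457) L728804 (flp_d L728406) (flp_c L745088) L758739
theorem L758750 : sm gh N56789 = N55537 := ded_38_2 (flp_d L745382) (flp_h L728697) (flp_d L728379) L745084 L758739
theorem L758752 : sm gh N55508 = N56790 := rfl
theorem L758754 : sm ga N56790 = N55588 := ded_17_1 (flp_h L745883) (flp_a L745097) L758752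
theorem L758756 : sm ge N56790 = N56790 := ded_43_1 (flp_h L758752) L745099 L758752
theorem L758757 : sm gf N56790 = N55509 := ded_47_1 (flp_h L745102) (flp_f L745100) L758752
theorem L758759 : sm gd N55509 = N56791 := rfl
theorem L758761 : sm ga N56791 = N55589 := ded_12_1 (flp_d L745890) (flp_a L745104) L758759
theorem L758763 : sm gg N56791 = N55518 := ded_36_2 (flp_d L745199) (flp_g L745108) L758759
theorem L758765 : sm ge N56791 = N55863 := ded_34_2 (flp_d L747868) L731849 (flp_d L728406) (flp_e L745106) L758759
theorem L758767 : sm gh N55510 = N56792 := rfl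
theorem L758769 : sm gb N56792 = N55515 := ded_25_1 (flp_h L745163) (flp_b L745112) L758767
theorem L758771 : sm ge N56792 = N55511 := ded_43_1 (flp_h L745118) (flp_e L745114) L758767
theorem L758773 : sm gj N56792 = N55520 := ded_52_1 (flp_h L745217) (flp_j L745116) L758767
theorem L758775 : sm gd N55511 = N56793 := rfl
theorem L758777 : sm gb N56793 = N55516 := ded_20_1 (flp_d L745173) (flp_b L745120) L758775
theorem L758779 : sm gf N56793 = N55529 := ded_35_2 (flp_d L745296) (flp_f L745122) L758775
theorem L758781 : sm gj N56793 = N55521 := ded_37_2 (flp_d L745225) (flp_j L745124) L758775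
theorem L758783 : sm gh N56793 = N55538 := ded_38_2 (flp_d L745394) (flp_h L728711) (flp_d L728418) L745118 L758775
theorem L758785 : sm gi N55512 = N56794 := rfl
theorem L758787 : sm ga N56794 = N55594 := ded_18_1 (flp_i L745941) (flp_a L745128) L758785
theorem L758789 : sm gc N56794 = N55692 := ded_33_1 (flp_i L746700) (flp_c L745130) L758785
theorem L758791 : sm gd N56794 = N55514 := ded_39_1 (flp_i L745151) (flp_d L745132) L758785
theorem L758793 : sm ge N56794 = N56794 := ded_44_1 (flp_i L758785) L745136 L758785
theorem L758794 : sm gf N56794 = N55513 := ded_48_1 (flp_i L745137) L745126 L758785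
theorem L758796 : sm gj N56794 = N55522 := ded_53_1 (flp_i L745235) (flp_j L745134) L758785
theorem L758798 : sm gh N55513 = N56795 := rfl
theorem L758800 : sm ga N56795 = N55596 := ded_17_1 (flp_h L745958) (flp_a L745139) L758798
theorem L758802 : sm gc N56795 = N55862 := ded_32_1 (flp_h L747860) (flp_c L745141) L758798
theorem L758804 : sm ge N56795 = N55539 := ded_43_1 (flp_h L745403) (flp_e L745145) L758798
theorem L758806 : sm gg N56795 = N55878 := ded_50_1 (flp_h L747954) (flp_g L745147) L758798
theorem L758808 : sm gj N56795 = N55523 := ded_52_1 (flp_h L745248) (flp_j L745149) L758798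
theorem L758810 : sm gh N55514 = N56796 := rfl
theorem L758812 : sm ga N56796 = N55597 := ded_17_1 (flp_h L745964) (flp_a L745153) L758810
theorem L758814 : sm gc N56796 = N55517 := ded_32_1 (flp_h L745185) (flp_c L745155) L758810
theorem L758816 : sm ge N56796 = N55530 := ded_43_1 (flp_h L745305) (flp_e L745157) L758810
theorem L758818 : sm gf N56796 = N55515 := ded_47_1 (flp_h L745163) (flp_f L745159) L758810
theorem L758820 : sm gj N56796 = N55524 := ded_52_1 (flp_h L745258) (flp_j L745161) L758810
theorem L758822 : sm gi N56796 = N55787 := ded_54_2 (flp_h L747332) (flp_i L731191) (flp_h L728444) L745151 L758810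
theorem L758824 : sm gd N55515 = N56797 := rfl
theorem L758826 : sm ga N56797 = N55598 := ded_12_1 (flp_d L745976) (flp_a L745165) L758824
theorem L758828 : sm gj N56797 = N55525 := ded_37_2 (flp_d L745268) (flp_j L745171) L758824
theorem L758830 : sm ge N55516 = N56798 := rfl
theorem L758832 : sm ga N56798 = N55599 := ded_13_1 (flp_e L745980) (flp_a L745175) L758830
theorem L758834 : sm gc N56798 = N55892 := ded_28_1 (flp_e L748029) (flp_c L745181) L758830
theorem L758836 : sm gj N56798 = N55526 := ded_42_2 (flp_e L745272) (flp_j L745179) L758830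
theorem L758838 : sm gh N56798 = N55541 := ded_43_2 (flp_e L745426) (flp_h L745183) L758830
theorem L758840 : sm gd N55517 = N56799 := rfl
theorem L758842 : sm ga N56799 = N55600 := ded_12_1 (flp_d L745986) (flp_a L745187) L758840
theorem L758844 : sm gb N56799 = N55751 := ded_20_1 (flp_d L747077) (flp_b L745189) L758840
theorem L758846 : sm gf N56799 = N55518 := ded_35_2 (flp_d L745199) (flp_f L745193) L758840
theorem L758848 : sm gj N56799 = N55527 := ded_37_2 (flp_d L745280) (flp_j L745195) L758840
theorem L758850 : sm gi N56799 = N55789 := ded_39_2 (flp_d L747348) (flp_i L745197) L758840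
theorem L758852 : sm ge N56799 = N55770 := ded_34_2 (flp_d L747221) L731028 (flp_d L728633) (flp_e L745191) L758840
theorem L758854 : sm gh N56799 = N55695 := ded_38_2 (flp_d L746730) (flp_h L730372) (flp_d L728474) L745185 L758840
theorem L758856 : sm gc N55518 = N56800 := rfl
theorem L758858 : sm ga N56800 = N55601 := ded_11_1 (flp_c L745998) (flp_a L745201) L758856
theorem L758860 : sm ge N56800 = N55864 := ded_28_2 (flp_c L747872) (flp_e L745205) L758856
theorem L758862 : sm gj N56800 = N55528 := ded_31_2 (flp_c L745290) (flp_j L745203) L758856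
theorem L758864 : sm gh N55519 = N56801 := rfl
theorem L758866 : sm gb N56801 = N55523 := ded_25_1 (flp_h L745248) (flp_b L745209) L758864
theorem L758868 : sm ge N56801 = N55542 := ded_43_1 (flp_h L745435) (flp_e L745213) L758864
theorem L758870 : sm gg N56801 = N55855 := ded_50_1 (flp_h L747798) (flp_g L745215) L758864
theorem L758872 : sm gd N55520 = N56802 := rfl
theorem L758874 : sm gb N56802 = N55525 := ded_20_1 (flp_d L745268) (flp_b L745219) L758872
theorem L758876 : sm gg N56802 = N55884 := ded_36_2 L747986 (flp_g L745223) L758872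
theorem L758878 : sm ge N55521 = N56803 := rfl
theorem L758880 : sm gb N56803 = N55526 := ded_21_1 (flp_e L745272) (flp_b L745227) L758878
theorem L758882 : sm gg N56803 = N55900 := ded_41_2 L748094 (flp_g L745231) L758878
theorem L758884 : sm gh N56803 = N55544 := ded_43_2 (flp_e L745450) (flp_h L745233) L758878
theorem L758886 : sm gh N55522 = N56804 := rfl
theorem L758888 : sm ga N56804 = N55613 := ded_17_1 (flp_h L746097) (flp_a L745237) L758886
theorem L758890 : sm gc N56804 = N55852 := ded_32_1 (flp_h L747783) (flp_c L745239) L758886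
theorem L758892 : sm ge N56804 = N56804 := ded_43_1 (flp_h L758886) L745243 L758886
theorem L758893 : sm gf N56804 = N55523 := ded_47_1 (flp_h L745248) (flp_f L745244) L758886
theorem L758895 : sm gg N56804 = N55850 := ded_50_1 (flp_h L747772) (flp_g L745246) L758886
theorem L758897 : sm gd N55523 = N56805 := rfl
theorem L758899 : sm ga N56805 = N55615 := ded_12_1 (flp_d L746108) (flp_a L745250) L758897
theorem L758901 : sm gg N56805 = N55858 := ded_36_2 (flp_d L747828) (flp_g L745256) L758897
theorem L758903 : sm gh N56805 = N55525 := ded_38_2 (flp_d L745268) (flp_h L728547) (flp_d L728531) L745248 L758897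
theorem L758905 : sm gd N55524 = N56806 := rfl
theorem L758907 : sm ga N56806 = N55618 := ded_12_1 (flp_d L746128) (flp_a L745260) L758905
theorem L758909 : sm gf N56806 = N55525 := ded_35_2 (flp_d L745268) (flp_f L745266) L758905
theorem L758911 : sm gc N55525 = N56807 := rfl
theorem L758913 : sm ga N56807 = N55619 := ded_11_1 (flp_c L746132) (flp_a L745270) L758911
theorem L758915 : sm gd N56807 = N55528 := ded_27_2 (flp_c L745290) (flp_d L728575) (flp_c L728551) L745268 L758911
theorem L758917 : sm ge N55525 = N56808 := rfl
theorem L758919 : sm ga N56808 = N55620 := ded_13_1 (flp_e L746136) (flp_a L745270) L758917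
theorem L758921 : sm gd N56808 = N55526 := ded_34_1 (flp_e L745272) (flp_d L728555) (flp_e L728553) L745268 L758917
theorem L758923 : sm gf N55526 = N56809 := rfl
theorem L758925 : sm ga N56809 = N55621 := ded_14_1 (flp_f L746140) (flp_a L745274) L758923
theorem L758927 : sm gc N56809 = N55900 := ded_29_1 (flp_f L748090) (flp_c L745276) L758923
theorem L758929 : sm gh N56809 = N55547 := ded_47_2 (flp_f L745475) (flp_h L745278) L758923
theorem L758931 : sm ge N56809 = N55535 := ded_40_1 (flp_f L745359) (flp_e L728662) (flp_f L728559) L745272 L758923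
theorem L758933 : sm gc N55527 = N56810 := rfl
theorem L758935 : sm ga N56810 = N55624 := ded_11_1 (flp_c L746160) (flp_a L745282) L758933
theorem L758937 : sm ge N56810 = N55780 := ded_28_2 (flp_c L747289) (flp_e L745288) L758933
theorem L758939 : sm gf N56810 = N55528 := ded_29_2 (flp_c L745290) (flp_f L745286) L758933
theorem L758941 : sm gb N55528 = N56811 := rfl
theorem L758943 : sm ge N56811 = N55887 := ded_21_2 (flp_b L747996) (flp_e L745294) L758941
theorem L758945 : sm ge N55529 = N56812 := rfl
theorem L758947 : sm ga N56812 = N55927 := ded_13_1 (flp_e L751993) L752002 L758945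
theorem L758949 : sm gb N56812 = N55532 := ded_21_1 (flp_e L745329) (flp_b L745298) L758945
theorem L758951 : sm gc N56812 = N55901 := ded_28_1 (flp_e L757902) L757900 L758945
theorem L758953 : sm gg N56812 = N56812 := ded_41_2 (flp_e L758945) L745300 L758945
theorem L758954 : sm gj N56812 = N55533 := ded_42_2 (flp_e L745340) (flp_j L745301) L758945
theorem L758956 : sm gh N56812 = N55548 := ded_43_2 (flp_e L745484) (flp_h L745303) L758945
theorem L758958 : sm gd N55530 = N56813 := rfl
theorem L758960 : sm ga N56813 = N55630 := ded_12_1 (flp_d L746218) (flp_a L745307) L758958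
theorem L758962 : sm gf N56813 = N55531 := ded_35_2 (flp_d L745317) (flp_f L745311) L758958
theorem L758964 : sm gj N56813 = N55534 := ded_37_2 (flp_d L745350) (flp_j L745313) L758958
theorem L758966 : sm gi N56813 = N55788 := ded_39_2 (flp_d L747340) (flp_i L745315) L758958
theorem L758968 : sm gc N56813 = N55784 := ded_27_1 (flp_d L747315) L731134 (flp_d L728633) (flp_c L745309) L758958
theorem L758970 : sm gh N56813 = N56813 := ded_38_2 (flp_d L758958) (flp_h L745305) L728594 L745305 L758958
theorem L758971 : sm gf N55532 = N56814 := rfl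
theorem L758973 : sm ga N56814 = N55631 := ded_14_1 (flp_f L746227) (flp_a L745331) L758971
theorem L758975 : sm gc N56814 = N55893 := ded_29_1 (flp_f L748035) (flp_c L745333) L758971
theorem L758977 : sm gj N56814 = N55535 := ded_46_2 (flp_f L745359) (flp_j L745336) L758971
theorem L758979 : sm gh N56814 = N55549 := ded_47_2 (flp_f L745497) (flp_h L745338) L758971
theorem L758981 : sm gf N55533 = N56815 := rfl
theorem L758983 : sm gb N56815 = N55535 := ded_22_1 (flp_f L745359) (flp_b L745342) L758981
theorem L758985 : sm gc N56815 = N55895 := ded_29_1 L748056 (flp_c L745344) L758981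
theorem L758987 : sm gh N56815 = N55550 := ded_47_2 (flp_f L745507) (flp_h L745348) L758981
theorem L758989 : sm gg N56815 = N55896 := ded_45_2 L748064 L732101 (flp_f L728681) (flp_g L745346) L758981
theorem L758991 : sm ge N55534 = N56816 := rfl
theorem L758993 : sm ga N56816 = N55638 := ded_13_1 (flp_e L746294) (flp_a L745352) L758991
theorem L758995 : sm gc N56816 = N55786 := ded_28_1 (flp_e L747329) (flp_c L745356) L758991
theorem L758997 : sm gh N56816 = N56816 := ded_43_2 (flp_e L758991) L745358 L758991
theorem L758998 : sm gd N55536 = N56817 := rfl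
theorem L759000 : sm ga N56817 = N55908 := ded_12_1 (flp_d L748156) (flp_a L745369) L758998
theorem L759002 : sm gb N56817 = N55537 := ded_20_1 (flp_d L745382) (flp_b L745371) L758998
theorem L759004 : sm gf N56817 = N56817 := ded_35_2 (flp_d L758998) L745376 L758998
theorem L759005 : sm gg N56817 = N55538 := ded_36_2 (flp_d L745394) (flp_g L745377) L758998
theorem L759007 : sm gj N56817 = N55915 := ded_37_2 (flp_d L748195) (flp_j L745379) L758998
theorem L759009 : sm gi N56817 = N56817 := ded_39_2 (flp_d L758998) L745381 L758998
theorem L759010 : sm ge N55537 = N56818 := rfl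
theorem L759012 : sm ga N56818 = N55641 := ded_13_1 (flp_e L746318) (flp_a L745384) L759010
theorem L759014 : sm gc N56818 = N55546 := ded_28_1 (flp_e L745466) (flp_c L745392) L759010
theorem L759016 : sm gg N56818 = N55541 := ded_41_2 (flp_e L745426) (flp_g L745387) L759010
theorem L759018 : sm gj N56818 = N55921 := ded_42_2 (flp_e L748239) (flp_j L745389) L759010
theorem L759020 : sm gi N56818 = N56818 := ded_44_2 (flp_e L759010) L745391 L759010
theorem L759021 : sm gd N56818 = N55922 := ded_34_1 (flp_e L748246) L732393 (flp_e L728703) L745382 L759010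
theorem L759023 : sm ge N55538 = N56819 := rfl
theorem L759025 : sm gb N56819 = N55541 := ded_21_1 (flp_e L745426) (flp_b L745396) L759023
theorem L759027 : sm gj N56819 = N55544 := ded_42_2 (flp_e L745450) (flp_j L745400) L759023
theorem L759029 : sm gi N56819 = N56819 := ded_44_2 (flp_e L759023) L745402 L759023
theorem L759030 : sm gd N55539 = N56820 := rfl
theorem L759032 : sm ga N56820 = N55644 := ded_12_1 (flp_d L746341) (flp_a L745405) L759030
theorem L759034 : sm gf N56820 = N56820 := ded_35_2 (flp_d L759030) L745409 L759030
theorem L759035 : sm gg N56820 = N55898 := ded_36_2 (flp_d L748074) (flp_g L745410) L759030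
theorem L759037 : sm gj N56820 = N55545 := ded_37_2 (flp_d L745457) (flp_j L745412) L759030
theorem L759039 : sm gc N56820 = N55918 := ded_27_1 (flp_d L748221) (flp_c L735276) L735283 (flp_c L745407) L759030
theorem L759041 : sm gh N56820 = N55540 := ded_38_2 (flp_d L745414) (flp_h L728734) (flp_d L728727) L745403 L759030
theorem L759043 : sm ge N55540 = N56821 := rfl
theorem L759045 : sm ga N56821 = N55645 := ded_13_1 (flp_e L746348) (flp_a L745416) L759043
theorem L759047 : sm gc N56821 = N55921 := ded_28_1 (flp_e L748239) (flp_c L745424) L759043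
theorem L759049 : sm gg N56821 = N55922 := ded_41_2 (flp_e L748246) (flp_g L745419) L759043
theorem L759051 : sm gj N56821 = N55546 := ded_42_2 (flp_e L745466) (flp_j L745421) L759043
theorem L759053 : sm gi N56821 = N56821 := ded_44_2 (flp_e L759043) L745423 L759043
theorem L759054 : sm gd N56821 = N55541 := ded_34_1 (flp_e L745426) (flp_d L728748) (flp_e L728740) L745414 L759043
theorem L759056 : sm gf N55541 = N56822 := rfl
theorem L759058 : sm ga N56822 = N55646 := ded_14_1 (flp_f L746355) (flp_a L745428) L759056
theorem L759060 : sm gc N56822 = N55916 := ded_29_1 L748212 (flp_c L745430) L759056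
theorem L759062 : sm gj N56822 = N55547 := ded_46_2 (flp_f L745475) (flp_j L745432) L759056
theorem L759064 : sm gi N56822 = N56822 := ded_48_2 (flp_f L759056) L745434 L759056
theorem L759065 : sm ge N56822 = N55549 := ded_40_1 (flp_f L745497) (flp_e L728844) (flp_f L728752) L745426 L759056
theorem L759067 : sm gd N55542 = N56823 := rfl
theorem L759069 : sm gb N56823 = N55545 := ded_20_1 (flp_d L745457) (flp_b L745437) L759067
theorem L759071 : sm gf N56823 = N56823 := ded_35_2 (flp_d L759067) L745439 L759067
theorem L759072 : sm gg N56823 = N55890 := ded_36_2 (flp_d L748010) (flp_g L745440) L759067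
theorem L759074 : sm gh N56823 = N55543 := ded_38_2 (flp_d L745442) (flp_h L728780) (flp_d L728775) L745435 L759067
theorem L759076 : sm gc N55543 = N56824 := rfl
theorem L759078 : sm gf N56824 = N56824 := ded_29_2 (flp_c L759076) L745446 L759076
theorem L759079 : sm gg N56824 = N55924 := ded_30_2 L748266 (flp_g L745447) L759076
theorem L759081 : sm gi N56824 = N56824 := ded_33_2 (flp_c L759076) L745449 L759076
theorem L759082 : sm gd N56824 = N56824 := ded_27_2 (flp_c L759076) (flp_d L745442) L728784 L745442 L759076
theorem L759083 : sm ge N55543 = N56825 := rfl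
theorem L759085 : sm gb N56825 = N55546 := ded_21_1 (flp_e L745466) (flp_b L745444) L759083
theorem L759087 : sm gg N56825 = N55923 := ded_41_2 L748262 (flp_g L745447) L759083
theorem L759089 : sm gi N56825 = N56825 := ded_44_2 (flp_e L759083) L745449 L759083
theorem L759090 : sm gd N56825 = N55544 := ded_34_1 (flp_e L745450) (flp_d L728791) (flp_e L728785) L745442 L759083
theorem L759092 : sm gf N55544 = N56826 := rfl
theorem L759094 : sm gb N56826 = N55547 := ded_22_1 (flp_f L745475) (flp_b L745452) L759092
theorem L759096 : sm gc N56826 = N55925 := ded_29_1 (flp_f L758138) L758133 L759092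
theorem L759098 : sm gi N56826 = N56826 := ded_48_2 (flp_f L759092) L745456 L759092
theorem L759099 : sm ge N56826 = N55550 := ded_40_1 (flp_f L745507) (flp_e L728855) (flp_f L728795) L745450 L759092
theorem L759101 : sm gg N56826 = N55926 := ded_45_2 L748284 L732455 L732458 (flp_g L745454) L759092
theorem L759103 : sm ge N55545 = N56827 := rfl
theorem L759105 : sm ga N56827 = N55651 := ded_13_1 (flp_e L746389) (flp_a L745459) L759103
theorem L759107 : sm gg N56827 = N55892 := ded_41_2 (flp_e L748029) (flp_g L745462) L759103
theorem L759109 : sm gh N56827 = N55546 := ded_43_2 (flp_e L745466) (flp_h L745464) L759103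
theorem L759111 : sm gf N55546 = N56828 := rfl
theorem L759113 : sm ga N56828 = N55652 := ded_14_1 (flp_f L746393) (flp_a L745468) L759111
theorem L759115 : sm gd N56828 = N55547 := ded_35_1 (flp_f L745475) (flp_d L745473) L759111
theorem L759117 : sm gi N56828 = N56828 := ded_48_2 (flp_f L759111) L745472 L759111
theorem L759118 : sm ge N56828 = N56828 := ded_40_1 (flp_f L759111) (flp_e L745466) L728813 L745466 L759111
theorem L759119 : sm gf N55548 = N56829 := rfl
theorem L759121 : sm ga N56829 = N55909 := ded_14_1 L748164 (flp_a L745486) L759119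
theorem L759123 : sm gb N56829 = N55549 := ded_22_1 (flp_f L745497) (flp_b L745488) L759119
theorem L759125 : sm gc N56829 = N55906 := ded_29_1 L748146 (flp_c L745490) L759119
theorem L759127 : sm gd N56829 = N56829 := ded_35_1 (flp_f L759119) L745496 L759119
theorem L759128 : sm gj N56829 = N55550 := ded_46_2 (flp_f L745507) (flp_j L745493) L759119
theorem L759130 : sm gi N56829 = N56829 := ded_48_2 (flp_f L759119) L745495 L759119
theorem L759131 : sm gg N55549 = N56830 := rfl
theorem L759133 : sm ga N56830 = N55653 := ded_15_1 (flp_g L746399) (flp_a L745499) L759131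
theorem L759135 : sm gc N56830 = N55915 := ded_30_1 L748200 (flp_c L745501) L759131
theorem L759137 : sm gd N56830 = N56830 := ded_36_1 (flp_g L759131) L745503 L759131
theorem L759138 : sm gi N56830 = N56830 := ded_51_2 (flp_g L759131) L745506 L759131
theorem L759139 : sm gf N56830 = N56830 := ded_45_1 (flp_g L759131) (flp_f L745497) L728850 L745497 L759131
theorem L759140 : sm gh N55551 = N56831 := rfl
theorem L759142 : sm ga N56831 = N55553 := ded_17_1 (flp_h L745542) (flp_a L745519) L759140
theorem L759144 : sm gb N56831 = N55636 := ded_25_1 (flp_h L746279) (flp_b L745521) L759140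
theorem L759146 : sm gc N56831 = N55806 := ded_32_1 (flp_h L747461) (flp_c L745523) L759140
theorem L759148 : sm gf N56831 = N55639 := ded_47_1 (flp_h L746297) (flp_f L745526) L759140
theorem L759150 : sm gj N56831 = N55634 := ded_52_1 (flp_h L746258) (flp_j L745528) L759140
theorem L759152 : sm gi N56831 = N55889 := ded_54_2 (flp_h L748002) (flp_i L732003) (flp_h L728882) L745517 L759140
theorem L759154 : sm gh N55552 = N56832 := rfl
theorem L759156 : sm gb N56832 = N55555 := ded_25_1 (flp_h L745565) (flp_b L745532) L759154
theorem L759158 : sm gc N56832 = N55808 := ded_32_1 (flp_h L747479) (flp_c L745534) L759154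
theorem L759160 : sm ge N56832 = N55553 := ded_43_1 (flp_h L745542) (flp_e L745536) L759154
theorem L759162 : sm gf N56832 = N55819 := ded_47_1 (flp_h L747545) (flp_f L745538) L759154
theorem L759164 : sm gj N56832 = N55827 := ded_52_1 (flp_h L747602) (flp_j L745540) L759154
theorem L759166 : sm gi N56832 = N55855 := ded_54_2 (flp_h L747798) (flp_i L731789) (flp_h L728894) L745530 L759154
theorem L759168 : sm gd N55553 = N56833 := rfl
theorem L759170 : sm gb N56833 = N55556 := ded_20_1 (flp_d L745577) (flp_b L745544) L759168
theorem L759172 : sm gf N56833 = N55843 := ded_35_2 (flp_d L747708) (flp_f L745548) L759168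
theorem L759174 : sm gj N56833 = N55844 := ded_37_2 (flp_d L747720) (flp_j L745550) L759168
theorem L759176 : sm gi N56833 = N55890 := ded_39_2 (flp_d L748010) (flp_i L745552) L759168
theorem L759178 : sm gh N56833 = N56833 := ded_38_2 (flp_d L759168) (flp_h L745542) L728904 L745542 L759168
theorem L759179 : sm gh N55554 = N56834 := rfl
theorem L759181 : sm gc N56834 = N55576 := ded_32_1 (flp_h L745779) (flp_c L745556) L759179
theorem L759183 : sm ge N56834 = N56834 := ded_43_1 (flp_h L759179) L745560 L759179
theorem L759184 : sm gf N56834 = N55820 := ded_47_1 (flp_h L747555) (flp_f L745561) L759179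
theorem L759186 : sm gj N56834 = N55832 := ded_52_1 (flp_h L747639) (flp_j L745563) L759179
theorem L759188 : sm gd N55555 = N56835 := rfl
theorem L759190 : sm gf N56835 = N55821 := ded_35_2 (flp_d L747561) (flp_f L745571) L759188
theorem L759192 : sm gj N56835 = N55837 := ded_37_2 (flp_d L747672) (flp_j L745573) L759188
theorem L759194 : sm gi N56835 = N55858 := ded_39_2 (flp_d L747828) (flp_i L745575) L759188
theorem L759196 : sm ge N55556 = N56836 := rfl
theorem L759198 : sm gj N56836 = N55848 := ded_42_2 (flp_e L747757) (flp_j L745581) L759196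
theorem L759200 : sm gh N56836 = N56836 := ded_43_2 (flp_e L759196) L745585 L759196
theorem L759201 : sm gi N56836 = N55892 := ded_44_2 (flp_e L748029) (flp_i L745583) L759196
theorem L759203 : sm gc N55557 = N56837 := rfl
theorem L759205 : sm gf N56837 = N55822 := ded_29_2 (flp_c L747567) (flp_f L745590) L759203
theorem L759207 : sm gj N56837 = N55841 := ded_31_2 (flp_c L747698) (flp_j L745592) L759203
theorem L759209 : sm gh N56837 = N55582 := ded_32_2 (flp_c L745827) (flp_h L745596) L759203
theorem L759211 : sm gi N56837 = N55864 := ded_33_2 (flp_c L747872) (flp_i L745594) L759203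
theorem L759213 : sm gi N55558 = N56838 := rfl
theorem L759215 : sm gc N56838 = N55830 := ded_33_1 (flp_i L747625) (flp_c L745602) L759213
theorem L759217 : sm gd N56838 = N55559 := ded_39_1 (flp_i L745605) L745598 L759213
theorem L759219 : sm ge N56838 = N56838 := ded_44_1 (flp_i L759213) L745604 L759213
theorem L759220 : sm gg N56838 = N55566 := ded_51_1 (flp_i L745676) (flp_g L745600) L759213
theorem L759222 : sm gh N55559 = N56839 := rfl
theorem L759224 : sm gc N56839 = N55561 := ded_32_1 (flp_h L745622) (flp_c L745607) L759222
theorem L759226 : sm ge N56839 = N55560 := ded_43_1 (flp_h L745613) (flp_e L745609) L759222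
theorem L759228 : sm gg N56839 = N55567 := ded_50_1 (flp_h L745687) (flp_g L745611) L759222
theorem L759230 : sm gi N56839 = N55586 := ded_54_2 (flp_h L745866) (flp_i L729263) (flp_h L728956) L745605 L759222
theorem L759232 : sm gd N55560 = N56840 := rfl
theorem L759234 : sm gf N56840 = N56840 := ded_35_2 (flp_d L759232) L745617 L759232
theorem L759235 : sm gg N56840 = N55568 := ded_36_2 (flp_d L745699) (flp_g L745618) L759232
theorem L759237 : sm gi N56840 = N55587 := ded_39_2 (flp_d L745874) (flp_i L745620) L759232
theorem L759239 : sm gc N56840 = N55650 := ded_27_1 (flp_d L746383) (flp_c L735085) L735090 (flp_c L745615) L759232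
theorem L759241 : sm gh N56840 = N56840 := ded_38_2 (flp_d L759232) (flp_h L745613) L728962 L745613 L759232
theorem L759242 : sm gd N55561 = N56841 := rfl
theorem L759244 : sm gb N56841 = N55818 := ded_20_1 (flp_d L747539) (flp_b L745624) L759242
theorem L759246 : sm gg N56841 = N55569 := ded_36_2 (flp_d L745708) (flp_g L745628) L759242
theorem L759248 : sm gi N56841 = N55589 := ded_39_2 (flp_d L745890) (flp_i L745630) L759242
theorem L759250 : sm gh N56841 = N55840 := ded_38_2 (flp_d L747692) (flp_h L731633) (flp_d L728970) L745622 L759242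
theorem L759252 : sm gi N55562 = N56842 := rfl
theorem L759254 : sm gb N56842 = N55566 := ded_26_1 (flp_i L745676) (flp_b L745634) L759252
theorem L759256 : sm gd N56842 = N55563 := ded_39_1 (flp_i L745641) L745632 L759252
theorem L759258 : sm ge N56842 = N56842 := ded_44_1 (flp_i L759252) L745640 L759252
theorem L759259 : sm gf N56842 = N55807 := ded_48_1 (flp_i L747471) (flp_f L745636) L759252
theorem L759261 : sm gj N56842 = N55570 := ded_53_1 (flp_i L745720) (flp_j L745638) L759252
theorem L759263 : sm gh N55563 = N56843 := rfl
theorem L759265 : sm gb N56843 = N55567 := ded_25_1 (flp_h L745687) (flp_b L745643) L759263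
theorem L759267 : sm gc N56843 = N55819 := ded_32_1 (flp_h L747545) (flp_c L745645) L759263
theorem L759269 : sm ge N56843 = N55564 := ded_43_1 (flp_h L745653) (flp_e L745647) L759263
theorem L759271 : sm gf N56843 = N55808 := ded_47_1 (flp_h L747479) (flp_f L745649) L759263
theorem L759273 : sm gj N56843 = N55572 := ded_52_1 (flp_h L745743) (flp_j L745651) L759263
theorem L759275 : sm gi N56843 = N55591 := ded_54_2 (flp_h L745908) (flp_i L729305) (flp_h L728993) L745641 L759263
theorem L759277 : sm gd N55564 = N56844 := rfl
theorem L759279 : sm gb N56844 = N55568 := ded_20_1 (flp_d L745699) (flp_b L745655) L759277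
theorem L759281 : sm gf N56844 = N55583 := ded_35_2 (flp_d L745831) (flp_f L745659) L759277
theorem L759283 : sm gj N56844 = N55573 := ded_37_2 (flp_d L745753) (flp_j L745661) L759277
theorem L759285 : sm gi N56844 = N55592 := ded_39_2 (flp_d L745918) (flp_i L745663) L759277
theorem L759287 : sm gc N56844 = N55746 := ded_27_1 (flp_d L747046) L730802 (flp_d L731491) (flp_c L745657) L759277
theorem L759289 : sm gh N56844 = N56844 := ded_38_2 (flp_d L759277) (flp_h L745653) L729003 L745653 L759277
theorem L759290 : sm gi N55565 = N56845 := rfl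
theorem L759292 : sm gc N56845 = N55831 := ded_33_1 (flp_i L747632) (flp_c L745667) L759290
theorem L759294 : sm gd N56845 = N55595 := ded_39_1 (flp_i L745952) (flp_d L745674) L759290
theorem L759296 : sm ge N56845 = N56845 := ded_44_1 (flp_i L759290) L745669 L759290
theorem L759297 : sm gf N56845 = N55810 := ded_48_1 (flp_i L747493) (flp_f L745670) L759290
theorem L759299 : sm gj N56845 = N55575 := ded_53_1 (flp_i L745774) (flp_j L745672) L759290
theorem L759301 : sm gh N55566 = N56846 := rfl
theorem L759303 : sm gc N56846 = N55832 := ded_32_1 (flp_h L747639) (flp_c L745678) L759301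
theorem L759305 : sm ge N56846 = N56846 := ded_43_1 (flp_h L759301) L745682 L759301
theorem L759306 : sm gf N56846 = N55811 := ded_47_1 (flp_h L747499) (flp_f L745683) L759301
theorem L759308 : sm gj N56846 = N55576 := ded_52_1 (flp_h L745779) (flp_j L745685) L759301
theorem L759310 : sm gd N55567 = N56847 := rfl
theorem L759312 : sm gf N56847 = N55812 := ded_35_2 (flp_d L747505) (flp_f L745693) L759310
theorem L759314 : sm gj N56847 = N55578 := ded_37_2 (flp_d L745794) (flp_j L745695) L759310
theorem L759316 : sm gi N56847 = N55598 := ded_39_2 (flp_d L745976) (flp_i L745697) L759310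
theorem L759318 : sm ge N55568 = N56848 := rfl
theorem L759320 : sm gj N56848 = N55579 := ded_42_2 (flp_e L745798) (flp_j L745703) L759318
theorem L759322 : sm gh N56848 = N56848 := ded_43_2 (flp_e L759318) L745707 L759318
theorem L759323 : sm gi N56848 = N55599 := ded_44_2 (flp_e L745980) (flp_i L745705) L759318
theorem L759325 : sm gc N55569 = N56849 := rfl
theorem L759327 : sm gf N56849 = N55814 := ded_29_2 (flp_c L747511) (flp_f L745712) L759325
theorem L759329 : sm gj N56849 = N55582 := ded_31_2 (flp_c L745827) (flp_j L745714) L759325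
theorem L759331 : sm gh N56849 = N55841 := ded_32_2 (flp_c L747698) (flp_h L745718) L759325
theorem L759333 : sm gi N56849 = N55601 := ded_33_2 (flp_c L745998) (flp_i L745716) L759325
theorem L759335 : sm gh N55570 = N56850 := rfl
theorem L759337 : sm gb N56850 = N55576 := ded_25_1 (flp_h L745779) (flp_b L745722) L759335
theorem L759339 : sm ge N56850 = N56850 := ded_43_1 (flp_h L759335) L745726 L759335
theorem L759340 : sm gh N55571 = N56851 := rfl
theorem L759342 : sm ga N56851 = N55869 := ded_17_1 (flp_h L747904) (flp_a L745729) L759340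
theorem L759344 : sm gb N56851 = N55577 := ded_25_1 (flp_h L745782) (flp_b L745731) L759340
theorem L759346 : sm gc N56851 = N55827 := ded_32_1 (flp_h L747602) (flp_c L745733) L759340
theorem L759348 : sm ge N56851 = N55584 := ded_43_1 (flp_h L745843) (flp_e L745735) L759340
theorem L759350 : sm gf N56851 = N55572 := ded_47_1 (flp_h L745743) (flp_f L745737) L759340
theorem L759352 : sm gg N56851 = N55866 := ded_50_1 (flp_h L747882) (flp_g L745739) L759340
theorem L759354 : sm gj N56851 = N55808 := ded_52_1 (flp_h L747479) (flp_j L745741) L759340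
theorem L759356 : sm gi N56851 = N55608 := ded_54_2 (flp_h L746059) (flp_i L729457) (flp_h L729064) L745727 L759340
theorem L759358 : sm gd N55572 = N56852 := rfl
theorem L759360 : sm gb N56852 = N55578 := ded_20_1 (flp_d L745794) (flp_b L745745) L759358
theorem L759362 : sm gi N56852 = N55609 := ded_39_2 (flp_d L746069) (flp_i L745751) L759358
theorem L759364 : sm ge N55573 = N56853 := rfl
theorem L759366 : sm gb N56853 = N55579 := ded_21_1 (flp_e L745798) (flp_b L745755) L759364
theorem L759368 : sm gh N56853 = N56853 := ded_43_2 (flp_e L759364) L745761 L759364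
theorem L759369 : sm gi N56853 = N55610 := ded_44_2 (flp_e L746073) (flp_i L745759) L759364
theorem L759371 : sm gh N55574 = N56854 := rfl
theorem L759373 : sm gc N56854 = N55820 := ded_32_1 (flp_h L747555) (flp_c L745764) L759371
theorem L759375 : sm ge N56854 = N55904 := ded_43_1 (flp_h L748127) (flp_e L745768) L759371
theorem L759377 : sm gf N56854 = N55576 := ded_47_1 (flp_h L745779) (flp_f L745770) L759371
theorem L759379 : sm gj N56854 = N55811 := ded_52_1 (flp_h L747499) (flp_j L745772) L759371
theorem L759381 : sm gh N55575 = N56855 := rfl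
theorem L759383 : sm ge N56855 = N56855 := ded_43_1 (flp_h L759381) L745778 L759381
theorem L759384 : sm gi N56855 = N55576 := ded_54_2 (flp_h L745779) (flp_i L729103) L729098 L745774 L759381
theorem L759386 : sm gd N55576 = N56856 := rfl
theorem L759388 : sm gh N56856 = N55578 := ded_38_2 (flp_d L745794) (flp_h L729118) (flp_d L729105) L745779 L759386
theorem L759390 : sm gd N55577 = N56857 := rfl
theorem L759392 : sm gf N56857 = N55578 := ded_35_2 (flp_d L745794) (flp_f L745788) L759390
theorem L759394 : sm gj N56857 = N55812 := ded_37_2 (flp_d L747505) (flp_j L745790) L759390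
theorem L759396 : sm gi N56857 = N55618 := ded_39_2 (flp_d L746128) (flp_i L745792) L759390
theorem L759398 : sm gc N55578 = N56858 := rfl
theorem L759400 : sm gi N56858 = N55619 := ded_33_2 (flp_c L746132) (flp_i L745796) L759398
theorem L759402 : sm gd N56858 = N55582 := ded_27_2 (flp_c L745827) (flp_d L729157) (flp_c L729120) L745794 L759398
theorem L759404 : sm ge N55578 = N56859 := rfl
theorem L759406 : sm gi N56859 = N55620 := ded_44_2 (flp_e L746136) (flp_i L745796) L759404
theorem L759408 : sm gd N56859 = N55579 := ded_34_1 (flp_e L745798) (flp_d L729126) (flp_e L729122) L745794 L759404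
theorem L759410 : sm gd N55580 = N56860 := rfl
theorem L759412 : sm ga N56860 = N55775 := ded_12_1 (flp_d L747268) (flp_a L745805) L759410
theorem L759414 : sm gb N56860 = N55840 := ded_20_1 (flp_d L747692) (flp_b L745807) L759410
theorem L759416 : sm gg N56860 = N55581 := ded_36_2 (flp_d L745815) (flp_g L745811) L759410
theorem L759418 : sm gi N56860 = N55623 := ded_39_2 (flp_d L746154) (flp_i L745813) L759410
theorem L759420 : sm gh N56860 = N55818 := ded_38_2 (flp_d L747539) (flp_h L731467) (flp_d L729139) L745803 L759410
theorem L759422 : sm gc N55581 = N56861 := rfl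
theorem L759424 : sm gf N56861 = N55582 := ded_29_2 (flp_c L745827) (flp_f L745819) L759422
theorem L759426 : sm gj N56861 = N55814 := ded_31_2 (flp_c L747511) (flp_j L745821) L759422
theorem L759428 : sm gh N56861 = N55822 := ded_32_2 (flp_c L747567) (flp_h L745825) L759422
theorem L759430 : sm gi N56861 = N55624 := ded_33_2 (flp_c L746160) (flp_i L745823) L759422
theorem L759432 : sm gb N55582 = N56862 := rfl
theorem L759434 : sm gi N56862 = N55625 := ded_26_2 (flp_b L746164) (flp_i L745829) L759432
theorem L759436 : sm gc N56862 = N55842 := ded_19_2 (flp_b L747704) (flp_c L731647) (flp_b L729159) L745827 L759432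
theorem L759438 : sm gh N55585 = N56863 := rfl
theorem L759440 : sm gc N56863 = N55588 := ded_32_1 (flp_h L745883) (flp_c L745861) L759438
theorem L759442 : sm ge N56863 = N56863 := ded_43_1 (flp_h L759438) L745863 L759438
theorem L759443 : sm gf N56863 = N55586 := ded_47_1 (flp_h L745866) (flp_f L745864) L759438
theorem L759445 : sm gd N55586 = N56864 := rfl
theorem L759447 : sm gg N56864 = N55598 := ded_36_2 (flp_d L745976) (flp_g L745872) L759445
theorem L759449 : sm ge N55587 = N56865 := rfl
theorem L759451 : sm gc N56865 = N55651 := ded_28_1 (flp_e L746389) (flp_c L745879) L759449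
theorem L759453 : sm gg N56865 = N55599 := ded_41_2 (flp_e L745980) (flp_g L745877) L759449
theorem L759455 : sm gh N56865 = N55641 := ded_43_2 (flp_e L746318) (flp_h L745881) L759449
theorem L759457 : sm gd N55588 = N56866 := rfl
theorem L759459 : sm gb N56866 = N55853 := ded_20_1 (flp_d L747790) (flp_b L745885) L759457
theorem L759461 : sm gf N56866 = N55589 := ded_35_2 (flp_d L745890) (flp_f L745888) L759457
theorem L759463 : sm gc N55589 = N56867 := rfl
theorem L759465 : sm gg N56867 = N55601 := ded_30_2 (flp_c L745998) (flp_g L745894) L759463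
theorem L759467 : sm gh N55590 = N56868 := rfl
theorem L759469 : sm gb N56868 = N55597 := ded_25_1 (flp_h L745964) (flp_b L745898) L759467
theorem L759471 : sm gc N56868 = N55855 := ded_32_1 (flp_h L747798) (flp_c L745900) L759467
theorem L759473 : sm ge N56868 = N55628 := ded_43_1 (flp_h L746196) (flp_e L745902) L759467
theorem L759475 : sm gf N56868 = N55591 := ded_47_1 (flp_h L745908) (flp_f L745904) L759467
theorem L759477 : sm gj N56868 = N55608 := ded_52_1 (flp_h L746059) (flp_j L745906) L759467
theorem L759479 : sm gi N56868 = N55808 := ded_54_2 (flp_h L747479) (flp_i L731396) (flp_h L729301) L745896 L759467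
theorem L759481 : sm gd N55591 = N56869 := rfl
theorem L759483 : sm gb N56869 = N55598 := ded_20_1 (flp_d L745976) (flp_b L745910) L759481
theorem L759485 : sm gj N56869 = N55609 := ded_37_2 (flp_d L746069) (flp_j L745916) L759481
theorem L759487 : sm ge N55592 = N56870 := rfl
theorem L759489 : sm gb N56870 = N55599 := ded_21_1 (flp_e L745980) (flp_b L745920) L759487
theorem L759491 : sm gc N56870 = N55747 := ded_28_1 (flp_e L747053) (flp_c L745926) L759487
theorem L759493 : sm gj N56870 = N55610 := ded_42_2 (flp_e L746073) (flp_j L745924) L759487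
theorem L759495 : sm gh N56870 = N55642 := ded_43_2 (flp_e L746325) (flp_h L745928) L759487
theorem L759497 : sm gi N55593 = N56871 := rfl
theorem L759499 : sm gc N56871 = N55705 := ded_33_1 (flp_i L746798) (flp_c L745932) L759497
theorem L759501 : sm gd N56871 = N55810 := ded_39_1 (flp_i L747493) (flp_d L745939) L759497
theorem L759503 : sm ge N56871 = N56871 := ded_44_1 (flp_i L759497) L745934 L759497
theorem L759504 : sm gf N56871 = N55595 := ded_48_1 (flp_i L745952) (flp_f L745935) L759497
theorem L759506 : sm gj N56871 = N55612 := ded_53_1 (flp_i L746092) (flp_j L745937) L759497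
theorem L759508 : sm gh N55594 = N56872 := rfl
theorem L759510 : sm gc N56872 = N55706 := ded_32_1 (flp_h L746803) (flp_c L745943) L759508
theorem L759512 : sm ge N56872 = N56872 := ded_43_1 (flp_h L759508) L745947 L759508
theorem L759513 : sm gf N56872 = N55596 := ded_47_1 (flp_h L745958) (flp_f L745948) L759508
theorem L759515 : sm gj N56872 = N55613 := ded_52_1 (flp_h L746097) (flp_j L745950) L759508
theorem L759517 : sm gh N55595 = N56873 := rfl
theorem L759519 : sm ge N56873 = N55643 := ded_43_1 (flp_h L746334) (flp_e L745954) L759517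
theorem L759521 : sm gj N56873 = N55614 := ded_52_1 (flp_h L746102) (flp_j L745956) L759517
theorem L759523 : sm gi N56873 = N55596 := ded_54_2 (flp_h L745958) (flp_i L729340) L729334 L745952 L759517
theorem L759525 : sm gd N55596 = N56874 := rfl
theorem L759527 : sm gj N56874 = N55615 := ded_37_2 (flp_d L746108) (flp_j L745962) L759525
theorem L759529 : sm gh N56874 = N55598 := ded_38_2 (flp_d L745976) (flp_h L729358) (flp_d L729342) L745958 L759525
theorem L759531 : sm gd N55597 = N56875 := rfl
theorem L759533 : sm gf N56875 = N55598 := ded_35_2 (flp_d L745976) (flp_f L745970) L759531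
theorem L759535 : sm gj N56875 = N55618 := ded_37_2 (flp_d L746128) (flp_j L745972) L759531
theorem L759537 : sm gi N56875 = N55812 := ded_39_2 (flp_d L747505) (flp_i L745974) L759531
theorem L759539 : sm gc N55598 = N56876 := rfl
theorem L759541 : sm gj N56876 = N55619 := ded_31_2 (flp_c L746132) (flp_j L745978) L759539
theorem L759543 : sm gd N56876 = N55601 := ded_27_2 (flp_c L745998) (flp_d L729386) (flp_c L729360) L745976 L759539
theorem L759545 : sm ge N55598 = N56877 := rfl
theorem L759547 : sm gj N56877 = N55620 := ded_42_2 (flp_e L746136) (flp_j L745978) L759545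
theorem L759549 : sm gd N56877 = N55599 := ded_34_1 (flp_e L745980) (flp_d L729366) (flp_e L729362) L745976 L759545
theorem L759551 : sm gf N55599 = N56878 := rfl
theorem L759553 : sm gj N56878 = N55621 := ded_46_2 (flp_f L746140) (flp_j L745982) L759551
theorem L759555 : sm gh N56878 = N55646 := ded_47_2 (flp_f L746355) (flp_h L745984) L759551
theorem L759557 : sm ge N56878 = N55631 := ded_40_1 (flp_f L746227) (flp_e L729655) (flp_f L729368) L745980 L759551
theorem L759559 : sm gc N55600 = N56879 := rfl
theorem L759561 : sm gf N56879 = N55601 := ded_29_2 (flp_c L745998) (flp_f L745990) L759559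
theorem L759563 : sm gj N56879 = N55624 := ded_31_2 (flp_c L746160) (flp_j L745992) L759559
theorem L759565 : sm gh N56879 = N55709 := ded_32_2 (flp_c L746815) (flp_h L745996) L759559
theorem L759567 : sm gi N56879 = N55814 := ded_33_2 (flp_c L747511) (flp_i L745994) L759559
theorem L759569 : sm gb N55601 = N56880 := rfl
theorem L759571 : sm gj N56880 = N55625 := ded_24_2 (flp_b L746164) (flp_j L746000) L759569
theorem L759573 : sm gc N56880 = N55865 := ded_19_2 (flp_b L747878) (flp_c L731859) (flp_b L729388) L745998 L759569
theorem L759575 : sm gh N55602 = N56881 := rfl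
theorem L759577 : sm ga N56881 = N55608 := ded_17_1 (flp_h L746059) (flp_a L746004) L759575
theorem L759579 : sm gb N56881 = N55836 := ded_25_1 (flp_h L747662) (flp_b L746006) L759575
theorem L759581 : sm gc N56881 = N55866 := ded_32_1 (flp_h L747882) (flp_c L746008) L759575
theorem L759583 : sm ge N56881 = N55632 := ded_43_1 (flp_h L746233) (flp_e L746010) L759575
theorem L759585 : sm gf N56881 = N55603 := ded_47_1 (flp_h L746016) (flp_f L746012) L759575
theorem L759587 : sm gg N56881 = N55827 := ded_50_1 (flp_h L747602) (flp_g L746014) L759575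
theorem L759589 : sm gi N56881 = N55869 := ded_54_2 (flp_h L747904) (flp_i L731897) (flp_h L729400) L746002 L759575
theorem L759591 : sm gd N55603 = N56882 := rfl
theorem L759593 : sm ga N56882 = N55609 := ded_12_1 (flp_d L746069) (flp_a L746018) L759591
theorem L759595 : sm gh N55604 = N56883 := rfl
theorem L759597 : sm gb N56883 = N55613 := ded_25_1 (flp_h L746097) (flp_b L746026) L759595
theorem L759599 : sm ge N56883 = N56883 := ded_43_1 (flp_h L759595) L746030 L759595
theorem L759600 : sm gf N56883 = N55606 := ded_47_1 (flp_h L746039) (flp_f L746031) L759595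
theorem L759602 : sm gh N55605 = N56884 := rfl
theorem L759604 : sm gb N56884 = N55614 := ded_25_1 (flp_h L746102) (flp_b L746035) L759602
theorem L759606 : sm ge N56884 = N55647 := ded_43_1 (flp_h L746362) (flp_e L746037) L759602
theorem L759608 : sm gi N56884 = N55606 := ded_54_2 (flp_h L746039) (flp_i L729435) L729429 L746033 L759602
theorem L759610 : sm gd N55606 = N56885 := rfl
theorem L759612 : sm gb N56885 = N55615 := ded_20_1 (flp_d L746108) (flp_b L746041) L759610
theorem L759614 : sm gh N56885 = N55609 := ded_38_2 (flp_d L746069) (flp_h L729467) (flp_d L729439) L746039 L759610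
theorem L759616 : sm gh N55607 = N56886 := rfl
theorem L759618 : sm ga N56886 = N55827 := ded_17_1 (flp_h L747602) (flp_a L746047) L759616
theorem L759620 : sm gb N56886 = N55617 := ded_25_1 (flp_h L746120) (flp_b L746049) L759616
theorem L759622 : sm gc N56886 = N55869 := ded_32_1 (flp_h L747904) (flp_c L746051) L759616
theorem L759624 : sm ge N56886 = N55634 := ded_43_1 (flp_h L746258) (flp_e L746053) L759616
theorem L759626 : sm gf N56886 = N55823 := ded_47_1 (flp_h L747573) (flp_f L746055) L759616
theorem L759628 : sm gg N56886 = N55608 := ded_50_1 (flp_h L746059) (flp_g L746057) L759616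
theorem L759630 : sm gi N56886 = N55866 := ded_54_2 (flp_h L747882) (flp_i L731863) (flp_h L729453) L746045 L759616
theorem L759632 : sm gd N55608 = N56887 := rfl
theorem L759634 : sm gb N56887 = N55618 := ded_20_1 (flp_d L746128) (flp_b L746061) L759632
theorem L759636 : sm gf N56887 = N55609 := ded_35_2 (flp_d L746069) (flp_f L746067) L759632
theorem L759638 : sm gc N55609 = N56888 := rfl
theorem L759640 : sm gd N56888 = N55871 := ded_27_2 (flp_c L747918) (flp_d L731913) (flp_c L729471) L746069 L759638
theorem L759642 : sm ge N55609 = N56889 := rfl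
theorem L759644 : sm gb N56889 = N55620 := ded_21_1 (flp_e L746136) (flp_b L746071) L759642
theorem L759646 : sm gd N56889 = N55610 := ded_34_1 (flp_e L746073) (flp_d L729475) (flp_e L729473) L746069 L759642
theorem L759648 : sm gh N55611 = N56890 := rfl
theorem L759650 : sm ga N56890 = N55850 := ded_17_1 (flp_h L747772) (flp_a L746081) L759648
theorem L759652 : sm gc N56890 = N55793 := ded_32_1 (flp_h L747378) (flp_c L746083) L759648
theorem L759654 : sm ge N56890 = N56890 := ded_43_1 (flp_h L759648) L746087 L759648
theorem L759655 : sm gf N56890 = N55792 := ded_47_1 (flp_h L747368) (flp_f L746088) L759648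
theorem L759657 : sm gg N56890 = N55613 := ded_50_1 (flp_h L746097) (flp_g L746090) L759648
theorem L759659 : sm gh N55612 = N56891 := rfl
theorem L759661 : sm ge N56891 = N56891 := ded_43_1 (flp_h L759659) L746094 L759659
theorem L759662 : sm gf N56891 = N55614 := ded_47_1 (flp_h L746102) (flp_f L746095) L759659
theorem L759664 : sm gi N56891 = N55613 := ded_54_2 (flp_h L746097) (flp_i L729499) L729494 L746092 L759659
theorem L759666 : sm gd N55613 = N56892 := rfl
theorem L759668 : sm gf N56892 = N55615 := ded_35_2 (flp_d L746108) (flp_f L746100) L759666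
theorem L759670 : sm gh N56892 = N55618 := ded_38_2 (flp_d L746128) (flp_h L729528) (flp_d L729501) L746097 L759666
theorem L759672 : sm gd N55614 = N56893 := rfl
theorem L759674 : sm gi N56893 = N55615 := ded_39_2 (flp_d L746108) (flp_i L746106) L759672
theorem L759676 : sm gc N55615 = N56894 := rfl
theorem L759678 : sm gh N56894 = N55619 := ded_32_2 (flp_c L746132) (flp_h L746110) L759676
theorem L759680 : sm ge N55615 = N56895 := rfl
theorem L759682 : sm gh N56895 = N55620 := ded_43_2 (flp_e L746136) (flp_h L746110) L759680
theorem L759684 : sm gd N56895 = N55651 := ded_34_1 (flp_e L746389) (flp_d L729871) (flp_e L729512) L746108 L759680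
theorem L759686 : sm gh N55616 = N56896 := rfl
theorem L759688 : sm gc N56896 = N55622 := ded_32_1 (flp_h L746146) (flp_c L746114) L759686
theorem L759690 : sm ge N56896 = N55636 := ded_43_1 (flp_h L746279) (flp_e L746116) L759686
theorem L759692 : sm gj N56896 = N55617 := ded_52_1 (flp_h L746120) (flp_j L746118) L759686
theorem L759694 : sm gd N55617 = N56897 := rfl
theorem L759696 : sm gg N56897 = N55618 := ded_36_2 (flp_d L746128) (flp_g L746126) L759694
theorem L759698 : sm gc N55618 = N56898 := rfl
theorem L759700 : sm gf N56898 = N55619 := ded_29_2 (flp_c L746132) (flp_f L746130) L759698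
theorem L759702 : sm gd N56898 = N55624 := ded_27_2 (flp_c L746160) (flp_d L729558) (flp_c L729530) L746128 L759698
theorem L759704 : sm ge N55618 = N56899 := rfl
theorem L759706 : sm gd N56899 = N55638 := ded_34_1 (flp_e L746294) (flp_d L729734) (flp_e L729532) L746128 L759704
theorem L759708 : sm gb N55619 = N56900 := rfl
theorem L759710 : sm gd N56900 = N55625 := ded_20_2 (flp_b L746164) (flp_d L746134) L759708
theorem L759712 : sm ge N55619 = N56901 := rfl
theorem L759714 : sm gc N56901 = N55620 := ded_28_1 (flp_e L746136) L746132 L759712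
theorem L759716 : sm gf N55620 = N56902 := rfl
theorem L759718 : sm gd N56902 = N55621 := ded_35_1 (flp_f L746140) (flp_d L746138) L759716
theorem L759720 : sm gd N55622 = N56903 := rfl
theorem L759722 : sm gb N56903 = N55885 := ded_20_1 (flp_d L747988) (flp_b L746148) L759720
theorem L759724 : sm gj N56903 = N55623 := ded_37_2 (flp_d L746154) (flp_j L746152) L759720
theorem L759726 : sm gc N55623 = N56904 := rfl
theorem L759728 : sm gg N56904 = N55624 := ded_30_2 (flp_c L746160) (flp_g L746158) L759726
theorem L759730 : sm gb N55624 = N56905 := rfl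
theorem L759732 : sm gf N56905 = N55625 := ded_22_2 (flp_b L746164) (flp_f L746162) L759730
theorem L759734 : sm gc N56905 = N55887 := ded_19_2 (flp_b L747996) (flp_c L731997) (flp_b L729560) L746160 L759730
theorem L759736 : sm ga N55625 = N56906 := rfl
theorem L759738 : sm gc N56906 = N55888 := ded_11_2 (flp_a L748000) (flp_c L746166) L759736
theorem L759740 : sm gh N55626 = N56907 := rfl
theorem L759742 : sm ga N56907 = N55628 := ded_17_1 (flp_h L746196) (flp_a L746170) L759740
theorem L759744 : sm gb N56907 = N55846 := ded_25_1 (flp_h L747738) (flp_b L746172) L759740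
theorem L759746 : sm gc N56907 = N55889 := ded_32_1 (flp_h L748002) (flp_c L746174) L759740
theorem L759748 : sm gf N56907 = N55627 := ded_47_1 (flp_h L746181) (flp_f L746177) L759740
theorem L759750 : sm gj N56907 = N55632 := ded_52_1 (flp_h L746233) (flp_j L746179) L759740
theorem L759752 : sm gi N56907 = N55806 := ded_54_2 (flp_h L747461) (flp_i L731378) (flp_h L729577) L746168 L759740
theorem L759754 : sm gd N55627 = N56908 := rfl
theorem L759756 : sm ga N56908 = N55629 := ded_12_1 (flp_d L746208) (flp_a L746183) L759754
theorem L759758 : sm gb N56908 = N55849 := ded_20_1 (flp_d L747762) (flp_b L746185) L759754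
theorem L759760 : sm gg N56908 = N56908 := ded_36_2 (flp_d L759754) L746191 L759754
theorem L759761 : sm gj N56908 = N55633 := ded_37_2 (flp_d L746247) (flp_j L746192) L759754
theorem L759763 : sm gi N56908 = N55901 := ded_39_2 (flp_d L748096) (flp_i L746194) L759754
theorem L759765 : sm gh N56908 = N56908 := ded_38_2 (flp_d L759754) (flp_h L746181) L729587 L746181 L759754
theorem L759766 : sm gd N55628 = N56909 := rfl
theorem L759768 : sm gb N56909 = N55630 := ded_20_1 (flp_d L746218) (flp_b L746198) L759766
theorem L759770 : sm gf N56909 = N55629 := ded_35_2 (flp_d L746208) (flp_f L746202) L759766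
theorem L759772 : sm gj N56909 = N55635 := ded_37_2 (flp_d L746272) (flp_j L746204) L759766
theorem L759774 : sm gi N56909 = N55809 := ded_39_2 (flp_d L747485) (flp_i L746206) L759766
theorem L759776 : sm gh N56909 = N56909 := ded_38_2 (flp_d L759766) (flp_h L746196) L729608 L746196 L759766
theorem L759777 : sm ge N55630 = N56910 := rfl
theorem L759779 : sm gj N56910 = N55638 := ded_42_2 (flp_e L746294) (flp_j L746222) L759777
theorem L759781 : sm gh N56910 = N56910 := ded_43_2 (flp_e L759777) L746226 L759777
theorem L759782 : sm gi N56910 = N55813 := ded_44_2 (flp_e L747507) (flp_i L746224) L759777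
theorem L759784 : sm gg N55631 = N56911 := rfl
theorem L759786 : sm gh N56911 = N55653 := ded_50_2 (flp_g L746399) (flp_h L746231) L759784
theorem L759788 : sm gf N56911 = N56911 := ded_45_1 (flp_g L759784) (flp_f L746227) L729657 L746227 L759784
theorem L759789 : sm gd N55632 = N56912 := rfl
theorem L759791 : sm ga N56912 = N55635 := ded_12_1 (flp_d L746272) (flp_a L746235) L759789
theorem L759793 : sm gb N56912 = N55847 := ded_20_1 (flp_d L747748) (flp_b L746237) L759789
theorem L759795 : sm gf N56912 = N55633 := ded_35_2 (flp_d L746247) (flp_f L746241) L759789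
theorem L759797 : sm gg N56912 = N55844 := ded_36_2 (flp_d L747720) (flp_g L746243) L759789
theorem L759799 : sm gi N56912 = N55895 := ded_39_2 (flp_d L748052) (flp_i L746245) L759789
theorem L759801 : sm gh N56912 = N56912 := ded_38_2 (flp_d L759789) (flp_h L746233) L729670 L746233 L759789
theorem L759802 : sm ge N55635 = N56913 := rfl
theorem L759804 : sm gb N56913 = N55638 := ded_21_1 (flp_e L746294) (flp_b L746274) L759802
theorem L759806 : sm gh N56913 = N56913 := ded_43_2 (flp_e L759802) L746278 L759802
theorem L759807 : sm gd N55636 = N56914 := rfl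
theorem L759809 : sm gf N56914 = N55640 := ded_35_2 (flp_d L746312) (flp_f L746283) L759807
theorem L759811 : sm gj N56914 = N55637 := ded_37_2 (flp_d L746287) (flp_j L746285) L759807
theorem L759813 : sm gh N56914 = N56914 := ded_38_2 (flp_d L759807) (flp_h L746279) L729721 L746279 L759807
theorem L759814 : sm ge N55637 = N56915 := rfl
theorem L759816 : sm gg N56915 = N55638 := ded_41_2 (flp_e L746294) (flp_g L746291) L759814
theorem L759818 : sm gh N56915 = N56915 := ded_43_2 (flp_e L759814) L746293 L759814
theorem L759819 : sm gf N55641 = N56916 := rfl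
theorem L759821 : sm gc N56916 = N55652 := ded_29_1 (flp_f L746393) (flp_c L746320) L759819
theorem L759823 : sm gi N56916 = N56916 := ded_48_2 (flp_f L759819) L746324 L759819
theorem L759824 : sm ge N56916 = N56916 := ded_40_1 (flp_f L759819) (flp_e L746318) L729805 L746318 L759819
theorem L759825 : sm gd N55643 = N56917 := rfl
theorem L759827 : sm gf N56917 = N56917 := ded_35_2 (flp_d L759825) L746336 L759825
theorem L759828 : sm gj N56917 = N55650 := ded_37_2 (flp_d L746383) (flp_j L746337) L759825
theorem L759830 : sm gi N56917 = N55644 := ded_39_2 (flp_d L746341) (flp_i L746339) L759825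
theorem L759832 : sm gh N56917 = N56917 := ded_38_2 (flp_d L759825) (flp_h L746334) L729824 L746334 L759825
theorem L759833 : sm ge N55644 = N56918 := rfl
theorem L759835 : sm gj N56918 = N55651 := ded_42_2 (flp_e L746389) (flp_j L746344) L759833
theorem L759837 : sm gh N56918 = N55645 := ded_43_2 (flp_e L746348) (flp_h L746346) L759833
theorem L759839 : sm gf N55645 = N56919 := rfl
theorem L759841 : sm gd N56919 = N55646 := ded_35_1 (flp_f L746355) (flp_d L746353) L759839
theorem L759843 : sm gj N56919 = N55652 := ded_46_2 (flp_f L746393) (flp_j L746350) L759839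
theorem L759845 : sm gi N56919 = N56919 := ded_48_2 (flp_f L759839) L746352 L759839
theorem L759846 : sm ge N56919 = N56919 := ded_40_1 (flp_f L759839) (flp_e L746348) L729835 L746348 L759839
theorem L759847 : sm gg N55646 = N56920 := rfl
theorem L759849 : sm ge N56920 = N55653 := ded_41_1 (flp_g L746399) (flp_e L746360) L759847
theorem L759851 : sm gi N56920 = N56920 := ded_51_2 (flp_g L759847) L746359 L759847
theorem L759852 : sm gd N55647 = N56921 := rfl
theorem L759854 : sm gb N56921 = N55650 := ded_20_1 (flp_d L746383) (flp_b L746364) L759852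
theorem L759856 : sm gf N56921 = N56921 := ded_35_2 (flp_d L759852) L746366 L759852
theorem L759857 : sm gi N56921 = N55648 := ded_39_2 (flp_d L746369) (flp_i L746367) L759852
theorem L759859 : sm gh N56921 = N56921 := ded_38_2 (flp_d L759852) (flp_h L746362) L729848 L746362 L759852
theorem L759860 : sm ge N55648 = N56922 := rfl
theorem L759862 : sm gb N56922 = N55651 := ded_21_1 (flp_e L746389) (flp_b L746371) L759860
theorem L759864 : sm gh N56922 = N55649 := ded_43_2 (flp_e L746376) (flp_h L746374) L759860
theorem L759866 : sm ge N55650 = N56923 := rfl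
theorem L759868 : sm gh N56923 = N56923 := ded_43_2 (flp_e L759866) L746388 L759866
theorem L759869 : sm gi N56923 = N55651 := ded_44_2 (flp_e L746389) (flp_i L746386) L759866
theorem L759871 : sm gf N55651 = N56924 := rfl
theorem L759873 : sm gh N56924 = N55652 := ded_47_2 (flp_f L746393) (flp_h L746391) L759871
theorem L759875 : sm ge N56924 = N56924 := ded_40_1 (flp_f L759871) (flp_e L746389) L729873 L746389 L759871
theorem L759876 : sm gd N55658 = N56925 := rfl
theorem L759878 : sm ga N56925 = N55671 := ded_12_1 (flp_d L746557) (flp_a L746440) L759876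
theorem L759880 : sm gb N56925 = N55697 := ded_20_1 (flp_d L746744) (flp_b L746442) L759876
theorem L759882 : sm gf N56925 = N55673 := ded_35_2 (flp_d L746572) (flp_f L746446) L759876
theorem L759884 : sm gj N56925 = N55681 := ded_37_2 (flp_d L746628) (flp_j L746448) L759876
theorem L759886 : sm gi N56925 = N55662 := ded_39_2 (flp_d L746484) (flp_i L746450) L759876
theorem L759888 : sm ge N56925 = N55695 := ded_34_2 (flp_d L746730) L730376 (flp_d L730053) (flp_e L746444) L759876
theorem L759890 : sm gh N56925 = N55770 := ded_38_2 (flp_d L747221) (flp_h L731024) (flp_d L730035) L746438 L759876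
theorem L759892 : sm gd N55659 = N56926 := rfl
theorem L759894 : sm ga N56926 = N55673 := ded_12_1 (flp_d L746572) (flp_a L746454) L759892
theorem L759896 : sm gb N56926 = N55695 := ded_20_1 (flp_d L746730) (flp_b L746456) L759892
theorem L759898 : sm gf N56926 = N55671 := ded_35_2 (flp_d L746557) (flp_f L746460) L759892
theorem L759900 : sm gj N56926 = N55662 := ded_37_2 (flp_d L746484) (flp_j L746462) L759892
theorem L759902 : sm gi N56926 = N55681 := ded_39_2 (flp_d L746628) (flp_i L746464) L759892
theorem L759904 : sm ge N56926 = N55697 := ded_34_2 (flp_d L746744) L730416 (flp_d L730081) (flp_e L746458) L759892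
theorem L759906 : sm gh N56926 = N55751 := ded_38_2 (flp_d L747077) (flp_h L730860) (flp_d L730063) L746452 L759892
theorem L759908 : sm gd N55660 = N56927 := rfl
theorem L759910 : sm ga N56927 = N55679 := ded_12_1 (flp_d L746620) (flp_a L746468) L759908
theorem L759912 : sm ge N55661 = N56928 := rfl
theorem L759914 : sm ga N56928 = N55680 := ded_13_1 (flp_e L746622) (flp_a L746476) L759912
theorem L759916 : sm gc N56928 = N55699 := ded_28_1 (flp_e L746756) (flp_c L746480) L759912
theorem L759918 : sm gh N56928 = N55665 := ded_43_2 (flp_e L746513) (flp_h L746482) L759912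
theorem L759920 : sm gc N55662 = N56929 := rfl
theorem L759922 : sm ga N56929 = N55682 := ded_11_1 (flp_c L746636) (flp_a L746486) L759920
theorem L759924 : sm ge N56929 = N55700 := ded_28_2 (flp_c L746762) (flp_e L746488) L759920
theorem L759926 : sm gh N56929 = N55752 := ded_32_2 (flp_c L747085) (flp_h L746490) L759920
theorem L759928 : sm gf N55663 = N56930 := rfl
theorem L759930 : sm ga N56930 = N55685 := ded_14_1 (flp_f L746654) (flp_a L746494) L759928
theorem L759932 : sm gc N56930 = N55701 := ded_29_1 (flp_f L746768) (flp_c L746496) L759928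
theorem L759934 : sm gh N56930 = N55666 := ded_47_2 (flp_f L746520) (flp_h L746500) L759928
theorem L759936 : sm ge N55664 = N56931 := rfl
theorem L759938 : sm ga N56931 = N55748 := ded_13_1 L747059 (flp_a L746504) L759936
theorem L759940 : sm gb N56931 = N55665 := ded_21_1 (flp_e L746513) (flp_b L746506) L759936
theorem L759942 : sm gg N56931 = N55702 := ded_41_2 L746779 (flp_g L746510) L759936
theorem L759944 : sm gi N56931 = N56931 := ded_44_2 (flp_e L759936) L746512 L759936
theorem L759945 : sm gf N55665 = N56932 := rfl
theorem L759947 : sm ga N56932 = N55690 := ded_14_1 (flp_f L746685) (flp_a L746515) L759945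
theorem L759949 : sm gc N56932 = N55702 := ded_29_1 (flp_f L746774) (flp_c L746517) L759945
theorem L759951 : sm gi N56932 = N56932 := ded_48_2 (flp_f L759945) L746519 L759945
theorem L759952 : sm ge N56932 = N55666 := ded_40_1 (flp_f L746520) (flp_e L730155) (flp_f L730141) L746513 L759945
theorem L759954 : sm gi N55667 = N56933 := rfl
theorem L759956 : sm gd N56933 = N55676 := ded_39_1 (flp_i L746598) (flp_d L746533) L759954
theorem L759958 : sm ge N56933 = N56933 := ded_44_1 (flp_i L759954) L746530 L759954
theorem L759959 : sm gg N56933 = N55765 := ded_51_1 (flp_i L747182) (flp_g L746531) L759954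
theorem L759961 : sm gh N55668 = N56934 := rfl
theorem L759963 : sm ge N56934 = N56934 := ded_43_1 (flp_h L759961) L746539 L759961
theorem L759964 : sm gd N55669 = N56935 := rfl
theorem L759966 : sm gi N56935 = N55679 := ded_39_2 (flp_d L746620) (flp_i L746546) L759964
theorem L759968 : sm ge N55670 = N56936 := rfl
theorem L759970 : sm gc N56936 = N55708 := ded_28_1 (flp_e L746810) (flp_c L746554) L759968
theorem L759972 : sm gh N56936 = N56936 := ded_43_2 (flp_e L759968) L746556 L759968
theorem L759973 : sm gi N56936 = N55680 := ded_44_2 (flp_e L746622) (flp_i L746552) L759968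
theorem L759975 : sm gc N55671 = N56937 := rfl
theorem L759977 : sm ge N56937 = N55709 := ded_28_2 (flp_c L746815) (flp_e L746561) L759975
theorem L759979 : sm gi N56937 = N55682 := ded_33_2 (flp_c L746636) (flp_i L746559) L759975
theorem L759981 : sm gf N55672 = N56938 := rfl
theorem L759983 : sm gc N56938 = N55711 := ded_29_1 (flp_f L746828) (flp_c L746565) L759981
theorem L759985 : sm gh N56938 = N56938 := ded_47_2 (flp_f L759981) L746569 L759981
theorem L759986 : sm gi N56938 = N55685 := ded_48_2 (flp_f L746654) (flp_i L746570) L759981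
theorem L759988 : sm gc N55673 = N56939 := rfl
theorem L759990 : sm ge N56939 = N55720 := ded_28_2 (flp_c L746889) (flp_e L746576) L759988
theorem L759992 : sm gj N56939 = N55682 := ded_31_2 (flp_c L746636) (flp_j L746574) L759988
theorem L759994 : sm gh N56939 = N55771 := ded_32_2 (flp_c L747229) (flp_h L746578) L759988
theorem L759996 : sm gi N55674 = N56940 := rfl
theorem L759998 : sm gc N56940 = N55760 := ded_33_1 (flp_i L747142) (flp_c L746582) L759996
theorem L760000 : sm ge N56940 = N56940 := ded_44_1 (flp_i L759996) L746584 L759996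
theorem L760001 : sm gf N56940 = N55676 := ded_48_1 (flp_i L746598) (flp_f L746585) L759996
theorem L760003 : sm gg N56940 = N55758 := ded_51_1 (flp_i L747127) (flp_g L746587) L759996
theorem L760005 : sm gh N55675 = N56941 := rfl
theorem L760007 : sm gc N56941 = N55776 := ded_32_1 (flp_h L747272) (flp_c L746591) L760005
theorem L760009 : sm ge N56941 = N56941 := ded_43_1 (flp_h L760005) L746595 L760005
theorem L760010 : sm gf N56941 = N55677 := ded_47_1 (flp_h L746606) (flp_f L746596) L760005
theorem L760012 : sm gh N55676 = N56942 := rfl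
theorem L760014 : sm gc N56942 = N55769 := ded_32_1 (flp_h L747211) (flp_c L746600) L760012
theorem L760016 : sm ge N56942 = N55687 := ded_43_1 (flp_h L746666) (flp_e L746602) L760012
theorem L760018 : sm gg N56942 = N55767 := ded_50_1 (flp_h L747197) (flp_g L746604) L760012
theorem L760020 : sm gi N56942 = N55677 := ded_54_2 (flp_h L746606) (flp_i L730232) L730224 L746598 L760012
theorem L760022 : sm gd N55677 = N56943 := rfl
theorem L760024 : sm gh N56943 = N55679 := ded_38_2 (flp_d L746620) (flp_h L730248) (flp_d L730236) L746606 L760022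
theorem L760026 : sm gd N55678 = N56944 := rfl
theorem L760028 : sm gf N56944 = N55679 := ded_35_2 (flp_d L746620) (flp_f L746618) L760026
theorem L760030 : sm gc N55679 = N56945 := rfl
theorem L760032 : sm gd N56945 = N55682 := ded_27_2 (flp_c L746636) (flp_d L730270) (flp_c L730250) L746620 L760030
theorem L760034 : sm ge N55679 = N56946 := rfl
theorem L760036 : sm gd N56946 = N55680 := ded_34_1 (flp_e L746622) (flp_d L730254) (flp_e L730252) L746620 L760034
theorem L760038 : sm gf N55680 = N56947 := rfl
theorem L760040 : sm gc N56947 = N55733 := ded_29_1 (flp_f L746965) (flp_c L746624) L760038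
theorem L760042 : sm gh N56947 = N55690 := ded_47_2 (flp_f L746685) (flp_h L746626) L760038
theorem L760044 : sm ge N56947 = N55685 := ded_40_1 (flp_f L746654) (flp_e L730287) (flp_f L730256) L746622 L760038
theorem L760046 : sm gc N55681 = N56948 := rfl
theorem L760048 : sm gf N56948 = N55682 := ded_29_2 (flp_c L746636) (flp_f L746632) L760046
theorem L760050 : sm gh N56948 = N55780 := ded_32_2 (flp_c L747289) (flp_h L746634) L760046
theorem L760052 : sm gb N55682 = N56949 := rfl
theorem L760054 : sm ge N56949 = N55737 := ded_21_2 (flp_b L746989) (flp_e L746638) L760052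
theorem L760056 : sm gh N56949 = N55781 := ded_25_2 (flp_b L747293) (flp_h L746640) L760052
theorem L760058 : sm ge N55683 = N56950 := rfl
theorem L760060 : sm gh N56950 = N56950 := ded_43_2 (flp_e L760058) L746646 L760058
theorem L760061 : sm gf N55684 = N56951 := rfl
theorem L760063 : sm gd N56951 = N55685 := ded_35_1 (flp_f L746654) (flp_d L746652) L760061
theorem L760065 : sm gh N56951 = N56951 := ded_47_2 (flp_f L760061) L746651 L760061
theorem L760066 : sm gg N55685 = N56952 := rfl
theorem L760068 : sm gc N56952 = N55739 := ded_30_1 (flp_g L746999) (flp_c L746656) L760066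
theorem L760070 : sm gh N56952 = N55691 := ded_50_2 (flp_g L746692) (flp_h L746658) L760066
theorem L760072 : sm gf N56952 = N55686 := ded_45_1 (flp_g L746660) (flp_f L730305) (flp_g L730291) L746654 L760066
theorem L760074 : sm gd N55687 = N56953 := rfl
theorem L760076 : sm gf N56953 = N56953 := ded_35_2 (flp_d L760074) L746670 L760074
theorem L760077 : sm gg N56953 = N55784 := ded_36_2 (flp_d L747315) (flp_g L746671) L760074
theorem L760079 : sm gi N56953 = N55688 := ded_39_2 (flp_d L746675) (flp_i L746673) L760074
theorem L760081 : sm gh N56953 = N56953 := ded_38_2 (flp_d L760074) (flp_h L746666) L730315 L746666 L760074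
theorem L760082 : sm ge N55688 = N56954 := rfl
theorem L760084 : sm gh N56954 = N55689 := ded_43_2 (flp_e L746680) (flp_h L746678) L760082
theorem L760086 : sm gf N55689 = N56955 := rfl
theorem L760088 : sm gd N56955 = N55690 := ded_35_1 (flp_f L746685) (flp_d L746683) L760086
theorem L760090 : sm gi N56955 = N56955 := ded_48_2 (flp_f L760086) L746682 L760086
theorem L760091 : sm ge N56955 = N56955 := ded_40_1 (flp_f L760086) (flp_e L746680) L730326 L746680 L760086
theorem L760092 : sm gg N55690 = N56956 := rfl
theorem L760094 : sm gc N56956 = N55748 := ded_30_1 (flp_g L747057) (flp_c L746687) L760092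
theorem L760096 : sm ge N56956 = N55691 := ded_41_1 (flp_g L746692) (flp_e L746690) L760092
theorem L760098 : sm gi N56956 = N56956 := ded_51_2 (flp_g L760092) L746689 L760092
theorem L760099 : sm gh N55692 = N56957 := rfl
theorem L760101 : sm ga N56957 = N55706 := ded_17_1 (flp_h L746803) (flp_a L746702) L760099
theorem L760103 : sm ge N56957 = N56957 := ded_43_1 (flp_h L760099) L746706 L760099
theorem L760104 : sm gf N56957 = N55862 := ded_47_1 (flp_h L747860) (flp_f L746707) L760099
theorem L760106 : sm gj N56957 = N55852 := ded_52_1 (flp_h L747783) (flp_j L746709) L760099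
theorem L760108 : sm gd N55693 = N56958 := rfl
theorem L760110 : sm ga N56958 = N55707 := ded_12_1 (flp_d L746806) (flp_a L746713) L760108
theorem L760112 : sm gi N56958 = N55698 := ded_39_2 (flp_d L746752) (flp_i L746719) L760108
theorem L760114 : sm ge N55694 = N56959 := rfl
theorem L760116 : sm ga N56959 = N55708 := ded_13_1 (flp_e L746810) (flp_a L746723) L760114
theorem L760118 : sm gh N56959 = N56959 := ded_43_2 (flp_e L760114) L746729 L760114
theorem L760119 : sm gi N56959 = N55699 := ded_44_2 (flp_e L746756) (flp_i L746727) L760114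
theorem L760121 : sm gc N55695 = N56960 := rfl
theorem L760123 : sm ga N56960 = N55709 := ded_11_1 (flp_c L746815) (flp_a L746732) L760121
theorem L760125 : sm gi N56960 = N55700 := ded_33_2 (flp_c L746762) (flp_i L746734) L760121
theorem L760127 : sm gd N55696 = N56961 := rfl
theorem L760129 : sm ga N56961 = N55715 := ded_12_1 (flp_d L746855) (flp_a L746738) L760127
theorem L760131 : sm gg N56961 = N55697 := ded_36_2 (flp_d L746744) (flp_g L746742) L760127
theorem L760133 : sm gh N56961 = N55794 := ded_38_2 (flp_d L747385) (flp_h L731255) (flp_d L730400) L746736 L760127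
theorem L760135 : sm gc N55697 = N56962 := rfl
theorem L760137 : sm ga N56962 = N55720 := ded_11_1 (flp_c L746889) (flp_a L746746) L760135
theorem L760139 : sm gj N56962 = N55700 := ded_31_2 (flp_c L746762) (flp_j L746748) L760135
theorem L760141 : sm gh N56962 = N55797 := ded_32_2 (flp_c L747405) (flp_h L746750) L760135
theorem L760143 : sm gc N55698 = N56963 := rfl
theorem L760145 : sm ga N56963 = N55731 := ded_11_1 (flp_c L746957) (flp_a L746754) L760143
theorem L760147 : sm gd N56963 = N55700 := ded_27_2 (flp_c L746762) (flp_d L730436) (flp_c L730424) L746752 L760143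
theorem L760149 : sm ge N55698 = N56964 := rfl
theorem L760151 : sm ga N56964 = N55732 := ded_13_1 (flp_e L746961) (flp_a L746754) L760149
theorem L760153 : sm gd N56964 = N55699 := ded_34_1 (flp_e L746756) (flp_d L730428) (flp_e L730426) L746752 L760149
theorem L760155 : sm gf N55699 = N56965 := rfl
theorem L760157 : sm ga N56965 = N55733 := ded_14_1 (flp_f L746965) (flp_a L746758) L760155
theorem L760159 : sm gh N56965 = N55702 := ded_47_2 (flp_f L746774) (flp_h L746760) L760155
theorem L760161 : sm ge N56965 = N55701 := ded_40_1 (flp_f L746768) (flp_e L730442) (flp_f L730432) L746756 L760155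
theorem L760163 : sm gb N55700 = N56966 := rfl
theorem L760165 : sm gh N56966 = N55804 := ded_25_2 (flp_b L747449) (flp_h L746766) L760163
theorem L760167 : sm gd N55703 = N56967 := rfl
theorem L760169 : sm gb N56967 = N55707 := ded_20_1 (flp_d L746806) (flp_b L746783) L760167
theorem L760171 : sm gi N56967 = N55725 := ded_39_2 (flp_d L746923) (flp_i L746787) L760167
theorem L760173 : sm ge N55704 = N56968 := rfl
theorem L760175 : sm gb N56968 = N55708 := ded_21_1 (flp_e L746810) (flp_b L746791) L760173
theorem L760177 : sm gh N56968 = N56968 := ded_43_2 (flp_e L760173) L746797 L760173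
theorem L760178 : sm gi N56968 = N55726 := ded_44_2 (flp_e L746927) (flp_i L746795) L760173
theorem L760180 : sm gh N55705 = N56969 := rfl
theorem L760182 : sm ge N56969 = N56969 := ded_43_1 (flp_h L760180) L746802 L760180
theorem L760183 : sm gi N56969 = N55706 := ded_54_2 (flp_h L746803) (flp_i L730481) L730476 L746798 L760180
theorem L760185 : sm gd N55706 = N56970 := rfl
theorem L760187 : sm gh N56970 = N55707 := ded_38_2 (flp_d L746806) (flp_h L730486) (flp_d L730483) L746803 L760185
theorem L760189 : sm gc N55707 = N56971 := rfl
theorem L760191 : sm gi N56971 = N55731 := ded_33_2 (flp_c L746957) (flp_i L746808) L760189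
theorem L760193 : sm gd N56971 = N55709 := ded_27_2 (flp_c L746815) (flp_d L730501) (flp_c L730488) L746806 L760189
theorem L760195 : sm ge N55707 = N56972 := rfl
theorem L760197 : sm gi N56972 = N55732 := ded_44_2 (flp_e L746961) (flp_i L746808) L760195
theorem L760199 : sm gd N56972 = N55708 := ded_34_1 (flp_e L746810) (flp_d L730494) (flp_e L730490) L746806 L760195
theorem L760201 : sm gf N55708 = N56973 := rfl
theorem L760203 : sm gh N56973 = N56973 := ded_47_2 (flp_f L760201) L746812 L760201
theorem L760204 : sm gi N56973 = N55733 := ded_48_2 (flp_f L746965) (flp_i L746813) L760201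
theorem L760206 : sm ge N56973 = N55711 := ded_40_1 (flp_f L746828) (flp_e L730514) (flp_f L730496) L746810 L760201
theorem L760208 : sm gb N55709 = N56974 := rfl
theorem L760210 : sm gi N56974 = N55737 := ded_26_2 (flp_b L746989) (flp_i L746817) L760208
theorem L760212 : sm gf N55710 = N56975 := rfl
theorem L760214 : sm gb N56975 = N55711 := ded_22_1 (flp_f L746828) (flp_b L746821) L760212
theorem L760216 : sm gh N56975 = N56975 := ded_47_2 (flp_f L760212) L746825 L760212
theorem L760217 : sm gi N56975 = N55738 := ded_48_2 (flp_f L746993) (flp_i L746826) L760212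
theorem L760219 : sm gd N55712 = N56976 := rfl
theorem L760221 : sm gg N56976 = N55718 := ded_36_2 (flp_d L746879) (flp_g L746839) L760219
theorem L760223 : sm ge N55713 = N56977 := rfl
theorem L760225 : sm gc N56977 = N55726 := ded_28_1 (flp_e L746927) (flp_c L746847) L760223
theorem L760227 : sm gg N56977 = N55719 := ded_41_2 (flp_e L746883) (flp_g L746845) L760223
theorem L760229 : sm gh N56977 = N55740 := ded_43_2 (flp_e L747005) (flp_h L746849) L760223
theorem L760231 : sm gd N55714 = N56978 := rfl
theorem L760233 : sm gf N56978 = N55715 := ded_35_2 (flp_d L746855) (flp_f L746853) L760231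
theorem L760235 : sm gh N56978 = N55853 := ded_38_2 (flp_d L747790) (flp_h L731780) (flp_d L730544) L746851 L760231
theorem L760237 : sm gc N55715 = N56979 := rfl
theorem L760239 : sm gg N56979 = N55720 := ded_30_2 (flp_c L746889) (flp_g L746857) L760237
theorem L760241 : sm gh N56979 = N55854 := ded_32_2 (flp_c L747794) (flp_h L746859) L760237
theorem L760243 : sm gd N55716 = N56980 := rfl
theorem L760245 : sm gb N56980 = N55718 := ded_20_1 (flp_d L746879) (flp_b L746863) L760243
theorem L760247 : sm gj N56980 = N55725 := ded_37_2 (flp_d L746923) (flp_j L746867) L760243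
theorem L760249 : sm ge N55717 = N56981 := rfl
theorem L760251 : sm gb N56981 = N55719 := ded_21_1 (flp_e L746883) (flp_b L746871) L760249
theorem L760253 : sm gj N56981 = N55726 := ded_42_2 (flp_e L746927) (flp_j L746875) L760249
theorem L760255 : sm gh N56981 = N55741 := ded_43_2 (flp_e L747012) (flp_h L746877) L760249
theorem L760257 : sm gc N55718 = N56982 := rfl
theorem L760259 : sm gj N56982 = N55731 := ded_31_2 (flp_c L746957) (flp_j L746881) L760257
theorem L760261 : sm gd N56982 = N55720 := ded_27_2 (flp_c L746889) (flp_d L730586) (flp_c L730572) L746879 L760257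
theorem L760263 : sm ge N55718 = N56983 := rfl
theorem L760265 : sm gj N56983 = N55732 := ded_42_2 (flp_e L746961) (flp_j L746881) L760263
theorem L760267 : sm gd N56983 = N55719 := ded_34_1 (flp_e L746883) (flp_d L730578) (flp_e L730574) L746879 L760263
theorem L760269 : sm gb N55720 = N56984 := rfl
theorem L760271 : sm gj N56984 = N55737 := ded_24_2 (flp_b L746989) (flp_j L746891) L760269
theorem L760273 : sm gh N56984 = N55865 := ded_25_2 (flp_b L747878) (flp_h L746893) L760269
theorem L760275 : sm gd N55721 = N56985 := rfl
theorem L760277 : sm ga N56985 = N55725 := ded_12_1 (flp_d L746923) (flp_a L746897) L760275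
theorem L760279 : sm ge N55722 = N56986 := rfl
theorem L760281 : sm ga N56986 = N55726 := ded_13_1 (flp_e L746927) (flp_a L746903) L760279
theorem L760283 : sm gh N56986 = N55742 := ded_43_2 (flp_e L747019) (flp_h L746907) L760279
theorem L760285 : sm gd N55723 = N56987 := rfl
theorem L760287 : sm gb N56987 = N55728 := ded_20_1 (flp_d L746941) (flp_b L746911) L760285
theorem L760289 : sm gh N56987 = N55725 := ded_38_2 (flp_d L746923) (flp_h L730620) (flp_d L730608) L746909 L760285
theorem L760291 : sm gd N55724 = N56988 := rfl
theorem L760293 : sm gb N56988 = N55730 := ded_20_1 (flp_d L746953) (flp_b L746917) L760291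
theorem L760295 : sm gf N56988 = N55725 := ded_35_2 (flp_d L746923) (flp_f L746921) L760291
theorem L760297 : sm gc N55725 = N56989 := rfl
theorem L760299 : sm ge N55725 = N56990 := rfl
theorem L760301 : sm gb N56990 = N55732 := ded_21_1 (flp_e L746961) (flp_b L746925) L760299
theorem L760303 : sm gd N56990 = N55726 := ded_34_1 (flp_e L746927) (flp_d L730626) (flp_e L730624) L746923 L760299
theorem L760305 : sm gf N55726 = N56991 := rfl
theorem L760307 : sm gb N56991 = N55733 := ded_22_1 (flp_f L746965) (flp_b L746929) L760305
theorem L760309 : sm gh N56991 = N55745 := ded_47_2 (flp_f L747039) (flp_h L746931) L760305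
theorem L760311 : sm ge N56991 = N55738 := ded_40_1 (flp_f L746993) (flp_e L730720) (flp_f L730630) L746927 L760305
theorem L760313 : sm gd N55727 = N56992 := rfl
theorem L760315 : sm gi N56992 = N55728 := ded_39_2 (flp_d L746941) (flp_i L746939) L760313
theorem L760317 : sm gc N55728 = N56993 := rfl
theorem L760319 : sm gh N56993 = N55731 := ded_32_2 (flp_c L746957) (flp_h L746943) L760317
theorem L760321 : sm gd N56993 = N55877 := ded_27_2 (flp_c L747950) (flp_d L731949) (flp_c L730642) L746941 L760317
theorem L760323 : sm ge N55728 = N56994 := rfl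
theorem L760325 : sm gh N56994 = N55732 := ded_43_2 (flp_e L746961) (flp_h L746943) L760323
theorem L760327 : sm gd N56994 = N55747 := ded_34_1 (flp_e L747053) (flp_d L730808) (flp_e L730644) L746941 L760323
theorem L760329 : sm gd N55729 = N56995 := rfl
theorem L760331 : sm gg N56995 = N55730 := ded_36_2 (flp_d L746953) (flp_g L746951) L760329
theorem L760333 : sm gc N55730 = N56996 := rfl
theorem L760335 : sm gf N56996 = N55731 := ded_29_2 (flp_c L746957) (flp_f L746955) L760333
theorem L760337 : sm gd N56996 = N55736 := ded_27_2 (flp_c L746983) (flp_d L730682) (flp_c L730656) L746953 L760333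
theorem L760339 : sm ge N55730 = N56997 := rfl
theorem L760341 : sm gj N56997 = N55735 := ded_42_2 (flp_e L748689) L748685 L760339
theorem L760343 : sm gh N56997 = N55885 := ded_43_2 (flp_e L750591) L750593 L760339
theorem L760345 : sm gd N56997 = N55734 := ded_34_1 L746973 (flp_d L730736) (flp_e L730658) L746953 L760339
theorem L760347 : sm gb N55731 = N56998 := rfl
theorem L760349 : sm gd N56998 = N55737 := ded_20_2 (flp_b L746989) (flp_d L746959) L760347
theorem L760351 : sm ge N55731 = N56999 := rfl
theorem L760353 : sm gc N56999 = N55732 := ded_28_1 (flp_e L746961) L746957 L760351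
theorem L760355 : sm gf N55732 = N57000 := rfl
theorem L760357 : sm gd N57000 = N55733 := ded_35_1 (flp_f L746965) (flp_d L746963) L760355
theorem L760359 : sm gg N55733 = N57001 := rfl
theorem L760361 : sm ge N57001 = N55739 := ded_41_1 (flp_g L746999) (flp_e L746969) L760359
theorem L760363 : sm gh N57001 = N55748 := ded_50_2 (flp_g L747057) (flp_h L746967) L760359
theorem L760365 : sm gc N55735 = N57002 := rfl
theorem L760367 : sm gg N57002 = N55736 := ded_30_2 (flp_c L746983) (flp_g L746979) L760365
theorem L760369 : sm gh N57002 = N55886 := ded_32_2 (flp_c L747992) (flp_h L746981) L760365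
theorem L760371 : sm gb N55736 = N57003 := rfl
theorem L760373 : sm gf N57003 = N55737 := ded_22_2 (flp_b L746989) (flp_f L746985) L760371
theorem L760375 : sm gh N57003 = N55887 := ded_25_2 (flp_b L747996) (flp_h L746987) L760371
theorem L760377 : sm ga N55737 = N57004 := rfl
theorem L760379 : sm gh N57004 = N55888 := ded_17_2 (flp_a L748000) (flp_h L746991) L760377
theorem L760381 : sm ge N55743 = N57005 := rfl
theorem L760383 : sm gb N57005 = N55747 := ded_21_1 (flp_e L747053) (flp_b L747026) L760381
theorem L760385 : sm gh N57005 = N55744 := ded_43_2 (flp_e L747032) (flp_h L747030) L760381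
theorem L760387 : sm ge N55746 = N57006 := rfl
theorem L760389 : sm gh N57006 = N57006 := ded_43_2 (flp_e L760387) L747052 L760387
theorem L760390 : sm gi N57006 = N55747 := ded_44_2 (flp_e L747053) (flp_i L747050) L760387
theorem L760392 : sm gh N55749 = N57007 := rfl
theorem L760394 : sm ga N57007 = N55761 := ded_17_1 (flp_h L747151) (flp_a L747064) L760392
theorem L760396 : sm ge N57007 = N57007 := ded_43_1 (flp_h L760392) L747066 L760392
theorem L760397 : sm gf N57007 = N55750 := ded_47_1 (flp_h L747069) (flp_f L747067) L760392
theorem L760399 : sm gd N55750 = N57008 := rfl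
theorem L760401 : sm ga N57008 = N55762 := ded_12_1 (flp_d L747156) (flp_a L747071) L760399
theorem L760403 : sm gg N57008 = N55751 := ded_36_2 (flp_d L747077) (flp_g L747075) L760399
theorem L760405 : sm ge N57008 = N55794 := ded_34_2 (flp_d L747385) L731259 (flp_d L730858) (flp_e L747073) L760399
theorem L760407 : sm gc N55751 = N57009 := rfl
theorem L760409 : sm ga N57009 = N55771 := ded_11_1 (flp_c L747229) (flp_a L747079) L760407
theorem L760411 : sm ge N57009 = N55797 := ded_28_2 (flp_c L747405) (flp_e L747083) L760407
theorem L760413 : sm gj N57009 = N55752 := ded_31_2 (flp_c L747085) (flp_j L747081) L760407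
theorem L760415 : sm gb N55752 = N57010 := rfl
theorem L760417 : sm ge N57010 = N55804 := ded_21_2 (flp_b L747449) (flp_e L747089) L760415
theorem L760419 : sm gc N55753 = N57011 := rfl
theorem L760421 : sm ge N57011 = N55814 := ded_28_2 (flp_c L747511) (flp_e L747093) L760419
theorem L760423 : sm gh N57011 = N55757 := ded_32_2 (flp_c L747121) (flp_h L747095) L760419
theorem L760425 : sm gd N55754 = N57012 := rfl
theorem L760427 : sm gg N57012 = N55755 := ded_36_2 (flp_d L747105) (flp_g L747101) L760425
theorem L760429 : sm gi N57012 = N55762 := ded_39_2 (flp_d L747156) (flp_i L747103) L760425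
theorem L760431 : sm ge N57012 = N55818 := ded_34_2 (flp_d L747539) L731469 (flp_d L730889) (flp_e L747099) L760425
theorem L760433 : sm gc N55755 = N57013 := rfl
theorem L760435 : sm ge N57013 = N55822 := ded_28_2 (flp_c L747567) (flp_e L747111) L760433
theorem L760437 : sm gj N57013 = N55757 := ded_31_2 (flp_c L747121) (flp_j L747107) L760433
theorem L760439 : sm gi N57013 = N55771 := ded_33_2 (flp_c L747229) (flp_i L747109) L760433
theorem L760441 : sm gc N55756 = N57014 := rfl
theorem L760443 : sm gf N57014 = N55757 := ded_29_2 (flp_c L747121) (flp_f L747117) L760441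
theorem L760445 : sm gi N57014 = N55780 := ded_33_2 (flp_c L747289) (flp_i L747119) L760441
theorem L760447 : sm gb N55757 = N57015 := rfl
theorem L760449 : sm ge N57015 = N55842 := ded_21_2 (flp_b L747704) (flp_e L747123) L760447
theorem L760451 : sm gi N57015 = N55781 := ded_26_2 (flp_b L747293) (flp_i L747125) L760447
theorem L760453 : sm gh N55758 = N57016 := rfl
theorem L760455 : sm gc N57016 = N55761 := ded_32_1 (flp_h L747151) (flp_c L747129) L760453
theorem L760457 : sm ge N57016 = N57016 := ded_43_1 (flp_h L760453) L747131 L760453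
theorem L760458 : sm gf N57016 = N55759 := ded_47_1 (flp_h L747134) (flp_f L747132) L760453
theorem L760460 : sm gd N55759 = N57017 := rfl
theorem L760462 : sm gg N57017 = N55768 := ded_36_2 (flp_d L747207) (flp_g L747140) L760460
theorem L760464 : sm gh N55760 = N57018 := rfl
theorem L760466 : sm gb N57018 = N55793 := ded_25_1 (flp_h L747378) (flp_b L747144) L760464
theorem L760468 : sm ge N57018 = N57018 := ded_43_1 (flp_h L760464) L747146 L760464
theorem L760469 : sm gf N57018 = N55769 := ded_47_1 (flp_h L747211) (flp_f L747147) L760464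
theorem L760471 : sm gg N57018 = N55761 := ded_50_1 (flp_h L747151) (flp_g L747149) L760464
theorem L760473 : sm gi N57018 = N55776 := ded_54_2 (flp_h L747272) (flp_i L731079) (flp_h L730942) L747142 L760464
theorem L760475 : sm gd N55761 = N57019 := rfl
theorem L760477 : sm gf N57019 = N55762 := ded_35_2 (flp_d L747156) (flp_f L747154) L760475
theorem L760479 : sm gc N55762 = N57020 := rfl
theorem L760481 : sm ge N57020 = N55854 := ded_28_2 (flp_c L747794) (flp_e L747160) L760479
theorem L760483 : sm gg N57020 = N55771 := ded_30_2 (flp_c L747229) (flp_g L747158) L760479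
theorem L760485 : sm gh N55763 = N57021 := rfl
theorem L760487 : sm gb N57021 = N55767 := ded_25_1 (flp_h L747197) (flp_b L747164) L760485
theorem L760489 : sm gc N57021 = N55795 := ded_32_1 (flp_h L747391) (flp_c L747166) L760485
theorem L760491 : sm ge N57021 = N55782 := ded_43_1 (flp_h L747297) (flp_e L747168) L760485
theorem L760493 : sm gf N57021 = N55764 := ded_47_1 (flp_h L747174) (flp_f L747170) L760485
theorem L760495 : sm gj N57021 = N55774 := ded_52_1 (flp_h L747258) (flp_j L747172) L760485
theorem L760497 : sm gd N55764 = N57022 := rfl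
theorem L760499 : sm gb N57022 = N55768 := ded_20_1 (flp_d L747207) (flp_b L747176) L760497
theorem L760501 : sm gj N57022 = N55775 := ded_37_2 (flp_d L747268) (flp_j L747180) L760497
theorem L760503 : sm gh N55765 = N57023 := rfl
theorem L760505 : sm ge N57023 = N57023 := ded_43_1 (flp_h L760503) L747186 L760503
theorem L760506 : sm gf N57023 = N55766 := ded_47_1 (flp_h L747191) (flp_f L747187) L760503
theorem L760508 : sm gj N57023 = N55776 := ded_52_1 (flp_h L747272) (flp_j L747189) L760503
theorem L760510 : sm gd N55766 = N57024 := rfl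
theorem L760512 : sm gj N57024 = N55777 := ded_37_2 (flp_d L747277) (flp_j L747195) L760510
theorem L760514 : sm gh N57024 = N55768 := ded_38_2 (flp_d L747207) (flp_h L731008) (flp_d L730992) L747191 L760510
theorem L760516 : sm gd N55767 = N57025 := rfl
theorem L760518 : sm gf N57025 = N55768 := ded_35_2 (flp_d L747207) (flp_f L747203) L760516
theorem L760520 : sm gj N57025 = N55778 := ded_37_2 (flp_d L747281) (flp_j L747205) L760516
theorem L760522 : sm gc N55768 = N57026 := rfl
theorem L760524 : sm gj N57026 = N55779 := ded_31_2 (flp_c L747285) (flp_j L747209) L760522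
theorem L760526 : sm gd N57026 = N55771 := ded_27_2 (flp_c L747229) (flp_d L731034) (flp_c L731010) L747207 L760522
theorem L760528 : sm gd N55769 = N57027 := rfl
theorem L760530 : sm gb N57027 = N55794 := ded_20_1 (flp_d L747385) (flp_b L747213) L760528
theorem L760532 : sm gg N57027 = N55770 := ded_36_2 (flp_d L747221) (flp_g L747217) L760528
theorem L760534 : sm gi N57027 = N55777 := ded_39_2 (flp_d L747277) (flp_i L747219) L760528
theorem L760536 : sm gc N55770 = N57028 := rfl
theorem L760538 : sm gf N57028 = N55771 := ded_29_2 (flp_c L747229) (flp_f L747225) L760536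
theorem L760540 : sm gj N57028 = N55780 := ded_31_2 (flp_c L747289) (flp_j L747227) L760536
theorem L760542 : sm gb N55771 = N57029 := rfl
theorem L760544 : sm ge N57029 = N55865 := ded_21_2 (flp_b L747878) (flp_e L747231) L760542
theorem L760546 : sm gj N57029 = N55781 := ded_24_2 (flp_b L747293) (flp_j L747233) L760542
theorem L760548 : sm gh N55772 = N57030 := rfl
theorem L760550 : sm ga N57030 = N55817 := ded_17_1 (flp_h L747532) (flp_a L747237) L760548
theorem L760552 : sm gb N57030 = N55776 := ded_25_1 (flp_h L747272) (flp_b L747239) L760548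
theorem L760554 : sm ge N57030 = N57030 := ded_43_1 (flp_h L760548) L747243 L760548
theorem L760555 : sm gf N57030 = N55773 := ded_47_1 (flp_h L747246) (flp_f L747244) L760548
theorem L760557 : sm gi N57030 = N55793 := ded_54_2 (flp_h L747378) (flp_i L731248) (flp_h L731048) L747235 L760548
theorem L760559 : sm gd N55773 = N57031 := rfl
theorem L760561 : sm ga N57031 = N55818 := ded_12_1 (flp_d L747539) (flp_a L747248) L760559
theorem L760563 : sm gb N57031 = N55777 := ded_20_1 (flp_d L747277) (flp_b L747250) L760559
theorem L760565 : sm gg N57031 = N55790 := ded_36_2 (flp_d L747354) (flp_g L747254) L760559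
theorem L760567 : sm gi N57031 = N55794 := ded_39_2 (flp_d L747385) (flp_i L747256) L760559
theorem L760569 : sm gh N57031 = N55775 := ded_38_2 (flp_d L747268) (flp_h L731073) (flp_d L731057) L747246 L760559
theorem L760571 : sm gd N55774 = N57032 := rfl
theorem L760573 : sm gb N57032 = N55778 := ded_20_1 (flp_d L747281) (flp_b L747260) L760571
theorem L760575 : sm gf N57032 = N55775 := ded_35_2 (flp_d L747268) (flp_f L747266) L760571
theorem L760577 : sm gc N55775 = N57033 := rfl
theorem L760579 : sm gd N55776 = N57034 := rfl
theorem L760581 : sm gf N57034 = N55777 := ded_35_2 (flp_d L747277) (flp_f L747275) L760579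
theorem L760583 : sm gh N57034 = N55778 := ded_38_2 (flp_d L747281) (flp_h L731090) (flp_d L731081) L747272 L760579
theorem L760585 : sm gc N55777 = N57035 := rfl
theorem L760587 : sm gh N57035 = N55779 := ded_32_2 (flp_c L747285) (flp_h L747279) L760585
theorem L760589 : sm gc N55778 = N57036 := rfl
theorem L760591 : sm gf N57036 = N55779 := ded_29_2 (flp_c L747285) (flp_f L747283) L760589
theorem L760593 : sm gd N57036 = N55780 := ded_27_2 (flp_c L747289) (flp_d L731100) (flp_c L731092) L747281 L760589
theorem L760595 : sm ge N55778 = N57037 := rfl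
theorem L760597 : sm gd N57037 = N55786 := ded_34_1 (flp_e L747329) (flp_d L731170) (flp_e L731094) L747281 L760595
theorem L760599 : sm gb N55779 = N57038 := rfl
theorem L760601 : sm gd N57038 = N55781 := ded_20_2 (flp_b L747293) (flp_d L747287) L760599
theorem L760603 : sm gb N55780 = N57039 := rfl
theorem L760605 : sm gf N57039 = N55781 := ded_22_2 (flp_b L747293) (flp_f L747291) L760603
theorem L760607 : sm gc N57039 = N55804 := ded_19_2 (flp_b L747449) (flp_c L731341) (flp_b L731102) L747289 L760603
theorem L760609 : sm ga N55781 = N57040 := rfl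
theorem L760611 : sm ge N57040 = N55888 := ded_13_2 (flp_a L748000) (flp_e L747295) L760609
theorem L760613 : sm gd N55782 = N57041 := rfl
theorem L760615 : sm gb N57041 = N55784 := ded_20_1 (flp_d L747315) (flp_b L747299) L760613
theorem L760617 : sm gf N57041 = N55783 := ded_35_2 (flp_d L747307) (flp_f L747303) L760613
theorem L760619 : sm gj N57041 = N55785 := ded_37_2 (flp_d L747322) (flp_j L747305) L760613
theorem L760621 : sm gh N57041 = N57041 := ded_38_2 (flp_d L760613) (flp_h L747297) L731116 L747297 L760613
theorem L760622 : sm ge N55784 = N57042 := rfl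
theorem L760624 : sm gj N57042 = N55786 := ded_42_2 (flp_e L747329) (flp_j L747319) L760622
theorem L760626 : sm gh N57042 = N57042 := ded_43_2 (flp_e L760622) L747321 L760622
theorem L760627 : sm ge N55785 = N57043 := rfl
theorem L760629 : sm gb N57043 = N55786 := ded_21_1 (flp_e L747329) (flp_b L747324) L760627
theorem L760631 : sm gh N57043 = N57043 := ded_43_2 (flp_e L760627) L747328 L760627
theorem L760632 : sm gd N55787 = N57044 := rfl
theorem L760634 : sm ga N57044 = N55812 := ded_12_1 (flp_d L747505) (flp_a L747334) L760632
theorem L760636 : sm ge N55788 = N57045 := rfl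
theorem L760638 : sm ga N57045 = N55813 := ded_13_1 (flp_e L747507) (flp_a L747342) L760636
theorem L760640 : sm gh N57045 = N55902 := ded_43_2 (flp_e L748107) (flp_h L747346) L760636
theorem L760642 : sm gc N55789 = N57046 := rfl
theorem L760644 : sm ga N57046 = N55814 := ded_11_1 (flp_c L747511) (flp_a L747350) L760642
theorem L760646 : sm gh N57046 = N55791 := ded_32_2 (flp_c L747362) (flp_h L747352) L760642
theorem L760648 : sm gc N55790 = N57047 := rfl
theorem L760650 : sm ga N57047 = N55822 := ded_11_1 (flp_c L747567) (flp_a L747356) L760648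
theorem L760652 : sm gj N57047 = N55791 := ded_31_2 (flp_c L747362) (flp_j L747358) L760648
theorem L760654 : sm gi N57047 = N55797 := ded_33_2 (flp_c L747405) (flp_i L747360) L760648
theorem L760656 : sm gb N55791 = N57048 := rfl
theorem L760658 : sm gi N57048 = N55804 := ded_26_2 (flp_b L747449) (flp_i L747366) L760656
theorem L760660 : sm gd N55792 = N57049 := rfl
theorem L760662 : sm ga N57049 = N55851 := ded_12_1 (flp_d L747779) (flp_a L747370) L760660
theorem L760664 : sm gg N57049 = N55796 := ded_36_2 (flp_d L747399) (flp_g L747376) L760660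
theorem L760666 : sm gd N55793 = N57050 := rfl
theorem L760668 : sm ga N57050 = N55853 := ded_12_1 (flp_d L747790) (flp_a L747380) L760666
theorem L760670 : sm gf N57050 = N55794 := ded_35_2 (flp_d L747385) (flp_f L747383) L760666
theorem L760672 : sm gc N55794 = N57051 := rfl
theorem L760674 : sm ga N57051 = N55854 := ded_11_1 (flp_c L747794) (flp_a L747387) L760672
theorem L760676 : sm gg N57051 = N55797 := ded_30_2 (flp_c L747405) (flp_g L747389) L760672
theorem L760678 : sm gd N55795 = N57052 := rfl
theorem L760680 : sm gb N57052 = N55796 := ded_20_1 (flp_d L747399) (flp_b L747393) L760678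
theorem L760682 : sm gj N57052 = N55800 := ded_37_2 (flp_d L747425) (flp_j L747397) L760678
theorem L760684 : sm gc N55796 = N57053 := rfl
theorem L760686 : sm ga N57053 = N55859 := ded_11_1 (flp_c L747834) (flp_a L747401) L760684
theorem L760688 : sm gj N57053 = N55803 := ded_31_2 (flp_c L747443) (flp_j L747403) L760684
theorem L760690 : sm gd N57053 = N55797 := ded_27_2 (flp_c L747405) (flp_d L731289) (flp_c L731283) L747399 L760684
theorem L760692 : sm gb N55797 = N57054 := rfl
theorem L760694 : sm gj N57054 = N55804 := ded_24_2 (flp_b L747449) (flp_j L747409) L760692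
theorem L760696 : sm gd N55798 = N57055 := rfl
theorem L760698 : sm ga N57055 = N55800 := ded_12_1 (flp_d L747425) (flp_a L747413) L760696
theorem L760700 : sm gb N57055 = N55867 := ded_20_1 (flp_d L747890) (flp_b L747415) L760696
theorem L760702 : sm gd N55799 = N57056 := rfl
theorem L760704 : sm gb N57056 = N55802 := ded_20_1 (flp_d L747437) (flp_b L747421) L760702
theorem L760706 : sm gh N57056 = N55800 := ded_38_2 (flp_d L747425) (flp_h L731319) (flp_d L731315) L747419 L760702
theorem L760708 : sm gc N55800 = N57057 := rfl
theorem L760710 : sm gd N55801 = N57058 := rfl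
theorem L760712 : sm ga N57058 = N55876 := ded_12_1 (flp_d L747946) (flp_a L747431) L760710
theorem L760714 : sm gi N57058 = N55802 := ded_39_2 (flp_d L747437) (flp_i L747435) L760710
theorem L760716 : sm gc N55802 = N57059 := rfl
theorem L760718 : sm ga N57059 = N55877 := ded_11_1 (flp_c L747950) (flp_a L747439) L760716
theorem L760720 : sm gh N57059 = N55803 := ded_32_2 (flp_c L747443) (flp_h L747441) L760716
theorem L760722 : sm gb N55803 = N57060 := rfl
theorem L760724 : sm gd N57060 = N55804 := ded_20_2 (flp_b L747449) (flp_d L747447) L760722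
theorem L760726 : sm ga N55804 = N57061 := rfl
theorem L760728 : sm gb N57061 = N55888 := ded_10_2 (flp_a L748000) (flp_b L732001) (flp_a L731343) L747449 L760726
theorem L760730 : sm gh N55805 = N57062 := rfl
theorem L760732 : sm ga N57062 = N55808 := ded_17_1 (flp_h L747479) (flp_a L747453) L760730
theorem L760734 : sm gb N57062 = N55878 := ded_25_1 (flp_h L747954) (flp_b L747455) L760730
theorem L760736 : sm ge N57062 = N55806 := ded_43_1 (flp_h L747461) (flp_e L747457) L760730
theorem L760738 : sm gj N57062 = N55869 := ded_52_1 (flp_h L747904) (flp_j L747459) L760730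
theorem L760740 : sm gd N55806 = N57063 := rfl
theorem L760742 : sm ga N57063 = N55809 := ded_12_1 (flp_d L747485) (flp_a L747463) L760740
theorem L760744 : sm gb N57063 = N55898 := ded_20_1 (flp_d L748074) (flp_b L747465) L760740
theorem L760746 : sm gf N57063 = N55901 := ded_35_2 (flp_d L748096) (flp_f L747467) L760740
theorem L760748 : sm gj N57063 = N55895 := ded_37_2 (flp_d L748052) (flp_j L747469) L760740
theorem L760750 : sm gh N57063 = N55906 := ded_38_2 (flp_d L748140) (flp_h L732220) (flp_d L731384) L747461 L760740
theorem L760752 : sm gh N55807 = N57064 := rfl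
theorem L760754 : sm gb N57064 = N55811 := ded_25_1 (flp_h L747499) (flp_b L747473) L760752
theorem L760756 : sm ge N57064 = N55907 := ded_43_1 (flp_h L748151) (flp_e L747477) L760752
theorem L760758 : sm gd N55808 = N57065 := rfl
theorem L760760 : sm gb N57065 = N55812 := ded_20_1 (flp_d L747505) (flp_b L747481) L760758
theorem L760762 : sm gc N55809 = N57066 := rfl
theorem L760764 : sm gf N57066 = N55927 := ded_29_2 (flp_c L748286) (flp_f L747489) L760762
theorem L760766 : sm gh N57066 = N55909 := ded_32_2 (flp_c L748162) (flp_h L747491) L760762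
theorem L760768 : sm ge N55809 = N57067 := rfl
theorem L760770 : sm gb N57067 = N55813 := ded_21_1 (flp_e L747507) (flp_b L747487) L760768
theorem L760772 : sm gh N57067 = N55910 := ded_43_2 (flp_e L748168) (flp_h L747491) L760768
theorem L760774 : sm gh N55810 = N57068 := rfl
theorem L760776 : sm gc N57068 = N55833 := ded_32_1 (flp_h L747644) (flp_c L747495) L760774
theorem L760778 : sm ge N57068 = N55911 := ded_43_1 (flp_h L748173) (flp_e L747497) L760774
theorem L760780 : sm gi N57068 = N55811 := ded_54_2 (flp_h L747499) (flp_i L731414) L731408 L747493 L760774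
theorem L760782 : sm gd N55811 = N57069 := rfl
theorem L760784 : sm gh N57069 = N55812 := ded_38_2 (flp_d L747505) (flp_h L731422) (flp_d L731418) L747499 L760782
theorem L760786 : sm gc N55812 = N57070 := rfl
theorem L760788 : sm gd N57070 = N55814 := ded_27_2 (flp_c L747511) (flp_d L731434) (flp_c L731424) L747505 L760786
theorem L760790 : sm ge N55812 = N57071 := rfl
theorem L760792 : sm gd N57071 = N55813 := ded_34_1 (flp_e L747507) (flp_d L731428) (flp_e L731426) L747505 L760790
theorem L760794 : sm gb N55814 = N57072 := rfl
theorem L760796 : sm gh N57072 = N55842 := ded_25_2 (flp_b L747704) (flp_h L747513) L760794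
theorem L760798 : sm gh N55815 = N57073 := rfl
theorem L760800 : sm gc N57073 = N55817 := ded_32_1 (flp_h L747532) (flp_c L747517) L760798
theorem L760802 : sm ge N57073 = N57073 := ded_43_1 (flp_h L760798) L747519 L760798
theorem L760803 : sm gf N57073 = N55816 := ded_47_1 (flp_h L747522) (flp_f L747520) L760798
theorem L760805 : sm gi N57073 = N55850 := ded_54_2 (flp_h L747772) (flp_i L731758) (flp_h L731442) L747515 L760798
theorem L760807 : sm gd N55816 = N57074 := rfl
theorem L760809 : sm gg N57074 = N55821 := ded_36_2 (flp_d L747561) (flp_g L747528) L760807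
theorem L760811 : sm gi N57074 = N55851 := ded_39_2 (flp_d L747779) (flp_i L747530) L760807
theorem L760813 : sm gd N55817 = N57075 := rfl
theorem L760815 : sm gf N57075 = N55818 := ded_35_2 (flp_d L747539) (flp_f L747535) L760813
theorem L760817 : sm gi N57075 = N55853 := ded_39_2 (flp_d L747790) (flp_i L747537) L760813
theorem L760819 : sm gc N55818 = N57076 := rfl
theorem L760821 : sm gg N57076 = N55822 := ded_30_2 (flp_c L747567) (flp_g L747541) L760819
theorem L760823 : sm gi N57076 = N55854 := ded_33_2 (flp_c L747794) (flp_i L747543) L760819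
theorem L760825 : sm gd N55819 = N57077 := rfl
theorem L760827 : sm gb N57077 = N55821 := ded_20_1 (flp_d L747561) (flp_b L747547) L760825
theorem L760829 : sm gj N57077 = N55828 := ded_37_2 (flp_d L747612) (flp_j L747551) L760825
theorem L760831 : sm gi N57077 = N55856 := ded_39_2 (flp_d L747808) (flp_i L747553) L760825
theorem L760833 : sm ge N57077 = N55876 := ded_34_2 (flp_d L747946) L731945 (flp_d L731491) (flp_e L747549) L760825
theorem L760835 : sm gd N55820 = N57078 := rfl
theorem L760837 : sm gj N57078 = N55834 := ded_37_2 (flp_d L747650) (flp_j L747559) L760835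
theorem L760839 : sm gh N57078 = N55821 := ded_38_2 (flp_d L747561) (flp_h L731503) (flp_d L731497) L747555 L760835
theorem L760841 : sm gc N55821 = N57079 := rfl
theorem L760843 : sm gj N57079 = N55838 := ded_31_2 (flp_c L747678) (flp_j L747563) L760841
theorem L760845 : sm gi N57079 = N55859 := ded_33_2 (flp_c L747834) (flp_i L747565) L760841
theorem L760847 : sm gd N57079 = N55822 := ded_27_2 (flp_c L747567) (flp_d L731513) (flp_c L731505) L747561 L760841
theorem L760849 : sm gb N55822 = N57080 := rfl
theorem L760851 : sm gj N57080 = N55842 := ded_24_2 (flp_b L747704) (flp_j L747569) L760849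
theorem L760853 : sm gi N57080 = N55865 := ded_26_2 (flp_b L747878) (flp_i L747571) L760849
theorem L760855 : sm gd N55823 = N57081 := rfl
theorem L760857 : sm ga N57081 = N55828 := ded_12_1 (flp_d L747612) (flp_a L747575) L760855
theorem L760859 : sm gi N57081 = N55867 := ded_39_2 (flp_d L747890) (flp_i L747579) L760855
theorem L760861 : sm gh N55824 = N57082 := rfl
theorem L760863 : sm gc N57082 = N55826 := ded_32_1 (flp_h L747596) (flp_c L747583) L760861
theorem L760865 : sm ge N57082 = N55914 := ded_43_1 (flp_h L748190) (flp_e L747585) L760861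
theorem L760867 : sm gh N55825 = N57083 := rfl
theorem L760869 : sm gb N57083 = N55832 := ded_25_1 (flp_h L747639) (flp_b L747589) L760867
theorem L760871 : sm ge N57083 = N57083 := ded_43_1 (flp_h L760867) L747593 L760867
theorem L760872 : sm gf N57083 = N55826 := ded_47_1 (flp_h L747596) (flp_f L747594) L760867
theorem L760874 : sm gd N55826 = N57084 := rfl
theorem L760876 : sm gb N57084 = N55834 := ded_20_1 (flp_d L747650) (flp_b L747598) L760874
theorem L760878 : sm gh N57084 = N55828 := ded_38_2 (flp_d L747612) (flp_h L731560) (flp_d L731548) L747596 L760874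
theorem L760880 : sm gd N55827 = N57085 := rfl
theorem L760882 : sm gb N57085 = N55837 := ded_20_1 (flp_d L747672) (flp_b L747604) L760880
theorem L760884 : sm gf N57085 = N55828 := ded_35_2 (flp_d L747612) (flp_f L747608) L760880
theorem L760886 : sm gi N57085 = N55870 := ded_39_2 (flp_d L747912) (flp_i L747610) L760880
theorem L760888 : sm gc N55828 = N57086 := rfl
theorem L760890 : sm gi N57086 = N55871 := ded_33_2 (flp_c L747918) (flp_i L747616) L760888
theorem L760892 : sm gi N55829 = N57087 := rfl
theorem L760894 : sm gd N57087 = N55872 := ded_39_1 (flp_i L747920) (flp_d L747623) L760892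
theorem L760896 : sm ge N57087 = N57087 := ded_44_1 (flp_i L760892) L747620 L760892
theorem L760897 : sm gg N57087 = N55831 := ded_51_1 (flp_i L747632) (flp_g L747621) L760892
theorem L760899 : sm gh N55830 = N57088 := rfl
theorem L760901 : sm ge N57088 = N57088 := ded_43_1 (flp_h L760899) L747629 L760899
theorem L760902 : sm gg N57088 = N55832 := ded_50_1 (flp_h L747639) (flp_g L747630) L760899
theorem L760904 : sm gh N55831 = N57089 := rfl
theorem L760906 : sm ge N57089 = N57089 := ded_43_1 (flp_h L760904) L747636 L760904
theorem L760907 : sm gf N57089 = N55833 := ded_47_1 (flp_h L747644) (flp_f L747637) L760904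
theorem L760909 : sm gi N57089 = N55832 := ded_54_2 (flp_h L747639) (flp_i L731580) L731573 L747632 L760904
theorem L760911 : sm gd N55832 = N57090 := rfl
theorem L760913 : sm gf N57090 = N55834 := ded_35_2 (flp_d L747650) (flp_f L747642) L760911
theorem L760915 : sm gh N57090 = N55837 := ded_38_2 (flp_d L747672) (flp_h L731613) (flp_d L731582) L747639 L760911
theorem L760917 : sm gd N55833 = N57091 := rfl
theorem L760919 : sm gi N57091 = N55834 := ded_39_2 (flp_d L747650) (flp_i L747648) L760917
theorem L760921 : sm gh N57091 = N55876 := ded_38_2 (flp_d L747946) (flp_h L731943) (flp_d L731589) L747644 L760917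
theorem L760923 : sm gc N55834 = N57092 := rfl
theorem L760925 : sm gh N57092 = N55838 := ded_32_2 (flp_c L747678) (flp_h L747652) L760923
theorem L760927 : sm gh N55835 = N57093 := rfl
theorem L760929 : sm gc N57093 = N55839 := ded_32_1 (flp_h L747684) (flp_c L747656) L760927
theorem L760931 : sm ge N57093 = N55846 := ded_43_1 (flp_h L747738) (flp_e L747658) L760927
theorem L760933 : sm gj N57093 = N55836 := ded_52_1 (flp_h L747662) (flp_j L747660) L760927
theorem L760935 : sm gi N57093 = N55878 := ded_54_2 (flp_h L747954) (flp_i L731953) (flp_h L731603) L747654 L760927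
theorem L760937 : sm gd N55836 = N57094 := rfl
theorem L760939 : sm gg N57094 = N55837 := ded_36_2 (flp_d L747672) (flp_g L747668) L760937
theorem L760941 : sm gi N57094 = N55879 := ded_39_2 (flp_d L747962) (flp_i L747670) L760937
theorem L760943 : sm gc N55837 = N57095 := rfl
theorem L760945 : sm gf N57095 = N55838 := ded_29_2 (flp_c L747678) (flp_f L747674) L760943
theorem L760947 : sm gi N57095 = N55880 := ded_33_2 (flp_c L747966) (flp_i L747676) L760943
theorem L760949 : sm gd N57095 = N55841 := ded_27_2 (flp_c L747698) (flp_d L731641) (flp_c L731615) L747672 L760943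
theorem L760951 : sm ge N55837 = N57096 := rfl
theorem L760953 : sm gi N57096 = N55881 := ded_44_2 (flp_e L747972) (flp_i L747676) L760951
theorem L760955 : sm gd N57096 = N55848 := ded_34_1 (flp_e L747757) (flp_d L731719) (flp_e L731617) L747672 L760951
theorem L760957 : sm gb N55838 = N57097 := rfl
theorem L760959 : sm gd N57097 = N55842 := ded_20_2 (flp_b L747704) (flp_d L747682) L760957
theorem L760961 : sm gi N57097 = N55882 := ded_26_2 (flp_b L747976) (flp_i L747680) L760957
theorem L760963 : sm gd N55839 = N57098 := rfl
theorem L760965 : sm gj N57098 = N55840 := ded_37_2 (flp_d L747692) (flp_j L747688) L760963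
theorem L760967 : sm gi N57098 = N55885 := ded_39_2 (flp_d L747988) (flp_i L747690) L760963
theorem L760969 : sm gc N55840 = N57099 := rfl
theorem L760971 : sm gg N57099 = N55841 := ded_30_2 (flp_c L747698) (flp_g L747694) L760969
theorem L760973 : sm gi N57099 = N55886 := ded_33_2 (flp_c L747992) (flp_i L747696) L760969
theorem L760975 : sm gb N55841 = N57100 := rfl
theorem L760977 : sm gf N57100 = N55842 := ded_22_2 (flp_b L747704) (flp_f L747700) L760975
theorem L760979 : sm gi N57100 = N55887 := ded_26_2 (flp_b L747996) (flp_i L747702) L760975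
theorem L760981 : sm ga N55842 = N57101 := rfl
theorem L760983 : sm gi N57101 = N55888 := ded_18_2 (flp_a L748000) (flp_i L747706) L760981
theorem L760985 : sm gc N55843 = N57102 := rfl
theorem L760987 : sm ge N57102 = N55849 := ded_28_2 L747769 (flp_e L747717) L760985
theorem L760989 : sm gg N57102 = N57102 := ded_30_2 (flp_c L760985) L747712 L760985
theorem L760990 : sm gj N57102 = N55845 := ded_31_2 (flp_c L747729) (flp_j L747713) L760985
theorem L760992 : sm gh N57102 = N57102 := ded_32_2 (flp_c L760985) L747719 L760985
theorem L760993 : sm gi N57102 = N55891 := ded_33_2 (flp_c L748020) (flp_i L747715) L760985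
theorem L760995 : sm gd N57102 = N55927 := ded_27_2 (flp_c L748286) (flp_d L732470) (flp_c L731666) L747708 L760985
theorem L760997 : sm gc N55844 = N57103 := rfl
theorem L760999 : sm gf N57103 = N55845 := ded_29_2 (flp_c L747729) (flp_f L747724) L760997
theorem L761001 : sm gh N57103 = N57103 := ded_32_2 (flp_c L760997) L747728 L760997
theorem L761002 : sm gi N57103 = N55896 := ded_33_2 (flp_c L748062) (flp_i L747726) L760997
theorem L761004 : sm ge N55844 = N57104 := rfl
theorem L761006 : sm gb N57104 = N55848 := ded_21_1 (flp_e L747757) (flp_b L747722) L761004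
theorem L761008 : sm gh N57104 = N57104 := ded_43_2 (flp_e L761004) L747728 L761004
theorem L761009 : sm gi N57104 = N55897 := ded_44_2 (flp_e L748068) (flp_i L747726) L761004
theorem L761011 : sm gd N55846 = N57105 := rfl
theorem L761013 : sm gf N57105 = N55849 := ded_35_2 (flp_d L747762) (flp_f L747742) L761011
theorem L761015 : sm gj N57105 = N55847 := ded_37_2 (flp_d L747748) (flp_j L747744) L761011
theorem L761017 : sm gi N57105 = N55898 := ded_39_2 (flp_d L748074) (flp_i L747746) L761011
theorem L761019 : sm gc N57105 = N55919 := ded_27_1 (flp_d L748228) (flp_c L735110) L735116 (flp_c L747740) L761011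
theorem L761021 : sm gh N57105 = N57105 := ded_38_2 (flp_d L761011) (flp_h L747738) L731704 L747738 L761011
theorem L761022 : sm ge N55847 = N57106 := rfl
theorem L761024 : sm gg N57106 = N55848 := ded_41_2 (flp_e L747757) (flp_g L747752) L761022
theorem L761026 : sm gh N57106 = N57106 := ded_43_2 (flp_e L761022) L747756 L761022
theorem L761027 : sm gi N57106 = N55899 := ded_44_2 (flp_e L748084) (flp_i L747754) L761022
theorem L761029 : sm gd N55850 = N57107 := rfl
theorem L761031 : sm gf N57107 = N55851 := ded_35_2 (flp_d L747779) (flp_f L747777) L761029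
theorem L761033 : sm gc N55851 = N57108 := rfl
theorem L761035 : sm gg N57108 = N55859 := ded_30_2 (flp_c L747834) (flp_g L747781) L761033
theorem L761037 : sm gd N57108 = N55854 := ded_27_2 (flp_c L747794) (flp_d L731785) (flp_c L731767) L747779 L761033
theorem L761039 : sm gd N55852 = N57109 := rfl
theorem L761041 : sm gf N57109 = N55863 := ded_35_2 (flp_d L747868) (flp_f L747786) L761039
theorem L761043 : sm gg N57109 = N55853 := ded_36_2 (flp_d L747790) (flp_g L747788) L761039
theorem L761045 : sm gc N55853 = N57110 := rfl
theorem L761047 : sm gf N57110 = N55854 := ded_29_2 (flp_c L747794) (flp_f L747792) L761045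
theorem L761049 : sm ge N55853 = N57111 := rfl
theorem L761051 : sm gd N57111 = N57111 := ded_34_1 (flp_e L761049) (flp_d L747790) L731782 L747790 L761049
theorem L761052 : sm gb N55854 = N57112 := rfl
theorem L761054 : sm gg N57112 = N55865 := ded_23_2 (flp_b L747878) (flp_g L747796) L761052
theorem L761056 : sm gd N55855 = N57113 := rfl
theorem L761058 : sm gb N57113 = N55858 := ded_20_1 (flp_d L747828) (flp_b L747800) L761056
theorem L761060 : sm gf N57113 = N55856 := ded_35_2 (flp_d L747808) (flp_f L747804) L761056
theorem L761062 : sm gj N57113 = N55870 := ded_37_2 (flp_d L747912) (flp_j L747806) L761056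
theorem L761064 : sm gh N57113 = N55884 := ded_38_2 L747986 L731983 (flp_d L731793) L747798 L761056
theorem L761066 : sm gc N55856 = N57114 := rfl
theorem L761068 : sm ge N57114 = N55877 := ded_28_2 (flp_c L747950) (flp_e L747814) L761066
theorem L761070 : sm gj N57114 = N55871 := ded_31_2 (flp_c L747918) (flp_j L747812) L761066
theorem L761072 : sm gh N57114 = N55883 := ded_32_2 L747982 (flp_h L747816) L761066
theorem L761074 : sm gc N55857 = N57115 := rfl
theorem L761076 : sm ge N57115 = N55871 := ded_28_2 (flp_c L747918) (flp_e L747824) L761074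
theorem L761078 : sm gj N57115 = N55877 := ded_31_2 (flp_c L747950) (flp_j L747822) L761074
theorem L761080 : sm gh N57115 = N55859 := ded_32_2 (flp_c L747834) (flp_h L747826) L761074
theorem L761082 : sm gc N55858 = N57116 := rfl
theorem L761084 : sm gf N57116 = N55859 := ded_29_2 (flp_c L747834) (flp_f L747830) L761082
theorem L761086 : sm gj N57116 = N55880 := ded_31_2 (flp_c L747966) (flp_j L747832) L761082
theorem L761088 : sm gd N57116 = N55864 := ded_27_2 (flp_c L747872) (flp_d L731853) (flp_c L731819) L747828 L761082
theorem L761090 : sm ge N55858 = N57117 := rfl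
theorem L761092 : sm gj N57117 = N55881 := ded_42_2 (flp_e L747972) (flp_j L747832) L761090
theorem L761094 : sm gd N57117 = N55892 := ded_34_1 (flp_e L748029) (flp_d L732041) (flp_e L731821) L747828 L761090
theorem L761096 : sm gb N55859 = N57118 := rfl
theorem L761098 : sm gd N57118 = N55865 := ded_20_2 (flp_b L747878) (flp_d L747838) L761096
theorem L761100 : sm gj N57118 = N55882 := ded_24_2 (flp_b L747976) (flp_j L747836) L761096
theorem L761102 : sm ge N55859 = N57119 := rfl
theorem L761104 : sm gc N57119 = N55860 := ded_28_1 (flp_e L747840) L747834 L761102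
theorem L761106 : sm gj N57119 = N55883 := ded_42_2 (flp_e L747980) (flp_j L747836) L761102
theorem L761108 : sm gh N57119 = N55871 := ded_43_2 (flp_e L761076) L761080 L761102
theorem L761110 : sm gf N55860 = N57120 := rfl
theorem L761112 : sm gb N57120 = N55875 := ded_22_1 L747942 (flp_b L747842) L761110
theorem L761114 : sm gd N57120 = N55861 := ded_35_1 (flp_f L747850) (flp_d L747848) L761110
theorem L761116 : sm gj N57120 = N55884 := ded_46_2 (flp_f L747984) (flp_j L747844) L761110
theorem L761118 : sm gh N57120 = N55870 := ded_47_2 L747916 (flp_h L747846) L761110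
theorem L761120 : sm gg N55861 = N57121 := rfl
theorem L761122 : sm gb N57121 = N55873 := ded_23_1 L747930 (flp_b L747852) L761120
theorem L761124 : sm ge N57121 = N55894 := ded_41_1 (flp_g L748045) (flp_e L747858) L761120
theorem L761126 : sm gh N57121 = N55868 := ded_50_2 L747902 (flp_h L747856) L761120
theorem L761128 : sm gd N55862 = N57122 := rfl
theorem L761130 : sm gg N57122 = N55885 := ded_36_2 (flp_d L747988) (flp_g L747864) L761128
theorem L761132 : sm gj N57122 = N55863 := ded_37_2 (flp_d L747868) (flp_j L747866) L761128
theorem L761134 : sm gc N55863 = N57123 := rfl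
theorem L761136 : sm gg N57123 = N55864 := ded_30_2 (flp_c L747872) (flp_g L747870) L761134
theorem L761138 : sm gb N55864 = N57124 := rfl
theorem L761140 : sm gf N57124 = N55865 := ded_22_2 (flp_b L747878) (flp_f L747874) L761138
theorem L761142 : sm gj N57124 = N55887 := ded_24_2 (flp_b L747996) (flp_j L747876) L761138
theorem L761144 : sm ga N55865 = N57125 := rfl
theorem L761146 : sm gj N57125 = N55888 := ded_16_2 (flp_a L748000) (flp_j L747880) L761144
theorem L761148 : sm gd N55866 = N57126 := rfl
theorem L761150 : sm ga N57126 = N55870 := ded_12_1 (flp_d L747912) (flp_a L747884) L761148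
theorem L761152 : sm gf N57126 = N55867 := ded_35_2 (flp_d L747890) (flp_f L747888) L761148
theorem L761154 : sm gc N55867 = N57127 := rfl
theorem L761156 : sm ga N57127 = N55871 := ded_11_1 (flp_c L747918) (flp_a L747892) L761154
theorem L761158 : sm gd N55869 = N57128 := rfl
theorem L761160 : sm gb N57128 = N55879 := ded_20_1 (flp_d L747962) (flp_b L747906) L761158
theorem L761162 : sm gg N57128 = N55870 := ded_36_2 (flp_d L747912) (flp_g L747910) L761158
theorem L761164 : sm gc N55870 = N57129 := rfl
theorem L761166 : sm gf N57129 = N55871 := ded_29_2 (flp_c L747918) (flp_f L747916) L761164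
theorem L761168 : sm ge N55870 = N57130 := rfl
theorem L761170 : sm gb N57130 = N55881 := ded_21_1 (flp_e L747972) (flp_b L747914) L761168
theorem L761172 : sm gd N57130 = N55897 := ded_34_1 (flp_e L748068) (flp_d L732089) (flp_e L731909) L747912 L761168
theorem L761174 : sm gb N55871 = N57131 := rfl
theorem L761176 : sm gc N57131 = N55882 := ded_19_2 (flp_b L747976) (flp_c L731973) (flp_b L731915) L747918 L761174
theorem L761178 : sm gh N55872 = N57132 := rfl
theorem L761180 : sm ge N57132 = N55917 := ded_43_1 (flp_h L748214) (flp_e L747922) L761178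
theorem L761182 : sm gg N57132 = N55874 := ded_50_1 (flp_h L747932) (flp_g L747924) L761178
theorem L761184 : sm gi N57132 = N55873 := ded_54_2 (flp_h L747926) (flp_i L731923) L731917 L747920 L761178
theorem L761186 : sm gd N55873 = N57133 := rfl
theorem L761188 : sm gg N57133 = N55875 := ded_36_2 (flp_d L747940) (flp_g L747930) L761186
theorem L761190 : sm gh N57133 = N55879 := ded_38_2 (flp_d L747962) (flp_h L731961) (flp_d L731925) L747926 L761186
theorem L761192 : sm gd N55874 = N57134 := rfl
theorem L761194 : sm gf N57134 = N55876 := ded_35_2 (flp_d L747946) (flp_f L747936) L761192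
theorem L761196 : sm gi N57134 = N55875 := ded_39_2 (flp_d L747940) (flp_i L747938) L761192
theorem L761198 : sm gc N55875 = N57135 := rfl
theorem L761200 : sm gf N57135 = N55877 := ded_29_2 (flp_c L747950) (flp_f L747942) L761198
theorem L761202 : sm gh N57135 = N55880 := ded_32_2 (flp_c L747966) (flp_h L747944) L761198
theorem L761204 : sm ge N55875 = N57136 := rfl
theorem L761206 : sm gh N57136 = N55881 := ded_43_2 (flp_e L747972) (flp_h L747944) L761204
theorem L761208 : sm gd N57136 = N55920 := ded_34_1 (flp_e L748235) (flp_d L732368) (flp_e L731939) L747940 L761204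
theorem L761210 : sm gc N55876 = N57137 := rfl
theorem L761212 : sm gi N57137 = N55877 := ded_33_2 (flp_c L747950) (flp_i L747948) L761210
theorem L761214 : sm gb N55877 = N57138 := rfl
theorem L761216 : sm gh N57138 = N55882 := ded_25_2 (flp_b L747976) (flp_h L747952) L761214
theorem L761218 : sm gd N55878 = N57139 := rfl
theorem L761220 : sm gj N57139 = N55879 := ded_37_2 (flp_d L747962) (flp_j L747960) L761218
theorem L761222 : sm gc N55879 = N57140 := rfl
theorem L761224 : sm gg N57140 = N55880 := ded_30_2 (flp_c L747966) (flp_g L747964) L761222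
theorem L761226 : sm gd N57140 = N55886 := ded_27_2 (flp_c L747992) (flp_d L731993) (flp_c L731963) L747962 L761222
theorem L761228 : sm ge N55879 = N57141 := rfl
theorem L761230 : sm gg N57141 = N55881 := ded_41_2 (flp_e L747972) (flp_g L747964) L761228
theorem L761232 : sm gd N57141 = N55899 := ded_34_1 (flp_e L748084) (flp_d L732113) (flp_e L731965) L747962 L761228
theorem L761234 : sm gb N55880 = N57142 := rfl
theorem L761236 : sm gd N57142 = N55887 := ded_20_2 (flp_b L747996) (flp_d L747970) L761234
theorem L761238 : sm gf N57142 = N55882 := ded_22_2 (flp_b L747976) (flp_f L747968) L761234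
theorem L761240 : sm ge N55880 = N57143 := rfl
theorem L761242 : sm gc N57143 = N55881 := ded_28_1 (flp_e L747972) L747966 L761240
theorem L761244 : sm gf N55881 = N57144 := rfl
theorem L761246 : sm gd N57144 = N55900 := ded_35_1 (flp_f L748090) (flp_d L747974) L761244
theorem L761248 : sm ge N57144 = N55884 := ded_40_1 (flp_f L747984) (flp_e L731977) (flp_f L731971) L747972 L761244
theorem L761250 : sm ga N55882 = N57145 := rfl
theorem L761252 : sm gd N57145 = N55888 := ded_12_2 (flp_a L748000) (flp_d L747978) L761250
theorem L761254 : sm ge N55882 = N57146 := rfl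
theorem L761256 : sm gb N57146 = N55883 := ded_21_1 (flp_e L747980) L747976 L761254
theorem L761258 : sm gf N55883 = N57147 := rfl
theorem L761260 : sm gc N57147 = N55884 := ded_29_1 (flp_f L747984) (flp_c L747982) L761258
theorem L761262 : sm gc N55885 = N57148 := rfl
theorem L761264 : sm gj N57148 = N55886 := ded_31_2 (flp_c L747992) (flp_j L747990) L761262
theorem L761266 : sm gb N55886 = N57149 := rfl
theorem L761268 : sm gg N57149 = N55887 := ded_23_2 (flp_b L747996) (flp_g L747994) L761266
theorem L761270 : sm ga N55887 = N57150 := rfl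
theorem L761272 : sm gf N57150 = N55888 := ded_14_2 (flp_a L748000) (flp_f L747998) L761270
theorem L761274 : sm gc N55890 = N57151 := rfl
theorem L761276 : sm gf N57151 = N55891 := ded_29_2 (flp_c L748020) (flp_f L748014) L761274
theorem L761278 : sm gj N57151 = N55896 := ded_31_2 (flp_c L748062) (flp_j L748016) L761274
theorem L761280 : sm gh N57151 = N55924 := ded_32_2 L748266 (flp_h L748018) L761274
theorem L761282 : sm ge N55890 = N57152 := rfl
theorem L761284 : sm gb N57152 = N55892 := ded_21_1 (flp_e L748029) (flp_b L748012) L761282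
theorem L761286 : sm gj N57152 = N55897 := ded_42_2 (flp_e L748068) (flp_j L748016) L761282
theorem L761288 : sm gh N57152 = N55923 := ded_43_2 L748262 (flp_h L748018) L761282
theorem L761290 : sm gf N57152 = N55920 := ded_40_2 (flp_e L748235) L732370 (flp_e L732037) (flp_f L748014) L761282
theorem L761292 : sm gf N55892 = N57153 := rfl
theorem L761294 : sm gb N57153 = N55920 := ded_22_1 (flp_f L761290) L761284 L761292
theorem L761296 : sm gj N57153 = N55900 := ded_46_2 (flp_f L748090) (flp_j L748031) L761292
theorem L761298 : sm gh N57153 = N55916 := ded_47_2 L748212 (flp_h L748033) L761292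
theorem L761300 : sm ge N57153 = N55893 := ded_40_1 (flp_f L748035) (flp_e L732049) (flp_f L732043) L748029 L761292
theorem L761302 : sm gg N55893 = N57154 := rfl
theorem L761304 : sm gb N57154 = N55918 := ded_23_1 L748224 (flp_b L748037) L761302
theorem L761306 : sm gd N57154 = N55894 := ded_36_1 (flp_g L748045) (flp_d L748039) L761302
theorem L761308 : sm gh N57154 = N55915 := ded_50_2 L748200 (flp_h L748043) L761302
theorem L761310 : sm gf N57154 = N57154 := ded_45_1 (flp_g L761302) (flp_f L748035) L732053 L748035 L761302
theorem L761311 : sm ge N55895 = N57155 := rfl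
theorem L761313 : sm gb N57155 = N55899 := ded_21_1 (flp_e L748084) (flp_b L748054) L761311
theorem L761315 : sm gg N57155 = N55897 := ded_41_2 (flp_e L748068) (flp_g L748058) L761311
theorem L761317 : sm gh N57155 = N55925 := ded_43_2 (flp_e L748272) (flp_h L748060) L761311
theorem L761319 : sm ge N55896 = N57156 := rfl
theorem L761321 : sm gc N57156 = N55897 := ded_28_1 (flp_e L748068) L748062 L761319
theorem L761323 : sm gh N57156 = N55926 := ded_43_2 (flp_e L748279) (flp_h L748066) L761319
theorem L761325 : sm gf N57156 = N55899 := ded_40_2 (flp_e L748084) L732115 (flp_e L732099) (flp_f L748064) L761319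
theorem L761327 : sm ge N55898 = N57157 := rfl
theorem L761329 : sm gc N57157 = N55920 := ded_28_1 (flp_e L748235) (flp_c L748080) L761327
theorem L761331 : sm gj N57157 = N55899 := ded_42_2 (flp_e L748084) (flp_j L748078) L761327
theorem L761333 : sm gh N57157 = N55922 := ded_43_2 (flp_e L748246) (flp_h L748082) L761327
theorem L761335 : sm gd N55904 = N57158 := rfl
theorem L761337 : sm gf N57158 = N57158 := ded_35_2 (flp_d L761335) L748131 L761335
theorem L761338 : sm gj N57158 = N55912 := ded_37_2 (flp_d L748180) (flp_j L748132) L761335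
theorem L761340 : sm gh N57158 = N55905 := ded_38_2 (flp_d L748134) (flp_h L732210) (flp_d L732205) L748127 L761335
theorem L761342 : sm ge N55906 = N57159 := rfl
theorem L761344 : sm ga N57159 = N55910 := ded_13_1 (flp_e L748168) (flp_a L748142) L761342
theorem L761346 : sm gb N57159 = N55922 := ded_21_1 (flp_e L748246) (flp_b L748144) L761342
theorem L761348 : sm gj N57159 = N55925 := ded_42_2 (flp_e L748272) (flp_j L748148) L761342
theorem L761350 : sm gi N57159 = N57159 := ded_44_2 (flp_e L761342) L748150 L761342
theorem L761351 : sm gd N55907 = N57160 := rfl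
theorem L761353 : sm gb N57160 = N55912 := ded_20_1 (flp_d L748180) (flp_b L748153) L761351
theorem L761355 : sm gf N57160 = N57160 := ded_35_2 (flp_d L761351) L748155 L761351
theorem L761356 : sm gh N57160 = N55908 := ded_38_2 (flp_d L748156) (flp_h L732239) (flp_d L732236) L748151 L761351
theorem L761358 : sm ge N55908 = N57161 := rfl
theorem L761360 : sm gb N57161 = N55913 := ded_21_1 (flp_e L748185) (flp_b L748158) L761358
theorem L761362 : sm gi N57161 = N57161 := ded_44_2 (flp_e L761358) L748161 L761358
theorem L761363 : sm gd N57161 = N55910 := ded_34_1 (flp_e L748168) (flp_d L732248) (flp_e L732244) L748156 L761358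
theorem L761365 : sm ge N55909 = N57162 := rfl
theorem L761367 : sm gc N57162 = N55910 := ded_28_1 (flp_e L748168) L748162 L761365
theorem L761369 : sm gi N57162 = N57162 := ded_44_2 (flp_e L761365) L748166 L761365
theorem L761370 : sm gd N55911 = N57163 := rfl
theorem L761372 : sm gf N57163 = N57163 := ded_35_2 (flp_d L761370) L748177 L761370
theorem L761373 : sm gi N57163 = N55912 := ded_39_2 (flp_d L748180) (flp_i L748178) L761370
theorem L761375 : sm gh N57163 = N57163 := ded_38_2 (flp_d L761370) (flp_h L748173) L732259 L748173 L761370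
theorem L761376 : sm ge N55912 = N57164 := rfl
theorem L761378 : sm gh N57164 = N55913 := ded_43_2 (flp_e L748185) (flp_h L748183) L761376
theorem L761380 : sm gd N55914 = N57165 := rfl
theorem L761382 : sm gf N57165 = N57165 := ded_35_2 (flp_d L761380) L748194 L761380
theorem L761383 : sm gh N57165 = N57165 := ded_38_2 (flp_d L761380) (flp_h L748190) L732282 L748190 L761380
theorem L761384 : sm ge N55915 = N57166 := rfl
theorem L761386 : sm gb N57166 = N55921 := ded_21_1 (flp_e L748239) (flp_b L748197) L761384
theorem L761388 : sm gg N57166 = N55916 := ded_41_2 (flp_e L748203) (flp_g L748200) L761384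
theorem L761390 : sm gi N57166 = N57166 := ded_44_2 (flp_e L761384) L748202 L761384
theorem L761391 : sm gd N57166 = N55925 := ded_34_1 (flp_e L748272) (flp_d L732433) (flp_e L732336) L748195 L761384
theorem L761393 : sm gd N55917 = N57167 := rfl
theorem L761395 : sm gf N57167 = N57167 := ded_35_2 (flp_d L761393) L748216 L761393
theorem L761396 : sm gg N57167 = N55919 := ded_36_2 (flp_d L748228) (flp_g L748217) L761393
theorem L761398 : sm gi N57167 = N55918 := ded_39_2 (flp_d L748221) (flp_i L748219) L761393
theorem L761400 : sm gh N57167 = N57167 := ded_38_2 (flp_d L761393) (flp_h L748214) L732353 L748214 L761393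
theorem L761401 : sm ge N55918 = N57168 := rfl
theorem L761403 : sm gg N57168 = N55920 := ded_41_2 (flp_e L748235) (flp_g L748224) L761401
theorem L761405 : sm gh N57168 = N55921 := ded_43_2 (flp_e L748239) (flp_h L748226) L761401
theorem L761407 : sm ge N55919 = N57169 := rfl
theorem L761409 : sm gh N57169 = N57169 := ded_43_2 (flp_e L761407) L748234 L761407
theorem L761410 : sm gi N57169 = N55920 := ded_44_2 (flp_e L748235) (flp_i L748232) L761407
theorem L761412 : sm gf N55921 = N57170 := rfl
theorem L761414 : sm gd N57170 = N55926 := ded_35_1 L748284 (flp_d L748244) L761412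
theorem L761416 : sm gi N57170 = N57170 := ded_48_2 (flp_f L761412) L748243 L761412
theorem L761417 : sm ge N57170 = N57170 := ded_40_1 (flp_f L761412) (flp_e L748239) L732382 L748239 L761412
theorem L761418 : sm gf N55922 = N57171 := rfl
theorem L761420 : sm gc N57171 = N55923 := ded_29_1 (flp_f L748253) (flp_c L748248) L761418
theorem L761422 : sm gj N57171 = N55926 := ded_46_2 L748284 (flp_j L748250) L761418
theorem L761424 : sm gi N57171 = N57171 := ded_48_2 (flp_f L761418) L748252 L761418
theorem L761425 : sm ge N57171 = N55924 := ded_40_1 (flp_f L748264) (flp_e L732410) (flp_f L732388) L748246 L761418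
theorem L761427 : sm gh N55931 = N57172 := rfl
theorem L761429 : sm ga N57172 = N56388 := ded_17_1 (flp_h L754682) (flp_a L748352) L761427
theorem L761431 : sm gb N57172 = N56271 := ded_25_1 (flp_h L753199) (flp_b L748354) L761427
theorem L761433 : sm gc N57172 = N56426 := ded_32_1 (flp_h L755057) (flp_c L748356) L761427
theorem L761435 : sm ge N57172 = N55933 := ded_43_1 (flp_h L748384) (flp_e L748360) L761427
theorem L761437 : sm gf N57172 = N55932 := ded_47_1 (flp_h L748368) (flp_f L748362) L761427
theorem L761439 : sm gg N57172 = N56325 := ded_50_1 (flp_h L753929) (flp_g L748364) L761427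
theorem L761441 : sm gj N57172 = N56421 := ded_52_1 (flp_h L755025) (flp_j L748366) L761427
theorem L761443 : sm gi N57172 = N55939 := ded_54_2 (flp_h L748485) (flp_i L732882) (flp_h L732692) L748350 L761427
theorem L761445 : sm gd N55932 = N57173 := rfl
theorem L761447 : sm ga N57173 = N56751 := ded_12_1 (flp_d L758345) (flp_a L748370) L761445
theorem L761449 : sm gb N57173 = N56272 := ded_20_1 (flp_d L753207) (flp_b L748372) L761445
theorem L761451 : sm gg N57173 = N56745 := ded_36_2 (flp_d L758269) (flp_g L748378) L761445
theorem L761453 : sm gj N57173 = N56995 := ded_37_2 (flp_d L760329) (flp_j L748380) L761445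
theorem L761455 : sm gi N57173 = N55940 := ded_39_2 (flp_d L748497) (flp_i L748382) L761445
theorem L761457 : sm ge N57173 = N55954 := ded_34_2 (flp_d L748729) L733292 (flp_d L732728) (flp_e L748376) L761445
theorem L761459 : sm gh N57173 = N56791 := ded_38_2 (flp_d L758759) (flp_h L745102) (flp_d L732706) L748368 L761445
theorem L761461 : sm gd N55933 = N57174 := rfl
theorem L761463 : sm ga N57174 = N56395 := ded_12_1 (flp_d L754753) (flp_a L748386) L761461
theorem L761465 : sm gb N57174 = N56276 := ded_20_1 (flp_d L753265) (flp_b L748388) L761461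
theorem L761467 : sm gf N57174 = N55934 := ded_35_2 (flp_d L748400) (flp_f L748392) L761461
theorem L761469 : sm gg N57174 = N56330 := ded_36_2 (flp_d L753999) (flp_g L748394) L761461
theorem L761471 : sm gj N57174 = N56436 := ded_37_2 (flp_d L755152) (flp_j L748396) L761461
theorem L761473 : sm gi N57174 = N55946 := ded_39_2 (flp_d L748598) (flp_i L748398) L761461
theorem L761475 : sm gc N57174 = N56951 := ded_27_1 L760063 L746656 (flp_d L740763) (flp_c L748390) L761461
theorem L761477 : sm gh N57174 = N57174 := ded_38_2 (flp_d L761461) (flp_h L748384) L732740 L748384 L761461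
theorem L761478 : sm gh N55935 = N57175 := rfl
theorem L761480 : sm ga N57175 = N56426 := ded_17_1 (flp_h L755057) (flp_a L748419) L761478
theorem L761482 : sm gb N57175 = N56251 := ded_25_1 (flp_h L752917) (flp_b L748421) L761478
theorem L761484 : sm gc N57175 = N56388 := ded_32_1 (flp_h L754682) (flp_c L748423) L761478
theorem L761486 : sm ge N57175 = N55941 := ded_43_1 (flp_h L748509) (flp_e L748427) L761478
theorem L761488 : sm gf N57175 = N55936 := ded_47_1 (flp_h L748435) (flp_f L748429) L761478
theorem L761490 : sm gg N57175 = N56385 := ded_50_1 (flp_h L754657) (flp_g L748431) L761478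
theorem L761492 : sm gj N57175 = N55939 := ded_52_1 (flp_h L748485) (flp_j L748433) L761478
theorem L761494 : sm gi N57175 = N56421 := ded_54_2 (flp_h L755025) (flp_i L740598) (flp_h L732790) L748417 L761478
theorem L761496 : sm gd N55936 = N57176 := rfl
theorem L761498 : sm ga N57176 = N56997 := ded_12_1 L760345 (flp_a L748437) L761496
theorem L761500 : sm gb N57176 = N56280 := ded_20_1 (flp_d L753322) (flp_b L748439) L761496
theorem L761502 : sm gg N57176 = N56752 := ded_36_2 (flp_d L758357) (flp_g L748445) L761496
theorem L761504 : sm gj N57176 = N55940 := ded_37_2 (flp_d L748497) (flp_j L748447) L761496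
theorem L761506 : sm gi N57176 = N56995 := ded_39_2 (flp_d L760329) (flp_i L748449) L761496
theorem L761508 : sm ge N57176 = N55958 := ded_34_2 (flp_d L748789) L733381 (flp_d L732826) (flp_e L748443) L761496
theorem L761510 : sm gh N57176 = N56010 := ded_38_2 (flp_d L749562) (flp_h L734141) (flp_d L732804) L748435 L761496
theorem L761512 : sm gh N55937 = N57177 := rfl
theorem L761514 : sm ga N57177 = N56421 := ded_17_1 (flp_h L755025) (flp_a L748453) L761512
theorem L761516 : sm gb N57177 = N56398 := ded_25_1 (flp_h L754776) (flp_b L748455) L761512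
theorem L761518 : sm gc N57177 = N55939 := ded_32_1 (flp_h L748485) (flp_c L748457) L761512
theorem L761520 : sm ge N57177 = N55945 := ded_43_1 (flp_h L748582) (flp_e L748461) L761512
theorem L761522 : sm gf N57177 = N55938 := ded_47_1 (flp_h L748469) (flp_f L748463) L761512
theorem L761524 : sm gg N57177 = N56340 := ded_50_1 (flp_h L754119) (flp_g L748465) L761512
theorem L761526 : sm gj N57177 = N56388 := ded_52_1 (flp_h L754682) (flp_j L748467) L761512
theorem L761528 : sm gi N57177 = N56426 := ded_54_2 (flp_h L755057) (flp_i L740626) (flp_h L732842) L748451 L761512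
theorem L761530 : sm gd N55938 = N57178 := rfl
theorem L761532 : sm ga N57178 = N56995 := ded_12_1 (flp_d L760329) (flp_a L748471) L761530
theorem L761534 : sm gb N57178 = N56399 := ded_20_1 (flp_d L754782) (flp_b L748473) L761530
theorem L761536 : sm gg N57178 = N55958 := ded_36_2 (flp_d L748789) (flp_g L748479) L761530
theorem L761538 : sm gj N57178 = N56751 := ded_37_2 (flp_d L758345) (flp_j L748481) L761530
theorem L761540 : sm gi N57178 = N56997 := ded_39_2 L760345 (flp_i L748483) L761530
theorem L761542 : sm ge N57178 = N56752 := ded_34_2 (flp_d L758357) L744600 (flp_d L732878) (flp_e L748477) L761530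
theorem L761544 : sm gh N57178 = N56152 := ded_38_2 (flp_d L751525) (flp_h L736226) (flp_d L732856) L748469 L761530
theorem L761546 : sm gd N55939 = N57179 := rfl
theorem L761548 : sm ga N57179 = N56427 := ded_12_1 (flp_d L755065) (flp_a L748487) L761546
theorem L761550 : sm gb N57179 = N56287 := ded_20_1 (flp_d L753400) (flp_b L748489) L761546
theorem L761552 : sm gf N57179 = N55940 := ded_35_2 (flp_d L748497) (flp_f L748493) L761546
theorem L761554 : sm gg N57179 = N56343 := ded_36_2 (flp_d L754143) (flp_g L748495) L761546
theorem L761556 : sm gh N57179 = N56022 := ded_38_2 (flp_d L749734) (flp_h L734276) (flp_d L732888) L748485 L761546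
theorem L761558 : sm gc N55940 = N57180 := rfl
theorem L761560 : sm ga N57180 = N57002 := ded_11_1 (flp_c L760365) (flp_a L748499) L761558
theorem L761562 : sm ge N57180 = N55963 := ded_28_2 (flp_c L748865) (flp_e L748505) L761558
theorem L761564 : sm gg N57180 = N56746 := ded_30_2 (flp_c L758285) (flp_g L748503) L761558
theorem L761566 : sm gh N57180 = N56023 := ded_32_2 (flp_c L749744) (flp_h L748507) L761558
theorem L761568 : sm gh N55943 = N57181 := rfl
theorem L761570 : sm ga N57181 = N56266 := ded_17_1 (flp_h L753133) (flp_a L748549) L761568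
theorem L761572 : sm gb N57181 = N55945 := ded_25_1 (flp_h L748582) (flp_b L748551) L761568
theorem L761574 : sm gc N57181 = N56237 := ded_32_1 (flp_h L752689) (flp_c L748553) L761568
theorem L761576 : sm ge N57181 = N56398 := ded_43_1 (flp_h L754776) (flp_e L748556) L761568
theorem L761578 : sm gf N57181 = N55944 := ded_47_1 (flp_h L748564) (flp_f L748558) L761568
theorem L761580 : sm gg N57181 = N56317 := ded_50_1 (flp_h L753819) (flp_g L748560) L761568
theorem L761582 : sm gj N57181 = N55955 := ded_52_1 (flp_h L748741) (flp_j L748562) L761568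
theorem L761584 : sm gi N57181 = N55964 := ded_54_2 (flp_h L748871) (flp_i L733461) (flp_h L732969) L748547 L761568
theorem L761586 : sm gd N56975 = N57181 := ded_20_0 L761572 (flp_d L748596) (flp_b L760214)
theorem L761588 : sm gc N55946 = N57182 := rfl
theorem L761590 : sm ga N57182 = N56435 := ded_11_1 L755144 (flp_a L748600) L761588
theorem L761592 : sm gf N57182 = N55947 := ded_29_2 (flp_c L748612) (flp_f L748604) L761588
theorem L761594 : sm gg N57182 = N56351 := ded_30_2 (flp_c L754250) (flp_g L748606) L761588
theorem L761596 : sm gj N57182 = N56930 := ded_31_2 L759932 (flp_j L748608) L761588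
theorem L761598 : sm gh N57182 = N55948 := ded_32_2 (flp_c L748630) (flp_h L748610) L761588
theorem L761600 : sm gi N57182 = N56951 := ded_33_2 (flp_c L761475) L761473 L761588
theorem L761602 : sm gb N57182 = N56952 := ded_19_1 L760068 L753458 (flp_c L753444) (flp_b L748602) L761588
theorem L761604 : sm gd N57182 = N56938 := ded_27_2 L759983 L748596 L748586 L748598 L761588
theorem L761606 : sm ge N55946 = N57183 := rfl
theorem L761608 : sm ga N57183 = N56441 := ded_13_1 (flp_e L755186) (flp_a L748600) L761606
theorem L761610 : sm gb N57183 = N56292 := ded_21_1 (flp_e L753460) (flp_b L748602) L761606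
theorem L761612 : sm gg N57183 = N56352 := ded_41_2 (flp_e L754262) (flp_g L748606) L761606
theorem L761614 : sm gj N57183 = N56965 := ded_42_2 L760161 (flp_j L748608) L761606
theorem L761616 : sm gh N57183 = N55949 := ded_43_2 (flp_e L748644) (flp_h L748610) L761606
theorem L761618 : sm gf N57183 = N55967 := ded_40_2 (flp_e L748919) L733495 (flp_e L733055) (flp_f L748604) L761606
theorem L761620 : sm ge N55948 = N57184 := rfl
theorem L761622 : sm ga N57184 = N56443 := ded_13_1 (flp_e L755202) (flp_a L748632) L761620
theorem L761624 : sm gb N57184 = N56956 := ded_21_1 L760096 (flp_b L748641) L761620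
theorem L761626 : sm gc N57184 = N55949 := ded_28_1 (flp_e L748644) L748630 L761620
theorem L761628 : sm gg N57184 = N56353 := ded_41_2 (flp_e L754268) (flp_g L748636) L761620
theorem L761630 : sm gj N57184 = N56932 := ded_42_2 L759952 (flp_j L748638) L761620
theorem L761632 : sm gi N57184 = N57184 := ded_44_2 (flp_e L761620) L748640 L761620
theorem L761633 : sm gf N57184 = N55971 := ded_40_2 (flp_e L748979) L733598 (flp_e L733128) (flp_f L748634) L761620
theorem L761635 : sm gd N55950 = N57185 := rfl
theorem L761637 : sm ga N57185 = N56307 := ded_12_1 (flp_d L753672) (flp_a L748661) L761635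
theorem L761639 : sm gb N57185 = N55951 := ded_20_1 (flp_d L748677) (flp_b L748663) L761635
theorem L761641 : sm gf N57185 = N56980 := ded_35_2 (flp_d L760243) (flp_f L748669) L761635
theorem L761643 : sm gg N57185 = N56747 := ded_36_2 (flp_d L758295) (flp_g L748671) L761635
theorem L761645 : sm gj N57185 = N56988 := ded_37_2 (flp_d L760291) (flp_j L748673) L761635
theorem L761647 : sm gi N57185 = N56755 := ded_39_2 (flp_d L758389) (flp_i L748675) L761635
theorem L761649 : sm ge N57185 = N56761 := ded_34_2 (flp_d L758452) L744705 (flp_d L733170) (flp_e L748667) L761635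
theorem L761651 : sm gh N57185 = N56067 := ded_38_2 (flp_d L750353) (flp_h L734959) (flp_d L733146) L748659 L761635
theorem L761653 : sm gc N55951 = N57186 := rfl
theorem L761655 : sm ga N57186 = N55963 := ded_11_1 (flp_c L748865) (flp_a L748679) L761653
theorem L761657 : sm ge N57186 = N57002 := ded_28_2 (flp_c L760365) (flp_e L748689) L761653
theorem L761659 : sm gf N57186 = N56982 := ded_29_2 (flp_c L760257) (flp_f L748681) L761653
theorem L761661 : sm gg N57186 = N56749 := ded_30_2 (flp_c L758327) (flp_g L748683) L761653
theorem L761663 : sm gj N57186 = N56996 := ded_31_2 (flp_c L760333) (flp_j L748685) L761653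
theorem L761665 : sm gh N57186 = N56088 := ded_32_2 (flp_c L750669) (flp_h L748691) L761653
theorem L761667 : sm gi N57186 = N56760 := ded_33_2 (flp_c L758448) (flp_i L748687) L761653
theorem L761669 : sm gd N57186 = N56750 := ded_27_2 (flp_c L758335) (flp_d L744574) (flp_c L733198) L748677 L761653
theorem L761671 : sm gd N55952 = N57187 := rfl
theorem L761673 : sm ga N57187 = N56752 := ded_12_1 (flp_d L758357) (flp_a L748695) L761671
theorem L761675 : sm gb N57187 = N56379 := ded_20_1 (flp_d L754587) (flp_b L748697) L761671
theorem L761677 : sm gf N57187 = N56958 := ded_35_2 (flp_d L760108) (flp_f L748703) L761671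
theorem L761679 : sm gg N57187 = N56997 := ded_36_2 L760345 (flp_g L748705) L761671
theorem L761681 : sm gj N57187 = N55954 := ded_37_2 (flp_d L748729) (flp_j L748707) L761671
theorem L761683 : sm gi N57187 = N55958 := ded_39_2 (flp_d L748789) (flp_i L748709) L761671
theorem L761685 : sm ge N57187 = N56995 := ded_34_2 (flp_d L760329) L746949 (flp_d L733262) (flp_e L748701) L761671
theorem L761687 : sm gh N57187 = N57122 := ded_38_2 (flp_d L761128) (flp_h L747860) (flp_d L733238) L748693 L761671
theorem L761689 : sm gd N55953 = N57188 := rfl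
theorem L761691 : sm ga N57188 = N56759 := ded_12_1 (flp_d L758440) (flp_a L748713) L761689
theorem L761693 : sm gb N57188 = N56389 := ded_20_1 (flp_d L754694) (flp_b L748715) L761689
theorem L761695 : sm gf N57188 = N55954 := ded_35_2 (flp_d L748729) (flp_f L748721) L761689
theorem L761697 : sm gg N57188 = N56978 := ded_36_2 (flp_d L760231) (flp_g L748723) L761689
theorem L761699 : sm gj N57188 = N56958 := ded_37_2 (flp_d L760108) (flp_j L748725) L761689
theorem L761701 : sm gi N57188 = N55962 := ded_39_2 (flp_d L748853) (flp_i L748727) L761689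
theorem L761703 : sm gh N57188 = N57109 := ded_38_2 (flp_d L761039) (flp_h L747783) (flp_d L733274) L748711 L761689
theorem L761705 : sm gc N55954 = N57189 := rfl
theorem L761707 : sm ga N57189 = N56760 := ded_11_1 (flp_c L758448) (flp_a L748731) L761705
theorem L761709 : sm gg N57189 = N56750 := ded_30_2 (flp_c L758335) (flp_g L748735) L761705
theorem L761711 : sm gh N57189 = N57123 := ded_32_2 (flp_c L761134) (flp_h L748739) L761705
theorem L761713 : sm gi N57189 = N55963 := ded_33_2 (flp_c L748865) (flp_i L748737) L761705
theorem L761715 : sm gd N57189 = N56749 := ded_27_2 (flp_c L758327) (flp_d L744566) (flp_c L733290) L748729 L761705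
theorem L761717 : sm gd N55955 = N57190 := rfl
theorem L761719 : sm ga N57190 = N56765 := ded_12_1 (flp_d L758489) (flp_a L748743) L761717
theorem L761721 : sm gb N57190 = N56395 := ded_20_1 (flp_d L754753) (flp_b L748745) L761717
theorem L761723 : sm gf N57190 = N55957 := ded_35_2 (flp_d L748772) (flp_f L748751) L761717
theorem L761725 : sm gg N57190 = N55956 := ded_36_2 (flp_d L748757) (flp_g L748753) L761717
theorem L761727 : sm gj N57190 = N56975 := ded_37_2 L761586 L761582 L761717
theorem L761729 : sm gi N57190 = N55965 := ded_39_2 (flp_d L748887) (flp_i L748755) L761717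
theorem L761731 : sm gc N57190 = N56306 := ded_27_1 (flp_d L753661) L739067 (flp_d L737917) (flp_c L748747) L761717
theorem L761733 : sm gh N57190 = N57190 := ded_38_2 (flp_d L761717) (flp_h L748741) L733306 L748741 L761717
theorem L761734 : sm ge N55956 = N57191 := rfl
theorem L761736 : sm ga N57191 = N56766 := ded_13_1 (flp_e L758500) (flp_a L748759) L761734
theorem L761738 : sm gb N57191 = N56397 := ded_21_1 (flp_e L754771) (flp_b L748761) L761734
theorem L761740 : sm gc N57191 = N56950 := ded_28_1 (flp_e L760058) (flp_c L748769) L761734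
theorem L761742 : sm gj N57191 = N56959 := ded_42_2 (flp_e L760114) (flp_j L748765) L761734
theorem L761744 : sm gh N57191 = N57191 := ded_43_2 (flp_e L761734) L748771 L761734
theorem L761745 : sm gi N57191 = N55967 := ded_44_2 (flp_e L748919) (flp_i L748767) L761734
theorem L761747 : sm gc N55958 = N57192 := rfl
theorem L761749 : sm ga N57192 = N56996 := ded_11_1 (flp_c L760333) (flp_a L748791) L761747
theorem L761751 : sm gf N57192 = N56963 := ded_29_2 (flp_c L760143) (flp_f L748795) L761747
theorem L761753 : sm gj N57192 = N55963 := ded_31_2 (flp_c L748865) (flp_j L748797) L761747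
theorem L761755 : sm gh N57192 = N56162 := ded_32_2 (flp_c L751647) (flp_h L748799) L761747
theorem L761757 : sm gd N57192 = N56746 := ded_27_2 (flp_c L758285) (flp_d L744526) (flp_c L733379) L748789 L761747
theorem L761759 : sm gc N55959 = N57193 := rfl
theorem L761761 : sm ga N57193 = N56750 := ded_11_1 (flp_c L758335) (flp_a L748803) L761759
theorem L761763 : sm ge N57193 = N56753 := ded_28_2 (flp_c L758365) (flp_e L748815) L761759
theorem L761765 : sm gf N57193 = N56962 := ded_29_2 (flp_c L760135) (flp_f L748807) L761759
theorem L761767 : sm gg N57193 = N56760 := ded_30_2 (flp_c L758448) (flp_g L748809) L761759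
theorem L761769 : sm gj N57193 = N56746 := ded_31_2 (flp_c L758285) (flp_j L748811) L761759
theorem L761771 : sm gh N57193 = N56772 := ded_32_2 (flp_c L758576) (flp_h L748817) L761759
theorem L761773 : sm gi N57193 = N56749 := ded_33_2 (flp_c L758327) (flp_i L748813) L761759
theorem L761775 : sm gd N57193 = N55963 := ded_27_2 (flp_c L748865) (flp_d L733453) (flp_c L733393) L748801 L761759
theorem L761777 : sm gh N55960 = N57194 := rfl
theorem L761779 : sm ga N57194 = N56281 := ded_17_1 (flp_h L753330) (flp_a L748821) L761777
theorem L761781 : sm gb N57194 = N56426 := ded_25_1 (flp_h L755057) (flp_b L748823) L761777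
theorem L761783 : sm gc N57194 = N56332 := ded_32_1 (flp_h L754025) (flp_c L748825) L761777
theorem L761785 : sm ge N57194 = N55964 := ded_43_1 (flp_h L748871) (flp_e L748829) L761777
theorem L761787 : sm gf N57194 = N56373 := ded_47_1 (flp_h L754508) (flp_f L748831) L761777
theorem L761789 : sm gg N57194 = N56333 := ded_50_1 (flp_h L754035) (flp_g L748833) L761777
theorem L761791 : sm gj N57194 = N55961 := ded_52_1 (flp_h L748837) (flp_j L748835) L761777
theorem L761793 : sm gi N57194 = N56398 := ded_54_2 (flp_h L754776) (flp_i L740342) (flp_h L733419) L748819 L761777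
theorem L761795 : sm gd N55961 = N57195 := rfl
theorem L761797 : sm ga N57195 = N56976 := ded_12_1 (flp_d L760219) (flp_a L748839) L761795
theorem L761799 : sm gb N57195 = N56427 := ded_20_1 (flp_d L755065) (flp_b L748841) L761795
theorem L761801 : sm gf N57195 = N56761 := ded_35_2 (flp_d L758452) (flp_f L748847) L761795
theorem L761803 : sm gg N57195 = N55962 := ded_36_2 (flp_d L748853) (flp_g L748849) L761795
theorem L761805 : sm gi N57195 = N56978 := ded_39_2 (flp_d L760231) (flp_i L748851) L761795
theorem L761807 : sm gh N57195 = N56180 := ded_38_2 (flp_d L751869) (flp_h L736578) (flp_d L733431) L748837 L761795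
theorem L761809 : sm gc N55962 = N57196 := rfl
theorem L761811 : sm ga N57196 = N56982 := ded_11_1 (flp_c L760257) (flp_a L748855) L761809
theorem L761813 : sm gf N57196 = N55963 := ded_29_2 (flp_c L748865) (flp_f L748859) L761809
theorem L761815 : sm gj N57196 = N56963 := ded_31_2 (flp_c L760143) (flp_j L748861) L761809
theorem L761817 : sm gh N57196 = N56181 := ded_32_2 (flp_c L751877) (flp_h L748863) L761809
theorem L761819 : sm gd N57196 = N56962 := ded_27_2 (flp_c L760135) (flp_d L746744) (flp_c L733445) L748853 L761809
theorem L761821 : sm ge N55962 = N57197 := rfl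
theorem L761823 : sm ga N57197 = N56983 := ded_13_1 (flp_e L760263) (flp_a L748855) L761821
theorem L761825 : sm gb N57197 = N56429 := ded_21_1 (flp_e L755079) (flp_b L748857) L761821
theorem L761827 : sm gj N57197 = N56964 := ded_42_2 (flp_e L760149) (flp_j L748861) L761821
theorem L761829 : sm gh N57197 = N56182 := ded_43_2 (flp_e L751881) (flp_h L748863) L761821
theorem L761831 : sm gd N57197 = N55967 := ded_34_1 (flp_e L748919) (flp_d L733489) (flp_e L733447) L748853 L761821
theorem L761833 : sm gb N55963 = N57198 := rfl
theorem L761835 : sm gg N57198 = N56763 := ded_23_2 (flp_b L758472) (flp_g L748867) L761833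
theorem L761837 : sm gh N57198 = N56183 := ded_25_2 (flp_b L751887) (flp_h L748869) L761833
theorem L761839 : sm gc N57198 = N56430 := ded_19_2 (flp_b L755085) (flp_c L740650) (flp_b L733455) L748865 L761833
theorem L761841 : sm ge N55965 = N57199 := rfl
theorem L761843 : sm ga N57199 = N56977 := ded_13_1 (flp_e L760223) (flp_a L748889) L761841
theorem L761845 : sm gb N57199 = N56441 := ded_21_1 (flp_e L755186) (flp_b L748891) L761841
theorem L761847 : sm gc N57199 = N56986 := ded_28_1 (flp_e L760279) (flp_c L748899) L761841
theorem L761849 : sm gg N57199 = N55967 := ded_41_2 (flp_e L748919) (flp_g L748895) L761841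
theorem L761851 : sm gj N57199 = N56991 := ded_42_2 L760311 (flp_j L748897) L761841
theorem L761853 : sm gh N57199 = N55969 := ded_43_2 (flp_e L748947) (flp_h L748901) L761841
theorem L761855 : sm gf N57199 = N56981 := ded_40_2 (flp_e L760249) L746873 (flp_e L733559) (flp_f L748893) L761841
theorem L761857 : sm gb N55966 = N57200 := rfl
theorem L761859 : sm gd N57200 = N56337 := ded_20_2 L754087 (flp_d L748917) L761857
theorem L761861 : sm gf N57200 = N55968 := ded_22_2 (flp_b L748929) (flp_f L748907) L761857
theorem L761863 : sm gg N57200 = N56289 := ded_23_2 L753418 (flp_g L748909) L761857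
theorem L761865 : sm gj N57200 = N56393 := ded_24_2 L754738 (flp_j L748911) L761857
theorem L761867 : sm gh N57200 = N55970 := ded_25_2 (flp_b L748964) (flp_h L748913) L761857
theorem L761869 : sm gi N57200 = N56431 := ded_26_2 L755093 (flp_i L748915) L761857
theorem L761871 : sm ga N57200 = N56339 := ded_10_1 L754109 L739627 (flp_b L740554) (flp_a L748905) L761857
theorem L761873 : sm gc N57200 = N56440 := ded_19_2 L755180 (flp_c L740775) (flp_b L733493) L748903 L761857
theorem L761875 : sm ge N55966 = N57201 := rfl
theorem L761877 : sm ga N57201 = N56416 := ded_13_1 (flp_e L754983) (flp_a L748905) L761875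
theorem L761879 : sm gc N57201 = N55967 := ded_28_1 (flp_e L748919) L748903 L761875
theorem L761881 : sm gg N57201 = N56986 := ded_41_2 (flp_e L760279) (flp_g L748909) L761875
theorem L761883 : sm gj N57201 = N56928 := ded_42_2 (flp_e L759912) (flp_j L748911) L761875
theorem L761885 : sm gh N57201 = N55971 := ded_43_2 (flp_e L748979) (flp_h L748913) L761875
theorem L761887 : sm gi N57201 = N56950 := ded_44_2 (flp_e L760058) (flp_i L748915) L761875
theorem L761889 : sm ge N55970 = N57202 := rfl
theorem L761891 : sm ga N57202 = N56355 := ded_13_1 (flp_e L754295) (flp_a L748975) L761889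
theorem L761893 : sm gb N57202 = N55971 := ded_21_1 (flp_e L748979) L748964 L761889
theorem L761895 : sm gc N57202 = N56444 := ded_28_1 (flp_e L755215) (flp_c L748977) L761889
theorem L761897 : sm gg N57202 = N56298 := ded_41_2 L753557 (flp_g L748970) L761889
theorem L761899 : sm gj N57202 = N56931 := ded_42_2 (flp_e L759936) (flp_j L748972) L761889
theorem L761901 : sm gi N57202 = N57202 := ded_44_2 (flp_e L761889) L748974 L761889
theorem L761902 : sm gd N57202 = N56568 := ded_34_1 (flp_e L756567) (flp_d L742452) (flp_e L739807) (flp_d L748966) L761889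
theorem L761904 : sm gf N57202 = N56956 := ded_40_2 L760096 L746698 (flp_e L733622) (flp_f L748968) L761889
theorem L761906 : sm gd N55971 = N57203 := rfl
theorem L761908 : sm ga N57203 = N56453 := ded_12_1 L755327 (flp_a L748981) L761906
theorem L761910 : sm gb N57203 = N56568 := ded_20_1 (flp_d L761902) L761893 L761906
theorem L761912 : sm gg N57203 = N56503 := ded_36_2 L755879 (flp_g L748985) L761906
theorem L761914 : sm gj N57203 = N56502 := ded_37_2 L755868 (flp_j L748987) L761906
theorem L761916 : sm gi N57203 = N57203 := ded_39_2 (flp_d L761906) L748989 L761906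
theorem L761917 : sm gc N57203 = N56207 := ded_27_1 (flp_d L752203) L736976 (flp_d L733616) (flp_c L748983) L761906
theorem L761919 : sm ge N57203 = N56450 := ded_34_2 (flp_d L755276) L740925 (flp_d L733605) L748979 L761906
theorem L761921 : sm gi N55972 = N57204 := rfl
theorem L761923 : sm ga N57204 = N56115 := ded_18_1 (flp_i L751036) (flp_a L748992) L761921
theorem L761925 : sm gb N57204 = N56469 := ded_26_1 (flp_i L755500) (flp_b L748994) L761921
theorem L761927 : sm gc N57204 = N56676 := ded_33_1 (flp_i L757681) (flp_c L748996) L761921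
theorem L761929 : sm gd N57204 = N55989 := ded_39_1 (flp_i L749258) (flp_d L748998) L761921
theorem L761931 : sm ge N57204 = N57204 := ded_44_1 (flp_i L761921) L749004 L761921
theorem L761932 : sm gf N57204 = N55973 := ded_48_1 (flp_i L749007) L748990 L761921
theorem L761934 : sm gg N57204 = N56417 := ded_51_1 (flp_i L754995) (flp_g L749005) L761921
theorem L761936 : sm gj N57204 = N55981 := ded_53_1 (flp_i L749131) (flp_j L749000) L761921
theorem L761938 : sm gh N55973 = N57205 := rfl
theorem L761940 : sm ga N57205 = N56116 := ded_17_1 (flp_h L751047) (flp_a L749009) L761938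
theorem L761942 : sm gb N57205 = N56470 := ded_25_1 (flp_h L755513) (flp_b L749011) L761938
theorem L761944 : sm gc N57205 = N57132 := ded_32_1 (flp_h L761178) (flp_c L749013) L761938
theorem L761946 : sm ge N57205 = N55974 := ded_43_1 (flp_h L749023) (flp_e L749017) L761938
theorem L761948 : sm gg N57205 = N56073 := ded_50_1 (flp_h L750445) (flp_g L749019) L761938
theorem L761950 : sm gj N57205 = N55982 := ded_52_1 (flp_h L749144) (flp_j L749021) L761938
theorem L761952 : sm gi N57205 = N56081 := ded_54_2 (flp_h L750571) (flp_i L735258) (flp_h L733645) L749007 L761938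
theorem L761954 : sm gi N55975 = N57206 := rfl
theorem L761956 : sm ga N57206 = N56657 := ded_18_1 (flp_i L757524) (flp_a L749042) L761954
theorem L761958 : sm gb N57206 = N55979 := ded_26_1 (flp_i L749106) (flp_b L749044) L761954
theorem L761960 : sm gc N57206 = N56008 := ded_33_1 (flp_i L749534) (flp_c L749046) L761954
theorem L761962 : sm gd N57206 = N56368 := ded_39_1 (flp_i L754460) (flp_d L749054) L761954
theorem L761964 : sm ge N57206 = N55976 := ded_44_1 (flp_i L749058) L749040 L761954
theorem L761966 : sm gf N57206 = N56367 := ded_48_1 (flp_i L754451) L749056 L761954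
theorem L761968 : sm gg N57206 = N56005 := ded_51_1 (flp_i L749488) (flp_g L749048) L761954
theorem L761970 : sm gj N57206 = N56540 := ded_53_1 (flp_i L756281) (flp_j L749050) L761954
theorem L761972 : sm gh N55976 = N57207 := rfl
theorem L761974 : sm ga N57207 = N56697 := ded_17_1 (flp_h L757823) (flp_a L749060) L761972
theorem L761976 : sm gb N57207 = N55980 := ded_25_1 (flp_h L749118) (flp_b L749062) L761972
theorem L761978 : sm gc N57207 = N56027 := ded_32_1 (flp_h L749791) (flp_c L749064) L761972
theorem L761980 : sm gf N57207 = N57207 := ded_47_1 (flp_h L761972) L749067 L761972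
theorem L761981 : sm gg N57207 = N56024 := ded_50_1 (flp_h L749752) (flp_g L749068) L761972
theorem L761983 : sm gj N57207 = N56558 := ded_52_1 (flp_h L756463) (flp_j L749070) L761972
theorem L761985 : sm gi N57207 = N56787 := ded_54_2 (flp_h L758716) (flp_i L745057) (flp_h L733672) L749058 L761972
theorem L761987 : sm gi N55977 = N57208 := rfl
theorem L761989 : sm ga N57208 = N56838 := ded_18_1 (flp_i L759213) (flp_a L749074) L761987
theorem L761991 : sm gb N57208 = N56368 := ded_26_1 (flp_i L754460) (flp_b L749076) L761987
theorem L761993 : sm gc N57208 = N55992 := ded_33_1 (flp_i L749301) (flp_c L749082) L761987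
theorem L761995 : sm gd N57208 = N55979 := ded_39_1 (flp_i L749106) L749072 L761987
theorem L761997 : sm ge N57208 = N57208 := ded_44_1 (flp_i L761987) L749084 L761987
theorem L761998 : sm gf N57208 = N56364 := ded_48_1 (flp_i L754413) L749087 L761987
theorem L762000 : sm gg N57208 = N56738 := ded_51_1 L758209 (flp_g L749078) L761987
theorem L762002 : sm gj N57208 = N57087 := ded_53_1 (flp_i L760892) (flp_j L749080) L761987
theorem L762004 : sm gi N55978 = N57209 := rfl
theorem L762006 : sm ga N57209 = N56591 := ded_18_1 (flp_i L756835) (flp_a L749091) L762004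
theorem L762008 : sm gb N57209 = N56367 := ded_26_1 (flp_i L754451) (flp_b L749093) L762004
theorem L762010 : sm gc N57209 = N55981 := ded_33_1 (flp_i L749131) (flp_c L749095) L762004
theorem L762012 : sm gd N57209 = N56364 := ded_39_1 (flp_i L754413) (flp_d L749097) L762004
theorem L762014 : sm ge N57209 = N57209 := ded_44_1 (flp_i L762004) L749103 L762004
theorem L762015 : sm gf N57209 = N55979 := ded_48_1 (flp_i L749106) L749089 L762004
theorem L762017 : sm gg N57209 = N56517 := ded_51_1 (flp_i L756006) (flp_g L749104) L762004
theorem L762019 : sm gj N57209 = N56676 := ded_53_1 (flp_i L757681) (flp_j L749099) L762004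
theorem L762021 : sm gh N55979 = N57210 := rfl
theorem L762023 : sm ga N57210 = N56839 := ded_17_1 (flp_h L759222) (flp_a L749108) L762021
theorem L762025 : sm gc N57210 = N55982 := ded_32_1 (flp_h L749144) (flp_c L749110) L762021
theorem L762027 : sm ge N57210 = N55980 := ded_43_1 (flp_h L749118) (flp_e L749112) L762021
theorem L762029 : sm gg N57210 = N56767 := ded_50_1 (flp_h L758507) (flp_g L749114) L762021
theorem L762031 : sm gj N57210 = N57132 := ded_52_1 (flp_h L761178) (flp_j L749116) L762021
theorem L762033 : sm gi N57210 = N56788 := ded_54_2 (flp_h L758727) (flp_i L745070) (flp_h L733688) L749106 L762021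
theorem L762035 : sm gd N55980 = N57211 := rfl
theorem L762037 : sm ga N57211 = N56840 := ded_12_1 (flp_d L759232) (flp_a L749120) L762035
theorem L762039 : sm gf N57211 = N57211 := ded_35_2 (flp_d L762035) L749124 L762035
theorem L762040 : sm gg N57211 = N56768 := ded_36_2 (flp_d L758521) (flp_g L749125) L762035
theorem L762042 : sm gj N57211 = N57167 := ded_37_2 (flp_d L761393) (flp_j L749127) L762035
theorem L762044 : sm gi N57211 = N56789 := ded_39_2 (flp_d L758739) (flp_i L749129) L762035
theorem L762046 : sm gc N57211 = N56111 := ded_27_1 (flp_d L750988) L735674 (flp_d L733736) (flp_c L749122) L762035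
theorem L762048 : sm gh N57211 = N57211 := ded_38_2 (flp_d L762035) (flp_h L749118) L733696 L749118 L762035
theorem L762049 : sm gh N55981 = N57212 := rfl
theorem L762051 : sm ga N57212 = N56595 := ded_17_1 (flp_h L756861) (flp_a L749133) L762049
theorem L762053 : sm gb N57212 = N56473 := ded_25_1 (flp_h L755542) (flp_b L749135) L762049
theorem L762055 : sm ge N57212 = N57212 := ded_43_1 (flp_h L762049) L749139 L762049
theorem L762056 : sm gf N57212 = N55982 := ded_47_1 (flp_h L749144) (flp_f L749140) L762049
theorem L762058 : sm gg N57212 = N56520 := ded_50_1 (flp_h L756050) (flp_g L749142) L762049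
theorem L762060 : sm gi N57212 = N56790 := ded_54_2 (flp_h L758752) (flp_i L745095) (flp_h L733710) L749131 L762049
theorem L762062 : sm gd N55982 = N57213 := rfl
theorem L762064 : sm ga N57213 = N56841 := ded_12_1 (flp_d L759242) (flp_a L749146) L762062
theorem L762066 : sm gb N57213 = N56474 := ded_20_1 (flp_d L755549) (flp_b L749148) L762062
theorem L762068 : sm gg N57213 = N56769 := ded_36_2 (flp_d L758534) (flp_g L749152) L762062
theorem L762070 : sm gi N57213 = N56791 := ded_39_2 (flp_d L758759) (flp_i L749154) L762062
theorem L762072 : sm ge N57213 = N56113 := ded_34_2 (flp_d L751009) L735696 (flp_d L733736) (flp_e L749150) L762062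
theorem L762074 : sm gh N57213 = N55996 := ded_38_2 (flp_d L749361) (flp_h L733895) (flp_d L733721) L749144 L762062
theorem L762076 : sm gh N55983 = N57214 := rfl
theorem L762078 : sm ga N57214 = N56103 := ded_17_1 (flp_h L750889) (flp_a L749158) L762076
theorem L762080 : sm gb N57214 = N56476 := ded_25_1 (flp_h L755574) (flp_b L749160) L762076
theorem L762082 : sm gc N57214 = N56873 := ded_32_1 (flp_h L759517) (flp_c L749162) L762076
theorem L762084 : sm ge N57214 = N55984 := ded_43_1 (flp_h L749174) (flp_e L749166) L762076
theorem L762086 : sm gf N57214 = N56969 := ded_47_1 (flp_h L760180) (flp_f L749168) L762076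
theorem L762088 : sm gg N57214 = N55990 := ded_50_1 (flp_h L749272) (flp_g L749170) L762076
theorem L762090 : sm gj N57214 = N56072 := ded_52_1 (flp_h L750431) (flp_j L749172) L762076
theorem L762092 : sm gi N57214 = N56004 := ded_54_2 (flp_h L749472) (flp_i L734036) (flp_h L733752) L749156 L762076
theorem L762094 : sm gi N55985 = N57215 := rfl
theorem L762096 : sm ga N57215 = N56585 := ded_18_1 (flp_i L756763) (flp_a L749193) L762094
theorem L762098 : sm gb N57215 = N56794 := ded_26_1 (flp_i L758785) (flp_b L749195) L762094
theorem L762100 : sm gc N57215 = N57087 := ded_33_1 (flp_i L760892) (flp_c L749203) L762094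
theorem L762102 : sm gd N57215 = N55986 := ded_39_1 (flp_i L749208) L749191 L762094
theorem L762104 : sm ge N57215 = N57215 := ded_44_1 (flp_i L762094) L749205 L762094
theorem L762105 : sm gf N57215 = N56582 := ded_48_1 (flp_i L756720) (flp_f L749197) L762094
theorem L762107 : sm gg N57215 = N56845 := ded_51_1 (flp_i L759290) (flp_g L749199) L762094
theorem L762109 : sm gj N57215 = N55992 := ded_53_1 (flp_i L749301) (flp_j L749201) L762094
theorem L762111 : sm gh N55986 = N57216 := rfl
theorem L762113 : sm ga N57216 = N57093 := ded_17_1 (flp_h L760927) (flp_a L749210) L762111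
theorem L762115 : sm gb N57216 = N56796 := ded_25_1 (flp_h L758810) (flp_b L749212) L762111
theorem L762117 : sm gc N57216 = N55990 := ded_32_1 (flp_h L749272) (flp_c L749214) L762111
theorem L762119 : sm ge N57216 = N55987 := ded_43_1 (flp_h L749224) (flp_e L749216) L762111
theorem L762121 : sm gf N57216 = N56792 := ded_47_1 (flp_h L758767) (flp_f L749218) L762111
theorem L762123 : sm gg N57216 = N56873 := ded_50_1 (flp_h L759517) (flp_g L749220) L762111
theorem L762125 : sm gj N57216 = N55993 := ded_52_1 (flp_h L749314) (flp_j L749222) L762111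
theorem L762127 : sm gi N57216 = N56006 := ded_54_2 (flp_h L749504) (flp_i L734085) (flp_h L733785) L749208 L762111
theorem L762129 : sm gd N55987 = N57217 := rfl
theorem L762131 : sm ga N57217 = N57105 := ded_12_1 (flp_d L761011) (flp_a L749226) L762129
theorem L762133 : sm gb N57217 = N56813 := ded_20_1 (flp_d L758958) (flp_b L749228) L762129
theorem L762135 : sm gf N57217 = N55997 := ded_35_2 (flp_d L749373) (flp_f L749232) L762129
theorem L762137 : sm gg N57217 = N56917 := ded_36_2 (flp_d L759825) (flp_g L749234) L762129
theorem L762139 : sm gj N57217 = N55994 := ded_37_2 (flp_d L749330) (flp_j L749236) L762129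
theorem L762141 : sm gi N57217 = N56007 := ded_39_2 (flp_d L749518) (flp_i L749238) L762129
theorem L762143 : sm gc N57217 = N56121 := ded_27_1 (flp_d L751116) L735794 (flp_d L733838) (flp_c L749230) L762129
theorem L762145 : sm gh N57217 = N57217 := ded_38_2 (flp_d L762129) (flp_h L749224) L733797 L749224 L762129
theorem L762146 : sm gi N55988 = N57218 := rfl
theorem L762148 : sm ga N57218 = N56606 := ded_18_1 (flp_i L756982) (flp_a L749242) L762146
theorem L762150 : sm gb N57218 = N56260 := ded_26_1 (flp_i L753057) (flp_b L749244) L762146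
theorem L762152 : sm gc N57218 = N56786 := ded_33_1 (flp_i L758702) (flp_c L749246) L762146
theorem L762154 : sm gd N57218 = N56417 := ded_39_1 (flp_i L754995) (flp_d L749248) L762146
theorem L762156 : sm ge N57218 = N55998 := ded_44_1 (flp_i L749387) (flp_e L749250) L762146
theorem L762158 : sm gf N57218 = N56383 := ded_48_1 (flp_i L754645) (flp_f L749254) L762146
theorem L762160 : sm gg N57218 = N55989 := ded_51_1 (flp_i L749258) L749240 L762146
theorem L762162 : sm gj N57218 = N56524 := ded_53_1 (flp_i L756098) (flp_j L749256) L762146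
theorem L762164 : sm gh N55989 = N57219 := rfl
theorem L762166 : sm ga N57219 = N56619 := ded_17_1 (flp_h L757124) (flp_a L749260) L762164
theorem L762168 : sm gb N57219 = N56477 := ded_25_1 (flp_h L755588) (flp_b L749262) L762164
theorem L762170 : sm gc N57219 = N56792 := ded_32_1 (flp_h L758767) (flp_c L749264) L762164
theorem L762172 : sm ge N57219 = N55999 := ded_43_1 (flp_h L749401) (flp_e L749266) L762164
theorem L762174 : sm gf N57219 = N55990 := ded_47_1 (flp_h L749272) (flp_f L749268) L762164
theorem L762176 : sm gj N57219 = N55995 := ded_52_1 (flp_h L749345) (flp_j L749270) L762164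
theorem L762178 : sm gi N57219 = N56009 := ded_54_2 (flp_h L749550) (flp_i L734129) (flp_h L733814) L749258 L762164
theorem L762180 : sm gd N55990 = N57220 := rfl
theorem L762182 : sm ga N57220 = N57098 := ded_12_1 (flp_d L760963) (flp_a L749274) L762180
theorem L762184 : sm gb N57220 = N56478 := ded_20_1 (flp_d L755602) (flp_b L749276) L762180
theorem L762186 : sm gj N57220 = N55996 := ded_37_2 (flp_d L749361) (flp_j L749280) L762180
theorem L762188 : sm gi N57220 = N56010 := ded_39_2 (flp_d L749562) (flp_i L749282) L762180
theorem L762190 : sm ge N57220 = N56124 := ded_34_2 (flp_d L751157) L735834 (flp_d L733838) (flp_e L749278) L762180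
theorem L762192 : sm gi N55991 = N57221 := rfl
theorem L762194 : sm ga N57221 = N57087 := ded_18_1 (flp_i L760892) (flp_a L749286) L762192
theorem L762196 : sm gb N57221 = N56109 := ded_26_1 (flp_i L750965) (flp_b L749288) L762192
theorem L762198 : sm gc N57221 = N56585 := ded_33_1 (flp_i L756763) (flp_c L749290) L762192
theorem L762200 : sm gd N57221 = N56017 := ded_39_1 (flp_i L749678) (flp_d L749299) L762192
theorem L762202 : sm ge N57221 = N57221 := ded_44_1 (flp_i L762192) L749292 L762192
theorem L762203 : sm gf N57221 = N56106 := ded_48_1 (flp_i L750933) (flp_f L749293) L762192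
theorem L762205 : sm gg N57221 = N56119 := ded_51_1 (flp_i L751089) (flp_g L749295) L762192
theorem L762207 : sm gj N57221 = N56838 := ded_53_1 (flp_i L759213) (flp_j L749297) L762192
theorem L762209 : sm gh N55992 = N57222 := rfl
theorem L762211 : sm ga N57222 = N57088 := ded_17_1 (flp_h L760899) (flp_a L749303) L762209
theorem L762213 : sm gb N57222 = N56804 := ded_25_1 (flp_h L758886) (flp_b L749305) L762209
theorem L762215 : sm ge N57222 = N57222 := ded_43_1 (flp_h L762209) L749309 L762209
theorem L762216 : sm gf N57222 = N56801 := ded_47_1 (flp_h L758864) (flp_f L749310) L762209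
theorem L762218 : sm gg N57222 = N56737 := ded_50_1 L758194 (flp_g L749312) L762209
theorem L762220 : sm gd N55993 = N57223 := rfl
theorem L762222 : sm ga N57223 = N57094 := ded_12_1 (flp_d L760937) (flp_a L749316) L762220
theorem L762224 : sm gb N57223 = N56806 := ded_20_1 (flp_d L758905) (flp_b L749318) L762220
theorem L762226 : sm gf N57223 = N56802 := ded_35_2 (flp_d L758872) (flp_f L749324) L762220
theorem L762228 : sm gg N57223 = N56689 := ded_36_2 L757780 (flp_g L749326) L762220
theorem L762230 : sm gi N57223 = N56020 := ded_39_2 (flp_d L749718) (flp_i L749328) L762220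
theorem L762232 : sm ge N55994 = N57224 := rfl
theorem L762234 : sm ga N57224 = N57106 := ded_13_1 (flp_e L761022) (flp_a L749332) L762232
theorem L762236 : sm gb N57224 = N56816 := ded_21_1 (flp_e L758991) (flp_b L749334) L762232
theorem L762238 : sm gc N57224 = N56133 := ded_28_1 (flp_e L751275) (flp_c L749342) L762232
theorem L762240 : sm gg N57224 = N56712 := ded_41_2 L757962 (flp_g L749338) L762232
theorem L762242 : sm gh N57224 = N57224 := ded_43_2 (flp_e L762232) L749344 L762232
theorem L762243 : sm gi N57224 = N56021 := ded_44_2 (flp_e L749724) (flp_i L749340) L762232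
theorem L762245 : sm gd N55995 = N57225 := rfl
theorem L762247 : sm ga N57225 = N56620 := ded_12_1 (flp_d L757134) (flp_a L749347) L762245
theorem L762249 : sm gb N57225 = N56479 := ded_20_1 (flp_d L755612) (flp_b L749349) L762245
theorem L762251 : sm gf N57225 = N55996 := ded_35_2 (flp_d L749361) (flp_f L749355) L762245
theorem L762253 : sm gg N57225 = N56527 := ded_36_2 (flp_d L756132) (flp_g L749357) L762245
theorem L762255 : sm gi N57225 = N56022 := ded_39_2 (flp_d L749734) (flp_i L749359) L762245
theorem L762257 : sm gc N55996 = N57226 := rfl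
theorem L762259 : sm ga N57226 = N57099 := ded_11_1 (flp_c L760969) (flp_a L749363) L762257
theorem L762261 : sm ge N57226 = N56137 := ded_28_2 (flp_c L751324) (flp_e L749371) L762257
theorem L762263 : sm gg N57226 = N56771 := ded_30_2 (flp_c L758566) (flp_g L749367) L762257
theorem L762265 : sm gi N57226 = N56023 := ded_33_2 (flp_c L749744) (flp_i L749369) L762257
theorem L762267 : sm ge N55997 = N57227 := rfl
theorem L762269 : sm ga N57227 = N57102 := ded_13_1 L760987 (flp_a L749375) L762267
theorem L762271 : sm gb N57227 = N56531 := ded_21_1 L756178 (flp_b L749377) L762267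
theorem L762273 : sm gc N57227 = N56139 := ded_28_1 (flp_e L751346) (flp_c L749384) L762267
theorem L762275 : sm gg N57227 = N57227 := ded_41_2 (flp_e L762267) L749379 L762267
theorem L762276 : sm gj N57227 = N56001 := ded_42_2 (flp_e L749429) (flp_j L749380) L762267
theorem L762278 : sm gh N57227 = N57227 := ded_43_2 (flp_e L762267) L749386 L762267
theorem L762279 : sm gi N57227 = N56026 := ded_44_2 (flp_e L749778) (flp_i L749382) L762267
theorem L762281 : sm gd N57227 = N56812 := ded_34_1 (flp_e L758945) (flp_d L745296) (flp_e L733915) L749373 L762267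
theorem L762283 : sm gh N55998 = N57228 := rfl
theorem L762285 : sm ga N57228 = N56626 := ded_17_1 (flp_h L757189) (flp_a L749389) L762283
theorem L762287 : sm gb N57228 = N56261 := ded_25_1 (flp_h L753067) (flp_b L749391) L762283
theorem L762289 : sm gc N57228 = N56787 := ded_32_1 (flp_h L758716) (flp_c L749393) L762283
theorem L762291 : sm gf N57228 = N57228 := ded_47_1 (flp_h L762283) L749396 L762283
theorem L762292 : sm gg N57228 = N55999 := ded_50_1 (flp_h L749401) (flp_g L749397) L762283
theorem L762294 : sm gj N57228 = N56529 := ded_52_1 (flp_h L756152) (flp_j L749399) L762283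
theorem L762296 : sm gi N57228 = N56027 := ded_54_2 (flp_h L749791) (flp_i L734339) (flp_h L733931) L749387 L762283
theorem L762298 : sm gd N55999 = N57229 := rfl
theorem L762300 : sm ga N57229 = N56633 := ded_12_1 (flp_d L757270) (flp_a L749403) L762298
theorem L762302 : sm gb N57229 = N56481 := ded_20_1 (flp_d L755632) (flp_b L749405) L762298
theorem L762304 : sm gf N57229 = N56000 := ded_35_2 (flp_d L749415) (flp_f L749409) L762298
theorem L762306 : sm gj N57229 = N56002 := ded_37_2 (flp_d L749444) (flp_j L749411) L762298
theorem L762308 : sm gi N57229 = N56028 := ded_39_2 (flp_d L749802) (flp_i L749413) L762298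
theorem L762310 : sm gh N57229 = N57229 := ded_38_2 (flp_d L762298) (flp_h L749401) L733944 L749401 L762298
theorem L762311 : sm gc N56000 = N57230 := rfl
theorem L762313 : sm ga N57230 = N56638 := ded_11_1 (flp_c L757321) (flp_a L749417) L762311
theorem L762315 : sm ge N57230 = N56142 := ded_28_2 (flp_c L751388) (flp_e L749426) L762311
theorem L762317 : sm gg N57230 = N57230 := ded_30_2 (flp_c L762311) L749421 L762311
theorem L762318 : sm gj N57230 = N56003 := ded_31_2 (flp_c L749457) (flp_j L749422) L762311
theorem L762320 : sm gh N57230 = N57230 := ded_32_2 (flp_c L762311) L749428 L762311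
theorem L762321 : sm gi N57230 = N56029 := ded_33_2 (flp_c L749814) (flp_i L749424) L762311
theorem L762323 : sm gb N57230 = N56719 := ded_19_1 L758018 L746210 (flp_c L741385) (flp_b L749419) L762311
theorem L762325 : sm gd N57230 = N56706 := ded_27_2 L757900 (flp_d L745296) (flp_c L733955) L749415 L762311
theorem L762327 : sm gf N56001 = N57231 := rfl
theorem L762329 : sm ga N57231 = N57103 := ded_14_1 L760999 (flp_a L749431) L762327
theorem L762331 : sm gb N57231 = N56532 := ded_22_1 L756192 (flp_b L749433) L762327
theorem L762333 : sm gc N57231 = N56143 := ded_29_1 (flp_f L751402) (flp_c L749435) L762327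
theorem L762335 : sm gd N57231 = N56815 := ded_35_1 (flp_f L758981) (flp_d L749442) L762327
theorem L762337 : sm gh N57231 = N57231 := ded_47_2 (flp_f L762327) L749439 L762327
theorem L762338 : sm gi N57231 = N56033 := ded_48_2 (flp_f L749870) (flp_i L749440) L762327
theorem L762340 : sm gg N57231 = N56720 := ded_45_2 (flp_f L758028) L744125 (flp_f L734018) (flp_g L749437) L762327
theorem L762342 : sm gc N56002 = N57232 := rfl
theorem L762344 : sm ga N57232 = N56634 := ded_11_1 (flp_c L757279) (flp_a L749446) L762342
theorem L762346 : sm gf N57232 = N56003 := ded_29_2 (flp_c L749457) (flp_f L749450) L762342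
theorem L762348 : sm gg N57232 = N56532 := ded_30_2 (flp_c L756188) (flp_g L749452) L762342
theorem L762350 : sm gh N57232 = N57232 := ded_32_2 (flp_c L762342) L749456 L762342
theorem L762351 : sm gi N57232 = N56034 := ded_33_2 (flp_c L749880) (flp_i L749454) L762342
theorem L762353 : sm gb N57232 = N56720 := ded_19_1 L758030 L746274 (flp_c L741398) (flp_b L749448) L762342
theorem L762355 : sm gd N57232 = N56716 := ded_27_2 L757996 (flp_d L745225) (flp_c L733983) L749444 L762342
theorem L762357 : sm ge N56002 = N57233 := rfl
theorem L762359 : sm ga N57233 = N56635 := ded_13_1 (flp_e L757292) (flp_a L749446) L762357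
theorem L762361 : sm gb N57233 = N56482 := ded_21_1 (flp_e L755645) (flp_b L749448) L762357
theorem L762363 : sm gg N57233 = N56533 := ded_41_2 (flp_e L756199) (flp_g L749452) L762357
theorem L762365 : sm gh N57233 = N57233 := ded_43_2 (flp_e L762357) L749456 L762357
theorem L762366 : sm gi N57233 = N56035 := ded_44_2 (flp_e L749890) (flp_i L749454) L762357
theorem L762368 : sm gf N57233 = N56147 := ded_40_2 (flp_e L751461) L736156 (flp_e L734001) (flp_f L749450) L762357
theorem L762370 : sm gd N56004 = N57234 := rfl
theorem L762372 : sm ga N57234 = N57122 := ded_12_1 (flp_d L761128) (flp_a L749474) L762370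
theorem L762374 : sm gb N57234 = N56485 := ded_20_1 (flp_d L755681) (flp_b L749476) L762370
theorem L762376 : sm gf N57234 = N56970 := ded_35_2 (flp_d L760185) (flp_f L749482) L762370
theorem L762378 : sm gg N57234 = N56010 := ded_36_2 (flp_d L749562) (flp_g L749484) L762370
theorem L762380 : sm gj N57234 = N56757 := ded_37_2 (flp_d L758414) (flp_j L749486) L762370
theorem L762382 : sm ge N57234 = N56152 := ded_34_2 (flp_d L751525) L736230 (flp_d L734067) (flp_e L749480) L762370
theorem L762384 : sm gh N57234 = N56752 := ded_38_2 (flp_d L758357) (flp_h L744596) (flp_d L734044) L749472 L762370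
theorem L762386 : sm gh N56005 = N57235 := rfl
theorem L762388 : sm ga N57235 = N56683 := ded_17_1 (flp_h L757732) (flp_a L749490) L762386
theorem L762390 : sm gb N57235 = N56767 := ded_25_1 (flp_h L758507) (flp_b L749492) L762386
theorem L762392 : sm gc N57235 = N56009 := ded_32_1 (flp_h L749550) (flp_c L749494) L762386
theorem L762394 : sm ge N57235 = N56024 := ded_43_1 (flp_h L749752) (flp_e L749498) L762386
theorem L762396 : sm gf N57235 = N56006 := ded_47_1 (flp_h L749504) (flp_f L749500) L762386
theorem L762398 : sm gj N57235 = N56019 := ded_52_1 (flp_h L749702) (flp_j L749502) L762386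
theorem L762400 : sm gi N57235 = N56792 := ded_54_2 (flp_h L758767) (flp_i L745110) (flp_h L734081) L749488 L762386
theorem L762402 : sm gd N56006 = N57236 := rfl
theorem L762404 : sm ga N57236 = N57139 := ded_12_1 (flp_d L761218) (flp_a L749506) L762402
theorem L762406 : sm gb N57236 = N57044 := ded_20_1 (flp_d L760632) (flp_b L749508) L762402
theorem L762408 : sm gg N57236 = N56874 := ded_36_2 (flp_d L759525) (flp_g L749514) L762402
theorem L762410 : sm gj N57236 = N56020 := ded_37_2 (flp_d L749718) (flp_j L749516) L762402
theorem L762412 : sm gh N57236 = N56864 := ded_38_2 (flp_d L759445) (flp_h L745866) (flp_d L734093) L749504 L762402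
theorem L762414 : sm ge N56007 = N57237 := rfl
theorem L762416 : sm ga N57237 = N57157 := ded_13_1 (flp_e L761327) (flp_a L749520) L762414
theorem L762418 : sm gb N57237 = N57045 := ded_21_1 (flp_e L760636) (flp_b L749522) L762414
theorem L762420 : sm gc N57237 = N56158 := ded_28_1 (flp_e L751599) (flp_c L749530) L762414
theorem L762422 : sm gg N57237 = N56918 := ded_41_2 (flp_e L759833) (flp_g L749526) L762414
theorem L762424 : sm gj N57237 = N56021 := ded_42_2 (flp_e L749724) (flp_j L749528) L762414
theorem L762426 : sm gh N57237 = N56042 := ded_43_2 (flp_e L749982) (flp_h L749532) L762414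
theorem L762428 : sm gh N56008 = N57238 := rfl
theorem L762430 : sm ga N57238 = N56662 := ded_17_1 (flp_h L757566) (flp_a L749536) L762428
theorem L762432 : sm gb N57238 = N56471 := ded_25_1 (flp_h L755521) (flp_b L749538) L762428
theorem L762434 : sm ge N57238 = N56027 := ded_43_1 (flp_h L749791) (flp_e L749542) L762428
theorem L762436 : sm gf N57238 = N56384 := ded_47_1 (flp_h L754652) (flp_f L749544) L762428
theorem L762438 : sm gg N57238 = N56009 := ded_50_1 (flp_h L749550) (flp_g L749546) L762428
theorem L762440 : sm gj N57238 = N56543 := ded_52_1 (flp_h L756321) (flp_j L749548) L762428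
theorem L762442 : sm gd N56009 = N57239 := rfl
theorem L762444 : sm ga N57239 = N56690 := ded_12_1 (flp_d L757784) (flp_a L749552) L762442
theorem L762446 : sm gb N57239 = N56487 := ded_20_1 (flp_d L755705) (flp_b L749554) L762442
theorem L762448 : sm gf N57239 = N56010 := ded_35_2 (flp_d L749562) (flp_f L749558) L762442
theorem L762450 : sm gj N57239 = N56022 := ded_37_2 (flp_d L749734) (flp_j L749560) L762442
theorem L762452 : sm gc N56010 = N57240 := rfl
theorem L762454 : sm ga N57240 = N57148 := ded_11_1 (flp_c L761262) (flp_a L749564) L762452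
theorem L762456 : sm ge N57240 = N56162 := ded_28_2 (flp_c L751647) (flp_e L749570) L762452
theorem L762458 : sm gj N57240 = N56023 := ded_31_2 (flp_c L749744) (flp_j L749568) L762452
theorem L762460 : sm gi N56011 = N57241 := rfl
theorem L762462 : sm ga N57241 = N56546 := ded_18_1 (flp_i L756343) (flp_a L749574) L762460
theorem L762464 : sm gb N57241 = N56017 := ded_26_1 (flp_i L749678) (flp_b L749576) L762460
theorem L762466 : sm gc N57241 = N56128 := ded_33_1 (flp_i L751213) (flp_c L749578) L762460
theorem L762468 : sm gd N57241 = N56109 := ded_39_1 (flp_i L750965) (flp_d L749588) L762460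
theorem L762470 : sm ge N57241 = N56043 := ded_44_1 (flp_i L749997) (flp_e L749580) L762460
theorem L762472 : sm gf N57241 = N56108 := ded_48_1 (flp_i L750954) (flp_f L749582) L762460
theorem L762474 : sm gg N57241 = N56117 := ded_51_1 (flp_i L751059) (flp_g L749584) L762460
theorem L762476 : sm gj N57241 = N56744 := ded_53_1 L758267 (flp_j L749586) L762460
theorem L762478 : sm gh N56012 = N57242 := rfl
theorem L762480 : sm ga N57242 = N56854 := ded_17_1 (flp_h L759371) (flp_a L749592) L762478
theorem L762482 : sm gb N57242 = N56018 := ded_25_1 (flp_h L749690) (flp_b L749594) L762478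
theorem L762484 : sm gc N57242 = N56639 := ded_32_1 (flp_h L757335) (flp_c L749596) L762478
theorem L762486 : sm ge N57242 = N56044 := ded_43_1 (flp_h L750011) (flp_e L749600) L762478
theorem L762488 : sm gf N57242 = N56782 := ded_47_1 (flp_h L758674) (flp_f L749602) L762478
theorem L762490 : sm gg N57242 = N56155 := ded_50_1 (flp_h L751567) (flp_g L749604) L762478
theorem L762492 : sm gj N57242 = N56736 := ded_52_1 L758186 (flp_j L749606) L762478
theorem L762494 : sm gd N56013 = N57243 := rfl
theorem L762496 : sm ga N57243 = N56857 := ded_12_1 (flp_d L759390) (flp_a L749610) L762494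
theorem L762498 : sm gb N57243 = N56020 := ded_20_1 (flp_d L749718) (flp_b L749612) L762494
theorem L762500 : sm gf N57243 = N56783 := ded_35_2 (flp_d L758679) (flp_f L749618) L762494
theorem L762502 : sm gg N57243 = N56774 := ded_36_2 (flp_d L758602) (flp_g L749620) L762494
theorem L762504 : sm gj N57243 = N57044 := ded_37_2 (flp_d L760632) (flp_j L749622) L762494
theorem L762506 : sm gi N57243 = N56806 := ded_39_2 (flp_d L758905) (flp_i L749624) L762494
theorem L762508 : sm ge N56014 = N57244 := rfl
theorem L762510 : sm ga N57244 = N56501 := ded_13_1 (flp_e L755847) (flp_a L749628) L762508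
theorem L762512 : sm gb N57244 = N56021 := ded_21_1 (flp_e L749724) (flp_b L749630) L762508
theorem L762514 : sm gc N57244 = N56468 := ded_28_1 (flp_e L755490) (flp_c L749640) L762508
theorem L762516 : sm gg N57244 = N56775 := ded_41_2 (flp_e L758608) (flp_g L749634) L762508
theorem L762518 : sm gj N57244 = N57045 := ded_42_2 (flp_e L760636) (flp_j L749636) L762508
theorem L762520 : sm gh N57244 = N56046 := ded_43_2 (flp_e L750038) (flp_h L749642) L762508
theorem L762522 : sm gi N57244 = N56816 := ded_44_2 (flp_e L758991) (flp_i L749638) L762508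
theorem L762524 : sm gf N57244 = N56566 := ded_40_2 (flp_e L756550) L742442 L734391 (flp_f L749632) L762508
theorem L762526 : sm gi N56015 = N57245 := rfl
theorem L762528 : sm ga N57245 = N56676 := ded_18_1 (flp_i L757681) (flp_a L749646) L762526
theorem L762530 : sm gb N57245 = N56108 := ded_26_1 (flp_i L750954) (flp_b L749648) L762526
theorem L762532 : sm gc N57245 = N56115 := ded_33_1 (flp_i L751036) (flp_c L749650) L762526
theorem L762534 : sm gd N57245 = N56106 := ded_39_1 (flp_i L750933) (flp_d L749659) L762526
theorem L762536 : sm ge N57245 = N57245 := ded_44_1 (flp_i L762526) L749652 L762526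
theorem L762537 : sm gf N57245 = N56017 := ded_48_1 (flp_i L749678) (flp_f L749653) L762526
theorem L762539 : sm gg N57245 = N56549 := ded_51_1 (flp_i L756383) (flp_g L749655) L762526
theorem L762541 : sm gj N57245 = N56591 := ded_53_1 (flp_i L756835) (flp_j L749657) L762526
theorem L762543 : sm gh N56016 = N57246 := rfl
theorem L762545 : sm ga N57246 = N56677 := ded_17_1 (flp_h L757688) (flp_a L749663) L762543
theorem L762547 : sm gb N57246 = N56782 := ded_25_1 (flp_h L758674) (flp_b L749665) L762543
theorem L762549 : sm gc N57246 = N56151 := ded_32_1 (flp_h L751516) (flp_c L749667) L762543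
theorem L762551 : sm ge N57246 = N57246 := ded_43_1 (flp_h L762543) L749671 L762543
theorem L762552 : sm gf N57246 = N56018 := ded_47_1 (flp_h L749690) (flp_f L749672) L762543
theorem L762554 : sm gg N57246 = N56550 := ded_50_1 (flp_h L756396) (flp_g L749674) L762543
theorem L762556 : sm gj N57246 = N56863 := ded_52_1 (flp_h L759438) (flp_j L749676) L762543
theorem L762558 : sm gh N56017 = N57247 := rfl
theorem L762560 : sm ga N57247 = N57132 := ded_17_1 (flp_h L761178) (flp_a L749680) L762558
theorem L762562 : sm gc N57247 = N56116 := ded_32_1 (flp_h L751047) (flp_c L749682) L762558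
theorem L762564 : sm ge N57247 = N56047 := ded_43_1 (flp_h L750053) (flp_e L749684) L762558
theorem L762566 : sm gg N57247 = N56120 := ded_50_1 (flp_h L751102) (flp_g L749686) L762558
theorem L762568 : sm gj N57247 = N56839 := ded_52_1 (flp_h L759222) (flp_j L749688) L762558
theorem L762570 : sm gi N57247 = N56018 := ded_54_2 (flp_h L749690) (flp_i L734226) L734214 L749678 L762558
theorem L762572 : sm gd N56018 = N57248 := rfl
theorem L762574 : sm ga N57248 = N57133 := ded_12_1 (flp_d L761186) (flp_a L749692) L762572
theorem L762576 : sm gg N57248 = N56157 := ded_36_2 (flp_d L751589) (flp_g L749698) L762572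
theorem L762578 : sm gj N57248 = N56864 := ded_37_2 (flp_d L759445) (flp_j L749700) L762572
theorem L762580 : sm gh N57248 = N56020 := ded_38_2 (flp_d L749718) (flp_h L734254) (flp_d L734232) L749690 L762572
theorem L762582 : sm gd N56019 = N57249 := rfl
theorem L762584 : sm ga N57249 = N56684 := ded_12_1 (flp_d L757742) (flp_a L749704) L762582
theorem L762586 : sm gb N57249 = N56783 := ded_20_1 (flp_d L758679) (flp_b L749706) L762582
theorem L762588 : sm gf N57249 = N56020 := ded_35_2 (flp_d L749718) (flp_f L749712) L762582
theorem L762590 : sm gg N57249 = N56553 := ded_36_2 (flp_d L756427) (flp_g L749714) L762582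
theorem L762592 : sm gi N57249 = N56802 := ded_39_2 (flp_d L758872) (flp_i L749716) L762582
theorem L762594 : sm gc N56020 = N57250 := rfl
theorem L762596 : sm ga N57250 = N57140 := ded_11_1 (flp_c L761222) (flp_a L749720) L762594
theorem L762598 : sm gg N57250 = N56776 := ded_30_2 (flp_c L758614) (flp_g L749722) L762594
theorem L762600 : sm gd N57250 = N56023 := ded_27_2 (flp_c L749744) (flp_d L734288) (flp_c L734258) L749718 L762594
theorem L762602 : sm ge N56020 = N57251 := rfl
theorem L762604 : sm ga N57251 = N57141 := ded_13_1 (flp_e L761228) (flp_a L749720) L762602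
theorem L762606 : sm gg N57251 = N56777 := ded_41_2 (flp_e L758622) (flp_g L749722) L762602
theorem L762608 : sm gd N57251 = N56021 := ded_34_1 (flp_e L749724) (flp_d L734264) (flp_e L734260) L749718 L762602
theorem L762610 : sm gf N56021 = N57252 := rfl
theorem L762612 : sm ga N57252 = N57156 := ded_14_1 L761325 (flp_a L749726) L762610
theorem L762614 : sm gb N57252 = N56566 := ded_22_1 (flp_f L762524) L762512 L762610
theorem L762616 : sm gc N57252 = N56178 := ded_29_1 (flp_f L751851) (flp_c L749728) L762610
theorem L762618 : sm gh N57252 = N56050 := ded_47_2 (flp_f L750092) (flp_h L749732) L762610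
theorem L762620 : sm ge N57252 = N56033 := ded_40_1 (flp_f L749870) (flp_e L734418) (flp_f L734268) L749724 L762610
theorem L762622 : sm gc N56022 = N57253 := rfl
theorem L762624 : sm ga N57253 = N56691 := ded_11_1 (flp_c L757790) (flp_a L749736) L762622
theorem L762626 : sm gf N57253 = N56023 := ded_29_2 (flp_c L749744) (flp_f L749740) L762622
theorem L762628 : sm gg N57253 = N56555 := ded_30_2 (flp_c L756447) (flp_g L749742) L762622
theorem L762630 : sm ge N56022 = N57254 := rfl
theorem L762632 : sm ga N57254 = N56692 := ded_13_1 (flp_e L757796) (flp_a L749736) L762630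
theorem L762634 : sm gb N57254 = N56496 := ded_21_1 (flp_e L755805) (flp_b L749738) L762630
theorem L762636 : sm gg N57254 = N56556 := ded_41_2 (flp_e L756453) (flp_g L749742) L762630
theorem L762638 : sm gd N57254 = N56035 := ded_34_1 (flp_e L749890) (flp_d L734430) (flp_e L734282) L749734 L762630
theorem L762640 : sm gf N57254 = N56182 := ded_40_2 (flp_e L751881) L736592 (flp_e L734296) (flp_f L749740) L762630
theorem L762642 : sm gb N56023 = N57255 := rfl
theorem L762644 : sm ge N57255 = N56183 := ded_21_2 (flp_b L751887) (flp_e L749748) L762642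
theorem L762646 : sm gg N57255 = N56778 := ded_23_2 (flp_b L758628) (flp_g L749750) L762642
theorem L762648 : sm gc N57255 = N56497 := ded_19_2 (flp_b L755811) (flp_c L741571) (flp_b L734292) L749744 L762642
theorem L762650 : sm gd N56024 = N57256 := rfl
theorem L762652 : sm ga N57256 = N56709 := ded_12_1 (flp_d L757932) (flp_a L749754) L762650
theorem L762654 : sm gb N57256 = N56768 := ded_20_1 (flp_d L758521) (flp_b L749756) L762650
theorem L762656 : sm gf N57256 = N56025 := ded_35_2 (flp_d L749766) (flp_f L749760) L762650
theorem L762658 : sm gj N57256 = N56030 := ded_37_2 (flp_d L749827) (flp_j L749762) L762650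
theorem L762660 : sm gi N57256 = N56793 := ded_39_2 (flp_d L758775) (flp_i L749764) L762650
theorem L762662 : sm gh N57256 = N57256 := ded_38_2 (flp_d L762650) (flp_h L749752) L734306 L749752 L762650
theorem L762663 : sm gc N56025 = N57257 := rfl
theorem L762665 : sm ga N57257 = N56630 := ded_11_1 L757240 (flp_a L749768) L762663
theorem L762667 : sm gg N57257 = N57257 := ded_30_2 (flp_c L762663) L749772 L762663
theorem L762668 : sm gj N57257 = N56031 := ded_31_2 (flp_c L749840) (flp_j L749773) L762663
theorem L762670 : sm gh N57257 = N57257 := ded_32_2 (flp_c L762663) L749777 L762663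
theorem L762671 : sm gi N57257 = N56706 := ded_33_2 L757900 (flp_i L749775) L762663
theorem L762673 : sm gb N57257 = N57102 := ded_19_1 (flp_c L760985) L747710 (flp_c L745042) (flp_b L749770) L762663
theorem L762675 : sm gd N57257 = N56029 := ded_27_2 (flp_c L749814) (flp_d L734362) (flp_c L734317) L749766 L762663
theorem L762677 : sm ge N56908 = N57257 := ded_13_0 L762665 L757232 (flp_a L759756)
theorem L762679 : sm ge N56025 = N57258 := rfl
theorem L762681 : sm ga N57258 = N56719 := ded_13_1 (flp_e L758016) (flp_a L749768) L762679
theorem L762683 : sm gb N57258 = N56560 := ded_21_1 L756493 (flp_b L749770) L762679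
theorem L762685 : sm gc N57258 = N56908 := ded_28_1 L762677 (flp_c L762663) L762679
theorem L762687 : sm gg N57258 = N57258 := ded_41_2 (flp_e L762679) L749772 L762679
theorem L762688 : sm gj N57258 = N56032 := ded_42_2 (flp_e L749855) (flp_j L749773) L762679
theorem L762690 : sm gh N57258 = N57258 := ded_43_2 (flp_e L762679) L749777 L762679
theorem L762691 : sm gi N57258 = N56812 := ded_44_2 (flp_e L758945) (flp_i L749775) L762679
theorem L762693 : sm gd N57258 = N56026 := ded_34_1 (flp_e L749778) (flp_d L734326) (flp_e L734319) L749766 L762679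
theorem L762695 : sm gf N56026 = N57259 := rfl
theorem L762697 : sm ga N57259 = N57151 := ded_14_1 L761276 (flp_a L749780) L762695
theorem L762699 : sm gb N57259 = N56562 := ded_22_1 L756516 (flp_b L749782) L762695
theorem L762701 : sm gc N57259 = N56186 := ded_29_1 (flp_f L751927) (flp_c L749784) L762695
theorem L762703 : sm gj N57259 = N56033 := ded_46_2 (flp_f L749870) (flp_j L749787) L762695
theorem L762705 : sm gh N57259 = N56051 := ded_47_2 (flp_f L750103) (flp_h L749789) L762695
theorem L762707 : sm gd N56027 = N57260 := rfl
theorem L762709 : sm ga N57260 = N56701 := ded_12_1 (flp_d L757858) (flp_a L749793) L762707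
theorem L762711 : sm gb N57260 = N56472 := ded_20_1 (flp_d L755531) (flp_b L749795) L762707
theorem L762713 : sm gf N57260 = N57260 := ded_35_2 (flp_d L762707) L749797 L762707
theorem L762714 : sm gg N57260 = N56028 := ded_36_2 (flp_d L749802) (flp_g L749798) L762707
theorem L762716 : sm gj N57260 = N56561 := ded_37_2 (flp_d L756503) (flp_j L749800) L762707
theorem L762718 : sm gh N57260 = N56037 := ded_38_2 (flp_d L749920) (flp_h L734501) (flp_d L734345) L749791 L762707
theorem L762720 : sm gc N56028 = N57261 := rfl
theorem L762722 : sm ga N57261 = N56713 := ded_11_1 (flp_c L757964) (flp_a L749804) L762720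
theorem L762724 : sm gf N57261 = N56029 := ded_29_2 (flp_c L749814) (flp_f L749808) L762720
theorem L762726 : sm gj N57261 = N56034 := ded_31_2 (flp_c L749880) (flp_j L749810) L762720
theorem L762728 : sm gh N57261 = N56038 := ded_32_2 (flp_c L749932) (flp_h L749812) L762720
theorem L762730 : sm gb N57261 = N57066 := ded_19_1 (flp_c L760762) L747487 (flp_c L741583) (flp_b L749806) L762720
theorem L762732 : sm ge N56028 = N57262 := rfl
theorem L762734 : sm ga N57262 = N56714 := ded_13_1 (flp_e L757974) (flp_a L749804) L762732
theorem L762736 : sm gb N57262 = N56498 := ded_21_1 (flp_e L755817) (flp_b L749806) L762732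
theorem L762738 : sm gj N57262 = N56035 := ded_42_2 (flp_e L749890) (flp_j L749810) L762732
theorem L762740 : sm gh N57262 = N56039 := ded_43_2 (flp_e L749944) (flp_h L749812) L762732
theorem L762742 : sm gf N57262 = N56190 := ded_40_2 (flp_e L751979) L736665 (flp_e L734371) (flp_f L749808) L762732
theorem L762744 : sm gc N56030 = N57263 := rfl
theorem L762746 : sm ga N57263 = N56636 := ded_11_1 L757310 (flp_a L749829) L762744
theorem L762748 : sm gf N57263 = N56031 := ded_29_2 (flp_c L749840) (flp_f L749833) L762744
theorem L762750 : sm gg N57263 = N56564 := ded_30_2 (flp_c L756530) (flp_g L749835) L762744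
theorem L762752 : sm gh N57263 = N57263 := ded_32_2 (flp_c L762744) L749839 L762744
theorem L762753 : sm gi N57263 = N56716 := ded_33_2 L757996 (flp_i L749837) L762744
theorem L762755 : sm gb N57263 = N57103 := ded_19_1 (flp_c L760997) L747722 (flp_c L745022) (flp_b L749831) L762744
theorem L762757 : sm gd N57263 = N56034 := ded_27_2 (flp_c L749880) (flp_d L734430) (flp_c L734399) L749827 L762744
theorem L762759 : sm ge N56030 = N57264 := rfl
theorem L762761 : sm ga N57264 = N56710 := ded_13_1 (flp_e L757939) (flp_a L749829) L762759
theorem L762763 : sm gb N57264 = N56784 := ded_21_1 (flp_e L758685) (flp_b L749831) L762759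
theorem L762765 : sm gg N57264 = N56565 := ded_41_2 (flp_e L756541) (flp_g L749835) L762759
theorem L762767 : sm gh N57264 = N57264 := ded_43_2 (flp_e L762759) L749839 L762759
theorem L762768 : sm gi N57264 = N56803 := ded_44_2 (flp_e L758878) (flp_i L749837) L762759
theorem L762770 : sm gf N56032 = N57265 := rfl
theorem L762772 : sm ga N57265 = N56720 := ded_14_1 (flp_f L758028) (flp_a L749857) L762770
theorem L762774 : sm gb N57265 = N56564 := ded_22_1 L756534 (flp_b L749859) L762770
theorem L762776 : sm gc N57265 = N56912 := ded_29_1 L759795 (flp_c L749861) L762770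
theorem L762778 : sm gd N57265 = N56033 := ded_35_1 (flp_f L749870) (flp_d L749868) L762770
theorem L762780 : sm gh N57265 = N57265 := ded_47_2 (flp_f L762770) L749865 L762770
theorem L762781 : sm gi N57265 = N56815 := ded_48_2 (flp_f L758981) (flp_i L749866) L762770
theorem L762783 : sm gg N57265 = N57103 := ded_45_2 L760999 L747733 (flp_f L734482) (flp_g L749863) L762770
theorem L762785 : sm gg N56033 = N57266 := rfl
theorem L762787 : sm ga N57266 = N56815 := ded_15_1 L758989 (flp_a L749872) L762785
theorem L762789 : sm gb N57266 = N56034 := ded_23_1 L749886 (flp_b L749874) L762785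
theorem L762791 : sm gc N57266 = N56194 := ded_30_1 (flp_g L752040) (flp_c L749876) L762785
theorem L762793 : sm gd N57266 = N57103 := ded_36_1 (flp_g L762783) L762778 L762785
theorem L762795 : sm gh N57266 = N56040 := ded_50_2 L749962 (flp_h L749878) L762785
theorem L762797 : sm gi N57266 = N56720 := ded_51_2 (flp_g L762340) L762338 L762785
theorem L762799 : sm gf N57266 = N56036 := ded_45_1 L749908 (flp_f L734484) (flp_g L734426) L749870 L762785
theorem L762801 : sm gj N57066 = N57266 := ded_24_0 L762789 (flp_j L762726) L762730
theorem L762803 : sm ge N56034 = N57267 := rfl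
theorem L762805 : sm ga N57267 = N56715 := ded_13_1 (flp_e L757982) (flp_a L749882) L762803
theorem L762807 : sm gc N57267 = N56035 := ded_28_1 (flp_e L749890) L749880 L762803
theorem L762809 : sm gg N57267 = N56566 := ded_41_2 (flp_e L756550) (flp_g L749886) L762803
theorem L762811 : sm gh N57267 = N56041 := ded_43_2 (flp_e L749971) (flp_h L749888) L762803
theorem L762813 : sm gf N57267 = N56198 := ded_40_2 (flp_e L752090) L736794 (flp_e L734446) (flp_f L749884) L762803
theorem L762815 : sm gc N56037 = N57268 := rfl
theorem L762817 : sm ga N57268 = N56721 := ded_11_1 (flp_c L758035) (flp_a L749922) L762815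
theorem L762819 : sm gf N57268 = N57268 := ded_29_2 (flp_c L762815) L749926 L762815
theorem L762820 : sm gg N57268 = N56038 := ded_30_2 (flp_c L749932) (flp_g L749927) L762815
theorem L762822 : sm gj N57268 = N56567 := ded_31_2 (flp_c L756558) (flp_j L749929) L762815
theorem L762824 : sm gi N57268 = N57268 := ded_33_2 (flp_c L762815) L749931 L762815
theorem L762825 : sm gb N57268 = N56741 := ded_19_1 (flp_c L758239) L744386 (flp_c L741644) (flp_b L749924) L762815
theorem L762827 : sm gd N57268 = N57268 := ded_27_2 (flp_c L762815) (flp_d L749920) L734507 L749920 L762815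
theorem L762828 : sm ge N56037 = N57269 := rfl
theorem L762830 : sm ga N57269 = N56722 := ded_13_1 (flp_e L758046) (flp_a L749922) L762828
theorem L762832 : sm gb N57269 = N56502 := ded_21_1 (flp_e L755859) (flp_b L749924) L762828
theorem L762834 : sm gg N57269 = N56039 := ded_41_2 (flp_e L749944) (flp_g L749927) L762828
theorem L762836 : sm gj N57269 = N56568 := ded_42_2 (flp_e L756567) (flp_j L749929) L762828
theorem L762838 : sm gi N57269 = N57269 := ded_44_2 (flp_e L762828) L749931 L762828
theorem L762839 : sm gd N57269 = N56931 := ded_34_1 (flp_e L759936) (flp_d L746502) (flp_e L734508) L749920 L762828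
theorem L762841 : sm ge N56038 = N57270 := rfl
theorem L762843 : sm ga N57270 = N56729 := ded_13_1 (flp_e L758106) (flp_a L749934) L762841
theorem L762845 : sm gb N57270 = N57162 := ded_21_1 (flp_e L761365) (flp_b L749941) L762841
theorem L762847 : sm gc N57270 = N56039 := ded_28_1 (flp_e L749944) L749932 L762841
theorem L762849 : sm gj N57270 = N56041 := ded_42_2 (flp_e L749971) (flp_j L749938) L762841
theorem L762851 : sm gi N57270 = N57270 := ded_44_2 (flp_e L762841) L749940 L762841
theorem L762852 : sm gf N57270 = N56202 := ded_40_2 (flp_e L752140) L736896 (flp_e L734531) (flp_f L749936) L762841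
theorem L762854 : sm gd N56743 = N57270 := ded_35_3 L762852 L752151 L758253
theorem L762856 : sm ge N56040 = N57271 := rfl
theorem L762858 : sm ga N57271 = N56826 := ded_13_1 L759099 (flp_a L749967) L762856
theorem L762860 : sm gb N57271 = N56041 := ded_21_1 (flp_e L749971) L749957 L762856
theorem L762862 : sm gc N57271 = N56219 := ded_28_1 L752365 (flp_c L749969) L762856
theorem L762864 : sm gg N57271 = N56050 := ded_41_2 L750101 (flp_g L749962) L762856
theorem L762866 : sm gj N57271 = N57162 := ded_42_2 (flp_e L761365) (flp_j L749964) L762856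
theorem L762868 : sm gi N57271 = N57271 := ded_44_2 (flp_e L762856) L749966 L762856
theorem L762869 : sm gf N57271 = N56206 := ded_40_2 (flp_e L752192) L736963 (flp_e L734564) (flp_f L749960) L762856
theorem L762871 : sm gd N56041 = N57272 := rfl
theorem L762873 : sm ga N57272 = N56730 := ded_12_1 (flp_d L758117) (flp_a L749973) L762871
theorem L762875 : sm gf N57272 = N56207 := ded_35_2 (flp_d L752203) (flp_f L749980) L762871
theorem L762877 : sm gg N57272 = N56570 := ded_36_2 (flp_d L756585) (flp_g L749977) L762871
theorem L762879 : sm gj N57272 = N56743 := ded_37_2 L762854 L762849 L762871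
theorem L762881 : sm gi N57272 = N57272 := ded_39_2 (flp_d L762871) L749979 L762871
theorem L762882 : sm ge N57272 = N57272 := ded_34_2 (flp_d L762871) (flp_e L749971) L734549 L749971 L762871
theorem L762883 : sm gf N56042 = N57273 := rfl
theorem L762885 : sm ga N57273 = N57171 := ded_14_1 (flp_f L761418) (flp_a L749984) L762883
theorem L762887 : sm gb N57273 = N56569 := ded_22_1 L756583 (flp_b L749986) L762883
theorem L762889 : sm gc N57273 = N56209 := ded_29_1 (flp_f L752221) (flp_c L749988) L762883
theorem L762891 : sm gd N57273 = N56916 := ded_35_1 (flp_f L759819) (flp_d L749995) L762883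
theorem L762893 : sm gj N57273 = N56050 := ded_46_2 (flp_f L750092) (flp_j L749992) L762883
theorem L762895 : sm gi N57273 = N57273 := ded_48_2 (flp_f L762883) L749994 L762883
theorem L762896 : sm ge N57273 = N56051 := ded_40_1 (flp_f L750103) (flp_e L734694) (flp_f L734581) L749982 L762883
theorem L762898 : sm gh N56043 = N57274 := rfl
theorem L762900 : sm ga N57274 = N56572 := ded_17_1 (flp_h L756606) (flp_a L749999) L762898
theorem L762902 : sm gb N57274 = N56047 := ded_25_1 (flp_h L750053) (flp_b L750001) L762898
theorem L762904 : sm gc N57274 = N56571 := ded_32_1 (flp_h L756591) (flp_c L750003) L762898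
theorem L762906 : sm gf N57274 = N57274 := ded_47_1 (flp_h L762898) L750006 L762898
theorem L762907 : sm gg N57274 = N56118 := ded_50_1 (flp_h L751075) (flp_g L750007) L762898
theorem L762909 : sm gj N57274 = N56734 := ded_52_1 L758158 (flp_j L750009) L762898
theorem L762911 : sm gi N57274 = N56044 := ded_54_2 (flp_h L750011) (flp_i L734604) L734590 L749997 L762898
theorem L762913 : sm gd N56044 = N57275 := rfl
theorem L762915 : sm ga N57275 = N57158 := ded_12_1 (flp_d L761335) (flp_a L750013) L762913
theorem L762917 : sm gb N57275 = N56048 := ded_20_1 (flp_d L750066) (flp_b L750015) L762913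
theorem L762919 : sm gf N57275 = N57275 := ded_35_2 (flp_d L762913) L750019 L762913
theorem L762920 : sm gg N57275 = N56156 := ded_36_2 (flp_d L751579) (flp_g L750020) L762913
theorem L762922 : sm gj N57275 = N56455 := ded_37_2 L755348 (flp_j L750022) L762913
theorem L762924 : sm gc N57275 = N56447 := ded_27_1 (flp_d L755245) L740882 (flp_d L743363) (flp_c L750017) L762913
theorem L762926 : sm gh N57275 = N56045 := ded_38_2 (flp_d L750024) (flp_h L734619) (flp_d L734612) L750011 L762913
theorem L762928 : sm ge N56045 = N57276 := rfl
theorem L762930 : sm ga N57276 = N56504 := ded_13_1 L755888 (flp_a L750026) L762928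
theorem L762932 : sm gb N57276 = N56049 := ded_21_1 (flp_e L750079) (flp_b L750028) L762928
theorem L762934 : sm gc N57276 = N56448 := ded_28_1 (flp_e L755254) (flp_c L750036) L762928
theorem L762936 : sm gg N57276 = N56208 := ded_41_2 (flp_e L752212) (flp_g L750031) L762928
theorem L762938 : sm gj N57276 = N56457 := ded_42_2 (flp_e L755356) (flp_j L750033) L762928
theorem L762940 : sm gi N57276 = N57276 := ded_44_2 (flp_e L762928) L750035 L762928
theorem L762941 : sm gd N57276 = N56046 := ded_34_1 (flp_e L750038) (flp_d L734635) (flp_e L734627) L750024 L762928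
theorem L762943 : sm gf N56570 = N57276 := ded_14_0 L762930 L755883 (flp_a L756587)
theorem L762945 : sm gd N56047 = N57277 := rfl
theorem L762947 : sm ga N57277 = N57167 := ded_12_1 (flp_d L761393) (flp_a L750055) L762945
theorem L762949 : sm gf N57277 = N57277 := ded_35_2 (flp_d L762945) L750059 L762945
theorem L762950 : sm gg N57277 = N56121 := ded_36_2 (flp_d L751116) (flp_g L750060) L762945
theorem L762952 : sm gj N57277 = N56840 := ded_37_2 (flp_d L759232) (flp_j L750062) L762945
theorem L762954 : sm gi N57277 = N56048 := ded_39_2 (flp_d L750066) (flp_i L750064) L762945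
theorem L762956 : sm gc N57277 = N56917 := ded_27_1 (flp_d L759825) (flp_c L749180) L749187 (flp_c L750057) L762945
theorem L762958 : sm gh N57277 = N57277 := ded_38_2 (flp_d L762945) (flp_h L750053) L734656 L750053 L762945
theorem L762959 : sm ge N56048 = N57278 := rfl
theorem L762961 : sm ga N57278 = N57168 := ded_13_1 (flp_e L761401) (flp_a L750068) L762959
theorem L762963 : sm gc N57278 = N56918 := ded_28_1 (flp_e L759833) (flp_c L750075) L762959
theorem L762965 : sm gg N57278 = N56158 := ded_41_2 (flp_e L751599) (flp_g L750071) L762959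
theorem L762967 : sm gj N57278 = N56865 := ded_42_2 (flp_e L759449) (flp_j L750073) L762959
theorem L762969 : sm gh N57278 = N56049 := ded_43_2 (flp_e L750079) (flp_h L750077) L762959
theorem L762971 : sm gf N56049 = N57279 := rfl
theorem L762973 : sm ga N57279 = N57170 := ded_14_1 (flp_f L761412) (flp_a L750081) L762971
theorem L762975 : sm gb N57279 = N56570 := ded_22_1 L762943 L762932 L762971
theorem L762977 : sm gc N57279 = N56919 := ded_29_1 (flp_f L759839) (flp_c L750083) L762971
theorem L762979 : sm gd N57279 = N56050 := ded_35_1 (flp_f L750092) (flp_d L750090) L762971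
theorem L762981 : sm gj N57279 = N56916 := ded_46_2 (flp_f L759819) (flp_j L750087) L762971
theorem L762983 : sm gi N57279 = N57279 := ded_48_2 (flp_f L762971) L750089 L762971
theorem L762984 : sm ge N57279 = N57279 := ded_40_1 (flp_f L762971) (flp_e L750079) L734677 L750079 L762971
theorem L762985 : sm gg N56051 = N57280 := rfl
theorem L762987 : sm ga N57280 = N56824 := ded_15_1 L759079 (flp_a L750105) L762985
theorem L762989 : sm gb N57280 = N56567 := ded_23_1 L756563 (flp_b L750107) L762985
theorem L762991 : sm gc N57280 = N56220 := ded_30_1 (flp_g L752372) (flp_c L750109) L762985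
theorem L762993 : sm gd N57280 = N57280 := ded_36_1 (flp_g L762985) L750111 L762985
theorem L762994 : sm gi N57280 = N57280 := ded_51_2 (flp_g L762985) L750114 L762985
theorem L762995 : sm gf N57280 = N57280 := ded_45_1 (flp_g L762985) (flp_f L750103) L734702 L750103 L762985
theorem L762996 : sm gj N57280 = N56741 := ded_49_2 L758242 (flp_j L749964) L749962 (flp_j L750112) L762985
theorem L762998 : sm gh N56052 = N57281 := rfl
theorem L763000 : sm ga N57281 = N56505 := ded_17_1 (flp_h L755890) (flp_a L750117) L762998
theorem L763002 : sm gb N57281 = N56073 := ded_25_1 (flp_h L750445) (flp_b L750119) L762998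
theorem L763004 : sm gc N57281 = N56493 := ded_32_1 (flp_h L755781) (flp_c L750121) L762998
theorem L763006 : sm ge N57281 = N56053 := ded_43_1 (flp_h L750133) (flp_e L750125) L762998
theorem L763008 : sm gf N57281 = N56508 := ded_47_1 (flp_h L755926) (flp_f L750127) L762998
theorem L763010 : sm gg N57281 = N56470 := ded_50_1 (flp_h L755513) (flp_g L750129) L762998
theorem L763012 : sm gj N57281 = N56054 := ded_52_1 (flp_h L750151) (flp_j L750131) L762998
theorem L763014 : sm gi N57281 = N56062 := ded_54_2 (flp_h L750275) (flp_i L734870) (flp_h L734729) L750115 L762998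
theorem L763016 : sm gd N56054 = N57282 := rfl
theorem L763018 : sm ga N57282 = N56506 := ded_12_1 (flp_d L755904) (flp_a L750153) L763016
theorem L763020 : sm gb N57282 = N56078 := ded_20_1 (flp_d L750529) (flp_b L750155) L763016
theorem L763022 : sm gf N57282 = N56512 := ded_35_2 (flp_d L755964) (flp_f L750161) L763016
theorem L763024 : sm gg N57282 = N56491 := ded_36_2 (flp_d L755753) (flp_g L750163) L763016
theorem L763026 : sm gi N57282 = N56067 := ded_39_2 (flp_d L750353) (flp_i L750165) L763016
theorem L763028 : sm ge N57282 = N56860 := ded_34_2 (flp_d L759410) L745809 (flp_d L734779) (flp_e L750159) L763016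
theorem L763030 : sm gh N57282 = N57012 := ded_38_2 (flp_d L760425) (flp_h L747097) (flp_d L734759) L750151 L763016
theorem L763032 : sm gi N56055 = N57283 := rfl
theorem L763034 : sm ga N57283 = N56412 := ded_18_1 (flp_i L754935) (flp_a L750169) L763032
theorem L763036 : sm gb N57283 = N56524 := ded_26_1 (flp_i L756098) (flp_b L750171) L763032
theorem L763038 : sm gc N57283 = N56058 := ded_33_1 (flp_i L750216) (flp_c L750173) L763032
theorem L763040 : sm gd N57283 = N56940 := ded_39_1 (flp_i L759996) (flp_d L750181) L763032
theorem L763042 : sm ge N57283 = N56056 := ded_44_1 (flp_i L750185) L750167 L763032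
theorem L763044 : sm gf N57283 = N56933 := ded_48_1 (flp_i L759954) L750183 L763032
theorem L763046 : sm gg N57283 = N56060 := ded_51_1 (flp_i L750245) (flp_g L750175) L763032
theorem L763048 : sm gj N57283 = N56260 := ded_53_1 (flp_i L753057) (flp_j L750177) L763032
theorem L763050 : sm gh N56056 = N57284 := rfl
theorem L763052 : sm ga N57284 = N56451 := ded_17_1 (flp_h L755290) (flp_a L750187) L763050
theorem L763054 : sm gb N57284 = N56529 := ded_25_1 (flp_h L756152) (flp_b L750189) L763050
theorem L763056 : sm gc N57284 = N56059 := ded_32_1 (flp_h L750230) (flp_c L750191) L763050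
theorem L763058 : sm gf N57284 = N57284 := ded_47_1 (flp_h L763050) L750194 L763050
theorem L763059 : sm gg N57284 = N56061 := ded_50_1 (flp_h L750261) (flp_g L750195) L763050
theorem L763061 : sm gj N57284 = N56261 := ded_52_1 (flp_h L753067) (flp_j L750197) L763050
theorem L763063 : sm gi N57284 = N56449 := ded_54_2 (flp_h L755263) (flp_i L740902) (flp_h L734809) L750185 L763050
theorem L763065 : sm gi N56057 = N57285 := rfl
theorem L763067 : sm ga N57285 = N56267 := ded_18_1 (flp_i L753147) (flp_a L750201) L763065
theorem L763069 : sm gb N57285 = N56080 := ded_26_1 (flp_i L750556) (flp_b L750203) L763065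
theorem L763071 : sm gc N57285 = N56933 := ded_33_1 (flp_i L759954) (flp_c L750205) L763065
theorem L763073 : sm gd N57285 = N56241 := ded_39_1 (flp_i L752757) (flp_d L750207) L763065
theorem L763075 : sm ge N57285 = N57285 := ded_44_1 (flp_i L763065) L750213 L763065
theorem L763076 : sm gf N57285 = N56058 := ded_48_1 (flp_i L750216) L750199 L763065
theorem L763078 : sm gg N57285 = N56411 := ded_51_1 (flp_i L754920) (flp_g L750214) L763065
theorem L763080 : sm gj N57285 = N56262 := ded_53_1 (flp_i L753078) (flp_j L750209) L763065
theorem L763082 : sm gh N56058 = N57286 := rfl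
theorem L763084 : sm ga N57286 = N56507 := ded_17_1 (flp_h L755914) (flp_a L750218) L763082
theorem L763086 : sm gb N57286 = N56081 := ded_25_1 (flp_h L750571) (flp_b L750220) L763082
theorem L763088 : sm ge N57286 = N56059 := ded_43_1 (flp_h L750230) (flp_e L750224) L763082
theorem L763090 : sm gg N57286 = N56062 := ded_50_1 (flp_h L750275) (flp_g L750226) L763082
theorem L763092 : sm gj N57286 = N56263 := ded_52_1 (flp_h L753091) (flp_j L750228) L763082
theorem L763094 : sm gi N57286 = N56470 := ded_54_2 (flp_h L755513) (flp_i L741219) (flp_h L734824) L750216 L763082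
theorem L763096 : sm gh N56060 = N57287 := rfl
theorem L763098 : sm ga N57287 = N56508 := ded_17_1 (flp_h L755926) (flp_a L750247) L763096
theorem L763100 : sm gb N57287 = N56525 := ded_25_1 (flp_h L756108) (flp_b L750249) L763096
theorem L763102 : sm gc N57287 = N56062 := ded_32_1 (flp_h L750275) (flp_c L750251) L763096
theorem L763104 : sm ge N57287 = N56061 := ded_43_1 (flp_h L750261) (flp_e L750255) L763096
theorem L763106 : sm gf N57287 = N56505 := ded_47_1 (flp_h L755890) (flp_f L750257) L763096
theorem L763108 : sm gj N57287 = N56064 := ded_52_1 (flp_h L750304) (flp_j L750259) L763096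
theorem L763110 : sm gi N57287 = N56493 := ded_54_2 (flp_h L755781) (flp_i L741543) (flp_h L734851) L750245 L763096
theorem L763112 : sm gd N56061 = N57288 := rfl
theorem L763114 : sm ga N57288 = N56509 := ded_12_1 (flp_d L755938) (flp_a L750263) L763112
theorem L763116 : sm gb N57288 = N56530 := ded_20_1 (flp_d L756163) (flp_b L750265) L763112
theorem L763118 : sm gf N57288 = N56068 := ded_35_2 (flp_d L750363) (flp_f L750269) L763112
theorem L763120 : sm gj N57288 = N56065 := ded_37_2 (flp_d L750320) (flp_j L750271) L763112
theorem L763122 : sm gi N57288 = N56499 := ded_39_2 (flp_d L755827) (flp_i L750273) L763112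
theorem L763124 : sm gc N57288 = N56914 := ded_27_1 (flp_d L759807) L746281 (flp_d L734894) (flp_c L750267) L763112
theorem L763126 : sm gh N57288 = N57288 := ded_38_2 (flp_d L763112) (flp_h L750261) L734865 L750261 L763112
theorem L763127 : sm gd N56062 = N57289 := rfl
theorem L763129 : sm ga N57289 = N56510 := ded_12_1 (flp_d L755949) (flp_a L750277) L763127
theorem L763131 : sm gb N57289 = N56082 := ded_20_1 (flp_d L750583) (flp_b L750279) L763127
theorem L763133 : sm gf N57289 = N56987 := ded_35_2 (flp_d L760285) (flp_f L750283) L763127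
theorem L763135 : sm gj N57289 = N56067 := ded_37_2 (flp_d L750353) (flp_j L750285) L763127
theorem L763137 : sm ge N57289 = N56903 := ded_34_2 (flp_d L759720) L746150 (flp_d L734894) (flp_e L750281) L763127
theorem L763139 : sm gh N57289 = N56988 := ded_38_2 (flp_d L760291) (flp_h L746915) (flp_d L734876) L750275 L763127
theorem L763141 : sm gh N56063 = N57290 := rfl
theorem L763143 : sm ga N57290 = N56511 := ded_17_1 (flp_h L755955) (flp_a L750289) L763141
theorem L763145 : sm gb N57290 = N56520 := ded_25_1 (flp_h L756050) (flp_b L750291) L763141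
theorem L763147 : sm gc N57290 = N56484 := ded_32_1 (flp_h L755672) (flp_c L750293) L763141
theorem L763149 : sm ge N57290 = N57290 := ded_43_1 (flp_h L763141) L750297 L763141
theorem L763150 : sm gf N57290 = N56483 := ded_47_1 (flp_h L755656) (flp_f L750298) L763141
theorem L763152 : sm gg N57290 = N56473 := ded_50_1 (flp_h L755542) (flp_g L750300) L763141
theorem L763154 : sm gj N57290 = N57016 := ded_52_1 (flp_h L760453) (flp_j L750302) L763141
theorem L763156 : sm gi N57290 = N57007 := ded_54_2 (flp_h L760392) (flp_i L747062) L734911 L750287 L763141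
theorem L763158 : sm gd N56064 = N57291 := rfl
theorem L763160 : sm ga N57291 = N56512 := ded_12_1 (flp_d L755964) (flp_a L750306) L763158
theorem L763162 : sm gb N57291 = N56527 := ded_20_1 (flp_d L756132) (flp_b L750308) L763158
theorem L763164 : sm gf N57291 = N56506 := ded_35_2 (flp_d L755904) (flp_f L750314) L763158
theorem L763166 : sm gg N57291 = N56479 := ded_36_2 (flp_d L755612) (flp_g L750316) L763158
theorem L763168 : sm gi N57291 = N56494 := ded_39_2 (flp_d L755793) (flp_i L750318) L763158
theorem L763170 : sm ge N56065 = N57292 := rfl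
theorem L763172 : sm ga N57292 = N56513 := ded_13_1 (flp_e L755968) (flp_a L750322) L763170
theorem L763174 : sm gb N57292 = N56533 := ded_21_1 (flp_e L756199) (flp_b L750324) L763170
theorem L763176 : sm gc N57292 = N56915 := ded_28_1 (flp_e L759814) (flp_c L750332) L763170
theorem L763178 : sm gg N57292 = N56482 := ded_41_2 (flp_e L755645) (flp_g L750328) L763170
theorem L763180 : sm gh N57292 = N57292 := ded_43_2 (flp_e L763170) L750334 L763170
theorem L763181 : sm gi N57292 = N56500 := ded_44_2 (flp_e L755839) (flp_i L750330) L763170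
theorem L763183 : sm gf N57292 = N57043 := ded_40_2 (flp_e L760627) L747326 (flp_e L734996) (flp_f L750326) L763170
theorem L763185 : sm gd N56066 = N57293 := rfl
theorem L763187 : sm ga N57293 = N56494 := ded_12_1 (flp_d L755793) (flp_a L750337) L763185
theorem L763189 : sm gb N57293 = N56087 := ded_20_1 (flp_d L750659) (flp_b L750339) L763185
theorem L763191 : sm gf N57293 = N56067 := ded_35_2 (flp_d L750353) (flp_f L750345) L763185
theorem L763193 : sm gg N57293 = N56466 := ded_36_2 (flp_d L755470) (flp_g L750347) L763185
theorem L763195 : sm gj N57293 = N56987 := ded_37_2 (flp_d L760285) (flp_j L750349) L763185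
theorem L763197 : sm gi N57293 = N56512 := ded_39_2 (flp_d L755964) (flp_i L750351) L763185
theorem L763199 : sm gh N57293 = N56980 := ded_38_2 (flp_d L760243) (flp_h L746861) (flp_d L734949) L750335 L763185
theorem L763201 : sm gc N56067 = N57294 := rfl
theorem L763203 : sm ga N57294 = N56514 := ded_11_1 (flp_c L755973) (flp_a L750355) L763201
theorem L763205 : sm ge N57294 = N56904 := ded_28_2 (flp_c L759726) (flp_e L750361) L763201
theorem L763207 : sm gg N57294 = N56781 := ded_30_2 (flp_c L758666) (flp_g L750359) L763201
theorem L763209 : sm ge N56069 = N57295 := rfl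
theorem L763211 : sm ga N57295 = N56500 := ded_13_1 (flp_e L755839) (flp_a L750381) L763209
theorem L763213 : sm gb N57295 = N56091 := ded_21_1 (flp_e L750709) (flp_b L750383) L763209
theorem L763215 : sm gc N57295 = N56775 := ded_28_1 (flp_e L758608) (flp_c L750393) L763209
theorem L763217 : sm gg N57295 = N56468 := ded_41_2 (flp_e L755490) (flp_g L750387) L763209
theorem L763219 : sm gj N57295 = N57005 := ded_42_2 (flp_e L760381) (flp_j L750389) L763209
theorem L763221 : sm gh N57295 = N56070 := ded_43_2 (flp_e L750397) (flp_h L750395) L763209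
theorem L763223 : sm gi N57295 = N56513 := ded_44_2 (flp_e L755968) (flp_i L750391) L763209
theorem L763225 : sm gf N57295 = N56196 := ded_40_2 (flp_e L752066) L736784 (flp_e L735029) (flp_f L750385) L763209
theorem L763227 : sm gh N56071 = N57296 := rfl
theorem L763229 : sm ga N57296 = N56112 := ded_17_1 (flp_h L750998) (flp_a L750416) L763227
theorem L763231 : sm gb N57296 = N56511 := ded_25_1 (flp_h L755955) (flp_b L750418) L763227
theorem L763233 : sm gc N57296 = N56891 := ded_32_1 (flp_h L759659) (flp_c L750420) L763227
theorem L763235 : sm ge N57296 = N57296 := ded_43_1 (flp_h L763227) L750424 L763227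
theorem L763236 : sm gf N57296 = N56072 := ded_47_1 (flp_h L750431) (flp_f L750425) L763227
theorem L763238 : sm gg N57296 = N57030 := ded_50_1 (flp_h L760548) (flp_g L750427) L763227
theorem L763240 : sm gj N57296 = N56969 := ded_52_1 (flp_h L760180) (flp_j L750429) L763227
theorem L763242 : sm gi N57296 = N56756 := ded_54_2 (flp_h L758399) (flp_i L744644) (flp_h L735060) L750414 L763227
theorem L763244 : sm gd N56072 = N57297 := rfl
theorem L763246 : sm ga N57297 = N56113 := ded_12_1 (flp_d L751009) (flp_a L750433) L763244
theorem L763248 : sm gb N57297 = N57012 := ded_20_1 (flp_d L760425) (flp_b L750435) L763244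
theorem L763250 : sm gg N57297 = N56770 := ded_36_2 (flp_d L758550) (flp_g L750441) L763244
theorem L763252 : sm gi N57297 = N56757 := ded_39_2 (flp_d L758414) (flp_i L750443) L763244
theorem L763254 : sm ge N57297 = N56841 := ded_34_2 (flp_d L759242) L745626 (flp_d L735090) (flp_e L750439) L763244
theorem L763256 : sm gh N57297 = N56078 := ded_38_2 (flp_d L750529) (flp_h L735185) (flp_d L735073) L750431 L763244
theorem L763258 : sm gd N56073 = N57298 := rfl
theorem L763260 : sm ga N57298 = N56124 := ded_12_1 (flp_d L751157) (flp_a L750447) L763258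
theorem L763262 : sm gf N57298 = N56992 := ded_35_2 (flp_d L760313) (flp_f L750453) L763258
theorem L763264 : sm gj N57298 = N56078 := ded_37_2 (flp_d L750529) (flp_j L750455) L763258
theorem L763266 : sm gi N57298 = N56082 := ded_39_2 (flp_d L750583) (flp_i L750457) L763258
theorem L763268 : sm ge N57298 = N57098 := ded_34_2 (flp_d L760963) L747686 (flp_d L735116) (flp_e L750451) L763258
theorem L763270 : sm gh N56074 = N57299 := rfl
theorem L763272 : sm ga N57299 = N56130 := ded_17_1 (flp_h L751246) (flp_a L750461) L763270
theorem L763274 : sm gb N57299 = N56550 := ded_25_1 (flp_h L756396) (flp_b L750463) L763270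
theorem L763276 : sm gc N57299 = N56855 := ded_32_1 (flp_h L759381) (flp_c L750465) L763270
theorem L763278 : sm ge N57299 = N57299 := ded_43_1 (flp_h L763270) L750469 L763270
theorem L763279 : sm gf N57299 = N56547 := ded_47_1 (flp_h L756359) (flp_f L750470) L763270
theorem L763281 : sm gg N57299 = N56782 := ded_50_1 (flp_h L758674) (flp_g L750472) L763270
theorem L763283 : sm gj N57299 = N57089 := ded_52_1 (flp_h L760904) (flp_j L750474) L763270
theorem L763285 : sm gi N57299 = N56834 := ded_54_2 (flp_h L759179) (flp_i L745554) (flp_h L735135) L750459 L763270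
theorem L763287 : sm gd N56075 = N57300 := rfl
theorem L763289 : sm ga N57300 = N56132 := ded_12_1 (flp_d L751269) (flp_a L750478) L763287
theorem L763291 : sm gb N57300 = N56553 := ded_20_1 (flp_d L756427) (flp_b L750480) L763287
theorem L763293 : sm gf N57300 = N56548 := ded_35_2 (flp_d L756371) (flp_f L750486) L763287
theorem L763295 : sm gg N57300 = N56783 := ded_36_2 (flp_d L758679) (flp_g L750488) L763287
theorem L763297 : sm gj N57300 = N57134 := ded_37_2 (flp_d L761192) (flp_j L750490) L763287
theorem L763299 : sm gi N57300 = N56083 := ded_39_2 (flp_d L750595) (flp_i L750492) L763287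
theorem L763301 : sm ge N56076 = N57301 := rfl
theorem L763303 : sm ga N57301 = N56133 := ded_13_1 (flp_e L751275) (flp_a L750496) L763301
theorem L763305 : sm gb N57301 = N56565 := ded_21_1 (flp_e L756541) (flp_b L750498) L763301
theorem L763307 : sm gc N57301 = N57106 := ded_28_1 (flp_e L761022) (flp_c L750508) L763301
theorem L763309 : sm gg N57301 = N56784 := ded_41_2 (flp_e L758685) (flp_g L750502) L763301
theorem L763311 : sm gj N57301 = N57169 := ded_42_2 (flp_e L761407) (flp_j L750504) L763301
theorem L763313 : sm gh N57301 = N57301 := ded_43_2 (flp_e L763301) L750510 L763301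
theorem L763314 : sm gi N57301 = N56084 := ded_44_2 (flp_e L750609) (flp_i L750506) L763301
theorem L763316 : sm gf N57301 = N57104 := ded_40_2 (flp_e L761004) L747724 (flp_e L735209) (flp_f L750500) L763301
theorem L763318 : sm gd N56077 = N57302 := rfl
theorem L763320 : sm ga N57302 = N56136 := ded_12_1 (flp_d L751316) (flp_a L750513) L763318
theorem L763322 : sm gb N57302 = N56512 := ded_20_1 (flp_d L755964) (flp_b L750515) L763318
theorem L763324 : sm gf N57302 = N56078 := ded_35_2 (flp_d L750529) (flp_f L750521) L763318
theorem L763326 : sm gg N57302 = N57032 := ded_36_2 (flp_d L760571) (flp_g L750523) L763318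
theorem L763328 : sm gj N57302 = N56992 := ded_37_2 (flp_d L760313) (flp_j L750525) L763318
theorem L763330 : sm gi N57302 = N56087 := ded_39_2 (flp_d L750659) (flp_i L750527) L763318
theorem L763332 : sm gc N56078 = N57303 := rfl
theorem L763334 : sm ga N57303 = N56137 := ded_11_1 (flp_c L751324) (flp_a L750531) L763332
theorem L763336 : sm ge N57303 = N57099 := ded_28_2 (flp_c L760969) (flp_e L750537) L763332
theorem L763338 : sm gg N57303 = N56785 := ded_30_2 (flp_c L758694) (flp_g L750533) L763332
theorem L763340 : sm gi N57303 = N56088 := ded_33_2 (flp_c L750669) (flp_i L750535) L763332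
theorem L763342 : sm ge N56079 = N57304 := rfl
theorem L763344 : sm ga N57304 = N56147 := ded_13_1 (flp_e L751461) (flp_a L750541) L763342
theorem L763346 : sm gb N57304 = N56513 := ded_21_1 (flp_e L755968) (flp_b L750543) L763342
theorem L763348 : sm gc N57304 = N56853 := ded_28_1 (flp_e L759364) (flp_c L750553) L763342
theorem L763350 : sm gg N57304 = N57043 := ded_41_2 (flp_e L760627) (flp_g L750547) L763342
theorem L763352 : sm gj N57304 = N57006 := ded_42_2 (flp_e L760387) (flp_j L750549) L763342
theorem L763354 : sm gh N57304 = N57304 := ded_43_2 (flp_e L763342) L750555 L763342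
theorem L763355 : sm gi N57304 = N56091 := ded_44_2 (flp_e L750709) (flp_i L750551) L763342
theorem L763357 : sm gf N57304 = N56635 := ded_40_2 (flp_e L757292) L743266 (flp_e L735242) (flp_f L750545) L763342
theorem L763359 : sm gh N56080 = N57305 := rfl
theorem L763361 : sm ga N57305 = N56151 := ded_17_1 (flp_h L751516) (flp_a L750558) L763359
theorem L763363 : sm gc N57305 = N56677 := ded_32_1 (flp_h L757688) (flp_c L750560) L763359
theorem L763365 : sm ge N57305 = N57305 := ded_43_1 (flp_h L763359) L750564 L763359
theorem L763366 : sm gf N57305 = N56081 := ded_47_1 (flp_h L750571) (flp_f L750565) L763359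
theorem L763368 : sm gg N57305 = N56418 := ded_50_1 (flp_h L755002) (flp_g L750567) L763359
theorem L763370 : sm gj N57305 = N56790 := ded_52_1 (flp_h L758752) (flp_j L750569) L763359
theorem L763372 : sm gd N56081 = N57306 := rfl
theorem L763374 : sm ga N57306 = N56152 := ded_12_1 (flp_d L751525) (flp_a L750573) L763372
theorem L763376 : sm gg N57306 = N56082 := ded_36_2 (flp_d L750583) (flp_g L750579) L763372
theorem L763378 : sm gj N57306 = N56791 := ded_37_2 (flp_d L758759) (flp_j L750581) L763372
theorem L763380 : sm ge N57306 = N57122 := ded_34_2 (flp_d L761128) L747862 (flp_d L735283) (flp_e L750577) L763372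
theorem L763382 : sm gh N57306 = N56995 := ded_38_2 (flp_d L760329) (flp_h L746945) (flp_d L735264) L750571 L763372
theorem L763384 : sm gc N56082 = N57307 := rfl
theorem L763386 : sm ga N57307 = N56162 := ded_11_1 (flp_c L751647) (flp_a L750585) L763384
theorem L763388 : sm ge N57307 = N57148 := ded_28_2 (flp_c L761262) (flp_e L750591) L763384
theorem L763390 : sm gf N57307 = N56993 := ded_29_2 (flp_c L760317) (flp_f L750587) L763384
theorem L763392 : sm gj N57307 = N56088 := ded_31_2 (flp_c L750669) (flp_j L750589) L763384
theorem L763394 : sm gh N57307 = N56996 := ded_32_2 (flp_c L760333) (flp_h L750593) L763384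
theorem L763396 : sm gd N57307 = N57135 := ded_27_2 (flp_c L761198) (flp_d L747940) (flp_c L735289) L750583 L763384
theorem L763398 : sm gc N56083 = N57308 := rfl
theorem L763400 : sm ga N57308 = N56176 := ded_11_1 (flp_c L751839) (flp_a L750597) L763398
theorem L763402 : sm gf N57308 = N57115 := ded_29_2 (flp_c L761074) (flp_f L750601) L763398
theorem L763404 : sm gg N57308 = N56807 := ded_30_2 (flp_c L758911) (flp_g L750603) L763398
theorem L763406 : sm gj N57308 = N57135 := ded_31_2 (flp_c L761198) (flp_j L750605) L763398
theorem L763408 : sm gh N57308 = N57116 := ded_32_2 (flp_c L761082) (flp_h L750607) L763398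
theorem L763410 : sm gd N57308 = N56088 := ded_27_2 (flp_c L750669) (flp_d L735375) (flp_c L735303) L750595 L763398
theorem L763412 : sm ge N56083 = N57309 := rfl
theorem L763414 : sm ga N57309 = N56177 := ded_13_1 (flp_e L751845) (flp_a L750597) L763412
theorem L763416 : sm gb N57309 = N57144 := ded_21_1 L761248 (flp_b L750599) L763412
theorem L763418 : sm gg N57309 = N56808 := ded_41_2 (flp_e L758917) (flp_g L750603) L763412
theorem L763420 : sm gj N57309 = N57136 := ded_42_2 (flp_e L761204) (flp_j L750605) L763412
theorem L763422 : sm gh N57309 = N57117 := ded_43_2 (flp_e L761090) (flp_h L750607) L763412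
theorem L763424 : sm gd N57309 = N56084 := ded_34_1 (flp_e L750609) (flp_d L735313) (flp_e L735305) L750595 L763412
theorem L763426 : sm gf N57309 = N57130 := ded_40_2 (flp_e L761168) L747916 (flp_e L747824) (flp_f L750601) L763412
theorem L763428 : sm gh N56085 = N57310 := rfl
theorem L763430 : sm ga N57310 = N56179 := ded_17_1 (flp_h L751859) (flp_a L750627) L763428
theorem L763432 : sm gb N57310 = N56283 := ded_25_1 (flp_h L753358) (flp_b L750629) L763428
theorem L763434 : sm gc N57310 = N56640 := ded_32_1 (flp_h L757347) (flp_c L750631) L763428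
theorem L763436 : sm ge N57310 = N56089 := ded_43_1 (flp_h L750677) (flp_e L750635) L763428
theorem L763438 : sm gf N57310 = N56459 := ded_47_1 (flp_h L755375) (flp_f L750637) L763428
theorem L763440 : sm gg N57310 = N56403 := ded_50_1 (flp_h L754834) (flp_g L750639) L763428
theorem L763442 : sm gj N57310 = N56086 := ded_52_1 (flp_h L750643) (flp_j L750641) L763428
theorem L763444 : sm gi N57310 = N57021 := ded_54_2 (flp_h L760485) (flp_i L747162) (flp_h L735343) L750625 L763428
theorem L763446 : sm gd N56086 = N57311 := rfl
theorem L763448 : sm ga N57311 = N56180 := ded_12_1 (flp_d L751869) (flp_a L750645) L763446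
theorem L763450 : sm gb N57311 = N56466 := ded_20_1 (flp_d L755470) (flp_b L750647) L763446
theorem L763452 : sm gf N57311 = N56462 := ded_35_2 (flp_d L755418) (flp_f L750653) L763446
theorem L763454 : sm gg N57311 = N56087 := ded_36_2 (flp_d L750659) (flp_g L750655) L763446
theorem L763456 : sm gi N57311 = N57032 := ded_39_2 (flp_d L760571) (flp_i L750657) L763446
theorem L763458 : sm gh N57311 = N56976 := ded_38_2 (flp_d L760219) (flp_h L746833) (flp_d L735355) L750643 L763446
theorem L763460 : sm gc N56087 = N57312 := rfl
theorem L763462 : sm ga N57312 = N56181 := ded_11_1 (flp_c L751877) (flp_a L750661) L763460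
theorem L763464 : sm gf N57312 = N56088 := ded_29_2 (flp_c L750669) (flp_f L750663) L763460
theorem L763466 : sm gj N57312 = N56993 := ded_31_2 (flp_c L760317) (flp_j L750665) L763460
theorem L763468 : sm gh N57312 = N56982 := ded_32_2 (flp_c L760257) (flp_h L750667) L763460
theorem L763470 : sm gd N57312 = N57115 := ded_27_2 (flp_c L761074) (flp_d L747818) (flp_c L735367) L750659 L763460
theorem L763472 : sm ge N56087 = N57313 := rfl
theorem L763474 : sm ga N57313 = N56182 := ded_13_1 (flp_e L751881) (flp_a L750661) L763472
theorem L763476 : sm gj N57313 = N56994 := ded_42_2 (flp_e L760323) (flp_j L750665) L763472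
theorem L763478 : sm gh N57313 = N56983 := ded_43_2 (flp_e L760263) (flp_h L750667) L763472
theorem L763480 : sm gd N57313 = N56091 := ded_34_1 (flp_e L750709) (flp_d L735413) (flp_e L735369) L750659 L763472
theorem L763482 : sm gf N57313 = N56692 := ded_40_2 (flp_e L757796) L743853 (flp_e L735381) (flp_f L750663) L763472
theorem L763484 : sm gb N56088 = N57314 := rfl
theorem L763486 : sm ge N57314 = N57149 := ded_21_2 (flp_b L761266) (flp_e L750673) L763484
theorem L763488 : sm gg N57314 = N56811 := ded_23_2 (flp_b L758941) (flp_g L750675) L763484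
theorem L763490 : sm gd N56089 = N57315 := rfl
theorem L763492 : sm ga N57315 = N56195 := ded_12_1 (flp_d L752056) (flp_a L750679) L763490
theorem L763494 : sm gb N57315 = N56296 := ded_20_1 (flp_d L753513) (flp_b L750681) L763490
theorem L763496 : sm gf N57315 = N56092 := ded_35_2 (flp_d L750721) (flp_f L750685) L763490
theorem L763498 : sm gg N57315 = N56447 := ded_36_2 (flp_d L755245) (flp_g L750687) L763490
theorem L763500 : sm gj N57315 = N56090 := ded_37_2 (flp_d L750693) (flp_j L750689) L763490
theorem L763502 : sm gi N57315 = N57041 := ded_39_2 (flp_d L760613) (flp_i L750691) L763490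
theorem L763504 : sm gc N57315 = N56156 := ded_27_1 (flp_d L751579) L736288 L743527 (flp_c L750683) L763490
theorem L763506 : sm gh N57315 = N56093 := ded_38_2 (flp_d L750738) (flp_h L735456) (flp_d L735391) L750677 L763490
theorem L763508 : sm ge N56090 = N57316 := rfl
theorem L763510 : sm ga N57316 = N56196 := ded_13_1 (flp_e L752066) (flp_a L750695) L763508
theorem L763512 : sm gb N57316 = N56468 := ded_21_1 (flp_e L755490) (flp_b L750697) L763508
theorem L763514 : sm gc N57316 = N56170 := ded_28_1 (flp_e L751757) (flp_c L750705) L763508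
theorem L763516 : sm gg N57316 = N56091 := ded_41_2 (flp_e L750709) (flp_g L750701) L763508
theorem L763518 : sm gh N57316 = N56094 := ded_43_2 (flp_e L750753) (flp_h L750707) L763508
theorem L763520 : sm gi N57316 = N57043 := ded_44_2 (flp_e L760627) (flp_i L750703) L763508
theorem L763522 : sm gf N57316 = N56500 := ded_40_2 (flp_e L755839) L741601 (flp_e L735452) (flp_f L750699) L763508
theorem L763524 : sm ge N56093 = N57317 := rfl
theorem L763526 : sm ga N57317 = N56204 := ded_13_1 (flp_e L752168) (flp_a L750740) L763524
theorem L763528 : sm gb N57317 = N56297 := ded_21_1 (flp_e L753529) (flp_b L750742) L763524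
theorem L763530 : sm gc N57317 = N56208 := ded_28_1 (flp_e L752212) (flp_c L750751) L763524
theorem L763532 : sm gg N57317 = N56448 := ded_41_2 (flp_e L755254) (flp_g L750746) L763524
theorem L763534 : sm gj N57317 = N56094 := ded_42_2 (flp_e L750753) (flp_j L750748) L763524
theorem L763536 : sm gi N57317 = N57317 := ded_44_2 (flp_e L763524) L750750 L763524
theorem L763537 : sm gd N57317 = N56295 := ded_34_1 (flp_e L753498) (flp_d L738891) (flp_e L735464) L750738 L763524
theorem L763539 : sm gf N57317 = N56503 := ded_40_2 (flp_e L755870) L741661 (flp_e L735511) (flp_f L750744) L763524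
theorem L763541 : sm gi N56095 = N57318 := rfl
theorem L763543 : sm ga N57318 = N56364 := ded_18_1 (flp_i L754413) (flp_a L750770) L763541
theorem L763545 : sm gb N57318 = N56099 := ded_26_1 (flp_i L750834) (flp_b L750772) L763541
theorem L763547 : sm gc N57318 = N56574 := ded_33_1 (flp_i L756633) (flp_c L750774) L763541
theorem L763549 : sm gd N57318 = N56591 := ded_39_1 (flp_i L756835) (flp_d L750782) L763541
theorem L763551 : sm ge N57318 = N56096 := ded_44_1 (flp_i L750786) L750768 L763541
theorem L763553 : sm gf N57318 = N56838 := ded_48_1 (flp_i L759213) L750784 L763541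
theorem L763555 : sm gg N57318 = N56588 := ded_51_1 (flp_i L756791) (flp_g L750776) L763541
theorem L763557 : sm gj N57318 = N56106 := ded_53_1 (flp_i L750933) (flp_j L750778) L763541
theorem L763559 : sm gh N56096 = N57319 := rfl
theorem L763561 : sm ga N57319 = N56365 := ded_17_1 (flp_h L754423) (flp_a L750788) L763559
theorem L763563 : sm gb N57319 = N56100 := ded_25_1 (flp_h L750846) (flp_b L750790) L763559
theorem L763565 : sm gc N57319 = N56575 := ded_32_1 (flp_h L756649) (flp_c L750792) L763559
theorem L763567 : sm gf N57319 = N57319 := ded_47_1 (flp_h L763559) L750795 L763559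
theorem L763568 : sm gg N57319 = N56907 := ded_50_1 (flp_h L759740) (flp_g L750796) L763559
theorem L763570 : sm gj N57319 = N56107 := ded_52_1 (flp_h L750943) (flp_j L750798) L763559
theorem L763572 : sm gi N57319 = N56583 := ded_54_2 (flp_h L756734) (flp_i L742677) (flp_h L735538) L750786 L763559
theorem L763574 : sm gi N56097 = N57320 := rfl
theorem L763576 : sm ga N57320 = N56845 := ded_18_1 (flp_i L759290) (flp_a L750802) L763574
theorem L763578 : sm gb N57320 = N56591 := ded_26_1 (flp_i L756835) (flp_b L750804) L763574
theorem L763580 : sm gc N57320 = N56119 := ded_33_1 (flp_i L751089) (flp_c L750810) L763574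
theorem L763582 : sm gd N57320 = N56099 := ded_39_1 (flp_i L750834) L750800 L763574
theorem L763584 : sm ge N57320 = N57320 := ded_44_1 (flp_i L763574) L750812 L763574
theorem L763585 : sm gf N57320 = N56744 := ded_48_1 L758267 L750815 L763574
theorem L763587 : sm gg N57320 = N56585 := ded_51_1 (flp_i L756763) (flp_g L750806) L763574
theorem L763589 : sm gj N57320 = N56108 := ded_53_1 (flp_i L750954) (flp_j L750808) L763574
theorem L763591 : sm gi N56098 = N57321 := rfl
theorem L763593 : sm ga N57321 = N56871 := ded_18_1 (flp_i L759497) (flp_a L750819) L763591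
theorem L763595 : sm gb N57321 = N56838 := ded_26_1 (flp_i L759213) (flp_b L750821) L763591
theorem L763597 : sm gc N57321 = N56102 := ded_33_1 (flp_i L750876) (flp_c L750823) L763591
theorem L763599 : sm gd N57321 = N56744 := ded_39_1 L758267 (flp_d L750825) L763591
theorem L763601 : sm ge N57321 = N57321 := ded_44_1 (flp_i L763591) L750831 L763591
theorem L763602 : sm gf N57321 = N56099 := ded_48_1 (flp_i L750834) L750817 L763591
theorem L763604 : sm gg N57321 = N56842 := ded_51_1 (flp_i L759252) (flp_g L750832) L763591
theorem L763606 : sm gj N57321 = N56109 := ded_53_1 (flp_i L750965) (flp_j L750827) L763591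
theorem L763608 : sm gh N56099 = N57322 := rfl
theorem L763610 : sm ga N57322 = N56873 := ded_17_1 (flp_h L759517) (flp_a L750836) L763608
theorem L763612 : sm gc N57322 = N56103 := ded_32_1 (flp_h L750889) (flp_c L750838) L763608
theorem L763614 : sm ge N57322 = N56100 := ded_43_1 (flp_h L750846) (flp_e L750840) L763608
theorem L763616 : sm gg N57322 = N57093 := ded_50_1 (flp_h L760927) (flp_g L750842) L763608
theorem L763618 : sm gj N57322 = N56110 := ded_52_1 (flp_h L750976) (flp_j L750844) L763608
theorem L763620 : sm gi N57322 = N56795 := ded_54_2 (flp_h L758798) (flp_i L745137) (flp_h L735554) L750834 L763608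
theorem L763622 : sm gd N56100 = N57323 := rfl
theorem L763624 : sm ga N57323 = N56917 := ded_12_1 (flp_d L759825) (flp_a L750848) L763622
theorem L763626 : sm gf N57323 = N57323 := ded_35_2 (flp_d L763622) L750852 L763622
theorem L763627 : sm gg N57323 = N57105 := ded_36_2 (flp_d L761011) (flp_g L750853) L763622
theorem L763629 : sm gj N57323 = N56111 := ded_37_2 (flp_d L750988) (flp_j L750855) L763622
theorem L763631 : sm gi N57323 = N56820 := ded_39_2 (flp_d L759030) (flp_i L750857) L763622
theorem L763633 : sm gc N57323 = N57167 := ded_27_1 (flp_d L761393) (flp_c L749029) L749036 (flp_c L750850) L763622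
theorem L763635 : sm gh N57323 = N57323 := ded_38_2 (flp_d L763622) (flp_h L750846) L735562 L750846 L763622
theorem L763636 : sm gi N56101 = N57324 := rfl
theorem L763638 : sm ga N57324 = N56383 := ded_18_1 (flp_i L754645) (flp_a L750861) L763636
theorem L763640 : sm gb N57324 = N56579 := ded_26_1 (flp_i L756696) (flp_b L750863) L763636
theorem L763642 : sm gc N57324 = N56842 := ded_33_1 (flp_i L759252) (flp_c L750865) L763636
theorem L763644 : sm gd N57324 = N56122 := ded_39_1 (flp_i L751127) (flp_d L750867) L763636
theorem L763646 : sm ge N57324 = N57324 := ded_44_1 (flp_i L763636) L750869 L763636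
theorem L763647 : sm gf N57324 = N56606 := ded_48_1 (flp_i L756982) (flp_f L750872) L763636
theorem L763649 : sm gg N57324 = N56102 := ded_51_1 (flp_i L750876) L750859 L763636
theorem L763651 : sm gj N57324 = N56599 := ded_53_1 (flp_i L756898) (flp_j L750874) L763636
theorem L763653 : sm gh N56102 = N57325 := rfl
theorem L763655 : sm ga N57325 = N56969 := ded_17_1 (flp_h L760180) (flp_a L750878) L763653
theorem L763657 : sm gb N57325 = N56580 := ded_25_1 (flp_h L756707) (flp_b L750880) L763653
theorem L763659 : sm ge N57325 = N57325 := ded_43_1 (flp_h L763653) L750884 L763653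
theorem L763660 : sm gf N57325 = N56103 := ded_47_1 (flp_h L750889) (flp_f L750885) L763653
theorem L763662 : sm gj N57325 = N56112 := ded_52_1 (flp_h L750998) (flp_j L750887) L763653
theorem L763664 : sm gi N57325 = N56957 := ded_54_2 (flp_h L760099) (flp_i L746700) (flp_h L735578) L750876 L763653
theorem L763666 : sm gd N56103 = N57326 := rfl
theorem L763668 : sm gb N57326 = N56581 := ded_20_1 (flp_d L756714) (flp_b L750891) L763666
theorem L763670 : sm gg N57326 = N57098 := ded_36_2 (flp_d L760963) (flp_g L750895) L763666
theorem L763672 : sm gj N57326 = N56113 := ded_37_2 (flp_d L751009) (flp_j L750897) L763666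
theorem L763674 : sm gi N57326 = N57122 := ded_39_2 (flp_d L761128) (flp_i L750899) L763666
theorem L763676 : sm gh N57326 = N56124 := ded_38_2 (flp_d L751157) (flp_h L735830) (flp_d L735585) L750889 L763666
theorem L763678 : sm gi N56104 = N57327 := rfl
theorem L763680 : sm ga N57327 = N56106 := ded_18_1 (flp_i L750933) (flp_a L750903) L763678
theorem L763682 : sm gb N57327 = N56360 := ded_26_1 (flp_i L754365) (flp_b L750905) L763678
theorem L763684 : sm gc N57327 = N56582 := ded_33_1 (flp_i L756720) (flp_c L750907) L763678
theorem L763686 : sm gd N57327 = N56676 := ded_39_1 (flp_i L757681) (flp_d L750915) L763678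
theorem L763688 : sm ge N57327 = N56105 := ded_44_1 (flp_i L750919) L750901 L763678
theorem L763690 : sm gf N57327 = N57087 := ded_48_1 (flp_i L760892) L750917 L763678
theorem L763692 : sm gg N57327 = N56612 := ded_51_1 (flp_i L757038) (flp_g L750909) L763678
theorem L763694 : sm gj N57327 = N56364 := ded_53_1 (flp_i L754413) (flp_j L750911) L763678
theorem L763696 : sm gh N56105 = N57328 := rfl
theorem L763698 : sm ga N57328 = N56107 := ded_17_1 (flp_h L750943) (flp_a L750921) L763696
theorem L763700 : sm gb N57328 = N56361 := ded_25_1 (flp_h L754377) (flp_b L750923) L763696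
theorem L763702 : sm gc N57328 = N56583 := ded_32_1 (flp_h L756734) (flp_c L750925) L763696
theorem L763704 : sm gf N57328 = N57328 := ded_47_1 (flp_h L763696) L750928 L763696
theorem L763705 : sm gg N57328 = N56831 := ded_50_1 (flp_h L759140) (flp_g L750929) L763696
theorem L763707 : sm gj N57328 = N56365 := ded_52_1 (flp_h L754423) (flp_j L750931) L763696
theorem L763709 : sm gi N57328 = N56575 := ded_54_2 (flp_h L756649) (flp_i L742592) (flp_h L735614) L750919 L763696
theorem L763711 : sm gh N56106 = N57329 := rfl
theorem L763713 : sm gb N57329 = N56110 := ded_25_1 (flp_h L750976) (flp_b L750935) L763711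
theorem L763715 : sm gc N57329 = N56586 := ded_32_1 (flp_h L756774) (flp_c L750937) L763711
theorem L763717 : sm ge N57329 = N56107 := ded_43_1 (flp_h L750943) (flp_e L750939) L763711
theorem L763719 : sm gg N57329 = N56832 := ded_50_1 (flp_h L759154) (flp_g L750941) L763711
theorem L763721 : sm gi N57329 = N56801 := ded_54_2 (flp_h L758864) (flp_i L745207) (flp_h L735626) L750933 L763711
theorem L763723 : sm gd N56107 = N57330 := rfl
theorem L763725 : sm gb N57330 = N56111 := ded_20_1 (flp_d L750988) (flp_b L750945) L763723
theorem L763727 : sm gf N57330 = N57330 := ded_35_2 (flp_d L763723) L750949 L763723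
theorem L763728 : sm gg N57330 = N56833 := ded_36_2 (flp_d L759168) (flp_g L750950) L763723
theorem L763730 : sm gi N57330 = N56823 := ded_39_2 (flp_d L759067) (flp_i L750952) L763723
theorem L763732 : sm gh N57330 = N57330 := ded_38_2 (flp_d L763723) (flp_h L750943) L735634 L750943 L763723
theorem L763733 : sm gh N56108 = N57331 := rfl
theorem L763735 : sm ga N57331 = N56855 := ded_17_1 (flp_h L759381) (flp_a L750956) L763733
theorem L763737 : sm gc N57331 = N56130 := ded_32_1 (flp_h L751246) (flp_c L750958) L763733
theorem L763739 : sm ge N57331 = N57331 := ded_43_1 (flp_h L763733) L750962 L763733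
theorem L763740 : sm gg N57331 = N56834 := ded_50_1 (flp_h L759179) (flp_g L750963) L763733
theorem L763742 : sm gi N57331 = N56782 := ded_54_2 (flp_h L758674) (flp_i L744997) (flp_h L735647) L750954 L763733
theorem L763744 : sm gh N56109 = N57332 := rfl
theorem L763746 : sm ga N57332 = N56891 := ded_17_1 (flp_h L759659) (flp_a L750967) L763744
theorem L763748 : sm gc N57332 = N56112 := ded_32_1 (flp_h L750998) (flp_c L750969) L763744
theorem L763750 : sm ge N57332 = N57332 := ded_43_1 (flp_h L763744) L750971 L763744
theorem L763751 : sm gf N57332 = N56110 := ded_47_1 (flp_h L750976) (flp_f L750972) L763744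
theorem L763753 : sm gg N57332 = N57073 := ded_50_1 (flp_h L760798) (flp_g L750974) L763744
theorem L763755 : sm gi N57332 = N56804 := ded_54_2 (flp_h L758886) (flp_i L745235) (flp_h L735655) L750965 L763744
theorem L763757 : sm gd N56110 = N57333 := rfl
theorem L763759 : sm ga N57333 = N56893 := ded_12_1 (flp_d L759672) (flp_a L750978) L763757
theorem L763761 : sm gg N57333 = N56835 := ded_36_2 (flp_d L759188) (flp_g L750984) L763757
theorem L763763 : sm gi N57333 = N56805 := ded_39_2 (flp_d L758897) (flp_i L750986) L763757
theorem L763765 : sm ge N56111 = N57334 := rfl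
theorem L763767 : sm ga N57334 = N56923 := ded_13_1 (flp_e L759866) (flp_a L750990) L763765
theorem L763769 : sm gg N57334 = N56836 := ded_41_2 (flp_e L759196) (flp_g L750993) L763765
theorem L763771 : sm gh N57334 = N57334 := ded_43_2 (flp_e L763765) L750997 L763765
theorem L763772 : sm gi N57334 = N56827 := ded_44_2 (flp_e L759103) (flp_i L750995) L763765
theorem L763774 : sm gd N56112 = N57335 := rfl
theorem L763776 : sm gb N57335 = N56596 := ded_20_1 (flp_d L756872) (flp_b L751000) L763774
theorem L763778 : sm gf N57335 = N56113 := ded_35_2 (flp_d L751009) (flp_f L751003) L763774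
theorem L763780 : sm gg N57335 = N57075 := ded_36_2 (flp_d L760813) (flp_g L751005) L763774
theorem L763782 : sm gi N57335 = N57109 := ded_39_2 (flp_d L761039) (flp_i L751007) L763774
theorem L763784 : sm gh N57335 = N56136 := ded_38_2 (flp_d L751316) (flp_h L735994) (flp_d L735685) L750998 L763774
theorem L763786 : sm gc N56113 = N57336 := rfl
theorem L763788 : sm gg N57336 = N56837 := ded_30_2 (flp_c L759203) (flp_g L751013) L763786
theorem L763790 : sm gh N57336 = N56137 := ded_32_2 (flp_c L751324) (flp_h L751017) L763786
theorem L763792 : sm gi N57336 = N57123 := ded_33_2 (flp_c L761134) (flp_i L751015) L763786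
theorem L763794 : sm gi N56114 = N57337 := rfl
theorem L763796 : sm ga N57337 = N56417 := ded_18_1 (flp_i L754995) (flp_a L751021) L763794
theorem L763798 : sm gb N57337 = N56599 := ded_26_1 (flp_i L756898) (flp_b L751023) L763794
theorem L763800 : sm gc N57337 = N56549 := ded_33_1 (flp_i L756383) (flp_c L751025) L763794
theorem L763802 : sm gd N57337 = N56606 := ded_39_1 (flp_i L756982) (flp_d L751027) L763794
theorem L763804 : sm ge N57337 = N57337 := ded_44_1 (flp_i L763794) L751029 L763794
theorem L763805 : sm gf N57337 = N56122 := ded_48_1 (flp_i L751127) (flp_f L751032) L763794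
theorem L763807 : sm gg N57337 = N56115 := ded_51_1 (flp_i L751036) L751019 L763794
theorem L763809 : sm gj N57337 = N56579 := ded_53_1 (flp_i L756696) (flp_j L751034) L763794
theorem L763811 : sm gh N56115 = N57338 := rfl
theorem L763813 : sm gb N57338 = N56600 := ded_25_1 (flp_h L756909) (flp_b L751038) L763811
theorem L763815 : sm ge N57338 = N57338 := ded_43_1 (flp_h L763811) L751042 L763811
theorem L763816 : sm gf N57338 = N56116 := ded_47_1 (flp_h L751047) (flp_f L751043) L763811
theorem L763818 : sm gj N57338 = N56595 := ded_52_1 (flp_h L756861) (flp_j L751045) L763811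
theorem L763820 : sm gi N57338 = N56151 := ded_54_2 (flp_h L751516) (flp_i L736217) (flp_h L735710) L751036 L763811
theorem L763822 : sm gd N56116 = N57339 := rfl
theorem L763824 : sm gb N57339 = N56601 := ded_20_1 (flp_d L756918) (flp_b L751049) L763822
theorem L763826 : sm gg N57339 = N56124 := ded_36_2 (flp_d L751157) (flp_g L751053) L763822
theorem L763828 : sm gj N57339 = N56841 := ded_37_2 (flp_d L759242) (flp_j L751055) L763822
theorem L763830 : sm gi N57339 = N56152 := ded_39_2 (flp_d L751525) (flp_i L751057) L763822
theorem L763832 : sm gh N57339 = N57098 := ded_38_2 (flp_d L760963) (flp_h L747684) (flp_d L735717) L751047 L763822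
theorem L763834 : sm gh N56117 = N57340 := rfl
theorem L763836 : sm ga N57340 = N56650 := ded_17_1 (flp_h L757453) (flp_a L751061) L763834
theorem L763838 : sm gb N57340 = N56120 := ded_25_1 (flp_h L751102) (flp_b L751063) L763834
theorem L763840 : sm gc N57340 = N56602 := ded_32_1 (flp_h L756926) (flp_c L751065) L763834
theorem L763842 : sm ge N57340 = N56118 := ded_43_1 (flp_h L751075) (flp_e L751069) L763834
theorem L763844 : sm gf N57340 = N56648 := ded_47_1 (flp_h L757422) (flp_f L751071) L763834
theorem L763846 : sm gj N57340 = N56126 := ded_52_1 (flp_h L751182) (flp_j L751073) L763834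
theorem L763848 : sm gi N57340 = N56155 := ded_54_2 (flp_h L751567) (flp_i L736270) (flp_h L735746) L751059 L763834
theorem L763850 : sm gd N56118 = N57341 := rfl
theorem L763852 : sm ga N57341 = N56696 := ded_12_1 (flp_d L757814) (flp_a L751077) L763850
theorem L763854 : sm gb N57341 = N56121 := ded_20_1 (flp_d L751116) (flp_b L751079) L763850
theorem L763856 : sm gf N57341 = N56138 := ded_35_2 (flp_d L751330) (flp_f L751083) L763850
theorem L763858 : sm gj N57341 = N56127 := ded_37_2 (flp_d L751198) (flp_j L751085) L763850
theorem L763860 : sm gi N57341 = N56156 := ded_39_2 (flp_d L751579) (flp_i L751087) L763850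
theorem L763862 : sm gc N57341 = N57041 := ded_27_1 (flp_d L760613) L747301 (flp_d L742910) (flp_c L751081) L763850
theorem L763864 : sm gh N57341 = N57341 := ded_38_2 (flp_d L763850) (flp_h L751075) L735760 L751075 L763850
theorem L763865 : sm gh N56119 = N57342 := rfl
theorem L763867 : sm ga N57342 = N57089 := ded_17_1 (flp_h L760904) (flp_a L751091) L763865
theorem L763869 : sm gb N57342 = N57073 := ded_25_1 (flp_h L760798) (flp_b L751093) L763865
theorem L763871 : sm ge N57342 = N57342 := ded_43_1 (flp_h L763865) L751097 L763865
theorem L763872 : sm gf N57342 = N56735 := ded_47_1 L758172 (flp_f L751098) L763865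
theorem L763874 : sm gj N57342 = N56130 := ded_52_1 (flp_h L751246) (flp_j L751100) L763865
theorem L763876 : sm gi N57342 = N56737 := ded_54_2 L758194 L744313 (flp_h L735776) L751089 L763865
theorem L763878 : sm gd N56120 = N57343 := rfl
theorem L763880 : sm ga N57343 = N57134 := ded_12_1 (flp_d L761192) (flp_a L751104) L763878
theorem L763882 : sm gf N57343 = N57058 := ded_35_2 (flp_d L760710) (flp_f L751110) L763878
theorem L763884 : sm gj N57343 = N56132 := ded_37_2 (flp_d L751269) (flp_j L751112) L763878
theorem L763886 : sm gi N57343 = N56157 := ded_39_2 (flp_d L751589) (flp_i L751114) L763878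
theorem L763888 : sm ge N56121 = N57344 := rfl
theorem L763890 : sm ga N57344 = N57169 := ded_13_1 (flp_e L761407) (flp_a L751118) L763888
theorem L763892 : sm gj N57344 = N56133 := ded_42_2 (flp_e L751275) (flp_j L751122) L763888
theorem L763894 : sm gh N57344 = N57344 := ded_43_2 (flp_e L763888) L751126 L763888
theorem L763895 : sm gi N57344 = N56158 := ded_44_2 (flp_e L751599) (flp_i L751124) L763888
theorem L763897 : sm gh N56122 = N57345 := rfl
theorem L763899 : sm ga N57345 = N56419 := ded_17_1 (flp_h L755009) (flp_a L751129) L763897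
theorem L763901 : sm gb N57345 = N56607 := ded_25_1 (flp_h L756994) (flp_b L751131) L763897
theorem L763903 : sm gc N57345 = N56551 := ded_32_1 (flp_h L756403) (flp_c L751133) L763897
theorem L763905 : sm ge N57345 = N56140 := ded_43_1 (flp_h L751360) (flp_e L751135) L763897
theorem L763907 : sm gg N57345 = N56123 := ded_50_1 (flp_h L751141) (flp_g L751137) L763897
theorem L763909 : sm gj N57345 = N57082 := ded_52_1 (flp_h L760861) (flp_j L751139) L763897
theorem L763911 : sm gi N57345 = N56160 := ded_54_2 (flp_h L751623) (flp_i L736332) (flp_h L735812) L751127 L763897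
theorem L763913 : sm gd N56123 = N57346 := rfl
theorem L763915 : sm ga N57346 = N56992 := ded_12_1 (flp_d L760313) (flp_a L751143) L763913
theorem L763917 : sm gb N57346 = N56608 := ded_20_1 (flp_d L757002) (flp_b L751145) L763913
theorem L763919 : sm gf N57346 = N56124 := ded_35_2 (flp_d L751157) (flp_f L751151) L763913
theorem L763921 : sm gj N57346 = N56136 := ded_37_2 (flp_d L751316) (flp_j L751153) L763913
theorem L763923 : sm gi N57346 = N56161 := ded_39_2 (flp_d L751635) (flp_i L751155) L763913
theorem L763925 : sm gc N56124 = N57347 := rfl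
theorem L763927 : sm gj N57347 = N56137 := ded_31_2 (flp_c L751324) (flp_j L751161) L763925
theorem L763929 : sm gi N57347 = N56162 := ded_33_2 (flp_c L751647) (flp_i L751163) L763925
theorem L763931 : sm gh N56125 = N57348 := rfl
theorem L763933 : sm ga N57348 = N56669 := ded_17_1 (flp_h L757613) (flp_a L751167) L763931
theorem L763935 : sm gb N57348 = N56130 := ded_25_1 (flp_h L751246) (flp_b L751169) L763931
theorem L763937 : sm gc N57348 = N56600 := ded_32_1 (flp_h L756909) (flp_c L751171) L763931
theorem L763939 : sm ge N57348 = N57348 := ded_43_1 (flp_h L763931) L751175 L763931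
theorem L763940 : sm gf N57348 = N56598 := ded_47_1 (flp_h L756884) (flp_f L751176) L763931
theorem L763942 : sm gg N57348 = N56850 := ded_50_1 (flp_h L759335) (flp_g L751178) L763931
theorem L763944 : sm gj N57348 = N57073 := ded_52_1 (flp_h L760798) (flp_j L751180) L763931
theorem L763946 : sm gi N57348 = N56642 := ded_54_2 (flp_h L757372) (flp_i L743390) (flp_h L735853) L751165 L763931
theorem L763948 : sm gd N56126 = N57349 := rfl
theorem L763950 : sm ga N57349 = N56672 := ded_12_1 (flp_d L757646) (flp_a L751184) L763948
theorem L763952 : sm gb N57349 = N56132 := ded_20_1 (flp_d L751269) (flp_b L751186) L763948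
theorem L763954 : sm gf N57349 = N56667 := ded_35_2 (flp_d L757594) (flp_f L751192) L763948
theorem L763956 : sm gg N57349 = N56852 := ded_36_2 (flp_d L759358) (flp_g L751194) L763948
theorem L763958 : sm gi N57349 = N56169 := ded_39_2 (flp_d L751751) (flp_i L751196) L763948
theorem L763960 : sm ge N56127 = N57350 := rfl
theorem L763962 : sm ga N57350 = N56708 := ded_13_1 (flp_e L757927) (flp_a L751200) L763960
theorem L763964 : sm gb N57350 = N56133 := ded_21_1 (flp_e L751275) (flp_b L751202) L763960
theorem L763966 : sm gc N57350 = N57043 := ded_28_1 (flp_e L760627) (flp_c L751210) L763960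
theorem L763968 : sm gg N57350 = N56853 := ded_41_2 (flp_e L759364) (flp_g L751206) L763960
theorem L763970 : sm gh N57350 = N57350 := ded_43_2 (flp_e L763960) L751212 L763960
theorem L763971 : sm gi N57350 = N56170 := ded_44_2 (flp_e L751757) (flp_i L751208) L763960
theorem L763973 : sm gf N57350 = N56915 := ded_40_2 (flp_e L759814) L746289 (flp_e L736089) (flp_f L751204) L763960
theorem L763975 : sm gh N56128 = N57351 := rfl
theorem L763977 : sm ga N57351 = N56547 := ded_17_1 (flp_h L756359) (flp_a L751215) L763975
theorem L763979 : sm gb N57351 = N56598 := ded_25_1 (flp_h L756884) (flp_b L751217) L763975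
theorem L763981 : sm ge N57351 = N56571 := ded_43_1 (flp_h L756591) (flp_e L751221) L763975
theorem L763983 : sm gf N57351 = N56130 := ded_47_1 (flp_h L751246) (flp_f L751223) L763975
theorem L763985 : sm gg N57351 = N56602 := ded_50_1 (flp_h L756926) (flp_g L751225) L763975
theorem L763987 : sm gj N57351 = N56735 := ded_52_1 L758172 (flp_j L751227) L763975
theorem L763989 : sm gi N57351 = N56639 := ded_54_2 (flp_h L757335) (flp_i L743338) L735899 L751213 L763975
theorem L763991 : sm gh N56129 = N57352 := rfl
theorem L763993 : sm ga N57352 = N56834 := ded_17_1 (flp_h L759179) (flp_a L751231) L763991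
theorem L763995 : sm gb N57352 = N56642 := ded_25_1 (flp_h L757372) (flp_b L751233) L763991
theorem L763997 : sm gc N57352 = N56782 := ded_32_1 (flp_h L758674) (flp_c L751235) L763991
theorem L763999 : sm ge N57352 = N57352 := ded_43_1 (flp_h L763991) L751239 L763991
theorem L764000 : sm gf N57352 = N56639 := ded_47_1 (flp_h L757335) (flp_f L751240) L763991
theorem L764002 : sm gg N57352 = N56855 := ded_50_1 (flp_h L759381) (flp_g L751242) L763991
theorem L764004 : sm gj N57352 = N56737 := ded_52_1 L758194 (flp_j L751244) L763991
theorem L764006 : sm gi N57352 = N56130 := ded_54_2 (flp_h L751246) (flp_i L735918) L735901 L751229 L763991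
theorem L764008 : sm gd N56130 = N57353 := rfl
theorem L764010 : sm gg N57353 = N56856 := ded_36_2 (flp_d L759386) (flp_g L751249) L764008
theorem L764012 : sm gh N57353 = N56132 := ded_38_2 (flp_d L751269) (flp_h L735941) (flp_d L735920) L751246 L764008
theorem L764014 : sm gd N56131 = N57354 := rfl
theorem L764016 : sm ga N57354 = N56548 := ded_12_1 (flp_d L756371) (flp_a L751253) L764014
theorem L764018 : sm gb N57354 = N56667 := ded_20_1 (flp_d L757594) (flp_b L751255) L764014
theorem L764020 : sm gf N57354 = N56132 := ded_35_2 (flp_d L751269) (flp_f L751261) L764014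
theorem L764022 : sm gg N57354 = N57055 := ded_36_2 (flp_d L760696) (flp_g L751263) L764014
theorem L764024 : sm gj N57354 = N57058 := ded_37_2 (flp_d L760710) (flp_j L751265) L764014
theorem L764026 : sm gi N57354 = N56175 := ded_39_2 (flp_d L751827) (flp_i L751267) L764014
theorem L764028 : sm ge N57354 = N57081 := ded_34_2 (flp_d L760855) L747577 (flp_d L736106) (flp_e L751259) L764014
theorem L764030 : sm gc N56132 = N57355 := rfl
theorem L764032 : sm gg N57355 = N56858 := ded_30_2 (flp_c L759398) (flp_g L751271) L764030
theorem L764034 : sm gi N57355 = N56176 := ded_33_2 (flp_c L751839) (flp_i L751273) L764030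
theorem L764036 : sm gd N57355 = N56137 := ded_27_2 (flp_c L751324) (flp_d L736004) (flp_c L735943) L751269 L764030
theorem L764038 : sm ge N56132 = N57356 := rfl
theorem L764040 : sm gg N57356 = N56859 := ded_41_2 (flp_e L759404) (flp_g L751271) L764038
theorem L764042 : sm gi N57356 = N56177 := ded_44_2 (flp_e L751845) (flp_i L751273) L764038
theorem L764044 : sm gd N57356 = N56133 := ded_34_1 (flp_e L751275) (flp_d L735951) (flp_e L735945) L751269 L764038
theorem L764046 : sm gf N56133 = N57357 := rfl
theorem L764048 : sm ga N57357 = N57104 := ded_14_1 (flp_f L763316) L763303 L764046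
theorem L764050 : sm gb N57357 = N56915 := ded_22_1 (flp_f L763973) L763964 L764046
theorem L764052 : sm gh N57357 = N57357 := ded_47_2 (flp_f L764046) L751279 L764046
theorem L764053 : sm gi N57357 = N56178 := ded_48_2 (flp_f L751851) (flp_i L751280) L764046
theorem L764055 : sm ge N57357 = N56143 := ded_40_1 (flp_f L751402) (flp_e L736110) (flp_f L735953) L751275 L764046
theorem L764057 : sm gg N56913 = N57357 := ded_23_0 L764050 L759816 (flp_b L759804)
theorem L764059 : sm gh N56134 = N57358 := rfl
theorem L764061 : sm ga N57358 = N57021 := ded_17_1 (flp_h L760485) (flp_a L751284) L764059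
theorem L764063 : sm gb N57358 = N56619 := ded_25_1 (flp_h L757124) (flp_b L751286) L764059
theorem L764065 : sm gc N57358 = N56610 := ded_32_1 (flp_h L757016) (flp_c L751288) L764059
theorem L764067 : sm ge N57358 = N56144 := ded_43_1 (flp_h L751415) (flp_e L751292) L764059
theorem L764069 : sm gf N57358 = N56573 := ded_47_1 (flp_h L756619) (flp_f L751294) L764059
theorem L764071 : sm gg N57358 = N57082 := ded_50_1 (flp_h L760861) (flp_g L751296) L764059
theorem L764073 : sm gj N57358 = N56135 := ded_52_1 (flp_h L751300) (flp_j L751298) L764059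
theorem L764075 : sm gi N57358 = N56179 := ded_54_2 (flp_h L751859) (flp_i L736568) (flp_h L735974) L751282 L764059
theorem L764077 : sm gd N56135 = N57359 := rfl
theorem L764079 : sm ga N57359 = N57032 := ded_12_1 (flp_d L760571) (flp_a L751302) L764077
theorem L764081 : sm gb N57359 = N56620 := ded_20_1 (flp_d L757134) (flp_b L751304) L764077
theorem L764083 : sm gf N57359 = N56860 := ded_35_2 (flp_d L759410) (flp_f L751310) L764077
theorem L764085 : sm gg N57359 = N56136 := ded_36_2 (flp_d L751316) (flp_g L751312) L764077
theorem L764087 : sm gi N57359 = N56180 := ded_39_2 (flp_d L751869) (flp_i L751314) L764077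
theorem L764089 : sm gh N57359 = N57075 := ded_38_2 (flp_d L760813) (flp_h L747532) (flp_d L735986) L751300 L764077
theorem L764091 : sm gc N56136 = N57360 := rfl
theorem L764093 : sm gf N57360 = N56137 := ded_29_2 (flp_c L751324) (flp_f L751320) L764091
theorem L764095 : sm gi N57360 = N56181 := ded_33_2 (flp_c L751877) (flp_i L751322) L764091
theorem L764097 : sm ge N56136 = N57361 := rfl
theorem L764099 : sm gb N57361 = N56622 := ded_21_1 (flp_e L757148) (flp_b L751318) L764097
theorem L764101 : sm gi N57361 = N56182 := ded_44_2 (flp_e L751881) (flp_i L751322) L764097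
theorem L764103 : sm gd N57361 = N56147 := ded_34_1 (flp_e L751461) (flp_d L736152) (flp_e L735998) L751316 L764097
theorem L764105 : sm gb N56137 = N57362 := rfl
theorem L764107 : sm gg N57362 = N56862 := ded_23_2 (flp_b L759432) (flp_g L751326) L764105
theorem L764109 : sm gi N57362 = N56183 := ded_26_2 (flp_b L751887) (flp_i L751328) L764105
theorem L764111 : sm gc N57362 = N56623 := ded_19_2 (flp_b L757154) (flp_c L743126) (flp_b L736006) L751324 L764105
theorem L764113 : sm gf N56139 = N57363 := rfl
theorem L764115 : sm ga N57363 = N56833 := ded_14_1 L759172 (flp_a L751348) L764113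
theorem L764117 : sm gb N57363 = N56914 := ded_22_1 L759809 (flp_b L751350) L764113
theorem L764119 : sm gd N57363 = N56831 := ded_35_1 L759148 (flp_d L751358) L764113
theorem L764121 : sm gj N57363 = N56143 := ded_46_2 (flp_f L751402) (flp_j L751353) L764113
theorem L764123 : sm gh N57363 = N57363 := ded_47_2 (flp_f L764113) L751355 L764113
theorem L764124 : sm gi N57363 = N56186 := ded_48_2 (flp_f L751927) (flp_i L751356) L764113
theorem L764126 : sm gd N56140 = N57364 := rfl
theorem L764128 : sm ga N57364 = N56454 := ded_12_1 (flp_d L755329) (flp_a L751362) L764126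
theorem L764130 : sm gb N57364 = N56627 := ded_20_1 (flp_d L757202) (flp_b L751364) L764126
theorem L764132 : sm gf N57364 = N57364 := ded_35_2 (flp_d L764126) L751368 L764126
theorem L764133 : sm gg N57364 = N56141 := ded_36_2 (flp_d L751375) (flp_g L751369) L764126
theorem L764135 : sm gj N57364 = N57165 := ded_37_2 (flp_d L761380) (flp_j L751371) L764126
theorem L764137 : sm gi N57364 = N56188 := ded_39_2 (flp_d L751952) (flp_i L751373) L764126
theorem L764139 : sm gc N57364 = N57163 := ded_27_1 (flp_d L761370) L748175 (flp_d L742546) (flp_c L751366) L764126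
theorem L764141 : sm gh N57364 = N57364 := ded_38_2 (flp_d L764126) (flp_h L751360) L736045 L751360 L764126
theorem L764142 : sm gc N56141 = N57365 := rfl
theorem L764144 : sm ga N57365 = N56844 := ded_11_1 L759287 (flp_a L751377) L764142
theorem L764146 : sm gf N57365 = N56142 := ded_29_2 (flp_c L751388) (flp_f L751381) L764142
theorem L764148 : sm gg N57365 = N57163 := ded_30_2 (flp_c L764139) L764133 L764142
theorem L764150 : sm gj N57365 = N56146 := ded_31_2 (flp_c L751446) (flp_j L751383) L764142
theorem L764152 : sm gh N57365 = N57365 := ded_32_2 (flp_c L764142) L751387 L764142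
theorem L764153 : sm gi N57365 = N56189 := ded_33_2 (flp_c L751965) (flp_i L751385) L764142
theorem L764155 : sm gd N57365 = N56707 := ded_27_2 L757917 L744433 (flp_c L736057) L751375 L764142
theorem L764157 : sm gb N57365 = N56709 := ded_56_5 (flp_a L762652) L762662 L762656 L762679 L762693 L749784 (flp_b L751914) L751912 L744946 (flp_f L737092) L752293 L752304 (flp_c L750759) L750757 L741203 (flp_h L741621) L741623 (flp_e L726962) (flp_d L707357) (flp_c L707322) (flp_b L726875) (flp_a L735873) (flp_h L735871) L718165 L698713 L685643 L663315 L364605 L364603 L364609 (flp_f L663523) L663521 L387692 (flp_c L387303) (flp_b L666973) (flp_a L688512) L688519 L671212 (flp_e L675077) (flp_d L696157) L696155 (flp_b L708480) L708478 L711611 L711615 L690677 L668530 (flp_c L669105) (flp_b L691211) (flp_a L712105) (flp_h L712103) (flp_f L712001) (flp_e L730596) (flp_d L741549) (flp_c L750121) L750119 L735096 L735830 (flp_f L751151) L751149 L751375 L764142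
theorem L764159 : sm ge N56141 = N57366 := rfl
theorem L764161 : sm ga N57366 = N57006 := ded_13_1 (flp_e L760387) (flp_a L751377) L764159
theorem L764163 : sm gb N57366 = N56629 := ded_21_1 (flp_e L757221) (flp_b L751379) L764159
theorem L764165 : sm gj N57366 = N56147 := ded_42_2 (flp_e L751461) (flp_j L751383) L764159
theorem L764167 : sm gh N57366 = N57366 := ded_43_2 (flp_e L764159) L751387 L764159
theorem L764168 : sm gi N57366 = N56190 := ded_44_2 (flp_e L751979) (flp_i L751385) L764159
theorem L764170 : sm gd N56144 = N57367 := rfl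
theorem L764172 : sm ga N57367 = N57041 := ded_12_1 (flp_d L760613) (flp_a L751417) L764170
theorem L764174 : sm gb N57367 = N56633 := ded_20_1 (flp_d L757270) (flp_b L751419) L764170
theorem L764176 : sm gf N57367 = N56148 := ded_35_2 (flp_d L751468) (flp_f L751423) L764170
theorem L764178 : sm gg N57367 = N57165 := ded_36_2 (flp_d L761380) (flp_g L751425) L764170
theorem L764180 : sm gj N57367 = N56145 := ded_37_2 (flp_d L751431) (flp_j L751427) L764170
theorem L764182 : sm gi N57367 = N56195 := ded_39_2 (flp_d L752056) (flp_i L751429) L764170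
theorem L764184 : sm gc N57367 = N56696 := ded_27_1 (flp_d L757814) L743873 (flp_d L744421) (flp_c L751421) L764170
theorem L764186 : sm gh N57367 = N57367 := ded_38_2 (flp_d L764170) (flp_h L751415) L736131 L751415 L764170
theorem L764187 : sm ge N56145 = N57368 := rfl
theorem L764189 : sm ga N57368 = N57043 := ded_13_1 (flp_e L760627) (flp_a L751433) L764187
theorem L764191 : sm gb N57368 = N56635 := ded_21_1 (flp_e L757292) (flp_b L751435) L764187
theorem L764193 : sm gc N57368 = N56708 := ded_28_1 (flp_e L757927) (flp_c L751443) L764187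
theorem L764195 : sm gg N57368 = N56147 := ded_41_2 (flp_e L751461) (flp_g L751439) L764187
theorem L764197 : sm gh N57368 = N57368 := ded_43_2 (flp_e L764187) L751445 L764187
theorem L764198 : sm gi N57368 = N56196 := ded_44_2 (flp_e L752066) (flp_i L751441) L764187
theorem L764200 : sm gf N57368 = N56513 := ded_40_2 (flp_e L755968) L741792 (flp_e L736201) (flp_f L751437) L764187
theorem L764202 : sm ge N56146 = N57369 := rfl
theorem L764204 : sm ga N57369 = N56853 := ded_13_1 (flp_e L759364) (flp_a L751448) L764202
theorem L764206 : sm gb N57369 = N56710 := ded_21_1 (flp_e L757939) L751459 L764202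
theorem L764208 : sm gc N57369 = N56147 := ded_28_1 (flp_e L751461) L751446 L764202
theorem L764210 : sm gg N57369 = N56708 := ded_41_2 (flp_e L757927) (flp_g L751452) L764202
theorem L764212 : sm gh N57369 = N57369 := ded_43_2 (flp_e L764202) L751454 L764202
theorem L764213 : sm gi N57369 = N56198 := ded_44_2 (flp_e L752090) (flp_i L751455) L764202
theorem L764215 : sm gi N56149 = N57370 := rfl
theorem L764217 : sm ga N57370 = N56401 := ded_18_1 (flp_i L754807) (flp_a L751486) L764215
theorem L764219 : sm gb N57370 = N56321 := ded_26_1 (flp_i L753875) (flp_b L751488) L764215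
theorem L764221 : sm gc N57370 = N56538 := ded_33_1 (flp_i L756256) (flp_c L751490) L764215
theorem L764223 : sm gd N57370 = N56319 := ded_39_1 (flp_i L753843) (flp_d L751492) L764215
theorem L764225 : sm ge N57370 = N57370 := ded_44_1 (flp_i L764215) L751494 L764215
theorem L764226 : sm gf N57370 = N56159 := ded_48_1 (flp_i L751607) (flp_f L751495) L764215
theorem L764228 : sm gg N57370 = N56362 := ded_51_1 (flp_i L754390) (flp_g L751499) L764215
theorem L764230 : sm gj N57370 = N56150 := ded_53_1 (flp_i L751501) L751484 L764215
theorem L764232 : sm gh N56150 = N57371 := rfl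
theorem L764234 : sm ga N57371 = N56418 := ded_17_1 (flp_h L755002) (flp_a L751503) L764232
theorem L764236 : sm gb N57371 = N56645 := ded_25_1 (flp_h L757403) (flp_b L751505) L764232
theorem L764238 : sm gc N57371 = N56550 := ded_32_1 (flp_h L756396) (flp_c L751507) L764232
theorem L764240 : sm ge N57371 = N57371 := ded_43_1 (flp_h L764232) L751511 L764232
theorem L764241 : sm gf N57371 = N56160 := ded_47_1 (flp_h L751623) (flp_f L751512) L764232
theorem L764243 : sm gg N57371 = N56151 := ded_50_1 (flp_h L751516) (flp_g L751514) L764232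
theorem L764245 : sm gd N56151 = N57372 := rfl
theorem L764247 : sm gb N57372 = N56646 := ded_20_1 (flp_d L757410) (flp_b L751518) L764245
theorem L764249 : sm gf N57372 = N56152 := ded_35_2 (flp_d L751525) (flp_f L751521) L764245
theorem L764251 : sm gj N57372 = N56866 := ded_37_2 (flp_d L759457) (flp_j L751523) L764245
theorem L764253 : sm gc N56152 = N57373 := rfl
theorem L764255 : sm gg N57373 = N56162 := ded_30_2 (flp_c L751647) (flp_g L751529) L764253
theorem L764257 : sm gj N57373 = N56867 := ded_31_2 (flp_c L759463) (flp_j L751531) L764253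
theorem L764259 : sm gh N56153 = N57374 := rfl
theorem L764261 : sm ga N57374 = N56155 := ded_17_1 (flp_h L751567) (flp_a L751535) L764259
theorem L764263 : sm gb N57374 = N56604 := ded_25_1 (flp_h L756956) (flp_b L751537) L764259
theorem L764265 : sm gc N57374 = N56648 := ded_32_1 (flp_h L757422) (flp_c L751539) L764259
theorem L764267 : sm ge N57374 = N56154 := ded_43_1 (flp_h L751551) (flp_e L751543) L764259
theorem L764269 : sm gf N57374 = N56602 := ded_47_1 (flp_h L756926) (flp_f L751545) L764259
theorem L764271 : sm gg N57374 = N56854 := ded_50_1 (flp_h L759371) (flp_g L751547) L764259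
theorem L764273 : sm gj N57374 = N56164 := ded_52_1 (flp_h L751669) (flp_j L751549) L764259
theorem L764275 : sm gi N57374 = N56650 := ded_54_2 (flp_h L757453) (flp_i L743507) (flp_h L736248) L751533 L764259
theorem L764277 : sm gd N56154 = N57375 := rfl
theorem L764279 : sm ga N57375 = N56156 := ded_12_1 (flp_d L751579) (flp_a L751553) L764277
theorem L764281 : sm gb N57375 = N56625 := ded_20_1 (flp_d L757175) (flp_b L751555) L764277
theorem L764283 : sm gf N57375 = N56184 := ded_35_2 (flp_d L751893) (flp_f L751559) L764277
theorem L764285 : sm gg N57375 = N57158 := ded_36_2 (flp_d L761335) (flp_g L751561) L764277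
theorem L764287 : sm gj N57375 = N56165 := ded_37_2 (flp_d L751685) (flp_j L751563) L764277
theorem L764289 : sm gi N57375 = N56696 := ded_39_2 (flp_d L757814) (flp_i L751565) L764277
theorem L764291 : sm gc N57375 = N56195 := ded_27_1 (flp_d L752056) (flp_c L752028) L752036 (flp_c L751557) L764277
theorem L764293 : sm gh N57375 = N56203 := ded_38_2 L752166 (flp_h L736993) (flp_d L736262) L751551 L764277
theorem L764295 : sm gd N56155 = N57376 := rfl
theorem L764297 : sm gb N57376 = N56157 := ded_20_1 (flp_d L751589) (flp_b L751569) L764295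
theorem L764299 : sm gf N57376 = N57056 := ded_35_2 (flp_d L760702) (flp_f L751575) L764295
theorem L764301 : sm gj N57376 = N56169 := ded_37_2 (flp_d L751751) (flp_j L751577) L764295
theorem L764303 : sm gh N57376 = N56774 := ded_38_2 (flp_d L758602) (flp_h L744882) (flp_d L736276) L751567 L764295
theorem L764305 : sm ge N56156 = N57377 := rfl
theorem L764307 : sm gb N57377 = N56158 := ded_21_1 (flp_e L751599) (flp_b L751581) L764305
theorem L764309 : sm gj N57377 = N56170 := ded_42_2 (flp_e L751757) (flp_j L751585) L764305
theorem L764311 : sm gh N57377 = N56208 := ded_43_2 (flp_e L752212) (flp_h L751587) L764305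
theorem L764313 : sm gc N56157 = N57378 := rfl
theorem L764315 : sm ga N57378 = N57135 := ded_11_1 (flp_c L761198) (flp_a L751591) L764313
theorem L764317 : sm gf N57378 = N57059 := ded_29_2 (flp_c L760716) (flp_f L751593) L764313
theorem L764319 : sm gj N57378 = N56176 := ded_31_2 (flp_c L751839) (flp_j L751595) L764313
theorem L764321 : sm gh N57378 = N56776 := ded_32_2 (flp_c L758614) (flp_h L751597) L764313
theorem L764323 : sm gd N57378 = N56162 := ded_27_2 (flp_c L751647) (flp_d L736360) (flp_c L736298) L751589 L764313
theorem L764325 : sm ge N56157 = N57379 := rfl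
theorem L764327 : sm ga N57379 = N57136 := ded_13_1 (flp_e L761204) (flp_a L751591) L764325
theorem L764329 : sm gj N57379 = N56177 := ded_42_2 (flp_e L751845) (flp_j L751595) L764325
theorem L764331 : sm gh N57379 = N56777 := ded_43_2 (flp_e L758622) (flp_h L751597) L764325
theorem L764333 : sm gd N57379 = N56158 := ded_34_1 (flp_e L751599) (flp_d L736306) (flp_e L736300) L751589 L764325
theorem L764335 : sm gf N56158 = N57380 := rfl
theorem L764337 : sm ga N57380 = N57152 := ded_14_1 L761290 (flp_a L751601) L764335
theorem L764339 : sm gj N57380 = N56178 := ded_46_2 (flp_f L751851) (flp_j L751603) L764335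
theorem L764341 : sm gh N57380 = N56209 := ded_47_2 (flp_f L752221) (flp_h L751605) L764335
theorem L764343 : sm ge N57380 = N56186 := ded_40_1 (flp_f L751927) (flp_e L736622) (flp_f L736310) L751599 L764335
theorem L764345 : sm gh N56159 = N57381 := rfl
theorem L764347 : sm ga N57381 = N56403 := ded_17_1 (flp_h L754834) (flp_a L751609) L764345
theorem L764349 : sm gb N57381 = N56662 := ded_25_1 (flp_h L757566) (flp_b L751611) L764345
theorem L764351 : sm gc N57381 = N56539 := ded_32_1 (flp_h L756269) (flp_c L751613) L764345
theorem L764353 : sm ge N57381 = N56187 := ded_43_1 (flp_h L751937) (flp_e L751617) L764345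
theorem L764355 : sm gg N57381 = N56179 := ded_50_1 (flp_h L751859) (flp_g L751619) L764345
theorem L764357 : sm gj N57381 = N56160 := ded_52_1 (flp_h L751623) (flp_j L751621) L764345
theorem L764359 : sm gi N57381 = N57082 := ded_54_2 (flp_h L760861) (flp_i L747581) (flp_h L736328) L751607 L764345
theorem L764361 : sm gd N56160 = N57382 := rfl
theorem L764363 : sm ga N57382 = N56420 := ded_12_1 (flp_d L755019) (flp_a L751625) L764361
theorem L764365 : sm gb N57382 = N56663 := ded_20_1 (flp_d L757574) (flp_b L751627) L764361
theorem L764367 : sm gg N57382 = N56161 := ded_36_2 (flp_d L751635) (flp_g L751633) L764361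
theorem L764369 : sm gh N57382 = N56341 := ded_38_2 (flp_d L754129) (flp_h L739615) (flp_d L736340) L751623 L764361
theorem L764371 : sm gc N56161 = N57383 := rfl
theorem L764373 : sm ga N57383 = N56993 := ded_11_1 (flp_c L760317) (flp_a L751637) L764371
theorem L764375 : sm gf N57383 = N56162 := ded_29_2 (flp_c L751647) (flp_f L751641) L764371
theorem L764377 : sm gj N57383 = N56181 := ded_31_2 (flp_c L751877) (flp_j L751643) L764371
theorem L764379 : sm gh N57383 = N56963 := ded_32_2 (flp_c L760143) (flp_h L751645) L764371
theorem L764381 : sm gd N57383 = N57059 := ded_27_2 (flp_c L760716) (flp_d L747437) (flp_c L736352) L751635 L764371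
theorem L764383 : sm ge N56161 = N57384 := rfl
theorem L764385 : sm ga N57384 = N56994 := ded_13_1 (flp_e L760323) (flp_a L751637) L764383
theorem L764387 : sm gb N57384 = N56665 := ded_21_1 (flp_e L757584) (flp_b L751639) L764383
theorem L764389 : sm gj N57384 = N56182 := ded_42_2 (flp_e L751881) (flp_j L751643) L764383
theorem L764391 : sm gh N57384 = N56964 := ded_43_2 (flp_e L760149) (flp_h L751645) L764383
theorem L764393 : sm gd N57384 = N56190 := ded_34_1 (flp_e L751979) (flp_d L736659) (flp_e L736354) L751635 L764383
theorem L764395 : sm gb N56162 = N57385 := rfl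
theorem L764397 : sm gj N57385 = N56183 := ded_24_2 (flp_b L751887) (flp_j L751649) L764395
theorem L764399 : sm gc N57385 = N56666 := ded_19_2 (flp_b L757590) (flp_c L743662) (flp_b L736362) L751647 L764395
theorem L764401 : sm gh N56163 = N57386 := rfl
theorem L764403 : sm ga N57386 = N56167 := ded_17_1 (flp_h L751719) (flp_a L751653) L764401
theorem L764405 : sm gb N57386 = N56613 := ded_25_1 (flp_h L757054) (flp_b L751655) L764401
theorem L764407 : sm gc N57386 = N56573 := ded_32_1 (flp_h L756619) (flp_c L751657) L764401
theorem L764409 : sm ge N57386 = N56210 := ded_43_1 (flp_h L752232) (flp_e L751661) L764401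
theorem L764411 : sm gf N57386 = N56610 := ded_47_1 (flp_h L757016) (flp_f L751663) L764401
theorem L764413 : sm gg N57386 = N56577 := ded_50_1 (flp_h L756677) (flp_g L751665) L764401
theorem L764415 : sm gj N57386 = N56773 := ded_52_1 (flp_h L758586) (flp_j L751667) L764401
theorem L764417 : sm gi N57386 = N56896 := ded_54_2 (flp_h L759686) (flp_i L746112) L736382 L751651 L764401
theorem L764419 : sm gd N56164 = N57387 := rfl
theorem L764421 : sm ga N57387 = N56169 := ded_12_1 (flp_d L751751) (flp_a L751671) L764419
theorem L764423 : sm gb N57387 = N56617 := ded_20_1 (flp_d L757104) (flp_b L751673) L764419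
theorem L764425 : sm gf N57387 = N56611 := ded_35_2 (flp_d L757028) (flp_f L751679) L764419
theorem L764427 : sm gg N57387 = N56882 := ded_36_2 (flp_d L759591) (flp_g L751681) L764419
theorem L764429 : sm gi N57387 = N56672 := ded_39_2 (flp_d L757646) (flp_i L751683) L764419
theorem L764431 : sm ge N56165 = N57388 := rfl
theorem L764433 : sm ga N57388 = N56170 := ded_13_1 (flp_e L751757) (flp_a L751687) L764431
theorem L764435 : sm gb N57388 = N56632 := ded_21_1 (flp_e L757258) (flp_b L751689) L764431
theorem L764437 : sm gc N57388 = N56196 := ded_28_1 (flp_e L752066) (flp_c L751697) L764431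
theorem L764439 : sm gg N57388 = N56198 := ded_41_2 (flp_e L752090) (flp_g L751693) L764431
theorem L764441 : sm gh N57388 = N56205 := ded_43_2 (flp_e L752179) (flp_h L751699) L764431
theorem L764443 : sm gi N57388 = N56708 := ded_44_2 (flp_e L757927) (flp_i L751695) L764431
theorem L764445 : sm gf N57388 = N56775 := ded_40_2 (flp_e L758608) L744896 (flp_e L736694) (flp_f L751691) L764431
theorem L764447 : sm gh N56166 = N57389 := rfl
theorem L764449 : sm ga N57389 = N56896 := ded_17_1 (flp_h L759686) (flp_a L751703) L764447
theorem L764451 : sm gb N57389 = N56171 := ded_25_1 (flp_h L751765) (flp_b L751705) L764447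
theorem L764453 : sm gc N57389 = N56459 := ded_32_1 (flp_h L755375) (flp_c L751707) L764447
theorem L764455 : sm ge N57389 = N56212 := ded_43_1 (flp_h L752263) (flp_e L751711) L764447
theorem L764457 : sm gf N57389 = N56640 := ded_47_1 (flp_h L757347) (flp_f L751713) L764447
theorem L764459 : sm gg N57389 = N56884 := ded_50_1 (flp_h L759602) (flp_g L751715) L764447
theorem L764461 : sm gj N57389 = N56460 := ded_52_1 (flp_h L755387) (flp_j L751717) L764447
theorem L764463 : sm gi N57389 = N56167 := ded_54_2 (flp_h L751719) (flp_i L736430) L736412 L751701 L764447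
theorem L764465 : sm gd N56167 = N57390 := rfl
theorem L764467 : sm gb N57390 = N56172 := ded_20_1 (flp_d L751781) (flp_b L751721) L764465
theorem L764469 : sm gf N57390 = N57052 := ded_35_2 (flp_d L760678) (flp_f L751727) L764465
theorem L764471 : sm gg N57390 = N56885 := ded_36_2 (flp_d L759610) (flp_g L751729) L764465
theorem L764473 : sm gj N57390 = N56774 := ded_37_2 (flp_d L758602) (flp_j L751731) L764465
theorem L764475 : sm gh N57390 = N56169 := ded_38_2 (flp_d L751751) (flp_h L736464) (flp_d L736436) L751719 L764465
theorem L764477 : sm gd N56168 = N57391 := rfl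
theorem L764479 : sm ga N57391 = N56611 := ded_12_1 (flp_d L757028) (flp_a L751735) L764477
theorem L764481 : sm gb N57391 = N56175 := ded_20_1 (flp_d L751827) (flp_b L751737) L764477
theorem L764483 : sm gf N57391 = N56169 := ded_35_2 (flp_d L751751) (flp_f L751743) L764477
theorem L764485 : sm gg N57391 = N57081 := ded_36_2 (flp_d L760855) (flp_g L751745) L764477
theorem L764487 : sm gj N57391 = N57056 := ded_37_2 (flp_d L760702) (flp_j L751747) L764477
theorem L764489 : sm gi N57391 = N56667 := ded_39_2 (flp_d L757594) (flp_i L751749) L764477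
theorem L764491 : sm ge N57391 = N57055 := ded_34_2 (flp_d L760696) L747417 (flp_d L736712) (flp_e L751741) L764477
theorem L764493 : sm gh N57391 = N57052 := ded_38_2 (flp_d L760678) (flp_h L747391) (flp_d L736454) L751733 L764477
theorem L764495 : sm gc N56169 = N57392 := rfl
theorem L764497 : sm gg N57392 = N56888 := ded_30_2 (flp_c L759638) (flp_g L751755) L764495
theorem L764499 : sm gd N57392 = N56673 := ded_27_2 (flp_c L757652) (flp_d L743724) (flp_c L736468) L751751 L764495
theorem L764501 : sm ge N56169 = N57393 := rfl
theorem L764503 : sm gb N57393 = N56177 := ded_21_1 (flp_e L751845) (flp_b L751753) L764501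
theorem L764505 : sm gg N57393 = N56889 := ded_41_2 (flp_e L759642) (flp_g L751755) L764501
theorem L764507 : sm gd N57393 = N56170 := ded_34_1 (flp_e L751757) (flp_d L736474) (flp_e L736470) L751751 L764501
theorem L764509 : sm gf N56170 = N57394 := rfl
theorem L764511 : sm ga N57394 = N56775 := ded_14_1 (flp_f L764445) L764433 L764509
theorem L764513 : sm gb N57394 = N56178 := ded_22_1 (flp_f L751851) (flp_b L751759) L764509
theorem L764515 : sm gc N57394 = N56500 := ded_29_1 (flp_f L763522) L763514 L764509
theorem L764517 : sm gh N57394 = N56215 := ded_47_2 (flp_f L752306) (flp_h L751763) L764509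
theorem L764519 : sm gi N57394 = N56915 := ded_48_2 (flp_f L763973) L763971 L764509
theorem L764521 : sm ge N57394 = N56192 := ded_40_1 (flp_f L752006) (flp_e L736716) (flp_f L736478) L751757 L764509
theorem L764523 : sm gg N57394 = N56501 := ded_45_2 L755857 (flp_g L757988) L757992 (flp_g L751761) L764509
theorem L764525 : sm gd N56171 = N57395 := rfl
theorem L764527 : sm ga N57395 = N56835 := ded_12_1 (flp_d L759188) (flp_a L751767) L764525
theorem L764529 : sm gf N57395 = N56661 := ded_35_2 L757564 (flp_f L751773) L764525
theorem L764531 : sm gg N57395 = N56893 := ded_36_2 (flp_d L759672) (flp_g L751775) L764525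
theorem L764533 : sm gj N57395 = N56689 := ded_37_2 L757780 (flp_j L751777) L764525
theorem L764535 : sm gi N57395 = N56172 := ded_39_2 (flp_d L751781) (flp_i L751779) L764525
theorem L764537 : sm gc N56172 = N57396 := rfl
theorem L764539 : sm ga N57396 = N57116 := ded_11_1 (flp_c L761082) (flp_a L751783) L764537
theorem L764541 : sm gf N57396 = N57053 := ded_29_2 (flp_c L760684) (flp_f L751785) L764537
theorem L764543 : sm gg N57396 = N56894 := ded_30_2 (flp_c L759676) (flp_g L751787) L764537
theorem L764545 : sm gj N57396 = N56776 := ded_31_2 (flp_c L758614) (flp_j L751789) L764537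
theorem L764547 : sm gh N57396 = N56176 := ded_32_2 (flp_c L751839) (flp_h L751791) L764537
theorem L764549 : sm gd N57396 = N56772 := ded_27_2 (flp_c L758576) (flp_d L744842) (flp_c L736502) L751781 L764537
theorem L764551 : sm ge N56172 = N57397 := rfl
theorem L764553 : sm ga N57397 = N57117 := ded_13_1 (flp_e L761090) (flp_a L751783) L764551
theorem L764555 : sm gg N57397 = N56895 := ded_41_2 (flp_e L759680) (flp_g L751787) L764551
theorem L764557 : sm gj N57397 = N56777 := ded_42_2 (flp_e L758622) (flp_j L751789) L764551
theorem L764559 : sm gh N57397 = N56177 := ded_43_2 (flp_e L751845) (flp_h L751791) L764551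
theorem L764561 : sm gd N57397 = N56217 := ded_34_1 (flp_e L752334) (flp_d L737122) (flp_e L736504) L751781 L764551
theorem L764563 : sm gh N56173 = N57398 := rfl
theorem L764565 : sm ga N57398 = N56640 := ded_17_1 (flp_h L757347) (flp_a L751795) L764563
theorem L764567 : sm gb N57398 = N56614 := ded_25_1 (flp_h L757064) (flp_b L751797) L764563
theorem L764569 : sm gc N57398 = N56179 := ded_32_1 (flp_h L751859) (flp_c L751799) L764563
theorem L764571 : sm ge N57398 = N56193 := ded_43_1 (flp_h L752022) (flp_e L751803) L764563
theorem L764573 : sm gf N57398 = N56896 := ded_47_1 (flp_h L759686) (flp_f L751805) L764563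
theorem L764575 : sm gg N57398 = N56539 := ded_50_1 (flp_h L756269) (flp_g L751807) L764563
theorem L764577 : sm gj N57398 = N56174 := ded_52_1 (flp_h L751811) (flp_j L751809) L764563
theorem L764579 : sm gi N57398 = N56610 := ded_54_2 (flp_h L757016) (flp_i L742992) (flp_h L736526) L751793 L764563
theorem L764581 : sm gd N56174 = N57399 := rfl
theorem L764583 : sm ga N57399 = N56674 := ded_12_1 L757666 (flp_a L751813) L764581
theorem L764585 : sm gb N57399 = N57081 := ded_20_1 (flp_d L760855) (flp_b L751815) L764581
theorem L764587 : sm gf N57399 = N56897 := ded_35_2 (flp_d L759694) (flp_f L751821) L764581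
theorem L764589 : sm gg N57399 = N56175 := ded_36_2 (flp_d L751827) (flp_g L751823) L764581
theorem L764591 : sm gi N57399 = N57055 := ded_39_2 (flp_d L760696) (flp_i L751825) L764581
theorem L764593 : sm ge N57399 = N56667 := ded_34_2 (flp_d L757594) L743670 (flp_d L736760) (flp_e L751819) L764581
theorem L764595 : sm gh N57399 = N57049 := ded_38_2 (flp_d L760660) (flp_h L747368) (flp_d L736538) L751811 L764581
theorem L764597 : sm gc N56175 = N57400 := rfl
theorem L764599 : sm ga N57400 = N57115 := ded_11_1 (flp_c L761074) (flp_a L751829) L764597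
theorem L764601 : sm ge N57400 = N57127 := ded_28_2 (flp_c L761154) (flp_e L751835) L764597
theorem L764603 : sm gf N57400 = N56176 := ded_29_2 (flp_c L751839) (flp_f L751831) L764597
theorem L764605 : sm gj N57400 = N57059 := ded_31_2 (flp_c L760716) (flp_j L751833) L764597
theorem L764607 : sm gh N57400 = N57053 := ded_32_2 (flp_c L760684) (flp_h L751837) L764597
theorem L764609 : sm gd N57400 = N56181 := ded_27_2 (flp_c L751877) (flp_d L736588) (flp_c L736550) L751827 L764597
theorem L764611 : sm gb N56176 = N57401 := rfl
theorem L764613 : sm gd N57401 = N56183 := ded_20_2 (flp_b L751887) (flp_d L751843) L764611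
theorem L764615 : sm gg N57401 = N56900 := ded_23_2 (flp_b L759708) (flp_g L751841) L764611
theorem L764617 : sm ge N56176 = N57402 := rfl
theorem L764619 : sm gc N57402 = N56177 := ded_28_1 (flp_e L751845) L751839 L764617
theorem L764621 : sm gg N57402 = N56901 := ded_41_2 (flp_e L759712) (flp_g L751841) L764617
theorem L764623 : sm gf N56177 = N57403 := rfl
theorem L764625 : sm ga N57403 = N57130 := ded_14_1 (flp_f L763426) L763414 L764623
theorem L764627 : sm gd N57403 = N56178 := ded_35_1 (flp_f L751851) (flp_d L751849) L764623
theorem L764629 : sm ge N57403 = N57126 := ded_40_1 L761152 (flp_e L751835) L751831 L751845 L764623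
theorem L764631 : sm gg N56178 = N57404 := rfl
theorem L764633 : sm ga N57404 = N57155 := ded_15_1 L761315 (flp_a L751853) L764631
theorem L764635 : sm gb N57404 = N56501 := ded_23_1 (flp_g L764523) L764513 L764631
theorem L764637 : sm ge N57404 = N56194 := ded_41_1 (flp_g L752040) (flp_e L751857) L764631
theorem L764639 : sm gh N57404 = N56219 := ded_50_2 (flp_g L752359) (flp_h L751855) L764631
theorem L764641 : sm gi N57404 = N56913 := ded_51_2 L764057 L764053 L764631
theorem L764643 : sm gf N57404 = N56717 := ded_45_1 L758010 (flp_f L746140) (flp_g L736564) L751851 L764631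
theorem L764645 : sm gj N57067 = N57404 := ded_24_0 L764635 L755851 (flp_b L760770)
theorem L764647 : sm gd N56179 = N57405 := rfl
theorem L764649 : sm gb N57405 = N56690 := ded_20_1 (flp_d L757784) (flp_b L751861) L764647
theorem L764651 : sm gf N57405 = N56903 := ded_35_2 (flp_d L759720) (flp_f L751865) L764647
theorem L764653 : sm gj N57405 = N56180 := ded_37_2 (flp_d L751869) (flp_j L751867) L764647
theorem L764655 : sm gc N56180 = N57406 := rfl
theorem L764657 : sm gf N57406 = N56904 := ded_29_2 (flp_c L759726) (flp_f L751873) L764655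
theorem L764659 : sm gg N57406 = N56181 := ded_30_2 (flp_c L751877) (flp_g L751875) L764655
theorem L764661 : sm ge N56180 = N57407 := rfl
theorem L764663 : sm gb N57407 = N56692 := ded_21_1 (flp_e L757796) (flp_b L751871) L764661
theorem L764665 : sm gg N57407 = N56182 := ded_41_2 (flp_e L751881) (flp_g L751875) L764661
theorem L764667 : sm gd N57407 = N56196 := ded_34_1 (flp_e L752066) (flp_d L736780) (flp_e L736582) L751869 L764661
theorem L764669 : sm gb N56181 = N57408 := rfl
theorem L764671 : sm gf N57408 = N56183 := ded_22_2 (flp_b L751887) (flp_f L751879) L764669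
theorem L764673 : sm gc N57408 = N56693 := ded_19_2 (flp_b L757802) (flp_c L743857) (flp_b L736590) L751877 L764669
theorem L764675 : sm ge N56181 = N57409 := rfl
theorem L764677 : sm gc N57409 = N56182 := ded_28_1 (flp_e L751881) L751877 L764675
theorem L764679 : sm ga N56183 = N57410 := rfl
theorem L764681 : sm gc N57410 = N56695 := ded_11_2 (flp_a L757810) (flp_c L751891) L764679
theorem L764683 : sm gg N57410 = N56906 := ded_15_2 (flp_a L759736) (flp_g L751889) L764679
theorem L764685 : sm gf N56185 = N57411 := rfl
theorem L764687 : sm ga N57411 = N56213 := ded_14_1 L752283 (flp_a L751912) L764685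
theorem L764689 : sm gb N57411 = N56186 := ded_22_1 (flp_f L751927) (flp_b L751914) L764685
theorem L764691 : sm gc N57411 = N56499 := ded_29_1 L755833 (flp_c L751916) L764685
theorem L764693 : sm gd N57411 = N56210 := ded_35_1 L752240 (flp_d L751925) L764685
theorem L764695 : sm gj N57411 = N56192 := ded_46_2 (flp_f L752006) (flp_j L751919) L764685
theorem L764697 : sm gh N57411 = N56211 := ded_47_2 L752254 (flp_h L751921) L764685
theorem L764699 : sm gi N57411 = N56914 := ded_48_2 L759809 (flp_i L751923) L764685
theorem L764701 : sm gg N56578 = N57411 := ded_15_0 L764687 L752285 (flp_a L756689)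
theorem L764703 : sm gg N56186 = N57412 := rfl
theorem L764705 : sm ga N57412 = N56823 := ded_15_1 L759072 (flp_a L751929) L764703
theorem L764707 : sm gb N57412 = N56578 := ded_23_1 L764701 L764689 L764703
theorem L764709 : sm gd N57412 = N56575 := ded_36_1 L756656 (flp_d L751931) L764703
theorem L764711 : sm gh N57412 = N56220 := ded_50_2 (flp_g L752372) (flp_h L751935) L764703
theorem L764713 : sm gf N57412 = N57412 := ded_45_1 (flp_g L764703) (flp_f L751927) L736626 L751927 L764703
theorem L764714 : sm gj N57412 = N56587 := ded_49_2 L756787 L752054 (flp_g L752040) (flp_j L751933) L764703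
theorem L764716 : sm gd N56187 = N57413 := rfl
theorem L764718 : sm ga N57413 = N56447 := ded_12_1 (flp_d L755245) (flp_a L751939) L764716
theorem L764720 : sm gb N57413 = N56701 := ded_20_1 (flp_d L757858) (flp_b L751941) L764716
theorem L764722 : sm gf N57413 = N57413 := ded_35_2 (flp_d L764716) L751945 L764716
theorem L764723 : sm gg N57413 = N56195 := ded_36_2 (flp_d L752056) (flp_g L751946) L764716
theorem L764725 : sm gj N57413 = N56188 := ded_37_2 (flp_d L751952) (flp_j L751948) L764716
theorem L764727 : sm gi N57413 = N57165 := ded_39_2 (flp_d L761380) (flp_i L751950) L764716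
theorem L764729 : sm gc N57413 = N57158 := ded_27_1 (flp_d L761335) L748129 (flp_d L742493) (flp_c L751943) L764716
theorem L764731 : sm gh N57413 = N56199 := ded_38_2 (flp_d L752098) (flp_h L736864) (flp_d L736641) L751937 L764716
theorem L764733 : sm ge N56188 = N57414 := rfl
theorem L764735 : sm ga N57414 = N56456 := ded_13_1 (flp_e L755350) (flp_a L751954) L764733
theorem L764737 : sm gb N57414 = N56703 := ded_21_1 (flp_e L757874) (flp_b L751956) L764733
theorem L764739 : sm gc N57414 = N57164 := ded_28_1 (flp_e L761376) (flp_c L751961) L764733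
theorem L764741 : sm gg N57414 = N56190 := ded_41_2 (flp_e L751979) (flp_g L751959) L764733
theorem L764743 : sm gh N57414 = N56200 := ded_43_2 (flp_e L752112) (flp_h L751963) L764733
theorem L764745 : sm gb N56189 = N57415 := rfl
theorem L764747 : sm gd N57415 = N56631 := ded_20_2 L757246 (flp_d L751977) L764745
theorem L764749 : sm gf N57415 = N56191 := ded_22_2 (flp_b L751989) (flp_f L751969) L764745
theorem L764751 : sm gg N57415 = N57160 := ded_23_2 L761353 (flp_g L751971) L764745
theorem L764753 : sm gj N57415 = N56197 := ded_24_2 (flp_b L752074) (flp_j L751973) L764745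
theorem L764755 : sm gh N57415 = N56201 := ded_25_2 (flp_b L752125) (flp_h L751975) L764745
theorem L764757 : sm gi N57415 = N56709 := ded_26_2 (flp_b L764157) L764153 L764745
theorem L764759 : sm ga N57415 = N56793 := ded_10_1 L758777 L745175 (flp_b L745920) (flp_a L751967) L764745
theorem L764761 : sm gc N57415 = N56704 := ded_19_2 (flp_b L757880) (flp_c L743953) (flp_b L736663) L751965 L764745
theorem L764763 : sm ge N56189 = N57416 := rfl
theorem L764765 : sm ga N57416 = N56870 := ded_13_1 (flp_e L759487) (flp_a L751967) L764763
theorem L764767 : sm gc N57416 = N56190 := ded_28_1 (flp_e L751979) L751965 L764763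
theorem L764769 : sm gg N57416 = N57164 := ded_41_2 (flp_e L761376) (flp_g L751971) L764763
theorem L764771 : sm gj N57416 = N56198 := ded_42_2 (flp_e L752090) (flp_j L751973) L764763
theorem L764773 : sm gh N57416 = N56202 := ded_43_2 (flp_e L752140) (flp_h L751975) L764763
theorem L764775 : sm ge N56195 = N57417 := rfl
theorem L764777 : sm gb N57417 = N56714 := ded_21_1 (flp_e L757974) (flp_b L752058) L764775
theorem L764779 : sm gj N57417 = N56196 := ded_42_2 (flp_e L752066) (flp_j L752062) L764775
theorem L764781 : sm gh N57417 = N56204 := ded_43_2 (flp_e L752168) (flp_h L752064) L764775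
theorem L764783 : sm gf N57417 = N57005 := ded_40_2 (flp_e L760381) L747028 (flp_e L736860) (flp_f L752060) L764775
theorem L764785 : sm ge N56197 = N57418 := rfl
theorem L764787 : sm ga N57418 = N56803 := ded_13_1 (flp_e L758878) (flp_a L752086) L764785
theorem L764789 : sm gb N57418 = N56198 := ded_21_1 (flp_e L752090) L752074 L764785
theorem L764791 : sm gc N57418 = N56717 := ded_28_1 (flp_e L758006) (flp_c L752088) L764785
theorem L764793 : sm gg N57418 = N56632 := ded_41_2 (flp_e L757258) (flp_g L752080) L764785
theorem L764795 : sm gh N57418 = N56206 := ded_43_2 (flp_e L752192) (flp_h L752082) L764785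
theorem L764797 : sm gi N57418 = N56710 := ded_44_2 (flp_e L757939) (flp_i L752084) L764785
theorem L764799 : sm gd N56198 = N57419 := rfl
theorem L764801 : sm ga N57419 = N56889 := ded_12_1 L759646 (flp_a L752092) L764799
theorem L764803 : sm ge N57419 = N56882 := ded_34_2 (flp_d L759591) L746022 (flp_d L736798) L752090 L764799
theorem L764805 : sm ge N56199 = N57420 := rfl
theorem L764807 : sm ga N57420 = N56448 := ded_13_1 (flp_e L755254) (flp_a L752100) L764805
theorem L764809 : sm gb N57420 = N56722 := ded_21_1 (flp_e L758046) (flp_b L752102) L764805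
theorem L764811 : sm gc N57420 = N56504 := ded_28_1 L755888 (flp_c L752110) L764805
theorem L764813 : sm gg N57420 = N56204 := ded_41_2 (flp_e L752168) (flp_g L752105) L764805
theorem L764815 : sm gj N57420 = N56200 := ded_42_2 (flp_e L752112) (flp_j L752107) L764805
theorem L764817 : sm gi N57420 = N57420 := ded_44_2 (flp_e L764805) L752109 L764805
theorem L764818 : sm gd N57420 = N56294 := ded_34_1 (flp_e L753483) L738880 (flp_e L736872) L752098 L764805
theorem L764820 : sm gf N56445 = N57420 := ded_29_0 L764811 L755883 (flp_c L755227)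
theorem L764822 : sm gf N56200 = N57421 := rfl
theorem L764824 : sm ga N57421 = N56458 := ded_14_1 (flp_f L755369) (flp_a L752114) L764822
theorem L764826 : sm gb N57421 = N56725 := ded_22_1 (flp_f L758073) (flp_b L752116) L764822
theorem L764828 : sm gc N57421 = N56728 := ded_29_1 L758100 (flp_c L752118) L764822
theorem L764830 : sm gd N57421 = N56356 := ded_35_1 (flp_f L754306) (flp_d L752123) L764822
theorem L764832 : sm gj N57421 = N56445 := ded_46_2 L764820 L764815 L764822
theorem L764834 : sm gi N57421 = N57421 := ded_48_2 (flp_f L764822) L752122 L764822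
theorem L764835 : sm ge N57421 = N57421 := ded_40_1 (flp_f L764822) (flp_e L752112) L736886 L752112 L764822
theorem L764836 : sm ge N56201 = N57422 := rfl
theorem L764838 : sm ga N57422 = N56819 := ded_13_1 (flp_e L759023) (flp_a L752136) L764836
theorem L764840 : sm gb N57422 = N56202 := ded_21_1 (flp_e L752140) L752125 L764836
theorem L764842 : sm gc N57422 = N56727 := ded_28_1 (flp_e L758089) (flp_c L752138) L764836
theorem L764844 : sm gg N57422 = N57161 := ded_41_2 (flp_e L761358) (flp_g L752131) L764836
theorem L764846 : sm gj N57422 = N56206 := ded_42_2 (flp_e L752192) (flp_j L752133) L764836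
theorem L764848 : sm gi N57422 = N57422 := ded_44_2 (flp_e L764836) L752135 L764836
theorem L764849 : sm gd N57422 = N56742 := ded_34_1 (flp_e L758246) (flp_d L744384) (flp_e L744375) (flp_d L752127) L764836
theorem L764851 : sm gf N57422 = N57162 := ded_40_2 (flp_e L761365) L748164 (flp_e L736920) (flp_f L752129) L764836
theorem L764853 : sm ge N56203 = N57423 := rfl
theorem L764855 : sm ga N57423 = N56208 := ded_13_1 (flp_e L752212) (flp_a L752155) L764853
theorem L764857 : sm gb N57423 = N56218 := ded_21_1 L752357 (flp_b L752164) L764853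
theorem L764859 : sm gc N57423 = N56204 := ded_28_1 (flp_e L752168) L752153 L764853
theorem L764861 : sm gg N57423 = N56504 := ded_41_2 L755888 (flp_g L752159) L764853
theorem L764863 : sm gj N57423 = N56205 := ded_42_2 (flp_e L752179) (flp_j L752161) L764853
theorem L764865 : sm gi N57423 = N57423 := ded_44_2 (flp_e L764853) L752163 L764853
theorem L764866 : sm gd N57423 = N56215 := ded_34_1 L752315 L737187 (flp_e L737001) (flp_d L752166) L764853
theorem L764868 : sm gf N57423 = N56214 := ded_40_2 (flp_e L752293) L737092 (flp_e L736983) (flp_f L752157) L764853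
theorem L764870 : sm gd N56205 = N57424 := rfl
theorem L764872 : sm ga N57424 = N56214 := ded_12_1 L752304 (flp_a L752181) L764870
theorem L764874 : sm gb N57424 = N56209 := ded_20_1 L752225 (flp_b L752183) L764870
theorem L764876 : sm gf N57424 = N56208 := ded_35_2 L752219 (flp_f L752190) L764870
theorem L764878 : sm gg N57424 = N56207 := ded_36_2 (flp_d L752203) (flp_g L752187) L764870
theorem L764880 : sm gj N57424 = N56215 := ded_37_2 (flp_d L764866) L764863 L764870
theorem L764882 : sm gi N57424 = N57424 := ded_39_2 (flp_d L764870) L752189 L764870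
theorem L764883 : sm gc N57424 = N56503 := ded_27_1 L755879 (flp_c L748953) L748960 (flp_c L752185) L764870
theorem L764885 : sm ge N57424 = N56211 := ded_34_2 (flp_d L752248) L737052 (flp_d L736950) L752179 L764870
theorem L764887 : sm gd N56206 = N57425 := rfl
theorem L764889 : sm ga N57425 = N56825 := ded_12_1 L759090 (flp_a L752194) L764887
theorem L764891 : sm gb N57425 = N56207 := ded_20_1 (flp_d L752203) (flp_b L752196) L764887
theorem L764893 : sm gg N57425 = N56209 := ded_36_2 L752225 (flp_g L752200) L764887
theorem L764895 : sm gj N57425 = N56742 := ded_37_2 (flp_d L764849) L764846 L764887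
theorem L764897 : sm gi N57425 = N57425 := ded_39_2 (flp_d L764887) L752202 L764887
theorem L764898 : sm ge N57425 = N56220 := ded_34_2 L752378 L744337 (flp_d L736961) L752192 L764887
theorem L764900 : sm gh N56207 = N57426 := rfl
theorem L764902 : sm ga N57426 = N56922 := ded_17_1 L759864 (flp_a L752205) L764900
theorem L764904 : sm ge N57426 = N56578 := ded_43_1 L756694 (flp_e L752210) L764900
theorem L764906 : sm gj N57426 = N56594 := ded_52_1 L756859 (flp_j L752207) L764900
theorem L764908 : sm gd N56212 = N57427 := rfl
theorem L764910 : sm ga N57427 = N56914 := ded_12_1 (flp_d L759807) (flp_a L752265) L764908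
theorem L764912 : sm gb N57427 = N56216 := ded_20_1 (flp_d L752319) (flp_b L752267) L764908
theorem L764914 : sm gf N57427 = N56463 := ded_35_2 (flp_d L755430) (flp_f L752271) L764908
theorem L764916 : sm gg N57427 = N56921 := ded_36_2 (flp_d L759852) (flp_g L752273) L764908
theorem L764918 : sm gj N57427 = N56461 := ded_37_2 (flp_d L755403) (flp_j L752275) L764908
theorem L764920 : sm gi N57427 = N56213 := ded_39_2 (flp_d L752279) (flp_i L752277) L764908
theorem L764922 : sm gc N57427 = N56509 := ded_27_1 (flp_d L755938) L741757 (flp_d L741039) (flp_c L752269) L764908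
theorem L764924 : sm gh N57427 = N57427 := ded_38_2 (flp_d L764908) (flp_h L752263) L737069 L752263 L764908
theorem L764925 : sm ge N56213 = N57428 := rfl
theorem L764927 : sm gb N57428 = N56217 := ded_21_1 (flp_e L752334) (flp_b L752281) L764925
theorem L764929 : sm gc N57428 = N57005 := ded_28_1 (flp_e L760381) (flp_c L752289) L764925
theorem L764931 : sm gg N57428 = N56922 := ded_41_2 (flp_e L759860) (flp_g L752285) L764925
theorem L764933 : sm gj N57428 = N56775 := ded_42_2 (flp_e L758608) (flp_j L752287) L764925
theorem L764935 : sm gh N57428 = N56214 := ded_43_2 (flp_e L752293) (flp_h L752291) L764925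
theorem L764937 : sm ge N56216 = N57429 := rfl
theorem L764939 : sm ga N57429 = N56836 := ded_13_1 (flp_e L759196) (flp_a L752321) L764937
theorem L764941 : sm gc N57429 = N56848 := ded_28_1 (flp_e L759318) (flp_c L752331) L764937
theorem L764943 : sm gg N57429 = N56923 := ded_41_2 (flp_e L759866) (flp_g L752325) L764937
theorem L764945 : sm gj N57429 = N56712 := ded_42_2 L757962 (flp_j L752327) L764937
theorem L764947 : sm gh N57429 = N57429 := ded_43_2 (flp_e L764937) L752333 L764937
theorem L764948 : sm gi N57429 = N56217 := ded_44_2 (flp_e L752334) (flp_i L752329) L764937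
theorem L764950 : sm gf N57429 = N56700 := ded_40_2 (flp_e L757853) L743908 L743925 (flp_f L752323) L764937
theorem L764952 : sm gf N56217 = N57430 := rfl
theorem L764954 : sm ga N57430 = N57153 := ded_14_1 (flp_f L761292) (flp_a L752336) L764952
theorem L764956 : sm gc N57430 = N56878 := ded_29_1 (flp_f L759551) (flp_c L752338) L764952
theorem L764958 : sm gj N57430 = N56632 := ded_46_2 L757268 (flp_j L752342) L764952
theorem L764960 : sm gh N57430 = N56218 := ded_47_2 (flp_f L752346) (flp_h L752344) L764952
theorem L764962 : sm gi N57430 = N56700 := ded_48_2 (flp_f L764950) L764948 L764952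
theorem L764964 : sm ge N57430 = N56625 := ded_40_1 L757179 L743168 (flp_f L737126) L752334 L764952
theorem L764966 : sm gg N56218 = N57431 := rfl
theorem L764968 : sm ga N57431 = N57166 := ded_15_1 L761388 (flp_a L752348) L764966
theorem L764970 : sm gb N57431 = N56504 := ded_23_1 (flp_g L764861) L764857 L764966
theorem L764972 : sm gc N57431 = N56920 := ded_30_1 (flp_g L759847) (flp_c L752350) L764966
theorem L764974 : sm gd N57431 = N56219 := ded_36_1 (flp_g L752359) (flp_d L752352) L764966
theorem L764976 : sm ge N57431 = N56779 := ded_41_1 (flp_g L758636) (flp_e L752357) L764966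
theorem L764978 : sm gi N57431 = N57431 := ded_51_2 (flp_g L764966) L752356 L764966
theorem L764979 : sm gf N57431 = N56732 := ded_45_1 L758144 (flp_f L746393) (flp_g L737142) L752346 L764966
theorem L764981 : sm gj N57431 = N57161 := ded_49_2 (flp_g L764844) L764846 L752200 (flp_j L752354) L764966
theorem L764983 : sm gh N56236 = N57432 := rfl
theorem L764985 : sm ga N57432 = N56373 := ded_17_1 (flp_h L754508) (flp_a L752673) L764983
theorem L764987 : sm gb N57432 = N56250 := ded_25_1 (flp_h L752905) (flp_b L752675) L764983
theorem L764989 : sm gc N57432 = N56398 := ded_32_1 (flp_h L754776) (flp_c L752677) L764983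
theorem L764991 : sm ge N57432 = N56237 := ded_43_1 (flp_h L752689) (flp_e L752681) L764983
theorem L764993 : sm gf N57432 = N56281 := ded_47_1 (flp_h L753330) (flp_f L752683) L764983
theorem L764995 : sm gg N57432 = N56318 := ded_50_1 (flp_h L753833) (flp_g L752685) L764983
theorem L764997 : sm gj N57432 = N56238 := ded_52_1 (flp_h L752705) (flp_j L752687) L764983
theorem L764999 : sm gi N57432 = N56332 := ded_54_2 (flp_h L754025) (flp_i L739491) (flp_h L737871) L752671 L764983
theorem L765001 : sm gd N56238 = N57433 := rfl
theorem L765003 : sm ga N57433 = N56761 := ded_12_1 (flp_d L758452) (flp_a L752707) L765001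
theorem L765005 : sm gb N57433 = N56254 := ded_20_1 (flp_d L752963) (flp_b L752709) L765001
theorem L765007 : sm gf N57433 = N56976 := ded_35_2 (flp_d L760219) (flp_f L752715) L765001
theorem L765009 : sm gg N57433 = N56748 := ded_36_2 (flp_d L758311) (flp_g L752717) L765001
theorem L765011 : sm gi N57433 = N56961 := ded_39_2 (flp_d L760127) (flp_i L752719) L765001
theorem L765013 : sm ge N57433 = N56307 := ded_34_2 (flp_d L753672) L739079 (flp_d L737917) (flp_e L752713) L765001
theorem L765015 : sm gh N57433 = N56462 := ded_38_2 (flp_d L755418) (flp_h L741073) (flp_d L737899) L752705 L765001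
theorem L765017 : sm gh N56239 = N57434 := rfl
theorem L765019 : sm ga N57434 = N56264 := ded_17_1 (flp_h L753103) (flp_a L752723) L765017
theorem L765021 : sm gb N57434 = N56332 := ded_25_1 (flp_h L754025) (flp_b L752725) L765017
theorem L765023 : sm gc N57434 = N56271 := ded_32_1 (flp_h L753199) (flp_c L752727) L765017
theorem L765025 : sm ge N57434 = N56240 := ded_43_1 (flp_h L752739) (flp_e L752731) L765017
theorem L765027 : sm gf N57434 = N56268 := ded_47_1 (flp_h L753160) (flp_f L752733) L765017
theorem L765029 : sm gg N57434 = N56300 := ded_50_1 (flp_h L753573) (flp_g L752735) L765017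
theorem L765031 : sm gj N57434 = N56244 := ded_52_1 (flp_h L752807) (flp_j L752737) L765017
theorem L765033 : sm gi N57434 = N56250 := ded_54_2 (flp_h L752905) (flp_i L738171) (flp_h L737947) L752721 L765017
theorem L765035 : sm gh N56241 = N57435 := rfl
theorem L765037 : sm ga N57435 = N56268 := ded_17_1 (flp_h L753160) (flp_a L752759) L765035
theorem L765039 : sm gb N57435 = N56421 := ded_25_1 (flp_h L755025) (flp_b L752761) L765035
theorem L765041 : sm gc N57435 = N56244 := ded_32_1 (flp_h L752807) (flp_c L752763) L765035
theorem L765043 : sm ge N57435 = N56242 := ded_43_1 (flp_h L752773) (flp_e L752765) L765035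
theorem L765045 : sm gf N57435 = N56264 := ded_47_1 (flp_h L753103) (flp_f L752767) L765035
theorem L765047 : sm gg N57435 = N56414 := ded_50_1 (flp_h L754959) (flp_g L752769) L765035
theorem L765049 : sm gj N57435 = N56271 := ded_52_1 (flp_h L753199) (flp_j L752771) L765035
theorem L765051 : sm gi N57435 = N56251 := ded_54_2 (flp_h L752917) (flp_i L738197) (flp_h L737981) L752757 L765035
theorem L765053 : sm gd N56242 = N57436 := rfl
theorem L765055 : sm ga N57436 = N56269 := ded_12_1 (flp_d L753170) (flp_a L752775) L765053
theorem L765057 : sm gb N57436 = N56436 := ded_20_1 (flp_d L755152) (flp_b L752777) L765053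
theorem L765059 : sm gf N57436 = N56245 := ded_35_2 (flp_d L752819) (flp_f L752781) L765053
theorem L765061 : sm gg N57436 = N56433 := ded_36_2 (flp_d L755108) (flp_g L752783) L765053
theorem L765063 : sm gj N57436 = N56276 := ded_37_2 (flp_d L753265) (flp_j L752785) L765053
theorem L765065 : sm gi N57436 = N56252 := ded_39_2 (flp_d L752931) (flp_i L752787) L765053
theorem L765067 : sm gc N57436 = N56324 := ded_27_1 (flp_d L753918) L739328 (flp_d L738040) (flp_c L752779) L765053
theorem L765069 : sm gh N57436 = N57436 := ded_38_2 (flp_d L765053) (flp_h L752773) L737993 L752773 L765053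
theorem L765070 : sm gh N56243 = N57437 := rfl
theorem L765072 : sm ga N57437 = N56271 := ded_17_1 (flp_h L753199) (flp_a L752791) L765070
theorem L765074 : sm gb N57437 = N56758 := ded_25_1 (flp_h L758426) (flp_b L752793) L765070
theorem L765076 : sm gc N57437 = N56264 := ded_32_1 (flp_h L753103) (flp_c L752795) L765070
theorem L765078 : sm ge N57437 = N56246 := ded_43_1 (flp_h L752836) (flp_e L752799) L765070
theorem L765080 : sm gf N57437 = N56244 := ded_47_1 (flp_h L752807) (flp_f L752801) L765070
theorem L765082 : sm gg N57437 = N56754 := ded_50_1 (flp_h L758375) (flp_g L752803) L765070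
theorem L765084 : sm gj N57437 = N56268 := ded_52_1 (flp_h L753160) (flp_j L752805) L765070
theorem L765086 : sm gi N57437 = N56253 := ded_54_2 (flp_h L752947) (flp_i L738225) (flp_h L738012) L752789 L765070
theorem L765088 : sm gd N56244 = N57438 := rfl
theorem L765090 : sm ga N57438 = N56272 := ded_12_1 (flp_d L753207) (flp_a L752809) L765088
theorem L765092 : sm gb N57438 = N56961 := ded_20_1 (flp_d L760127) (flp_b L752811) L765088
theorem L765094 : sm gg N57438 = N56925 := ded_36_2 (flp_d L759876) (flp_g L752815) L765088
theorem L765096 : sm gi N57438 = N56254 := ded_39_2 (flp_d L752963) (flp_i L752817) L765088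
theorem L765098 : sm ge N57438 = N56326 := ded_34_2 (flp_d L753939) L739348 (flp_d L738040) (flp_e L752813) L765088
theorem L765100 : sm gh N57438 = N57027 := ded_38_2 (flp_d L760528) (flp_h L747211) (flp_d L738024) L752807 L765088
theorem L765102 : sm gd N56246 = N57439 := rfl
theorem L765104 : sm ga N57439 = N56276 := ded_12_1 (flp_d L753265) (flp_a L752838) L765102
theorem L765106 : sm gb N57439 = N56765 := ded_20_1 (flp_d L758489) (flp_b L752840) L765102
theorem L765108 : sm gf N57439 = N56247 := ded_35_2 (flp_d L752852) (flp_f L752844) L765102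
theorem L765110 : sm gg N57439 = N56764 := ded_36_2 (flp_d L758478) (flp_g L752846) L765102
theorem L765112 : sm gj N57439 = N56269 := ded_37_2 (flp_d L753170) (flp_j L752848) L765102
theorem L765114 : sm gi N57439 = N56255 := ded_39_2 (flp_d L752973) (flp_i L752850) L765102
theorem L765116 : sm gc N57439 = N56377 := ded_27_1 (flp_d L754564) L740076 (flp_d L738405) (flp_c L752842) L765102
theorem L765118 : sm gh N57439 = N57439 := ded_38_2 (flp_d L765102) (flp_h L752836) L738084 L752836 L765102
theorem L765119 : sm gh N56248 = N57440 := rfl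
theorem L765121 : sm ga N57440 = N56279 := ded_17_1 (flp_h L753306) (flp_a L752871) L765119
theorem L765123 : sm gb N57440 = N56318 := ded_25_1 (flp_h L753833) (flp_b L752873) L765119
theorem L765125 : sm gc N57440 = N56286 := ded_32_1 (flp_h L753386) (flp_c L752875) L765119
theorem L765127 : sm ge N57440 = N56249 := ded_43_1 (flp_h L752887) (flp_e L752879) L765119
theorem L765129 : sm gf N57440 = N56305 := ded_47_1 (flp_h L753649) (flp_f L752881) L765119
theorem L765131 : sm gg N57440 = N56250 := ded_50_1 (flp_h L752905) (flp_g L752883) L765119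
theorem L765133 : sm gj N57440 = N56299 := ded_52_1 (flp_h L753559) (flp_j L752885) L765119
theorem L765135 : sm gi N57440 = N56300 := ded_54_2 (flp_h L753573) (flp_i L738983) (flp_h L738149) L752869 L765119
theorem L765137 : sm gd N56250 = N57441 := rfl
theorem L765139 : sm ga N57441 = N56280 := ded_12_1 (flp_d L753322) (flp_a L752907) L765137
theorem L765141 : sm gf N57441 = N56284 := ded_35_2 (flp_d L753374) (flp_f L752913) L765137
theorem L765143 : sm gj N57441 = N56254 := ded_37_2 (flp_d L752963) (flp_j L752915) L765137
theorem L765145 : sm ge N57441 = N56336 := ded_34_2 (flp_d L754075) L739567 (flp_d L738195) (flp_e L752911) L765137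
theorem L765147 : sm gh N57441 = N56465 := ded_38_2 (flp_d L755460) (flp_h L741142) (flp_d L738177) L752905 L765137
theorem L765149 : sm gd N56251 = N57442 := rfl
theorem L765151 : sm ga N57442 = N56284 := ded_12_1 (flp_d L753374) (flp_a L752919) L765149
theorem L765153 : sm gf N57442 = N56280 := ded_35_2 (flp_d L753322) (flp_f L752925) L765149
theorem L765155 : sm gg N57442 = N56927 := ded_36_2 (flp_d L759908) (flp_g L752927) L765149
theorem L765157 : sm gj N57442 = N56287 := ded_37_2 (flp_d L753400) (flp_j L752929) L765149
theorem L765159 : sm gh N57442 = N56487 := ded_38_2 (flp_d L755705) (flp_h L741469) (flp_d L738203) L752917 L765149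
theorem L765161 : sm ge N56252 = N57443 := rfl
theorem L765163 : sm ga N57443 = N56285 := ded_13_1 (flp_e L753378) (flp_a L752933) L765161
theorem L765165 : sm gb N57443 = N56965 := ded_21_1 L760161 (flp_b L752935) L765161
theorem L765167 : sm gc N57443 = N56342 := ded_28_1 (flp_e L754135) (flp_c L752943) L765161
theorem L765169 : sm gg N57443 = N56928 := ded_41_2 (flp_e L759912) (flp_g L752939) L765161
theorem L765171 : sm gj N57443 = N56292 := ded_42_2 (flp_e L753460) (flp_j L752941) L765161
theorem L765173 : sm gh N57443 = N56257 := ded_43_2 (flp_e L753006) (flp_h L752945) L765161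
theorem L765175 : sm gf N57443 = N56432 := ded_40_2 (flp_e L755100) L740679 (flp_e L738263) (flp_f L752937) L765161
theorem L765177 : sm gd N56253 = N57444 := rfl
theorem L765179 : sm ga N57444 = N56287 := ded_12_1 (flp_d L753400) (flp_a L752949) L765177
theorem L765181 : sm gb N57444 = N56976 := ded_20_1 (flp_d L760219) (flp_b L752951) L765177
theorem L765183 : sm gf N57444 = N56254 := ded_35_2 (flp_d L752963) (flp_f L752957) L765177
theorem L765185 : sm gg N57444 = N56980 := ded_36_2 (flp_d L760243) (flp_g L752959) L765177
theorem L765187 : sm gj N57444 = N56284 := ded_37_2 (flp_d L753374) (flp_j L752961) L765177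
theorem L765189 : sm gh N57444 = N56466 := ded_38_2 (flp_d L755470) (flp_h L741154) (flp_d L738233) L752947 L765177
theorem L765191 : sm gc N56254 = N57445 := rfl
theorem L765193 : sm ga N57445 = N56288 := ded_11_1 (flp_c L753406) (flp_a L752965) L765191
theorem L765195 : sm ge N57445 = N56344 := ded_28_2 (flp_c L754151) (flp_e L752969) L765191
theorem L765197 : sm gg N57445 = N56929 := ded_30_2 (flp_c L759920) (flp_g L752967) L765191
theorem L765199 : sm gh N57445 = N56467 := ded_32_2 (flp_c L755478) (flp_h L752971) L765191
theorem L765201 : sm ge N56255 = N57446 := rfl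
theorem L765203 : sm ga N57446 = N56292 := ded_13_1 (flp_e L753460) (flp_a L752975) L765201
theorem L765205 : sm gb N57446 = N56977 := ded_21_1 (flp_e L760223) (flp_b L752977) L765201
theorem L765207 : sm gc N57446 = N56406 := ded_28_1 (flp_e L754862) (flp_c L752985) L765201
theorem L765209 : sm gg N57446 = N56981 := ded_41_2 (flp_e L760249) (flp_g L752981) L765201
theorem L765211 : sm gj N57446 = N56285 := ded_42_2 (flp_e L753378) (flp_j L752983) L765201
theorem L765213 : sm gh N57446 = N56256 := ded_43_2 (flp_e L752989) (flp_h L752987) L765201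
theorem L765215 : sm gf N57446 = N56352 := ded_40_2 (flp_e L754262) L739720 (flp_e L738293) (flp_f L752979) L765201
theorem L765217 : sm gi N56258 = N57447 := rfl
theorem L765219 : sm ga N57447 = N56933 := ded_18_1 (flp_i L759954) (flp_a L753025) L765217
theorem L765221 : sm gb N57447 = N56417 := ded_26_1 (flp_i L754995) (flp_b L753027) L765217
theorem L765223 : sm gc N57447 = N56267 := ded_33_1 (flp_i L753147) (flp_c L753033) L765217
theorem L765225 : sm gd N57447 = N56260 := ded_39_1 (flp_i L753057) L753023 L765217
theorem L765227 : sm ge N57447 = N57447 := ded_44_1 (flp_i L765217) L753035 L765217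
theorem L765228 : sm gf N57447 = N56412 := ded_48_1 (flp_i L754935) L753038 L765217
theorem L765230 : sm gg N57447 = N56469 := ded_51_1 (flp_i L755500) (flp_g L753029) L765217
theorem L765232 : sm gj N57447 = N56940 := ded_53_1 (flp_i L759996) (flp_j L753031) L765217
theorem L765234 : sm gi N56259 = N57448 := rfl
theorem L765236 : sm ga N57448 = N56940 := ded_18_1 (flp_i L759996) (flp_a L753042) L765234
theorem L765238 : sm gb N57448 = N56383 := ded_26_1 (flp_i L754645) (flp_b L753044) L765234
theorem L765240 : sm gc N57448 = N56262 := ded_33_1 (flp_i L753078) (flp_c L753046) L765234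
theorem L765242 : sm gd N57448 = N56412 := ded_39_1 (flp_i L754935) (flp_d L753048) L765234
theorem L765244 : sm ge N57448 = N57448 := ded_44_1 (flp_i L765234) L753054 L765234
theorem L765245 : sm gf N57448 = N56260 := ded_48_1 (flp_i L753057) L753040 L765234
theorem L765247 : sm gg N57448 = N56475 := ded_51_1 (flp_i L755559) (flp_g L753055) L765234
theorem L765249 : sm gj N57448 = N56933 := ded_53_1 (flp_i L759954) (flp_j L753050) L765234
theorem L765251 : sm gh N56260 = N57449 := rfl
theorem L765253 : sm ga N57449 = N56942 := ded_17_1 (flp_h L760012) (flp_a L753059) L765251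
theorem L765255 : sm gc N57449 = N56263 := ded_32_1 (flp_h L753091) (flp_c L753061) L765251
theorem L765257 : sm ge N57449 = N56261 := ded_43_1 (flp_h L753067) (flp_e L753063) L765251
theorem L765259 : sm gg N57449 = N56477 := ded_50_1 (flp_h L755588) (flp_g L753065) L765251
theorem L765261 : sm gi N57449 = N56471 := ded_54_2 (flp_h L755521) (flp_i L741238) (flp_h L738335) L753057 L765251
theorem L765263 : sm gd N56261 = N57450 := rfl
theorem L765265 : sm ga N57450 = N56953 := ded_12_1 (flp_d L760074) (flp_a L753069) L765263
theorem L765267 : sm gf N57450 = N57450 := ded_35_2 (flp_d L765263) L753073 L765263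
theorem L765268 : sm gg N57450 = N56481 := ded_36_2 (flp_d L755632) (flp_g L753074) L765263
theorem L765270 : sm gi N57450 = N56472 := ded_39_2 (flp_d L755531) (flp_i L753076) L765263
theorem L765272 : sm gc N57450 = N56370 := ded_27_1 (flp_d L754479) L739995 (flp_d L738381) (flp_c L753071) L765263
theorem L765274 : sm gh N57450 = N57450 := ded_38_2 (flp_d L765263) (flp_h L753067) L738343 L753067 L765263
theorem L765275 : sm gh N56262 = N57451 := rfl
theorem L765277 : sm ga N57451 = N57018 := ded_17_1 (flp_h L760464) (flp_a L753080) L765275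
theorem L765279 : sm gb N57451 = N56790 := ded_25_1 (flp_h L758752) (flp_b L753082) L765275
theorem L765281 : sm ge N57451 = N57451 := ded_43_1 (flp_h L765275) L753086 L765275
theorem L765282 : sm gf N57451 = N56263 := ded_47_1 (flp_h L753091) (flp_f L753087) L765275
theorem L765284 : sm gg N57451 = N57007 := ded_50_1 (flp_h L760392) (flp_g L753089) L765275
theorem L765286 : sm gi N57451 = N56473 := ded_54_2 (flp_h L755542) (flp_i L741259) (flp_h L738355) L753078 L765275
theorem L765288 : sm gd N56263 = N57452 := rfl
theorem L765290 : sm ga N57452 = N57027 := ded_12_1 (flp_d L760528) (flp_a L753093) L765288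
theorem L765292 : sm gb N57452 = N56791 := ded_20_1 (flp_d L758759) (flp_b L753095) L765288
theorem L765294 : sm gg N57452 = N56780 := ded_36_2 (flp_d L758650) (flp_g L753099) L765288
theorem L765296 : sm gi N57452 = N56474 := ded_39_2 (flp_d L755549) (flp_i L753101) L765288
theorem L765298 : sm ge N57452 = N56372 := ded_34_2 (flp_d L754498) L740017 (flp_d L738381) (flp_e L753097) L765288
theorem L765300 : sm gh N57452 = N56272 := ded_38_2 (flp_d L753207) (flp_h L738495) (flp_d L738366) L753091 L765288
theorem L765302 : sm gd N56264 = N57453 := rfl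
theorem L765304 : sm gb N57453 = N56995 := ded_20_1 (flp_d L760329) (flp_b L753105) L765302
theorem L765306 : sm gg N57453 = N56988 := ded_36_2 (flp_d L760291) (flp_g L753109) L765302
theorem L765308 : sm gj N57453 = N56272 := ded_37_2 (flp_d L753207) (flp_j L753111) L765302
theorem L765310 : sm gi N57453 = N56280 := ded_39_2 (flp_d L753322) (flp_i L753113) L765302
theorem L765312 : sm ge N57453 = N56379 := ded_34_2 (flp_d L754587) L740096 (flp_d L738405) (flp_e L753107) L765302
theorem L765314 : sm gh N56265 = N57454 := rfl
theorem L765316 : sm ga N57454 = N56398 := ded_17_1 (flp_h L754776) (flp_a L753117) L765314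
theorem L765318 : sm gb N57454 = N56268 := ded_25_1 (flp_h L753160) (flp_b L753119) L765314
theorem L765320 : sm gc N57454 = N56373 := ded_32_1 (flp_h L754508) (flp_c L753121) L765314
theorem L765322 : sm ge N57454 = N56266 := ded_43_1 (flp_h L753133) (flp_e L753125) L765314
theorem L765324 : sm gf N57454 = N56332 := ded_47_1 (flp_h L754025) (flp_f L753127) L765314
theorem L765326 : sm gg N57454 = N56376 := ded_50_1 (flp_h L754552) (flp_g L753129) L765314
theorem L765328 : sm gj N57454 = N56758 := ded_52_1 (flp_h L758426) (flp_j L753131) L765314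
theorem L765330 : sm gi N57454 = N56281 := ded_54_2 (flp_h L753330) (flp_i L738668) (flp_h L738421) L753115 L765314
theorem L765332 : sm gd N56266 = N57455 := rfl
theorem L765334 : sm ga N57455 = N56975 := ded_12_1 L761586 L761570 L765332
theorem L765336 : sm gb N57455 = N56269 := ded_20_1 (flp_d L753170) (flp_b L753135) L765332
theorem L765338 : sm gf N57455 = N56273 := ded_35_2 (flp_d L753215) (flp_f L753139) L765332
theorem L765340 : sm gg N57455 = N56377 := ded_36_2 (flp_d L754564) (flp_g L753141) L765332
theorem L765342 : sm gj N57455 = N56765 := ded_37_2 (flp_d L758489) (flp_j L753143) L765332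
theorem L765344 : sm gi N57455 = N56282 := ded_39_2 (flp_d L753342) (flp_i L753145) L765332
theorem L765346 : sm gc N57455 = N56764 := ded_27_1 (flp_d L758478) L744731 (flp_d L740045) (flp_c L753137) L765332
theorem L765348 : sm gh N57455 = N57455 := ded_38_2 (flp_d L765332) (flp_h L753133) L738433 L753133 L765332
theorem L765349 : sm gh N56267 = N57456 := rfl
theorem L765351 : sm gb N57456 = N56536 := ded_25_1 (flp_h L756239) (flp_b L753149) L765349
theorem L765353 : sm ge N57456 = N57456 := ded_43_1 (flp_h L765349) L753153 L765349
theorem L765354 : sm gf N57456 = N56507 := ded_47_1 (flp_h L755914) (flp_f L753154) L765349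
theorem L765356 : sm gg N57456 = N56934 := ded_50_1 (flp_h L759961) (flp_g L753156) L765349
theorem L765358 : sm gj N57456 = N57018 := ded_52_1 (flp_h L760464) (flp_j L753158) L765349
theorem L765360 : sm gi N57456 = N57023 := ded_54_2 (flp_h L760503) (flp_i L747182) (flp_h L738451) L753147 L765349
theorem L765362 : sm gd N56268 = N57457 := rfl
theorem L765364 : sm gg N57457 = N56935 := ded_36_2 (flp_d L759964) (flp_g L753166) L765362
theorem L765366 : sm gi N57457 = N56284 := ded_39_2 (flp_d L753374) (flp_i L753168) L765362
theorem L765368 : sm ge N56269 = N57458 := rfl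
theorem L765370 : sm gc N57458 = N56387 := ded_28_1 (flp_e L754675) (flp_c L753178) L765368
theorem L765372 : sm gg N57458 = N56936 := ded_41_2 (flp_e L759968) (flp_g L753174) L765368
theorem L765374 : sm gh N57458 = N57458 := ded_43_2 (flp_e L765368) L753180 L765368
theorem L765375 : sm gi N57458 = N56285 := ded_44_2 (flp_e L753378) (flp_i L753176) L765368
theorem L765377 : sm gh N56270 = N57459 := rfl
theorem L765379 : sm ga N57459 = N56754 := ded_17_1 (flp_h L758375) (flp_a L753183) L765377
theorem L765381 : sm gb N57459 = N56325 := ded_25_1 (flp_h L753929) (flp_b L753185) L765377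
theorem L765383 : sm gc N57459 = N56300 := ded_32_1 (flp_h L753573) (flp_c L753187) L765377
theorem L765385 : sm ge N57459 = N56275 := ded_43_1 (flp_h L753249) (flp_e L753191) L765377
theorem L765387 : sm gf N57459 = N56299 := ded_47_1 (flp_h L753559) (flp_f L753193) L765377
theorem L765389 : sm gg N57459 = N56271 := ded_50_1 (flp_h L753199) (flp_g L753195) L765377
theorem L765391 : sm gj N57459 = N56305 := ded_52_1 (flp_h L753649) (flp_j L753197) L765377
theorem L765393 : sm gi N57459 = N56286 := ded_54_2 (flp_h L753386) (flp_i L738726) (flp_h L738483) L753181 L765377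
theorem L765395 : sm gd N56271 = N57460 := rfl
theorem L765397 : sm gf N57460 = N56272 := ded_35_2 (flp_d L753207) (flp_f L753203) L765395
theorem L765399 : sm gi N57460 = N56287 := ded_39_2 (flp_d L753400) (flp_i L753205) L765395
theorem L765401 : sm gc N56272 = N57461 := rfl
theorem L765403 : sm ge N57461 = N56390 := ded_28_2 (flp_c L754700) (flp_e L753213) L765401
theorem L765405 : sm gg N57461 = N56937 := ded_30_2 (flp_c L759975) (flp_g L753209) L765401
theorem L765407 : sm gi N57461 = N56288 := ded_33_2 (flp_c L753406) (flp_i L753211) L765401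
theorem L765409 : sm gf N56274 = N57462 := rfl
theorem L765411 : sm ga N57462 = N56391 := ded_14_1 L754710 (flp_a L753234) L765409
theorem L765413 : sm gb N57462 = N56306 := ded_22_1 L753665 (flp_b L753236) L765409
theorem L765415 : sm gc N57462 = N56394 := ded_29_1 (flp_f L754748) (flp_c L753238) L765409
theorem L765417 : sm gd N57462 = N56303 := ded_35_1 L753626 (flp_d L753247) L765409
theorem L765419 : sm gj N57462 = N56330 := ded_46_2 L754003 (flp_j L753242) L765409
theorem L765421 : sm gh N57462 = N57462 := ded_47_2 (flp_f L765409) L753244 L765409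
theorem L765422 : sm gi N57462 = N56289 := ded_48_2 (flp_f L753414) (flp_i L753245) L765409
theorem L765424 : sm gg N57462 = N56431 := ded_45_2 L755095 L740670 L738582 (flp_g L753240) L765409
theorem L765426 : sm gd N56275 = N57463 := rfl
theorem L765428 : sm ga N57463 = N56764 := ded_12_1 (flp_d L758478) (flp_a L753251) L765426
theorem L765430 : sm gb N57463 = N56330 := ded_20_1 (flp_d L753999) (flp_b L753253) L765426
theorem L765432 : sm gf N57463 = N56278 := ded_35_2 (flp_d L753289) (flp_f L753257) L765426
theorem L765434 : sm gg N57463 = N56276 := ded_36_2 (flp_d L753265) (flp_g L753259) L765426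
theorem L765436 : sm gj N57463 = N56306 := ded_37_2 (flp_d L753661) (flp_j L753261) L765426
theorem L765438 : sm gi N57463 = N56290 := ded_39_2 (flp_d L753428) (flp_i L753263) L765426
theorem L765440 : sm gc N57463 = N56975 := ded_27_1 L761586 L761574 L752701 (flp_c L753255) L765426
theorem L765442 : sm gh N57463 = N57463 := ded_38_2 (flp_d L765426) (flp_h L753249) L738532 L753249 L765426
theorem L765443 : sm gc N56276 = N57464 := rfl
theorem L765445 : sm ga N57464 = N56377 := ded_11_1 (flp_c L765116) L765104 L765443
theorem L765447 : sm gf N57464 = N56277 := ded_29_2 (flp_c L753272) (flp_f L753267) L765443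
theorem L765449 : sm gg N57464 = N56975 := ded_30_2 (flp_c L765440) L765434 L765443
theorem L765451 : sm gj N57464 = N56324 := ded_31_2 (flp_c L765067) L765063 L765443
theorem L765453 : sm gh N57464 = N57464 := ded_32_2 (flp_c L765443) L753271 L765443
theorem L765454 : sm gi N57464 = N56291 := ded_33_2 (flp_c L753444) (flp_i L753269) L765443
theorem L765456 : sm gd N57464 = N56317 := ded_27_2 L753825 (flp_d L752753) L752745 L753265 L765443
theorem L765458 : sm gb N57464 = N56347 := ded_56_5 L754197 L740738 L740736 L740746 L740751 (flp_c L738778) L738776 L730702 L712131 (flp_f L712286) L730795 (flp_d L747037) (flp_c L752297) L752295 L737138 (flp_h L748033) L761292 L761300 L748039 (flp_c L742034) (flp_b L750265) L750263 (flp_h L741753) L724824 (flp_e L717131) L717129 L697645 L692113 L692111 (flp_h L670157) (flp_f L670114) (flp_e L686309) L686307 (flp_c L686115) L686113 (flp_a L685058) L685067 L671575 L671573 (flp_d L670639) L670637 (flp_b L666812) (flp_a L688444) L709438 L709442 (flp_e L705290) L705296 (flp_c L704816) (flp_b L717845) L717843 (flp_h L699376) (flp_f L699251)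 (flp_e L718793) (flp_d L733431) L733429 (flp_b L738022) L738020 L738495 (flp_f L753203) L753201 L753265 L765443
theorem L765460 : sm ge N56276 = N57465 := rfl
theorem L765462 : sm gh N57465 = N57465 := ded_43_2 (flp_e L765460) L753271 L765460
theorem L765463 : sm gi N57465 = N56292 := ded_44_2 (flp_e L753460) (flp_i L753269) L765460
theorem L765465 : sm gf N57465 = N56397 := ded_40_2 (flp_e L754771) L740304 (flp_e L738551) (flp_f L753267) L765460
theorem L765467 : sm gd N56279 = N57466 := rfl
theorem L765469 : sm gb N57466 = N56752 := ded_20_1 (flp_d L758357) (flp_b L753308) L765467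
theorem L765471 : sm gf N57466 = N56967 := ded_35_2 (flp_d L760167) (flp_f L753314) L765467
theorem L765473 : sm gg N57466 = N56280 := ded_36_2 (flp_d L753322) (flp_g L753316) L765467
theorem L765475 : sm gj N57466 = N56755 := ded_37_2 (flp_d L758389) (flp_j L753318) L765467
theorem L765477 : sm gi N57466 = N56988 := ded_39_2 (flp_d L760291) (flp_i L753320) L765467
theorem L765479 : sm ge N57466 = N56399 := ded_34_2 (flp_d L754782) L740352 (flp_d L738658) (flp_e L753312) L765467
theorem L765481 : sm gh N57466 = N56485 := ded_38_2 (flp_d L755681) (flp_h L741445) (flp_d L738636) L753306 L765467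
theorem L765483 : sm gc N56280 = N57467 := rfl
theorem L765485 : sm ge N57467 = N56408 := ded_28_2 (flp_c L754880) (flp_e L753326) L765483
theorem L765487 : sm gj N57467 = N56288 := ded_31_2 (flp_c L753406) (flp_j L753324) L765483
theorem L765489 : sm gh N57467 = N56488 := ded_32_2 (flp_c L755711) (flp_h L753328) L765483
theorem L765491 : sm gd N56281 = N57468 := rfl
theorem L765493 : sm gb N57468 = N56284 := ded_20_1 (flp_d L753374) (flp_b L753332) L765491
theorem L765495 : sm gg N57468 = N56405 := ded_36_2 (flp_d L754856) (flp_g L753338) L765491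
theorem L765497 : sm gj N57468 = N56976 := ded_37_2 (flp_d L760219) (flp_j L753340) L765491
theorem L765499 : sm ge N56282 = N57469 := rfl
theorem L765501 : sm ga N57469 = N56991 := ded_13_1 L760311 (flp_a L753344) L765499
theorem L765503 : sm gb N57469 = N56285 := ded_21_1 (flp_e L753378) (flp_b L753346) L765499
theorem L765505 : sm gc N57469 = N56981 := ded_28_1 (flp_e L760249) (flp_c L753354) L765499
theorem L765507 : sm gg N57469 = N56406 := ded_41_2 (flp_e L754862) (flp_g L753350) L765499
theorem L765509 : sm gj N57469 = N56977 := ded_42_2 (flp_e L760223) (flp_j L753352) L765499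
theorem L765511 : sm gh N57469 = N56295 := ded_43_2 (flp_e L753498) (flp_h L753356) L765499
theorem L765513 : sm gf N57469 = N56986 := ded_40_2 (flp_e L760279) L746905 (flp_e L738768) (flp_f L753348) L765499
theorem L765515 : sm gd N56283 = N57470 := rfl
theorem L765517 : sm ga N57470 = N56487 := ded_12_1 (flp_d L755705) (flp_a L753360) L765515
theorem L765519 : sm gf N57470 = N56465 := ded_35_2 (flp_d L755460) (flp_f L753366) L765515
theorem L765521 : sm gg N57470 = N56943 := ded_36_2 (flp_d L760022) (flp_g L753368) L765515
theorem L765523 : sm gj N57470 = N56466 := ded_37_2 (flp_d L755470) (flp_j L753370) L765515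
theorem L765525 : sm gi N57470 = N57025 := ded_39_2 (flp_d L760516) (flp_i L753372) L765515
theorem L765527 : sm gh N57470 = N56284 := ded_38_2 (flp_d L753374) (flp_h L738708) (flp_d L738698) L753358 L765515
theorem L765529 : sm gc N56284 = N57471 := rfl
theorem L765531 : sm gg N57471 = N56945 := ded_30_2 (flp_c L760030) (flp_g L753376) L765529
theorem L765533 : sm gd N57471 = N56288 := ded_27_2 (flp_c L753406) (flp_d L738748) (flp_c L738710) L753374 L765529
theorem L765535 : sm ge N56284 = N57472 := rfl
theorem L765537 : sm gg N57472 = N56946 := ded_41_2 (flp_e L760034) (flp_g L753376) L765535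
theorem L765539 : sm gd N57472 = N56285 := ded_34_1 (flp_e L753378) (flp_d L738716) (flp_e L738712) L753374 L765535
theorem L765541 : sm gf N56285 = N57473 := rfl
theorem L765543 : sm ga N57473 = N56432 := ded_14_1 (flp_f L765175) L765163 L765541
theorem L765545 : sm gb N57473 = N56986 := ded_22_1 (flp_f L765513) L765503 L765541
theorem L765547 : sm gc N57473 = N56425 := ded_29_1 (flp_f L755051) (flp_c L753380) L765541
theorem L765549 : sm gj N57473 = N56352 := ded_46_2 (flp_f L765215) L765211 L765541
theorem L765551 : sm gh N57473 = N56298 := ded_47_2 (flp_f L753544) (flp_h L753384) L765541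
theorem L765553 : sm ge N57473 = N56289 := ded_40_1 (flp_f L753414) (flp_e L738772) (flp_f L738718) L753378 L765541
theorem L765555 : sm gd N56286 = N57474 := rfl
theorem L765557 : sm ga N57474 = N56980 := ded_12_1 (flp_d L760243) (flp_a L753388) L765555
theorem L765559 : sm gb N57474 = N56343 := ded_20_1 (flp_d L754143) (flp_b L753390) L765555
theorem L765561 : sm gf N57474 = N56307 := ded_35_2 (flp_d L753672) (flp_f L753394) L765555
theorem L765563 : sm gg N57474 = N56287 := ded_36_2 (flp_d L753400) (flp_g L753396) L765555
theorem L765565 : sm gj N57474 = N56985 := ded_37_2 (flp_d L760275) (flp_j L753398) L765555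
theorem L765567 : sm gh N57474 = N56494 := ded_38_2 (flp_d L755793) (flp_h L741557) (flp_d L738732) L753386 L765555
theorem L765569 : sm gc N56287 = N57475 := rfl
theorem L765571 : sm gf N57475 = N56288 := ded_29_2 (flp_c L753406) (flp_f L753402) L765569
theorem L765573 : sm gh N57475 = N56495 := ded_32_2 (flp_c L755801) (flp_h L753404) L765569
theorem L765575 : sm ge N56287 = N57476 := rfl
theorem L765577 : sm gh N57476 = N56496 := ded_43_2 (flp_e L755805) (flp_h L753404) L765575
theorem L765579 : sm gd N57476 = N56292 := ded_34_1 (flp_e L753460) (flp_d L738800) (flp_e L738744) L753400 L765575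
theorem L765581 : sm gf N57476 = N56429 := ded_40_2 (flp_e L755079) L740646 (flp_e L738752) (flp_f L753402) L765575
theorem L765583 : sm gb N56288 = N57477 := rfl
theorem L765585 : sm ge N57477 = N56430 := ded_21_2 (flp_b L755085) (flp_e L753408) L765583
theorem L765587 : sm gg N57477 = N56949 := ded_23_2 (flp_b L760052) (flp_g L753410) L765583
theorem L765589 : sm gh N57477 = N56497 := ded_25_2 (flp_b L755811) (flp_h L753412) L765583
theorem L765591 : sm ge N56290 = N57478 := rfl
theorem L765593 : sm ga N57478 = N56981 := ded_13_1 (flp_e L760249) (flp_a L753430) L765591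
theorem L765595 : sm gb N57478 = N56352 := ded_21_1 (flp_e L754262) (flp_b L753432) L765591
theorem L765597 : sm gc N57478 = N56991 := ded_28_1 L760311 (flp_c L753440) L765591
theorem L765599 : sm gg N57478 = N56292 := ded_41_2 (flp_e L753460) (flp_g L753436) L765591
theorem L765601 : sm gj N57478 = N56986 := ded_42_2 (flp_e L760279) (flp_j L753438) L765591
theorem L765603 : sm gh N57478 = N56293 := ded_43_2 (flp_e L753466) (flp_h L753442) L765591
theorem L765605 : sm gf N57478 = N56977 := ded_40_2 (flp_e L760223) L746843 (flp_e L738848) (flp_f L753434) L765591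
theorem L765607 : sm ge N56291 = N57479 := rfl
theorem L765609 : sm ga N57479 = N56406 := ded_13_1 (flp_e L754862) (flp_a L753446) L765607
theorem L765611 : sm gb N57479 = N57001 := ded_21_1 L760361 L753458 L765607
theorem L765613 : sm gc N57479 = N56292 := ded_28_1 (flp_e L753460) L753444 L765607
theorem L765615 : sm gg N57479 = N56991 := ded_41_2 L760311 (flp_g L753450) L765607
theorem L765617 : sm gj N57479 = N56342 := ded_42_2 (flp_e L754135) (flp_j L753452) L765607
theorem L765619 : sm gh N57479 = N56294 := ded_43_2 (flp_e L753483) (flp_h L753454) L765607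
theorem L765621 : sm gf N57479 = N56442 := ded_40_2 (flp_e L755196) L740777 (flp_e L738810) (flp_f L753448) L765607
theorem L765623 : sm ge N56296 = N57480 := rfl
theorem L765625 : sm ga N57480 = N56498 := ded_13_1 (flp_e L755817) (flp_a L753515) L765623
theorem L765627 : sm gc N57480 = N57045 := ded_28_1 (flp_e L760636) (flp_c L753525) L765623
theorem L765629 : sm gg N57480 = N56954 := ded_41_2 (flp_e L760082) (flp_g L753519) L765623
theorem L765631 : sm gj N57480 = N56468 := ded_42_2 (flp_e L755490) (flp_j L753521) L765623
theorem L765633 : sm gh N57480 = N56297 := ded_43_2 (flp_e L753529) (flp_h L753527) L765623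
theorem L765635 : sm gi N57480 = N57042 := ded_44_2 (flp_e L760622) (flp_i L753523) L765623
theorem L765637 : sm gf N57480 = N56563 := ded_40_2 (flp_e L756522) L742399 (flp_e L741187) (flp_f L753517) L765623
theorem L765639 : sm gd N56299 = N57481 := rfl
theorem L765641 : sm ga N57481 = N56755 := ded_12_1 (flp_d L758389) (flp_a L753561) L765639
theorem L765643 : sm gb N57481 = N56326 := ded_20_1 (flp_d L753939) (flp_b L753563) L765639
theorem L765645 : sm gg N57481 = N56926 := ded_36_2 (flp_d L759892) (flp_g L753569) L765639
theorem L765647 : sm gi N57481 = N56307 := ded_39_2 (flp_d L753672) (flp_i L753571) L765639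
theorem L765649 : sm ge N57481 = N56961 := ded_34_2 (flp_d L760127) L746740 (flp_d L738979) (flp_e L753567) L765639
theorem L765651 : sm gh N57481 = N57008 := ded_38_2 (flp_d L760399) (flp_h L747069) (flp_d L738961) L753559 L765639
theorem L765653 : sm gd N56300 = N57482 := rfl
theorem L765655 : sm ga N57482 = N56988 := ded_12_1 (flp_d L760291) (flp_a L753575) L765653
theorem L765657 : sm gb N57482 = N56336 := ded_20_1 (flp_d L754075) (flp_b L753577) L765653
theorem L765659 : sm gf N57482 = N56985 := ded_35_2 (flp_d L760275) (flp_f L753581) L765653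
theorem L765661 : sm gj N57482 = N56307 := ded_37_2 (flp_d L753672) (flp_j L753583) L765653
theorem L765663 : sm gh N57482 = N56510 := ded_38_2 (flp_d L755949) (flp_h L741765) (flp_d L738989) L753573 L765653
theorem L765665 : sm gi N56301 = N57483 := rfl
theorem L765667 : sm ga N57483 = N56362 := ded_18_1 (flp_i L754390) (flp_a L753587) L765665
theorem L765669 : sm gb N57483 = N56304 := ded_26_1 (flp_i L753634) (flp_b L753589) L765665
theorem L765671 : sm gc N57483 = N56652 := ded_33_1 (flp_i L757471) (flp_c L753597) L765665
theorem L765673 : sm gd N57483 = N56302 := ded_39_1 (flp_i L753602) L753585 L765665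
theorem L765675 : sm ge N57483 = N57483 := ded_44_1 (flp_i L765665) L753599 L765665
theorem L765676 : sm gf N57483 = N56308 := ded_48_1 (flp_i L753680) (flp_f L753591) L765665
theorem L765678 : sm gg N57483 = N56401 := ded_51_1 (flp_i L754807) (flp_g L753593) L765665
theorem L765680 : sm gj N57483 = N56314 := ded_53_1 (flp_i L753776) (flp_j L753595) L765665
theorem L765682 : sm gh N56302 = N57484 := rfl
theorem L765684 : sm ga N57484 = N56378 := ded_17_1 (flp_h L754575) (flp_a L753604) L765682
theorem L765686 : sm gb N57484 = N56305 := ded_25_1 (flp_h L753649) (flp_b L753606) L765682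
theorem L765688 : sm gc N57484 = N56338 := ded_32_1 (flp_h L754099) (flp_c L753608) L765682
theorem L765690 : sm ge N57484 = N56303 := ded_43_1 (flp_h L753618) (flp_e L753610) L765682
theorem L765692 : sm gf N57484 = N56318 := ded_47_1 (flp_h L753833) (flp_f L753612) L765682
theorem L765694 : sm gg N57484 = N56404 := ded_50_1 (flp_h L754844) (flp_g L753614) L765682
theorem L765696 : sm gj N57484 = N56325 := ded_52_1 (flp_h L753929) (flp_j L753616) L765682
theorem L765698 : sm gi N57484 = N56335 := ded_54_2 (flp_h L754063) (flp_i L739549) (flp_h L739019) L753602 L765682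
theorem L765700 : sm gh N56304 = N57485 := rfl
theorem L765702 : sm ga N57485 = N56484 := ded_17_1 (flp_h L755672) (flp_a L753636) L765700
theorem L765704 : sm gc N57485 = N56511 := ded_32_1 (flp_h L755955) (flp_c L753638) L765700
theorem L765706 : sm ge N57485 = N57485 := ded_43_1 (flp_h L765700) L753642 L765700
theorem L765707 : sm gf N57485 = N56464 := ded_47_1 (flp_h L755446) (flp_f L753643) L765700
theorem L765709 : sm gg N57485 = N56941 := ded_50_1 (flp_h L760005) (flp_g L753645) L765700
theorem L765711 : sm gj N57485 = N57007 := ded_52_1 (flp_h L760392) (flp_j L753647) L765700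
theorem L765713 : sm gi N57485 = N57016 := ded_54_2 (flp_h L760453) (flp_i L747127) (flp_h L739051) L753634 L765700
theorem L765715 : sm gd N56305 = N57486 := rfl
theorem L765717 : sm ga N57486 = N56967 := ded_12_1 (flp_d L760167) (flp_a L753651) L765715
theorem L765719 : sm gg N57486 = N56944 := ded_36_2 (flp_d L760026) (flp_g L753657) L765715
theorem L765721 : sm gi N57486 = N56985 := ded_39_2 (flp_d L760275) (flp_i L753659) L765715
theorem L765723 : sm ge N56306 = N57487 := rfl
theorem L765725 : sm ga N57487 = N56968 := ded_13_1 (flp_e L760173) (flp_a L753663) L765723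
theorem L765727 : sm gg N57487 = N56950 := ded_41_2 (flp_e L760058) (flp_g L753667) L765723
theorem L765729 : sm gh N57487 = N57487 := ded_43_2 (flp_e L765723) L753671 L765723
theorem L765730 : sm gi N57487 = N56986 := ded_44_2 (flp_e L760279) (flp_i L753669) L765723
theorem L765732 : sm gc N56307 = N57488 := rfl
theorem L765734 : sm gg N57488 = N56948 := ded_30_2 (flp_c L760046) (flp_g L753676) L765732
theorem L765736 : sm gh N57488 = N56514 := ded_32_2 (flp_c L755973) (flp_h L753678) L765732
theorem L765738 : sm gh N56308 = N57489 := rfl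
theorem L765740 : sm ga N57489 = N56363 := ded_17_1 (flp_h L754401) (flp_a L753682) L765738
theorem L765742 : sm gb N57489 = N56464 := ded_25_1 (flp_h L755446) (flp_b L753684) L765738
theorem L765744 : sm gc N57489 = N56884 := ded_32_1 (flp_h L759602) (flp_c L753686) L765738
theorem L765746 : sm ge N57489 = N56309 := ded_43_1 (flp_h L753696) (flp_e L753690) L765738
theorem L765748 : sm gg N57489 = N56459 := ded_50_1 (flp_h L755375) (flp_g L753692) L765738
theorem L765750 : sm gj N57489 = N56315 := ded_52_1 (flp_h L753789) (flp_j L753694) L765738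
theorem L765752 : sm gi N57489 = N56516 := ded_54_2 (flp_h L755992) (flp_i L741826) (flp_h L739120) L753680 L765738
theorem L765754 : sm gi N56310 = N57490 := rfl
theorem L765756 : sm ga N57490 = N56367 := ded_18_1 (flp_i L754451) (flp_a L753715) L765754
theorem L765758 : sm gb N57490 = N56845 := ded_26_1 (flp_i L759290) (flp_b L753717) L765754
theorem L765760 : sm gc N57490 = N56321 := ded_33_1 (flp_i L753875) (flp_c L753723) L765754
theorem L765762 : sm gd N57490 = N56312 := ded_39_1 (flp_i L753747) L753713 L765754
theorem L765764 : sm ge N57490 = N57490 := ded_44_1 (flp_i L765754) L753725 L765754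
theorem L765765 : sm gf N57490 = N56657 := ded_48_1 (flp_i L757524) L753728 L765754
theorem L765767 : sm gg N57490 = N56794 := ded_51_1 (flp_i L758785) (flp_g L753719) L765754
theorem L765769 : sm gj N57490 = N56641 := ded_53_1 (flp_i L757359) (flp_j L753721) L765754
theorem L765771 : sm gi N56311 = N57491 := rfl
theorem L765773 : sm ga N57491 = N56368 := ded_18_1 (flp_i L754460) (flp_a L753732) L765771
theorem L765775 : sm gb N57491 = N56871 := ded_26_1 (flp_i L759497) (flp_b L753734) L765771
theorem L765777 : sm gc N57491 = N56314 := ded_33_1 (flp_i L753776) (flp_c L753736) L765771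
theorem L765779 : sm gd N57491 = N56657 := ded_39_1 (flp_i L757524) (flp_d L753738) L765771
theorem L765781 : sm ge N57491 = N57491 := ded_44_1 (flp_i L765771) L753744 L765771
theorem L765782 : sm gf N57491 = N56312 := ded_48_1 (flp_i L753747) L753730 L765771
theorem L765784 : sm gg N57491 = N56675 := ded_51_1 (flp_i L757668) (flp_g L753745) L765771
theorem L765786 : sm gj N57491 = N56652 := ded_53_1 (flp_i L757471) (flp_j L753740) L765771
theorem L765788 : sm gh N56312 = N57492 := rfl
theorem L765790 : sm ga N57492 = N56369 := ded_17_1 (flp_h L754469) (flp_a L753749) L765788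
theorem L765792 : sm gb N57492 = N56873 := ded_25_1 (flp_h L759517) (flp_b L753751) L765788
theorem L765794 : sm gc N57492 = N56315 := ded_32_1 (flp_h L753789) (flp_c L753753) L765788
theorem L765796 : sm ge N57492 = N56313 := ded_43_1 (flp_h L753761) (flp_e L753755) L765788
theorem L765798 : sm gg N57492 = N56796 := ded_50_1 (flp_h L758810) (flp_g L753757) L765788
theorem L765800 : sm gj N57492 = N56884 := ded_52_1 (flp_h L759602) (flp_j L753759) L765788
theorem L765802 : sm gi N57492 = N56518 := ded_54_2 (flp_h L756021) (flp_i L741870) (flp_h L739151) L753747 L765788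
theorem L765804 : sm gd N56313 = N57493 := rfl
theorem L765806 : sm ga N57493 = N56370 := ded_12_1 (flp_d L754479) (flp_a L753763) L765804
theorem L765808 : sm gb N57493 = N56917 := ded_20_1 (flp_d L759825) (flp_b L753765) L765804
theorem L765810 : sm gf N57493 = N57493 := ded_35_2 (flp_d L765804) L753769 L765804
theorem L765811 : sm gg N57493 = N56813 := ded_36_2 (flp_d L758958) (flp_g L753770) L765804
theorem L765813 : sm gj N57493 = N56921 := ded_37_2 (flp_d L759852) (flp_j L753772) L765804
theorem L765815 : sm gi N57493 = N56519 := ded_39_2 (flp_d L756035) (flp_i L753774) L765804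
theorem L765817 : sm gc N57493 = N56953 := ded_27_1 (flp_d L760074) L746668 (flp_d L739201) (flp_c L753767) L765804
theorem L765819 : sm gh N57493 = N57493 := ded_38_2 (flp_d L765804) (flp_h L753761) L739161 L753761 L765804
theorem L765820 : sm gh N56314 = N57494 := rfl
theorem L765822 : sm ga N57494 = N56371 := ded_17_1 (flp_h L754487) (flp_a L753778) L765820
theorem L765824 : sm gb N57494 = N57007 := ded_25_1 (flp_h L760392) (flp_b L753780) L765820
theorem L765826 : sm ge N57494 = N57494 := ded_43_1 (flp_h L765820) L753784 L765820
theorem L765827 : sm gf N57494 = N56315 := ded_47_1 (flp_h L753789) (flp_f L753785) L765820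
theorem L765829 : sm gg N57494 = N56790 := ded_50_1 (flp_h L758752) (flp_g L753787) L765820
theorem L765831 : sm gi N57494 = N56520 := ded_54_2 (flp_h L756050) (flp_i L741899) (flp_h L739175) L753776 L765820
theorem L765833 : sm gd N56315 = N57495 := rfl
theorem L765835 : sm ga N57495 = N56372 := ded_12_1 (flp_d L754498) (flp_a L753791) L765833
theorem L765837 : sm gb N57495 = N57008 := ded_20_1 (flp_d L760399) (flp_b L753793) L765833
theorem L765839 : sm gg N57495 = N56799 := ded_36_2 (flp_d L758840) (flp_g L753797) L765833
theorem L765841 : sm gi N57495 = N56521 := ded_39_2 (flp_d L756057) (flp_i L753799) L765833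
theorem L765843 : sm ge N57495 = N57027 := ded_34_2 (flp_d L760528) L747215 (flp_d L739201) (flp_e L753795) L765833
theorem L765845 : sm gh N57495 = N56326 := ded_38_2 (flp_d L753939) (flp_h L739344) (flp_d L739186) L753789 L765833
theorem L765847 : sm gh N56316 = N57496 := rfl
theorem L765849 : sm ga N57496 = N56376 := ded_17_1 (flp_h L754552) (flp_a L753803) L765847
theorem L765851 : sm gb N57496 = N56340 := ded_25_1 (flp_h L754119) (flp_b L753805) L765847
theorem L765853 : sm gc N57496 = N56318 := ded_32_1 (flp_h L753833) (flp_c L753807) L765847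
theorem L765855 : sm ge N57496 = N56317 := ded_43_1 (flp_h L753819) (flp_e L753811) L765847
theorem L765857 : sm gf N57496 = N56338 := ded_47_1 (flp_h L754099) (flp_f L753813) L765847
theorem L765859 : sm gg N57496 = N56398 := ded_50_1 (flp_h L754776) (flp_g L753815) L765847
theorem L765861 : sm gj N57496 = N56323 := ded_52_1 (flp_h L753906) (flp_j L753817) L765847
theorem L765863 : sm gi N57496 = N56333 := ded_54_2 (flp_h L754035) (flp_i L739511) (flp_h L739217) L753801 L765847
theorem L765865 : sm gd N56318 = N57497 := rfl
theorem L765867 : sm ga N57497 = N56379 := ded_12_1 (flp_d L754587) (flp_a L753835) L765865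
theorem L765869 : sm gj N57497 = N56326 := ded_37_2 (flp_d L753939) (flp_j L753839) L765865
theorem L765871 : sm gi N57497 = N56336 := ded_39_2 (flp_d L754075) (flp_i L753841) L765865
theorem L765873 : sm gh N56319 = N57498 := rfl
theorem L765875 : sm ga N57498 = N56404 := ded_17_1 (flp_h L754844) (flp_a L753845) L765873
theorem L765877 : sm gb N57498 = N56323 := ded_25_1 (flp_h L753906) (flp_b L753847) L765873
theorem L765879 : sm gc N57498 = N56335 := ded_32_1 (flp_h L754063) (flp_c L753849) L765873
theorem L765881 : sm ge N57498 = N56320 := ded_43_1 (flp_h L753859) (flp_e L753851) L765873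
theorem L765883 : sm gf N57498 = N56333 := ded_47_1 (flp_h L754035) (flp_f L753853) L765873
theorem L765885 : sm gg N57498 = N56378 := ded_50_1 (flp_h L754575) (flp_g L753855) L765873
theorem L765887 : sm gj N57498 = N56340 := ded_52_1 (flp_h L754119) (flp_j L753857) L765873
theorem L765889 : sm gi N57498 = N56338 := ded_54_2 (flp_h L754099) (flp_i L739587) (flp_h L739266) L753843 L765873
theorem L765891 : sm gd N56320 = N57499 := rfl
theorem L765893 : sm ga N57499 = N56431 := ded_12_1 (flp_d L755091) (flp_a L753861) L765891
theorem L765895 : sm gb N57499 = N56324 := ded_20_1 (flp_d L753918) (flp_b L753863) L765891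
theorem L765897 : sm gf N57499 = N56327 := ded_35_2 (flp_d L753947) (flp_f L753867) L765891
theorem L765899 : sm gg N57499 = N56391 := ded_36_2 (flp_d L754706) (flp_g L753869) L765891
theorem L765901 : sm gj N57499 = N56347 := ded_37_2 (flp_d L754195) (flp_j L753871) L765891
theorem L765903 : sm gi N57499 = N56339 := ded_39_2 (flp_d L754107) (flp_i L753873) L765891
theorem L765905 : sm gc N57499 = N56439 := ded_27_1 L755175 (flp_c L753420) L753422 (flp_c L753865) L765891
theorem L765907 : sm gh N57499 = N57499 := ded_38_2 (flp_d L765891) (flp_h L753859) L739278 L753859 L765891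
theorem L765908 : sm gh N56321 = N57500 := rfl
theorem L765910 : sm ga N57500 = N56384 := ded_17_1 (flp_h L754652) (flp_a L753877) L765908
theorem L765912 : sm ge N57500 = N57500 := ded_43_1 (flp_h L765908) L753881 L765908
theorem L765913 : sm gf N57500 = N56662 := ded_47_1 (flp_h L757566) (flp_f L753882) L765908
theorem L765915 : sm gg N57500 = N56957 := ded_50_1 (flp_h L760099) (flp_g L753884) L765908
theorem L765917 : sm gj N57500 = N56645 := ded_52_1 (flp_h L757403) (flp_j L753886) L765908
theorem L765919 : sm gh N56322 = N57501 := rfl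
theorem L765921 : sm ga N57501 = N56385 := ded_17_1 (flp_h L754657) (flp_a L753890) L765919
theorem L765923 : sm gb N57501 = N56333 := ded_25_1 (flp_h L754035) (flp_b L753892) L765919
theorem L765925 : sm gc N57501 = N56325 := ded_32_1 (flp_h L753929) (flp_c L753894) L765919
theorem L765927 : sm ge N57501 = N56328 := ded_43_1 (flp_h L753964) (flp_e L753898) L765919
theorem L765929 : sm gf N57501 = N56323 := ded_47_1 (flp_h L753906) (flp_f L753900) L765919
theorem L765931 : sm gg N57501 = N56426 := ded_50_1 (flp_h L755057) (flp_g L753902) L765919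
theorem L765933 : sm gj N57501 = N56338 := ded_52_1 (flp_h L754099) (flp_j L753904) L765919
theorem L765935 : sm gi N57501 = N56340 := ded_54_2 (flp_h L754119) (flp_i L739605) (flp_h L739308) L753888 L765919
theorem L765937 : sm gd N56323 = N57502 := rfl
theorem L765939 : sm ga N57502 = N56386 := ded_12_1 (flp_d L754669) (flp_a L753908) L765937
theorem L765941 : sm gg N57502 = N56958 := ded_36_2 (flp_d L760108) (flp_g L753914) L765937
theorem L765943 : sm gi N57502 = N56341 := ded_39_2 (flp_d L754129) (flp_i L753916) L765937
theorem L765945 : sm ge N56324 = N57503 := rfl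
theorem L765947 : sm ga N57503 = N56387 := ded_13_1 (flp_e L754675) (flp_a L753920) L765945
theorem L765949 : sm gg N57503 = N56959 := ded_41_2 (flp_e L760114) (flp_g L753924) L765945
theorem L765951 : sm gh N57503 = N57503 := ded_43_2 (flp_e L765945) L753928 L765945
theorem L765952 : sm gi N57503 = N56342 := ded_44_2 (flp_e L754135) (flp_i L753926) L765945
theorem L765954 : sm gd N56325 = N57504 := rfl
theorem L765956 : sm ga N57504 = N56389 := ded_12_1 (flp_d L754694) (flp_a L753931) L765954
theorem L765958 : sm gf N57504 = N56326 := ded_35_2 (flp_d L753939) (flp_f L753935) L765954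
theorem L765960 : sm gi N57504 = N56343 := ded_39_2 (flp_d L754143) (flp_i L753937) L765954
theorem L765962 : sm gc N56326 = N57505 := rfl
theorem L765964 : sm ga N57505 = N56390 := ded_11_1 (flp_c L754700) (flp_a L753941) L765962
theorem L765966 : sm gg N57505 = N56960 := ded_30_2 (flp_c L760121) (flp_g L753943) L765962
theorem L765968 : sm gi N57505 = N56344 := ded_33_2 (flp_c L754151) (flp_i L753945) L765962
theorem L765970 : sm gf N56329 = N57506 := rfl
theorem L765972 : sm ga N57506 = N56394 := ded_14_1 (flp_f L754748) (flp_a L753984) L765970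
theorem L765974 : sm gb N57506 = N56437 := ded_22_1 L755165 (flp_b L753986) L765970
theorem L765976 : sm gc N57506 = N56391 := ded_29_1 L754710 (flp_c L753988) L765970
theorem L765978 : sm gd N57506 = N56440 := ded_35_1 L755184 (flp_d L753997) L765970
theorem L765980 : sm gj N57506 = N56396 := ded_46_2 L754766 (flp_j L753992) L765970
theorem L765982 : sm gh N57506 = N57506 := ded_47_2 (flp_f L765970) L753994 L765970
theorem L765983 : sm gi N57506 = N56350 := ded_48_2 (flp_f L754240) (flp_i L753995) L765970
theorem L765985 : sm gg N57506 = N56439 := ded_45_2 (flp_f L755173) L740748 (flp_f L739474) (flp_g L753990) L765970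
theorem L765987 : sm gc N56330 = N57507 := rfl
theorem L765989 : sm ga N57507 = N56396 := ded_11_1 (flp_c L754764) (flp_a L754001) L765987
theorem L765991 : sm gf N57507 = N56331 := ded_29_2 (flp_c L754008) (flp_f L754003) L765987
theorem L765993 : sm gg N57507 = N56951 := ded_30_2 (flp_c L761475) L761469 L765987
theorem L765995 : sm gj N57507 = N56394 := ded_31_2 (flp_c L765415) L765419 L765987
theorem L765997 : sm gh N57507 = N57507 := ded_32_2 (flp_c L765987) L754007 L765987
theorem L765998 : sm gi N57507 = N56351 := ded_33_2 (flp_c L754250) (flp_i L754005) L765987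
theorem L766000 : sm gb N57507 = N56938 := ded_19_1 L759983 (flp_b L760214) (flp_c L765440) L765430 L765987
theorem L766002 : sm gd N57507 = N56952 := ded_27_2 L760068 (flp_d L753978) L753970 L753999 L765987
theorem L766004 : sm ge N56330 = N57508 := rfl
theorem L766006 : sm ga N57508 = N56397 := ded_13_1 (flp_e L754771) (flp_a L754001) L766004
theorem L766008 : sm gh N57508 = N57508 := ded_43_2 (flp_e L766004) L754007 L766004
theorem L766009 : sm gi N57508 = N56352 := ded_44_2 (flp_e L754262) (flp_i L754005) L766004
theorem L766011 : sm gd N56332 = N57509 := rfl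
theorem L766013 : sm ga N57509 = N56399 := ded_12_1 (flp_d L754782) (flp_a L754027) L766011
theorem L766015 : sm gg N57509 = N56336 := ded_36_2 (flp_d L754075) (flp_g L754031) L766011
theorem L766017 : sm gj N57509 = N56961 := ded_37_2 (flp_d L760127) (flp_j L754033) L766011
theorem L766019 : sm gh N57509 = N56537 := ded_38_2 (flp_d L756248) (flp_h L742131) (flp_d L739495) L754025 L766011
theorem L766021 : sm gd N56333 = N57510 := rfl
theorem L766023 : sm ga N57510 = N56405 := ded_12_1 (flp_d L754856) (flp_a L754037) L766021
theorem L766025 : sm gj N57510 = N56341 := ded_37_2 (flp_d L754129) (flp_j L754043) L766021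
theorem L766027 : sm gh N56334 = N57511 := rfl
theorem L766029 : sm ga N57511 = N56338 := ded_17_1 (flp_h L754099) (flp_a L754047) L766027
theorem L766031 : sm gb N57511 = N56410 := ded_25_1 (flp_h L754904) (flp_b L754049) L766027
theorem L766033 : sm gc N57511 = N56378 := ded_32_1 (flp_h L754575) (flp_c L754051) L766027
theorem L766035 : sm ge N57511 = N56337 := ded_43_1 (flp_h L754083) (flp_e L754055) L766027
theorem L766037 : sm gf N57511 = N56376 := ded_47_1 (flp_h L754552) (flp_f L754057) L766027
theorem L766039 : sm gg N57511 = N56335 := ded_50_1 (flp_h L754063) (flp_g L754059) L766027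
theorem L766041 : sm gj N57511 = N56385 := ded_52_1 (flp_h L754657) (flp_j L754061) L766027
theorem L766043 : sm gi N57511 = N56404 := ded_54_2 (flp_h L754844) (flp_i L740395) (flp_h L739543) L754045 L766027
theorem L766045 : sm gd N56335 = N57512 := rfl
theorem L766047 : sm ga N57512 = N56407 := ded_12_1 (flp_d L754870) (flp_a L754065) L766045
theorem L766049 : sm gb N57512 = N56985 := ded_20_1 (flp_d L760275) (flp_b L754067) L766045
theorem L766051 : sm gf N57512 = N56336 := ded_35_2 (flp_d L754075) (flp_f L754071) L766045
theorem L766053 : sm gj N57512 = N56343 := ded_37_2 (flp_d L754143) (flp_j L754073) L766045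
theorem L766055 : sm gh N57512 = N56544 := ded_38_2 (flp_d L756329) (flp_h L742214) (flp_d L739555) L754063 L766045
theorem L766057 : sm gc N56336 = N57513 := rfl
theorem L766059 : sm ga N57513 = N56408 := ded_11_1 (flp_c L754880) (flp_a L754077) L766057
theorem L766061 : sm gj N57513 = N56344 := ded_31_2 (flp_c L754151) (flp_j L754079) L766057
theorem L766063 : sm gh N57513 = N56545 := ded_32_2 (flp_c L756337) (flp_h L754081) L766057
theorem L766065 : sm gd N56338 = N57514 := rfl
theorem L766067 : sm gb N57514 = N56341 := ded_20_1 (flp_d L754129) (flp_b L754101) L766065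
theorem L766069 : sm gg N57514 = N56407 := ded_36_2 (flp_d L754870) (flp_g L754105) L766065
theorem L766071 : sm gh N57514 = N56663 := ded_38_2 (flp_d L757574) (flp_h L743650) (flp_d L739591) L754099 L766065
theorem L766073 : sm gc N56339 = N57515 := rfl
theorem L766075 : sm ga N57515 = N56440 := ded_11_1 (flp_c L761873) L761871 L766073
theorem L766077 : sm gf N57515 = N56345 := ded_29_2 (flp_c L754159) (flp_f L754111) L766073
theorem L766079 : sm gg N57515 = N56350 := ded_30_2 L754244 (flp_g L754113) L766073
theorem L766081 : sm gj N57515 = N56952 := ded_31_2 L760068 (flp_j L754115) L766073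
theorem L766083 : sm gh N57515 = N56354 := ded_32_2 (flp_c L754281) (flp_h L754117) L766073
theorem L766085 : sm gi N57515 = N56439 := ded_33_2 (flp_c L765905) L765903 L766073
theorem L766087 : sm gb N57515 = N56930 := ded_19_1 L759932 (flp_b L752935) L752943 (flp_b L754109) L766073
theorem L766089 : sm gd N57515 = N56394 := ded_27_2 (flp_c L765415) L765417 L753624 L754107 L766073
theorem L766091 : sm ge N56339 = N57516 := rfl
theorem L766093 : sm gb N57516 = N56342 := ded_21_1 (flp_e L754135) (flp_b L754109) L766091
theorem L766095 : sm gg N57516 = N56432 := ded_41_2 (flp_e L755100) (flp_g L754113) L766091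
theorem L766097 : sm gj N57516 = N57001 := ded_42_2 L760361 (flp_j L754115) L766091
theorem L766099 : sm gh N57516 = N56355 := ded_43_2 (flp_e L754295) (flp_h L754117) L766091
theorem L766101 : sm gd N56340 = N57517 := rfl
theorem L766103 : sm ga N57517 = N56422 := ded_12_1 (flp_d L755035) (flp_a L754121) L766101
theorem L766105 : sm gf N57517 = N56341 := ded_35_2 (flp_d L754129) (flp_f L754127) L766101
theorem L766107 : sm gc N56341 = N57518 := rfl
theorem L766109 : sm ga N57518 = N56423 := ded_11_1 (flp_c L755039) (flp_a L754131) L766107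
theorem L766111 : sm gg N57518 = N56963 := ded_30_2 (flp_c L760143) (flp_g L754133) L766107
theorem L766113 : sm gd N57518 = N56344 := ded_27_2 (flp_c L754151) (flp_d L739643) (flp_c L739619) L754129 L766107
theorem L766115 : sm ge N56341 = N57519 := rfl
theorem L766117 : sm ga N57519 = N56424 := ded_13_1 (flp_e L755045) (flp_a L754131) L766115
theorem L766119 : sm gg N57519 = N56964 := ded_41_2 (flp_e L760149) (flp_g L754133) L766115
theorem L766121 : sm gd N57519 = N56342 := ded_34_1 (flp_e L754135) (flp_d L739625) (flp_e L739621) L754129 L766115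
theorem L766123 : sm gf N56342 = N57520 := rfl
theorem L766125 : sm ga N57520 = N56425 := ded_14_1 (flp_f L755051) (flp_a L754137) L766123
theorem L766127 : sm gc N57520 = N56432 := ded_29_1 (flp_f L765175) L765167 L766123
theorem L766129 : sm gj N57520 = N56442 := ded_46_2 (flp_f L765621) L765617 L766123
theorem L766131 : sm gh N57520 = N56356 := ded_47_2 (flp_f L754306) (flp_h L754141) L766123
theorem L766133 : sm ge N57520 = N56350 := ded_40_1 (flp_f L754240) (flp_e L739704) (flp_f L739629) L754135 L766123
theorem L766135 : sm gc N56343 = N57521 := rfl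
theorem L766137 : sm ga N57521 = N56428 := ded_11_1 (flp_c L755073) (flp_a L754145) L766135
theorem L766139 : sm gf N57521 = N56344 := ded_29_2 (flp_c L754151) (flp_f L754147) L766135
theorem L766141 : sm gh N57521 = N56555 := ded_32_2 (flp_c L756447) (flp_h L754149) L766135
theorem L766143 : sm ge N56343 = N57522 := rfl
theorem L766145 : sm ga N57522 = N56429 := ded_13_1 (flp_e L755079) (flp_a L754145) L766143
theorem L766147 : sm gh N57522 = N56556 := ded_43_2 (flp_e L756453) (flp_h L754149) L766143
theorem L766149 : sm gd N57522 = N56352 := ded_34_1 (flp_e L754262) (flp_d L739716) (flp_e L739639) L754143 L766143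
theorem L766151 : sm gb N56344 = N57523 := rfl
theorem L766153 : sm gg N57523 = N56966 := ded_23_2 (flp_b L760163) (flp_g L754155) L766151
theorem L766155 : sm gh N57523 = N56557 := ded_25_2 (flp_b L756459) (flp_h L754157) L766151
theorem L766157 : sm gf N56346 = N57524 := rfl
theorem L766159 : sm ga N57524 = N56952 := ded_14_1 L760072 (flp_a L754179) L766157
theorem L766161 : sm gb N57524 = N56350 := ded_22_1 (flp_f L754240) (flp_b L754181) L766157
theorem L766163 : sm gc N57524 = N56393 := ded_29_1 L754740 (flp_c L754183) L766157
theorem L766165 : sm gd N57524 = N56396 := ded_35_1 L754766 (flp_d L754193) L766157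
theorem L766167 : sm gj N57524 = N56440 := ded_46_2 L755184 (flp_j L754187) L766157
theorem L766169 : sm gh N57524 = N56357 := ded_47_2 (flp_f L754317) (flp_h L754189) L766157
theorem L766171 : sm gi N57524 = N56437 := ded_48_2 L755165 (flp_i L754191) L766157
theorem L766173 : sm gg N57524 = N56930 := ded_45_2 (flp_f L759928) L746498 (flp_f L739768) (flp_g L754185) L766157
theorem L766175 : sm gc N56347 = N57525 := rfl
theorem L766177 : sm ga N57525 = N56437 := ded_11_1 (flp_c L755163) (flp_a L754197) L766175
theorem L766179 : sm gf N57525 = N56348 := ded_29_2 (flp_c L754206) (flp_f L754199) L766175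
theorem L766181 : sm gg N57525 = N56938 := ded_30_2 L759983 (flp_g L754201) L766175
theorem L766183 : sm gj N57525 = N56439 := ded_31_2 (flp_c L765905) L765901 L766175
theorem L766185 : sm gh N57525 = N57525 := ded_32_2 (flp_c L766175) L754205 L766175
theorem L766186 : sm gi N57525 = N56952 := ded_33_2 L760068 (flp_i L754203) L766175
theorem L766188 : sm gb N57525 = N56951 := ded_19_1 (flp_c L761475) L761465 L765443 L765458 L766175
theorem L766190 : sm gd N57525 = N56351 := ded_27_2 (flp_c L754250) (flp_d L739716) (flp_c L739691) L754195 L766175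
theorem L766192 : sm ge N56347 = N57526 := rfl
theorem L766194 : sm ga N57526 = N56438 := ded_13_1 (flp_e L755170) (flp_a L754197) L766192
theorem L766196 : sm gg N57526 = N56973 := ded_41_2 L760206 (flp_g L754201) L766192
theorem L766198 : sm gh N57526 = N57526 := ded_43_2 (flp_e L766192) L754205 L766192
theorem L766199 : sm gi N57526 = N57001 := ded_44_2 L760361 (flp_i L754203) L766192
theorem L766201 : sm gf N56349 = N57527 := rfl
theorem L766203 : sm ga N57527 = N56439 := ded_14_1 (flp_f L755173) (flp_a L754225) L766201
theorem L766205 : sm gb N57527 = N56396 := ded_22_1 L754766 (flp_b L754227) L766201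
theorem L766207 : sm gc N57527 = N56431 := ded_29_1 L755095 (flp_c L754229) L766201
theorem L766209 : sm gd N57527 = N56350 := ded_35_1 (flp_f L754240) (flp_d L754238) L766201
theorem L766211 : sm gj N57527 = N56437 := ded_46_2 L755165 (flp_j L754233) L766201
theorem L766213 : sm gh N57527 = N57527 := ded_47_2 (flp_f L766201) L754235 L766201
theorem L766214 : sm gi N57527 = N56440 := ded_48_2 L755184 (flp_i L754236) L766201
theorem L766216 : sm gg N57527 = N56394 := ded_45_2 (flp_f L754748) L740289 (flp_f L739798) (flp_g L754231) L766201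
theorem L766218 : sm ge N56351 = N57528 := rfl
theorem L766220 : sm ga N57528 = N56442 := ded_13_1 (flp_e L755196) (flp_a L754252) L766218
theorem L766222 : sm gb N57528 = N56947 := ded_21_1 L760044 (flp_b L754260) L766218
theorem L766224 : sm gc N57528 = N56352 := ded_28_1 (flp_e L754262) L754250 L766218
theorem L766226 : sm gj N57528 = N56425 := ded_42_2 L755055 (flp_j L754256) L766218
theorem L766228 : sm gh N57528 = N56353 := ded_43_2 (flp_e L754268) (flp_h L754258) L766218
theorem L766230 : sm gf N57528 = N56406 := ded_40_2 (flp_e L754862) L740421 (flp_e L739728) (flp_f L754254) L766218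
theorem L766232 : sm gd N56353 = N57529 := rfl
theorem L766234 : sm ga N57529 = N56445 := ded_12_1 (flp_d L755224) (flp_a L754270) L766232
theorem L766236 : sm gb N57529 = N56955 := ded_20_1 L760088 (flp_b L754272) L766232
theorem L766238 : sm gf N57529 = N56448 := ded_35_2 L755261 (flp_f L754279) L766232
theorem L766240 : sm gj N57529 = N56458 := ded_37_2 L755371 (flp_j L754276) L766232
theorem L766242 : sm gi N57529 = N57529 := ded_39_2 (flp_d L766232) L754278 L766232
theorem L766243 : sm gc N57529 = N56570 := ded_27_1 (flp_d L756585) L742481 (flp_d L739833) (flp_c L754274) L766232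
theorem L766245 : sm ge N57529 = N57529 := ded_34_2 (flp_d L766232) (flp_e L754268) L739827 L754268 L766232
theorem L766246 : sm ge N56354 = N57530 := rfl
theorem L766248 : sm ga N57530 = N56444 := ded_13_1 (flp_e L755215) (flp_a L754283) L766246
theorem L766250 : sm gb N57530 = N56932 := ded_21_1 L759952 (flp_b L754292) L766246
theorem L766252 : sm gc N57530 = N56355 := ded_28_1 (flp_e L754295) L754281 L766246
theorem L766254 : sm gg N57530 = N56356 := ded_41_2 L754315 (flp_g L754287) L766246
theorem L766256 : sm gj N57530 = N56956 := ded_42_2 L760096 (flp_j L754289) L766246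
theorem L766258 : sm gi N57530 = N57530 := ded_44_2 (flp_e L766246) L754291 L766246
theorem L766259 : sm gf N57530 = N56931 := ded_40_2 (flp_e L759936) L746508 L739865 (flp_f L754285) L766246
theorem L766261 : sm gf N56355 = N57531 := rfl
theorem L766263 : sm ga N57531 = N56956 := ded_14_1 (flp_f L761904) L761891 L766261
theorem L766265 : sm gb N57531 = N56356 := ded_22_1 (flp_f L754306) (flp_b L754297) L766261
theorem L766267 : sm gc N57531 = N56931 := ded_29_1 (flp_f L766259) L766252 L766261
theorem L766269 : sm gd N57531 = N56725 := ded_35_1 (flp_f L758073) (flp_d L754304) L766261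
theorem L766271 : sm gj N57531 = N56444 := ded_46_2 L755222 (flp_j L754301) L766261
theorem L766273 : sm gi N57531 = N57531 := ded_48_2 (flp_f L766261) L754303 L766261
theorem L766274 : sm ge N57531 = N56357 := ded_40_1 (flp_f L754317) (flp_e L739867) (flp_f L739839) L754295 L766261
theorem L766276 : sm gg N57531 = N56932 := ded_45_2 (flp_f L759945) (flp_g L753014) L753021 (flp_g L754299) L766261
theorem L766278 : sm gi N56358 = N57532 := rfl
theorem L766280 : sm ga N57532 = N56641 := ded_18_1 (flp_i L757359) (flp_a L754333) L766278
theorem L766282 : sm gb N57532 = N56676 := ded_26_1 (flp_i L757681) (flp_b L754335) L766278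
theorem L766284 : sm gc N57532 = N56375 := ded_33_1 (flp_i L754537) (flp_c L754341) L766278
theorem L766286 : sm gd N57532 = N56360 := ded_39_1 (flp_i L754365) L754331 L766278
theorem L766288 : sm ge N57532 = N57532 := ded_44_1 (flp_i L766278) L754343 L766278
theorem L766289 : sm gf N57532 = N56540 := ded_48_1 (flp_i L756281) L754346 L766278
theorem L766291 : sm gg N57532 = N56534 := ded_51_1 (flp_i L756208) (flp_g L754337) L766278
theorem L766293 : sm gj N57532 = N56367 := ded_53_1 (flp_i L754451) (flp_j L754339) L766278
theorem L766295 : sm gi N56359 = N57533 := rfl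
theorem L766297 : sm ga N57533 = N56652 := ded_18_1 (flp_i L757471) (flp_a L754350) L766295
theorem L766299 : sm gb N57533 = N57087 := ded_26_1 (flp_i L760892) (flp_b L754352) L766295
theorem L766301 : sm gc N57533 = N56362 := ded_33_1 (flp_i L754390) (flp_c L754354) L766295
theorem L766303 : sm gd N57533 = N56540 := ded_39_1 (flp_i L756281) (flp_d L754356) L766295
theorem L766305 : sm ge N57533 = N57533 := ded_44_1 (flp_i L766295) L754362 L766295
theorem L766306 : sm gf N57533 = N56360 := ded_48_1 (flp_i L754365) L754348 L766295
theorem L766308 : sm gg N57533 = N56538 := ded_51_1 (flp_i L756256) (flp_g L754363) L766295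
theorem L766310 : sm gj N57533 = N56368 := ded_53_1 (flp_i L754460) (flp_j L754358) L766295
theorem L766312 : sm gh N56360 = N57534 := rfl
theorem L766314 : sm ga N57534 = N56884 := ded_17_1 (flp_h L759602) (flp_a L754367) L766312
theorem L766316 : sm gc N57534 = N56363 := ded_32_1 (flp_h L754401) (flp_c L754369) L766312
theorem L766318 : sm ge N57534 = N56361 := ded_43_1 (flp_h L754377) (flp_e L754371) L766312
theorem L766320 : sm gg N57534 = N56896 := ded_50_1 (flp_h L759686) (flp_g L754373) L766312
theorem L766322 : sm gj N57534 = N56369 := ded_52_1 (flp_h L754469) (flp_j L754375) L766312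
theorem L766324 : sm gi N57534 = N56577 := ded_54_2 (flp_h L756677) (flp_i L742620) (flp_h L739901) L754365 L766312
theorem L766326 : sm gd N56361 = N57535 := rfl
theorem L766328 : sm ga N57535 = N56921 := ded_12_1 (flp_d L759852) (flp_a L754379) L766326
theorem L766330 : sm gf N57535 = N57535 := ded_35_2 (flp_d L766326) L754383 L766326
theorem L766331 : sm gg N57535 = N56914 := ded_36_2 (flp_d L759807) (flp_g L754384) L766326
theorem L766333 : sm gj N57535 = N56370 := ded_37_2 (flp_d L754479) (flp_j L754386) L766326
theorem L766335 : sm gi N57535 = N56578 := ded_39_2 (flp_d L756687) (flp_i L754388) L766326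
theorem L766337 : sm gh N57535 = N57535 := ded_38_2 (flp_d L766326) (flp_h L754377) L739909 L754377 L766326
theorem L766338 : sm gh N56362 = N57536 := rfl
theorem L766340 : sm gb N57536 = N56957 := ded_25_1 (flp_h L760099) (flp_b L754392) L766338
theorem L766342 : sm ge N57536 = N57536 := ded_43_1 (flp_h L766338) L754396 L766338
theorem L766343 : sm gf N57536 = N56363 := ded_47_1 (flp_h L754401) (flp_f L754397) L766338
theorem L766345 : sm gj N57536 = N56371 := ded_52_1 (flp_h L754487) (flp_j L754399) L766338
theorem L766347 : sm gi N57536 = N56580 := ded_54_2 (flp_h L756707) (flp_i L742650) (flp_h L739923) L754390 L766338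
theorem L766349 : sm gd N56363 = N57537 := rfl
theorem L766351 : sm gb N57537 = N57122 := ded_20_1 (flp_d L761128) (flp_b L754403) L766349
theorem L766353 : sm gg N57537 = N56903 := ded_36_2 (flp_d L759720) (flp_g L754407) L766349
theorem L766355 : sm gj N57537 = N56372 := ded_37_2 (flp_d L754498) (flp_j L754409) L766349
theorem L766357 : sm gi N57537 = N56581 := ded_39_2 (flp_d L756714) (flp_i L754411) L766349
theorem L766359 : sm gh N57537 = N56379 := ded_38_2 (flp_d L754587) (flp_h L740094) (flp_d L739930) L754401 L766349
theorem L766361 : sm gh N56364 = N57538 := rfl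
theorem L766363 : sm gb N57538 = N56369 := ded_25_1 (flp_h L754469) (flp_b L754415) L766361
theorem L766365 : sm gc N57538 = N56801 := ded_32_1 (flp_h L758864) (flp_c L754417) L766361
theorem L766367 : sm ge N57538 = N56365 := ded_43_1 (flp_h L754423) (flp_e L754419) L766361
theorem L766369 : sm gg N57538 = N56868 := ded_50_1 (flp_h L759467) (flp_g L754421) L766361
theorem L766371 : sm gi N57538 = N56586 := ded_54_2 (flp_h L756774) (flp_i L742717) (flp_h L739957) L754413 L766361
theorem L766373 : sm gd N56365 = N57539 := rfl
theorem L766375 : sm gb N57539 = N56370 := ded_20_1 (flp_d L754479) (flp_b L754425) L766373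
theorem L766377 : sm gf N57539 = N57539 := ded_35_2 (flp_d L766373) L754429 L766373
theorem L766378 : sm gg N57539 = N56909 := ded_36_2 (flp_d L759766) (flp_g L754430) L766373
theorem L766380 : sm gi N57539 = N56587 := ded_39_2 (flp_d L756782) (flp_i L754432) L766373
theorem L766382 : sm gh N57539 = N57539 := ded_38_2 (flp_d L766373) (flp_h L754423) L739965 L754423 L766373
theorem L766383 : sm gi N56366 = N57540 := rfl
theorem L766385 : sm ga N57540 = N56842 := ded_18_1 (flp_i L759252) (flp_a L754436) L766383
theorem L766387 : sm gb N57540 = N56675 := ded_26_1 (flp_i L757668) (flp_b L754438) L766383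
theorem L766389 : sm gc N57540 = N56383 := ded_33_1 (flp_i L754645) (flp_c L754440) L766383
theorem L766391 : sm gd N57540 = N56589 := ded_39_1 (flp_i L756807) (flp_d L754449) L766383
theorem L766393 : sm ge N57540 = N57540 := ded_44_1 (flp_i L766383) L754442 L766383
theorem L766394 : sm gf N57540 = N56786 := ded_48_1 (flp_i L758702) (flp_f L754443) L766383
theorem L766396 : sm gg N57540 = N56871 := ded_51_1 (flp_i L759497) (flp_g L754445) L766383
theorem L766398 : sm gj N57540 = N56668 := ded_53_1 (flp_i L757600) (flp_j L754447) L766383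
theorem L766400 : sm gh N56367 = N57541 := rfl
theorem L766402 : sm gc N57541 = N56384 := ded_32_1 (flp_h L754652) (flp_c L754453) L766400
theorem L766404 : sm ge N57541 = N57541 := ded_43_1 (flp_h L766400) L754457 L766400
theorem L766405 : sm gg N57541 = N56872 := ded_50_1 (flp_h L759508) (flp_g L754458) L766400
theorem L766407 : sm gh N56368 = N57542 := rfl
theorem L766409 : sm gc N57542 = N56371 := ded_32_1 (flp_h L754487) (flp_c L754462) L766407
theorem L766411 : sm ge N57542 = N57542 := ded_43_1 (flp_h L766407) L754464 L766407
theorem L766412 : sm gf N57542 = N56369 := ded_47_1 (flp_h L754469) (flp_f L754465) L766407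
theorem L766414 : sm gg N57542 = N56863 := ded_50_1 (flp_h L759438) (flp_g L754467) L766407
theorem L766416 : sm gi N57542 = N56592 := ded_54_2 (flp_h L756844) (flp_i L742787) (flp_h L739980) L754460 L766407
theorem L766418 : sm gd N56369 = N57543 := rfl
theorem L766420 : sm gg N57543 = N56875 := ded_36_2 (flp_d L759531) (flp_g L754475) L766418
theorem L766422 : sm gi N57543 = N56593 := ded_39_2 (flp_d L756851) (flp_i L754477) L766418
theorem L766424 : sm ge N56370 = N57544 := rfl
theorem L766426 : sm gg N57544 = N56910 := ded_41_2 (flp_e L759777) (flp_g L754482) L766424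
theorem L766428 : sm gh N57544 = N57544 := ded_43_2 (flp_e L766424) L754486 L766424
theorem L766429 : sm gi N57544 = N56594 := ded_44_2 (flp_e L756855) (flp_i L754484) L766424
theorem L766431 : sm gd N56371 = N57545 := rfl
theorem L766433 : sm gb N57545 = N57109 := ded_20_1 (flp_d L761039) (flp_b L754489) L766431
theorem L766435 : sm gf N57545 = N56372 := ded_35_2 (flp_d L754498) (flp_f L754492) L766431
theorem L766437 : sm gg N57545 = N56866 := ded_36_2 (flp_d L759457) (flp_g L754494) L766431
theorem L766439 : sm gi N57545 = N56596 := ded_39_2 (flp_d L756872) (flp_i L754496) L766431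
theorem L766441 : sm gh N57545 = N56389 := ded_38_2 (flp_d L754694) (flp_h L740204) (flp_d L740006) L754487 L766431
theorem L766443 : sm gc N56372 = N57546 := rfl
theorem L766445 : sm gg N57546 = N56879 := ded_30_2 (flp_c L759559) (flp_g L754502) L766443
theorem L766447 : sm gh N57546 = N56390 := ded_32_2 (flp_c L754700) (flp_h L754506) L766443
theorem L766449 : sm gi N57546 = N56597 := ded_33_2 (flp_c L756878) (flp_i L754504) L766443
theorem L766451 : sm gd N56373 = N57547 := rfl
theorem L766453 : sm gb N57547 = N56997 := ded_20_1 L760345 (flp_b L754510) L766451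
theorem L766455 : sm gg N57547 = N56379 := ded_36_2 (flp_d L754587) (flp_g L754514) L766451
theorem L766457 : sm gj N57547 = N56761 := ded_37_2 (flp_d L758452) (flp_j L754516) L766451
theorem L766459 : sm gi N57547 = N56399 := ded_39_2 (flp_d L754782) (flp_i L754518) L766451
theorem L766461 : sm ge N57547 = N56988 := ded_34_2 (flp_d L760291) L746919 (flp_d L740045) (flp_e L754512) L766451
theorem L766463 : sm gh N57547 = N56903 := ded_38_2 (flp_d L759720) (flp_h L746146) (flp_d L740027) L754508 L766451
theorem L766465 : sm gi N56374 = N57548 := rfl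
theorem L766467 : sm ga N57548 = N56599 := ded_18_1 (flp_i L756898) (flp_a L754522) L766465
theorem L766469 : sm gb N57548 = N56933 := ded_26_1 (flp_i L759954) (flp_b L754524) L766465
theorem L766471 : sm gc N57548 = N56668 := ded_33_1 (flp_i L757600) (flp_c L754526) L766465
theorem L766473 : sm gd N57548 = N56402 := ded_39_1 (flp_i L754820) (flp_d L754535) L766465
theorem L766475 : sm ge N57548 = N57548 := ded_44_1 (flp_i L766465) L754528 L766465
theorem L766476 : sm gf N57548 = N56524 := ded_48_1 (flp_i L756098) (flp_f L754529) L766465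
theorem L766478 : sm gg N57548 = N56522 := ded_51_1 (flp_i L756067) (flp_g L754531) L766465
theorem L766480 : sm gj N57548 = N56383 := ded_53_1 (flp_i L754645) (flp_j L754533) L766465
theorem L766482 : sm gh N56375 = N57549 := rfl
theorem L766484 : sm ga N57549 = N56645 := ded_17_1 (flp_h L757403) (flp_a L754539) L766482
theorem L766486 : sm gb N57549 = N56934 := ded_25_1 (flp_h L759961) (flp_b L754541) L766482
theorem L766488 : sm ge N57549 = N57549 := ded_43_1 (flp_h L766482) L754545 L766482
theorem L766489 : sm gf N57549 = N56543 := ded_47_1 (flp_h L756321) (flp_f L754546) L766482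
theorem L766491 : sm gg N57549 = N56536 := ded_50_1 (flp_h L756239) (flp_g L754548) L766482
theorem L766493 : sm gj N57549 = N56384 := ded_52_1 (flp_h L754652) (flp_j L754550) L766482
theorem L766495 : sm gd N56376 = N57550 := rfl
theorem L766497 : sm gb N57550 = N56935 := ded_20_1 (flp_d L759964) (flp_b L754554) L766495
theorem L766499 : sm gj N57550 = N56386 := ded_37_2 (flp_d L754669) (flp_j L754560) L766495
theorem L766501 : sm gi N57550 = N56405 := ded_39_2 (flp_d L754856) (flp_i L754562) L766495
theorem L766503 : sm ge N56377 = N57551 := rfl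
theorem L766505 : sm gb N57551 = N56936 := ded_21_1 (flp_e L759968) (flp_b L754566) L766503
theorem L766507 : sm gj N57551 = N56387 := ded_42_2 (flp_e L754675) (flp_j L754570) L766503
theorem L766509 : sm gh N57551 = N57551 := ded_43_2 (flp_e L766503) L754574 L766503
theorem L766510 : sm gi N57551 = N56406 := ded_44_2 (flp_e L754862) (flp_i L754572) L766503
theorem L766512 : sm gd N56378 = N57552 := rfl
theorem L766514 : sm gb N57552 = N56958 := ded_20_1 (flp_d L760108) (flp_b L754577) L766512
theorem L766516 : sm gf N57552 = N56379 := ded_35_2 (flp_d L754587) (flp_f L754581) L766512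
theorem L766518 : sm gj N57552 = N56389 := ded_37_2 (flp_d L754694) (flp_j L754583) L766512
theorem L766520 : sm gi N57552 = N56407 := ded_39_2 (flp_d L754870) (flp_i L754585) L766512
theorem L766522 : sm gc N56379 = N57553 := rfl
theorem L766524 : sm gj N57553 = N56390 := ded_31_2 (flp_c L754700) (flp_j L754589) L766522
theorem L766526 : sm gi N57553 = N56408 := ded_33_2 (flp_c L754880) (flp_i L754591) L766522
theorem L766528 : sm gh N56380 = N57554 := rfl
theorem L766530 : sm ga N57554 = N56941 := ded_17_1 (flp_h L760005) (flp_a L754595) L766528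
theorem L766532 : sm gb N57554 = N56384 := ded_25_1 (flp_h L754652) (flp_b L754597) L766528
theorem L766534 : sm gc N57554 = N56473 := ded_32_1 (flp_h L755542) (flp_c L754599) L766528
theorem L766536 : sm ge N57554 = N57554 := ded_43_1 (flp_h L766528) L754603 L766528
theorem L766537 : sm gf N57554 = N56471 := ded_47_1 (flp_h L755521) (flp_f L754604) L766528
theorem L766539 : sm gg N57554 = N56484 := ded_50_1 (flp_h L755672) (flp_g L754606) L766528
theorem L766541 : sm gj N57554 = N56934 := ded_52_1 (flp_h L759961) (flp_j L754608) L766528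
theorem L766543 : sm gd N56381 = N57555 := rfl
theorem L766545 : sm ga N57555 = N56944 := ded_12_1 (flp_d L760026) (flp_a L754612) L766543
theorem L766547 : sm gb N57555 = N56386 := ded_20_1 (flp_d L754669) (flp_b L754614) L766543
theorem L766549 : sm gf N57555 = N56927 := ded_35_2 (flp_d L759908) (flp_f L754620) L766543
theorem L766551 : sm gg N57555 = N56967 := ded_36_2 (flp_d L760167) (flp_g L754622) L766543
theorem L766553 : sm gj N57555 = N56935 := ded_37_2 (flp_d L759964) (flp_j L754624) L766543
theorem L766555 : sm gi N57555 = N56415 := ded_39_2 (flp_d L754975) (flp_i L754626) L766543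
theorem L766557 : sm ge N56382 = N57556 := rfl
theorem L766559 : sm ga N57556 = N56950 := ded_13_1 (flp_e L760058) (flp_a L754630) L766557
theorem L766561 : sm gb N57556 = N56387 := ded_21_1 (flp_e L754675) (flp_b L754632) L766557
theorem L766563 : sm gc N57556 = N56766 := ded_28_1 (flp_e L758500) (flp_c L754642) L766557
theorem L766565 : sm gg N57556 = N56968 := ded_41_2 (flp_e L760173) (flp_g L754636) L766557
theorem L766567 : sm gj N57556 = N56936 := ded_42_2 (flp_e L759968) (flp_j L754638) L766557
theorem L766569 : sm gh N57556 = N57556 := ded_43_2 (flp_e L766557) L754644 L766557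
theorem L766570 : sm gi N57556 = N56416 := ded_44_2 (flp_e L754983) (flp_i L754640) L766557
theorem L766572 : sm gh N56383 = N57557 := rfl
theorem L766574 : sm ge N57557 = N57557 := ded_43_1 (flp_h L766572) L754649 L766572
theorem L766575 : sm gg N57557 = N56969 := ded_50_1 (flp_h L760180) (flp_g L754650) L766572
theorem L766577 : sm gi N57557 = N56384 := ded_54_2 (flp_h L754652) (flp_i L740156) L740149 L754645 L766572
theorem L766579 : sm gd N56384 = N57558 := rfl
theorem L766581 : sm gg N57558 = N56970 := ded_36_2 (flp_d L760185) (flp_g L754655) L766579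
theorem L766583 : sm gh N57558 = N56386 := ded_38_2 (flp_d L754669) (flp_h L740173) (flp_d L740158) L754652 L766579
theorem L766585 : sm gd N56385 = N57559 := rfl
theorem L766587 : sm gb N57559 = N56927 := ded_20_1 (flp_d L759908) (flp_b L754659) L766585
theorem L766589 : sm gf N57559 = N56386 := ded_35_2 (flp_d L754669) (flp_f L754665) L766585
theorem L766591 : sm gi N57559 = N56422 := ded_39_2 (flp_d L755035) (flp_i L754667) L766585
theorem L766593 : sm gc N56386 = N57560 := rfl
theorem L766595 : sm gg N57560 = N56971 := ded_30_2 (flp_c L760189) (flp_g L754671) L766593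
theorem L766597 : sm gi N57560 = N56423 := ded_33_2 (flp_c L755039) (flp_i L754673) L766593
theorem L766599 : sm gd N57560 = N56390 := ded_27_2 (flp_c L754700) (flp_d L740212) (flp_c L740175) L754669 L766593
theorem L766601 : sm ge N56386 = N57561 := rfl
theorem L766603 : sm gg N57561 = N56972 := ded_41_2 (flp_e L760195) (flp_g L754671) L766601
theorem L766605 : sm gi N57561 = N56424 := ded_44_2 (flp_e L755045) (flp_i L754673) L766601
theorem L766607 : sm gd N57561 = N56387 := ded_34_1 (flp_e L754675) (flp_d L740183) (flp_e L740177) L754669 L766601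
theorem L766609 : sm gf N56387 = N57562 := rfl
theorem L766611 : sm gh N57562 = N57562 := ded_47_2 (flp_f L766609) L754679 L766609
theorem L766612 : sm gi N57562 = N56425 := ded_48_2 (flp_f L755051) (flp_i L754680) L766609
theorem L766614 : sm ge N57562 = N56394 := ded_40_1 (flp_f L754748) (flp_e L740287) (flp_f L740185) L754675 L766609
theorem L766616 : sm gd N56388 = N57563 := rfl
theorem L766618 : sm gb N57563 = N56978 := ded_20_1 (flp_d L760231) (flp_b L754684) L766616
theorem L766620 : sm gf N57563 = N56751 := ded_35_2 (flp_d L758345) (flp_f L754688) L766616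
theorem L766622 : sm gg N57563 = N56389 := ded_36_2 (flp_d L754694) (flp_g L754690) L766616
theorem L766624 : sm gi N57563 = N56427 := ded_39_2 (flp_d L755065) (flp_i L754692) L766616
theorem L766626 : sm gh N57563 = N56866 := ded_38_2 (flp_d L759457) (flp_h L745883) (flp_d L740196) L754682 L766616
theorem L766628 : sm gc N56389 = N57564 := rfl
theorem L766630 : sm gf N57564 = N56390 := ded_29_2 (flp_c L754700) (flp_f L754696) L766628
theorem L766632 : sm gi N57564 = N56428 := ded_33_2 (flp_c L755073) (flp_i L754698) L766628
theorem L766634 : sm ge N56389 = N57565 := rfl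
theorem L766636 : sm gi N57565 = N56429 := ded_44_2 (flp_e L755079) (flp_i L754698) L766634
theorem L766638 : sm gd N57565 = N56397 := ded_34_1 (flp_e L754771) (flp_d L740302) (flp_e L740206) L754694 L766634
theorem L766640 : sm gb N56390 = N57566 := rfl
theorem L766642 : sm gg N57566 = N56974 := ded_23_2 (flp_b L760208) (flp_g L754702) L766640
theorem L766644 : sm gi N57566 = N56430 := ded_26_2 (flp_b L755085) (flp_i L754704) L766640
theorem L766646 : sm ge N56391 = N57567 := rfl
theorem L766648 : sm gb N57567 = N56959 := ded_21_1 (flp_e L760114) (flp_b L754708) L766646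
theorem L766650 : sm gj N57567 = N56397 := ded_42_2 (flp_e L754771) (flp_j L754712) L766646
theorem L766652 : sm gh N57567 = N57567 := ded_43_2 (flp_e L766646) L754716 L766646
theorem L766653 : sm gi N57567 = N56432 := ded_44_2 (flp_e L755100) (flp_i L754714) L766646
theorem L766655 : sm gf N56392 = N57568 := rfl
theorem L766657 : sm ga N57568 = N56951 := ded_14_1 (flp_f L760061) (flp_a L754719) L766655
theorem L766659 : sm gb N57568 = N56394 := ded_22_1 (flp_f L754748) (flp_b L754721) L766655
theorem L766661 : sm gc N57568 = N56395 := ded_29_1 L754755 (flp_c L754723) L766655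
theorem L766663 : sm gd N57568 = N56930 := ded_35_1 (flp_f L759928) (flp_d L754732) L766655
theorem L766665 : sm gj N57568 = N56938 := ded_46_2 (flp_f L759981) (flp_j L754727) L766655
theorem L766667 : sm gh N57568 = N57568 := ded_47_2 (flp_f L766655) L754729 L766655
theorem L766668 : sm gi N57568 = N56435 := ded_48_2 (flp_f L755140) (flp_i L754730) L766655
theorem L766670 : sm gg N57568 = N56396 := ded_45_2 L754766 L740311 (flp_f L740329) (flp_g L754725) L766655
theorem L766672 : sm ge N56393 = N57569 := rfl
theorem L766674 : sm ga N57569 = N57001 := ded_13_1 L760361 (flp_a L754736) L766672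
theorem L766676 : sm gb N57569 = N56928 := ded_21_1 (flp_e L759912) (flp_b L754738) L766672
theorem L766678 : sm gg N57569 = N56965 := ded_41_2 L760161 (flp_g L754742) L766672
theorem L766680 : sm gh N57569 = N56931 := ded_43_2 (flp_e L759936) (flp_h L754746) L766672
theorem L766682 : sm gi N57569 = N56438 := ded_44_2 (flp_e L755170) (flp_i L754744) L766672
theorem L766684 : sm ge N56395 = N57570 := rfl
theorem L766686 : sm gg N57570 = N56397 := ded_41_2 (flp_e L754771) (flp_g L754757) L766684
theorem L766688 : sm gj N57570 = N56973 := ded_42_2 L760206 (flp_j L754759) L766684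
theorem L766690 : sm gh N57570 = N57570 := ded_43_2 (flp_e L766684) L754763 L766684
theorem L766691 : sm gi N57570 = N56441 := ded_44_2 (flp_e L755186) (flp_i L754761) L766684
theorem L766693 : sm gf N57570 = N56766 := ded_40_2 (flp_e L758500) L744762 (flp_e L740339) (flp_f L754755) L766684
theorem L766695 : sm ge N56396 = N57571 := rfl
theorem L766697 : sm gc N57571 = N56397 := ded_28_1 (flp_e L754771) L754764 L766695
theorem L766699 : sm gh N57571 = N57571 := ded_43_2 (flp_e L766695) L754768 L766695
theorem L766700 : sm gi N57571 = N56442 := ded_44_2 (flp_e L755196) (flp_i L754769) L766695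
theorem L766702 : sm gd N56398 = N57572 := rfl
theorem L766704 : sm gf N57572 = N56399 := ded_35_2 (flp_d L754782) (flp_f L754778) L766702
theorem L766706 : sm gj N57572 = N56978 := ded_37_2 (flp_d L760231) (flp_j L754780) L766702
theorem L766708 : sm gh N57572 = N56646 := ded_38_2 (flp_d L757410) (flp_h L743433) (flp_d L740344) L754776 L766702
theorem L766710 : sm gc N56399 = N57573 := rfl
theorem L766712 : sm gg N57573 = N56408 := ded_30_2 (flp_c L754880) (flp_g L754784) L766710
theorem L766714 : sm gj N57573 = N56979 := ded_31_2 (flp_c L760237) (flp_j L754786) L766710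
theorem L766716 : sm gh N57573 = N56647 := ded_32_2 (flp_c L757416) (flp_h L754788) L766710
theorem L766718 : sm gi N56400 = N57574 := rfl
theorem L766720 : sm ga N57574 = N56579 := ded_18_1 (flp_i L756696) (flp_a L754792) L766718
theorem L766722 : sm gb N57574 = N56940 := ded_26_1 (flp_i L759996) (flp_b L754794) L766718
theorem L766724 : sm gc N57574 = N56653 := ded_33_1 (flp_i L757482) (flp_c L754796) L766718
theorem L766726 : sm gd N57574 = N56524 := ded_39_1 (flp_i L756098) (flp_d L754805) L766718
theorem L766728 : sm ge N57574 = N57574 := ded_44_1 (flp_i L766718) L754798 L766718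
theorem L766729 : sm gf N57574 = N56402 := ded_48_1 (flp_i L754820) (flp_f L754799) L766718
theorem L766731 : sm gg N57574 = N56515 := ded_51_1 (flp_i L755977) (flp_g L754801) L766718
theorem L766733 : sm gj N57574 = N56417 := ded_53_1 (flp_i L754995) (flp_j L754803) L766718
theorem L766735 : sm gh N56401 = N57575 := rfl
theorem L766737 : sm gb N57575 = N56941 := ded_25_1 (flp_h L760005) (flp_b L754809) L766735
theorem L766739 : sm gc N57575 = N56654 := ded_32_1 (flp_h L757497) (flp_c L754811) L766735
theorem L766741 : sm ge N57575 = N57575 := ded_43_1 (flp_h L766735) L754815 L766735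
theorem L766742 : sm gf N57575 = N56403 := ded_47_1 (flp_h L754834) (flp_f L754816) L766735
theorem L766744 : sm gj N57575 = N56418 := ded_52_1 (flp_h L755002) (flp_j L754818) L766735
theorem L766746 : sm gh N56402 = N57576 := rfl
theorem L766748 : sm ga N57576 = N57082 := ded_17_1 (flp_h L760861) (flp_a L754822) L766746
theorem L766750 : sm gb N57576 = N56942 := ded_25_1 (flp_h L760012) (flp_b L754824) L766746
theorem L766752 : sm gc N57576 = N56655 := ded_32_1 (flp_h L757504) (flp_c L754826) L766746
theorem L766754 : sm ge N57576 = N56446 := ded_43_1 (flp_h L755230) (flp_e L754828) L766746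
theorem L766756 : sm gg N57576 = N57021 := ded_50_1 (flp_h L760485) (flp_g L754830) L766746
theorem L766758 : sm gj N57576 = N56419 := ded_52_1 (flp_h L755009) (flp_j L754832) L766746
theorem L766760 : sm gi N57576 = N56403 := ded_54_2 (flp_h L754834) (flp_i L740383) L740369 L754820 L766746
theorem L766762 : sm gd N56403 = N57577 := rfl
theorem L766764 : sm gb N57577 = N56943 := ded_20_1 (flp_d L760022) (flp_b L754836) L766762
theorem L766766 : sm gj N57577 = N56420 := ded_37_2 (flp_d L755019) (flp_j L754842) L766762
theorem L766768 : sm gh N57577 = N56405 := ded_38_2 (flp_d L754856) (flp_h L740407) (flp_d L740389) L754834 L766762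
theorem L766770 : sm gd N56404 = N57578 := rfl
theorem L766772 : sm gb N57578 = N56944 := ded_20_1 (flp_d L760026) (flp_b L754846) L766770
theorem L766774 : sm gf N57578 = N56405 := ded_35_2 (flp_d L754856) (flp_f L754852) L766770
theorem L766776 : sm gj N57578 = N56422 := ded_37_2 (flp_d L755035) (flp_j L754854) L766770
theorem L766778 : sm gc N56405 = N57579 := rfl
theorem L766780 : sm gj N57579 = N56423 := ded_31_2 (flp_c L755039) (flp_j L754860) L766778
theorem L766782 : sm gd N57579 = N56408 := ded_27_2 (flp_c L754880) (flp_d L740437) (flp_c L740411) L754856 L766778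
theorem L766784 : sm ge N56405 = N57580 := rfl
theorem L766786 : sm gb N57580 = N56946 := ded_21_1 (flp_e L760034) (flp_b L754858) L766784
theorem L766788 : sm gj N57580 = N56424 := ded_42_2 (flp_e L755045) (flp_j L754860) L766784
theorem L766790 : sm gd N57580 = N56406 := ded_34_1 (flp_e L754862) (flp_d L740417) (flp_e L740413) L754856 L766784
theorem L766792 : sm gc N56407 = N57581 := rfl
theorem L766794 : sm gf N57581 = N56408 := ded_29_2 (flp_c L754880) (flp_f L754874) L766792
theorem L766796 : sm gj N57581 = N56428 := ded_31_2 (flp_c L755073) (flp_j L754876) L766792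
theorem L766798 : sm gh N57581 = N56664 := ded_32_2 (flp_c L757578) (flp_h L754878) L766792
theorem L766800 : sm ge N56407 = N57582 := rfl
theorem L766802 : sm gb N57582 = N56964 := ded_21_1 (flp_e L760149) (flp_b L754872) L766800
theorem L766804 : sm gj N57582 = N56429 := ded_42_2 (flp_e L755079) (flp_j L754876) L766800
theorem L766806 : sm gh N57582 = N56665 := ded_43_2 (flp_e L757584) (flp_h L754878) L766800
theorem L766808 : sm gd N57582 = N56432 := ded_34_1 (flp_e L755100) (flp_d L740675) (flp_e L740431) L754870 L766800
theorem L766810 : sm gb N56408 = N57583 := rfl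
theorem L766812 : sm gj N57583 = N56430 := ded_24_2 (flp_b L755085) (flp_j L754882) L766810
theorem L766814 : sm gh N57583 = N56666 := ded_25_2 (flp_b L757590) (flp_h L754884) L766810
theorem L766816 : sm gh N56409 = N57584 := rfl
theorem L766818 : sm ga N57584 = N56413 := ded_17_1 (flp_h L754947) (flp_a L754888) L766816
theorem L766820 : sm gb N57584 = N56543 := ded_25_1 (flp_h L756321) (flp_b L754890) L766816
theorem L766822 : sm gc N57584 = N56470 := ded_32_1 (flp_h L755513) (flp_c L754892) L766816
theorem L766824 : sm ge N57584 = N56449 := ded_43_1 (flp_h L755263) (flp_e L754896) L766816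
theorem L766826 : sm gf N57584 = N56934 := ded_47_1 (flp_h L759961) (flp_f L754898) L766816
theorem L766828 : sm gg N57584 = N56493 := ded_50_1 (flp_h L755781) (flp_g L754900) L766816
theorem L766830 : sm gj N57584 = N56471 := ded_52_1 (flp_h L755521) (flp_j L754902) L766816
theorem L766832 : sm gd N56410 = N57585 := rfl
theorem L766834 : sm ga N57585 = N56415 := ded_12_1 (flp_d L754975) (flp_a L754906) L766832
theorem L766836 : sm gf N57585 = N56935 := ded_35_2 (flp_d L759964) (flp_f L754912) L766832
theorem L766838 : sm gg N57585 = N56985 := ded_36_2 (flp_d L760275) (flp_g L754914) L766832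
theorem L766840 : sm gj N57585 = N56927 := ded_37_2 (flp_d L759908) (flp_j L754916) L766832
theorem L766842 : sm gi N57585 = N56944 := ded_39_2 (flp_d L760026) (flp_i L754918) L766832
theorem L766844 : sm gh N56411 = N57586 := rfl
theorem L766846 : sm ga N57586 = N56934 := ded_17_1 (flp_h L759961) (flp_a L754922) L766844
theorem L766848 : sm gb N57586 = N56418 := ded_25_1 (flp_h L755002) (flp_b L754924) L766844
theorem L766850 : sm gc N57586 = N57023 := ded_32_1 (flp_h L760503) (flp_c L754926) L766844
theorem L766852 : sm ge N57586 = N57586 := ded_43_1 (flp_h L766844) L754930 L766844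
theorem L766853 : sm gf N57586 = N56413 := ded_47_1 (flp_h L754947) (flp_f L754931) L766844
theorem L766855 : sm gj N57586 = N56941 := ded_52_1 (flp_h L760005) (flp_j L754933) L766844
theorem L766857 : sm gh N56412 = N57587 := rfl
theorem L766859 : sm gb N57587 = N56419 := ded_25_1 (flp_h L755009) (flp_b L754937) L766857
theorem L766861 : sm gc N57587 = N56507 := ded_32_1 (flp_h L755914) (flp_c L754939) L766857
theorem L766863 : sm ge N57587 = N56451 := ded_43_1 (flp_h L755290) (flp_e L754941) L766857
theorem L766865 : sm gg N57587 = N56508 := ded_50_1 (flp_h L755926) (flp_g L754943) L766857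
theorem L766867 : sm gj N57587 = N56942 := ded_52_1 (flp_h L760012) (flp_j L754945) L766857
theorem L766869 : sm gi N57587 = N56413 := ded_54_2 (flp_h L754947) (flp_i L740512) L740500 L754935 L766857
theorem L766871 : sm gd N56413 = N57588 := rfl
theorem L766873 : sm gb N57588 = N56420 := ded_20_1 (flp_d L755019) (flp_b L754949) L766871
theorem L766875 : sm gg N57588 = N56987 := ded_36_2 (flp_d L760285) (flp_g L754955) L766871
theorem L766877 : sm gj N57588 = N56943 := ded_37_2 (flp_d L760022) (flp_j L754957) L766871
theorem L766879 : sm gh N57588 = N56415 := ded_38_2 (flp_d L754975) (flp_h L740540) (flp_d L740518) L754947 L766871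
theorem L766881 : sm gd N56414 = N57589 := rfl
theorem L766883 : sm ga N57589 = N56935 := ded_12_1 (flp_d L759964) (flp_a L754961) L766881
theorem L766885 : sm gb N57589 = N56422 := ded_20_1 (flp_d L755035) (flp_b L754963) L766881
theorem L766887 : sm gf N57589 = N56415 := ded_35_2 (flp_d L754975) (flp_f L754969) L766881
theorem L766889 : sm gj N57589 = N56944 := ded_37_2 (flp_d L760026) (flp_j L754971) L766881
theorem L766891 : sm gi N57589 = N56927 := ded_39_2 (flp_d L759908) (flp_i L754973) L766881
theorem L766893 : sm gc N56415 = N57590 := rfl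
theorem L766895 : sm gg N57590 = N56989 := ded_30_2 (flp_c L760297) (flp_g L754979) L766893
theorem L766897 : sm gj N57590 = N56945 := ded_31_2 (flp_c L760030) (flp_j L754981) L766893
theorem L766899 : sm gd N57590 = N56939 := ded_27_2 (flp_c L759988) (flp_d L746572) (flp_c L740544) L754975 L766893
theorem L766901 : sm ge N56415 = N57591 := rfl
theorem L766903 : sm gb N57591 = N56424 := ded_21_1 (flp_e L755045) (flp_b L754977) L766901
theorem L766905 : sm gg N57591 = N56990 := ded_41_2 (flp_e L760299) (flp_g L754979) L766901
theorem L766907 : sm gj N57591 = N56946 := ded_42_2 (flp_e L760034) (flp_j L754981) L766901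
theorem L766909 : sm gd N57591 = N56416 := ded_34_1 (flp_e L754983) (flp_d L740552) (flp_e L740546) L754975 L766901
theorem L766911 : sm gf N56416 = N57592 := rfl
theorem L766913 : sm gb N57592 = N56425 := ded_22_1 (flp_f L755051) (flp_b L754985) L766911
theorem L766915 : sm gc N57592 = N56441 := ded_29_1 L755194 (flp_c L754987) L766911
theorem L766917 : sm gj N57592 = N56947 := ded_46_2 (flp_f L760038) (flp_j L754991) L766911
theorem L766919 : sm gh N57592 = N56443 := ded_47_2 L755213 (flp_h L754993) L766911
theorem L766921 : sm ge N57592 = N56435 := ded_40_1 (flp_f L755140) (flp_e L740714) (flp_f L740556) L754983 L766911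
theorem L766923 : sm gg N57592 = N56442 := ded_45_2 (flp_f L765621) L765615 (flp_f L760305) (flp_g L754989) L766911
theorem L766925 : sm gh N56417 = N57593 := rfl
theorem L766927 : sm gc N57593 = N56678 := ded_32_1 (flp_h L757695) (flp_c L754997) L766925
theorem L766929 : sm ge N57593 = N57593 := ded_43_1 (flp_h L766925) L754999 L766925
theorem L766930 : sm gf N57593 = N56419 := ded_47_1 (flp_h L755009) (flp_f L755000) L766925
theorem L766932 : sm gi N57593 = N56418 := ded_54_2 (flp_h L755002) (flp_i L740573) L740566 L754995 L766925
theorem L766934 : sm gd N56418 = N57594 := rfl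
theorem L766936 : sm gf N57594 = N56420 := ded_35_2 (flp_d L755019) (flp_f L755007) L766934
theorem L766938 : sm gh N57594 = N56422 := ded_38_2 (flp_d L755035) (flp_h L740608) (flp_d L740577) L755002 L766934
theorem L766940 : sm gd N56419 = N57595 := rfl
theorem L766942 : sm gg N57595 = N56992 := ded_36_2 (flp_d L760313) (flp_g L755015) L766940
theorem L766944 : sm gi N57595 = N56420 := ded_39_2 (flp_d L755019) (flp_i L755017) L766940
theorem L766946 : sm gc N56420 = N57596 := rfl
theorem L766948 : sm gg N57596 = N56993 := ded_30_2 (flp_c L760317) (flp_g L755021) L766946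
theorem L766950 : sm gh N57596 = N56423 := ded_32_2 (flp_c L755039) (flp_h L755023) L766946
theorem L766952 : sm gd N57596 = N56681 := ded_27_2 (flp_c L757714) (flp_d L743785) (flp_c L740592) L755019 L766946
theorem L766954 : sm ge N56420 = N57597 := rfl
theorem L766956 : sm gg N57597 = N56994 := ded_41_2 (flp_e L760323) (flp_g L755021) L766954
theorem L766958 : sm gh N57597 = N56424 := ded_43_2 (flp_e L755045) (flp_h L755023) L766954
theorem L766960 : sm gd N57597 = N56456 := ded_34_1 (flp_e L755350) (flp_d L740988) (flp_e L740594) L755019 L766954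
theorem L766962 : sm gd N56421 = N57598 := rfl
theorem L766964 : sm gf N57598 = N56995 := ded_35_2 (flp_d L760329) (flp_f L755031) L766962
theorem L766966 : sm gg N57598 = N56422 := ded_36_2 (flp_d L755035) (flp_g L755033) L766962
theorem L766968 : sm gc N56422 = N57599 := rfl
theorem L766970 : sm gf N57599 = N56423 := ded_29_2 (flp_c L755039) (flp_f L755037) L766968
theorem L766972 : sm gd N57599 = N56428 := ded_27_2 (flp_c L755073) (flp_d L740644) (flp_c L740610) L755035 L766968
theorem L766974 : sm ge N56422 = N57600 := rfl
theorem L766976 : sm gd N57600 = N56438 := ded_34_1 (flp_e L755170) (flp_d L740734) (flp_e L740612) L755035 L766974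
theorem L766978 : sm gb N56423 = N57601 := rfl
theorem L766980 : sm gd N57601 = N56430 := ded_20_2 (flp_b L755085) (flp_d L755043) L766978
theorem L766982 : sm gg N57601 = N56998 := ded_23_2 (flp_b L760347) (flp_g L755041) L766978
theorem L766984 : sm ge N56423 = N57602 := rfl
theorem L766986 : sm gc N57602 = N56424 := ded_28_1 (flp_e L755045) L755039 L766984
theorem L766988 : sm gg N57602 = N56999 := ded_41_2 (flp_e L760351) (flp_g L755041) L766984
theorem L766990 : sm gf N56424 = N57603 := rfl
theorem L766992 : sm gd N57603 = N56425 := ded_35_1 (flp_f L755051) (flp_d L755049) L766990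
theorem L766994 : sm gg N56425 = N57604 := rfl
theorem L766996 : sm gb N57604 = N56442 := ded_23_1 (flp_g L766923) L766913 L766994
theorem L766998 : sm ge N57604 = N56440 := ded_41_1 (flp_g L755178) (flp_e L755055) L766994
theorem L767000 : sm gh N57604 = N56444 := ded_50_2 L755219 (flp_h L755053) L766994
theorem L767002 : sm gf N57604 = N57001 := ded_45_1 (flp_g L760359) (flp_f L746965) (flp_g L740622) L755051 L766994
theorem L767004 : sm gd N56426 = N57605 := rfl
theorem L767006 : sm gf N57605 = N56997 := ded_35_2 L760345 (flp_f L755061) L767004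
theorem L767008 : sm gj N57605 = N56427 := ded_37_2 (flp_d L755065) (flp_j L755063) L767004
theorem L767010 : sm ge N57605 = N57000 := ded_34_2 L760357 L746969 (flp_d L740763) (flp_e L755059) L767004
theorem L767012 : sm gh N57605 = N56690 := ded_38_2 (flp_d L757784) (flp_h L743843) (flp_d L740628) L755057 L767004
theorem L767014 : sm gc N56427 = N57606 := rfl
theorem L767016 : sm gf N57606 = N57002 := ded_29_2 (flp_c L760365) (flp_f L755067) L767014
theorem L767018 : sm gg N57606 = N56428 := ded_30_2 (flp_c L755073) (flp_g L755069) L767014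
theorem L767020 : sm gh N57606 = N56691 := ded_32_2 (flp_c L757790) (flp_h L755071) L767014
theorem L767022 : sm ge N56427 = N57607 := rfl
theorem L767024 : sm gg N57607 = N56429 := ded_41_2 (flp_e L755079) (flp_g L755069) L767022
theorem L767026 : sm gj N57607 = N57000 := ded_42_2 (flp_e L767010) L767008 L767022
theorem L767028 : sm gh N57607 = N56692 := ded_43_2 (flp_e L757796) (flp_h L755071) L767022
theorem L767030 : sm gd N57607 = N56441 := ded_34_1 (flp_e L755186) (flp_d L740765) (flp_e L740638) L755065 L767022
theorem L767032 : sm gf N57607 = N56983 := ded_40_2 (flp_e L760263) (flp_f L748681) L748689 (flp_f L755067) L767022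
theorem L767034 : sm gb N56428 = N57608 := rfl
theorem L767036 : sm gf N57608 = N56430 := ded_22_2 (flp_b L755085) (flp_f L755075) L767034
theorem L767038 : sm gh N57608 = N56693 := ded_25_2 (flp_b L757802) (flp_h L755077) L767034
theorem L767040 : sm ge N56428 = N57609 := rfl
theorem L767042 : sm gc N57609 = N56429 := ded_28_1 (flp_e L755079) L755073 L767040
theorem L767044 : sm gh N57609 = N56694 := ded_43_2 (flp_e L757806) (flp_h L755077) L767040
theorem L767046 : sm ga N56430 = N57610 := rfl
theorem L767048 : sm gg N57610 = N57004 := ded_15_2 (flp_a L760377) (flp_g L755087) L767046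
theorem L767050 : sm gh N57610 = N56695 := ded_17_2 (flp_a L757810) (flp_h L755089) L767046
theorem L767052 : sm ge N56431 = N57611 := rfl
theorem L767054 : sm gb N57611 = N56950 := ded_21_1 (flp_e L760058) (flp_b L755093) L767052
theorem L767056 : sm gj N57611 = N56438 := ded_42_2 (flp_e L755170) (flp_j L755097) L767052
theorem L767058 : sm gh N57611 = N57611 := ded_43_2 (flp_e L767052) L755099 L767052
theorem L767059 : sm ge N56433 = N57612 := rfl
theorem L767061 : sm ga N57612 = N56936 := ded_13_1 (flp_e L759968) (flp_a L755110) L767059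
theorem L767063 : sm gb N57612 = N56438 := ded_21_1 (flp_e L755170) (flp_b L755112) L767059
theorem L767065 : sm gc N57612 = N56959 := ded_28_1 (flp_e L760114) (flp_c L755120) L767059
theorem L767067 : sm gj N57612 = N56950 := ded_42_2 (flp_e L760058) (flp_j L755116) L767059
theorem L767069 : sm gh N57612 = N57612 := ded_43_2 (flp_e L767059) L755122 L767059
theorem L767070 : sm gi N57612 = N56928 := ded_44_2 (flp_e L759912) (flp_i L755118) L767059
theorem L767072 : sm gf N56434 = N57613 := rfl
theorem L767074 : sm ga N57613 = N56938 := ded_14_1 (flp_f L759981) (flp_a L755125) L767072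
theorem L767076 : sm gb N57613 = N56439 := ded_22_1 (flp_f L755173) (flp_b L755127) L767072
theorem L767078 : sm gc N57613 = N56436 := ded_29_1 L755156 (flp_c L755129) L767072
theorem L767080 : sm gd N57613 = N56435 := ded_35_1 (flp_f L755140) (flp_d L755138) L767072
theorem L767082 : sm gj N57613 = N56951 := ded_46_2 (flp_f L760061) (flp_j L755133) L767072
theorem L767084 : sm gh N57613 = N57613 := ded_47_2 (flp_f L767072) L755135 L767072
theorem L767085 : sm gi N57613 = N56930 := ded_48_2 (flp_f L759928) (flp_i L755136) L767072
theorem L767087 : sm gg N57613 = N56437 := ded_45_2 L755165 L740741 (flp_f L740806) (flp_g L755131) L767072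
theorem L767089 : sm ge N56436 = N57614 := rfl
theorem L767091 : sm ga N57614 = N56973 := ded_13_1 L760206 (flp_a L755154) L767089
theorem L767093 : sm gg N57614 = N56438 := ded_41_2 (flp_e L755170) (flp_g L755158) L767089
theorem L767095 : sm gh N57614 = N57614 := ded_43_2 (flp_e L767089) L755162 L767089
theorem L767096 : sm gi N57614 = N56965 := ded_44_2 L760161 (flp_i L755160) L767089
theorem L767098 : sm gf N57614 = N56959 := ded_40_2 (flp_e L760114) L746725 (flp_e L740816) (flp_f L755156) L767089
theorem L767100 : sm ge N56437 = N57615 := rfl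
theorem L767102 : sm gc N57615 = N56438 := ded_28_1 (flp_e L755170) L755163 L767100
theorem L767104 : sm gh N57615 = N57615 := ded_43_2 (flp_e L767100) L755167 L767100
theorem L767105 : sm gf N56438 = N57616 := rfl
theorem L767107 : sm gh N57616 = N57616 := ded_47_2 (flp_f L767105) L755172 L767105
theorem L767108 : sm ge N57616 = N56439 := ded_40_1 (flp_f L755173) (flp_e L740746) (flp_f L740736) L755170 L767105
theorem L767110 : sm gd N56442 = N57617 := rfl
theorem L767112 : sm gd N56443 = N57618 := rfl
theorem L767114 : sm gb N57618 = N56458 := ded_20_1 L755371 (flp_b L755204) L767112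
theorem L767116 : sm gf N57618 = N56453 := ded_35_2 L755327 (flp_f L755213) L767112
theorem L767118 : sm gg N57618 = N56445 := ded_36_2 (flp_d L755224) (flp_g L755208) L767112
theorem L767120 : sm gj N57618 = N56955 := ded_37_2 L760088 (flp_j L755210) L767112
theorem L767122 : sm gi N57618 = N57618 := ded_39_2 (flp_d L767112) L755212 L767112
theorem L767123 : sm gc N57618 = N56730 := ded_27_1 (flp_d L758117) L744214 (flp_d L740847) (flp_c L755206) L767112
theorem L767125 : sm ge N57618 = N57618 := ded_34_2 (flp_d L767112) (flp_e L755202) L740839 L755202 L767112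
theorem L767126 : sm gd N56444 = N57619 := rfl
theorem L767128 : sm gb N57619 = N56445 := ded_20_1 (flp_d L755224) (flp_b L755217) L767126
theorem L767130 : sm gf N57619 = N56722 := ded_35_2 L758053 (flp_f L755222) L767126
theorem L767132 : sm gg N57619 = N56458 := ded_36_2 L755371 (flp_g L755219) L767126
theorem L767134 : sm gj N57619 = N56725 := ded_37_2 (flp_d L766269) L766271 L767126
theorem L767136 : sm gi N57619 = N57619 := ded_39_2 (flp_d L767126) L755221 L767126
theorem L767137 : sm ge N57619 = N57619 := ded_34_2 (flp_d L767126) (flp_e L755215) L740853 L755215 L767126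
theorem L767138 : sm gh N56445 = N57620 := rfl
theorem L767140 : sm gc N57620 = N56733 := ded_32_1 (flp_h L758148) (flp_c L755227) L767138
theorem L767142 : sm ge N57620 = N57620 := ded_43_1 (flp_h L767138) L755229 L767138
theorem L767143 : sm gd N56446 = N57621 := rfl
theorem L767145 : sm ga N57621 = N57165 := ded_12_1 (flp_d L761380) (flp_a L755232) L767143
theorem L767147 : sm gb N57621 = N56953 := ded_20_1 (flp_d L760074) (flp_b L755234) L767143
theorem L767149 : sm gf N57621 = N57621 := ded_35_2 (flp_d L767143) L755238 L767143
theorem L767150 : sm gg N57621 = N57041 := ded_36_2 (flp_d L760613) (flp_g L755239) L767143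
theorem L767152 : sm gj N57621 = N56454 := ded_37_2 (flp_d L755329) (flp_j L755241) L767143
theorem L767154 : sm gi N57621 = N56447 := ded_39_2 (flp_d L755245) (flp_i L755243) L767143
theorem L767156 : sm gh N57621 = N57621 := ded_38_2 (flp_d L767143) (flp_h L755230) L740872 L755230 L767143
theorem L767157 : sm ge N56447 = N57622 := rfl
theorem L767159 : sm gb N57622 = N56954 := ded_21_1 (flp_e L760082) (flp_b L755247) L767157
theorem L767161 : sm gj N57622 = N56456 := ded_42_2 (flp_e L755350) (flp_j L755250) L767157
theorem L767163 : sm gh N57622 = N56448 := ded_43_2 (flp_e L755254) (flp_h L755252) L767157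
theorem L767165 : sm gd N56449 = N57623 := rfl
theorem L767167 : sm ga N57623 = N56452 := ded_12_1 (flp_d L755303) (flp_a L755265) L767165
theorem L767169 : sm gb N57623 = N56561 := ded_20_1 (flp_d L756503) (flp_b L755267) L767165
theorem L767171 : sm gf N57623 = N57623 := ded_35_2 (flp_d L767165) L755271 L767165
theorem L767172 : sm gg N57623 = N56499 := ded_36_2 (flp_d L755827) (flp_g L755272) L767165
theorem L767174 : sm gj N57623 = N56472 := ded_37_2 (flp_d L755531) (flp_j L755274) L767165
theorem L767176 : sm gc N57623 = N56578 := ded_27_1 (flp_d L756687) L742636 (flp_d L741236) (flp_c L755269) L767165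
theorem L767178 : sm gh N57623 = N56450 := ded_38_2 (flp_d L755276) (flp_h L740917) (flp_d L740910) L755263 L767165
theorem L767180 : sm gd N56451 = N57624 := rfl
theorem L767182 : sm gb N57624 = N56454 := ded_20_1 (flp_d L755329) (flp_b L755292) L767180
theorem L767184 : sm gf N57624 = N57624 := ded_35_2 (flp_d L767180) L755296 L767180
theorem L767185 : sm gg N57624 = N56509 := ded_36_2 (flp_d L755938) (flp_g L755297) L767180
theorem L767187 : sm gj N57624 = N56953 := ded_37_2 (flp_d L760074) (flp_j L755299) L767180
theorem L767189 : sm gi N57624 = N56452 := ded_39_2 (flp_d L755303) (flp_i L755301) L767180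
theorem L767191 : sm gc N57624 = N56921 := ded_27_1 (flp_d L759852) (flp_c L753702) L753709 (flp_c L755294) L767180
theorem L767193 : sm gh N57624 = N57624 := ded_38_2 (flp_d L767180) (flp_h L755290) L740939 L755290 L767180
theorem L767194 : sm ge N56452 = N57625 := rfl
theorem L767196 : sm gb N57625 = N56456 := ded_21_1 (flp_e L755350) (flp_b L755305) L767194
theorem L767198 : sm gc N57625 = N56922 := ded_28_1 (flp_e L759860) (flp_c L755312) L767194
theorem L767200 : sm gg N57625 = N57005 := ded_41_2 (flp_e L760381) (flp_g L755308) L767194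
theorem L767202 : sm gj N57625 = N56954 := ded_42_2 (flp_e L760082) (flp_j L755310) L767194
theorem L767204 : sm gh N57625 = N56453 := ded_43_2 (flp_e L755316) (flp_h L755314) L767194
theorem L767206 : sm gc N56454 = N57626 := rfl
theorem L767208 : sm ga N57626 = N57163 := ded_11_1 (flp_c L764139) L764128 L767206
theorem L767210 : sm gf N57626 = N57626 := ded_29_2 (flp_c L767206) L755331 L767206
theorem L767211 : sm gg N57626 = N56844 := ded_30_2 L759287 (flp_g L755332) L767206
theorem L767213 : sm gh N57626 = N57626 := ded_32_2 (flp_c L767206) L755336 L767206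
theorem L767214 : sm gi N57626 = N56455 := ded_33_2 (flp_c L755337) (flp_i L755334) L767206
theorem L767216 : sm gb N57626 = N56840 := ded_19_1 L759239 (flp_b L759854) (flp_c L767191) L767182 L767206
theorem L767218 : sm gd N57626 = N56734 := ded_27_2 (flp_c L758151) (flp_d L744257) (flp_c L740981) L755329 L767206
theorem L767220 : sm ge N56454 = N57627 := rfl
theorem L767222 : sm gg N57627 = N57006 := ded_41_2 (flp_e L760387) (flp_g L755332) L767220
theorem L767224 : sm gh N57627 = N57627 := ded_43_2 (flp_e L767220) L755336 L767220
theorem L767225 : sm gi N57627 = N56456 := ded_44_2 (flp_e L755350) (flp_i L755334) L767220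
theorem L767227 : sm ge N56455 = N57628 := rfl
theorem L767229 : sm ga N57628 = N57164 := ded_13_1 (flp_e L761376) (flp_a L755339) L767227
theorem L767231 : sm gb N57628 = N56865 := ded_21_1 (flp_e L759449) (flp_b L755346) L767227
theorem L767233 : sm gc N57628 = N56456 := ded_28_1 (flp_e L755350) L755337 L767227
theorem L767235 : sm gg N57628 = N56870 := ded_41_2 (flp_e L759487) (flp_g L755342) L767227
theorem L767237 : sm gh N57628 = N56457 := ded_43_2 (flp_e L755356) (flp_h L755344) L767227
theorem L767239 : sm gf N56456 = N57629 := rfl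
theorem L767241 : sm gh N57629 = N56458 := ded_47_2 (flp_f L755369) (flp_h L755354) L767239
theorem L767243 : sm ge N57629 = N57629 := ded_40_1 (flp_f L767239) (flp_e L755350) L740990 L755350 L767239
theorem L767244 : sm gf N56457 = N57630 := rfl
theorem L767246 : sm ga N57630 = N56728 := ded_14_1 L758100 (flp_a L755358) L767244
theorem L767248 : sm gb N57630 = N56916 := ded_22_1 (flp_f L759819) (flp_b L755360) L767244
theorem L767250 : sm gc N57630 = N56458 := ded_29_1 (flp_f L755369) (flp_c L755362) L767244
theorem L767252 : sm gd N57630 = N56569 := ded_35_1 L756583 (flp_d L755367) L767244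
theorem L767254 : sm gj N57630 = N56570 := ded_46_2 L762943 L762938 L767244
theorem L767256 : sm gi N57630 = N57630 := ded_48_2 (flp_f L767244) L755366 L767244
theorem L767257 : sm ge N57630 = N57630 := ded_40_1 (flp_f L767244) (flp_e L755356) L740999 L755356 L767244
theorem L767258 : sm gd N56459 = N57631 := rfl
theorem L767260 : sm ga N57631 = N56903 := ded_12_1 (flp_d L759720) (flp_a L755377) L767258
theorem L767262 : sm gb N57631 = N56465 := ded_20_1 (flp_d L755460) (flp_b L755379) L767258
theorem L767264 : sm gj N57631 = N56462 := ded_37_2 (flp_d L755418) (flp_j L755383) L767258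
theorem L767266 : sm gi N57631 = N57022 := ded_39_2 (flp_d L760497) (flp_i L755385) L767258
theorem L767268 : sm ge N57631 = N56510 := ded_34_2 (flp_d L755949) L741769 (flp_d L741039) (flp_e L755381) L767258
theorem L767270 : sm gd N56460 = N57632 := rfl
theorem L767272 : sm ga N57632 = N56897 := ded_12_1 (flp_d L759694) (flp_a L755389) L767270
theorem L767274 : sm gb N57632 = N56689 := ded_20_1 L757780 (flp_b L755391) L767270
theorem L767276 : sm gf N57632 = N56674 := ded_35_2 L757666 (flp_f L755397) L767270
theorem L767278 : sm gg N57632 = N56806 := ded_36_2 (flp_d L758905) (flp_g L755399) L767270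
theorem L767280 : sm gi N57632 = N56774 := ded_39_2 (flp_d L758602) (flp_i L755401) L767270
theorem L767282 : sm gh N57632 = N57107 := ded_38_2 (flp_d L761029) (flp_h L747772) (flp_d L741051) L755387 L767270
theorem L767284 : sm ge N56461 = N57633 := rfl
theorem L767286 : sm ga N57633 = N56915 := ded_13_1 (flp_e L759814) (flp_a L755405) L767284
theorem L767288 : sm gb N57633 = N56712 := ded_21_1 L757962 (flp_b L755407) L767284
theorem L767290 : sm gc N57633 = N56513 := ded_28_1 (flp_e L755968) (flp_c L755415) L767284
theorem L767292 : sm gg N57633 = N56816 := ded_41_2 (flp_e L758991) (flp_g L755411) L767284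
theorem L767294 : sm gh N57633 = N57633 := ded_43_2 (flp_e L767284) L755417 L767284
theorem L767295 : sm gi N57633 = N56775 := ded_44_2 (flp_e L758608) (flp_i L755413) L767284
theorem L767297 : sm gf N57633 = N56708 := ded_40_2 (flp_e L757927) L744009 (flp_e L741112) (flp_f L755409) L767284
theorem L767299 : sm gc N56462 = N57634 := rfl
theorem L767301 : sm ga N57634 = N56904 := ded_11_1 (flp_c L759726) (flp_a L755420) L767299
theorem L767303 : sm ge N57634 = N56514 := ded_28_2 (flp_c L755973) (flp_e L755428) L767299
theorem L767305 : sm gg N57634 = N56810 := ded_30_2 (flp_c L758933) (flp_g L755424) L767299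
theorem L767307 : sm gi N57634 = N57033 := ded_33_2 (flp_c L760577) (flp_i L755426) L767299
theorem L767309 : sm gd N56464 = N57635 := rfl
theorem L767311 : sm ga N57635 = N56485 := ded_12_1 (flp_d L755681) (flp_a L755448) L767309
theorem L767313 : sm gg N57635 = N56465 := ded_36_2 (flp_d L755460) (flp_g L755454) L767309
theorem L767315 : sm gj N57635 = N57008 := ded_37_2 (flp_d L760399) (flp_j L755456) L767309
theorem L767317 : sm gi N57635 = N57017 := ded_39_2 (flp_d L760460) (flp_i L755458) L767309
theorem L767319 : sm ge N57635 = N56537 := ded_34_2 (flp_d L756248) L742135 (flp_d L741138) (flp_e L755452) L767309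
theorem L767321 : sm gc N56465 = N57636 := rfl
theorem L767323 : sm ga N57636 = N56488 := ded_11_1 (flp_c L755711) (flp_a L755462) L767321
theorem L767325 : sm ge N57636 = N56545 := ded_28_2 (flp_c L756337) (flp_e L755468) L767321
theorem L767327 : sm gj N57636 = N56467 := ded_31_2 (flp_c L755478) (flp_j L755464) L767321
theorem L767329 : sm gi N57636 = N57026 := ded_33_2 (flp_c L760522) (flp_i L755466) L767321
theorem L767331 : sm gd N57636 = N57013 := ded_27_2 (flp_c L760433) (flp_d L747105) (flp_c L741146) L755460 L767321
theorem L767333 : sm gc N56466 = N57637 := rfl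
theorem L767335 : sm ga N57637 = N56495 := ded_11_1 (flp_c L755801) (flp_a L755472) L767333
theorem L767337 : sm gf N57637 = N56467 := ded_29_2 (flp_c L755478) (flp_f L755474) L767333
theorem L767339 : sm gi N57637 = N57036 := ded_33_2 (flp_c L760589) (flp_i L755476) L767333
theorem L767341 : sm gd N57637 = N57014 := ded_27_2 (flp_c L760441) (flp_d L747113) (flp_c L741158) L755470 L767333
theorem L767343 : sm ge N56466 = N57638 := rfl
theorem L767345 : sm ga N57638 = N56496 := ded_13_1 (flp_e L755805) (flp_a L755472) L767343
theorem L767347 : sm gi N57638 = N57037 := ded_44_2 (flp_e L760595) (flp_i L755476) L767343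
theorem L767349 : sm gd N57638 = N56468 := ded_34_1 (flp_e L755490) (flp_d L741191) (flp_e L741160) L755470 L767343
theorem L767351 : sm gf N57638 = N56556 := ded_40_2 (flp_e L756453) L742340 (flp_e L741174) (flp_f L755474) L767343
theorem L767353 : sm gb N56467 = N57639 := rfl
theorem L767355 : sm gd N57639 = N57015 := ded_20_2 (flp_b L760447) (flp_d L755488) L767353
theorem L767357 : sm ge N57639 = N56557 := ded_21_2 (flp_b L756459) (flp_e L755482) L767353
theorem L767359 : sm gg N57639 = N57010 := ded_23_2 (flp_b L760415) (flp_g L755484) L767353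
theorem L767361 : sm gi N57639 = N57038 := ded_26_2 (flp_b L760599) (flp_i L755486) L767353
theorem L767363 : sm gh N56469 = N57640 := rfl
theorem L767365 : sm ga N57640 = N57023 := ded_17_1 (flp_h L760503) (flp_a L755502) L767363
theorem L767367 : sm gc N57640 = N56934 := ded_32_1 (flp_h L759961) (flp_c L755504) L767363
theorem L767369 : sm ge N57640 = N57640 := ded_43_1 (flp_h L767363) L755508 L767363
theorem L767370 : sm gf N57640 = N56470 := ded_47_1 (flp_h L755513) (flp_f L755509) L767363
theorem L767372 : sm gj N57640 = N56473 := ded_52_1 (flp_h L755542) (flp_j L755511) L767363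
theorem L767374 : sm gd N56470 = N57641 := rfl
theorem L767376 : sm ga N57641 = N57024 := ded_12_1 (flp_d L760510) (flp_a L755515) L767374
theorem L767378 : sm gj N57641 = N56474 := ded_37_2 (flp_d L755549) (flp_j L755519) L767374
theorem L767380 : sm ge N57641 = N56581 := ded_34_2 (flp_d L756714) L742661 (flp_d L741236) (flp_e L755517) L767374
theorem L767382 : sm gh N57641 = N56478 := ded_38_2 (flp_d L755602) (flp_h L741330) (flp_d L741223) L755513 L767374
theorem L767384 : sm gd N56471 = N57642 := rfl
theorem L767386 : sm ga N57642 = N56943 := ded_12_1 (flp_d L760022) (flp_a L755523) L767384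
theorem L767388 : sm gg N57642 = N56487 := ded_36_2 (flp_d L755705) (flp_g L755529) L767384
theorem L767390 : sm gh N57642 = N56927 := ded_38_2 (flp_d L759908) (flp_h L746466) (flp_d L741244) L755521 L767384
theorem L767392 : sm ge N56472 = N57643 := rfl
theorem L767394 : sm ga N57643 = N56954 := ded_13_1 (flp_e L760082) (flp_a L755533) L767392
theorem L767396 : sm gc N57643 = N56594 := ded_28_1 (flp_e L756855) (flp_c L755538) L767392
theorem L767398 : sm gg N57643 = N56498 := ded_41_2 (flp_e L755817) (flp_g L755536) L767392
theorem L767400 : sm gh N57643 = N56502 := ded_43_2 (flp_e L755859) (flp_h L755540) L767392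
theorem L767402 : sm gd N56473 = N57644 := rfl
theorem L767404 : sm ga N57644 = N57034 := ded_12_1 (flp_d L760579) (flp_a L755544) L767402
theorem L767406 : sm gf N57644 = N56474 := ded_35_2 (flp_d L755549) (flp_f L755547) L767402
theorem L767408 : sm gh N57644 = N56479 := ded_38_2 (flp_d L755612) (flp_h L741342) (flp_d L741263) L755542 L767402
theorem L767410 : sm gc N56474 = N57645 := rfl
theorem L767412 : sm ga N57645 = N57035 := ded_11_1 (flp_c L760585) (flp_a L755551) L767410
theorem L767414 : sm ge N57645 = N56597 := ded_28_2 (flp_c L756878) (flp_e L755555) L767410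
theorem L767416 : sm gg N57645 = N57011 := ded_30_2 (flp_c L760419) (flp_g L755553) L767410
theorem L767418 : sm gh N57645 = N56480 := ded_32_2 (flp_c L755620) (flp_h L755557) L767410
theorem L767420 : sm gh N56475 = N57646 := rfl
theorem L767422 : sm ga N57646 = N57016 := ded_17_1 (flp_h L760453) (flp_a L755561) L767420
theorem L767424 : sm gb N57646 = N56969 := ded_25_1 (flp_h L760180) (flp_b L755563) L767420
theorem L767426 : sm gc N57646 = N57007 := ded_32_1 (flp_h L760392) (flp_c L755565) L767420
theorem L767428 : sm ge N57646 = N57646 := ded_43_1 (flp_h L767420) L755569 L767420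
theorem L767429 : sm gf N57646 = N56476 := ded_47_1 (flp_h L755574) (flp_f L755570) L767420
theorem L767431 : sm gj N57646 = N56511 := ded_52_1 (flp_h L755955) (flp_j L755572) L767420
theorem L767433 : sm gi N57646 = N56484 := ded_54_2 (flp_h L755672) (flp_i L741434) (flp_h L741288) L755559 L767420
theorem L767435 : sm gd N56476 = N57647 := rfl
theorem L767437 : sm ga N57647 = N57017 := ded_12_1 (flp_d L760460) (flp_a L755576) L767435
theorem L767439 : sm gg N57647 = N56478 := ded_36_2 (flp_d L755602) (flp_g L755582) L767435
theorem L767441 : sm gj N57647 = N57012 := ded_37_2 (flp_d L760425) (flp_j L755584) L767435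
theorem L767443 : sm gi N57647 = N56485 := ded_39_2 (flp_d L755681) (flp_i L755586) L767435
theorem L767445 : sm ge N57647 = N56601 := ded_34_2 (flp_d L756918) L742880 (flp_d L741314) (flp_e L755580) L767435
theorem L767447 : sm gd N56477 = N57648 := rfl
theorem L767449 : sm ga N57648 = N57025 := ded_12_1 (flp_d L760516) (flp_a L755590) L767447
theorem L767451 : sm gf N57648 = N56478 := ded_35_2 (flp_d L755602) (flp_f L755596) L767447
theorem L767453 : sm gj N57648 = N56479 := ded_37_2 (flp_d L755612) (flp_j L755598) L767447
theorem L767455 : sm gi N57648 = N56487 := ded_39_2 (flp_d L755705) (flp_i L755600) L767447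
theorem L767457 : sm gc N56478 = N57649 := rfl
theorem L767459 : sm ga N57649 = N57026 := ded_11_1 (flp_c L760522) (flp_a L755604) L767457
theorem L767461 : sm ge N57649 = N56609 := ded_28_2 (flp_c L757010) (flp_e L755610) L767457
theorem L767463 : sm gj N57649 = N56480 := ded_31_2 (flp_c L755620) (flp_j L755606) L767457
theorem L767465 : sm gi N57649 = N56488 := ded_33_2 (flp_c L755711) (flp_i L755608) L767457
theorem L767467 : sm gd N57649 = N57009 := ded_27_2 (flp_c L760407) (flp_d L747077) (flp_c L741334) L755602 L767457
theorem L767469 : sm gc N56479 = N57650 := rfl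
theorem L767471 : sm ga N57650 = N57036 := ded_11_1 (flp_c L760589) (flp_a L755614) L767469
theorem L767473 : sm gf N57650 = N56480 := ded_29_2 (flp_c L755620) (flp_f L755616) L767469
theorem L767475 : sm gi N57650 = N56495 := ded_33_2 (flp_c L755801) (flp_i L755618) L767469
theorem L767477 : sm gd N57650 = N56781 := ded_27_2 (flp_c L758666) (flp_d L744987) (flp_c L741346) L755612 L767469
theorem L767479 : sm ge N56479 = N57651 := rfl
theorem L767481 : sm ga N57651 = N57037 := ded_13_1 (flp_e L760595) (flp_a L755614) L767479
theorem L767483 : sm gi N57651 = N56496 := ded_44_2 (flp_e L755805) (flp_i L755618) L767479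
theorem L767485 : sm gd N57651 = N56482 := ded_34_1 (flp_e L755645) (flp_d L741390) (flp_e L741348) L755612 L767479
theorem L767487 : sm gf N57651 = N56622 := ded_40_2 (flp_e L757148) L743122 (flp_e L741362) (flp_f L755616) L767479
theorem L767489 : sm gb N56480 = N57652 := rfl
theorem L767491 : sm gd N57652 = N57010 := ded_20_2 (flp_b L760415) (flp_d L755630) L767489
theorem L767493 : sm ge N57652 = N56623 := ded_21_2 (flp_b L757154) (flp_e L755624) L767489
theorem L767495 : sm gg N57652 = N57015 := ded_23_2 (flp_b L760447) (flp_g L755626) L767489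
theorem L767497 : sm gi N57652 = N56497 := ded_26_2 (flp_b L755811) (flp_i L755628) L767489
theorem L767499 : sm ge N56481 = N57653 := rfl
theorem L767501 : sm ga N57653 = N57042 := ded_13_1 (flp_e L760622) (flp_a L755634) L767499
theorem L767503 : sm gc N57653 = N56910 := ded_28_1 (flp_e L759777) (flp_c L755642) L767499
theorem L767505 : sm gj N57653 = N56482 := ded_42_2 (flp_e L755645) (flp_j L755638) L767499
theorem L767507 : sm gh N57653 = N57653 := ded_43_2 (flp_e L767499) L755644 L767499
theorem L767508 : sm gi N57653 = N56498 := ded_44_2 (flp_e L755817) (flp_i L755640) L767499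
theorem L767510 : sm gf N57653 = N56629 := ded_40_2 (flp_e L757221) L743195 (flp_e L741387) (flp_f L755636) L767499
theorem L767512 : sm gd N56483 = N57654 := rfl
theorem L767514 : sm ga N57654 = N57012 := ded_12_1 (flp_d L760425) (flp_a L755658) L767512
theorem L767516 : sm gb N57654 = N56521 := ded_20_1 (flp_d L756057) (flp_b L755660) L767512
theorem L767518 : sm gg N57654 = N56486 := ded_36_2 (flp_d L755689) (flp_g L755666) L767512
theorem L767520 : sm gj N57654 = N57017 := ded_37_2 (flp_d L760460) (flp_j L755668) L767512
theorem L767522 : sm gi N57654 = N57008 := ded_39_2 (flp_d L760399) (flp_i L755670) L767512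
theorem L767524 : sm ge N57654 = N57031 := ded_34_2 (flp_d L760559) L747252 (flp_d L741430) (flp_e L755664) L767512
theorem L767526 : sm gh N57654 = N56506 := ded_38_2 (flp_d L755904) (flp_h L741712) (flp_d L741409) L755656 L767512
theorem L767528 : sm gd N56484 = N57655 := rfl
theorem L767530 : sm gb N57655 = N56970 := ded_20_1 (flp_d L760185) (flp_b L755674) L767528
theorem L767532 : sm gf N57655 = N56485 := ded_35_2 (flp_d L755681) (flp_f L755677) L767528
theorem L767534 : sm gj N57655 = N57019 := ded_37_2 (flp_d L760475) (flp_j L755679) L767528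
theorem L767536 : sm gh N57655 = N56967 := ded_38_2 (flp_d L760167) (flp_h L746781) (flp_d L741438) L755672 L767528
theorem L767538 : sm gc N56485 = N57656 := rfl
theorem L767540 : sm ge N57656 = N56647 := ded_28_2 (flp_c L757416) (flp_e L755687) L767538
theorem L767542 : sm gg N57656 = N56488 := ded_30_2 (flp_c L755711) (flp_g L755683) L767538
theorem L767544 : sm gj N57656 = N57020 := ded_31_2 (flp_c L760479) (flp_j L755685) L767538
theorem L767546 : sm gc N56486 = N57657 := rfl
theorem L767548 : sm ga N57657 = N57013 := ded_11_1 (flp_c L760433) (flp_a L755691) L767546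
theorem L767550 : sm ge N57657 = N57047 := ded_28_2 (flp_c L760648) (flp_e L755701) L767546
theorem L767552 : sm gf N57657 = N57011 := ded_29_2 (flp_c L760419) (flp_f L755695) L767546
theorem L767554 : sm gj N57657 = N56492 := ded_31_2 (flp_c L755769) (flp_j L755697) L767546
theorem L767556 : sm gh N57657 = N57014 := ded_32_2 (flp_c L760441) (flp_h L755703) L767546
theorem L767558 : sm gi N57657 = N57009 := ded_33_2 (flp_c L760407) (flp_i L755699) L767546
theorem L767560 : sm gd N57657 = N56488 := ded_27_2 (flp_c L755711) (flp_d L741479) (flp_c L741459) L755689 L767546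
theorem L767562 : sm gc N56487 = N57658 := rfl
theorem L767564 : sm gf N57658 = N56488 := ded_29_2 (flp_c L755711) (flp_f L755707) L767562
theorem L767566 : sm gj N57658 = N56495 := ded_31_2 (flp_c L755801) (flp_j L755709) L767562
theorem L767568 : sm gd N57658 = N57011 := ded_27_2 (flp_c L760419) (flp_d L747091) (flp_c L741471) L755705 L767562
theorem L767570 : sm ge N56487 = N57659 := rfl
theorem L767572 : sm gj N57659 = N56496 := ded_42_2 (flp_e L755805) (flp_j L755709) L767570
theorem L767574 : sm gd N57659 = N56498 := ded_34_1 (flp_e L755817) (flp_d L741577) (flp_e L741473) L755705 L767570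
theorem L767576 : sm gf N57659 = N56665 := ded_40_2 (flp_e L757584) L743658 (flp_e L741483) (flp_f L755707) L767570
theorem L767578 : sm gb N56488 = N57660 := rfl
theorem L767580 : sm ge N57660 = N56666 := ded_21_2 (flp_b L757590) (flp_e L755713) L767578
theorem L767582 : sm gj N57660 = N56497 := ded_24_2 (flp_b L755811) (flp_j L755715) L767578
theorem L767584 : sm gc N56489 = N57661 := rfl
theorem L767586 : sm ga N57661 = N56861 := ded_11_1 (flp_c L759422) (flp_a L755719) L767584
theorem L767588 : sm ge N57661 = N57014 := ded_28_2 (flp_c L760441) (flp_e L755731) L767584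
theorem L767590 : sm gf N57661 = N56785 := ded_29_2 (flp_c L758694) (flp_f L755723) L767584
theorem L767592 : sm gg N57661 = N57033 := ded_30_2 (flp_c L760577) (flp_g L755725) L767584
theorem L767594 : sm gj N57661 = N57046 := ded_31_2 (flp_c L760642) (flp_j L755727) L767584
theorem L767596 : sm gh N57661 = N57047 := ded_32_2 (flp_c L760648) (flp_h L755733) L767584
theorem L767598 : sm gi N57661 = N56810 := ded_33_2 (flp_c L758933) (flp_i L755729) L767584
theorem L767600 : sm gc N56490 = N57662 := rfl
theorem L767602 : sm ga N57662 = N57011 := ded_11_1 (flp_c L760419) (flp_a L755737) L767600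
theorem L767604 : sm ge N57662 = N57046 := ded_28_2 (flp_c L760642) (flp_e L755749) L767600
theorem L767606 : sm gf N57662 = N57013 := ded_29_2 (flp_c L760433) (flp_f L755741) L767600
theorem L767608 : sm gg N57662 = N57035 := ded_30_2 (flp_c L760585) (flp_g L755743) L767600
theorem L767610 : sm gj N57662 = N57014 := ded_31_2 (flp_c L760441) (flp_j L755745) L767600
theorem L767612 : sm gh N57662 = N56492 := ded_32_2 (flp_c L755769) (flp_h L755751) L767600
theorem L767614 : sm gi N57662 = N57028 := ded_33_2 (flp_c L760536) (flp_i L755747) L767600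
theorem L767616 : sm gc N56491 = N57663 := rfl
theorem L767618 : sm ga N57663 = N57014 := ded_11_1 (flp_c L760441) (flp_a L755755) L767616
theorem L767620 : sm ge N57663 = N56861 := ded_28_2 (flp_c L759422) (flp_e L755765) L767616
theorem L767622 : sm gf N57663 = N56492 := ded_29_2 (flp_c L755769) (flp_f L755759) L767616
theorem L767624 : sm gj N57663 = N57011 := ded_31_2 (flp_c L760419) (flp_j L755761) L767616
theorem L767626 : sm gh N57663 = N57013 := ded_32_2 (flp_c L760433) (flp_h L755767) L767616
theorem L767628 : sm gi N57663 = N56781 := ded_33_2 (flp_c L758666) (flp_i L755763) L767616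
theorem L767630 : sm gd N57663 = N56495 := ded_27_2 (flp_c L755801) (flp_d L741567) (flp_c L741523) L755753 L767616
theorem L767632 : sm gb N56492 = N57664 := rfl
theorem L767634 : sm gd N57664 = N56497 := ded_20_2 (flp_b L755811) (flp_d L755779) L767632
theorem L767636 : sm ge N57664 = N57048 := ded_21_2 (flp_b L760656) (flp_e L755773) L767632
theorem L767638 : sm gg N57664 = N57038 := ded_23_2 (flp_b L760599) (flp_g L755775) L767632
theorem L767640 : sm gi N57664 = N57010 := ded_26_2 (flp_b L760415) (flp_i L755777) L767632
theorem L767642 : sm gd N56493 = N57665 := rfl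
theorem L767644 : sm ga N57665 = N56987 := ded_12_1 (flp_d L760285) (flp_a L755783) L767642
theorem L767646 : sm gb N57665 = N56544 := ded_20_1 (flp_d L756329) (flp_b L755785) L767642
theorem L767648 : sm gf N57665 = N56510 := ded_35_2 (flp_d L755949) (flp_f L755789) L767642
theorem L767650 : sm gj N57665 = N56494 := ded_37_2 (flp_d L755793) (flp_j L755791) L767642
theorem L767652 : sm gh N57665 = N56985 := ded_38_2 (flp_d L760275) (flp_h L746895) (flp_d L741549) L755781 L767642
theorem L767654 : sm gc N56494 = N57666 := rfl
theorem L767656 : sm gf N57666 = N56514 := ded_29_2 (flp_c L755973) (flp_f L755797) L767654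
theorem L767658 : sm gg N57666 = N56495 := ded_30_2 (flp_c L755801) (flp_g L755799) L767654
theorem L767660 : sm ge N56494 = N57667 := rfl
theorem L767662 : sm gb N57667 = N56556 := ded_21_1 (flp_e L756453) (flp_b L755795) L767660
theorem L767664 : sm gg N57667 = N56496 := ded_41_2 (flp_e L755805) (flp_g L755799) L767660
theorem L767666 : sm gd N57667 = N56500 := ded_34_1 (flp_e L755839) (flp_d L741597) (flp_e L741561) L755793 L767660
theorem L767668 : sm gb N56495 = N57668 := rfl
theorem L767670 : sm gf N57668 = N56497 := ded_22_2 (flp_b L755811) (flp_f L755803) L767668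
theorem L767672 : sm ge N56495 = N57669 := rfl
theorem L767674 : sm gc N57669 = N56496 := ded_28_1 (flp_e L755805) L755801 L767672
theorem L767676 : sm gf N57669 = N56694 := ded_40_2 (flp_e L757806) L743859 (flp_e L741573) (flp_f L755803) L767672
theorem L767678 : sm ga N56497 = N57670 := rfl
theorem L767680 : sm ge N57670 = N56695 := ded_13_2 (flp_a L757810) (flp_e L755813) L767678
theorem L767682 : sm gg N57670 = N57040 := ded_15_2 (flp_a L760609) (flp_g L755815) L767678
theorem L767684 : sm ge N56499 = N57671 := rfl
theorem L767686 : sm ga N57671 = N57005 := ded_13_1 (flp_e L760381) (flp_a L755829) L767684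
theorem L767688 : sm gb N57671 = N56563 := ded_21_1 (flp_e L756522) (flp_b L755831) L767684
theorem L767690 : sm gj N57671 = N56500 := ded_42_2 (flp_e L755839) (flp_j L755835) L767684
theorem L767692 : sm gh N57671 = N56503 := ded_43_2 (flp_e L755870) (flp_h L755837) L767684
theorem L767694 : sm gd N56501 = N57672 := rfl
theorem L767696 : sm gf N57672 = N56718 := ded_35_2 (flp_d L758014) (flp_f L755857) L767694
theorem L767698 : sm gj N57672 = N57071 := ded_37_2 L760792 (flp_j L755851) L767694
theorem L767700 : sm gi N57672 = N56899 := ded_39_2 L759706 (flp_i L755855) L767694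
theorem L767702 : sm ge N57672 = N56857 := ded_34_2 (flp_d L759390) L745786 (flp_d L741617) L755847 L767694
theorem L767704 : sm gf N56502 = N57673 := rfl
theorem L767706 : sm ga N57673 = N56955 := ded_14_1 (flp_f L760086) (flp_a L755861) L767704
theorem L767708 : sm gc N57673 = N56743 := ded_29_1 (flp_f L758253) (flp_c L755863) L767704
theorem L767710 : sm gd N57673 = N56932 := ded_35_1 (flp_f L759945) (flp_d L755868) L767704
theorem L767712 : sm gi N57673 = N57673 := ded_48_2 (flp_f L767704) L755867 L767704
theorem L767713 : sm ge N57673 = N57673 := ded_40_1 (flp_f L767704) (flp_e L755859) L741640 L755859 L767704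
theorem L767714 : sm gg N57673 = N56725 := ded_45_2 (flp_f L758073) L744158 (flp_f L741653) (flp_g L755865) L767704
theorem L767716 : sm gh N56504 = N57674 := rfl
theorem L767718 : sm ge N57674 = N57158 := ded_43_1 L761340 (flp_e L755888) L767716
theorem L767720 : sm gf N57674 = N56733 := ded_47_1 (flp_h L758148) (flp_f L755883) L767716
theorem L767722 : sm gj N57674 = N57164 := ded_52_1 L761378 (flp_j L755885) L767716
theorem L767724 : sm gd N56505 = N57675 := rfl
theorem L767726 : sm gb N57675 = N56526 := ded_20_1 (flp_d L756122) (flp_b L755892) L767724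
theorem L767728 : sm gg N57675 = N57024 := ded_36_2 (flp_d L760510) (flp_g L755898) L767724
theorem L767730 : sm gj N57675 = N56506 := ded_37_2 (flp_d L755904) (flp_j L755900) L767724
theorem L767732 : sm gi N57675 = N56510 := ded_39_2 (flp_d L755949) (flp_i L755902) L767724
theorem L767734 : sm ge N57675 = N57022 := ded_34_2 (flp_d L760497) L747178 (flp_d L741708) (flp_e L755896) L767724
theorem L767736 : sm gh N57675 = N57017 := ded_38_2 (flp_d L760460) (flp_h L747134) (flp_d L741688) L755890 L767724
theorem L767738 : sm gc N56506 = N57676 := rfl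
theorem L767740 : sm ge N57676 = N57033 := ded_28_2 (flp_c L760577) (flp_e L755912) L767738
theorem L767742 : sm gg N57676 = N57014 := ded_30_2 (flp_c L760441) (flp_g L755908) L767738
theorem L767744 : sm gi N57676 = N56514 := ded_33_2 (flp_c L755973) (flp_i L755910) L767738
theorem L767746 : sm gd N56507 = N57677 := rfl
theorem L767748 : sm gb N57677 = N56537 := ded_20_1 (flp_d L756248) (flp_b L755916) L767746
theorem L767750 : sm gg N57677 = N56510 := ded_36_2 (flp_d L755949) (flp_g L755920) L767746
theorem L767752 : sm gj N57677 = N57027 := ded_37_2 (flp_d L760528) (flp_j L755922) L767746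
theorem L767754 : sm gi N57677 = N57024 := ded_39_2 (flp_d L760510) (flp_i L755924) L767746
theorem L767756 : sm gd N56508 = N57678 := rfl
theorem L767758 : sm gb N57678 = N56992 := ded_20_1 (flp_d L760313) (flp_b L755928) L767756
theorem L767760 : sm gj N57678 = N56512 := ded_37_2 (flp_d L755964) (flp_j L755934) L767756
theorem L767762 : sm gi N57678 = N56987 := ded_39_2 (flp_d L760285) (flp_i L755936) L767756
theorem L767764 : sm ge N56509 = N57679 := rfl
theorem L767766 : sm gb N57679 = N57006 := ded_21_1 (flp_e L760387) (flp_b L755940) L767764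
theorem L767768 : sm gj N57679 = N56513 := ded_42_2 (flp_e L755968) (flp_j L755944) L767764
theorem L767770 : sm gh N57679 = N57679 := ded_43_2 (flp_e L767764) L755948 L767764
theorem L767771 : sm gi N57679 = N57005 := ded_44_2 (flp_e L760381) (flp_i L755946) L767764
theorem L767773 : sm gc N56510 = N57680 := rfl
theorem L767775 : sm gj N57680 = N56514 := ded_31_2 (flp_c L755973) (flp_j L755953) L767773
theorem L767777 : sm gd N56511 = N57681 := rfl
theorem L767779 : sm gf N57681 = N57012 := ded_35_2 (flp_d L760425) (flp_f L755958) L767777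
theorem L767781 : sm gg N57681 = N57034 := ded_36_2 (flp_d L760579) (flp_g L755960) L767777
theorem L767783 : sm gi N57681 = N57019 := ded_39_2 (flp_d L760475) (flp_i L755962) L767777
theorem L767785 : sm gh N57681 = N56512 := ded_38_2 (flp_d L755964) (flp_h L741782) (flp_d L741775) L755955 L767777
theorem L767787 : sm gc N56512 = N57682 := rfl
theorem L767789 : sm gg N57682 = N57036 := ded_30_2 (flp_c L760589) (flp_g L755966) L767787
theorem L767791 : sm gd N57682 = N56514 := ded_27_2 (flp_c L755973) (flp_d L741797) (flp_c L741784) L755964 L767787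
theorem L767793 : sm ge N56512 = N57683 := rfl
theorem L767795 : sm gg N57683 = N57037 := ded_41_2 (flp_e L760595) (flp_g L755966) L767793
theorem L767797 : sm gd N57683 = N56513 := ded_34_1 (flp_e L755968) (flp_d L741790) (flp_e L741786) L755964 L767793
theorem L767799 : sm gb N56514 = N57684 := rfl
theorem L767801 : sm gg N57684 = N57039 := ded_23_2 (flp_b L760603) (flp_g L755975) L767799
theorem L767803 : sm gc N57684 = N56557 := ded_19_2 (flp_b L756459) (flp_c L742342) (flp_b L741799) L755973 L767799
theorem L767805 : sm gh N56515 = N57685 := rfl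
theorem L767807 : sm ga N57685 = N56580 := ded_17_1 (flp_h L756707) (flp_a L755979) L767805
theorem L767809 : sm gb N57685 = N57016 := ded_25_1 (flp_h L760453) (flp_b L755981) L767805
theorem L767811 : sm gc N57685 = N56883 := ded_32_1 (flp_h L759595) (flp_c L755983) L767805
theorem L767813 : sm ge N57685 = N57685 := ded_43_1 (flp_h L767805) L755987 L767805
theorem L767814 : sm gf N57685 = N56516 := ded_47_1 (flp_h L755992) (flp_f L755988) L767805
theorem L767816 : sm gj N57685 = N56520 := ded_52_1 (flp_h L756050) (flp_j L755990) L767805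
theorem L767818 : sm gd N56516 = N57686 := rfl
theorem L767820 : sm ga N57686 = N56581 := ded_12_1 (flp_d L756714) (flp_a L755994) L767818
theorem L767822 : sm gb N57686 = N57017 := ded_20_1 (flp_d L760460) (flp_b L755996) L767818
theorem L767824 : sm gg N57686 = N57022 := ded_36_2 (flp_d L760497) (flp_g L756002) L767818
theorem L767826 : sm gj N57686 = N56521 := ded_37_2 (flp_d L756057) (flp_j L756004) L767818
theorem L767828 : sm ge N57686 = N57024 := ded_34_2 (flp_d L760510) L747193 (flp_d L741855) (flp_e L756000) L767818
theorem L767830 : sm gh N57686 = N56526 := ded_38_2 (flp_d L756122) (flp_h L741986) (flp_d L741834) L755992 L767818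
theorem L767832 : sm gh N56517 = N57687 := rfl
theorem L767834 : sm ga N57687 = N56592 := ded_17_1 (flp_h L756844) (flp_a L756008) L767832
theorem L767836 : sm gb N57687 = N56872 := ded_25_1 (flp_h L759508) (flp_b L756010) L767832
theorem L767838 : sm gc N57687 = N56520 := ded_32_1 (flp_h L756050) (flp_c L756012) L767832
theorem L767840 : sm ge N57687 = N57687 := ded_43_1 (flp_h L767832) L756016 L767832
theorem L767841 : sm gf N57687 = N56518 := ded_47_1 (flp_h L756021) (flp_f L756017) L767832
theorem L767843 : sm gj N57687 = N56883 := ded_52_1 (flp_h L759595) (flp_j L756019) L767832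
theorem L767845 : sm gd N56518 = N57688 := rfl
theorem L767847 : sm ga N57688 = N56593 := ded_12_1 (flp_d L756851) (flp_a L756023) L767845
theorem L767849 : sm gb N57688 = N56874 := ded_20_1 (flp_d L759525) (flp_b L756025) L767845
theorem L767851 : sm gg N57688 = N57044 := ded_36_2 (flp_d L760632) (flp_g L756031) L767845
theorem L767853 : sm gj N57688 = N56885 := ded_37_2 (flp_d L759610) (flp_j L756033) L767845
theorem L767855 : sm gh N57688 = N56869 := ded_38_2 (flp_d L759481) (flp_h L745908) (flp_d L741878) L756021 L767845
theorem L767857 : sm ge N56519 = N57689 := rfl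
theorem L767859 : sm ga N57689 = N56594 := ded_13_1 (flp_e L756855) (flp_a L756037) L767857
theorem L767861 : sm gb N57689 = N56918 := ded_21_1 (flp_e L759833) (flp_b L756039) L767857
theorem L767863 : sm gc N57689 = N56954 := ded_28_1 (flp_e L760082) (flp_c L756046) L767857
theorem L767865 : sm gg N57689 = N57045 := ded_41_2 (flp_e L760636) (flp_g L756042) L767857
theorem L767867 : sm gj N57689 = N56922 := ded_42_2 (flp_e L759860) (flp_j L756044) L767857
theorem L767869 : sm gh N57689 = N56739 := ded_43_2 (flp_e L758212) (flp_h L756048) L767857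
theorem L767871 : sm gd N56520 = N57690 := rfl
theorem L767873 : sm ga N57690 = N56596 := ded_12_1 (flp_d L756872) (flp_a L756052) L767871
theorem L767875 : sm gf N57690 = N56521 := ded_35_2 (flp_d L756057) (flp_f L756055) L767871
theorem L767877 : sm gh N57690 = N56527 := ded_38_2 (flp_d L756132) (flp_h L741998) (flp_d L741903) L756050 L767871
theorem L767879 : sm gc N56521 = N57691 := rfl
theorem L767881 : sm ga N57691 = N56597 := ded_11_1 (flp_c L756878) (flp_a L756059) L767879
theorem L767883 : sm ge N57691 = N57035 := ded_28_2 (flp_c L760585) (flp_e L756063) L767879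
theorem L767885 : sm gg N57691 = N57046 := ded_30_2 (flp_c L760642) (flp_g L756061) L767879
theorem L767887 : sm gh N57691 = N56528 := ded_32_2 (flp_c L756140) (flp_h L756065) L767879
theorem L767889 : sm gh N56522 = N57692 := rfl
theorem L767891 : sm ga N57692 = N56600 := ded_17_1 (flp_h L756909) (flp_a L756069) L767889
theorem L767893 : sm gb N57692 = N57023 := ded_25_1 (flp_h L760503) (flp_b L756071) L767889
theorem L767895 : sm gc N57692 = N56669 := ded_32_1 (flp_h L757613) (flp_c L756073) L767889
theorem L767897 : sm ge N57692 = N57692 := ded_43_1 (flp_h L767889) L756077 L767889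
theorem L767898 : sm gf N57692 = N56523 := ded_47_1 (flp_h L756082) (flp_f L756078) L767889
theorem L767900 : sm gj N57692 = N57030 := ded_52_1 (flp_h L760548) (flp_j L756080) L767889
theorem L767902 : sm gi N57692 = N56536 := ded_54_2 (flp_h L756239) (flp_i L742122) (flp_h L741928) L756067 L767889
theorem L767904 : sm gd N56523 = N57693 := rfl
theorem L767906 : sm ga N57693 = N56601 := ded_12_1 (flp_d L756918) (flp_a L756084) L767904
theorem L767908 : sm gb N57693 = N57024 := ded_20_1 (flp_d L760510) (flp_b L756086) L767904
theorem L767910 : sm gg N57693 = N56526 := ded_36_2 (flp_d L756122) (flp_g L756092) L767904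
theorem L767912 : sm gj N57693 = N57031 := ded_37_2 (flp_d L760559) (flp_j L756094) L767904
theorem L767914 : sm gi N57693 = N56537 := ded_39_2 (flp_d L756248) (flp_i L756096) L767904
theorem L767916 : sm ge N57693 = N57017 := ded_34_2 (flp_d L760460) L747138 (flp_d L741960) (flp_e L756090) L767904
theorem L767918 : sm gh N57693 = N57022 := ded_38_2 (flp_d L760497) (flp_h L747174) (flp_d L741939) L756082 L767904
theorem L767920 : sm gh N56524 = N57694 := rfl
theorem L767922 : sm ga N57694 = N56607 := ded_17_1 (flp_h L756994) (flp_a L756100) L767920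
theorem L767924 : sm gc N57694 = N57121 := ded_32_1 L761126 (flp_c L756102) L767920
theorem L767926 : sm ge N57694 = N56529 := ded_43_1 (flp_h L756152) (flp_e L756104) L767920
theorem L767928 : sm gg N57694 = N56525 := ded_50_1 (flp_h L756108) (flp_g L756106) L767920
theorem L767930 : sm gi N57694 = N56543 := ded_54_2 (flp_h L756321) (flp_i L742206) (flp_h L741972) L756098 L767920
theorem L767932 : sm gd N56525 = N57695 := rfl
theorem L767934 : sm ga N57695 = N56608 := ded_12_1 (flp_d L757002) (flp_a L756110) L767932
theorem L767936 : sm gf N57695 = N56526 := ded_35_2 (flp_d L756122) (flp_f L756116) L767932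
theorem L767938 : sm gj N57695 = N56527 := ded_37_2 (flp_d L756132) (flp_j L756118) L767932
theorem L767940 : sm gi N57695 = N56544 := ded_39_2 (flp_d L756329) (flp_i L756120) L767932
theorem L767942 : sm gc N56526 = N57696 := rfl
theorem L767944 : sm ga N57696 = N56609 := ded_11_1 (flp_c L757010) (flp_a L756124) L767942
theorem L767946 : sm ge N57696 = N57026 := ded_28_2 (flp_c L760522) (flp_e L756130) L767942
theorem L767948 : sm gj N57696 = N56528 := ded_31_2 (flp_c L756140) (flp_j L756126) L767942
theorem L767950 : sm gi N57696 = N56545 := ded_33_2 (flp_c L756337) (flp_i L756128) L767942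
theorem L767952 : sm gd N57696 = N57119 := ded_27_2 L761104 L747848 (flp_c L741990) L756122 L767942
theorem L767954 : sm gc N56527 = N57697 := rfl
theorem L767956 : sm ga N57697 = N56621 := ded_11_1 (flp_c L757142) (flp_a L756134) L767954
theorem L767958 : sm gf N57697 = N56528 := ded_29_2 (flp_c L756140) (flp_f L756136) L767954
theorem L767960 : sm gi N57697 = N56555 := ded_33_2 (flp_c L756447) (flp_i L756138) L767954
theorem L767962 : sm gd N57697 = N57147 := ded_27_2 L761260 L747986 (flp_c L742002) L756132 L767954
theorem L767964 : sm ge N56527 = N57698 := rfl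
theorem L767966 : sm ga N57698 = N56622 := ded_13_1 (flp_e L757148) (flp_a L756134) L767964
theorem L767968 : sm gi N57698 = N56556 := ded_44_2 (flp_e L756453) (flp_i L756138) L767964
theorem L767970 : sm gd N57698 = N56533 := ded_34_1 (flp_e L756199) (flp_d L742054) (flp_e L742004) L756132 L767964
theorem L767972 : sm gf N57698 = N57037 := ded_40_2 (flp_e L760595) L747283 (flp_e L742018) (flp_f L756136) L767964
theorem L767974 : sm gb N56528 = N57699 := rfl
theorem L767976 : sm gd N57699 = N57146 := ded_20_2 L761256 (flp_d L756150) L767974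
theorem L767978 : sm ge N57699 = N57038 := ded_21_2 (flp_b L760599) (flp_e L756144) L767974
theorem L767980 : sm gg N57699 = N57048 := ded_23_2 (flp_b L760656) (flp_g L756146) L767974
theorem L767982 : sm gi N57699 = N56557 := ded_26_2 (flp_b L756459) (flp_i L756148) L767974
theorem L767984 : sm gd N56529 = N57700 := rfl
theorem L767986 : sm ga N57700 = N56627 := ded_12_1 (flp_d L757202) (flp_a L756154) L767984
theorem L767988 : sm gf N57700 = N57700 := ded_35_2 (flp_d L767984) L756158 L767984
theorem L767989 : sm gg N57700 = N56530 := ded_36_2 (flp_d L756163) (flp_g L756159) L767984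
theorem L767991 : sm gi N57700 = N56561 := ded_39_2 (flp_d L756503) (flp_i L756161) L767984
theorem L767993 : sm gh N57700 = N57700 := ded_38_2 (flp_d L767984) (flp_h L756152) L742026 L756152 L767984
theorem L767994 : sm gc N56530 = N57701 := rfl
theorem L767996 : sm ga N57701 = N56628 := ded_11_1 (flp_c L757210) (flp_a L756165) L767994
theorem L767998 : sm gf N57701 = N56531 := ded_29_2 (flp_c L756174) (flp_f L756167) L767994
theorem L768000 : sm gj N57701 = N56532 := ded_31_2 (flp_c L756188) (flp_j L756169) L767994
theorem L768002 : sm gh N57701 = N57701 := ded_32_2 (flp_c L767994) L756173 L767994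
theorem L768003 : sm gi N57701 = N56562 := ded_33_2 (flp_c L756512) (flp_i L756171) L767994
theorem L768005 : sm gd N57701 = N56814 := ded_27_2 L758975 L748039 (flp_c L742034) L756163 L767994
theorem L768007 : sm ge N56530 = N57702 := rfl
theorem L768009 : sm ga N57702 = N56629 := ded_13_1 (flp_e L757221) (flp_a L756165) L768007
theorem L768011 : sm gj N57702 = N56533 := ded_42_2 (flp_e L756199) (flp_j L756169) L768007
theorem L768013 : sm gh N57702 = N57702 := ded_43_2 (flp_e L768007) L756173 L768007
theorem L768014 : sm gi N57702 = N56563 := ded_44_2 (flp_e L756522) (flp_i L756171) L768007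
theorem L768016 : sm gf N57702 = N57042 := ded_40_2 (flp_e L760622) L747317 (flp_e L742051) (flp_f L756167) L768007
theorem L768018 : sm ge N56532 = N57703 := rfl
theorem L768020 : sm ga N57703 = N56637 := ded_13_1 (flp_e L757312) (flp_a L756190) L768018
theorem L768022 : sm gc N57703 = N56533 := ded_28_1 (flp_e L756199) L756188 L768018
theorem L768024 : sm gh N57703 = N57703 := ded_43_2 (flp_e L768018) L756194 L768018
theorem L768025 : sm gi N57703 = N56566 := ded_44_2 (flp_e L756550) (flp_i L756195) L768018
theorem L768027 : sm gf N57703 = N56816 := ded_40_2 (flp_e L758991) L745354 (flp_e L742067) (flp_f L756192) L768018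
theorem L768029 : sm gh N56534 = N57704 := rfl
theorem L768031 : sm ga N57704 = N56642 := ded_17_1 (flp_h L757372) (flp_a L756210) L768029
theorem L768033 : sm gb N57704 = N56678 := ded_25_1 (flp_h L757695) (flp_b L756212) L768029
theorem L768035 : sm gc N57704 = N56536 := ded_32_1 (flp_h L756239) (flp_c L756214) L768029
theorem L768037 : sm ge N57704 = N57704 := ded_43_1 (flp_h L768029) L756218 L768029
theorem L768038 : sm gf N57704 = N56535 := ded_47_1 (flp_h L756223) (flp_f L756219) L768029
theorem L768040 : sm gj N57704 = N56890 := ded_52_1 (flp_h L759648) (flp_j L756221) L768029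
theorem L768042 : sm gi N57704 = N56669 := ded_54_2 (flp_h L757613) (flp_i L743685) (flp_h L742088) L756208 L768029
theorem L768044 : sm gd N56535 = N57705 := rfl
theorem L768046 : sm ga N57705 = N56643 := ded_12_1 (flp_d L757381) (flp_a L756225) L768044
theorem L768048 : sm gb N57705 = N56680 := ded_20_1 (flp_d L757708) (flp_b L756227) L768044
theorem L768050 : sm gg N57705 = N56542 := ded_36_2 (flp_d L756309) (flp_g L756233) L768044
theorem L768052 : sm gj N57705 = N57049 := ded_37_2 (flp_d L760660) (flp_j L756235) L768044
theorem L768054 : sm gi N57705 = N56670 := ded_39_2 (flp_d L757620) (flp_i L756237) L768044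
theorem L768056 : sm ge N57705 = N57074 := ded_34_2 (flp_d L760807) L747526 (flp_d L742118) (flp_e L756231) L768044
theorem L768058 : sm gd N56536 = N57706 := rfl
theorem L768060 : sm ga N57706 = N56646 := ded_12_1 (flp_d L757410) (flp_a L756241) L768058
theorem L768062 : sm gf N57706 = N56537 := ded_35_2 (flp_d L756248) (flp_f L756244) L768058
theorem L768064 : sm gj N57706 = N57050 := ded_37_2 (flp_d L760666) (flp_j L756246) L768058
theorem L768066 : sm gc N56537 = N57707 := rfl
theorem L768068 : sm ga N57707 = N56647 := ded_11_1 (flp_c L757416) (flp_a L756250) L768066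
theorem L768070 : sm gg N57707 = N56545 := ded_30_2 (flp_c L756337) (flp_g L756252) L768066
theorem L768072 : sm gj N57707 = N57051 := ded_31_2 (flp_c L760672) (flp_j L756254) L768066
theorem L768074 : sm gh N56538 = N57708 := rfl
theorem L768076 : sm ga N57708 = N56654 := ded_17_1 (flp_h L757497) (flp_a L756258) L768074
theorem L768078 : sm gb N57708 = N57089 := ded_25_1 (flp_h L760904) (flp_b L756260) L768074
theorem L768080 : sm ge N57708 = N57708 := ded_43_1 (flp_h L768074) L756264 L768074
theorem L768081 : sm gf N57708 = N56539 := ded_47_1 (flp_h L756269) (flp_f L756265) L768074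
theorem L768083 : sm gj N57708 = N56550 := ded_52_1 (flp_h L756396) (flp_j L756267) L768074
theorem L768085 : sm gi N57708 = N57083 := ded_54_2 (flp_h L760867) (flp_i L747587) (flp_h L742151) L756256 L768074
theorem L768087 : sm gd N56539 = N57709 := rfl
theorem L768089 : sm ga N57709 = N56656 := ded_12_1 (flp_d L757518) (flp_a L756271) L768087
theorem L768091 : sm gb N57709 = N57091 := ded_20_1 (flp_d L760917) (flp_b L756273) L768087
theorem L768093 : sm gj N57709 = N56552 := ded_37_2 (flp_d L756417) (flp_j L756277) L768087
theorem L768095 : sm gi N57709 = N57084 := ded_39_2 (flp_d L760874) (flp_i L756279) L768087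
theorem L768097 : sm ge N57709 = N57078 := ded_34_2 (flp_d L760835) L747557 (flp_d L742493) (flp_e L756275) L768087
theorem L768099 : sm gh N57709 = N56542 := ded_38_2 (flp_d L756309) (flp_h L742192) (flp_d L742160) L756269 L768087
theorem L768101 : sm gh N56540 = N57710 := rfl
theorem L768103 : sm ga N57710 = N56658 := ded_17_1 (flp_h L757536) (flp_a L756283) L768101
theorem L768105 : sm gb N57710 = N57132 := ded_25_1 (flp_h L761178) (flp_b L756285) L768101
theorem L768107 : sm gc N57710 = N56543 := ded_32_1 (flp_h L756321) (flp_c L756287) L768101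
theorem L768109 : sm ge N57710 = N56558 := ded_43_1 (flp_h L756463) (flp_e L756289) L768101
theorem L768111 : sm gg N57710 = N56541 := ded_50_1 (flp_h L756293) (flp_g L756291) L768101
theorem L768113 : sm gi N57710 = N57121 := ded_54_2 L761126 (flp_i L747894) (flp_h L742176) L756281 L768101
theorem L768115 : sm gd N56541 = N57711 := rfl
theorem L768117 : sm ga N57711 = N56659 := ded_12_1 (flp_d L757544) (flp_a L756295) L768115
theorem L768119 : sm gb N57711 = N57134 := ded_20_1 (flp_d L761192) (flp_b L756297) L768115
theorem L768121 : sm gf N57711 = N56542 := ded_35_2 (flp_d L756309) (flp_f L756303) L768115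
theorem L768123 : sm gj N57711 = N56553 := ded_37_2 (flp_d L756427) (flp_j L756305) L768115
theorem L768125 : sm gi N57711 = N57120 := ded_39_2 L761114 (flp_i L756307) L768115
theorem L768127 : sm gc N56542 = N57712 := rfl
theorem L768129 : sm ga N57712 = N56660 := ded_11_1 (flp_c L757550) (flp_a L756311) L768127
theorem L768131 : sm ge N57712 = N57079 := ded_28_2 (flp_c L760841) (flp_e L756319) L768127
theorem L768133 : sm gj N57712 = N56554 := ded_31_2 (flp_c L756435) (flp_j L756315) L768127
theorem L768135 : sm gi N57712 = N57119 := ded_33_2 L761104 (flp_i L756317) L768127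
theorem L768137 : sm gd N57712 = N56545 := ded_27_2 (flp_c L756337) (flp_d L742224) (flp_c L742198) L756309 L768127
theorem L768139 : sm gd N56543 = N57713 := rfl
theorem L768141 : sm ga N57713 = N56663 := ded_12_1 (flp_d L757574) (flp_a L756323) L768139
theorem L768143 : sm gg N57713 = N56544 := ded_36_2 (flp_d L756329) (flp_g L756327) L768139
theorem L768145 : sm gc N56544 = N57714 := rfl
theorem L768147 : sm ga N57714 = N56664 := ded_11_1 (flp_c L757578) (flp_a L756331) L768145
theorem L768149 : sm gf N57714 = N56545 := ded_29_2 (flp_c L756337) (flp_f L756333) L768145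
theorem L768151 : sm gj N57714 = N56555 := ded_31_2 (flp_c L756447) (flp_j L756335) L768145
theorem L768153 : sm ge N56544 = N57715 := rfl
theorem L768155 : sm ga N57715 = N56665 := ded_13_1 (flp_e L757584) (flp_a L756331) L768153
theorem L768157 : sm gj N57715 = N56556 := ded_42_2 (flp_e L756453) (flp_j L756335) L768153
theorem L768159 : sm gd N57715 = N56563 := ded_34_1 (flp_e L756522) (flp_d L742395) (flp_e L742218) L756329 L768153
theorem L768161 : sm gb N56545 = N57716 := rfl
theorem L768163 : sm gj N57716 = N56557 := ded_24_2 (flp_b L756459) (flp_j L756341) L768161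
theorem L768165 : sm gh N56546 = N57717 := rfl
theorem L768167 : sm gb N57717 = N56658 := ded_25_1 (flp_h L757536) (flp_b L756345) L768165
theorem L768169 : sm gc N57717 = N56547 := ded_32_1 (flp_h L756359) (flp_c L756347) L768165
theorem L768171 : sm ge N57717 = N56572 := ded_43_1 (flp_h L756606) (flp_e L756351) L768165
theorem L768173 : sm gf N57717 = N56855 := ded_47_1 (flp_h L759381) (flp_f L756353) L768165
theorem L768175 : sm gg N57717 = N56650 := ded_50_1 (flp_h L757453) (flp_g L756355) L768165
theorem L768177 : sm gj N57717 = N57068 := ded_52_1 (flp_h L760774) (flp_j L756357) L768165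
theorem L768179 : sm gi N57717 = N56854 := ded_54_2 (flp_h L759371) (flp_i L745762) (flp_h L742240) L756343 L768165
theorem L768181 : sm gd N56547 = N57718 := rfl
theorem L768183 : sm gb N57718 = N56552 := ded_20_1 (flp_d L756417) (flp_b L756361) L768181
theorem L768185 : sm gg N57718 = N57056 := ded_36_2 (flp_d L760702) (flp_g L756365) L768181
theorem L768187 : sm gj N57718 = N57091 := ded_37_2 (flp_d L760917) (flp_j L756367) L768181
theorem L768189 : sm gi N57718 = N57078 := ded_39_2 (flp_d L760835) (flp_i L756369) L768181
theorem L768191 : sm ge N57718 = N57084 := ded_34_2 (flp_d L760874) L747600 (flp_d L742531) (flp_e L756363) L768181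
theorem L768193 : sm gh N57718 = N56548 := ded_38_2 (flp_d L756371) (flp_h L742258) (flp_d L742250) L756359 L768181
theorem L768195 : sm gc N56548 = N57719 := rfl
theorem L768197 : sm ge N57719 = N57086 := ded_28_2 (flp_c L760888) (flp_e L756381) L768195
theorem L768199 : sm gg N57719 = N57057 := ded_30_2 (flp_c L760708) (flp_g L756375) L768195
theorem L768201 : sm gj N57719 = N57137 := ded_31_2 (flp_c L761210) (flp_j L756377) L768195
theorem L768203 : sm gi N57719 = N57115 := ded_33_2 (flp_c L761074) (flp_i L756379) L768195
theorem L768205 : sm gh N56549 = N57720 := rfl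
theorem L768207 : sm ga N57720 = N56678 := ded_17_1 (flp_h L757695) (flp_a L756385) L768205
theorem L768209 : sm gb N57720 = N56834 := ded_25_1 (flp_h L759179) (flp_b L756387) L768205
theorem L768211 : sm ge N57720 = N57720 := ded_43_1 (flp_h L768205) L756391 L768205
theorem L768212 : sm gf N57720 = N56551 := ded_47_1 (flp_h L756403) (flp_f L756392) L768205
theorem L768214 : sm gj N57720 = N57083 := ded_52_1 (flp_h L760867) (flp_j L756394) L768205
theorem L768216 : sm gi N57720 = N56550 := ded_54_2 (flp_h L756396) (flp_i L742283) L742270 L756383 L768205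
theorem L768218 : sm gd N56550 = N57721 := rfl
theorem L768220 : sm ga N57721 = N56679 := ded_12_1 (flp_d L757702) (flp_a L756398) L768218
theorem L768222 : sm gf N57721 = N56552 := ded_35_2 (flp_d L756417) (flp_f L756401) L768218
theorem L768224 : sm gh N57721 = N56553 := ded_38_2 (flp_d L756427) (flp_h L742314) (flp_d L742287) L756396 L768218
theorem L768226 : sm gd N56551 = N57722 := rfl
theorem L768228 : sm ga N57722 = N56680 := ded_12_1 (flp_d L757708) (flp_a L756405) L768226
theorem L768230 : sm gb N57722 = N57078 := ded_20_1 (flp_d L760835) (flp_b L756407) L768226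
theorem L768232 : sm gg N57722 = N57058 := ded_36_2 (flp_d L760710) (flp_g L756411) L768226
theorem L768234 : sm gj N57722 = N57084 := ded_37_2 (flp_d L760874) (flp_j L756413) L768226
theorem L768236 : sm gi N57722 = N56552 := ded_39_2 (flp_d L756417) (flp_i L756415) L768226

end Cfsg.Agent.Helper28.FicA
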