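import Cfsg.Agent.Helper28.FicB43

/-! # The Fi₂₃ presentation, cosets of the subgroup generated by a, …, i: the coset enumeration, part 44 (helper28; generated) -/

set_option autoImplicit false

noncomputable section

namespace Cfsg.Agent.Helper28.FicA

open Cfsg.Agent.Helper28.CosetTable

theorem L768238 : sm ge N57722 = N57091 := ded_34_2 (flp_d L760917) L747646 (flp_d L742546) (flp_e L756409) L768226
theorem L768240 : sm gh N57722 = N57077 := ded_38_2 (flp_d L760825) (flp_h L747545) (flp_d L742298) L756403 L768226
theorem L768242 : sm gc N56552 = N57723 := rfl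
theorem L768244 : sm ga N57723 = N56681 := ded_11_1 (flp_c L757714) (flp_a L756419) L768242
theorem L768246 : sm ge N57723 = N57092 := ded_28_2 (flp_c L760923) (flp_e L756423) L768242
theorem L768248 : sm gg N57723 = N57059 := ded_30_2 (flp_c L760716) (flp_g L756421) L768242
theorem L768250 : sm gh N57723 = N56554 := ded_32_2 (flp_c L756435) (flp_h L756425) L768242
theorem L768252 : sm gc N56553 = N57724 := rfl
theorem L768254 : sm ga N57724 = N56685 := ded_11_1 (flp_c L757748) (flp_a L756429) L768252
theorem L768256 : sm gf N57724 = N56554 := ded_29_2 (flp_c L756435) (flp_f L756431) L768252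
theorem L768258 : sm gi N57724 = N57147 := ded_33_2 L761260 (flp_i L756433) L768252
theorem L768260 : sm gd N57724 = N56555 := ded_27_2 (flp_c L756447) (flp_d L742336) (flp_c L742318) L756427 L768252
theorem L768262 : sm ge N56553 = N57725 := rfl
theorem L768264 : sm ga N57725 = N56686 := ded_13_1 (flp_e L757754) (flp_a L756429) L768262
theorem L768266 : sm gi N57725 = N57144 := ded_44_2 L761248 (flp_i L756433) L768262
theorem L768268 : sm gd N57725 = N56565 := ded_34_1 (flp_e L756541) (flp_d L742416) (flp_e L742320) L756427 L768262
theorem L768270 : sm gf N57725 = N57096 := ded_40_2 (flp_e L760951) L747674 (flp_e L742334) (flp_f L756431) L768262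
theorem L768272 : sm gb N56554 = N57726 := rfl
theorem L768274 : sm gd N57726 = N56557 := ded_20_2 (flp_b L756459) (flp_d L756445) L768272
theorem L768276 : sm ge N57726 = N57097 := ded_21_2 (flp_b L760957) (flp_e L756439) L768272
theorem L768278 : sm gg N57726 = N57060 := ded_23_2 (flp_b L760722) (flp_g L756441) L768272
theorem L768280 : sm gi N57726 = N57146 := ded_26_2 L761256 (flp_i L756443) L768272
theorem L768282 : sm gb N56555 = N57727 := rfl
theorem L768284 : sm gf N57727 = N56557 := ded_22_2 (flp_b L756459) (flp_f L756451) L768282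
theorem L768286 : sm ge N56555 = N57728 := rfl
theorem L768288 : sm ga N57728 = N56694 := ded_13_1 (flp_e L757806) (flp_a L756449) L768286
theorem L768290 : sm gc N57728 = N56556 := ded_28_1 (flp_e L756453) L756447 L768286
theorem L768292 : sm ga N56557 = N57729 := rfl
theorem L768294 : sm gg N57729 = N57061 := ded_15_2 (flp_a L760726) (flp_g L756461) L768292
theorem L768296 : sm gb N57729 = N56695 := ded_10_2 (flp_a L757810) (flp_b L743865) (flp_a L742344) L756459 L768292
theorem L768298 : sm gd N56558 = N57730 := rfl
theorem L768300 : sm ga N57730 = N56698 := ded_12_1 (flp_d L757836) (flp_a L756465) L768298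
theorem L768302 : sm gb N57730 = N57167 := ded_20_1 (flp_d L761393) (flp_b L756467) L768298
theorem L768304 : sm gf N57730 = N57730 := ded_35_2 (flp_d L768298) L756471 L768298
theorem L768305 : sm gg N57730 = N56559 := ded_36_2 (flp_d L756476) (flp_g L756472) L768298
theorem L768307 : sm gi N57730 = N57154 := ded_39_2 L761306 (flp_i L756474) L768298
theorem L768309 : sm gh N57730 = N57730 := ded_38_2 (flp_d L768298) (flp_h L756463) L742356 L756463 L768298
theorem L768310 : sm gc N56559 = N57731 := rfl
theorem L768312 : sm ga N57731 = N56699 := ded_11_1 (flp_c L757842) (flp_a L756478) L768310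
theorem L768314 : sm gf N57731 = N56560 := ded_29_2 (flp_c L756489) (flp_f L756482) L768310
theorem L768316 : sm gj N57731 = N56564 := ded_31_2 (flp_c L756530) (flp_j L756484) L768310
theorem L768318 : sm gh N57731 = N57731 := ded_32_2 (flp_c L768310) L756488 L768310
theorem L768319 : sm gi N57731 = N56814 := ded_33_2 L758975 (flp_i L756486) L768310
theorem L768321 : sm gd N57731 = N56562 := ded_27_2 (flp_c L756512) (flp_d L742395) (flp_c L742366) L756476 L768310
theorem L768323 : sm ge N56559 = N57732 := rfl
theorem L768325 : sm ga N57732 = N56700 := ded_13_1 (flp_e L757853) (flp_a L756478) L768323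
theorem L768327 : sm gb N57732 = N57169 := ded_21_1 (flp_e L761407) (flp_b L756480) L768323
theorem L768329 : sm gj N57732 = N56565 := ded_42_2 (flp_e L756541) (flp_j L756484) L768323
theorem L768331 : sm gh N57732 = N57732 := ded_43_2 (flp_e L768323) L756488 L768323
theorem L768332 : sm gi N57732 = N57153 := ded_44_2 L761300 (flp_i L756486) L768323
theorem L768334 : sm gf N57732 = N56836 := ded_40_2 (flp_e L759196) L745579 (flp_e L742385) (flp_f L756482) L768323
theorem L768336 : sm gc N56561 = N57733 := rfl
theorem L768338 : sm ga N57733 = N56702 := ded_11_1 (flp_c L757867) (flp_a L756505) L768336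
theorem L768340 : sm gf N57733 = N57733 := ded_29_2 (flp_c L768336) L756507 L768336
theorem L768341 : sm gg N57733 = N56562 := ded_30_2 (flp_c L756512) (flp_g L756508) L768336
theorem L768343 : sm gh N57733 = N56567 := ded_32_2 (flp_c L756558) (flp_h L756510) L768336
theorem L768345 : sm ge N56561 = N57734 := rfl
theorem L768347 : sm ga N57734 = N56703 := ded_13_1 (flp_e L757874) (flp_a L756505) L768345
theorem L768349 : sm gg N57734 = N56563 := ded_41_2 (flp_e L756522) (flp_g L756508) L768345
theorem L768351 : sm gh N57734 = N56568 := ded_43_2 (flp_e L756567) (flp_h L756510) L768345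
theorem L768353 : sm ge N56562 = N57735 := rfl
theorem L768355 : sm ga N57735 = N56705 := ded_13_1 (flp_e L757888) (flp_a L756514) L768353
theorem L768357 : sm gc N57735 = N56563 := ded_28_1 (flp_e L756522) L756512 L768353
theorem L768359 : sm gj N57735 = N56566 := ded_42_2 (flp_e L756550) (flp_j L756518) L768353
theorem L768361 : sm gh N57735 = N56569 := ded_43_2 (flp_e L756574) (flp_h L756520) L768353
theorem L768363 : sm gf N57735 = N57045 := ded_40_2 (flp_e L760636) L747344 (flp_e L742409) (flp_f L756516) L768353
theorem L768365 : sm ge N56564 = N57736 := rfl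
theorem L768367 : sm ga N57736 = N56711 := ded_13_1 (flp_e L757944) (flp_a L756532) L768365
theorem L768369 : sm gc N57736 = N56565 := ded_28_1 (flp_e L756541) L756530 L768365
theorem L768371 : sm gh N57736 = N57736 := ded_43_2 (flp_e L768365) L756536 L768365
theorem L768372 : sm gi N57736 = N56809 := ded_44_2 L758931 (flp_i L756537) L768365
theorem L768374 : sm gf N57736 = N56784 := ded_40_2 (flp_e L758685) L745018 (flp_e L742429) (flp_f L756534) L768365
theorem L768376 : sm gd N56566 = N57737 := rfl
theorem L768378 : sm ga N57737 = N56718 := ded_12_1 (flp_d L758014) (flp_a L756552) L768376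
theorem L768380 : sm ge N56567 = N57738 := rfl
theorem L768382 : sm ga N57738 = N56724 := ded_13_1 (flp_e L758066) (flp_a L756560) L768380
theorem L768384 : sm gc N57738 = N56568 := ded_28_1 (flp_e L756567) L756558 L768380
theorem L768386 : sm gg N57738 = N56569 := ded_41_2 (flp_e L756574) (flp_g L756563) L768380
theorem L768388 : sm gi N57738 = N57738 := ded_44_2 (flp_e L768380) L756565 L768380
theorem L768389 : sm gf N56568 = N57739 := rfl
theorem L768391 : sm ga N57739 = N56725 := ded_14_1 (flp_f L758073) (flp_a L756569) L768389
theorem L768393 : sm gd N57739 = N56956 := ded_35_1 (flp_f L761904) L761902 L768389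
theorem L768395 : sm gi N57739 = N57739 := ded_48_2 (flp_f L768389) L756573 L768389
theorem L768396 : sm ge N57739 = N57739 := ded_40_1 (flp_f L768389) (flp_e L756567) L742456 L756567 L768389
theorem L768397 : sm gg N57739 = N56955 := ded_45_2 (flp_f L760086) (flp_g L753535) L753542 (flp_g L756571) L768389
theorem L768399 : sm gh N56570 = N57740 := rfl
theorem L768401 : sm ga N57740 = N56733 := ded_17_1 (flp_h L758148) (flp_a L756587) L768399
theorem L768403 : sm ge N57740 = N57740 := ded_43_1 (flp_h L768399) L756590 L768399
theorem L768404 : sm gd N56572 = N57741 := rfl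
theorem L768406 : sm gb N57741 = N56698 := ded_20_1 (flp_d L757836) (flp_b L756608) L768404
theorem L768408 : sm gf N57741 = N57741 := ded_35_2 (flp_d L768404) L756612 L768404
theorem L768409 : sm gg N57741 = N56696 := ded_36_2 (flp_d L757814) (flp_g L756613) L768404
theorem L768411 : sm gj N57741 = N57163 := ded_37_2 (flp_d L761370) (flp_j L756615) L768404
theorem L768413 : sm gi N57741 = N57158 := ded_39_2 (flp_d L761335) (flp_i L756617) L768404
theorem L768415 : sm gc N57741 = N57165 := ded_27_1 (flp_d L761380) L748192 (flp_d L742531) (flp_c L756610) L768404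
theorem L768417 : sm gh N57741 = N57741 := ded_38_2 (flp_d L768404) (flp_h L756606) L742516 L756606 L768404
theorem L768418 : sm gd N56573 = N57742 := rfl
theorem L768420 : sm ga N57742 = N57022 := ded_12_1 (flp_d L760497) (flp_a L756621) L768418
theorem L768422 : sm gb N57742 = N57098 := ded_20_1 (flp_d L760963) (flp_b L756623) L768418
theorem L768424 : sm gg N57742 = N56581 := ded_36_2 (flp_d L756714) (flp_g L756627) L768418
theorem L768426 : sm gj N57742 = N56860 := ded_37_2 (flp_d L759410) (flp_j L756629) L768418
theorem L768428 : sm gi N57742 = N56903 := ded_39_2 (flp_d L759720) (flp_i L756631) L768418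
theorem L768430 : sm gh N57742 = N56601 := ded_38_2 (flp_d L756918) (flp_h L742878) (flp_d L742556) L756619 L768418
theorem L768432 : sm gh N56574 = N57743 := rfl
theorem L768434 : sm ga N57743 = N56801 := ded_17_1 (flp_h L758864) (flp_a L756635) L768432
theorem L768436 : sm gb N57743 = N56577 := ded_25_1 (flp_h L756677) (flp_b L756637) L768432
theorem L768438 : sm ge N57743 = N56575 := ded_43_1 (flp_h L756649) (flp_e L756641) L768432
theorem L768440 : sm gf N57743 = N57088 := ded_47_1 (flp_h L760899) (flp_f L756643) L768432
theorem L768442 : sm gg N57743 = N56613 := ded_50_1 (flp_h L757054) (flp_g L756645) L768432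
theorem L768444 : sm gj N57743 = N56586 := ded_52_1 (flp_h L756774) (flp_j L756647) L768432
theorem L768446 : sm gh N56576 = N57744 := rfl
theorem L768448 : sm ga N57744 = N56883 := ded_17_1 (flp_h L759595) (flp_a L756662) L768446
theorem L768450 : sm gb N57744 = N57088 := ded_25_1 (flp_h L760899) (flp_b L756664) L768446
theorem L768452 : sm gc N57744 = N56580 := ded_32_1 (flp_h L756707) (flp_c L756666) L768446
theorem L768454 : sm ge N57744 = N57744 := ded_43_1 (flp_h L768446) L756670 L768446
theorem L768455 : sm gf N57744 = N56577 := ded_47_1 (flp_h L756677) (flp_f L756671) L768446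
theorem L768457 : sm gg N57744 = N57083 := ded_50_1 (flp_h L760867) (flp_g L756673) L768446
theorem L768459 : sm gj N57744 = N56592 := ded_52_1 (flp_h L756844) (flp_j L756675) L768446
theorem L768461 : sm gd N56577 = N57745 := rfl
theorem L768463 : sm ga N57745 = N56885 := ded_12_1 (flp_d L759610) (flp_a L756679) L768461
theorem L768465 : sm gj N57745 = N56593 := ded_37_2 (flp_d L756851) (flp_j L756685) L768461
theorem L768467 : sm gh N57745 = N56882 := ded_38_2 (flp_d L759591) (flp_h L746016) (flp_d L742626) L756677 L768461
theorem L768469 : sm gh N56579 = N57746 := rfl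
theorem L768471 : sm gc N57746 = N57083 := ded_32_1 (flp_h L760867) (flp_c L756698) L768469
theorem L768473 : sm ge N57746 = N57746 := ded_43_1 (flp_h L768469) L756702 L768469
theorem L768474 : sm gf N57746 = N57082 := ded_47_1 (flp_h L760861) (flp_f L756703) L768469
theorem L768476 : sm gg N57746 = N56580 := ded_50_1 (flp_h L756707) (flp_g L756705) L768469
theorem L768478 : sm gd N56580 = N57747 := rfl
theorem L768480 : sm gf N57747 = N56581 := ded_35_2 (flp_d L756714) (flp_f L756710) L768478
theorem L768482 : sm gj N57747 = N56596 := ded_37_2 (flp_d L756872) (flp_j L756712) L768478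
theorem L768484 : sm gh N57747 = N56608 := ded_38_2 (flp_d L757002) (flp_h L742976) (flp_d L742652) L756707 L768478
theorem L768486 : sm gc N56581 = N57748 := rfl
theorem L768488 : sm gj N57748 = N56597 := ded_31_2 (flp_c L756878) (flp_j L756716) L768486
theorem L768490 : sm gh N57748 = N56609 := ded_32_2 (flp_c L757010) (flp_h L756718) L768486
theorem L768492 : sm gh N56582 = N57749 := rfl
theorem L768494 : sm ga N57749 = N56586 := ded_17_1 (flp_h L756774) (flp_a L756722) L768492
theorem L768496 : sm gb N57749 = N56795 := ded_25_1 (flp_h L758798) (flp_b L756724) L768492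
theorem L768498 : sm ge N57749 = N56583 := ded_43_1 (flp_h L756734) (flp_e L756728) L768492
theorem L768500 : sm gg N57749 = N57062 := ded_50_1 (flp_h L760730) (flp_g L756730) L768492
theorem L768502 : sm gj N57749 = N56801 := ded_52_1 (flp_h L758864) (flp_j L756732) L768492
theorem L768504 : sm gd N56583 = N57750 := rfl
theorem L768506 : sm ga N57750 = N56587 := ded_12_1 (flp_d L756782) (flp_a L756736) L768504
theorem L768508 : sm gb N57750 = N56820 := ded_20_1 (flp_d L759030) (flp_b L756738) L768504
theorem L768510 : sm gf N57750 = N57750 := ded_35_2 (flp_d L768504) L756740 L768504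
theorem L768511 : sm gg N57750 = N57063 := ded_36_2 (flp_d L760740) (flp_g L756741) L768504
theorem L768513 : sm gj N57750 = N56823 := ded_37_2 (flp_d L759067) (flp_j L756743) L768504
theorem L768515 : sm gh N57750 = N56740 := ded_38_2 (flp_d L758227) (flp_h L744353) (flp_d L742683) L756734 L768504
theorem L768517 : sm gh N56584 = N57751 := rfl
theorem L768519 : sm ga N57751 = N56792 := ded_17_1 (flp_h L758767) (flp_a L756747) L768517
theorem L768521 : sm gb N57751 = N56590 := ded_25_1 (flp_h L756823) (flp_b L756749) L768517
theorem L768523 : sm gc N57751 = N56619 := ded_32_1 (flp_h L757124) (flp_c L756751) L768517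
theorem L768525 : sm ge N57751 = N56631 := ded_43_1 (flp_h L757242) (flp_e L756755) L768517
theorem L768527 : sm gf N57751 = N57093 := ded_47_1 (flp_h L760927) (flp_f L756757) L768517
theorem L768529 : sm gg N57751 = N57064 := ded_50_1 (flp_h L760752) (flp_g L756759) L768517
theorem L768531 : sm gj N57751 = N56616 := ded_52_1 (flp_h L757088) (flp_j L756761) L768517
theorem L768533 : sm gi N57751 = N56683 := ded_54_2 (flp_h L757732) (flp_i L743791) L742706 L756745 L768517
theorem L768535 : sm gh N56585 = N57752 := rfl
theorem L768537 : sm gb N57752 = N56592 := ded_25_1 (flp_h L756844) (flp_b L756765) L768535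
theorem L768539 : sm ge N57752 = N57752 := ded_43_1 (flp_h L768535) L756769 L768535
theorem L768540 : sm gf N57752 = N56586 := ded_47_1 (flp_h L756774) (flp_f L756770) L768535
theorem L768542 : sm gj N57752 = N57088 := ded_52_1 (flp_h L760899) (flp_j L756772) L768535
theorem L768544 : sm gd N56586 = N57753 := rfl
theorem L768546 : sm gb N57753 = N56593 := ded_20_1 (flp_d L756851) (flp_b L756776) L768544
theorem L768548 : sm gg N57753 = N57065 := ded_36_2 (flp_d L760758) (flp_g L756780) L768544
theorem L768550 : sm gc N56587 = N57754 := rfl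
theorem L768552 : sm gf N57754 = N57754 := ded_29_2 (flp_c L768550) L756786 L768550
theorem L768553 : sm gg N57754 = N57066 := ded_30_2 (flp_c L760762) (flp_g L756787) L768550
theorem L768555 : sm gh N57754 = N56741 := ded_32_2 (flp_c L758239) (flp_h L756789) L768550
theorem L768557 : sm ge N56587 = N57755 := rfl
theorem L768559 : sm gb N57755 = N56594 := ded_21_1 (flp_e L756855) (flp_b L756784) L768557
theorem L768561 : sm gg N57755 = N57067 := ded_41_2 (flp_e L760768) (flp_g L756787) L768557
theorem L768563 : sm gh N57755 = N56742 := ded_43_2 (flp_e L758246) (flp_h L756789) L768557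
theorem L768565 : sm gh N56588 = N57756 := rfl
theorem L768567 : sm ga N57756 = N56868 := ded_17_1 (flp_h L759467) (flp_a L756793) L768565
theorem L768569 : sm gb N57756 = N57093 := ded_25_1 (flp_h L760927) (flp_b L756795) L768565
theorem L768571 : sm gc N57756 = N56613 := ded_32_1 (flp_h L757054) (flp_c L756797) L768565
theorem L768573 : sm ge N57756 = N56907 := ded_43_1 (flp_h L759740) (flp_e L756801) L768565
theorem L768575 : sm gf N57756 = N56590 := ded_47_1 (flp_h L756823) (flp_f L756803) L768565
theorem L768577 : sm gj N57756 = N56881 := ded_52_1 (flp_h L759575) (flp_j L756805) L768565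
theorem L768579 : sm gi N57756 = N57062 := ded_54_2 (flp_h L760730) (flp_i L747451) L742746 L756791 L768565
theorem L768581 : sm gh N56589 = N57757 := rfl
theorem L768583 : sm ga N57757 = N56843 := ded_17_1 (flp_h L759263) (flp_a L756809) L768581
theorem L768585 : sm gb N57757 = N56683 := ded_25_1 (flp_h L757732) (flp_b L756811) L768581
theorem L768587 : sm gc N57757 = N56614 := ded_32_1 (flp_h L757064) (flp_c L756813) L768581
theorem L768589 : sm ge N57757 = N56707 := ded_43_1 (flp_h L757911) (flp_e L756815) L768581
theorem L768591 : sm gf N57757 = N57062 := ded_47_1 (flp_h L760730) (flp_f L756817) L768581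
theorem L768593 : sm gg N57757 = N57068 := ded_50_1 (flp_h L760774) (flp_g L756819) L768581
theorem L768595 : sm gj N57757 = N56671 := ded_52_1 (flp_h L757630) (flp_j L756821) L768581
theorem L768597 : sm gi N57757 = N56590 := ded_54_2 (flp_h L756823) (flp_i L742764) L742748 L756807 L768581
theorem L768599 : sm gd N56590 = N57758 := rfl
theorem L768601 : sm ga N57758 = N56869 := ded_12_1 (flp_d L759481) (flp_a L756825) L768599
theorem L768603 : sm gg N57758 = N57069 := ded_36_2 (flp_d L760782) (flp_g L756831) L768599
theorem L768605 : sm gj N57758 = N56882 := ded_37_2 (flp_d L759591) (flp_j L756833) L768599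
theorem L768607 : sm gh N57758 = N56593 := ded_38_2 (flp_d L756851) (flp_h L742794) (flp_d L742770) L756823 L768599
theorem L768609 : sm gh N56591 = N57759 := rfl
theorem L768611 : sm gc N57759 = N56595 := ded_32_1 (flp_h L756861) (flp_c L756837) L768609
theorem L768613 : sm ge N57759 = N57759 := ded_43_1 (flp_h L768609) L756839 L768609
theorem L768614 : sm gf N57759 = N56839 := ded_47_1 (flp_h L759222) (flp_f L756840) L768609
theorem L768616 : sm gg N57759 = N56592 := ded_50_1 (flp_h L756844) (flp_g L756842) L768609
theorem L768618 : sm gi N57759 = N56863 := ded_54_2 (flp_h L759438) (flp_i L745859) (flp_h L742783) L756835 L768609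
theorem L768620 : sm gd N56592 = N57760 := rfl
theorem L768622 : sm gf N57760 = N56593 := ded_35_2 (flp_d L756851) (flp_f L756849) L768620
theorem L768624 : sm gc N56593 = N57761 := rfl
theorem L768626 : sm gg N57761 = N57070 := ded_30_2 (flp_c L760786) (flp_g L756853) L768624
theorem L768628 : sm gd N57761 = N56597 := ded_27_2 (flp_c L756878) (flp_d L742825) (flp_c L742796) L756851 L768624
theorem L768630 : sm ge N56593 = N57762 := rfl
theorem L768632 : sm gg N57762 = N57071 := ded_41_2 (flp_e L760790) (flp_g L756853) L768630
theorem L768634 : sm gd N57762 = N56594 := ded_34_1 (flp_e L756855) (flp_d L742802) (flp_e L742798) L756851 L768630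
theorem L768636 : sm gf N56594 = N57763 := rfl
theorem L768638 : sm gh N57763 = N56743 := ded_47_2 (flp_f L758253) (flp_h L756859) L768636
theorem L768640 : sm ge N57763 = N57763 := ded_40_1 (flp_f L768636) (flp_e L756855) L742804 L756855 L768636
theorem L768641 : sm gd N56595 = N57764 := rfl
theorem L768643 : sm gb N57764 = N57075 := ded_20_1 (flp_d L760813) (flp_b L756863) L768641
theorem L768645 : sm gf N57764 = N56841 := ded_35_2 (flp_d L759242) (flp_f L756866) L768641
theorem L768647 : sm gg N57764 = N56596 := ded_36_2 (flp_d L756872) (flp_g L756868) L768641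
theorem L768649 : sm gi N57764 = N56866 := ded_39_2 (flp_d L759457) (flp_i L756870) L768641
theorem L768651 : sm gh N57764 = N56620 := ded_38_2 (flp_d L757134) (flp_h L743110) (flp_d L742813) L756861 L768641
theorem L768653 : sm gc N56596 = N57765 := rfl
theorem L768655 : sm gf N57765 = N56597 := ded_29_2 (flp_c L756878) (flp_f L756874) L768653
theorem L768657 : sm gh N57765 = N56621 := ded_32_2 (flp_c L757142) (flp_h L756876) L768653
theorem L768659 : sm ge N56596 = N57766 := rfl
theorem L768661 : sm gh N57766 = N56622 := ded_43_2 (flp_e L757148) (flp_h L756876) L768659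
theorem L768663 : sm gd N57766 = N57766 := ded_34_1 (flp_e L768659) (flp_d L756872) L742822 L756872 L768659
theorem L768664 : sm gb N56597 = N57767 := rfl
theorem L768666 : sm gg N57767 = N57072 := ded_23_2 (flp_b L760794) (flp_g L756880) L768664
theorem L768668 : sm gh N57767 = N56623 := ded_25_2 (flp_b L757154) (flp_h L756882) L768664
theorem L768670 : sm gd N56598 = N57768 := rfl
theorem L768672 : sm ga N57768 = N56670 := ded_12_1 (flp_d L757620) (flp_a L756886) L768670
theorem L768674 : sm gg N57768 = N56605 := ded_36_2 (flp_d L756970) (flp_g L756892) L768670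
theorem L768676 : sm gj N57768 = N57074 := ded_37_2 (flp_d L760807) (flp_j L756894) L768670
theorem L768678 : sm gi N57768 = N56643 := ded_39_2 (flp_d L757381) (flp_i L756896) L768670
theorem L768680 : sm ge N57768 = N57049 := ded_34_2 (flp_d L760660) L747374 (flp_d L742856) (flp_e L756890) L768670
theorem L768682 : sm gh N57768 = N56667 := ded_38_2 (flp_d L757594) (flp_h L743666) (flp_d L742837) L756884 L768670
theorem L768684 : sm gh N56599 = N57769 := rfl
theorem L768686 : sm gc N57769 = N56850 := ded_32_1 (flp_h L759335) (flp_c L756900) L768684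
theorem L768688 : sm ge N57769 = N57769 := ded_43_1 (flp_h L768684) L756904 L768684
theorem L768689 : sm gf N57769 = N56607 := ded_47_1 (flp_h L756994) (flp_f L756905) L768684
theorem L768691 : sm gg N57769 = N56600 := ded_50_1 (flp_h L756909) (flp_g L756907) L768684
theorem L768693 : sm gi N57769 = N56645 := ded_54_2 (flp_h L757403) (flp_i L743426) (flp_h L742867) L756898 L768684
theorem L768695 : sm gd N56600 = N57770 := rfl
theorem L768697 : sm gf N57770 = N56601 := ded_35_2 (flp_d L756918) (flp_f L756912) L768695
theorem L768699 : sm gj N57770 = N57075 := ded_37_2 (flp_d L760813) (flp_j L756914) L768695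
theorem L768701 : sm gi N57770 = N56646 := ded_39_2 (flp_d L757410) (flp_i L756916) L768695
theorem L768703 : sm gc N56601 = N57771 := rfl
theorem L768705 : sm gg N57771 = N56609 := ded_30_2 (flp_c L757010) (flp_g L756920) L768703
theorem L768707 : sm gj N57771 = N57076 := ded_31_2 (flp_c L760819) (flp_j L756922) L768703
theorem L768709 : sm gi N57771 = N56647 := ded_33_2 (flp_c L757416) (flp_i L756924) L768703
theorem L768711 : sm gd N56602 = N57772 := rfl
theorem L768713 : sm ga N57772 = N57056 := ded_12_1 (flp_d L760702) (flp_a L756928) L768711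
theorem L768715 : sm gb N57772 = N56605 := ded_20_1 (flp_d L756970) (flp_b L756930) L768711
theorem L768717 : sm gj N57772 = N56611 := ded_37_2 (flp_d L757028) (flp_j L756934) L768711
theorem L768719 : sm gi N57772 = N56651 := ded_39_2 (flp_d L757465) (flp_i L756936) L768711
theorem L768721 : sm ge N57772 = N57052 := ded_34_2 (flp_d L760678) L747395 (flp_d L742910) (flp_e L756932) L768711
theorem L768723 : sm gh N57772 = N57055 := ded_38_2 (flp_d L760696) (flp_h L747411) (flp_d L742894) L756926 L768711
theorem L768725 : sm gh N56603 = N57773 := rfl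
theorem L768727 : sm ga N57773 = N57121 := ded_17_1 L761126 (flp_a L756940) L768725
theorem L768729 : sm gb N57773 = N56854 := ded_25_1 (flp_h L759371) (flp_b L756942) L768725
theorem L768731 : sm gc N57773 = N56607 := ded_32_1 (flp_h L756994) (flp_c L756944) L768725
theorem L768733 : sm ge N57773 = N56624 := ded_43_1 (flp_h L757160) (flp_e L756948) L768725
theorem L768735 : sm gf N57773 = N56850 := ded_47_1 (flp_h L759335) (flp_f L756950) L768725
theorem L768737 : sm gg N57773 = N56604 := ded_50_1 (flp_h L756956) (flp_g L756952) L768725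
theorem L768739 : sm gj N57773 = N57064 := ded_52_1 (flp_h L760752) (flp_j L756954) L768725
theorem L768741 : sm gi N57773 = N56658 := ded_54_2 (flp_h L757536) (flp_i L743608) (flp_h L742926) L756938 L768725
theorem L768743 : sm gd N56604 = N57774 := rfl
theorem L768745 : sm ga N57774 = N57120 := ded_12_1 L761114 (flp_a L756958) L768743
theorem L768747 : sm gf N57774 = N56605 := ded_35_2 (flp_d L756970) (flp_f L756964) L768743
theorem L768749 : sm gj N57774 = N56617 := ded_37_2 (flp_d L757104) (flp_j L756966) L768743
theorem L768751 : sm gi N57774 = N56659 := ded_39_2 (flp_d L757544) (flp_i L756968) L768743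
theorem L768753 : sm gh N57774 = N57126 := ded_38_2 (flp_d L761148) (flp_h L747882) (flp_d L742938) L756956 L768743
theorem L768755 : sm gc N56605 = N57775 := rfl
theorem L768757 : sm ga N57775 = N57119 := ded_11_1 L761104 (flp_a L756972) L768755
theorem L768759 : sm ge N57775 = N57053 := ded_28_2 (flp_c L760684) (flp_e L756978) L768755
theorem L768761 : sm gj N57775 = N56618 := ded_31_2 (flp_c L757112) (flp_j L756974) L768755
theorem L768763 : sm gh N57775 = N57127 := ded_32_2 (flp_c L761154) (flp_h L756980) L768755
theorem L768765 : sm gi N57775 = N56660 := ded_33_2 (flp_c L757550) (flp_i L756976) L768755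
theorem L768767 : sm gd N57775 = N56609 := ded_27_2 (flp_c L757010) (flp_d L742986) (flp_c L742950) L756970 L768755
theorem L768769 : sm gh N56606 = N57776 := rfl
theorem L768771 : sm gb N57776 = N57082 := ded_25_1 (flp_h L760861) (flp_b L756984) L768769
theorem L768773 : sm gc N57776 = N57064 := ded_32_1 (flp_h L760752) (flp_c L756986) L768769
theorem L768775 : sm ge N57776 = N56626 := ded_43_1 (flp_h L757189) (flp_e L756988) L768769
theorem L768777 : sm gg N57776 = N56619 := ded_50_1 (flp_h L757124) (flp_g L756990) L768769
theorem L768779 : sm gj N57776 = N56607 := ded_52_1 (flp_h L756994) (flp_j L756992) L768769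
theorem L768781 : sm gi N57776 = N56662 := ded_54_2 (flp_h L757566) (flp_i L743642) (flp_h L742966) L756982 L768769
theorem L768783 : sm gd N56607 = N57777 := rfl
theorem L768785 : sm gg N57777 = N56608 := ded_36_2 (flp_d L757002) (flp_g L756998) L768783
theorem L768787 : sm gi N57777 = N56663 := ded_39_2 (flp_d L757574) (flp_i L757000) L768783
theorem L768789 : sm gc N56608 = N57778 := rfl
theorem L768791 : sm gf N57778 = N56609 := ded_29_2 (flp_c L757010) (flp_f L757004) L768789
theorem L768793 : sm gj N57778 = N56621 := ded_31_2 (flp_c L757142) (flp_j L757006) L768789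
theorem L768795 : sm gi N57778 = N56664 := ded_33_2 (flp_c L757578) (flp_i L757008) L768789
theorem L768797 : sm ge N56608 = N57779 := rfl
theorem L768799 : sm gj N57779 = N56622 := ded_42_2 (flp_e L757148) (flp_j L757006) L768797
theorem L768801 : sm gi N57779 = N56665 := ded_44_2 (flp_e L757584) (flp_i L757008) L768797
theorem L768803 : sm gd N57779 = N56629 := ded_34_1 (flp_e L757221) (flp_d L743193) (flp_e L742978) L757002 L768797
theorem L768805 : sm gb N56609 = N57780 := rfl
theorem L768807 : sm gj N57780 = N56623 := ded_24_2 (flp_b L757154) (flp_j L757012) L768805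
theorem L768809 : sm gi N57780 = N56666 := ded_26_2 (flp_b L757590) (flp_i L757014) L768805
theorem L768811 : sm gd N56610 = N57781 := rfl
theorem L768813 : sm ga N57781 = N57052 := ded_12_1 (flp_d L760678) (flp_a L757018) L768811
theorem L768815 : sm gb N57781 = N56615 := ded_20_1 (flp_d L757076) (flp_b L757020) L768811
theorem L768817 : sm gg N57781 = N57084 := ded_36_2 (flp_d L760874) (flp_g L757024) L768811
theorem L768819 : sm gj N57781 = N57055 := ded_37_2 (flp_d L760696) (flp_j L757026) L768811
theorem L768821 : sm ge N57781 = N57056 := ded_34_2 (flp_d L760702) L747423 (flp_d L744421) (flp_e L757022) L768811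
theorem L768823 : sm gh N57781 = N56611 := ded_38_2 (flp_d L757028) (flp_h L743006) (flp_d L742998) L757016 L768811
theorem L768825 : sm gc N56611 = N57782 := rfl
theorem L768827 : sm ge N57782 = N57057 := ded_28_2 (flp_c L760708) (flp_e L757036) L768825
theorem L768829 : sm gg N57782 = N57086 := ded_30_2 (flp_c L760888) (flp_g L757032) L768825
theorem L768831 : sm gi N57782 = N56673 := ded_33_2 (flp_c L757652) (flp_i L757034) L768825
theorem L768833 : sm gh N56612 = N57783 := rfl
theorem L768835 : sm ga N57783 = N56832 := ded_17_1 (flp_h L759154) (flp_a L757040) L768833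
theorem L768837 : sm gb N57783 = N56896 := ded_25_1 (flp_h L759686) (flp_b L757042) L768833
theorem L768839 : sm gc N57783 = N57062 := ded_32_1 (flp_h L760730) (flp_c L757044) L768833
theorem L768841 : sm ge N57783 = N56831 := ded_43_1 (flp_h L759140) (flp_e L757048) L768833
theorem L768843 : sm gf N57783 = N56614 := ded_47_1 (flp_h L757064) (flp_f L757050) L768833
theorem L768845 : sm gj N57783 = N56886 := ded_52_1 (flp_h L759616) (flp_j L757052) L768833
theorem L768847 : sm gi N57783 = N56613 := ded_54_2 (flp_h L757054) (flp_i L743032) L743016 L757038 L768833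
theorem L768849 : sm gd N56613 = N57784 := rfl
theorem L768851 : sm ga N57784 = N57113 := ded_12_1 (flp_d L761056) (flp_a L757056) L768849
theorem L768853 : sm gf N57784 = N56615 := ded_35_2 (flp_d L757076) (flp_f L757060) L768849
theorem L768855 : sm gj N57784 = N57126 := ded_37_2 (flp_d L761148) (flp_j L757062) L768849
theorem L768857 : sm gh N57784 = N56617 := ded_38_2 (flp_d L757104) (flp_h L743080) (flp_d L743036) L757054 L768849
theorem L768859 : sm gd N56614 = N57785 := rfl
theorem L768861 : sm ga N57785 = N57077 := ded_12_1 (flp_d L760825) (flp_a L757066) L768859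
theorem L768863 : sm gg N57785 = N57091 := ded_36_2 (flp_d L760917) (flp_g L757070) L768859
theorem L768865 : sm gj N57785 = N57081 := ded_37_2 (flp_d L760855) (flp_j L757072) L768859
theorem L768867 : sm gi N57785 = N56615 := ded_39_2 (flp_d L757076) (flp_i L757074) L768859
theorem L768869 : sm ge N57785 = N57058 := ded_34_2 (flp_d L760710) L747433 (flp_d L744433) (flp_e L757068) L768859
theorem L768871 : sm gh N57785 = N56680 := ded_38_2 (flp_d L757708) (flp_h L743777) (flp_d L743048) L757064 L768859
theorem L768873 : sm gc N56615 = N57786 := rfl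
theorem L768875 : sm ga N57786 = N57114 := ded_11_1 (flp_c L761066) (flp_a L757078) L768873
theorem L768877 : sm ge N57786 = N57059 := ded_28_2 (flp_c L760716) (flp_e L757084) L768873
theorem L768879 : sm gg N57786 = N57092 := ded_30_2 (flp_c L760923) (flp_g L757080) L768873
theorem L768881 : sm gj N57786 = N57127 := ded_31_2 (flp_c L761154) (flp_j L757082) L768873
theorem L768883 : sm gh N57786 = N56618 := ded_32_2 (flp_c L757112) (flp_h L757086) L768873
theorem L768885 : sm gd N56616 = N57787 := rfl
theorem L768887 : sm ga N57787 = N56802 := ded_12_1 (flp_d L758872) (flp_a L757090) L768885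
theorem L768889 : sm gb N57787 = N56882 := ded_20_1 (flp_d L759591) (flp_b L757092) L768885
theorem L768891 : sm gf N57787 = N57094 := ded_35_2 (flp_d L760937) (flp_f L757098) L768885
theorem L768893 : sm gg N57787 = N56617 := ded_36_2 (flp_d L757104) (flp_g L757100) L768885
theorem L768895 : sm gi N57787 = N56684 := ded_39_2 (flp_d L757742) (flp_i L757102) L768885
theorem L768897 : sm gc N56617 = N57788 := rfl
theorem L768899 : sm ga N57788 = N57147 := ded_11_1 L761260 (flp_a L757106) L768897
theorem L768901 : sm gf N57788 = N56618 := ded_29_2 (flp_c L757112) (flp_f L757108) L768897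
theorem L768903 : sm gi N57788 = N56685 := ded_33_2 (flp_c L757748) (flp_i L757110) L768897
theorem L768905 : sm gd N57788 = N56621 := ded_27_2 (flp_c L757142) (flp_d L743120) (flp_c L743084) L757104 L768897
theorem L768907 : sm ge N56617 = N57789 := rfl
theorem L768909 : sm ga N57789 = N57144 := ded_13_1 L761248 (flp_a L757106) L768907
theorem L768911 : sm gi N57789 = N56686 := ded_44_2 (flp_e L757754) (flp_i L757110) L768907
theorem L768913 : sm gd N57789 = N56632 := ded_34_1 (flp_e L757258) (flp_d L743244) (flp_e L743086) L757104 L768907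
theorem L768915 : sm gf N57789 = N56777 := ded_40_2 (flp_e L758622) L744904 (flp_e L743100) (flp_f L757108) L768907
theorem L768917 : sm gb N56618 = N57790 := rfl
theorem L768919 : sm gd N57790 = N56623 := ded_20_2 (flp_b L757154) (flp_d L757122) L768917
theorem L768921 : sm ge N57790 = N57060 := ded_21_2 (flp_b L760722) (flp_e L757116) L768917
theorem L768923 : sm gg N57790 = N57097 := ded_23_2 (flp_b L760957) (flp_g L757118) L768917
theorem L768925 : sm gi N57790 = N56687 := ded_26_2 (flp_b L757758) (flp_i L757120) L768917
theorem L768927 : sm gd N56619 = N57791 := rfl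
theorem L768929 : sm gf N57791 = N57098 := ded_35_2 (flp_d L760963) (flp_f L757128) L768927
theorem L768931 : sm gj N57791 = N56620 := ded_37_2 (flp_d L757134) (flp_j L757130) L768927
theorem L768933 : sm gi N57791 = N56690 := ded_39_2 (flp_d L757784) (flp_i L757132) L768927
theorem L768935 : sm gc N56620 = N57792 := rfl
theorem L768937 : sm gf N57792 = N57099 := ded_29_2 (flp_c L760969) (flp_f L757136) L768935
theorem L768939 : sm gg N57792 = N56621 := ded_30_2 (flp_c L757142) (flp_g L757138) L768935
theorem L768941 : sm gi N57792 = N56691 := ded_33_2 (flp_c L757790) (flp_i L757140) L768935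
theorem L768943 : sm ge N56620 = N57793 := rfl
theorem L768945 : sm gg N57793 = N56622 := ded_41_2 (flp_e L757148) (flp_g L757138) L768943
theorem L768947 : sm gi N57793 = N56692 := ded_44_2 (flp_e L757796) (flp_i L757140) L768943
theorem L768949 : sm gd N57793 = N56635 := ded_34_1 (flp_e L757292) (flp_d L743264) (flp_e L743112) L757134 L768943
theorem L768951 : sm gb N56621 = N57794 := rfl
theorem L768953 : sm gf N57794 = N56623 := ded_22_2 (flp_b L757154) (flp_f L757144) L768951
theorem L768955 : sm gi N57794 = N56693 := ded_26_2 (flp_b L757802) (flp_i L757146) L768951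
theorem L768957 : sm ge N56621 = N57795 := rfl
theorem L768959 : sm gc N57795 = N56622 := ded_28_1 (flp_e L757148) L757142 L768957
theorem L768961 : sm gi N57795 = N56694 := ded_44_2 (flp_e L757806) (flp_i L757146) L768957
theorem L768963 : sm ga N56623 = N57796 := rfl
theorem L768965 : sm gg N57796 = N57101 := ded_15_2 (flp_a L760981) (flp_g L757156) L768963
theorem L768967 : sm gi N57796 = N56695 := ded_18_2 (flp_a L757810) (flp_i L757158) L768963
theorem L768969 : sm gd N56624 = N57797 := rfl
theorem L768971 : sm ga N57797 = N57154 := ded_12_1 L761306 (flp_a L757162) L768969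
theorem L768973 : sm gb N57797 = N57158 := ded_20_1 (flp_d L761335) (flp_b L757164) L768969
theorem L768975 : sm gf N57797 = N57797 := ded_35_2 (flp_d L768969) L757168 L768969
theorem L768976 : sm gg N57797 = N56625 := ded_36_2 (flp_d L757175) (flp_g L757169) L768969
theorem L768978 : sm gj N57797 = N57160 := ded_37_2 (flp_d L761351) (flp_j L757171) L768969
theorem L768980 : sm gi N57797 = N56698 := ded_39_2 (flp_d L757836) (flp_i L757173) L768969
theorem L768982 : sm gh N57797 = N56779 := ded_38_2 L758644 (flp_h L748112) (flp_d L743140) L757160 L768969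
theorem L768984 : sm gc N56911 = N57797 := ded_30_3 L768976 (flp_c L757187) L759784
theorem L768986 : sm gd N56626 = N57798 := rfl
theorem L768988 : sm gb N57798 = N57165 := ded_20_1 (flp_d L761380) (flp_b L757191) L768986
theorem L768990 : sm gf N57798 = N57798 := ded_35_2 (flp_d L768986) L757195 L768986
theorem L768991 : sm gg N57798 = N56633 := ded_36_2 (flp_d L757270) (flp_g L757196) L768986
theorem L768993 : sm gj N57798 = N56627 := ded_37_2 (flp_d L757202) (flp_j L757198) L768986
theorem L768995 : sm gi N57798 = N56701 := ded_39_2 (flp_d L757858) (flp_i L757200) L768986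
theorem L768997 : sm gh N57798 = N57798 := ded_38_2 (flp_d L768986) (flp_h L757189) L743180 L757189 L768986
theorem L768998 : sm gc N56627 = N57799 := rfl
theorem L769000 : sm gf N57799 = N57799 := ded_29_2 (flp_c L768998) L757204 L768998
theorem L769001 : sm gg N57799 = N56628 := ded_30_2 (flp_c L757210) (flp_g L757205) L768998
theorem L769003 : sm gh N57799 = N57799 := ded_32_2 (flp_c L768998) L757209 L768998
theorem L769004 : sm gi N57799 = N56702 := ded_33_2 (flp_c L757867) (flp_i L757207) L768998
theorem L769006 : sm gd N57799 = N56911 := ded_27_2 L768984 (flp_d L768969) L757166 L757202 L768998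
theorem L769008 : sm ge N56627 = N57800 := rfl
theorem L769010 : sm gg N57800 = N56629 := ded_41_2 (flp_e L757221) (flp_g L757205) L769008
theorem L769012 : sm gh N57800 = N57800 := ded_43_2 (flp_e L769008) L757209 L769008
theorem L769013 : sm gi N57800 = N56703 := ded_44_2 (flp_e L757874) (flp_i L757207) L769008
theorem L769015 : sm gb N56628 = N57801 := rfl
theorem L769017 : sm gd N57801 = N56713 := ded_20_2 (flp_b L757972) (flp_d L757219) L769015
theorem L769019 : sm gf N57801 = N56630 := ded_22_2 (flp_b L757228) (flp_f L757212) L769015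
theorem L769021 : sm gj N57801 = N56636 := ded_24_2 (flp_b L757299) (flp_j L757214) L769015
theorem L769023 : sm gh N57801 = N57801 := ded_25_2 (flp_b L769015) L757216 L769015
theorem L769024 : sm gi N57801 = N56704 := ded_26_2 (flp_b L757880) (flp_i L757217) L769015
theorem L769026 : sm gc N57801 = N56709 := ded_19_2 (flp_b L764157) (flp_c L764142) L751379 L757210 L769015
theorem L769028 : sm ge N56628 = N57802 := rfl
theorem L769030 : sm gc N57802 = N56629 := ded_28_1 (flp_e L757221) L757210 L769028
theorem L769032 : sm gj N57802 = N56637 := ded_42_2 (flp_e L757312) (flp_j L757214) L769028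
theorem L769034 : sm gh N57802 = N57802 := ded_43_2 (flp_e L769028) L757216 L769028
theorem L769035 : sm gi N57802 = N56705 := ded_44_2 (flp_e L757888) (flp_i L757217) L769028
theorem L769037 : sm gf N57802 = N56910 := ded_40_2 (flp_e L759777) L746220 (flp_e L743204) (flp_f L757212) L769028
theorem L769039 : sm gc N56633 = N57803 := rfl
theorem L769041 : sm gf N57803 = N56638 := ded_29_2 (flp_c L757321) (flp_f L757272) L769039
theorem L769043 : sm gj N57803 = N56634 := ded_31_2 (flp_c L757279) (flp_j L757274) L769039
theorem L769045 : sm gh N57803 = N57803 := ded_32_2 (flp_c L769039) L757278 L769039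
theorem L769046 : sm gi N57803 = N56713 := ded_33_2 (flp_c L757964) (flp_i L757276) L769039
theorem L769048 : sm gb N57803 = N56699 := ded_19_1 (flp_c L757842) (flp_b L757816) (flp_c L764184) L764174 L769039
theorem L769050 : sm gd N57803 = N56704 := ded_27_2 (flp_c L764761) L764747 L757248 L757270 L769039
theorem L769052 : sm ge N56633 = N57804 := rfl
theorem L769054 : sm gj N57804 = N56635 := ded_42_2 (flp_e L757292) (flp_j L757274) L769052
theorem L769056 : sm gh N57804 = N57804 := ded_43_2 (flp_e L769052) L757278 L769052
theorem L769057 : sm gi N57804 = N56714 := ded_44_2 (flp_e L757974) (flp_i L757276) L769052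
theorem L769059 : sm gf N57804 = N57006 := ded_40_2 (flp_e L760387) L747048 (flp_e L743322) (flp_f L757272) L769052
theorem L769061 : sm ge N56634 = N57805 := rfl
theorem L769063 : sm gb N57805 = N56711 := ded_21_1 (flp_e L757944) (flp_b L757288) L769061
theorem L769065 : sm gc N57805 = N56635 := ded_28_1 (flp_e L757292) L757279 L769061
theorem L769067 : sm gg N57805 = N56637 := ded_41_2 (flp_e L757312) (flp_g L757283) L769061
theorem L769069 : sm gh N57805 = N57805 := ded_43_2 (flp_e L769061) L757285 L769061
theorem L769070 : sm gi N57805 = N56715 := ded_44_2 (flp_e L757982) (flp_i L757286) L769061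
theorem L769072 : sm gf N57805 = N56853 := ded_40_2 (flp_e L759364) L745757 (flp_e L743327) (flp_f L757281) L769061
theorem L769074 : sm ge N56636 = N57806 := rfl
theorem L769076 : sm gb N57806 = N56637 := ded_21_1 (flp_e L757312) L757299 L769074
theorem L769078 : sm gc N57806 = N56710 := ded_28_1 (flp_e L757939) (flp_c L757310) L769074
theorem L769080 : sm gg N57806 = N56711 := ded_41_2 (flp_e L757944) (flp_g L757305) L769074
theorem L769082 : sm gh N57806 = N57806 := ded_43_2 (flp_e L769074) L757307 L769074
theorem L769083 : sm gi N57806 = N56717 := ded_44_2 (flp_e L758006) (flp_i L757308) L769074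
theorem L769085 : sm gf N57806 = N56913 := ded_40_2 (flp_e L759802) L746276 (flp_e L743291) (flp_f L757303) L769074
theorem L769087 : sm gd N56637 = N57807 := rfl
theorem L769089 : sm gf N57807 = N56899 := ded_35_2 L759706 (flp_f L757319) L769087
theorem L769091 : sm gi N57807 = N56718 := ded_39_2 (flp_d L758014) (flp_i L757317) L769087
theorem L769093 : sm ge N57807 = N56902 := ded_34_2 L759718 L746144 (flp_d L743280) L757312 L769087
theorem L769095 : sm gd N56639 = N57808 := rfl
theorem L769097 : sm ga N57808 = N57078 := ded_12_1 (flp_d L760835) (flp_a L757337) L769095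
theorem L769099 : sm gb N57808 = N56643 := ded_20_1 (flp_d L757381) (flp_b L757339) L769095
theorem L769101 : sm gg N57808 = N56651 := ded_36_2 (flp_d L757465) (flp_g L757343) L769095
theorem L769103 : sm gj N57808 = N56682 := ded_37_2 L757730 (flp_j L757345) L769095
theorem L769105 : sm ge N57808 = N56656 := ded_34_2 (flp_d L757518) L743592 (flp_d L743363) (flp_e L757341) L769095
theorem L769107 : sm gh N57808 = N56661 := ded_38_2 L757564 L743638 (flp_d L743344) L757335 L769095
theorem L769109 : sm gd N56640 = N57809 := rfl
theorem L769111 : sm gb N57809 = N56661 := ded_20_1 L757564 (flp_b L757349) L769109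
theorem L769113 : sm gg N57809 = N56656 := ded_36_2 (flp_d L757518) (flp_g L757353) L769109
theorem L769115 : sm gj N57809 = N56674 := ded_37_2 L757666 (flp_j L757355) L769109
theorem L769117 : sm gi N57809 = N57052 := ded_39_2 (flp_d L760678) (flp_i L757357) L769109
theorem L769119 : sm ge N57809 = N56651 := ded_34_2 (flp_d L757465) L743523 L743527 (flp_e L757351) L769109
theorem L769121 : sm gh N57809 = N56643 := ded_38_2 (flp_d L757381) (flp_h L743399) (flp_d L743369) L757347 L769109
theorem L769123 : sm gh N56641 = N57810 := rfl
theorem L769125 : sm gb N57810 = N56855 := ded_25_1 (flp_h L759381) (flp_b L757361) L769123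
theorem L769127 : sm gc N57810 = N56645 := ded_32_1 (flp_h L757403) (flp_c L757363) L769123
theorem L769129 : sm ge N57810 = N57810 := ded_43_1 (flp_h L769123) L757367 L769123
theorem L769130 : sm gf N57810 = N56658 := ded_47_1 (flp_h L757536) (flp_f L757368) L769123
theorem L769132 : sm gg N57810 = N56642 := ded_50_1 (flp_h L757372) (flp_g L757370) L769123
theorem L769134 : sm gi N57810 = N56850 := ded_54_2 (flp_h L759335) (flp_i L745720) (flp_h L743386) L757359 L769123
theorem L769136 : sm gd N56642 = N57811 := rfl
theorem L769138 : sm gf N57811 = N56643 := ded_35_2 (flp_d L757381) (flp_f L757377) L769136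
theorem L769140 : sm gj N57811 = N57107 := ded_37_2 (flp_d L761029) (flp_j L757379) L769136
theorem L769142 : sm gc N56643 = N57812 := rfl
theorem L769144 : sm gg N57812 = N56660 := ded_30_2 (flp_c L757550) (flp_g L757383) L769142
theorem L769146 : sm gj N57812 = N57108 := ded_31_2 (flp_c L761033) (flp_j L757385) L769142
theorem L769148 : sm gd N57812 = N56647 := ded_27_2 (flp_c L757416) (flp_d L743440) (flp_c L743401) L757381 L769142
theorem L769150 : sm ge N56643 = N57813 := rfl
theorem L769152 : sm ga N57813 = N57074 := ded_13_1 (flp_e L768056) L768046 L769150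
theorem L769154 : sm gb N57813 = N56656 := ded_21_1 (flp_e L769105) L769099 L769150
theorem L769156 : sm gg N57813 = N56661 := ded_41_2 (flp_e L757556) (flp_g L757383) L769150
theorem L769158 : sm gj N57813 = N56670 := ded_42_2 L757626 (flp_j L757385) L769150
theorem L769160 : sm gh N57813 = N56651 := ded_43_2 (flp_e L769119) L769121 L769150
theorem L769162 : sm gi N57813 = N57049 := ded_44_2 (flp_e L768680) L768678 L769150
theorem L769164 : sm gd N57813 = N56644 := ded_34_1 (flp_e L757387) (flp_d L743409) (flp_e L743403) L757381 L769150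
theorem L769166 : sm gf N56644 = N57814 := rfl
theorem L769168 : sm ga N57814 = N57073 := ded_14_1 L760803 (flp_a L757389) L769166
theorem L769170 : sm gb N57814 = N56654 := ded_22_1 L757500 (flp_b L757391) L769166
theorem L769172 : sm gc N57814 = N57030 := ded_29_1 L760555 (flp_c L757393) L769166
theorem L769174 : sm gj N57814 = N56669 := ded_46_2 L757618 (flp_j L757397) L769166
theorem L769176 : sm gh N57814 = N56649 := ded_47_2 L757447 (flp_h L757399) L769166
theorem L769178 : sm gi N57814 = N56890 := ded_48_2 L759655 (flp_i L757401) L769166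
theorem L769180 : sm ge N57814 = N57814 := ded_40_1 (flp_f L769166) (flp_e L757387) L743415 L757387 L769166
theorem L769181 : sm gg N57814 = N56891 := ded_45_2 L759662 (flp_g L751775) L751773 (flp_g L757395) L769166
theorem L769183 : sm gd N56645 = N57815 := rfl
theorem L769185 : sm gf N57815 = N56663 := ded_35_2 (flp_d L757574) (flp_f L757406) L769183
theorem L769187 : sm gg N57815 = N56646 := ded_36_2 (flp_d L757410) (flp_g L757408) L769183
theorem L769189 : sm gc N56646 = N57816 := rfl
theorem L769191 : sm gf N57816 = N56647 := ded_29_2 (flp_c L757416) (flp_f L757412) L769189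
theorem L769193 : sm gj N57816 = N57110 := ded_31_2 (flp_c L761045) (flp_j L757414) L769189
theorem L769195 : sm ge N56646 = N57817 := rfl
theorem L769197 : sm gj N57817 = N57111 := ded_42_2 (flp_e L761049) (flp_j L757414) L769195
theorem L769199 : sm gd N57817 = N57817 := ded_34_1 (flp_e L769195) (flp_d L757410) L743435 L757410 L769195
theorem L769200 : sm gb N56647 = N57818 := rfl
theorem L769202 : sm gg N57818 = N56666 := ded_23_2 (flp_b L757590) (flp_g L757418) L769200
theorem L769204 : sm gj N57818 = N57112 := ded_24_2 (flp_b L761052) (flp_j L757420) L769200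
theorem L769206 : sm gd N56648 = N57819 := rfl
theorem L769208 : sm ga N57819 = N56651 := ded_12_1 (flp_d L757465) (flp_a L757424) L769206
theorem L769210 : sm gb N57819 = N57058 := ded_20_1 (flp_d L760710) (flp_b L757426) L769206
theorem L769212 : sm gg N57819 = N57078 := ded_36_2 (flp_d L760835) (flp_g L757430) L769206
theorem L769214 : sm gj N57819 = N56667 := ded_37_2 (flp_d L757594) (flp_j L757432) L769206
theorem L769216 : sm gi N57819 = N57056 := ded_39_2 (flp_d L760702) (flp_i L757434) L769206
theorem L769218 : sm gh N57819 = N57074 := ded_38_2 (flp_d L760807) (flp_h L747522) (flp_d L743452) L757422 L769206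
theorem L769220 : sm gd N56650 = N57820 := rfl
theorem L769222 : sm gb N57820 = N56659 := ded_20_1 (flp_d L757544) (flp_b L757455) L769220
theorem L769224 : sm gf N57820 = N56651 := ded_35_2 (flp_d L757465) (flp_f L757461) L769220
theorem L769226 : sm gj N57820 = N56672 := ded_37_2 (flp_d L757646) (flp_j L757463) L769220
theorem L769228 : sm gc N56651 = N57821 := rfl
theorem L769230 : sm gj N57821 = N56673 := ded_31_2 (flp_c L757652) (flp_j L757469) L769228
theorem L769232 : sm gh N56652 = N57822 := rfl
theorem L769234 : sm gb N57822 = N56891 := ded_25_1 (flp_h L759659) (flp_b L757473) L769232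
theorem L769236 : sm ge N57822 = N57822 := ded_43_1 (flp_h L769232) L757477 L769232
theorem L769237 : sm gf N57822 = N56884 := ded_47_1 (flp_h L759602) (flp_f L757478) L769232
theorem L769239 : sm gg N57822 = N56654 := ded_50_1 (flp_h L757497) (flp_g L757480) L769232
theorem L769241 : sm gi N57822 = N56883 := ded_54_2 (flp_h L759595) (flp_i L746024) L743550 L757471 L769232
theorem L769243 : sm gh N56653 = N57823 := rfl
theorem L769245 : sm ga N57823 = N57083 := ded_17_1 (flp_h L760867) (flp_a L757484) L769243
theorem L769247 : sm gb N57823 = N56890 := ded_25_1 (flp_h L759648) (flp_b L757486) L769243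
theorem L769249 : sm ge N57823 = N57823 := ded_43_1 (flp_h L769243) L757490 L769243
theorem L769250 : sm gf N57823 = N56655 := ded_47_1 (flp_h L757504) (flp_f L757491) L769243
theorem L769252 : sm gg N57823 = N56883 := ded_50_1 (flp_h L759595) (flp_g L757493) L769243
theorem L769254 : sm gj N57823 = N56678 := ded_52_1 (flp_h L757695) (flp_j L757495) L769243
theorem L769256 : sm gi N57823 = N56654 := ded_54_2 (flp_h L757497) (flp_i L743567) L743552 L757482 L769243
theorem L769258 : sm gd N56654 = N57824 := rfl
theorem L769260 : sm gf N57824 = N56656 := ded_35_2 (flp_d L757518) (flp_f L757500) L769258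
theorem L769262 : sm gj N57824 = N56679 := ded_37_2 (flp_d L757702) (flp_j L757502) L769258
theorem L769264 : sm gh N57824 = N56659 := ded_38_2 (flp_d L757544) (flp_h L743616) (flp_d L743569) L757497 L769258
theorem L769266 : sm gd N56655 = N57825 := rfl
theorem L769268 : sm ga N57825 = N57084 := ded_12_1 (flp_d L760874) (flp_a L757506) L769266
theorem L769270 : sm gb N57825 = N57049 := ded_20_1 (flp_d L760660) (flp_b L757508) L769266
theorem L769272 : sm gg N57825 = N57052 := ded_36_2 (flp_d L760678) (flp_g L757512) L769266
theorem L769274 : sm gj N57825 = N56680 := ded_37_2 (flp_d L757708) (flp_j L757514) L769266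
theorem L769276 : sm gi N57825 = N56656 := ded_39_2 (flp_d L757518) (flp_i L757516) L769266
theorem L769278 : sm gh N57825 = N57081 := ded_38_2 (flp_d L760855) (flp_h L747573) (flp_d L743582) L757504 L769266
theorem L769280 : sm gc N56656 = N57826 := rfl
theorem L769282 : sm gj N57826 = N56681 := ded_31_2 (flp_c L757714) (flp_j L757520) L769280
theorem L769284 : sm gh N57826 = N56660 := ded_32_2 (flp_c L757550) (flp_h L757522) L769280
theorem L769286 : sm gh N56657 = N57827 := rfl
theorem L769288 : sm gb N57827 = N57068 := ded_25_1 (flp_h L760774) (flp_b L757526) L769286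
theorem L769290 : sm gc N57827 = N56662 := ded_32_1 (flp_h L757566) (flp_c L757528) L769286
theorem L769292 : sm ge N57827 = N56697 := ded_43_1 (flp_h L757823) (flp_e L757530) L769286
theorem L769294 : sm gg N57827 = N56683 := ded_50_1 (flp_h L757732) (flp_g L757532) L769286
theorem L769296 : sm gj N57827 = N56658 := ded_52_1 (flp_h L757536) (flp_j L757534) L769286
theorem L769298 : sm gi N57827 = N57064 := ded_54_2 (flp_h L760752) (flp_i L747471) (flp_h L743604) L757524 L769286
theorem L769300 : sm gd N56658 = N57828 := rfl
theorem L769302 : sm gg N57828 = N56659 := ded_36_2 (flp_d L757544) (flp_g L757542) L769300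
theorem L769304 : sm gc N56659 = N57829 := rfl
theorem L769306 : sm gf N57829 = N56660 := ded_29_2 (flp_c L757550) (flp_f L757546) L769304
theorem L769308 : sm gj N57829 = N56685 := ded_31_2 (flp_c L757748) (flp_j L757548) L769304
theorem L769310 : sm gd N57829 = N56664 := ded_27_2 (flp_c L757578) (flp_d L743656) (flp_c L743618) L757544 L769304
theorem L769312 : sm ge N56659 = N57830 := rfl
theorem L769314 : sm gj N57830 = N56686 := ded_42_2 (flp_e L757754) (flp_j L757548) L769312
theorem L769316 : sm gd N57830 = N56700 := ded_34_1 (flp_e L757853) (flp_d L743906) (flp_e L743620) L757544 L769312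
theorem L769318 : sm gb N56660 = N57831 := rfl
theorem L769320 : sm gd N57831 = N56666 := ded_20_2 (flp_b L757590) (flp_d L757554) L769318
theorem L769322 : sm gj N57831 = N56687 := ded_24_2 (flp_b L757758) (flp_j L757552) L769318
theorem L769324 : sm ge N56660 = N57832 := rfl
theorem L769326 : sm ga N57832 = N57079 := ded_13_1 (flp_e L768131) L768129 L769324
theorem L769328 : sm gc N57832 = N56661 := ded_28_1 (flp_e L757556) L757550 L769324
theorem L769330 : sm gj N57832 = N56688 := ded_42_2 (flp_e L757764) (flp_j L757552) L769324
theorem L769332 : sm gi N57832 = N57053 := ded_44_2 (flp_e L768759) L768765 L769324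
theorem L769334 : sm gd N57832 = N57047 := ded_34_1 (flp_e L767550) L767560 L755713 (flp_d L757554) L769324
theorem L769336 : sm gd N56662 = N57833 := rfl
theorem L769338 : sm gg N57833 = N56690 := ded_36_2 (flp_d L757784) (flp_g L757570) L769336
theorem L769340 : sm gj N57833 = N56663 := ded_37_2 (flp_d L757574) (flp_j L757572) L769336
theorem L769342 : sm gc N56663 = N57834 := rfl
theorem L769344 : sm gg N57834 = N56664 := ded_30_2 (flp_c L757578) (flp_g L757576) L769342
theorem L769346 : sm ge N56663 = N57835 := rfl
theorem L769348 : sm gg N57835 = N56665 := ded_41_2 (flp_e L757584) (flp_g L757576) L769346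
theorem L769350 : sm gd N57835 = N56703 := ded_34_1 (flp_e L757874) (flp_d L743946) (flp_e L743652) L757574 L769346
theorem L769352 : sm gb N56664 = N57836 := rfl
theorem L769354 : sm gf N57836 = N56666 := ded_22_2 (flp_b L757590) (flp_f L757580) L769352
theorem L769356 : sm gj N57836 = N56693 := ded_24_2 (flp_b L757802) (flp_j L757582) L769352
theorem L769358 : sm ge N56664 = N57837 := rfl
theorem L769360 : sm gc N57837 = N56665 := ded_28_1 (flp_e L757584) L757578 L769358
theorem L769362 : sm gj N57837 = N56694 := ded_42_2 (flp_e L757806) (flp_j L757582) L769358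
theorem L769364 : sm ga N56666 = N57838 := rfl
theorem L769366 : sm gj N57838 = N56695 := ded_16_2 (flp_a L757810) (flp_j L757592) L769364
theorem L769368 : sm gc N56667 = N57839 := rfl
theorem L769370 : sm ga N57839 = N56673 := ded_11_1 (flp_c L757652) (flp_a L757596) L769368
theorem L769372 : sm gg N57839 = N57127 := ded_30_2 (flp_c L761154) (flp_g L757598) L769368
theorem L769374 : sm gh N56668 = N57840 := rfl
theorem L769376 : sm ga N57840 = N56850 := ded_17_1 (flp_h L759335) (flp_a L757602) L769374
theorem L769378 : sm gb N57840 = N56677 := ded_25_1 (flp_h L757688) (flp_b L757604) L769374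
theorem L769380 : sm ge N57840 = N57840 := ded_43_1 (flp_h L769374) L757608 L769374
theorem L769381 : sm gf N57840 = N57121 := ded_47_1 L761126 (flp_f L757609) L769374
theorem L769383 : sm gg N57840 = N56669 := ded_50_1 (flp_h L757613) (flp_g L757611) L769374
theorem L769385 : sm gd N56669 = N57841 := rfl
theorem L769387 : sm gb N57841 = N56679 := ded_20_1 (flp_d L757702) (flp_b L757615) L769385
theorem L769389 : sm gf N57841 = N56670 := ded_35_2 (flp_d L757620) (flp_f L757618) L769385
theorem L769391 : sm gh N57841 = N56672 := ded_38_2 (flp_d L757646) (flp_h L743716) (flp_d L743689) L757613 L769385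
theorem L769393 : sm gc N56670 = N57842 := rfl
theorem L769395 : sm ge N57842 = N57108 := ded_28_2 (flp_c L761033) (flp_e L757626) L769393
theorem L769397 : sm gg N57842 = N57119 := ded_30_2 L761104 (flp_g L757624) L769393
theorem L769399 : sm gh N57842 = N56673 := ded_32_2 (flp_c L757652) (flp_h L757628) L769393
theorem L769401 : sm gd N56671 = N57843 := rfl
theorem L769403 : sm ga N57843 = N56852 := ded_12_1 (flp_d L759358) (flp_a L757632) L769401
theorem L769405 : sm gb N57843 = N56684 := ded_20_1 (flp_d L757742) (flp_b L757634) L769401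
theorem L769407 : sm gf N57843 = N57128 := ded_35_2 (flp_d L761158) (flp_f L757640) L769401
theorem L769409 : sm gg N57843 = N56672 := ded_36_2 (flp_d L757646) (flp_g L757642) L769401
theorem L769411 : sm gi N57843 = N56882 := ded_39_2 (flp_d L759591) (flp_i L757644) L769401
theorem L769413 : sm gc N56672 = N57844 := rfl
theorem L769415 : sm gf N57844 = N56673 := ded_29_2 (flp_c L757652) (flp_f L757650) L769413
theorem L769417 : sm ge N56672 = N57845 := rfl
theorem L769419 : sm gb N57845 = N56686 := ded_21_1 (flp_e L757754) (flp_b L757648) L769417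
theorem L769421 : sm gd N57845 = N56708 := ded_34_1 (flp_e L757927) (flp_d L744005) (flp_e L743720) L757646 L769417
theorem L769423 : sm gb N56673 = N57846 := rfl
theorem L769425 : sm gg N57846 = N57131 := ded_23_2 (flp_b L761174) (flp_g L757654) L769423
theorem L769427 : sm gc N57846 = N56687 := ded_19_2 (flp_b L757758) (flp_c L743815) (flp_b L743726) L757652 L769423
theorem L769429 : sm ge N56673 = N57847 := rfl
theorem L769431 : sm gc N57847 = N56674 := ded_28_1 (flp_e L757656) L757652 L769429
theorem L769433 : sm gg N57847 = N57115 := ded_41_2 L761076 (flp_g L757654) L769429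
theorem L769435 : sm gh N57847 = N57108 := ded_43_2 (flp_e L769395) L769399 L769429
theorem L769437 : sm gi N57847 = N57057 := ded_44_2 (flp_e L768827) L768831 L769429
theorem L769439 : sm gh N56675 = N57848 := rfl
theorem L769441 : sm ga N57848 = N56863 := ded_17_1 (flp_h L759438) (flp_a L757670) L769439
theorem L769443 : sm gc N57848 = N56790 := ded_32_1 (flp_h L758752) (flp_c L757672) L769439
theorem L769445 : sm ge N57848 = N57848 := ded_43_1 (flp_h L769439) L757676 L769439
theorem L769446 : sm gf N57848 = N56788 := ded_47_1 (flp_h L758727) (flp_f L757677) L769439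
theorem L769448 : sm gj N57848 = N56677 := ded_52_1 (flp_h L757688) (flp_j L757679) L769439
theorem L769450 : sm gh N56676 = N57849 := rfl
theorem L769452 : sm ge N57849 = N57849 := ded_43_1 (flp_h L769450) L757683 L769450
theorem L769453 : sm gf N57849 = N57132 := ded_47_1 (flp_h L761178) (flp_f L757684) L769450
theorem L769455 : sm gg N57849 = N56678 := ded_50_1 (flp_h L757695) (flp_g L757686) L769450
theorem L769457 : sm gi N57849 = N56677 := ded_54_2 (flp_h L757688) (flp_i L743758) L743751 L757681 L769450
theorem L769459 : sm gd N56677 = N57850 := rfl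
theorem L769461 : sm gf N57850 = N57133 := ded_35_2 (flp_d L761186) (flp_f L757691) L769459
theorem L769463 : sm gg N57850 = N56679 := ded_36_2 (flp_d L757702) (flp_g L757693) L769459
theorem L769465 : sm gh N57850 = N56684 := ded_38_2 (flp_d L757742) (flp_h L743801) (flp_d L743760) L757688 L769459
theorem L769467 : sm gd N56678 = N57851 := rfl
theorem L769469 : sm gf N57851 = N56680 := ded_35_2 (flp_d L757708) (flp_f L757698) L769467
theorem L769471 : sm gi N57851 = N56679 := ded_39_2 (flp_d L757702) (flp_i L757700) L769467
theorem L769473 : sm gc N56679 = N57852 := rfl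
theorem L769475 : sm gf N57852 = N56681 := ded_29_2 (flp_c L757714) (flp_f L757704) L769473
theorem L769477 : sm gh N57852 = N56685 := ded_32_2 (flp_c L757748) (flp_h L757706) L769473
theorem L769479 : sm ge N56679 = N57853 := rfl
theorem L769481 : sm gh N57853 = N56686 := ded_43_2 (flp_e L757754) (flp_h L757706) L769479
theorem L769483 : sm gd N57853 = N57853 := ded_34_1 (flp_e L769479) (flp_d L757702) L743774 L757702 L769479
theorem L769484 : sm gc N56680 = N57854 := rfl
theorem L769486 : sm gg N57854 = N57137 := ded_30_2 (flp_c L761210) (flp_g L757710) L769484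
theorem L769488 : sm gi N57854 = N56681 := ded_33_2 (flp_c L757714) (flp_i L757712) L769484
theorem L769490 : sm ge N56680 = N57855 := rfl
theorem L769492 : sm ga N57855 = N57091 := ded_13_1 (flp_e L768238) L768228 L769490
theorem L769494 : sm gb N57855 = N57074 := ded_21_1 (flp_e L768056) L768048 L769490
theorem L769496 : sm gg N57855 = N57077 := ded_41_2 L760833 (flp_g L757710) L769490
theorem L769498 : sm gh N57855 = N57058 := ded_43_2 (flp_e L768869) L768871 L769490
theorem L769500 : sm gi N57855 = N56682 := ded_44_2 (flp_e L757720) (flp_i L757712) L769490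
theorem L769502 : sm gd N57855 = N56735 := ded_34_1 (flp_e L758164) (flp_d L744257) (flp_e L743779) L757708 L769490
theorem L769504 : sm gb N56681 = N57856 := rfl
theorem L769506 : sm gg N57856 = N57138 := ded_23_2 (flp_b L761214) (flp_g L757716) L769504
theorem L769508 : sm gh N57856 = N56687 := ded_25_2 (flp_b L757758) (flp_h L757718) L769504
theorem L769510 : sm ge N56681 = N57857 := rfl
theorem L769512 : sm ga N57857 = N57092 := ded_13_1 (flp_e L768246) L768244 L769510
theorem L769514 : sm gc N57857 = N56682 := ded_28_1 (flp_e L757720) L757714 L769510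
theorem L769516 : sm gg N57857 = N57114 := ded_41_2 L761068 (flp_g L757716) L769510
theorem L769518 : sm gh N57857 = N56688 := ded_43_2 (flp_e L757764) (flp_h L757718) L769510
theorem L769520 : sm gf N56682 = N57858 := rfl
theorem L769522 : sm ga N57858 = N57090 := ded_14_1 L760913 (flp_a L757722) L769520
theorem L769524 : sm gb N57858 = N57107 := ded_22_1 L761031 (flp_b L757724) L769520
theorem L769526 : sm gd N57858 = N56737 := ded_35_1 (flp_f L758188) (flp_d L757730) L769520
theorem L769528 : sm gh N57858 = N56689 := ded_47_2 (flp_f L757776) (flp_h L757728) L769520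
theorem L769530 : sm gd N56683 = N57859 := rfl
theorem L769532 : sm gf N57859 = N57139 := ded_35_2 (flp_d L761218) (flp_f L757738) L769530
theorem L769534 : sm gj N57859 = N56684 := ded_37_2 (flp_d L757742) (flp_j L757740) L769530
theorem L769536 : sm gc N56684 = N57860 := rfl
theorem L769538 : sm gf N57860 = N57140 := ded_29_2 (flp_c L761222) (flp_f L757744) L769536
theorem L769540 : sm gg N57860 = N56685 := ded_30_2 (flp_c L757748) (flp_g L757746) L769536
theorem L769542 : sm gd N57860 = N56691 := ded_27_2 (flp_c L757790) (flp_d L743851) (flp_c L743803) L757742 L769536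
theorem L769544 : sm ge N56684 = N57861 := rfl
theorem L769546 : sm gg N57861 = N56686 := ded_41_2 (flp_e L757754) (flp_g L757746) L769544
theorem L769548 : sm gd N57861 = N56710 := ded_34_1 (flp_e L757939) (flp_d L744020) (flp_e L743805) L757742 L769544
theorem L769550 : sm gb N56685 = N57862 := rfl
theorem L769552 : sm gd N57862 = N56693 := ded_20_2 (flp_b L757802) (flp_d L757752) L769550
theorem L769554 : sm gf N57862 = N56687 := ded_22_2 (flp_b L757758) (flp_f L757750) L769550
theorem L769556 : sm ge N56685 = N57863 := rfl
theorem L769558 : sm gc N57863 = N56686 := ded_28_1 (flp_e L757754) L757748 L769556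
theorem L769560 : sm gf N56686 = N57864 := rfl
theorem L769562 : sm ga N57864 = N57096 := ded_14_1 (flp_f L768270) L768264 L769560
theorem L769564 : sm gd N57864 = N56712 := ded_35_1 (flp_f L757953) (flp_d L757756) L769560
theorem L769566 : sm gi N57864 = N56777 := ded_48_2 (flp_f L768915) L768911 L769560
theorem L769568 : sm ge N57864 = N56689 := ded_40_1 (flp_f L757776) (flp_e L743821) (flp_f L743813) L757754 L769560
theorem L769570 : sm ga N56687 = N57865 := rfl
theorem L769572 : sm gd N57865 = N56695 := ded_12_2 (flp_a L757810) (flp_d L757760) L769570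
theorem L769574 : sm gg N57865 = N57145 := ded_15_2 (flp_a L761250) (flp_g L757762) L769570
theorem L769576 : sm ge N56687 = N57866 := rfl
theorem L769578 : sm gb N57866 = N56688 := ded_21_1 (flp_e L757764) L757758 L769576
theorem L769580 : sm gg N57866 = N57146 := ded_41_2 (flp_e L761254) (flp_g L757762) L769576
theorem L769582 : sm gi N57866 = N57060 := ded_44_2 (flp_e L768921) L768925 L769576
theorem L769584 : sm gd N57866 = N57048 := ded_34_1 (flp_e L767636) L767634 L755813 (flp_d L757760) L769576
theorem L769586 : sm gf N56688 = N57867 := rfl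
theorem L769588 : sm ga N57867 = N57095 := ded_14_1 L760945 (flp_a L757766) L769586
theorem L769590 : sm gc N57867 = N56689 := ded_29_1 (flp_f L757776) (flp_c L757768) L769586
theorem L769592 : sm gd N57867 = N56771 := ded_35_1 L758572 (flp_d L757774) L769586
theorem L769594 : sm gi N57867 = N56776 := ded_48_2 L758618 (flp_i L757772) L769586
theorem L769596 : sm gc N56690 = N57868 := rfl
theorem L769598 : sm gf N57868 = N57148 := ded_29_2 (flp_c L761262) (flp_f L757786) L769596
theorem L769600 : sm gj N57868 = N56691 := ded_31_2 (flp_c L757790) (flp_j L757788) L769596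
theorem L769602 : sm ge N56690 = N57869 := rfl
theorem L769604 : sm gj N57869 = N56692 := ded_42_2 (flp_e L757796) (flp_j L757788) L769602
theorem L769606 : sm gh N57869 = N57000 := ded_43_2 (flp_e L767010) L767012 L769602
theorem L769608 : sm gd N57869 = N56714 := ded_34_1 (flp_e L757974) (flp_d L744050) (flp_e L743845) L757784 L769602
theorem L769610 : sm gf N57869 = N56994 := ded_40_2 (flp_e L760323) (flp_f L750587) L750591 (flp_f L757786) L769602
theorem L769612 : sm gb N56691 = N57870 := rfl
theorem L769614 : sm gf N57870 = N57149 := ded_22_2 (flp_b L761266) (flp_f L757792) L769612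
theorem L769616 : sm gg N57870 = N56693 := ded_23_2 (flp_b L757802) (flp_g L757794) L769612
theorem L769618 : sm ge N56691 = N57871 := rfl
theorem L769620 : sm gc N57871 = N56692 := ded_28_1 (flp_e L757796) L757790 L769618
theorem L769622 : sm gg N57871 = N56694 := ded_41_2 (flp_e L757806) (flp_g L757794) L769618
theorem L769624 : sm ga N56693 = N57872 := rfl
theorem L769626 : sm gf N57872 = N56695 := ded_14_2 (flp_a L757810) (flp_f L757804) L769624
theorem L769628 : sm ge N56693 = N57873 := rfl
theorem L769630 : sm gb N57873 = N56694 := ded_21_1 (flp_e L757806) L757802 L769628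
theorem L769632 : sm gd N56694 = N57874 := rfl
theorem L769634 : sm gc N57874 = N56718 := ded_27_1 (flp_d L758014) L744084 (flp_d L743863) (flp_c L757808) L769632
theorem L769636 : sm ge N56696 = N57875 := rfl
theorem L769638 : sm gb N57875 = N56700 := ded_21_1 (flp_e L757853) (flp_b L757816) L769636
theorem L769640 : sm gj N57875 = N56708 := ded_42_2 (flp_e L757927) (flp_j L757820) L769636
theorem L769642 : sm gh N57875 = N57875 := ded_43_2 (flp_e L769636) L757822 L769636
theorem L769643 : sm gd N56697 = N57876 := rfl
theorem L769645 : sm gb N57876 = N57163 := ded_20_1 (flp_d L761370) (flp_b L757825) L769643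
theorem L769647 : sm gf N57876 = N57876 := ded_35_2 (flp_d L769643) L757829 L769643
theorem L769648 : sm gg N57876 = N56709 := ded_36_2 (flp_d L757932) (flp_g L757830) L769643
theorem L769650 : sm gj N57876 = N56698 := ded_37_2 (flp_d L757836) (flp_j L757832) L769643
theorem L769652 : sm gi N57876 = N57160 := ded_39_2 (flp_d L761351) (flp_i L757834) L769643
theorem L769654 : sm gh N57876 = N57876 := ded_38_2 (flp_d L769643) (flp_h L757823) L743893 L757823 L769643
theorem L769655 : sm gc N56698 = N57877 := rfl
theorem L769657 : sm gf N57877 = N57877 := ded_29_2 (flp_c L769655) L757838 L769655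
theorem L769658 : sm gg N57877 = N56699 := ded_30_2 (flp_c L757842) (flp_g L757839) L769655
theorem L769660 : sm gh N57877 = N57877 := ded_32_2 (flp_c L769655) L757841 L769655
theorem L769661 : sm gi N57877 = N56911 := ded_33_2 L768984 L768980 L769655
theorem L769663 : sm gd N57877 = N56702 := ded_27_2 (flp_c L757867) (flp_d L743946) (flp_c L743901) L757836 L769655
theorem L769665 : sm ge N56698 = N57878 := rfl
theorem L769667 : sm gg N57878 = N56700 := ded_41_2 (flp_e L757853) (flp_g L757839) L769665
theorem L769669 : sm gh N57878 = N57878 := ded_43_2 (flp_e L769665) L757841 L769665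
theorem L769670 : sm ge N56699 = N57879 := rfl
theorem L769672 : sm gc N57879 = N56700 := ded_28_1 (flp_e L757853) L757842 L769670
theorem L769674 : sm gj N57879 = N56711 := ded_42_2 (flp_e L757944) (flp_j L757846) L769670
theorem L769676 : sm gh N57879 = N57879 := ded_43_2 (flp_e L769670) L757848 L769670
theorem L769677 : sm gi N57879 = N56878 := ded_44_2 L759557 (flp_i L757849) L769670
theorem L769679 : sm gf N57879 = N56848 := ded_40_2 (flp_e L759318) L745701 L743923 (flp_f L757844) L769670
theorem L769681 : sm gc N56701 = N57880 := rfl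
theorem L769683 : sm gf N57880 = N57880 := ded_29_2 (flp_c L769681) L757860 L769681
theorem L769684 : sm gg N57880 = N56713 := ded_30_2 (flp_c L757964) (flp_g L757861) L769681
theorem L769686 : sm gj N57880 = N56702 := ded_31_2 (flp_c L757867) (flp_j L757863) L769681
theorem L769688 : sm gh N57880 = N56721 := ded_32_2 (flp_c L758035) (flp_h L757865) L769681
theorem L769690 : sm gb N57880 = N56911 := ded_19_1 L768984 L768973 (flp_c L764729) L764720 L769681
theorem L769692 : sm ge N56701 = N57881 := rfl
theorem L769694 : sm gg N57881 = N56714 := ded_41_2 (flp_e L757974) (flp_g L757861) L769692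
theorem L769696 : sm gj N57881 = N56703 := ded_42_2 (flp_e L757874) (flp_j L757863) L769692
theorem L769698 : sm gh N57881 = N56722 := ded_43_2 (flp_e L758046) (flp_h L757865) L769692
theorem L769700 : sm gb N56702 = N57882 := rfl
theorem L769702 : sm gf N57882 = N57882 := ded_22_2 (flp_b L769700) L757869 L769700
theorem L769703 : sm gg N57882 = N56704 := ded_23_2 (flp_b L757880) (flp_g L757870) L769700
theorem L769705 : sm gj N57882 = N56911 := ded_24_2 (flp_b L769690) L769686 L769700
theorem L769707 : sm gh N57882 = N56723 := ded_25_2 (flp_b L758055) (flp_h L757872) L769700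
theorem L769709 : sm gc N57882 = N57160 := ded_19_2 L761353 (flp_c L751961) L751956 L757867 L769700
theorem L769711 : sm ge N56702 = N57883 := rfl
theorem L769713 : sm gc N57883 = N56703 := ded_28_1 (flp_e L757874) L757867 L769711
theorem L769715 : sm gg N57883 = N56705 := ded_41_2 (flp_e L757888) (flp_g L757870) L769711
theorem L769717 : sm gh N57883 = N56724 := ded_43_2 (flp_e L758066) (flp_h L757872) L769711
theorem L769719 : sm gf N56703 = N57884 := rfl
theorem L769721 : sm gh N57884 = N56725 := ded_47_2 (flp_f L758073) (flp_h L757878) L769719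
theorem L769723 : sm ge N57884 = N57884 := ded_40_1 (flp_f L769719) (flp_e L757874) L743948 L757874 L769719
theorem L769724 : sm ga N56704 = N57885 := rfl
theorem L769726 : sm gc N57885 = N56793 := ded_11_2 (flp_a L764759) L764761 L769724
theorem L769728 : sm gf N57885 = N56706 := ded_14_2 (flp_a L757898) (flp_f L757882) L769724
theorem L769730 : sm gj N57885 = N56716 := ded_16_2 (flp_a L757994) (flp_j L757884) L769724
theorem L769732 : sm gh N57885 = N56726 := ded_17_2 (flp_a L758077) (flp_h L757886) L769724
theorem L769734 : sm gb N57885 = N57151 := ded_10_2 (flp_a L762697) L762699 L756514 L757880 L769724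
theorem L769736 : sm ge N56704 = N57886 := rfl
theorem L769738 : sm gb N57886 = N56705 := ded_21_1 (flp_e L757888) L757880 L769736
theorem L769740 : sm gj N57886 = N56717 := ded_42_2 (flp_e L758006) (flp_j L757884) L769736
theorem L769742 : sm gh N57886 = N56727 := ded_43_2 (flp_e L758089) (flp_h L757886) L769736
theorem L769744 : sm gf N57886 = N57067 := ded_40_2 (flp_e L760768) L747489 (flp_e L743969) (flp_f L757882) L769736
theorem L769746 : sm gd N56705 = N57887 := rfl
theorem L769748 : sm gf N57887 = N57071 := ded_35_2 L760792 (flp_f L757896) L769746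
theorem L769750 : sm gj N57887 = N56718 := ded_37_2 (flp_d L758014) (flp_j L757892) L769746
theorem L769752 : sm ge N56709 = N57888 := rfl
theorem L769754 : sm gj N57888 = N56710 := ded_42_2 (flp_e L757939) (flp_j L757936) L769752
theorem L769756 : sm gh N57888 = N57888 := ded_43_2 (flp_e L769752) L757938 L769752
theorem L769757 : sm gf N56710 = N57889 := rfl
theorem L769759 : sm gc N57889 = N56913 := ded_29_1 (flp_f L769085) L769078 L769757
theorem L769761 : sm gh N57889 = N57889 := ded_47_2 (flp_f L769757) L757943 L769757
theorem L769762 : sm ge N57889 = N56720 := ded_40_1 (flp_f L758028) (flp_e L744121) (flp_f L744022) L757939 L769757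
theorem L769764 : sm gd N56711 = N57890 := rfl
theorem L769766 : sm gf N57890 = N56859 := ded_35_2 L759408 (flp_f L757951) L769764
theorem L769768 : sm gi N57890 = N56902 := ded_39_2 L759718 (flp_i L757949) L769764
theorem L769770 : sm ge N57890 = N56718 := ded_34_2 (flp_d L758014) (flp_e L744082) (flp_d L744034) L757944 L769764
theorem L769772 : sm ge N56713 = N57891 := rfl
theorem L769774 : sm gb N57891 = N56878 := ded_21_1 L759557 L757972 L769772
theorem L769776 : sm gc N57891 = N56714 := ded_28_1 (flp_e L757974) L757964 L769772
theorem L769778 : sm gj N57891 = N56715 := ded_42_2 (flp_e L757982) (flp_j L757968) L769772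
theorem L769780 : sm gh N57891 = N56729 := ded_43_2 (flp_e L758106) (flp_h L757970) L769772
theorem L769782 : sm gf N57891 = N56870 := ded_40_2 (flp_e L759487) L745922 (flp_e L744132) (flp_f L757966) L769772
theorem L769784 : sm gd N56715 = N57892 := rfl
theorem L769786 : sm gb N57892 = N56902 := ded_20_1 L759718 (flp_b L757984) L769784
theorem L769788 : sm gf N57892 = N56889 := ded_35_2 L759646 (flp_f L757992) L769784
theorem L769790 : sm gg N57892 = N56718 := ded_36_2 (flp_d L758014) (flp_g L757988) L769784
theorem L769792 : sm ge N56716 = N57893 := rfl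
theorem L769794 : sm ga N57893 = N56717 := ded_13_1 (flp_e L758006) L757994 L769792
theorem L769796 : sm gb N57893 = N57156 := ded_21_1 (flp_e L761319) (flp_b L758004) L769792
theorem L769798 : sm gc N57893 = N56803 := ded_28_1 (flp_e L758878) (flp_c L757996) L769792
theorem L769800 : sm gg N57893 = N56809 := ded_41_2 L758931 (flp_g L758000) L769792
theorem L769802 : sm gh N57893 = N56731 := ded_43_2 (flp_e L758127) (flp_h L758002) L769792
theorem L769804 : sm gf N57893 = N57155 := ded_40_2 (flp_e L761311) L748056 (flp_e L744092) (flp_f L757998) L769792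
theorem L769806 : sm gd N56717 = N57894 := rfl
theorem L769808 : sm gb N57894 = N56718 := ded_20_1 (flp_d L758014) (flp_b L758008) L769806
theorem L769810 : sm gg N57894 = N56902 := ded_36_2 L759718 (flp_g L758010) L769806
theorem L769812 : sm gh N56718 = N57895 := rfl
theorem L769814 : sm gd N57895 = N56733 := ded_38_1 (flp_h L758148) (flp_d L744240) (flp_h L744086) L758014 L769812
theorem L769816 : sm gf N56719 = N57896 := rfl
theorem L769818 : sm gc N57896 = N56909 := ded_29_1 L759770 (flp_c L758018) L769816
theorem L769820 : sm gd N57896 = N57151 := ded_35_1 L761276 (flp_d L758026) L769816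
theorem L769822 : sm gj N57896 = N56720 := ded_46_2 (flp_f L758028) (flp_j L758021) L769816
theorem L769824 : sm gh N57896 = N57896 := ded_47_2 (flp_f L769816) L758023 L769816
theorem L769825 : sm gi N57896 = N57066 := ded_48_2 L760764 (flp_i L758024) L769816
theorem L769827 : sm ge N56721 = N57897 := rfl
theorem L769829 : sm gb N57897 = N56920 := ded_21_1 L759849 L758044 L769827
theorem L769831 : sm gc N57897 = N56722 := ded_28_1 (flp_e L758046) L758035 L769827
theorem L769833 : sm gg N57897 = N56729 := ded_41_2 (flp_e L758106) (flp_g L758038) L769827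
theorem L769835 : sm gj N57897 = N56724 := ded_42_2 (flp_e L758066) (flp_j L758040) L769827
theorem L769837 : sm gi N57897 = N57897 := ded_44_2 (flp_e L769827) L758042 L769827
theorem L769838 : sm ga N56723 = N57898 := rfl
theorem L769840 : sm gc N57898 = N56817 := ded_11_2 L759000 (flp_c L758064) L769838
theorem L769842 : sm gd N57898 = N57898 := ded_12_2 (flp_a L769838) L758057 L769838
theorem L769843 : sm gf N57898 = N57898 := ded_14_2 (flp_a L769838) L758058 L769838
theorem L769844 : sm gg N57898 = N56726 := ded_15_2 (flp_a L758077) (flp_g L758059) L769838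
theorem L769846 : sm gj N57898 = N56830 := ded_16_2 L759133 (flp_j L758061) L769838
theorem L769848 : sm gi N57898 = N57898 := ded_18_2 (flp_a L769838) L758063 L769838
theorem L769849 : sm gb N57898 = N56824 := ded_10_2 (flp_a L762987) L762989 L756560 L758055 L769838
theorem L769851 : sm ge N56723 = N57899 := rfl
theorem L769853 : sm gb N57899 = N56724 := ded_21_1 (flp_e L758066) L758055 L769851
theorem L769855 : sm gc N57899 = N57161 := ded_28_1 (flp_e L761358) (flp_c L758064) L769851
theorem L769857 : sm gg N57899 = N56727 := ded_41_2 (flp_e L758089) (flp_g L758059) L769851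
theorem L769859 : sm gj N57899 = N56920 := ded_42_2 L759849 (flp_j L758061) L769851
theorem L769861 : sm gi N57899 = N57899 := ded_44_2 (flp_e L769851) L758063 L769851
theorem L769862 : sm gd N56724 = N57900 := rfl
theorem L769864 : sm gg N57900 = N56728 := ded_36_2 (flp_d L758098) (flp_g L758070) L769862
theorem L769866 : sm gi N57900 = N57900 := ded_39_2 (flp_d L769862) L758072 L769862
theorem L769867 : sm ge N57900 = N57900 := ded_34_2 (flp_d L769862) (flp_e L758066) L744155 L758066 L769862
theorem L769868 : sm gf N56724 = N57901 := rfl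
theorem L769870 : sm gc N57901 = N56725 := ded_29_1 (flp_f L758073) (flp_c L758068) L769868
theorem L769872 : sm gi N57901 = N57901 := ded_48_2 (flp_f L769868) L758072 L769868
theorem L769873 : sm ge N57901 = N57901 := ded_40_1 (flp_f L769868) (flp_e L758066) L744151 L758066 L769868
theorem L769874 : sm gg N57901 = N56743 := ded_45_2 (flp_f L758253) L744406 (flp_f L744176) (flp_g L758070) L769868
theorem L769876 : sm ge N56726 = N57902 := rfl
theorem L769878 : sm ga N57902 = N56727 := ded_13_1 (flp_e L758089) L758077 L769876
theorem L769880 : sm gb N57902 = N57171 := ded_21_1 L761425 (flp_b L758087) L769876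
theorem L769882 : sm gc N57902 = N56819 := ded_28_1 (flp_e L759023) (flp_c L758079) L769876
theorem L769884 : sm gj N57902 = N56731 := ded_42_2 (flp_e L758127) (flp_j L758084) L769876
theorem L769886 : sm gi N57902 = N57902 := ded_44_2 (flp_e L769876) L758086 L769876
theorem L769887 : sm gf N57902 = N57159 := ded_40_2 (flp_e L761342) L748146 (flp_e L744183) (flp_f L758082) L769876
theorem L769889 : sm gd N56727 = N57903 := rfl
theorem L769891 : sm gb N57903 = N56728 := ded_20_1 (flp_d L758098) (flp_b L758091) L769889
theorem L769893 : sm gf N57903 = N57161 := ded_35_2 L761363 (flp_f L758096) L769889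
theorem L769895 : sm gj N57903 = N56732 := ded_37_2 (flp_d L758140) (flp_j L758093) L769889
theorem L769897 : sm gi N57903 = N57903 := ded_39_2 (flp_d L769889) L758095 L769889
theorem L769898 : sm ge N57903 = N57903 := ded_34_2 (flp_d L769889) (flp_e L758089) L744163 L758089 L769889
theorem L769899 : sm gh N56728 = N57904 := rfl
theorem L769901 : sm ge N57904 = N57904 := ded_43_1 (flp_h L769899) L758105 L769899
theorem L769902 : sm gf N57904 = N57164 := ded_47_1 L761378 (flp_f L758100) L769899
theorem L769904 : sm gj N57904 = N56733 := ded_52_1 (flp_h L758148) (flp_j L758102) L769899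
theorem L769906 : sm gd N56729 = N57905 := rfl
theorem L769908 : sm ga N57905 = N56743 := ded_12_1 L762854 L762843 L769906
theorem L769910 : sm gb N57905 = N56919 := ded_20_1 L759841 (flp_b L758108) L769906
theorem L769912 : sm gf N57905 = N56739 := ded_35_2 L758225 (flp_f L758115) L769906
theorem L769914 : sm gj N57905 = N56730 := ded_37_2 (flp_d L758117) (flp_j L758112) L769906
theorem L769916 : sm gi N57905 = N57905 := ded_39_2 (flp_d L769906) L758114 L769906
theorem L769917 : sm gc N57905 = N56955 := ded_27_1 L760088 L746687 (flp_d L744206) (flp_c L758110) L769906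
theorem L769919 : sm ge N57905 = N57905 := ded_34_2 (flp_d L769906) (flp_e L758106) L744198 L758106 L769906
theorem L769920 : sm gh N56730 = N57906 := rfl
theorem L769922 : sm gb N57906 = N56924 := ded_25_1 L759873 (flp_b L758119) L769920
theorem L769924 : sm ge N57906 = N57906 := ded_43_1 (flp_h L769920) L758126 L769920
theorem L769925 : sm gf N57906 = N56922 := ded_47_1 L759864 (flp_f L758121) L769920
theorem L769927 : sm gg N57906 = N56733 := ded_50_1 (flp_h L758148) (flp_g L758123) L769920
theorem L769929 : sm gd N56731 = N57907 := rfl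
theorem L769931 : sm ga N57907 = N56732 := ded_12_1 (flp_d L758140) (flp_a L758129) L769929
theorem L769933 : sm gb N57907 = N57170 := ded_20_1 L761414 (flp_b L758131) L769929
theorem L769935 : sm gf N57907 = N57166 := ded_35_2 L761391 (flp_f L758138) L769929
theorem L769937 : sm gg N57907 = N56828 := ded_36_2 L759115 (flp_g L758135) L769929
theorem L769939 : sm gi N57907 = N57907 := ded_39_2 (flp_d L769929) L758137 L769929
theorem L769940 : sm ge N57907 = N57907 := ded_34_2 (flp_d L769929) (flp_e L758127) L744225 L758127 L769929
theorem L769941 : sm gc N56732 = N57908 := rfl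
theorem L769943 : sm ge N57908 = N57908 := ded_28_2 (flp_c L769941) L758147 L769941
theorem L769944 : sm gf N57908 = N56920 := ded_29_2 (flp_c L764972) L764979 L769941
theorem L769946 : sm gg N57908 = N56916 := ded_30_2 L759821 (flp_g L758144) L769941
theorem L769948 : sm gi N57908 = N57908 := ded_33_2 (flp_c L769941) L758146 L769941
theorem L769949 : sm gh N56732 = N57909 := rfl
theorem L769951 : sm gb N57909 = N56733 := ded_25_1 (flp_h L758148) (flp_b L758142) L769949
theorem L769953 : sm ge N57909 = N57909 := ded_43_1 (flp_h L769949) L758147 L769949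
theorem L769954 : sm gg N57909 = N56924 := ded_50_1 L759873 (flp_g L758144) L769949
theorem L769956 : sm gi N56733 = N57910 := rfl
theorem L769958 : sm ge N57910 = N57910 := ded_44_1 (flp_i L769956) L758150 L769956
theorem L769959 : sm gh N57910 = N57910 := ded_54_1 (flp_i L769956) (flp_h L758148) L744242 L758148 L769956
theorem L769960 : sm ge N56734 = N57911 := rfl
theorem L769962 : sm ga N57911 = N57068 := ded_13_1 L760778 (flp_a L758153) L769960
theorem L769964 : sm gb N57911 = N56839 := ded_21_1 L759226 (flp_b L758162) L769960
theorem L769966 : sm gc N57911 = N56735 := ded_28_1 (flp_e L758164) L758151 L769960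
theorem L769968 : sm gg N57911 = N56843 := ded_41_2 L759269 (flp_g L758156) L769960
theorem L769970 : sm gh N57911 = N56744 := ded_43_2 (flp_e L758257) (flp_h L758158) L769960
theorem L769972 : sm gi N57911 = N56736 := ded_44_2 (flp_e L758176) (flp_i L758160) L769960
theorem L769974 : sm gd N56736 = N57912 := rfl
theorem L769976 : sm ga N57912 = N57069 := ded_12_1 (flp_d L760782) (flp_a L758178) L769974
theorem L769978 : sm gb N57912 = N56864 := ded_20_1 (flp_d L759445) (flp_b L758180) L769974
theorem L769980 : sm gg N57912 = N56869 := ded_36_2 (flp_d L759481) (flp_g L758184) L769974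
theorem L769982 : sm gh N57912 = N57044 := ded_38_2 (flp_d L760632) (flp_h L747332) (flp_d L744303) (flp_h L758186) L769974
theorem L769984 : sm gf N56736 = N57913 := rfl
theorem L769986 : sm ga N57913 = N56846 := ded_14_1 L759306 (flp_a L758178) L769984
theorem L769988 : sm gb N57913 = N56863 := ded_22_1 L759443 (flp_b L758180) L769984
theorem L769990 : sm gc N57913 = N56737 := ded_29_1 (flp_f L758188) (flp_c L758182) L769984
theorem L769992 : sm gj N57913 = N56782 := ded_46_2 (flp_f L762488) L762492 L769984
theorem L769994 : sm gh N57913 = N56738 := ded_47_2 (flp_f L758197) (flp_h L758186) L769984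
theorem L769996 : sm ge N57913 = N57913 := ded_40_1 (flp_f L769984) (flp_e L758176) L744274 L758176 L769984
theorem L769997 : sm gc N56740 = N57914 := rfl
theorem L769999 : sm ga N57914 = N56741 := ded_11_1 (flp_c L758239) (flp_a L758229) L769997
theorem L770001 : sm gf N57914 = N57914 := ded_29_2 (flp_c L769997) L758233 L769997
theorem L770002 : sm gg N57914 = N56829 := ded_30_2 L759125 (flp_g L758234) L769997
theorem L770004 : sm gj N57914 = N56824 := ded_31_2 (flp_c L759076) (flp_j L758236) L769997
theorem L770006 : sm gi N57914 = N57914 := ded_33_2 (flp_c L769997) L758238 L769997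
theorem L770007 : sm gb N57914 = N56830 := ded_19_1 L759135 L748197 (flp_c L745424) (flp_b L758231) L769997
theorem L770009 : sm gd N57914 = N57914 := ded_27_2 (flp_c L769997) (flp_d L758227) L744359 L758227 L769997
theorem L770010 : sm ge N56740 = N57915 := rfl
theorem L770012 : sm ga N57915 = N56742 := ded_13_1 (flp_e L758246) (flp_a L758229) L770010
theorem L770014 : sm gb N57915 = N56821 := ded_21_1 (flp_e L759043) (flp_b L758231) L770010
theorem L770016 : sm gg N57915 = N57159 := ded_41_2 (flp_e L761342) (flp_g L758234) L770010
theorem L770018 : sm gj N57915 = N56825 := ded_42_2 (flp_e L759083) (flp_j L758236) L770010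
theorem L770020 : sm gi N57915 = N57915 := ded_44_2 (flp_e L770010) L758238 L770010
theorem L770021 : sm gd N57915 = N56819 := ded_34_1 (flp_e L759023) (flp_d L745394) (flp_e L744360) L758227 L770010
theorem L770023 : sm ge N56741 = N57916 := rfl
theorem L770025 : sm gc N57916 = N56742 := ded_28_1 (flp_e L758246) L758239 L770023
theorem L770027 : sm gg N57916 = N57162 := ded_41_2 (flp_e L761365) (flp_g L758242) L770023
theorem L770029 : sm gi N57916 = N57916 := ded_44_2 (flp_e L770023) L758244 L770023
theorem L770030 : sm gf N56742 = N57917 := rfl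
theorem L770032 : sm gb N57917 = N56743 := ded_22_1 (flp_f L758253) (flp_b L758248) L770030
theorem L770034 : sm gd N57917 = N57162 := ded_35_1 (flp_f L764851) L764849 L770030
theorem L770036 : sm gi N57917 = N57917 := ded_48_2 (flp_f L770030) L758252 L770030
theorem L770037 : sm ge N57917 = N57917 := ded_40_1 (flp_f L770030) (flp_e L758246) L744388 L758246 L770030
theorem L770038 : sm gc N56745 = N57918 := rfl
theorem L770040 : sm ga N57918 = N56753 := ded_11_1 (flp_c L758365) (flp_a L758271) L770038
theorem L770042 : sm ge N57918 = N56750 := ded_28_2 (flp_c L758335) (flp_e L758281) L770038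
theorem L770044 : sm gf N57918 = N56960 := ded_29_2 (flp_c L760121) (flp_f L758275) L770038
theorem L770046 : sm gj N57918 = N56749 := ded_31_2 (flp_c L758327) (flp_j L758277) L770038
theorem L770048 : sm gh N57918 = N56800 := ded_32_2 (flp_c L758856) (flp_h L758283) L770038
theorem L770050 : sm gi N57918 = N56746 := ded_33_2 (flp_c L758285) (flp_i L758279) L770038
theorem L770052 : sm gb N56746 = N57919 := rfl
theorem L770054 : sm ge N57919 = N56763 := ded_21_2 (flp_b L758472) (flp_e L758289) L770052
theorem L770056 : sm gf N57919 = N56966 := ded_22_2 (flp_b L760163) (flp_f L758291) L770052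
theorem L770058 : sm gh N57919 = N56778 := ded_25_2 (flp_b L758628) (flp_h L758293) L770052
theorem L770060 : sm gc N57919 = N56949 := ded_19_2 (flp_b L760052) (flp_c L746636) (flp_b L744530) L758285 L770052
theorem L770062 : sm gc N56747 = N57920 := rfl
theorem L770064 : sm ga N57920 = N56948 := ded_11_1 (flp_c L760046) (flp_a L758297) L770062
theorem L770066 : sm ge N57920 = N56762 := ded_28_2 (flp_c L758462) (flp_e L758307) L770062
theorem L770068 : sm gf N57920 = N56929 := ded_29_2 (flp_c L759920) (flp_f L758301) L770062
theorem L770070 : sm gj N57920 = N56937 := ded_31_2 (flp_c L759975) (flp_j L758303) L770062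
theorem L770072 : sm gh N57920 = N56781 := ded_32_2 (flp_c L758666) (flp_h L758309) L770062
theorem L770074 : sm gi N57920 = N56939 := ded_33_2 (flp_c L759988) (flp_i L758305) L770062
theorem L770076 : sm gc N56748 = N57921 := rfl
theorem L770078 : sm ga N57921 = N56762 := ded_11_1 (flp_c L758462) (flp_a L758313) L770076
theorem L770080 : sm ge N57921 = N56948 := ded_28_2 (flp_c L760046) (flp_e L758323) L770076
theorem L770082 : sm gf N57921 = N56749 := ded_29_2 (flp_c L758327) (flp_f L758317) L770076
theorem L770084 : sm gj N57921 = N56960 := ded_31_2 (flp_c L760121) (flp_j L758319) L770076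
theorem L770086 : sm gh N57921 = N56810 := ded_32_2 (flp_c L758933) (flp_h L758325) L770076
theorem L770088 : sm gi N57921 = N56962 := ded_33_2 (flp_c L760135) (flp_i L758321) L770076
theorem L770090 : sm gb N56749 = N57922 := rfl
theorem L770092 : sm ge N57922 = N57003 := ded_21_2 (flp_b L760371) (flp_e L758331) L770090
theorem L770094 : sm gh N57922 = N56811 := ded_25_2 (flp_b L758941) (flp_h L758333) L770090
theorem L770096 : sm gb N56750 = N57923 := rfl
theorem L770098 : sm gf N57923 = N56984 := ded_22_2 (flp_b L760269) (flp_f L758337) L770096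
theorem L770100 : sm gj N57923 = N57003 := ded_24_2 (flp_b L760371) (flp_j L758339) L770096
theorem L770102 : sm gh N57923 = N57124 := ded_25_2 (flp_b L761138) (flp_h L758341) L770096
theorem L770104 : sm gi N57923 = N56763 := ded_26_2 (flp_b L758472) (flp_i L758343) L770096
theorem L770106 : sm gc N57923 = N56974 := ded_19_2 (flp_b L760208) (flp_c L746815) (flp_b L744576) L758335 L770096
theorem L770108 : sm gc N56751 = N57924 := rfl
theorem L770110 : sm ge N57924 = N56760 := ded_28_2 (flp_c L758448) (flp_e L758353) L770108
theorem L770112 : sm gg N57924 = N56753 := ded_30_2 (flp_c L758365) (flp_g L758349) L770108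
theorem L770114 : sm gh N57924 = N56867 := ded_32_2 (flp_c L759463) (flp_h L758355) L770108
theorem L770116 : sm gi N57924 = N57002 := ded_33_2 (flp_c L760365) (flp_i L758351) L770108
theorem L770118 : sm gc N56752 = N57925 := rfl
theorem L770120 : sm gf N57925 = N56971 := ded_29_2 (flp_c L760189) (flp_f L758359) L770118
theorem L770122 : sm gj N57925 = N56760 := ded_31_2 (flp_c L758448) (flp_j L758361) L770118
theorem L770124 : sm gi N57925 = N56996 := ded_33_2 (flp_c L760333) (flp_i L758363) L770118
theorem L770126 : sm gd N57925 = N56753 := ded_27_2 (flp_c L758365) (flp_d L744608) (flp_c L744598) L758357 L770118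
theorem L770128 : sm gb N56753 = N57926 := rfl
theorem L770130 : sm gf N57926 = N56974 := ded_22_2 (flp_b L760208) (flp_f L758367) L770128
theorem L770132 : sm gj N57926 = N56763 := ded_24_2 (flp_b L758472) (flp_j L758369) L770128
theorem L770134 : sm gh N57926 = N56880 := ded_25_2 (flp_b L759569) (flp_h L758371) L770128
theorem L770136 : sm gi N57926 = N57003 := ded_26_2 (flp_b L760371) (flp_i L758373) L770128
theorem L770138 : sm gc N57926 = N56984 := ded_19_2 (flp_b L760269) (flp_c L746889) (flp_b L744610) L758365 L770128
theorem L770140 : sm gd N56754 = N57927 := rfl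
theorem L770142 : sm gb N57927 = N56759 := ded_20_1 (flp_d L758440) (flp_b L758377) L770140
theorem L770144 : sm gf N57927 = N56755 := ded_35_2 (flp_d L758389) (flp_f L758383) L770140
theorem L770146 : sm gj N57927 = N56967 := ded_37_2 (flp_d L760167) (flp_j L758385) L770140
theorem L770148 : sm gi N57927 = N56980 := ded_39_2 (flp_d L760243) (flp_i L758387) L770140
theorem L770150 : sm gh N57927 = N57019 := ded_38_2 (flp_d L760475) (flp_h L747151) (flp_d L744626) L758375 L770140
theorem L770152 : sm gc N56755 = N57928 := rfl
theorem L770154 : sm ge N57928 = N56979 := ded_28_2 (flp_c L760237) (flp_e L758395) L770152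
theorem L770156 : sm gg N57928 = N56939 := ded_30_2 (flp_c L759988) (flp_g L758393) L770152
theorem L770158 : sm gh N57928 = N57020 := ded_32_2 (flp_c L760479) (flp_h L758397) L770152
theorem L770160 : sm gd N57928 = N56989 := ded_27_2 (flp_c L760297) (flp_d L746923) (flp_c L744638) L758389 L770152
theorem L770162 : sm gd N56756 = N57929 := rfl
theorem L770164 : sm ga N57929 = N57109 := ded_12_1 (flp_d L761039) (flp_a L758401) L770162
theorem L770166 : sm gb N57929 = N57019 := ded_20_1 (flp_d L760475) (flp_b L758403) L770162
theorem L770168 : sm gf N57929 = N56757 := ded_35_2 (flp_d L758414) (flp_f L758408) L770162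
theorem L770170 : sm gg N57929 = N57050 := ded_36_2 (flp_d L760666) (flp_g L758410) L770162
theorem L770172 : sm gj N57929 = N56970 := ded_37_2 (flp_d L760185) (flp_j L758412) L770162
theorem L770174 : sm gh N57929 = N56759 := ded_38_2 (flp_d L758440) (flp_h L744687) (flp_d L744652) L758399 L770162
theorem L770176 : sm gc N56757 = N57930 := rfl
theorem L770178 : sm ga N57930 = N57123 := ded_11_1 (flp_c L761134) (flp_a L758416) L770176
theorem L770180 : sm ge N57930 = N56867 := ded_28_2 (flp_c L759463) (flp_e L758422) L770176
theorem L770182 : sm gg N57930 = N56772 := ded_30_2 (flp_c L758576) (flp_g L758420) L770176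
theorem L770184 : sm gh N57930 = N56760 := ded_32_2 (flp_c L758448) (flp_h L758424) L770176
theorem L770186 : sm gd N57930 = N56894 := ded_27_2 (flp_c L759676) (flp_d L746108) (flp_c L744667) L758414 L770176
theorem L770188 : sm gd N56758 = N57931 := rfl
theorem L770190 : sm ga N57931 = N56978 := ded_12_1 (flp_d L760231) (flp_a L758428) L770188
theorem L770192 : sm gf N57931 = N56961 := ded_35_2 (flp_d L760127) (flp_f L758434) L770188
theorem L770194 : sm gg N57931 = N56759 := ded_36_2 (flp_d L758440) (flp_g L758436) L770188
theorem L770196 : sm gi N57931 = N56976 := ded_39_2 (flp_d L760219) (flp_i L758438) L770188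
theorem L770198 : sm gh N57931 = N57050 := ded_38_2 (flp_d L760666) (flp_h L747378) (flp_d L744679) L758426 L770188
theorem L770200 : sm gc N56759 = N57932 := rfl
theorem L770202 : sm gf N57932 = N56760 := ded_29_2 (flp_c L758448) (flp_f L758442) L770200
theorem L770204 : sm gj N57932 = N56971 := ded_31_2 (flp_c L760189) (flp_j L758444) L770200
theorem L770206 : sm gi N57932 = N56982 := ded_33_2 (flp_c L760257) (flp_i L758446) L770200
theorem L770208 : sm gd N57932 = N56762 := ded_27_2 (flp_c L758462) (flp_d L744711) (flp_c L744689) L758440 L770200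
theorem L770210 : sm ge N56759 = N57933 := rfl
theorem L770212 : sm gj N57933 = N56972 := ded_42_2 (flp_e L760195) (flp_j L758444) L770210
theorem L770214 : sm gi N57933 = N56983 := ded_44_2 (flp_e L760263) (flp_i L758446) L770210
theorem L770216 : sm gd N57933 = N56766 := ded_34_1 (flp_e L758500) (flp_d L744760) (flp_e L744691) L758440 L770210
theorem L770218 : sm gb N56760 = N57934 := rfl
theorem L770220 : sm gd N57934 = N56763 := ded_20_2 (flp_b L758472) (flp_d L758450) L770218
theorem L770222 : sm gc N56761 = N57935 := rfl
theorem L770224 : sm gg N57935 = N56762 := ded_30_2 (flp_c L758462) (flp_g L758456) L770222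
theorem L770226 : sm gh N57935 = N56904 := ded_32_2 (flp_c L759726) (flp_h L758460) L770222
theorem L770228 : sm gi N57935 = N56979 := ded_33_2 (flp_c L760237) (flp_i L758458) L770222
theorem L770230 : sm gb N56762 = N57936 := rfl
theorem L770232 : sm gf N57936 = N56763 := ded_22_2 (flp_b L758472) (flp_f L758464) L770230
theorem L770234 : sm gj N57936 = N56974 := ded_24_2 (flp_b L760208) (flp_j L758466) L770230
theorem L770236 : sm gh N57936 = N56905 := ded_25_2 (flp_b L759730) (flp_h L758468) L770230
theorem L770238 : sm gi N57936 = N56984 := ded_26_2 (flp_b L760269) (flp_i L758470) L770230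
theorem L770240 : sm gc N57936 = N57003 := ded_19_2 (flp_b L760371) (flp_c L746983) (flp_b L744713) L758462 L770230
theorem L770242 : sm ga N56763 = N57937 := rfl
theorem L770244 : sm gc N57937 = N57004 := ded_11_2 (flp_a L760377) (flp_c L758476) L770242
theorem L770246 : sm gh N57937 = N56906 := ded_17_2 (flp_a L759736) (flp_h L758474) L770242
theorem L770248 : sm ge N56764 = N57938 := rfl
theorem L770250 : sm gb N57938 = N56766 := ded_21_1 (flp_e L758500) (flp_b L758480) L770248
theorem L770252 : sm gj N57938 = N56968 := ded_42_2 (flp_e L760173) (flp_j L758484) L770248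
theorem L770254 : sm gh N57938 = N57938 := ded_43_2 (flp_e L770248) L758488 L770248
theorem L770255 : sm gi N57938 = N56981 := ded_44_2 (flp_e L760249) (flp_i L758486) L770248
theorem L770257 : sm ge N56765 = N57939 := rfl
theorem L770259 : sm gc N57939 = N56968 := ded_28_1 (flp_e L760173) (flp_c L758497) L770257
theorem L770261 : sm gg N57939 = N56766 := ded_41_2 (flp_e L758500) (flp_g L758493) L770257
theorem L770263 : sm gh N57939 = N57939 := ded_43_2 (flp_e L770257) L758499 L770257
theorem L770264 : sm gi N57939 = N56977 := ded_44_2 (flp_e L760223) (flp_i L758495) L770257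
theorem L770266 : sm gd N56767 = N57940 := rfl
theorem L770268 : sm ga N57940 = N56847 := ded_12_1 (flp_d L759310) (flp_a L758509) L770266
theorem L770270 : sm gf N57940 = N57044 := ded_35_2 (flp_d L760632) (flp_f L758515) L770266
theorem L770272 : sm gj N57940 = N56783 := ded_37_2 (flp_d L758679) (flp_j L758517) L770266
theorem L770274 : sm gi N57940 = N56797 := ded_39_2 (flp_d L758824) (flp_i L758519) L770266
theorem L770276 : sm ge N56768 = N57941 := rfl
theorem L770278 : sm ga N57941 = N56848 := ded_13_1 (flp_e L759318) (flp_a L758523) L770276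
theorem L770280 : sm gc N57941 = N56836 := ded_28_1 (flp_e L759196) (flp_c L758531) L770276
theorem L770282 : sm gj N57941 = N56784 := ded_42_2 (flp_e L758685) (flp_j L758527) L770276
theorem L770284 : sm gh N57941 = N57941 := ded_43_2 (flp_e L770276) L758533 L770276
theorem L770285 : sm gi N57941 = N56798 := ded_44_2 (flp_e L758830) (flp_i L758529) L770276
theorem L770287 : sm gc N56769 = N57942 := rfl
theorem L770289 : sm ga N57942 = N56849 := ded_11_1 (flp_c L759325) (flp_a L758536) L770287
theorem L770291 : sm ge N57942 = N56837 := ded_28_2 (flp_c L759203) (flp_e L758546) L770287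
theorem L770293 : sm gf N57942 = N57046 := ded_29_2 (flp_c L760642) (flp_f L758540) L770287
theorem L770295 : sm gj N57942 = N56785 := ded_31_2 (flp_c L758694) (flp_j L758542) L770287
theorem L770297 : sm gh N57942 = N56771 := ded_32_2 (flp_c L758566) (flp_h L758548) L770287
theorem L770299 : sm gi N57942 = N56800 := ded_33_2 (flp_c L758856) (flp_i L758544) L770287
theorem L770301 : sm gc N56770 = N57943 := rfl
theorem L770303 : sm ga N57943 = N56837 := ded_11_1 (flp_c L759203) (flp_a L758552) L770301
theorem L770305 : sm ge N57943 = N56849 := ded_28_2 (flp_c L759325) (flp_e L758562) L770301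
theorem L770307 : sm gf N57943 = N57047 := ded_29_2 (flp_c L760648) (flp_f L758556) L770301
theorem L770309 : sm gj N57943 = N56771 := ded_31_2 (flp_c L758566) (flp_j L758558) L770301
theorem L770311 : sm gh N57943 = N56785 := ded_32_2 (flp_c L758694) (flp_h L758564) L770301
theorem L770313 : sm gi N57943 = N56772 := ded_33_2 (flp_c L758576) (flp_i L758560) L770301
theorem L770315 : sm gb N56771 = N57944 := rfl
theorem L770317 : sm ge N57944 = N56862 := ded_21_2 (flp_b L759432) (flp_e L758570) L770315
theorem L770319 : sm gf N57944 = N57048 := ded_22_2 (flp_b L760656) (flp_f L758572) L770315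
theorem L770321 : sm gi N57944 = N56778 := ded_26_2 (flp_b L758628) (flp_i L758574) L770315
theorem L770323 : sm gc N57944 = N57015 := ded_19_2 (flp_b L760447) (flp_c L747121) (flp_b L744834) L758566 L770315
theorem L770325 : sm gb N56772 = N57945 := rfl
theorem L770327 : sm ge N57945 = N56880 := ded_21_2 (flp_b L759569) (flp_e L758580) L770325
theorem L770329 : sm gf N57945 = N57054 := ded_22_2 (flp_b L760692) (flp_f L758582) L770325
theorem L770331 : sm gj N57945 = N56778 := ded_24_2 (flp_b L758628) (flp_j L758584) L770325
theorem L770333 : sm gc N57945 = N57029 := ded_19_2 (flp_b L760542) (flp_c L747229) (flp_b L744846) L758576 L770325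
theorem L770335 : sm gd N56773 = N57946 := rfl
theorem L770337 : sm ga N57946 = N56774 := ded_12_1 (flp_d L758602) (flp_a L758588) L770335
theorem L770339 : sm gb N57946 = N57126 := ded_20_1 (flp_d L761148) (flp_b L758590) L770335
theorem L770341 : sm gf N57946 = N57055 := ded_35_2 (flp_d L760696) (flp_f L758596) L770335
theorem L770343 : sm gg N57946 = N56857 := ded_36_2 (flp_d L759390) (flp_g L758598) L770335
theorem L770345 : sm gi N57946 = N56897 := ded_39_2 (flp_d L759694) (flp_i L758600) L770335
theorem L770347 : sm gc N56774 = N57947 := rfl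
theorem L770349 : sm gf N57947 = N57057 := ded_29_2 (flp_c L760708) (flp_f L758606) L770347
theorem L770351 : sm gd N57947 = N57033 := ded_27_2 (flp_c L760577) (flp_d L747268) (flp_c L744886) L758602 L770347
theorem L770353 : sm ge N56774 = N57948 := rfl
theorem L770355 : sm gb N57948 = N56777 := ded_21_1 (flp_e L758622) (flp_b L758604) L770353
theorem L770357 : sm gd N57948 = N56775 := ded_34_1 (flp_e L758608) (flp_d L744892) (flp_e L744888) L758602 L770353
theorem L770359 : sm gb N56776 = N57949 := rfl
theorem L770361 : sm gd N57949 = N56778 := ded_20_2 (flp_b L758628) (flp_d L758620) L770359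
theorem L770363 : sm gf N57949 = N57060 := ded_22_2 (flp_b L760722) (flp_f L758618) L770359
theorem L770365 : sm ge N56776 = N57950 := rfl
theorem L770367 : sm ga N57950 = N57143 := ded_13_1 (flp_e L761240) (flp_a L758616) L770365
theorem L770369 : sm gc N57950 = N56777 := ded_28_1 (flp_e L758622) L758614 L770365
theorem L770371 : sm gd N57950 = N56901 := ded_34_1 (flp_e L759712) L746134 (flp_e L744918) (flp_d L758620) L770365
theorem L770373 : sm ga N56778 = N57951 := rfl
theorem L770375 : sm gc N57951 = N57040 := ded_11_2 (flp_a L760609) (flp_c L758634) L770373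
theorem L770377 : sm ge N57951 = N56906 := ded_13_2 (flp_a L759736) (flp_e L758630) L770373
theorem L770379 : sm gf N57951 = N57061 := ded_14_2 (flp_a L760726) (flp_f L758632) L770373
theorem L770381 : sm gb N57951 = N57150 := ded_10_2 (flp_a L761270) (flp_b L747996) (flp_a L744916) L758628 L770373
theorem L770383 : sm gc N56780 = N57952 := rfl
theorem L770385 : sm ga N57952 = N57028 := ded_11_1 (flp_c L760536) (flp_a L758652) L770383
theorem L770387 : sm ge N57952 = N56879 := ded_28_2 (flp_c L759559) (flp_e L758662) L770383
theorem L770389 : sm gf N57952 = N57009 := ded_29_2 (flp_c L760407) (flp_f L758656) L770383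
theorem L770391 : sm gj N57952 = N56781 := ded_31_2 (flp_c L758666) (flp_j L758658) L770383
theorem L770393 : sm gh N57952 = N56937 := ded_32_2 (flp_c L759975) (flp_h L758664) L770383
theorem L770395 : sm gi N57952 = N57011 := ded_33_2 (flp_c L760419) (flp_i L758660) L770383
theorem L770397 : sm gb N56781 = N57953 := rfl
theorem L770399 : sm ge N57953 = N56905 := ded_21_2 (flp_b L759730) (flp_e L758670) L770397
theorem L770401 : sm gf N57953 = N57010 := ded_22_2 (flp_b L760415) (flp_f L758672) L770397
theorem L770403 : sm gc N57953 = N56811 := ded_19_2 (flp_b L758941) (flp_c L745290) (flp_b L744991) L758666 L770397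
theorem L770405 : sm gd N56782 = N57954 := rfl
theorem L770407 : sm ga N57954 = N56856 := ded_12_1 (flp_d L759386) (flp_a L758676) L770405
theorem L770409 : sm gh N57954 = N56783 := ded_38_2 (flp_d L758679) (flp_h L745004) (flp_d L745001) L758674 L770405
theorem L770411 : sm gc N56783 = N57955 := rfl
theorem L770413 : sm ga N57955 = N56858 := ded_11_1 (flp_c L759398) (flp_a L758681) L770411
theorem L770415 : sm gi N57955 = N56807 := ded_33_2 (flp_c L758911) (flp_i L758683) L770411
theorem L770417 : sm gd N57955 = N56785 := ded_27_2 (flp_c L758694) (flp_d L745025) (flp_c L745008) L758679 L770411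
theorem L770419 : sm ge N56783 = N57956 := rfl
theorem L770421 : sm ga N57956 = N56859 := ded_13_1 (flp_e L759404) (flp_a L758681) L770419
theorem L770423 : sm gi N57956 = N56808 := ded_44_2 (flp_e L758917) (flp_i L758683) L770419
theorem L770425 : sm gd N57956 = N56784 := ded_34_1 (flp_e L758685) (flp_d L745014) (flp_e L745010) L758679 L770419
theorem L770427 : sm gb N56785 = N57957 := rfl
theorem L770429 : sm ge N57957 = N57100 := ded_21_2 (flp_b L760975) (flp_e L758698) L770427
theorem L770431 : sm gi N57957 = N56811 := ded_26_2 (flp_b L758941) (flp_i L758700) L770427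
theorem L770433 : sm gh N56786 = N57958 := rfl
theorem L770435 : sm ga N57958 = N57064 := ded_17_1 (flp_h L760752) (flp_a L758704) L770433
theorem L770437 : sm gb N57958 = N56788 := ded_25_1 (flp_h L758727) (flp_b L758706) L770433
theorem L770439 : sm ge N57958 = N56787 := ded_43_1 (flp_h L758716) (flp_e L758710) L770433
theorem L770441 : sm gg N57958 = N56792 := ded_50_1 (flp_h L758767) (flp_g L758712) L770433
theorem L770443 : sm gj N57958 = N57121 := ded_52_1 L761126 (flp_j L758714) L770433
theorem L770445 : sm gd N56787 = N57959 := rfl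
theorem L770447 : sm ga N57959 = N57160 := ded_12_1 (flp_d L761351) (flp_a L758718) L770445
theorem L770449 : sm gb N57959 = N56789 := ded_20_1 (flp_d L758739) (flp_b L758720) L770445
theorem L770451 : sm gf N57959 = N57959 := ded_35_2 (flp_d L770445) L758722 L770445
theorem L770452 : sm gg N57959 = N56793 := ded_36_2 (flp_d L758775) (flp_g L758723) L770445
theorem L770454 : sm gj N57959 = N57154 := ded_37_2 L761306 (flp_j L758725) L770445
theorem L770456 : sm gh N57959 = N56817 := ded_38_2 (flp_d L758998) (flp_h L745367) (flp_d L745063) L758716 L770445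
theorem L770458 : sm gd N56788 = N57960 := rfl
theorem L770460 : sm ga N57960 = N56864 := ded_12_1 (flp_d L759445) (flp_a L758729) L770458
theorem L770462 : sm gg N57960 = N56797 := ded_36_2 (flp_d L758824) (flp_g L758735) L770458
theorem L770464 : sm gj N57960 = N57133 := ded_37_2 (flp_d L761186) (flp_j L758737) L770458
theorem L770466 : sm gh N57960 = N57139 := ded_38_2 (flp_d L761218) (flp_h L747954) (flp_d L745076) L758727 L770458
theorem L770468 : sm ge N56789 = N57961 := rfl
theorem L770470 : sm ga N57961 = N56865 := ded_13_1 (flp_e L759449) (flp_a L758741) L770468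
theorem L770472 : sm gc N57961 = N56827 := ded_28_1 (flp_e L759103) (flp_c L758748) L770468
theorem L770474 : sm gg N57961 = N56798 := ded_41_2 (flp_e L758830) (flp_g L758744) L770468
theorem L770476 : sm gj N57961 = N57168 := ded_42_2 (flp_e L761401) (flp_j L758746) L770468
theorem L770478 : sm gh N57961 = N56818 := ded_43_2 (flp_e L759010) (flp_h L758750) L770468
theorem L770480 : sm gd N56790 = N57962 := rfl
theorem L770482 : sm ga N57962 = N56866 := ded_12_1 (flp_d L759457) (flp_a L758754) L770480
theorem L770484 : sm gf N57962 = N56791 := ded_35_2 (flp_d L758759) (flp_f L758757) L770480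
theorem L770486 : sm gc N56791 = N57963 := rfl
theorem L770488 : sm ga N57963 = N56867 := ded_11_1 (flp_c L759463) (flp_a L758761) L770486
theorem L770490 : sm ge N57963 = N57123 := ded_28_2 (flp_c L761134) (flp_e L758765) L770486
theorem L770492 : sm gg N57963 = N56800 := ded_30_2 (flp_c L758856) (flp_g L758763) L770486
theorem L770494 : sm gd N56792 = N57964 := rfl
theorem L770496 : sm gb N57964 = N56797 := ded_20_1 (flp_d L758824) (flp_b L758769) L770494
theorem L770498 : sm gj N57964 = N56802 := ded_37_2 (flp_d L758872) (flp_j L758773) L770494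
theorem L770500 : sm ge N56793 = N57965 := rfl
theorem L770502 : sm gb N57965 = N56798 := ded_21_1 (flp_e L758830) (flp_b L758777) L770500
theorem L770504 : sm gj N57965 = N56803 := ded_42_2 (flp_e L758878) (flp_j L758781) L770500
theorem L770506 : sm gh N57965 = N56819 := ded_43_2 (flp_e L759023) (flp_h L758783) L770500
theorem L770508 : sm gh N56794 = N57966 := rfl
theorem L770510 : sm ga N57966 = N56872 := ded_17_1 (flp_h L759508) (flp_a L758787) L770508
theorem L770512 : sm gc N57966 = N56957 := ded_32_1 (flp_h L760099) (flp_c L758789) L770508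
theorem L770514 : sm ge N57966 = N57966 := ded_43_1 (flp_h L770508) L758793 L770508
theorem L770515 : sm gf N57966 = N56795 := ded_47_1 (flp_h L758798) (flp_f L758794) L770508
theorem L770517 : sm gj N57966 = N56804 := ded_52_1 (flp_h L758886) (flp_j L758796) L770508
theorem L770519 : sm gd N56795 = N57967 := rfl
theorem L770521 : sm ga N57967 = N56874 := ded_12_1 (flp_d L759525) (flp_a L758800) L770519
theorem L770523 : sm gg N57967 = N57139 := ded_36_2 (flp_d L761218) (flp_g L758806) L770519
theorem L770525 : sm gj N57967 = N56805 := ded_37_2 (flp_d L758897) (flp_j L758808) L770519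
theorem L770527 : sm gh N57967 = N56797 := ded_38_2 (flp_d L758824) (flp_h L745163) (flp_d L745143) L758798 L770519
theorem L770529 : sm gd N56796 = N57968 := rfl
theorem L770531 : sm ga N57968 = N56875 := ded_12_1 (flp_d L759531) (flp_a L758812) L770529
theorem L770533 : sm gf N57968 = N56797 := ded_35_2 (flp_d L758824) (flp_f L758818) L770529
theorem L770535 : sm gj N57968 = N56806 := ded_37_2 (flp_d L758905) (flp_j L758820) L770529
theorem L770537 : sm gi N57968 = N57044 := ded_39_2 (flp_d L760632) (flp_i L758822) L770529
theorem L770539 : sm gc N56797 = N57969 := rfl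
theorem L770541 : sm ga N57969 = N56876 := ded_11_1 (flp_c L759539) (flp_a L758826) L770539
theorem L770543 : sm gj N57969 = N56807 := ded_31_2 (flp_c L758911) (flp_j L758828) L770539
theorem L770545 : sm gd N57969 = N56800 := ded_27_2 (flp_c L758856) (flp_d L745199) (flp_c L745167) L758824 L770539
theorem L770547 : sm ge N56797 = N57970 := rfl
theorem L770549 : sm ga N57970 = N56877 := ded_13_1 (flp_e L759545) (flp_a L758826) L770547
theorem L770551 : sm gj N57970 = N56808 := ded_42_2 (flp_e L758917) (flp_j L758828) L770547
theorem L770553 : sm gd N57970 = N56798 := ded_34_1 (flp_e L758830) (flp_d L745173) (flp_e L745169) L758824 L770547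
theorem L770555 : sm gf N56798 = N57971 := rfl
theorem L770557 : sm ga N57971 = N56878 := ded_14_1 (flp_f L759551) (flp_a L758832) L770555
theorem L770559 : sm gc N57971 = N57153 := ded_29_1 (flp_f L761292) (flp_c L758834) L770555
theorem L770561 : sm gj N57971 = N56809 := ded_46_2 (flp_f L758923) (flp_j L758836) L770555
theorem L770563 : sm gh N57971 = N56822 := ded_47_2 (flp_f L759056) (flp_h L758838) L770555
theorem L770565 : sm ge N57971 = N56814 := ded_40_1 (flp_f L758971) (flp_e L745329) (flp_f L745177) L758830 L770555
theorem L770567 : sm gc N56799 = N57972 := rfl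
theorem L770569 : sm ga N57972 = N56879 := ded_11_1 (flp_c L759559) (flp_a L758842) L770567
theorem L770571 : sm ge N57972 = N57028 := ded_28_2 (flp_c L760536) (flp_e L758852) L770567
theorem L770573 : sm gf N57972 = N56800 := ded_29_2 (flp_c L758856) (flp_f L758846) L770567
theorem L770575 : sm gj N57972 = N56810 := ded_31_2 (flp_c L758933) (flp_j L758848) L770567
theorem L770577 : sm gh N57972 = N56960 := ded_32_2 (flp_c L760121) (flp_h L758854) L770567
theorem L770579 : sm gi N57972 = N57046 := ded_33_2 (flp_c L760642) (flp_i L758850) L770567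
theorem L770581 : sm gb N56800 = N57973 := rfl
theorem L770583 : sm ge N57973 = N57124 := ded_21_2 (flp_b L761138) (flp_e L758860) L770581
theorem L770585 : sm gj N57973 = N56811 := ded_24_2 (flp_b L758941) (flp_j L758862) L770581
theorem L770587 : sm gd N56801 = N57974 := rfl
theorem L770589 : sm gb N57974 = N56805 := ded_20_1 (flp_d L758897) (flp_b L758866) L770587
theorem L770591 : sm gg N57974 = N57113 := ded_36_2 (flp_d L761056) (flp_g L758870) L770587
theorem L770593 : sm gh N57974 = N56802 := ded_38_2 (flp_d L758872) (flp_h L745217) (flp_d L745211) L758864 L770587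
theorem L770595 : sm gc N56802 = N57975 := rfl
theorem L770597 : sm gg N57975 = N57147 := ded_30_2 L761260 (flp_g L758876) L770595
theorem L770599 : sm ge N56802 = N57976 := rfl
theorem L770601 : sm gb N57976 = N56808 := ded_21_1 (flp_e L758917) (flp_b L758874) L770599
theorem L770603 : sm gg N57976 = N57144 := ded_41_2 L761248 (flp_g L758876) L770599
theorem L770605 : sm gd N57976 = N56803 := ded_34_1 (flp_e L758878) (flp_d L745225) (flp_e L745221) L758872 L770599
theorem L770607 : sm gf N56803 = N57977 := rfl
theorem L770609 : sm gb N57977 = N56809 := ded_22_1 (flp_f L758923) (flp_b L758880) L770607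
theorem L770611 : sm gc N57977 = N57155 := ded_29_1 (flp_f L769804) L769798 L770607
theorem L770613 : sm gh N57977 = N56826 := ded_47_2 (flp_f L759092) (flp_h L758884) L770607
theorem L770615 : sm ge N57977 = N56815 := ded_40_1 (flp_f L758981) (flp_e L745340) (flp_f L745229) L758878 L770607
theorem L770617 : sm gg N57977 = N57156 := ded_45_2 L761325 L748086 L748090 (flp_g L758882) L770607
theorem L770619 : sm gd N56804 = N57978 := rfl
theorem L770621 : sm ga N57978 = N56892 := ded_12_1 (flp_d L759666) (flp_a L758888) L770619
theorem L770623 : sm gf N57978 = N56805 := ded_35_2 (flp_d L758897) (flp_f L758893) L770619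
theorem L770625 : sm gg N57978 = N57107 := ded_36_2 (flp_d L761029) (flp_g L758895) L770619
theorem L770627 : sm gh N57978 = N56806 := ded_38_2 (flp_d L758905) (flp_h L745258) (flp_d L745241) L758886 L770619
theorem L770629 : sm gc N56805 = N57979 := rfl
theorem L770631 : sm ga N57979 = N56894 := ded_11_1 (flp_c L759676) (flp_a L758899) L770629
theorem L770633 : sm gg N57979 = N57116 := ded_30_2 (flp_c L761082) (flp_g L758901) L770629
theorem L770635 : sm gh N57979 = N56807 := ded_32_2 (flp_c L758911) (flp_h L758903) L770629
theorem L770637 : sm gd N57979 = N57123 := ded_27_2 (flp_c L761134) (flp_d L747868) (flp_c L745252) L758897 L770629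
theorem L770639 : sm ge N56805 = N57980 := rfl
theorem L770641 : sm ga N57980 = N56895 := ded_13_1 (flp_e L759680) (flp_a L758899) L770639
theorem L770643 : sm gg N57980 = N57117 := ded_41_2 (flp_e L761090) (flp_g L758901) L770639
theorem L770645 : sm gh N57980 = N56808 := ded_43_2 (flp_e L758917) (flp_h L758903) L770639
theorem L770647 : sm gd N57980 = N56827 := ded_34_1 (flp_e L759103) (flp_d L745457) (flp_e L745254) L758897 L770639
theorem L770649 : sm gc N56806 = N57981 := rfl
theorem L770651 : sm ga N57981 = N56898 := ded_11_1 (flp_c L759698) (flp_a L758907) L770649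
theorem L770653 : sm gf N57981 = N56807 := ded_29_2 (flp_c L758911) (flp_f L758909) L770649
theorem L770655 : sm gd N57981 = N56810 := ded_27_2 (flp_c L758933) (flp_d L745280) (flp_c L745262) L758905 L770649
theorem L770657 : sm ge N56806 = N57982 := rfl
theorem L770659 : sm ga N57982 = N56899 := ded_13_1 (flp_e L759704) (flp_a L758907) L770657
theorem L770661 : sm gd N57982 = N56816 := ded_34_1 (flp_e L758991) (flp_d L745350) (flp_e L745264) L758905 L770657
theorem L770663 : sm gb N56807 = N57983 := rfl
theorem L770665 : sm gd N57983 = N56811 := ded_20_2 (flp_b L758941) (flp_d L758915) L770663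
theorem L770667 : sm ge N56807 = N57984 := rfl
theorem L770669 : sm ga N57984 = N56901 := ded_13_1 (flp_e L759712) (flp_a L758913) L770667
theorem L770671 : sm gc N57984 = N56808 := ded_28_1 (flp_e L758917) L758911 L770667
theorem L770673 : sm gd N57984 = N57143 := ded_34_1 (flp_e L761240) L747970 (flp_e L745294) (flp_d L758915) L770667
theorem L770675 : sm gf N56808 = N57985 := rfl
theorem L770677 : sm ga N57985 = N56902 := ded_14_1 (flp_f L759716) (flp_a L758919) L770675
theorem L770679 : sm gd N57985 = N56809 := ded_35_1 (flp_f L758923) (flp_d L758921) L770675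
theorem L770681 : sm gb N56810 = N57986 := rfl
theorem L770683 : sm ge N57986 = N57039 := ded_21_2 (flp_b L760603) (flp_e L758937) L770681
theorem L770685 : sm gf N57986 = N56811 := ded_22_2 (flp_b L758941) (flp_f L758939) L770681
theorem L770687 : sm gc N57986 = N57010 := ded_19_2 (flp_b L760415) (flp_c L747085) (flp_b L745284) L758933 L770681
theorem L770689 : sm ga N56811 = N57987 := rfl
theorem L770691 : sm ge N57987 = N57150 := ded_13_2 (flp_a L761270) (flp_e L758943) L770689
theorem L770693 : sm gb N57987 = N56906 := ded_10_2 (flp_a L759736) (flp_b L746164) (flp_a L745292) L758941 L770689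
theorem L770695 : sm gf N56812 = N57988 := rfl
theorem L770697 : sm ga N57988 = N57066 := ded_14_1 L760764 (flp_a L758947) L770695
theorem L770699 : sm gb N57988 = N56814 := ded_22_1 (flp_f L758971) (flp_b L758949) L770695
theorem L770701 : sm gc N57988 = N57063 := ded_29_1 L760746 (flp_c L758951) L770695
theorem L770703 : sm gj N57988 = N56815 := ded_46_2 (flp_f L758981) (flp_j L758954) L770695
theorem L770705 : sm gh N57988 = N56829 := ded_47_2 (flp_f L759119) (flp_h L758956) L770695
theorem L770707 : sm ge N56813 = N57989 := rfl
theorem L770709 : sm ga N57989 = N56910 := ded_13_1 (flp_e L759777) (flp_a L758960) L770707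
theorem L770711 : sm gc N57989 = N57042 := ded_28_1 (flp_e L760622) (flp_c L758968) L770707
theorem L770713 : sm gj N57989 = N56816 := ded_42_2 (flp_e L758991) (flp_j L758964) L770707
theorem L770715 : sm gh N57989 = N57989 := ded_43_2 (flp_e L770707) L758970 L770707
theorem L770716 : sm gi N57989 = N57045 := ded_44_2 (flp_e L760636) (flp_i L758966) L770707
theorem L770718 : sm gg N56814 = N57990 := rfl
theorem L770720 : sm ga N57990 = N56911 := ded_15_1 (flp_g L759784) (flp_a L758973) L770718
theorem L770722 : sm gc N57990 = N57154 := ded_30_1 (flp_g L761302) (flp_c L758975) L770718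
theorem L770724 : sm gh N57990 = N56830 := ded_50_2 (flp_g L759131) (flp_h L758979) L770718
theorem L770726 : sm gf N57990 = N57990 := ded_45_1 (flp_g L770718) (flp_f L758971) L745335 L758971 L770718
theorem L770727 : sm ge N56817 = N57991 := rfl
theorem L770729 : sm ga N57991 = N57161 := ded_13_1 (flp_e L761358) (flp_a L759000) L770727
theorem L770731 : sm gb N57991 = N56818 := ded_21_1 (flp_e L759010) (flp_b L759002) L770727
theorem L770733 : sm gg N57991 = N56819 := ded_41_2 (flp_e L759023) (flp_g L759005) L770727
theorem L770735 : sm gj N57991 = N57166 := ded_42_2 (flp_e L761384) (flp_j L759007) L770727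
theorem L770737 : sm gi N57991 = N57991 := ded_44_2 (flp_e L770727) L759009 L770727
theorem L770738 : sm gd N57991 = N57159 := ded_34_1 (flp_e L761342) (flp_d L748140) (flp_e L745374) L758998 L770727
theorem L770740 : sm gf N56818 = N57992 := rfl
theorem L770742 : sm ga N57992 = N56916 := ded_14_1 (flp_f L759819) (flp_a L759012) L770740
theorem L770744 : sm gc N57992 = N56828 := ded_29_1 (flp_f L759111) (flp_c L759014) L770740
theorem L770746 : sm gd N57992 = N57171 := ded_35_1 (flp_f L761418) (flp_d L759021) L770740
theorem L770748 : sm gj N57992 = N57170 := ded_46_2 (flp_f L761412) (flp_j L759018) L770740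
theorem L770750 : sm gi N57992 = N57992 := ded_48_2 (flp_f L770740) L759020 L770740
theorem L770751 : sm ge N57992 = N57992 := ded_40_1 (flp_f L770740) (flp_e L759010) L745386 L759010 L770740
theorem L770752 : sm gf N56819 = N57993 := rfl
theorem L770754 : sm ga N57993 = N57162 := ded_14_1 (flp_f L764851) L764838 L770752
theorem L770756 : sm gb N57993 = N56822 := ded_22_1 (flp_f L759056) (flp_b L759025) L770752
theorem L770758 : sm gc N57993 = N57159 := ded_29_1 (flp_f L769887) L769882 L770752
theorem L770760 : sm gj N57993 = N56826 := ded_46_2 (flp_f L759092) (flp_j L759027) L770752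
theorem L770762 : sm gi N57993 = N57993 := ded_48_2 (flp_f L770752) L759029 L770752
theorem L770763 : sm ge N57993 = N56829 := ded_40_1 (flp_f L759119) (flp_e L745484) (flp_f L745398) L759023 L770752
theorem L770765 : sm ge N56820 = N57994 := rfl
theorem L770767 : sm ga N57994 = N56918 := ded_13_1 (flp_e L759833) (flp_a L759032) L770765
theorem L770769 : sm gc N57994 = N57168 := ded_28_1 (flp_e L761401) (flp_c L759039) L770765
theorem L770771 : sm gg N57994 = N57157 := ded_41_2 (flp_e L761327) (flp_g L759035) L770765
theorem L770773 : sm gj N57994 = N56827 := ded_42_2 (flp_e L759103) (flp_j L759037) L770765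
theorem L770775 : sm gh N57994 = N56821 := ded_43_2 (flp_e L759043) (flp_h L759041) L770765
theorem L770777 : sm gf N56821 = N57995 := rfl
theorem L770779 : sm ga N57995 = N56919 := ded_14_1 (flp_f L759839) (flp_a L759045) L770777
theorem L770781 : sm gc N57995 = N57170 := ded_29_1 (flp_f L761412) (flp_c L759047) L770777
theorem L770783 : sm gd N57995 = N56822 := ded_35_1 (flp_f L759056) (flp_d L759054) L770777
theorem L770785 : sm gj N57995 = N56828 := ded_46_2 (flp_f L759111) (flp_j L759051) L770777
theorem L770787 : sm gi N57995 = N57995 := ded_48_2 (flp_f L770777) L759053 L770777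
theorem L770788 : sm ge N57995 = N57995 := ded_40_1 (flp_f L770777) (flp_e L759043) L745418 L759043 L770777
theorem L770789 : sm gg N56822 = N57996 := rfl
theorem L770791 : sm ga N57996 = N56920 := ded_15_1 (flp_g L759847) (flp_a L759058) L770789
theorem L770793 : sm gc N57996 = N57166 := ded_30_1 L761388 (flp_c L759060) L770789
theorem L770795 : sm ge N57996 = N56830 := ded_41_1 (flp_g L759131) (flp_e L759065) L770789
theorem L770797 : sm gi N57996 = N57996 := ded_51_2 (flp_g L770789) L759064 L770789
theorem L770798 : sm gc N56823 = N57997 := rfl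
theorem L770800 : sm gf N57997 = N57997 := ded_29_2 (flp_c L770798) L759071 L770798
theorem L770801 : sm gg N57997 = N57151 := ded_30_2 (flp_c L761274) (flp_g L759072) L770798
theorem L770803 : sm gh N57997 = N56824 := ded_32_2 (flp_c L759076) (flp_h L759074) L770798
theorem L770805 : sm ge N56823 = N57998 := rfl
theorem L770807 : sm gb N57998 = N56827 := ded_21_1 (flp_e L759103) (flp_b L759069) L770805
theorem L770809 : sm gg N57998 = N57152 := ded_41_2 (flp_e L761282) (flp_g L759072) L770805
theorem L770811 : sm gh N57998 = N56825 := ded_43_2 (flp_e L759083) (flp_h L759074) L770805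
theorem L770813 : sm ge N56824 = N57999 := rfl
theorem L770815 : sm gc N57999 = N56825 := ded_28_1 (flp_e L759083) L759076 L770813
theorem L770817 : sm gg N57999 = N57171 := ded_41_2 L761425 (flp_g L759079) L770813
theorem L770819 : sm gi N57999 = N57999 := ded_44_2 (flp_e L770813) L759081 L770813
theorem L770820 : sm gf N56825 = N58000 := rfl
theorem L770822 : sm gb N58000 = N56828 := ded_22_1 (flp_f L759111) (flp_b L759085) L770820
theorem L770824 : sm gd N58000 = N56826 := ded_35_1 (flp_f L759092) (flp_d L759090) L770820
theorem L770826 : sm gi N58000 = N58000 := ded_48_2 (flp_f L770820) L759089 L770820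
theorem L770827 : sm ge N58000 = N58000 := ded_40_1 (flp_f L770820) (flp_e L759083) L745446 L759083 L770820
theorem L770828 : sm gg N58000 = N57170 := ded_45_2 (flp_f L761412) L748241 L748253 (flp_g L759087) L770820
theorem L770830 : sm gf N56827 = N58001 := rfl
theorem L770832 : sm ga N58001 = N56924 := ded_14_1 (flp_f L759871) (flp_a L759105) L770830
theorem L770834 : sm gh N58001 = N56828 := ded_47_2 (flp_f L759111) (flp_h L759109) L770830
theorem L770836 : sm ge N58001 = N58001 := ded_40_1 (flp_f L770830) (flp_e L759103) L745461 L759103 L770830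
theorem L770837 : sm gd N56832 = N58002 := rfl
theorem L770839 : sm gb N58002 = N56835 := ded_20_1 (flp_d L759188) (flp_b L759156) L770837
theorem L770841 : sm gf N58002 = N57077 := ded_35_2 (flp_d L760825) (flp_f L759162) L770837
theorem L770843 : sm gj N58002 = N57085 := ded_37_2 (flp_d L760880) (flp_j L759164) L770837
theorem L770845 : sm gi N58002 = N57113 := ded_39_2 (flp_d L761056) (flp_i L759166) L770837
theorem L770847 : sm gc N56833 = N58003 := rfl
theorem L770849 : sm gf N58003 = N57102 := ded_29_2 (flp_c L760985) (flp_f L759172) L770847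
theorem L770851 : sm gj N58003 = N57103 := ded_31_2 (flp_c L760997) (flp_j L759174) L770847
theorem L770853 : sm gh N58003 = N58003 := ded_32_2 (flp_c L770847) L759178 L770847
theorem L770854 : sm gi N58003 = N57151 := ded_33_2 (flp_c L761274) (flp_i L759176) L770847
theorem L770856 : sm gd N58003 = N57066 := ded_27_2 (flp_c L760762) (flp_d L747485) (flp_c L745546) L759168 L770847
theorem L770858 : sm ge N56833 = N58004 := rfl
theorem L770860 : sm gb N58004 = N56836 := ded_21_1 (flp_e L759196) (flp_b L759170) L770858
theorem L770862 : sm gj N58004 = N57104 := ded_42_2 (flp_e L761004) (flp_j L759174) L770858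
theorem L770864 : sm gh N58004 = N58004 := ded_43_2 (flp_e L770858) L759178 L770858
theorem L770865 : sm gi N58004 = N57152 := ded_44_2 (flp_e L761282) (flp_i L759176) L770858
theorem L770867 : sm gf N58004 = N57169 := ded_40_2 (flp_e L761407) L748230 (flp_e L747717) (flp_f L759172) L770858
theorem L770869 : sm gd N56834 = N58005 := rfl
theorem L770871 : sm gf N58005 = N57078 := ded_35_2 (flp_d L760835) (flp_f L759184) L770869
theorem L770873 : sm gj N58005 = N57090 := ded_37_2 (flp_d L760911) (flp_j L759186) L770869
theorem L770875 : sm gh N58005 = N56835 := ded_38_2 (flp_d L759188) (flp_h L745565) (flp_d L745558) L759179 L770869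
theorem L770877 : sm gc N56835 = N58006 := rfl
theorem L770879 : sm gf N58006 = N57079 := ded_29_2 (flp_c L760841) (flp_f L759190) L770877
theorem L770881 : sm gj N58006 = N57095 := ded_31_2 (flp_c L760943) (flp_j L759192) L770877
theorem L770883 : sm gi N58006 = N57116 := ded_33_2 (flp_c L761082) (flp_i L759194) L770877
theorem L770885 : sm gd N58006 = N56837 := ded_27_2 (flp_c L759203) (flp_d L745586) (flp_c L745567) L759188 L770877
theorem L770887 : sm ge N56835 = N58007 := rfl
theorem L770889 : sm gj N58007 = N57096 := ded_42_2 (flp_e L760951) (flp_j L759192) L770887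
theorem L770891 : sm gi N58007 = N57117 := ded_44_2 (flp_e L761090) (flp_i L759194) L770887
theorem L770893 : sm gd N58007 = N56836 := ded_34_1 (flp_e L759196) (flp_d L745577) (flp_e L745569) L759188 L770887
theorem L770895 : sm gb N56837 = N58008 := rfl
theorem L770897 : sm gf N58008 = N57080 := ded_22_2 (flp_b L760849) (flp_f L759205) L770895
theorem L770899 : sm gj N58008 = N57100 := ded_24_2 (flp_b L760975) (flp_j L759207) L770895
theorem L770901 : sm gh N58008 = N56862 := ded_25_2 (flp_b L759432) (flp_h L759209) L770895
theorem L770903 : sm gi N58008 = N57124 := ded_26_2 (flp_b L761138) (flp_i L759211) L770895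
theorem L770905 : sm gc N58008 = N57072 := ded_19_2 (flp_b L760794) (flp_c L747511) (flp_b L745588) L759203 L770895
theorem L770907 : sm gh N56838 = N58009 := rfl
theorem L770909 : sm gc N58009 = N57088 := ded_32_1 (flp_h L760899) (flp_c L759215) L770907
theorem L770911 : sm ge N58009 = N58009 := ded_43_1 (flp_h L770907) L759219 L770907
theorem L770912 : sm gg N58009 = N56846 := ded_50_1 (flp_h L759301) (flp_g L759220) L770907
theorem L770914 : sm gd N56839 = N58010 := rfl
theorem L770916 : sm gg N58010 = N56847 := ded_36_2 (flp_d L759310) (flp_g L759228) L770914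
theorem L770918 : sm gi N58010 = N56864 := ded_39_2 (flp_d L759445) (flp_i L759230) L770914
theorem L770920 : sm ge N56840 = N58011 := rfl
theorem L770922 : sm gc N58011 = N56923 := ded_28_1 (flp_e L759866) (flp_c L759239) L770920
theorem L770924 : sm gg N58011 = N56848 := ded_41_2 (flp_e L759318) (flp_g L759235) L770920
theorem L770926 : sm gh N58011 = N58011 := ded_43_2 (flp_e L770920) L759241 L770920
theorem L770927 : sm gi N58011 = N56865 := ded_44_2 (flp_e L759449) (flp_i L759237) L770920
theorem L770929 : sm gc N56841 = N58012 := rfl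
theorem L770931 : sm gg N58012 = N56849 := ded_30_2 (flp_c L759325) (flp_g L759246) L770929
theorem L770933 : sm gh N58012 = N57099 := ded_32_2 (flp_c L760969) (flp_h L759250) L770929
theorem L770935 : sm gi N58012 = N56867 := ded_33_2 (flp_c L759463) (flp_i L759248) L770929
theorem L770937 : sm gh N56842 = N58013 := rfl
theorem L770939 : sm gb N58013 = N56846 := ded_25_1 (flp_h L759301) (flp_b L759254) L770937
theorem L770941 : sm ge N58013 = N58013 := ded_43_1 (flp_h L770937) L759258 L770937
theorem L770942 : sm gf N58013 = N57064 := ded_47_1 (flp_h L760752) (flp_f L759259) L770937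
theorem L770944 : sm gj N58013 = N56850 := ded_52_1 (flp_h L759335) (flp_j L759261) L770937
theorem L770946 : sm gd N56843 = N58014 := rfl
theorem L770948 : sm gb N58014 = N56847 := ded_20_1 (flp_d L759310) (flp_b L759265) L770946
theorem L770950 : sm gf N58014 = N57065 := ded_35_2 (flp_d L760758) (flp_f L759271) L770946
theorem L770952 : sm gj N58014 = N56852 := ded_37_2 (flp_d L759358) (flp_j L759273) L770946
theorem L770954 : sm gi N58014 = N56869 := ded_39_2 (flp_d L759481) (flp_i L759275) L770946
theorem L770956 : sm ge N56844 = N58015 := rfl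
theorem L770958 : sm gb N58015 = N56848 := ded_21_1 (flp_e L759318) (flp_b L759279) L770956
theorem L770960 : sm gc N58015 = N57006 := ded_28_1 (flp_e L760387) (flp_c L759287) L770956
theorem L770962 : sm gj N58015 = N56853 := ded_42_2 (flp_e L759364) (flp_j L759283) L770956
theorem L770964 : sm gh N58015 = N58015 := ded_43_2 (flp_e L770956) L759289 L770956
theorem L770965 : sm gi N58015 = N56870 := ded_44_2 (flp_e L759487) (flp_i L759285) L770956
theorem L770967 : sm gh N56845 = N58016 := rfl
theorem L770969 : sm gc N58016 = N57089 := ded_32_1 (flp_h L760904) (flp_c L759292) L770967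
theorem L770971 : sm ge N58016 = N58016 := ded_43_1 (flp_h L770967) L759296 L770967
theorem L770972 : sm gf N58016 = N57068 := ded_47_1 (flp_h L760774) (flp_f L759297) L770967
theorem L770974 : sm gj N58016 = N56855 := ded_52_1 (flp_h L759381) (flp_j L759299) L770967
theorem L770976 : sm gi N58016 = N56846 := ded_54_2 (flp_h L759301) (flp_i L745676) L745665 L759290 L770967
theorem L770978 : sm gd N56846 = N58017 := rfl
theorem L770980 : sm gf N58017 = N57069 := ded_35_2 (flp_d L760782) (flp_f L759306) L770978
theorem L770982 : sm gj N58017 = N56856 := ded_37_2 (flp_d L759386) (flp_j L759308) L770978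
theorem L770984 : sm gh N58017 = N56847 := ded_38_2 (flp_d L759310) (flp_h L745687) (flp_d L745680) L759301 L770978
theorem L770986 : sm gc N56847 = N58018 := rfl
theorem L770988 : sm gf N58018 = N57070 := ded_29_2 (flp_c L760786) (flp_f L759312) L770986
theorem L770990 : sm gj N58018 = N56858 := ded_31_2 (flp_c L759398) (flp_j L759314) L770986
theorem L770992 : sm gi N58018 = N56876 := ded_33_2 (flp_c L759539) (flp_i L759316) L770986
theorem L770994 : sm gd N58018 = N56849 := ded_27_2 (flp_c L759325) (flp_d L745708) (flp_c L745689) L759310 L770986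
theorem L770996 : sm ge N56847 = N58019 := rfl
theorem L770998 : sm gj N58019 = N56859 := ded_42_2 (flp_e L759404) (flp_j L759314) L770996
theorem L771000 : sm gi N58019 = N56877 := ded_44_2 (flp_e L759545) (flp_i L759316) L770996
theorem L771002 : sm gd N58019 = N56848 := ded_34_1 (flp_e L759318) (flp_d L745699) (flp_e L745691) L759310 L770996
theorem L771004 : sm gb N56849 = N58020 := rfl
theorem L771006 : sm gf N58020 = N57072 := ded_22_2 (flp_b L760794) (flp_f L759327) L771004
theorem L771008 : sm gj N58020 = N56862 := ded_24_2 (flp_b L759432) (flp_j L759329) L771004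
theorem L771010 : sm gh N58020 = N57100 := ded_25_2 (flp_b L760975) (flp_h L759331) L771004
theorem L771012 : sm gi N58020 = N56880 := ded_26_2 (flp_b L759569) (flp_i L759333) L771004
theorem L771014 : sm gc N58020 = N57080 := ded_19_2 (flp_b L760849) (flp_c L747567) (flp_b L745710) L759325 L771004
theorem L771016 : sm gd N56850 = N58021 := rfl
theorem L771018 : sm gb N58021 = N56856 := ded_20_1 (flp_d L759386) (flp_b L759337) L771016
theorem L771020 : sm gh N58021 = N56852 := ded_38_2 (flp_d L759358) (flp_h L745743) (flp_d L745724) L759335 L771016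
theorem L771022 : sm gd N56851 = N58022 := rfl
theorem L771024 : sm ga N58022 = N57128 := ded_12_1 (flp_d L761158) (flp_a L759342) L771022
theorem L771026 : sm gb N58022 = N56857 := ded_20_1 (flp_d L759390) (flp_b L759344) L771022
theorem L771028 : sm gf N58022 = N56852 := ded_35_2 (flp_d L759358) (flp_f L759350) L771022
theorem L771030 : sm gg N58022 = N57126 := ded_36_2 (flp_d L761148) (flp_g L759352) L771022
theorem L771032 : sm gj N58022 = N57065 := ded_37_2 (flp_d L760758) (flp_j L759354) L771022
theorem L771034 : sm gi N58022 = N56887 := ded_39_2 (flp_d L759632) (flp_i L759356) L771022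
theorem L771036 : sm gc N56852 = N58023 := rfl
theorem L771038 : sm gi N58023 = N56888 := ded_33_2 (flp_c L759638) (flp_i L759362) L771036
theorem L771040 : sm gd N58023 = N57086 := ded_27_2 (flp_c L760888) (flp_d L747612) (flp_c L745747) L759358 L771036
theorem L771042 : sm ge N56852 = N58024 := rfl
theorem L771044 : sm gb N58024 = N56859 := ded_21_1 (flp_e L759404) (flp_b L759360) L771042
theorem L771046 : sm gi N58024 = N56889 := ded_44_2 (flp_e L759642) (flp_i L759362) L771042
theorem L771048 : sm gd N58024 = N56853 := ded_34_1 (flp_e L759364) (flp_d L745753) (flp_e L745749) L759358 L771042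
theorem L771050 : sm gd N56854 = N58025 := rfl
theorem L771052 : sm gf N58025 = N56856 := ded_35_2 (flp_d L759386) (flp_f L759377) L771050
theorem L771054 : sm gj N58025 = N57069 := ded_37_2 (flp_d L760782) (flp_j L759379) L771050
theorem L771056 : sm gh N58025 = N56857 := ded_38_2 (flp_d L759390) (flp_h L745782) (flp_d L745766) L759371 L771050
theorem L771058 : sm gd N56855 = N58026 := rfl
theorem L771060 : sm gi N58026 = N56856 := ded_39_2 (flp_d L759386) (flp_i L759384) L771058
theorem L771062 : sm gh N58026 = N56893 := ded_38_2 (flp_d L759672) (flp_h L746102) (flp_d L745776) L759381 L771058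
theorem L771064 : sm gc N56856 = N58027 := rfl
theorem L771066 : sm gh N58027 = N56858 := ded_32_2 (flp_c L759398) (flp_h L759388) L771064
theorem L771068 : sm ge N56856 = N58028 := rfl
theorem L771070 : sm gh N58028 = N56859 := ded_43_2 (flp_e L759404) (flp_h L759388) L771068
theorem L771072 : sm gd N58028 = N58028 := ded_34_1 (flp_e L771068) (flp_d L759386) L745781 L759386 L771068
theorem L771073 : sm gc N56857 = N58029 := rfl
theorem L771075 : sm gf N58029 = N56858 := ded_29_2 (flp_c L759398) (flp_f L759392) L771073
theorem L771077 : sm gj N58029 = N57070 := ded_31_2 (flp_c L760786) (flp_j L759394) L771073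
theorem L771079 : sm gi N58029 = N56898 := ded_33_2 (flp_c L759698) (flp_i L759396) L771073
theorem L771081 : sm gd N58029 = N56861 := ded_27_2 (flp_c L759422) (flp_d L745815) (flp_c L745784) L759390 L771073
theorem L771083 : sm gb N56858 = N58030 := rfl
theorem L771085 : sm gd N58030 = N56862 := ded_20_2 (flp_b L759432) (flp_d L759402) L771083
theorem L771087 : sm gi N58030 = N56900 := ded_26_2 (flp_b L759708) (flp_i L759400) L771083
theorem L771089 : sm ge N56858 = N58031 := rfl
theorem L771091 : sm gc N58031 = N56859 := ded_28_1 (flp_e L759404) L759398 L771089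
theorem L771093 : sm gi N58031 = N56901 := ded_44_2 (flp_e L759712) (flp_i L759400) L771089
theorem L771095 : sm gc N56860 = N58032 := rfl
theorem L771097 : sm ga N58032 = N57033 := ded_11_1 (flp_c L760577) (flp_a L759412) L771095
theorem L771099 : sm gg N58032 = N56861 := ded_30_2 (flp_c L759422) (flp_g L759416) L771095
theorem L771101 : sm gh N58032 = N57076 := ded_32_2 (flp_c L760819) (flp_h L759420) L771095
theorem L771103 : sm gi N58032 = N56904 := ded_33_2 (flp_c L759726) (flp_i L759418) L771095
theorem L771105 : sm gb N56861 = N58033 := rfl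
theorem L771107 : sm gf N58033 = N56862 := ded_22_2 (flp_b L759432) (flp_f L759424) L771105
theorem L771109 : sm gj N58033 = N57072 := ded_24_2 (flp_b L760794) (flp_j L759426) L771105
theorem L771111 : sm gh N58033 = N57080 := ded_25_2 (flp_b L760849) (flp_h L759428) L771105
theorem L771113 : sm gi N58033 = N56905 := ded_26_2 (flp_b L759730) (flp_i L759430) L771105
theorem L771115 : sm gc N58033 = N57100 := ded_19_2 (flp_b L760975) (flp_c L747698) (flp_b L745817) L759422 L771105
theorem L771117 : sm ga N56862 = N58034 := rfl
theorem L771119 : sm gc N58034 = N57101 := ded_11_2 (flp_a L760981) (flp_c L759436) L771117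
theorem L771121 : sm gi N58034 = N56906 := ded_18_2 (flp_a L759736) (flp_i L759434) L771117
theorem L771123 : sm gd N56863 = N58035 := rfl
theorem L771125 : sm gf N58035 = N56864 := ded_35_2 (flp_d L759445) (flp_f L759443) L771123
theorem L771127 : sm gc N56864 = N58036 := rfl
theorem L771129 : sm gg N58036 = N56876 := ded_30_2 (flp_c L759539) (flp_g L759447) L771127
theorem L771131 : sm gd N58036 = N56867 := ded_27_2 (flp_c L759463) (flp_d L745890) (flp_c L745868) L759445 L771127
theorem L771133 : sm ge N56864 = N58037 := rfl
theorem L771135 : sm gg N58037 = N56877 := ded_41_2 (flp_e L759545) (flp_g L759447) L771133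
theorem L771137 : sm gd N58037 = N56865 := ded_34_1 (flp_e L759449) (flp_d L745874) (flp_e L745870) L759445 L771133
theorem L771139 : sm gf N56865 = N58038 := rfl
theorem L771141 : sm gc N58038 = N56924 := ded_29_1 (flp_f L759871) (flp_c L759451) L771139
theorem L771143 : sm gh N58038 = N56916 := ded_47_2 (flp_f L759819) (flp_h L759455) L771139
theorem L771145 : sm ge N58038 = N58038 := ded_40_1 (flp_f L771139) (flp_e L759449) L745876 L759449 L771139
theorem L771146 : sm gc N56866 = N58039 := rfl
theorem L771148 : sm gf N58039 = N56867 := ded_29_2 (flp_c L759463) (flp_f L759461) L771146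
theorem L771150 : sm ge N56866 = N58040 := rfl
theorem L771152 : sm gb N58040 = N57111 := ded_21_1 (flp_e L761049) (flp_b L759459) L771150
theorem L771154 : sm gd N58040 = N58040 := ded_34_1 (flp_e L771150) (flp_d L759457) L745887 L759457 L771150
theorem L771155 : sm gb N56867 = N58041 := rfl
theorem L771157 : sm gg N58041 = N56880 := ded_23_2 (flp_b L759569) (flp_g L759465) L771155
theorem L771159 : sm gc N58041 = N57112 := ded_19_2 (flp_b L761052) (flp_c L747794) (flp_b L745892) L759463 L771155
theorem L771161 : sm gd N56868 = N58042 := rfl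
theorem L771163 : sm gb N58042 = N56875 := ded_20_1 (flp_d L759531) (flp_b L759469) L771161
theorem L771165 : sm gf N58042 = N56869 := ded_35_2 (flp_d L759481) (flp_f L759475) L771161
theorem L771167 : sm gj N58042 = N56887 := ded_37_2 (flp_d L759632) (flp_j L759477) L771161
theorem L771169 : sm gi N58042 = N57065 := ded_39_2 (flp_d L760758) (flp_i L759479) L771161
theorem L771171 : sm gc N56869 = N58043 := rfl
theorem L771173 : sm gj N58043 = N56888 := ded_31_2 (flp_c L759638) (flp_j L759485) L771171
theorem L771175 : sm gd N58043 = N57114 := ded_27_2 (flp_c L761066) (flp_d L747808) (flp_c L745912) L759481 L771171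
theorem L771177 : sm ge N56869 = N58044 := rfl
theorem L771179 : sm gb N58044 = N56877 := ded_21_1 (flp_e L759545) (flp_b L759483) L771177
theorem L771181 : sm gj N58044 = N56889 := ded_42_2 (flp_e L759642) (flp_j L759485) L771177
theorem L771183 : sm gd N58044 = N56870 := ded_34_1 (flp_e L759487) (flp_d L745918) (flp_e L745914) L759481 L771177
theorem L771185 : sm gh N56871 = N58045 := rfl
theorem L771187 : sm gc N58045 = N56969 := ded_32_1 (flp_h L760180) (flp_c L759499) L771185
theorem L771189 : sm ge N58045 = N58045 := ded_43_1 (flp_h L771185) L759503 L771185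
theorem L771190 : sm gf N58045 = N56873 := ded_47_1 (flp_h L759517) (flp_f L759504) L771185
theorem L771192 : sm gj N58045 = N56891 := ded_52_1 (flp_h L759659) (flp_j L759506) L771185
theorem L771194 : sm gi N58045 = N56872 := ded_54_2 (flp_h L759508) (flp_i L745941) L745930 L759497 L771185
theorem L771196 : sm gd N56872 = N58046 := rfl
theorem L771198 : sm gf N58046 = N56874 := ded_35_2 (flp_d L759525) (flp_f L759513) L771196
theorem L771200 : sm gj N58046 = N56892 := ded_37_2 (flp_d L759666) (flp_j L759515) L771196
theorem L771202 : sm gh N58046 = N56875 := ded_38_2 (flp_d L759531) (flp_h L745964) (flp_d L745945) L759508 L771196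
theorem L771204 : sm gd N56873 = N58047 := rfl
theorem L771206 : sm gj N58047 = N56893 := ded_37_2 (flp_d L759672) (flp_j L759521) L771204
theorem L771208 : sm gi N58047 = N56874 := ded_39_2 (flp_d L759525) (flp_i L759523) L771204
theorem L771210 : sm gc N56874 = N58048 := rfl
theorem L771212 : sm gj N58048 = N56894 := ded_31_2 (flp_c L759676) (flp_j L759527) L771210
theorem L771214 : sm gh N58048 = N56876 := ded_32_2 (flp_c L759539) (flp_h L759529) L771210
theorem L771216 : sm ge N56874 = N58049 := rfl
theorem L771218 : sm gj N58049 = N56895 := ded_42_2 (flp_e L759680) (flp_j L759527) L771216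
theorem L771220 : sm gh N58049 = N56877 := ded_43_2 (flp_e L759545) (flp_h L759529) L771216
theorem L771222 : sm gd N58049 = N56918 := ded_34_1 (flp_e L759833) (flp_d L746341) (flp_e L745960) L759525 L771216
theorem L771224 : sm gc N56875 = N58050 := rfl
theorem L771226 : sm gf N58050 = N56876 := ded_29_2 (flp_c L759539) (flp_f L759533) L771224
theorem L771228 : sm gj N58050 = N56898 := ded_31_2 (flp_c L759698) (flp_j L759535) L771224
theorem L771230 : sm gi N58050 = N57070 := ded_33_2 (flp_c L760786) (flp_i L759537) L771224
theorem L771232 : sm gd N58050 = N56879 := ded_27_2 (flp_c L759559) (flp_d L745986) (flp_c L745966) L759531 L771224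
theorem L771234 : sm ge N56875 = N58051 := rfl
theorem L771236 : sm gj N58051 = N56899 := ded_42_2 (flp_e L759704) (flp_j L759535) L771234
theorem L771238 : sm gi N58051 = N57071 := ded_44_2 (flp_e L760790) (flp_i L759537) L771234
theorem L771240 : sm gd N58051 = N56910 := ded_34_1 (flp_e L759777) (flp_d L746218) (flp_e L745968) L759531 L771234
theorem L771242 : sm gb N56876 = N58052 := rfl
theorem L771244 : sm gd N58052 = N56880 := ded_20_2 (flp_b L759569) (flp_d L759543) L771242
theorem L771246 : sm gj N58052 = N56900 := ded_24_2 (flp_b L759708) (flp_j L759541) L771242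
theorem L771248 : sm ge N56876 = N58053 := rfl
theorem L771250 : sm gc N58053 = N56877 := ded_28_1 (flp_e L759545) L759539 L771248
theorem L771252 : sm gj N58053 = N56901 := ded_42_2 (flp_e L759712) (flp_j L759541) L771248
theorem L771254 : sm gf N56877 = N58054 := rfl
theorem L771256 : sm gd N58054 = N56878 := ded_35_1 (flp_f L759551) (flp_d L759549) L771254
theorem L771258 : sm gj N58054 = N56902 := ded_46_2 (flp_f L759716) (flp_j L759547) L771254
theorem L771260 : sm gg N56878 = N58055 := rfl
theorem L771262 : sm ge N58055 = N56911 := ded_41_1 (flp_g L759784) (flp_e L759557) L771260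
theorem L771264 : sm gh N58055 = N56920 := ded_50_2 (flp_g L759847) (flp_h L759555) L771260
theorem L771266 : sm gb N56879 = N58056 := rfl
theorem L771268 : sm gf N58056 = N56880 := ded_22_2 (flp_b L759569) (flp_f L759561) L771266
theorem L771270 : sm gj N58056 = N56905 := ded_24_2 (flp_b L759730) (flp_j L759563) L771266
theorem L771272 : sm gh N58056 = N56974 := ded_25_2 (flp_b L760208) (flp_h L759565) L771266
theorem L771274 : sm gi N58056 = N57072 := ded_26_2 (flp_b L760794) (flp_i L759567) L771266
theorem L771276 : sm gc N58056 = N57124 := ded_19_2 (flp_b L761138) (flp_c L747872) (flp_b L745988) L759559 L771266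
theorem L771278 : sm ga N56880 = N58057 := rfl
theorem L771280 : sm gc N58057 = N57125 := ded_11_2 (flp_a L761144) (flp_c L759573) L771278
theorem L771282 : sm gj N58057 = N56906 := ded_16_2 (flp_a L759736) (flp_j L759571) L771278
theorem L771284 : sm gd N56881 = N58058 := rfl
theorem L771286 : sm ga N58058 = N56887 := ded_12_1 (flp_d L759632) (flp_a L759577) L771284
theorem L771288 : sm gb N58058 = N57094 := ded_20_1 (flp_d L760937) (flp_b L759579) L771284
theorem L771290 : sm gf N58058 = N56882 := ded_35_2 (flp_d L759591) (flp_f L759585) L771284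
theorem L771292 : sm gg N58058 = N57085 := ded_36_2 (flp_d L760880) (flp_g L759587) L771284
theorem L771294 : sm gi N58058 = N57128 := ded_39_2 (flp_d L761158) (flp_i L759589) L771284
theorem L771296 : sm gc N56882 = N58059 := rfl
theorem L771298 : sm ga N58059 = N56888 := ded_11_1 (flp_c L759638) (flp_a L759593) L771296
theorem L771300 : sm gd N58059 = N57127 := ded_27_2 (flp_c L761154) (flp_d L747890) (flp_c L746020) L759591 L771296
theorem L771302 : sm gd N56883 = N58060 := rfl
theorem L771304 : sm gb N58060 = N56892 := ded_20_1 (flp_d L759666) (flp_b L759597) L771302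
theorem L771306 : sm gf N58060 = N56885 := ded_35_2 (flp_d L759610) (flp_f L759600) L771302
theorem L771308 : sm gh N58060 = N56887 := ded_38_2 (flp_d L759632) (flp_h L746059) (flp_d L746028) L759595 L771302
theorem L771310 : sm gd N56884 = N58061 := rfl
theorem L771312 : sm gb N58061 = N56893 := ded_20_1 (flp_d L759672) (flp_b L759604) L771310
theorem L771314 : sm gi N58061 = N56885 := ded_39_2 (flp_d L759610) (flp_i L759608) L771310
theorem L771316 : sm gc N56885 = N58062 := rfl
theorem L771318 : sm gh N58062 = N56888 := ded_32_2 (flp_c L759638) (flp_h L759614) L771316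
theorem L771320 : sm ge N56885 = N58063 := rfl
theorem L771322 : sm gb N58063 = N56895 := ded_21_1 (flp_e L759680) (flp_b L759612) L771320
theorem L771324 : sm gh N58063 = N56889 := ded_43_2 (flp_e L759642) (flp_h L759614) L771320
theorem L771326 : sm gd N58063 = N56922 := ded_34_1 (flp_e L759860) (flp_d L746369) (flp_e L746043) L759610 L771320
theorem L771328 : sm gd N56886 = N58064 := rfl
theorem L771330 : sm ga N58064 = N57085 := ded_12_1 (flp_d L760880) (flp_a L759618) L771328
theorem L771332 : sm gb N58064 = N56897 := ded_20_1 (flp_d L759694) (flp_b L759620) L771328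
theorem L771334 : sm gf N58064 = N57081 := ded_35_2 (flp_d L760855) (flp_f L759626) L771328
theorem L771336 : sm gg N58064 = N56887 := ded_36_2 (flp_d L759632) (flp_g L759628) L771328
theorem L771338 : sm gi N58064 = N57126 := ded_39_2 (flp_d L761148) (flp_i L759630) L771328
theorem L771340 : sm gc N56887 = N58065 := rfl
theorem L771342 : sm gf N58065 = N56888 := ded_29_2 (flp_c L759638) (flp_f L759636) L771340
theorem L771344 : sm gd N58065 = N57129 := ded_27_2 (flp_c L761164) (flp_d L747912) (flp_c L746063) L759632 L771340
theorem L771346 : sm ge N56887 = N58066 := rfl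
theorem L771348 : sm gb N58066 = N56899 := ded_21_1 (flp_e L759704) (flp_b L759634) L771346
theorem L771350 : sm gd N58066 = N56913 := ded_34_1 (flp_e L759802) (flp_d L746272) (flp_e L746065) L759632 L771346
theorem L771352 : sm gb N56888 = N58067 := rfl
theorem L771354 : sm gd N58067 = N57131 := ded_20_2 (flp_b L761174) (flp_d L759640) L771352
theorem L771356 : sm gc N58067 = N56900 := ded_19_2 (flp_b L759708) (flp_c L746132) (flp_b L746071) L759638 L771352
theorem L771358 : sm ge N56888 = N58068 := rfl
theorem L771360 : sm gc N58068 = N56889 := ded_28_1 (flp_e L759642) L759638 L771358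
theorem L771362 : sm gd N56890 = N58069 := rfl
theorem L771364 : sm ga N58069 = N57107 := ded_12_1 (flp_d L761029) (flp_a L759650) L771362
theorem L771366 : sm gf N58069 = N57049 := ded_35_2 (flp_d L760660) (flp_f L759655) L771362
theorem L771368 : sm gg N58069 = N56892 := ded_36_2 (flp_d L759666) (flp_g L759657) L771362
theorem L771370 : sm gh N58069 = N56897 := ded_38_2 (flp_d L759694) (flp_h L746120) (flp_d L746085) L759648 L771362
theorem L771372 : sm gd N56891 = N58070 := rfl
theorem L771374 : sm gf N58070 = N56893 := ded_35_2 (flp_d L759672) (flp_f L759662) L771372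
theorem L771376 : sm gi N58070 = N56892 := ded_39_2 (flp_d L759666) (flp_i L759664) L771372
theorem L771378 : sm gc N56892 = N58071 := rfl
theorem L771380 : sm gf N58071 = N56894 := ded_29_2 (flp_c L759676) (flp_f L759668) L771378
theorem L771382 : sm gh N58071 = N56898 := ded_32_2 (flp_c L759698) (flp_h L759670) L771378
theorem L771384 : sm ge N56892 = N58072 := rfl
theorem L771386 : sm gh N58072 = N56899 := ded_43_2 (flp_e L759704) (flp_h L759670) L771384
theorem L771388 : sm gd N58072 = N58072 := ded_34_1 (flp_e L771384) (flp_d L759666) L746099 L759666 L771384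
theorem L771389 : sm gc N56893 = N58073 := rfl
theorem L771391 : sm gi N58073 = N56894 := ded_33_2 (flp_c L759676) (flp_i L759674) L771389
theorem L771393 : sm ge N56893 = N58074 := rfl
theorem L771395 : sm gi N58074 = N56895 := ded_44_2 (flp_e L759680) (flp_i L759674) L771393
theorem L771397 : sm gd N58074 = N56923 := ded_34_1 (flp_e L759866) (flp_d L746383) (flp_e L746104) L759672 L771393
theorem L771399 : sm gb N56894 = N58075 := rfl
theorem L771401 : sm gh N58075 = N56900 := ded_25_2 (flp_b L759708) (flp_h L759678) L771399
theorem L771403 : sm ge N56894 = N58076 := rfl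
theorem L771405 : sm gc N58076 = N56895 := ded_28_1 (flp_e L759680) L759676 L771403
theorem L771407 : sm gh N58076 = N56901 := ded_43_2 (flp_e L759712) (flp_h L759678) L771403
theorem L771409 : sm gf N56895 = N58077 := rfl
theorem L771411 : sm gd N58077 = N56924 := ded_35_1 (flp_f L759871) (flp_d L759684) L771409
theorem L771413 : sm gh N58077 = N56902 := ded_47_2 (flp_f L759716) (flp_h L759682) L771409
theorem L771415 : sm gd N56896 = N58078 := rfl
theorem L771417 : sm gj N58078 = N56897 := ded_37_2 (flp_d L759694) (flp_j L759692) L771415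
theorem L771419 : sm gc N56897 = N58079 := rfl
theorem L771421 : sm gg N58079 = N56898 := ded_30_2 (flp_c L759698) (flp_g L759696) L771419
theorem L771423 : sm gd N58079 = N56904 := ded_27_2 (flp_c L759726) (flp_d L746154) (flp_c L746122) L759694 L771419
theorem L771425 : sm ge N56897 = N58080 := rfl
theorem L771427 : sm gg N58080 = N56899 := ded_41_2 (flp_e L759704) (flp_g L759696) L771425
theorem L771429 : sm gd N58080 = N56915 := ded_34_1 (flp_e L759814) (flp_d L746287) (flp_e L746124) L759694 L771425
theorem L771431 : sm gb N56898 = N58081 := rfl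
theorem L771433 : sm gd N58081 = N56905 := ded_20_2 (flp_b L759730) (flp_d L759702) L771431
theorem L771435 : sm gf N58081 = N56900 := ded_22_2 (flp_b L759708) (flp_f L759700) L771431
theorem L771437 : sm ge N56898 = N58082 := rfl
theorem L771439 : sm gc N58082 = N56899 := ded_28_1 (flp_e L759704) L759698 L771437
theorem L771441 : sm ga N56900 = N58083 := rfl
theorem L771443 : sm gd N58083 = N56906 := ded_12_2 (flp_a L759736) (flp_d L759710) L771441
theorem L771445 : sm ge N56900 = N58084 := rfl
theorem L771447 : sm gb N58084 = N56901 := ded_21_1 (flp_e L759712) L759708 L771445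
theorem L771449 : sm gf N56901 = N58085 := rfl
theorem L771451 : sm gc N58085 = N56902 := ded_29_1 (flp_f L759716) (flp_c L759714) L771449
theorem L771453 : sm gc N56903 = N58086 := rfl
theorem L771455 : sm gj N58086 = N56904 := ded_31_2 (flp_c L759726) (flp_j L759724) L771453
theorem L771457 : sm gb N56904 = N58087 := rfl
theorem L771459 : sm gg N58087 = N56905 := ded_23_2 (flp_b L759730) (flp_g L759728) L771457
theorem L771461 : sm gc N58087 = N57149 := ded_19_2 (flp_b L761266) (flp_c L747992) (flp_b L746156) L759726 L771457
theorem L771463 : sm ga N56905 = N58088 := rfl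
theorem L771465 : sm gc N58088 = N57150 := ded_11_2 (flp_a L761270) (flp_c L759734) L771463
theorem L771467 : sm gf N58088 = N56906 := ded_14_2 (flp_a L759736) (flp_f L759732) L771463
theorem L771469 : sm gd N56907 = N58089 := rfl
theorem L771471 : sm ga N58089 = N56909 := ded_12_1 (flp_d L759766) (flp_a L759742) L771469
theorem L771473 : sm gb N58089 = N57105 := ded_20_1 (flp_d L761011) (flp_b L759744) L771469
theorem L771475 : sm gf N58089 = N56908 := ded_35_2 (flp_d L759754) (flp_f L759748) L771469
theorem L771477 : sm gj N58089 = N56912 := ded_37_2 (flp_d L759789) (flp_j L759750) L771469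
theorem L771479 : sm gi N58089 = N57063 := ded_39_2 (flp_d L760740) (flp_i L759752) L771469
theorem L771481 : sm gh N58089 = N58089 := ded_38_2 (flp_d L771469) (flp_h L759740) L746176 L759740 L771469
theorem L771482 : sm ge N56909 = N58090 := rfl
theorem L771484 : sm gb N58090 = N56910 := ded_21_1 (flp_e L759777) (flp_b L759768) L771482
theorem L771486 : sm gj N58090 = N56913 := ded_42_2 (flp_e L759802) (flp_j L759772) L771482
theorem L771488 : sm gh N58090 = N58090 := ded_43_2 (flp_e L771482) L759776 L771482
theorem L771489 : sm gi N58090 = N57067 := ded_44_2 (flp_e L760768) (flp_i L759774) L771482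
theorem L771491 : sm ge N56912 = N58091 := rfl
theorem L771493 : sm ga N58091 = N56913 := ded_13_1 (flp_e L759802) (flp_a L759791) L771491
theorem L771495 : sm gb N58091 = N57106 := ded_21_1 (flp_e L761022) (flp_b L759793) L771491
theorem L771497 : sm gg N58091 = N57104 := ded_41_2 (flp_e L761004) (flp_g L759797) L771491
theorem L771499 : sm gh N58091 = N58091 := ded_43_2 (flp_e L771491) L759801 L771491
theorem L771500 : sm gi N58091 = N57155 := ded_44_2 (flp_e L761311) (flp_i L759799) L771491
theorem L771502 : sm ge N56914 = N58092 := rfl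
theorem L771504 : sm gj N58092 = N56915 := ded_42_2 (flp_e L759814) (flp_j L759811) L771502
theorem L771506 : sm gh N58092 = N58092 := ded_43_2 (flp_e L771502) L759813 L771502
theorem L771507 : sm ge N56917 = N58093 := rfl
theorem L771509 : sm gj N58093 = N56923 := ded_42_2 (flp_e L759866) (flp_j L759828) L771507
theorem L771511 : sm gh N58093 = N58093 := ded_43_2 (flp_e L771507) L759832 L771507
theorem L771512 : sm gi N58093 = N56918 := ded_44_2 (flp_e L759833) (flp_i L759830) L771507
theorem L771514 : sm gf N56918 = N58094 := rfl
theorem L771516 : sm gj N58094 = N56924 := ded_46_2 (flp_f L759871) (flp_j L759835) L771514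
theorem L771518 : sm gh N58094 = N56919 := ded_47_2 (flp_f L759839) (flp_h L759837) L771514
theorem L771520 : sm ge N58094 = N58094 := ded_40_1 (flp_f L771514) (flp_e L759833) L746343 L759833 L771514
theorem L771521 : sm gg N56919 = N58095 := rfl
theorem L771523 : sm gd N58095 = N56920 := ded_36_1 (flp_g L759847) (flp_d L759841) L771521
theorem L771525 : sm ge N58095 = N58095 := ded_41_1 (flp_g L771521) L759846 L771521
theorem L771526 : sm gi N58095 = N58095 := ded_51_2 (flp_g L771521) L759845 L771521
theorem L771527 : sm ge N56921 = N58096 := rfl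
theorem L771529 : sm gb N58096 = N56923 := ded_21_1 (flp_e L759866) (flp_b L759854) L771527
theorem L771531 : sm gh N58096 = N58096 := ded_43_2 (flp_e L771527) L759859 L771527
theorem L771532 : sm gi N58096 = N56922 := ded_44_2 (flp_e L759860) (flp_i L759857) L771527
theorem L771534 : sm gf N56923 = N58097 := rfl
theorem L771536 : sm gh N58097 = N58097 := ded_47_2 (flp_f L771534) L759868 L771534
theorem L771537 : sm gi N58097 = N56924 := ded_48_2 (flp_f L759871) (flp_i L759869) L771534
theorem L771539 : sm ge N58097 = N58097 := ded_40_1 (flp_f L771534) (flp_e L759866) L746385 L759866 L771534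
theorem L771540 : sm gc N56925 = N58098 := rfl
theorem L771542 : sm ga N58098 = N56937 := ded_11_1 (flp_c L759975) (flp_a L759878) L771540
theorem L771544 : sm ge N58098 = N56960 := ded_28_2 (flp_c L760121) (flp_e L759888) L771540
theorem L771546 : sm gf N58098 = N56939 := ded_29_2 (flp_c L759988) (flp_f L759882) L771540
theorem L771548 : sm gj N58098 = N56948 := ded_31_2 (flp_c L760046) (flp_j L759884) L771540
theorem L771550 : sm gh N58098 = N57028 := ded_32_2 (flp_c L760536) (flp_h L759890) L771540
theorem L771552 : sm gi N58098 = N56929 := ded_33_2 (flp_c L759920) (flp_i L759886) L771540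
theorem L771554 : sm gc N56926 = N58099 := rfl
theorem L771556 : sm ga N58099 = N56939 := ded_11_1 (flp_c L759988) (flp_a L759894) L771554
theorem L771558 : sm ge N58099 = N56962 := ded_28_2 (flp_c L760135) (flp_e L759904) L771554
theorem L771560 : sm gf N58099 = N56937 := ded_29_2 (flp_c L759975) (flp_f L759898) L771554
theorem L771562 : sm gj N58099 = N56929 := ded_31_2 (flp_c L759920) (flp_j L759900) L771554
theorem L771564 : sm gh N58099 = N57009 := ded_32_2 (flp_c L760407) (flp_h L759906) L771554
theorem L771566 : sm gi N58099 = N56948 := ded_33_2 (flp_c L760046) (flp_i L759902) L771554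
theorem L771568 : sm gc N56927 = N58100 := rfl
theorem L771570 : sm ga N58100 = N56945 := ded_11_1 (flp_c L760030) (flp_a L759910) L771568
theorem L771572 : sm gd N58100 = N56929 := ded_27_2 (flp_c L759920) (flp_d L746484) (flp_c L746470) L759908 L771568
theorem L771574 : sm ge N56927 = N58101 := rfl
theorem L771576 : sm ga N58101 = N56946 := ded_13_1 (flp_e L760034) (flp_a L759910) L771574
theorem L771578 : sm gd N58101 = N56928 := ded_34_1 (flp_e L759912) (flp_d L746474) (flp_e L746472) L759908 L771574
theorem L771580 : sm gf N56928 = N58102 := rfl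
theorem L771582 : sm ga N58102 = N56947 := ded_14_1 (flp_f L760038) (flp_a L759914) L771580
theorem L771584 : sm gc N58102 = N56965 := ded_29_1 (flp_f L760155) (flp_c L759916) L771580
theorem L771586 : sm gh N58102 = N56932 := ded_47_2 (flp_f L759945) (flp_h L759918) L771580
theorem L771588 : sm ge N58102 = N56930 := ded_40_1 (flp_f L759928) (flp_e L746492) (flp_f L746478) L759912 L771580
theorem L771590 : sm gb N56929 = N58103 := rfl
theorem L771592 : sm ge N58103 = N56966 := ded_21_2 (flp_b L760163) (flp_e L759924) L771590
theorem L771594 : sm gh N58103 = N57010 := ded_25_2 (flp_b L760415) (flp_h L759926) L771590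
theorem L771596 : sm gh N56933 = N58104 := rfl
theorem L771598 : sm ge N58104 = N58104 := ded_43_1 (flp_h L771596) L759958 L771596
theorem L771599 : sm gg N58104 = N57023 := ded_50_1 (flp_h L760503) (flp_g L759959) L771596
theorem L771601 : sm gi N58104 = N56934 := ded_54_2 (flp_h L759961) (flp_i L746535) L746528 L759954 L771596
theorem L771603 : sm gd N56934 = N58105 := rfl
theorem L771605 : sm gh N58105 = N56935 := ded_38_2 (flp_d L759964) (flp_h L746540) (flp_d L746537) L759961 L771603
theorem L771607 : sm gc N56935 = N58106 := rfl
theorem L771609 : sm gi N58106 = N56945 := ded_33_2 (flp_c L760030) (flp_i L759966) L771607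
theorem L771611 : sm gd N58106 = N56937 := ded_27_2 (flp_c L759975) (flp_d L746557) (flp_c L746542) L759964 L771607
theorem L771613 : sm ge N56935 = N58107 := rfl
theorem L771615 : sm gi N58107 = N56946 := ded_44_2 (flp_e L760034) (flp_i L759966) L771613
theorem L771617 : sm gd N58107 = N56936 := ded_34_1 (flp_e L759968) (flp_d L746548) (flp_e L746544) L759964 L771613
theorem L771619 : sm gf N56936 = N58108 := rfl
theorem L771621 : sm gc N58108 = N56973 := ded_29_1 (flp_f L760201) (flp_c L759970) L771619
theorem L771623 : sm gh N58108 = N58108 := ded_47_2 (flp_f L771619) L759972 L771619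
theorem L771624 : sm gi N58108 = N56947 := ded_48_2 (flp_f L760038) (flp_i L759973) L771619
theorem L771626 : sm ge N58108 = N56938 := ded_40_1 (flp_f L759981) (flp_e L746563) (flp_f L746550) L759968 L771619
theorem L771628 : sm gb N56937 = N58109 := rfl
theorem L771630 : sm ge N58109 = N56974 := ded_21_2 (flp_b L760208) (flp_e L759977) L771628
theorem L771632 : sm gi N58109 = N56949 := ded_26_2 (flp_b L760052) (flp_i L759979) L771628
theorem L771634 : sm gb N56939 = N58110 := rfl
theorem L771636 : sm ge N58110 = N56984 := ded_21_2 (flp_b L760269) (flp_e L759990) L771634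
theorem L771638 : sm gj N58110 = N56949 := ded_24_2 (flp_b L760052) (flp_j L759992) L771634
theorem L771640 : sm gh N58110 = N57029 := ded_25_2 (flp_b L760542) (flp_h L759994) L771634
theorem L771642 : sm gh N56940 = N58111 := rfl
theorem L771644 : sm gc N58111 = N57018 := ded_32_1 (flp_h L760464) (flp_c L759998) L771642
theorem L771646 : sm ge N58111 = N58111 := ded_43_1 (flp_h L771642) L760000 L771642
theorem L771647 : sm gf N58111 = N56942 := ded_47_1 (flp_h L760012) (flp_f L760001) L771642
theorem L771649 : sm gg N58111 = N57016 := ded_50_1 (flp_h L760453) (flp_g L760003) L771642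
theorem L771651 : sm gi N58111 = N56941 := ded_54_2 (flp_h L760005) (flp_i L746589) L746580 L759996 L771642
theorem L771653 : sm gd N56941 = N58112 := rfl
theorem L771655 : sm gf N58112 = N56943 := ded_35_2 (flp_d L760022) (flp_f L760010) L771653
theorem L771657 : sm gh N58112 = N56944 := ded_38_2 (flp_d L760026) (flp_h L746612) (flp_d L746593) L760005 L771653
theorem L771659 : sm gd N56942 = N58113 := rfl
theorem L771661 : sm gg N58113 = N57025 := ded_36_2 (flp_d L760516) (flp_g L760018) L771659
theorem L771663 : sm gi N58113 = N56943 := ded_39_2 (flp_d L760022) (flp_i L760020) L771659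
theorem L771665 : sm gc N56943 = N58114 := rfl
theorem L771667 : sm gh N58114 = N56945 := ded_32_2 (flp_c L760030) (flp_h L760024) L771665
theorem L771669 : sm gd N58114 = N57035 := ded_27_2 (flp_c L760585) (flp_d L747277) (flp_c L746608) L760022 L771665
theorem L771671 : sm ge N56943 = N58115 := rfl
theorem L771673 : sm gh N58115 = N56946 := ded_43_2 (flp_e L760034) (flp_h L760024) L771671
theorem L771675 : sm gd N58115 = N56954 := ded_34_1 (flp_e L760082) (flp_d L746675) (flp_e L746610) L760022 L771671
theorem L771677 : sm gc N56944 = N58116 := rfl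
theorem L771679 : sm gf N58116 = N56945 := ded_29_2 (flp_c L760030) (flp_f L760028) L771677
theorem L771681 : sm gd N58116 = N56948 := ded_27_2 (flp_c L760046) (flp_d L746628) (flp_c L746614) L760026 L771677
theorem L771683 : sm ge N56944 = N58117 := rfl
theorem L771685 : sm gd N58117 = N56950 := ded_34_1 (flp_e L760058) (flp_d L746642) (flp_e L746616) L760026 L771683
theorem L771687 : sm gb N56945 = N58118 := rfl
theorem L771689 : sm gd N58118 = N56949 := ded_20_2 (flp_b L760052) (flp_d L760032) L771687
theorem L771691 : sm ge N56945 = N58119 := rfl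
theorem L771693 : sm gc N58119 = N56946 := ded_28_1 (flp_e L760034) L760030 L771691
theorem L771695 : sm gd N58119 = N56999 := ded_34_1 (flp_e L760351) L746959 (flp_e L746638) (flp_d L760032) L771691
theorem L771697 : sm gf N56946 = N58120 := rfl
theorem L771699 : sm gd N58120 = N56947 := ded_35_1 (flp_f L760038) (flp_d L760036) L771697
theorem L771701 : sm gg N56947 = N58121 := rfl
theorem L771703 : sm gc N58121 = N57001 := ded_30_1 (flp_g L760359) (flp_c L760040) L771701
theorem L771705 : sm ge N58121 = N56952 := ded_41_1 (flp_g L760066) (flp_e L760044) L771701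
theorem L771707 : sm gh N58121 = N56956 := ded_50_2 (flp_g L760092) (flp_h L760042) L771701
theorem L771709 : sm gb N56948 = N58122 := rfl
theorem L771711 : sm gf N58122 = N56949 := ded_22_2 (flp_b L760052) (flp_f L760048) L771709
theorem L771713 : sm gh N58122 = N57039 := ded_25_2 (flp_b L760603) (flp_h L760050) L771709
theorem L771715 : sm gc N58122 = N56966 := ded_19_2 (flp_b L760163) (flp_c L746762) (flp_b L746630) L760046 L771709
theorem L771717 : sm ga N56949 = N58123 := rfl
theorem L771719 : sm ge N58123 = N57004 := ded_13_2 (flp_a L760377) (flp_e L760054) L771717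
theorem L771721 : sm gh N58123 = N57040 := ded_17_2 (flp_a L760609) (flp_h L760056) L771717
theorem L771723 : sm gf N56950 = N58124 := rfl
theorem L771725 : sm gh N58124 = N58124 := ded_47_2 (flp_f L771723) L760060 L771723
theorem L771726 : sm ge N58124 = N56951 := ded_40_1 (flp_f L760061) (flp_e L746647) (flp_f L746644) L760058 L771723
theorem L771728 : sm ge N56953 = N58125 := rfl
theorem L771730 : sm gg N58125 = N57042 := ded_41_2 (flp_e L760622) (flp_g L760077) L771728
theorem L771732 : sm gh N58125 = N58125 := ded_43_2 (flp_e L771728) L760081 L771728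
theorem L771733 : sm gi N58125 = N56954 := ded_44_2 (flp_e L760082) (flp_i L760079) L771728
theorem L771735 : sm gf N56954 = N58126 := rfl
theorem L771737 : sm gh N58126 = N56955 := ded_47_2 (flp_f L760086) (flp_h L760084) L771735
theorem L771739 : sm ge N58126 = N58126 := ded_40_1 (flp_f L771735) (flp_e L760082) L746677 L760082 L771735
theorem L771740 : sm gd N56957 = N58127 := rfl
theorem L771742 : sm ga N58127 = N56970 := ded_12_1 (flp_d L760185) (flp_a L760101) L771740
theorem L771744 : sm gf N58127 = N57122 := ded_35_2 (flp_d L761128) (flp_f L760104) L771740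
theorem L771746 : sm gj N58127 = N57109 := ded_37_2 (flp_d L761039) (flp_j L760106) L771740
theorem L771748 : sm gh N58127 = N56958 := ded_38_2 (flp_d L760108) (flp_h L746711) (flp_d L746704) L760099 L771740
theorem L771750 : sm gc N56958 = N58128 := rfl
theorem L771752 : sm ga N58128 = N56971 := ded_11_1 (flp_c L760189) (flp_a L760110) L771750
theorem L771754 : sm gi N58128 = N56963 := ded_33_2 (flp_c L760143) (flp_i L760112) L771750
theorem L771756 : sm gd N58128 = N56960 := ded_27_2 (flp_c L760121) (flp_d L746730) (flp_c L746715) L760108 L771750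
theorem L771758 : sm ge N56958 = N58129 := rfl
theorem L771760 : sm ga N58129 = N56972 := ded_13_1 (flp_e L760195) (flp_a L760110) L771758
theorem L771762 : sm gi N58129 = N56964 := ded_44_2 (flp_e L760149) (flp_i L760112) L771758
theorem L771764 : sm gd N58129 = N56959 := ded_34_1 (flp_e L760114) (flp_d L746721) (flp_e L746717) L760108 L771758
theorem L771766 : sm gb N56960 = N58130 := rfl
theorem L771768 : sm gi N58130 = N56966 := ded_26_2 (flp_b L760163) (flp_i L760125) L771766
theorem L771770 : sm gc N56961 = N58131 := rfl
theorem L771772 : sm ga N58131 = N56979 := ded_11_1 (flp_c L760237) (flp_a L760129) L771770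
theorem L771774 : sm gg N58131 = N56962 := ded_30_2 (flp_c L760135) (flp_g L760131) L771770
theorem L771776 : sm gh N58131 = N57051 := ded_32_2 (flp_c L760672) (flp_h L760133) L771770
theorem L771778 : sm gb N56962 = N58132 := rfl
theorem L771780 : sm gj N58132 = N56966 := ded_24_2 (flp_b L760163) (flp_j L760139) L771778
theorem L771782 : sm gh N58132 = N57054 := ded_25_2 (flp_b L760692) (flp_h L760141) L771778
theorem L771784 : sm gb N56963 = N58133 := rfl
theorem L771786 : sm gd N58133 = N56966 := ded_20_2 (flp_b L760163) (flp_d L760147) L771784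
theorem L771788 : sm ge N56963 = N58134 := rfl
theorem L771790 : sm ga N58134 = N56999 := ded_13_1 (flp_e L760351) (flp_a L760145) L771788
theorem L771792 : sm gc N58134 = N56964 := ded_28_1 (flp_e L760149) L760143 L771788
theorem L771794 : sm gf N56964 = N58135 := rfl
theorem L771796 : sm ga N58135 = N57000 := ded_14_1 (flp_f L760355) (flp_a L760151) L771794
theorem L771798 : sm gd N58135 = N56965 := ded_35_1 (flp_f L760155) (flp_d L760153) L771794
theorem L771800 : sm ga N56966 = N58136 := rfl
theorem L771802 : sm gh N58136 = N57061 := ded_17_2 (flp_a L760726) (flp_h L760165) L771800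
theorem L771804 : sm gb N58136 = N57004 := ded_10_2 (flp_a L760377) (flp_b L746989) (flp_a L746764) L760163 L771800
theorem L771806 : sm gc N56967 = N58137 := rfl
theorem L771808 : sm gi N58137 = N56989 := ded_33_2 (flp_c L760297) (flp_i L760171) L771806
theorem L771810 : sm ge N56967 = N58138 := rfl
theorem L771812 : sm gb N58138 = N56972 := ded_21_1 (flp_e L760195) (flp_b L760169) L771810
theorem L771814 : sm gi N58138 = N56990 := ded_44_2 (flp_e L760299) (flp_i L760171) L771810
theorem L771816 : sm gd N58138 = N56968 := ded_34_1 (flp_e L760173) (flp_d L746789) (flp_e L746785) L760167 L771810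
theorem L771818 : sm gf N56968 = N58139 := rfl
theorem L771820 : sm gb N58139 = N56973 := ded_22_1 (flp_f L760201) (flp_b L760175) L771818
theorem L771822 : sm gh N58139 = N58139 := ded_47_2 (flp_f L771818) L760177 L771818
theorem L771823 : sm gi N58139 = N56991 := ded_48_2 (flp_f L760305) (flp_i L760178) L771818
theorem L771825 : sm ge N58139 = N56975 := ded_40_1 (flp_f L760212) (flp_e L746819) (flp_f L746793) L760173 L771818
theorem L771827 : sm gd N56969 = N58140 := rfl
theorem L771829 : sm gi N58140 = N56970 := ded_39_2 (flp_d L760185) (flp_i L760183) L771827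
theorem L771831 : sm gh N58140 = N56992 := ded_38_2 (flp_d L760313) (flp_h L746933) (flp_d L746800) L760180 L771827
theorem L771833 : sm gc N56970 = N58141 := rfl
theorem L771835 : sm gh N58141 = N56971 := ded_32_2 (flp_c L760189) (flp_h L760187) L771833
theorem L771837 : sm ge N56970 = N58142 := rfl
theorem L771839 : sm gh N58142 = N56972 := ded_43_2 (flp_e L760195) (flp_h L760187) L771837
theorem L771841 : sm gd N58142 = N58142 := ded_34_1 (flp_e L771837) (flp_d L760185) L746805 L760185 L771837
theorem L771842 : sm gb N56971 = N58143 := rfl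
theorem L771844 : sm gd N58143 = N56974 := ded_20_2 (flp_b L760208) (flp_d L760193) L771842
theorem L771846 : sm gi N58143 = N56998 := ded_26_2 (flp_b L760347) (flp_i L760191) L771842
theorem L771848 : sm ge N56971 = N58144 := rfl
theorem L771850 : sm gc N58144 = N56972 := ded_28_1 (flp_e L760195) L760189 L771848
theorem L771852 : sm gi N58144 = N56999 := ded_44_2 (flp_e L760351) (flp_i L760191) L771848
theorem L771854 : sm gf N56972 = N58145 := rfl
theorem L771856 : sm gd N58145 = N56973 := ded_35_1 (flp_f L760201) (flp_d L760199) L771854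
theorem L771858 : sm gi N58145 = N57000 := ded_48_2 (flp_f L760355) (flp_i L760197) L771854
theorem L771860 : sm ga N56974 = N58146 := rfl
theorem L771862 : sm gi N58146 = N57004 := ded_18_2 (flp_a L760377) (flp_i L760210) L771860
theorem L771864 : sm gc N56976 = N58147 := rfl
theorem L771866 : sm gg N58147 = N56982 := ded_30_2 (flp_c L760257) (flp_g L760221) L771864
theorem L771868 : sm gd N58147 = N56979 := ded_27_2 (flp_c L760237) (flp_d L746855) (flp_c L746835) L760219 L771864
theorem L771870 : sm ge N56976 = N58148 := rfl
theorem L771872 : sm gg N58148 = N56983 := ded_41_2 (flp_e L760263) (flp_g L760221) L771870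
theorem L771874 : sm gd N58148 = N56977 := ded_34_1 (flp_e L760223) (flp_d L746841) (flp_e L746837) L760219 L771870
theorem L771876 : sm gc N56978 = N58149 := rfl
theorem L771878 : sm gf N58149 = N56979 := ded_29_2 (flp_c L760237) (flp_f L760233) L771876
theorem L771880 : sm gh N58149 = N57110 := ded_32_2 (flp_c L761045) (flp_h L760235) L771876
theorem L771882 : sm ge N56978 = N58150 := rfl
theorem L771884 : sm gh N58150 = N57111 := ded_43_2 (flp_e L761049) (flp_h L760235) L771882
theorem L771886 : sm gb N56979 = N58151 := rfl
theorem L771888 : sm gg N58151 = N56984 := ded_23_2 (flp_b L760269) (flp_g L760239) L771886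
theorem L771890 : sm gh N58151 = N57112 := ded_25_2 (flp_b L761052) (flp_h L760241) L771886
theorem L771892 : sm gc N56980 = N58152 := rfl
theorem L771894 : sm gj N58152 = N56989 := ded_31_2 (flp_c L760297) (flp_j L760247) L771892
theorem L771896 : sm ge N56980 = N58153 := rfl
theorem L771898 : sm gb N58153 = N56983 := ded_21_1 (flp_e L760263) (flp_b L760245) L771896
theorem L771900 : sm gj N58153 = N56990 := ded_42_2 (flp_e L760299) (flp_j L760247) L771896
theorem L771902 : sm gd N58153 = N56981 := ded_34_1 (flp_e L760249) (flp_d L746869) (flp_e L746865) L760243 L771896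
theorem L771904 : sm gb N56982 = N58154 := rfl
theorem L771906 : sm gd N58154 = N56984 := ded_20_2 (flp_b L760269) (flp_d L760261) L771904
theorem L771908 : sm gj N58154 = N56998 := ded_24_2 (flp_b L760347) (flp_j L760259) L771904
theorem L771910 : sm ge N56982 = N58155 := rfl
theorem L771912 : sm gc N58155 = N56983 := ded_28_1 (flp_e L760263) L760257 L771910
theorem L771914 : sm gj N58155 = N56999 := ded_42_2 (flp_e L760351) (flp_j L760259) L771910
theorem L771916 : sm ga N56984 = N58156 := rfl
theorem L771918 : sm gj N58156 = N57004 := ded_16_2 (flp_a L760377) (flp_j L760271) L771916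
theorem L771920 : sm gh N58156 = N57125 := ded_17_2 (flp_a L761144) (flp_h L760273) L771916
theorem L771922 : sm gc N56985 = N58157 := rfl
theorem L771924 : sm ga N58157 = N56989 := ded_11_1 (flp_c L760297) (flp_a L760277) L771922
theorem L771926 : sm ge N56985 = N58158 := rfl
theorem L771928 : sm ga N58158 = N56990 := ded_13_1 (flp_e L760299) (flp_a L760277) L771926
theorem L771930 : sm gd N58158 = N56986 := ded_34_1 (flp_e L760279) (flp_d L746901) (flp_e L746899) L760275 L771926
theorem L771932 : sm gc N56987 = N58159 := rfl
theorem L771934 : sm gh N58159 = N56989 := ded_32_2 (flp_c L760297) (flp_h L760289) L771932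
theorem L771936 : sm ge N56987 = N58160 := rfl
theorem L771938 : sm gb N58160 = N56994 := ded_21_1 (flp_e L760323) (flp_b L760287) L771936
theorem L771940 : sm gh N58160 = N56990 := ded_43_2 (flp_e L760299) (flp_h L760289) L771936
theorem L771942 : sm gd N58160 = N57005 := ded_34_1 (flp_e L760381) (flp_d L747024) (flp_e L746913) L760285 L771936
theorem L771944 : sm gc N56988 = N58161 := rfl
theorem L771946 : sm gf N58161 = N56989 := ded_29_2 (flp_c L760297) (flp_f L760295) L771944
theorem L771948 : sm gb N56989 = N58162 := rfl
theorem L771950 : sm gc N58162 = N56998 := ded_19_2 (flp_b L760347) (flp_c L746957) (flp_b L746925) L760297 L771948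
theorem L771952 : sm ge N56989 = N58163 := rfl
theorem L771954 : sm gc N58163 = N56990 := ded_28_1 (flp_e L760299) L760297 L771952
theorem L771956 : sm gf N56990 = N58164 := rfl
theorem L771958 : sm gb N58164 = N57000 := ded_22_1 (flp_f L760355) (flp_b L760301) L771956
theorem L771960 : sm gd N58164 = N56991 := ded_35_1 (flp_f L760305) (flp_d L760303) L771956
theorem L771962 : sm gc N56992 = N58165 := rfl
theorem L771964 : sm gi N58165 = N56993 := ded_33_2 (flp_c L760317) (flp_i L760315) L771962
theorem L771966 : sm gd N58165 = N57137 := ded_27_2 (flp_c L761210) (flp_d L747946) (flp_c L746935) L760313 L771962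
theorem L771968 : sm ge N56992 = N58166 := rfl
theorem L771970 : sm gi N58166 = N56994 := ded_44_2 (flp_e L760323) (flp_i L760315) L771968
theorem L771972 : sm gd N58166 = N57006 := ded_34_1 (flp_e L760387) (flp_d L747046) (flp_e L746937) L760313 L771968
theorem L771974 : sm gb N56993 = N58167 := rfl
theorem L771976 : sm gd N58167 = N57138 := ded_20_2 (flp_b L761214) (flp_d L760321) L771974
theorem L771978 : sm gh N58167 = N56998 := ded_25_2 (flp_b L760347) (flp_h L760319) L771974
theorem L771980 : sm ge N56993 = N58168 := rfl
theorem L771982 : sm gc N58168 = N56994 := ded_28_1 (flp_e L760323) L760317 L771980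
theorem L771984 : sm gh N58168 = N56999 := ded_43_2 (flp_e L760351) (flp_h L760319) L771980
theorem L771986 : sm gc N56995 = N58169 := rfl
theorem L771988 : sm gg N58169 = N56996 := ded_30_2 (flp_c L760333) (flp_g L760331) L771986
theorem L771990 : sm gd N58169 = N57002 := ded_27_2 (flp_c L760365) (flp_d L746977) (flp_c L746947) L760329 L771986
theorem L771992 : sm gb N56996 = N58170 := rfl
theorem L771994 : sm gd N58170 = N57003 := ded_20_2 (flp_b L760371) (flp_d L760337) L771992
theorem L771996 : sm gf N58170 = N56998 := ded_22_2 (flp_b L760347) (flp_f L760335) L771992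
theorem L771998 : sm ge N56996 = N58171 := rfl
theorem L772000 : sm gc N58171 = N56997 := ded_28_1 (flp_e L760339) L760333 L771998
theorem L772002 : sm gj N58171 = N57002 := ded_42_2 (flp_e L761657) L761663 L771998
theorem L772004 : sm gh N58171 = N57148 := ded_43_2 (flp_e L763388) L763394 L771998
theorem L772006 : sm ga N56998 = N58172 := rfl
theorem L772008 : sm gd N58172 = N57004 := ded_12_2 (flp_a L760377) (flp_d L760349) L772006
theorem L772010 : sm ge N56998 = N58173 := rfl
theorem L772012 : sm gb N58173 = N56999 := ded_21_1 (flp_e L760351) L760347 L772010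
theorem L772014 : sm gf N56999 = N58174 := rfl
theorem L772016 : sm gc N58174 = N57000 := ded_29_1 (flp_f L760355) (flp_c L760353) L772014
theorem L772018 : sm gg N57000 = N58175 := rfl
theorem L772020 : sm gd N58175 = N57001 := ded_36_1 (flp_g L760359) (flp_d L760357) L772018
theorem L772022 : sm gb N57002 = N58176 := rfl
theorem L772024 : sm gg N58176 = N57003 := ded_23_2 (flp_b L760371) (flp_g L760367) L772022
theorem L772026 : sm gh N58176 = N57149 := ded_25_2 (flp_b L761266) (flp_h L760369) L772022
theorem L772028 : sm ga N57003 = N58177 := rfl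
theorem L772030 : sm gf N58177 = N57004 := ded_14_2 (flp_a L760377) (flp_f L760373) L772028
theorem L772032 : sm gh N58177 = N57150 := ded_17_2 (flp_a L761270) (flp_h L760375) L772028
theorem L772034 : sm gd N57007 = N58178 := rfl
theorem L772036 : sm ga N58178 = N57019 := ded_12_1 (flp_d L760475) (flp_a L760394) L772034
theorem L772038 : sm gf N58178 = N57008 := ded_35_2 (flp_d L760399) (flp_f L760397) L772034
theorem L772040 : sm gc N57008 = N58179 := rfl
theorem L772042 : sm ga N58179 = N57020 := ded_11_1 (flp_c L760479) (flp_a L760401) L772040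
theorem L772044 : sm ge N58179 = N57051 := ded_28_2 (flp_c L760672) (flp_e L760405) L772040
theorem L772046 : sm gg N58179 = N57009 := ded_30_2 (flp_c L760407) (flp_g L760403) L772040
theorem L772048 : sm gb N57009 = N58180 := rfl
theorem L772050 : sm ge N58180 = N57054 := ded_21_2 (flp_b L760692) (flp_e L760411) L772048
theorem L772052 : sm gj N58180 = N57010 := ded_24_2 (flp_b L760415) (flp_j L760413) L772048
theorem L772054 : sm ga N57010 = N58181 := rfl
theorem L772056 : sm ge N58181 = N57061 := ded_13_2 (flp_a L760726) (flp_e L760417) L772054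
theorem L772058 : sm gb N58181 = N57040 := ded_10_2 (flp_a L760609) (flp_b L747293) (flp_a L747087) L760415 L772054
theorem L772060 : sm gb N57011 = N58182 := rfl
theorem L772062 : sm ge N58182 = N57072 := ded_21_2 (flp_b L760794) (flp_e L760421) L772060
theorem L772064 : sm gh N58182 = N57015 := ded_25_2 (flp_b L760447) (flp_h L760423) L772060
theorem L772066 : sm gc N57012 = N58183 := rfl
theorem L772068 : sm ge N58183 = N57076 := ded_28_2 (flp_c L760819) (flp_e L760431) L772066
theorem L772070 : sm gg N58183 = N57013 := ded_30_2 (flp_c L760433) (flp_g L760427) L772066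
theorem L772072 : sm gi N58183 = N57020 := ded_33_2 (flp_c L760479) (flp_i L760429) L772066
theorem L772074 : sm gb N57013 = N58184 := rfl
theorem L772076 : sm ge N58184 = N57080 := ded_21_2 (flp_b L760849) (flp_e L760435) L772074
theorem L772078 : sm gj N58184 = N57015 := ded_24_2 (flp_b L760447) (flp_j L760437) L772074
theorem L772080 : sm gi N58184 = N57029 := ded_26_2 (flp_b L760542) (flp_i L760439) L772074
theorem L772082 : sm gb N57014 = N58185 := rfl
theorem L772084 : sm gf N58185 = N57015 := ded_22_2 (flp_b L760447) (flp_f L760443) L772082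
theorem L772086 : sm gi N58185 = N57039 := ded_26_2 (flp_b L760603) (flp_i L760445) L772082
theorem L772088 : sm gc N58185 = N57048 := ded_19_2 (flp_b L760656) (flp_c L747362) (flp_b L747115) L760441 L772082
theorem L772090 : sm ga N57015 = N58186 := rfl
theorem L772092 : sm ge N58186 = N57101 := ded_13_2 (flp_a L760981) (flp_e L760449) L772090
theorem L772094 : sm gi N58186 = N57040 := ded_18_2 (flp_a L760609) (flp_i L760451) L772090
theorem L772096 : sm gd N57016 = N58187 := rfl
theorem L772098 : sm gf N58187 = N57017 := ded_35_2 (flp_d L760460) (flp_f L760458) L772096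
theorem L772100 : sm gc N57017 = N58188 := rfl
theorem L772102 : sm gg N58188 = N57026 := ded_30_2 (flp_c L760522) (flp_g L760462) L772100
theorem L772104 : sm gd N58188 = N57020 := ded_27_2 (flp_c L760479) (flp_d L747156) (flp_c L747136) L760460 L772100
theorem L772106 : sm gd N57018 = N58189 := rfl
theorem L772108 : sm gb N58189 = N57050 := ded_20_1 (flp_d L760666) (flp_b L760466) L772106
theorem L772110 : sm gf N58189 = N57027 := ded_35_2 (flp_d L760528) (flp_f L760469) L772106
theorem L772112 : sm gg N58189 = N57019 := ded_36_2 (flp_d L760475) (flp_g L760471) L772106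
theorem L772114 : sm gi N58189 = N57034 := ded_39_2 (flp_d L760579) (flp_i L760473) L772106
theorem L772116 : sm gc N57019 = N58190 := rfl
theorem L772118 : sm gf N58190 = N57020 := ded_29_2 (flp_c L760479) (flp_f L760477) L772116
theorem L772120 : sm ge N57019 = N58191 := rfl
theorem L772122 : sm gd N58191 = N58191 := ded_34_1 (flp_e L772120) (flp_d L760475) L747153 L760475 L772120
theorem L772123 : sm gf N58191 = N57111 := ded_40_2 (flp_e L761049) L747792 (flp_e L747160) (flp_f L760477) L772120
theorem L772125 : sm gb N57020 = N58192 := rfl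
theorem L772127 : sm ge N58192 = N57112 := ded_21_2 (flp_b L761052) (flp_e L760481) L772125
theorem L772129 : sm gg N58192 = N57029 := ded_23_2 (flp_b L760542) (flp_g L760483) L772125
theorem L772131 : sm gd N57021 = N58193 := rfl
theorem L772133 : sm gb N58193 = N57025 := ded_20_1 (flp_d L760516) (flp_b L760487) L772131
theorem L772135 : sm gf N58193 = N57022 := ded_35_2 (flp_d L760497) (flp_f L760493) L772131
theorem L772137 : sm gj N58193 = N57032 := ded_37_2 (flp_d L760571) (flp_j L760495) L772131
theorem L772139 : sm gc N57022 = N58194 := rfl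
theorem L772141 : sm gj N58194 = N57033 := ded_31_2 (flp_c L760577) (flp_j L760501) L772139
theorem L772143 : sm gd N57023 = N58195 := rfl
theorem L772145 : sm gf N58195 = N57024 := ded_35_2 (flp_d L760510) (flp_f L760506) L772143
theorem L772147 : sm gj N58195 = N57034 := ded_37_2 (flp_d L760579) (flp_j L760508) L772143
theorem L772149 : sm gh N58195 = N57025 := ded_38_2 (flp_d L760516) (flp_h L747197) (flp_d L747184) L760503 L772143
theorem L772151 : sm gc N57024 = N58196 := rfl
theorem L772153 : sm gj N58196 = N57035 := ded_31_2 (flp_c L760585) (flp_j L760512) L772151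
theorem L772155 : sm gh N58196 = N57026 := ded_32_2 (flp_c L760522) (flp_h L760514) L772151
theorem L772157 : sm gc N57025 = N58197 := rfl
theorem L772159 : sm gf N58197 = N57026 := ded_29_2 (flp_c L760522) (flp_f L760518) L772157
theorem L772161 : sm gj N58197 = N57036 := ded_31_2 (flp_c L760589) (flp_j L760520) L772157
theorem L772163 : sm gd N58197 = N57028 := ded_27_2 (flp_c L760536) (flp_d L747221) (flp_c L747199) L760516 L772157
theorem L772165 : sm ge N57025 = N58198 := rfl
theorem L772167 : sm gj N58198 = N57037 := ded_42_2 (flp_e L760595) (flp_j L760520) L772165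
theorem L772169 : sm gd N58198 = N57042 := ded_34_1 (flp_e L760622) (flp_d L747315) (flp_e L747201) L760516 L772165
theorem L772171 : sm gb N57026 = N58199 := rfl
theorem L772173 : sm gd N58199 = N57029 := ded_20_2 (flp_b L760542) (flp_d L760526) L772171
theorem L772175 : sm gj N58199 = N57038 := ded_24_2 (flp_b L760599) (flp_j L760524) L772171
theorem L772177 : sm gc N57027 = N58200 := rfl
theorem L772179 : sm gg N58200 = N57028 := ded_30_2 (flp_c L760536) (flp_g L760532) L772177
theorem L772181 : sm gi N58200 = N57035 := ded_33_2 (flp_c L760585) (flp_i L760534) L772177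
theorem L772183 : sm gb N57028 = N58201 := rfl
theorem L772185 : sm gf N58201 = N57029 := ded_22_2 (flp_b L760542) (flp_f L760538) L772183
theorem L772187 : sm gj N58201 = N57039 := ded_24_2 (flp_b L760603) (flp_j L760540) L772183
theorem L772189 : sm gc N58201 = N57054 := ded_19_2 (flp_b L760692) (flp_c L747405) (flp_b L747223) L760536 L772183
theorem L772191 : sm ga N57029 = N58202 := rfl
theorem L772193 : sm ge N58202 = N57125 := ded_13_2 (flp_a L761144) (flp_e L760544) L772191
theorem L772195 : sm gj N58202 = N57040 := ded_16_2 (flp_a L760609) (flp_j L760546) L772191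
theorem L772197 : sm gd N57030 = N58203 := rfl
theorem L772199 : sm ga N58203 = N57075 := ded_12_1 (flp_d L760813) (flp_a L760550) L772197
theorem L772201 : sm gb N58203 = N57034 := ded_20_1 (flp_d L760579) (flp_b L760552) L772197
theorem L772203 : sm gf N58203 = N57031 := ded_35_2 (flp_d L760559) (flp_f L760555) L772197
theorem L772205 : sm gi N58203 = N57050 := ded_39_2 (flp_d L760666) (flp_i L760557) L772197
theorem L772207 : sm gh N58203 = N57032 := ded_38_2 (flp_d L760571) (flp_h L747258) (flp_d L747241) L760548 L772197
theorem L772209 : sm gc N57031 = N58204 := rfl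
theorem L772211 : sm ga N58204 = N57076 := ded_11_1 (flp_c L760819) (flp_a L760561) L772209
theorem L772213 : sm gg N58204 = N57047 := ded_30_2 (flp_c L760648) (flp_g L760565) L772209
theorem L772215 : sm gh N58204 = N57033 := ded_32_2 (flp_c L760577) (flp_h L760569) L772209
theorem L772217 : sm gi N58204 = N57051 := ded_33_2 (flp_c L760672) (flp_i L760567) L772209
theorem L772219 : sm gc N57032 = N58205 := rfl
theorem L772221 : sm gf N58205 = N57033 := ded_29_2 (flp_c L760577) (flp_f L760575) L772219
theorem L772223 : sm gd N58205 = N57057 := ded_27_2 (flp_c L760708) (flp_d L747425) (flp_c L747262) L760571 L772219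
theorem L772225 : sm ge N57032 = N58206 := rfl
theorem L772227 : sm gb N58206 = N57037 := ded_21_1 (flp_e L760595) (flp_b L760573) L772225
theorem L772229 : sm gd N58206 = N57043 := ded_34_1 (flp_e L760627) (flp_d L747322) (flp_e L747264) L760571 L772225
theorem L772231 : sm gb N57033 = N58207 := rfl
theorem L772233 : sm gc N58207 = N57038 := ded_19_2 (flp_b L760599) (flp_c L747285) (flp_b L747270) L760577 L772231
theorem L772235 : sm gc N57034 = N58208 := rfl
theorem L772237 : sm gf N58208 = N57035 := ded_29_2 (flp_c L760585) (flp_f L760581) L772235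
theorem L772239 : sm gh N58208 = N57036 := ded_32_2 (flp_c L760589) (flp_h L760583) L772235
theorem L772241 : sm ge N57034 = N58209 := rfl
theorem L772243 : sm gh N58209 = N57037 := ded_43_2 (flp_e L760595) (flp_h L760583) L772241
theorem L772245 : sm gd N58209 = N58209 := ded_34_1 (flp_e L772241) (flp_d L760579) L747274 L760579 L772241
theorem L772246 : sm gb N57035 = N58210 := rfl
theorem L772248 : sm gh N58210 = N57038 := ded_25_2 (flp_b L760599) (flp_h L760587) L772246
theorem L772250 : sm gb N57036 = N58211 := rfl
theorem L772252 : sm gd N58211 = N57039 := ded_20_2 (flp_b L760603) (flp_d L760593) L772250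
theorem L772254 : sm gf N58211 = N57038 := ded_22_2 (flp_b L760599) (flp_f L760591) L772250
theorem L772256 : sm ge N57036 = N58212 := rfl
theorem L772258 : sm gc N58212 = N57037 := ded_28_1 (flp_e L760595) L760589 L772256
theorem L772260 : sm ga N57038 = N58213 := rfl
theorem L772262 : sm gd N58213 = N57040 := ded_12_2 (flp_a L760609) (flp_d L760601) L772260
theorem L772264 : sm ga N57039 = N58214 := rfl
theorem L772266 : sm gc N58214 = N57061 := ded_11_2 (flp_a L760726) (flp_c L760607) L772264
theorem L772268 : sm gf N58214 = N57040 := ded_14_2 (flp_a L760609) (flp_f L760605) L772264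
theorem L772270 : sm ge N57041 = N58215 := rfl
theorem L772272 : sm gb N58215 = N57042 := ded_21_1 (flp_e L760622) (flp_b L760615) L772270
theorem L772274 : sm gj N58215 = N57043 := ded_42_2 (flp_e L760627) (flp_j L760619) L772270
theorem L772276 : sm gh N58215 = N58215 := ded_43_2 (flp_e L772270) L760621 L772270
theorem L772277 : sm gc N57044 = N58216 := rfl
theorem L772279 : sm ga N58216 = N57070 := ded_11_1 (flp_c L760786) (flp_a L760634) L772277
theorem L772281 : sm gd N58216 = N57046 := ded_27_2 (flp_c L760642) (flp_d L747348) (flp_c L747336) L760632 L772277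
theorem L772283 : sm ge N57044 = N58217 := rfl
theorem L772285 : sm ga N58217 = N57071 := ded_13_1 (flp_e L760790) (flp_a L760634) L772283
theorem L772287 : sm gd N58217 = N57045 := ded_34_1 (flp_e L760636) (flp_d L747340) (flp_e L747338) L760632 L772283
theorem L772289 : sm gb N57046 = N58218 := rfl
theorem L772291 : sm gh N58218 = N57048 := ded_25_2 (flp_b L760656) (flp_h L760646) L772289
theorem L772293 : sm gb N57047 = N58219 := rfl
theorem L772295 : sm gj N58219 = N57048 := ded_24_2 (flp_b L760656) (flp_j L760652) L772293
theorem L772297 : sm gi N58219 = N57054 := ded_26_2 (flp_b L760692) (flp_i L760654) L772293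
theorem L772299 : sm ga N57048 = N58220 := rfl
theorem L772301 : sm gi N58220 = N57061 := ded_18_2 (flp_a L760726) (flp_i L760658) L772299
theorem L772303 : sm gb N58220 = N57101 := ded_10_2 (flp_a L760981) (flp_b L747704) (flp_a L747364) L760656 L772299
theorem L772305 : sm gc N57049 = N58221 := rfl
theorem L772307 : sm ga N58221 = N57108 := ded_11_1 (flp_c L761033) (flp_a L760662) L772305
theorem L772309 : sm gg N58221 = N57053 := ded_30_2 (flp_c L760684) (flp_g L760664) L772305
theorem L772311 : sm gd N58221 = N57051 := ded_27_2 (flp_c L760672) (flp_d L747385) (flp_c L747372) L760660 L772305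
theorem L772313 : sm gc N57050 = N58222 := rfl
theorem L772315 : sm ga N58222 = N57110 := ded_11_1 (flp_c L761045) (flp_a L760668) L772313
theorem L772317 : sm gf N58222 = N57051 := ded_29_2 (flp_c L760672) (flp_f L760670) L772313
theorem L772319 : sm ge N57050 = N58223 := rfl
theorem L772321 : sm ga N58223 = N57111 := ded_13_1 (flp_e L761049) (flp_a L760668) L772319
theorem L772323 : sm gd N58223 = N58223 := ded_34_1 (flp_e L772319) (flp_d L760666) L747382 L760666 L772319
theorem L772324 : sm gb N57051 = N58224 := rfl
theorem L772326 : sm gg N58224 = N57054 := ded_23_2 (flp_b L760692) (flp_g L760676) L772324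
theorem L772328 : sm gc N57052 = N58225 := rfl
theorem L772330 : sm gj N58225 = N57057 := ded_31_2 (flp_c L760708) (flp_j L760682) L772328
theorem L772332 : sm gb N57053 = N58226 := rfl
theorem L772334 : sm gd N58226 = N57054 := ded_20_2 (flp_b L760692) (flp_d L760690) L772332
theorem L772336 : sm gj N58226 = N57060 := ded_24_2 (flp_b L760722) (flp_j L760688) L772332
theorem L772338 : sm ga N57054 = N58227 := rfl
theorem L772340 : sm gj N58227 = N57061 := ded_16_2 (flp_a L760726) (flp_j L760694) L772338
theorem L772342 : sm gb N58227 = N57125 := ded_10_2 (flp_a L761144) (flp_b L747878) (flp_a L747407) L760692 L772338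
theorem L772344 : sm gc N57055 = N58228 := rfl
theorem L772346 : sm ga N58228 = N57057 := ded_11_1 (flp_c L760708) (flp_a L760698) L772344
theorem L772348 : sm gc N57056 = N58229 := rfl
theorem L772350 : sm gh N58229 = N57057 := ded_32_2 (flp_c L760708) (flp_h L760706) L772348
theorem L772352 : sm gb N57057 = N58230 := rfl
theorem L772354 : sm gc N58230 = N57060 := ded_19_2 (flp_b L760722) (flp_c L747443) (flp_b L747427) L760708 L772352
theorem L772356 : sm gc N57058 = N58231 := rfl
theorem L772358 : sm ga N58231 = N57137 := ded_11_1 (flp_c L761210) (flp_a L760712) L772356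
theorem L772360 : sm gi N58231 = N57059 := ded_33_2 (flp_c L760716) (flp_i L760714) L772356
theorem L772362 : sm gb N57059 = N58232 := rfl
theorem L772364 : sm gh N58232 = N57060 := ded_25_2 (flp_b L760722) (flp_h L760720) L772362
theorem L772366 : sm ga N57060 = N58233 := rfl
theorem L772368 : sm gd N58233 = N57061 := ded_12_2 (flp_a L760726) (flp_d L760724) L772366
theorem L772370 : sm gb N58233 = N57145 := ded_10_2 (flp_a L761250) (flp_b L747976) (flp_a L747445) L760722 L772366
theorem L772372 : sm gd N57062 = N58234 := rfl
theorem L772374 : sm ga N58234 = N57065 := ded_12_1 (flp_d L760758) (flp_a L760732) L772372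
theorem L772376 : sm gb N58234 = N57139 := ded_20_1 (flp_d L761218) (flp_b L760734) L772372
theorem L772378 : sm gj N58234 = N57128 := ded_37_2 (flp_d L761158) (flp_j L760738) L772372
theorem L772380 : sm ge N57063 = N58235 := rfl
theorem L772382 : sm ga N58235 = N57067 := ded_13_1 (flp_e L760768) (flp_a L760742) L772380
theorem L772384 : sm gb N58235 = N57157 := ded_21_1 (flp_e L761327) (flp_b L760744) L772380
theorem L772386 : sm gj N58235 = N57155 := ded_42_2 (flp_e L761311) (flp_j L760748) L772380
theorem L772388 : sm gh N58235 = N57159 := ded_43_2 (flp_e L761342) (flp_h L760750) L772380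
theorem L772390 : sm gd N57064 = N58236 := rfl
theorem L772392 : sm gb N58236 = N57069 := ded_20_1 (flp_d L760782) (flp_b L760754) L772390
theorem L772394 : sm gh N58236 = N57065 := ded_38_2 (flp_d L760758) (flp_h L747479) (flp_d L747475) L760752 L772390
theorem L772396 : sm gc N57065 = N58237 := rfl
theorem L772398 : sm ge N57065 = N58238 := rfl
theorem L772400 : sm gb N58238 = N57071 := ded_21_1 (flp_e L760790) (flp_b L760760) L772398
theorem L772402 : sm gd N58238 = N57067 := ded_34_1 (flp_e L760768) (flp_d L747485) (flp_e L747483) L760758 L772398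
theorem L772404 : sm ge N57066 = N58239 := rfl
theorem L772406 : sm gc N58239 = N57067 := ded_28_1 (flp_e L760768) L760762 L772404
theorem L772408 : sm gh N58239 = N57162 := ded_43_2 (flp_e L761365) (flp_h L760766) L772404
theorem L772410 : sm gd N57068 = N58240 := rfl
theorem L772412 : sm gi N58240 = N57069 := ded_39_2 (flp_d L760782) (flp_i L760780) L772410
theorem L772414 : sm gc N57069 = N58241 := rfl
theorem L772416 : sm gh N58241 = N57070 := ded_32_2 (flp_c L760786) (flp_h L760784) L772414
theorem L772418 : sm gd N58241 = N57092 := ded_27_2 (flp_c L760923) (flp_d L747650) (flp_c L747501) L760782 L772414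
theorem L772420 : sm ge N57069 = N58242 := rfl
theorem L772422 : sm gh N58242 = N57071 := ded_43_2 (flp_e L760790) (flp_h L760784) L772420
theorem L772424 : sm gd N58242 = N57164 := ded_34_1 (flp_e L761376) (flp_d L748180) (flp_e L747503) L760782 L772420
theorem L772426 : sm gb N57070 = N58243 := rfl
theorem L772428 : sm gd N58243 = N57072 := ded_20_2 (flp_b L760794) (flp_d L760788) L772426
theorem L772430 : sm ge N57070 = N58244 := rfl
theorem L772432 : sm gc N58244 = N57071 := ded_28_1 (flp_e L760790) L760786 L772430
theorem L772434 : sm ga N57072 = N58245 := rfl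
theorem L772436 : sm gh N58245 = N57101 := ded_17_2 (flp_a L760981) (flp_h L760796) L772434
theorem L772438 : sm gd N57073 = N58246 := rfl
theorem L772440 : sm gf N58246 = N57074 := ded_35_2 (flp_d L760807) (flp_f L760803) L772438
theorem L772442 : sm gi N58246 = N57107 := ded_39_2 (flp_d L761029) (flp_i L760805) L772438
theorem L772444 : sm gc N57074 = N58247 := rfl
theorem L772446 : sm gg N58247 = N57079 := ded_30_2 (flp_c L760841) (flp_g L760809) L772444
theorem L772448 : sm gi N58247 = N57108 := ded_33_2 (flp_c L761033) (flp_i L760811) L772444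
theorem L772450 : sm gd N58247 = N57076 := ded_27_2 (flp_c L760819) (flp_d L747539) (flp_c L747524) L760807 L772444
theorem L772452 : sm gc N57075 = N58248 := rfl
theorem L772454 : sm gf N58248 = N57076 := ded_29_2 (flp_c L760819) (flp_f L760815) L772452
theorem L772456 : sm gi N58248 = N57110 := ded_33_2 (flp_c L761045) (flp_i L760817) L772452
theorem L772458 : sm ge N57075 = N58249 := rfl
theorem L772460 : sm gi N58249 = N57111 := ded_44_2 (flp_e L761049) (flp_i L760817) L772458
theorem L772462 : sm gd N58249 = N58249 := ded_34_1 (flp_e L772458) (flp_d L760813) L747534 L760813 L772458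
theorem L772463 : sm gb N57076 = N58250 := rfl
theorem L772465 : sm gg N58250 = N57080 := ded_23_2 (flp_b L760849) (flp_g L760821) L772463
theorem L772467 : sm gi N58250 = N57112 := ded_26_2 (flp_b L761052) (flp_i L760823) L772463
theorem L772469 : sm gc N57077 = N58251 := rfl
theorem L772471 : sm ge N58251 = N57137 := ded_28_2 (flp_c L761210) (flp_e L760833) L772469
theorem L772473 : sm gj N58251 = N57086 := ded_31_2 (flp_c L760888) (flp_j L760829) L772469
theorem L772475 : sm gi N58251 = N57114 := ded_33_2 (flp_c L761066) (flp_i L760831) L772469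
theorem L772477 : sm gc N57078 = N58252 := rfl
theorem L772479 : sm gj N58252 = N57092 := ded_31_2 (flp_c L760923) (flp_j L760837) L772477
theorem L772481 : sm gh N58252 = N57079 := ded_32_2 (flp_c L760841) (flp_h L760839) L772477
theorem L772483 : sm gb N57079 = N58253 := rfl
theorem L772485 : sm gd N58253 = N57080 := ded_20_2 (flp_b L760849) (flp_d L760847) L772483
theorem L772487 : sm gj N58253 = N57097 := ded_24_2 (flp_b L760957) (flp_j L760843) L772483
theorem L772489 : sm gi N58253 = N57118 := ded_26_2 (flp_b L761096) (flp_i L760845) L772483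
theorem L772491 : sm ga N57080 = N58254 := rfl
theorem L772493 : sm gj N58254 = N57101 := ded_16_2 (flp_a L760981) (flp_j L760851) L772491
theorem L772495 : sm gi N58254 = N57125 := ded_18_2 (flp_a L761144) (flp_i L760853) L772491
theorem L772497 : sm gc N57081 = N58255 := rfl
theorem L772499 : sm ga N58255 = N57086 := ded_11_1 (flp_c L760888) (flp_a L760857) L772497
theorem L772501 : sm gi N58255 = N57127 := ded_33_2 (flp_c L761154) (flp_i L760859) L772497
theorem L772503 : sm gd N57082 = N58256 := rfl
theorem L772505 : sm gd N57083 = N58257 := rfl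
theorem L772507 : sm gb N58257 = N57090 := ded_20_1 (flp_d L760911) (flp_b L760869) L772505
theorem L772509 : sm gf N58257 = N57084 := ded_35_2 (flp_d L760874) (flp_f L760872) L772505
theorem L772511 : sm gh N58257 = N57085 := ded_38_2 (flp_d L760880) (flp_h L747602) (flp_d L747591) L760867 L772505
theorem L772513 : sm gc N57084 = N58258 := rfl
theorem L772515 : sm gh N58258 = N57086 := ded_32_2 (flp_c L760888) (flp_h L760878) L772513
theorem L772517 : sm gc N57085 = N58259 := rfl
theorem L772519 : sm gf N58259 = N57086 := ded_29_2 (flp_c L760888) (flp_f L760884) L772517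
theorem L772521 : sm gi N58259 = N57129 := ded_33_2 (flp_c L761164) (flp_i L760886) L772517
theorem L772523 : sm ge N57085 = N58260 := rfl
theorem L772525 : sm gb N58260 = N57096 := ded_21_1 (flp_e L760951) (flp_b L760882) L772523
theorem L772527 : sm gi N58260 = N57130 := ded_44_2 (flp_e L761168) (flp_i L760886) L772523
theorem L772529 : sm gd N58260 = N57104 := ded_34_1 (flp_e L761004) (flp_d L747720) (flp_e L747606) L760880 L772523
theorem L772531 : sm gb N57086 = N58261 := rfl
theorem L772533 : sm gi N58261 = N57131 := ded_26_2 (flp_b L761174) (flp_i L760890) L772531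
theorem L772535 : sm gc N58261 = N57097 := ded_19_2 (flp_b L760957) (flp_c L747678) (flp_b L747614) L760888 L772531
theorem L772537 : sm gh N57087 = N58262 := rfl
theorem L772539 : sm ge N58262 = N58262 := ded_43_1 (flp_h L772537) L760896 L772537
theorem L772540 : sm gg N58262 = N57089 := ded_50_1 (flp_h L760904) (flp_g L760897) L772537
theorem L772542 : sm gi N58262 = N57088 := ded_54_2 (flp_h L760899) (flp_i L747625) L747618 L760892 L772537
theorem L772544 : sm gd N57088 = N58263 := rfl
theorem L772546 : sm gg N58263 = N57090 := ded_36_2 (flp_d L760911) (flp_g L760902) L772544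
theorem L772548 : sm gh N58263 = N57094 := ded_38_2 (flp_d L760937) (flp_h L747662) (flp_d L747627) L760899 L772544
theorem L772550 : sm gd N57089 = N58264 := rfl
theorem L772552 : sm gf N58264 = N57091 := ded_35_2 (flp_d L760917) (flp_f L760907) L772550
theorem L772554 : sm gi N58264 = N57090 := ded_39_2 (flp_d L760911) (flp_i L760909) L772550
theorem L772556 : sm gh N58264 = N57134 := ded_38_2 (flp_d L761192) (flp_h L747932) (flp_d L747634) L760904 L772550
theorem L772558 : sm gc N57090 = N58265 := rfl
theorem L772560 : sm gf N58265 = N57092 := ded_29_2 (flp_c L760923) (flp_f L760913) L772558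
theorem L772562 : sm gh N58265 = N57095 := ded_32_2 (flp_c L760943) (flp_h L760915) L772558
theorem L772564 : sm ge N57090 = N58266 := rfl
theorem L772566 : sm gh N58266 = N57096 := ded_43_2 (flp_e L760951) (flp_h L760915) L772564
theorem L772568 : sm gd N58266 = N58266 := ded_34_1 (flp_e L772564) (flp_d L760911) L747641 L760911 L772564
theorem L772569 : sm gc N57091 = N58267 := rfl
theorem L772571 : sm gh N58267 = N57137 := ded_32_2 (flp_c L761210) (flp_h L760921) L772569
theorem L772573 : sm gi N58267 = N57092 := ded_33_2 (flp_c L760923) (flp_i L760919) L772569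
theorem L772575 : sm gb N57092 = N58268 := rfl
theorem L772577 : sm gh N58268 = N57097 := ded_25_2 (flp_b L760957) (flp_h L760925) L772575
theorem L772579 : sm gd N57093 = N58269 := rfl
theorem L772581 : sm gj N58269 = N57094 := ded_37_2 (flp_d L760937) (flp_j L760933) L772579
theorem L772583 : sm gi N58269 = N57139 := ded_39_2 (flp_d L761218) (flp_i L760935) L772579
theorem L772585 : sm gc N57094 = N58270 := rfl
theorem L772587 : sm gg N58270 = N57095 := ded_30_2 (flp_c L760943) (flp_g L760939) L772585
theorem L772589 : sm gi N58270 = N57140 := ded_33_2 (flp_c L761222) (flp_i L760941) L772585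
theorem L772591 : sm gd N58270 = N57099 := ded_27_2 (flp_c L760969) (flp_d L747692) (flp_c L747664) L760937 L772585
theorem L772593 : sm ge N57094 = N58271 := rfl
theorem L772595 : sm gg N58271 = N57096 := ded_41_2 (flp_e L760951) (flp_g L760939) L772593
theorem L772597 : sm gi N58271 = N57141 := ded_44_2 (flp_e L761228) (flp_i L760941) L772593
theorem L772599 : sm gd N58271 = N57106 := ded_34_1 (flp_e L761022) (flp_d L747748) (flp_e L747666) L760937 L772593
theorem L772601 : sm gb N57095 = N58272 := rfl
theorem L772603 : sm gd N58272 = N57100 := ded_20_2 (flp_b L760975) (flp_d L760949) L772601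
theorem L772605 : sm gf N58272 = N57097 := ded_22_2 (flp_b L760957) (flp_f L760945) L772601
theorem L772607 : sm gi N58272 = N57142 := ded_26_2 (flp_b L761234) (flp_i L760947) L772601
theorem L772609 : sm ge N57095 = N58273 := rfl
theorem L772611 : sm gc N58273 = N57096 := ded_28_1 (flp_e L760951) L760943 L772609
theorem L772613 : sm gi N58273 = N57143 := ded_44_2 (flp_e L761240) (flp_i L760947) L772609
theorem L772615 : sm ga N57097 = N58274 := rfl
theorem L772617 : sm gd N58274 = N57101 := ded_12_2 (flp_a L760981) (flp_d L760959) L772615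
theorem L772619 : sm gi N58274 = N57145 := ded_18_2 (flp_a L761250) (flp_i L760961) L772615
theorem L772621 : sm gc N57098 = N58275 := rfl
theorem L772623 : sm gj N58275 = N57099 := ded_31_2 (flp_c L760969) (flp_j L760965) L772621
theorem L772625 : sm gi N58275 = N57148 := ded_33_2 (flp_c L761262) (flp_i L760967) L772621
theorem L772627 : sm gb N57099 = N58276 := rfl
theorem L772629 : sm gg N58276 = N57100 := ded_23_2 (flp_b L760975) (flp_g L760971) L772627
theorem L772631 : sm gi N58276 = N57149 := ded_26_2 (flp_b L761266) (flp_i L760973) L772627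
theorem L772633 : sm ga N57100 = N58277 := rfl
theorem L772635 : sm gf N58277 = N57101 := ded_14_2 (flp_a L760981) (flp_f L760977) L772633
theorem L772637 : sm gi N58277 = N57150 := ded_18_2 (flp_a L761270) (flp_i L760979) L772633
theorem L772639 : sm ge N57103 = N58278 := rfl
theorem L772641 : sm gc N58278 = N57104 := ded_28_1 (flp_e L761004) L760997 L772639
theorem L772643 : sm gh N58278 = N58278 := ded_43_2 (flp_e L772639) L761001 L772639
theorem L772644 : sm gi N58278 = N57156 := ded_44_2 (flp_e L761319) (flp_i L761002) L772639
theorem L772646 : sm gf N58278 = N57106 := ded_40_2 (flp_e L761022) L747750 (flp_e L747731) (flp_f L760999) L772639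
theorem L772648 : sm ge N57105 = N58279 := rfl
theorem L772650 : sm gc N58279 = N57169 := ded_28_1 (flp_e L761407) (flp_c L761019) L772648
theorem L772652 : sm gj N58279 = N57106 := ded_42_2 (flp_e L761022) (flp_j L761015) L772648
theorem L772654 : sm gh N58279 = N58279 := ded_43_2 (flp_e L772648) L761021 L772648
theorem L772655 : sm gi N58279 = N57157 := ded_44_2 (flp_e L761327) (flp_i L761017) L772648
theorem L772657 : sm gc N57107 = N58280 := rfl
theorem L772659 : sm gf N58280 = N57108 := ded_29_2 (flp_c L761033) (flp_f L761031) L772657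
theorem L772661 : sm gd N58280 = N57110 := ded_27_2 (flp_c L761045) (flp_d L747790) (flp_c L747774) L761029 L772657
theorem L772663 : sm ge N57107 = N58281 := rfl
theorem L772665 : sm gd N58281 = N58281 := ded_34_1 (flp_e L772663) (flp_d L761029) L747776 L761029 L772663
theorem L772666 : sm gb N57108 = N58282 := rfl
theorem L772668 : sm gd N58282 = N57112 := ded_20_2 (flp_b L761052) (flp_d L761037) L772666
theorem L772670 : sm gg N58282 = N57118 := ded_23_2 (flp_b L761096) (flp_g L761035) L772666
theorem L772672 : sm gc N57109 = N58283 := rfl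
theorem L772674 : sm gf N58283 = N57123 := ded_29_2 (flp_c L761134) (flp_f L761041) L772672
theorem L772676 : sm gg N58283 = N57110 := ded_30_2 (flp_c L761045) (flp_g L761043) L772672
theorem L772678 : sm ge N57109 = N58284 := rfl
theorem L772680 : sm gg N58284 = N57111 := ded_41_2 (flp_e L761049) (flp_g L761043) L772678
theorem L772682 : sm gd N58284 = N58284 := ded_34_1 (flp_e L772678) (flp_d L761039) L747785 L761039 L772678
theorem L772683 : sm gb N57110 = N58285 := rfl
theorem L772685 : sm gf N58285 = N57112 := ded_22_2 (flp_b L761052) (flp_f L761047) L772683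
theorem L772687 : sm ge N57110 = N58286 := rfl
theorem L772689 : sm gc N58286 = N57111 := ded_28_1 (flp_e L761049) L761045 L772687
theorem L772691 : sm ga N57112 = N58287 := rfl
theorem L772693 : sm gg N58287 = N57125 := ded_15_2 (flp_a L761144) (flp_g L761054) L772691
theorem L772695 : sm gc N57113 = N58288 := rfl
theorem L772697 : sm gf N58288 = N57114 := ded_29_2 (flp_c L761066) (flp_f L761060) L772695
theorem L772699 : sm gj N58288 = N57129 := ded_31_2 (flp_c L761164) (flp_j L761062) L772695
theorem L772701 : sm gh N58288 = N57147 := ded_32_2 L761260 (flp_h L761064) L772695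
theorem L772703 : sm ge N57113 = N58289 := rfl
theorem L772705 : sm gb N58289 = N57117 := ded_21_1 (flp_e L761090) (flp_b L761058) L772703
theorem L772707 : sm gj N58289 = N57130 := ded_42_2 (flp_e L761168) (flp_j L761062) L772703
theorem L772709 : sm gh N58289 = N57144 := ded_43_2 L761248 (flp_h L761064) L772703
theorem L772711 : sm gd N58289 = N57152 := ded_34_1 (flp_e L761282) (flp_d L748010) (flp_e L747802) L761056 L772703
theorem L772713 : sm gf N58289 = N57136 := ded_40_2 (flp_e L761204) L747942 (flp_e L747814) (flp_f L761060) L772703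
theorem L772715 : sm gb N57114 = N58290 := rfl
theorem L772717 : sm ge N58290 = N57138 := ded_21_2 (flp_b L761214) (flp_e L761068) L772715
theorem L772719 : sm gj N58290 = N57131 := ded_24_2 (flp_b L761174) (flp_j L761070) L772715
theorem L772721 : sm gh N58290 = N57146 := ded_25_2 L761256 (flp_h L761072) L772715
theorem L772723 : sm gc N58290 = N57118 := ded_19_2 (flp_b L761096) (flp_c L747834) (flp_b L747810) L761066 L772715
theorem L772725 : sm gb N57115 = N58291 := rfl
theorem L772727 : sm ge N58291 = N57131 := ded_21_2 (flp_b L761174) (flp_e L761076) L772725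
theorem L772729 : sm gj N58291 = N57138 := ded_24_2 (flp_b L761214) (flp_j L761078) L772725
theorem L772731 : sm gh N58291 = N57118 := ded_25_2 (flp_b L761096) (flp_h L761080) L772725
theorem L772733 : sm gc N58291 = N57146 := ded_19_2 L761256 L747982 (flp_b L747820) L761074 L772725
theorem L772735 : sm gb N57116 = N58292 := rfl
theorem L772737 : sm gd N58292 = N57124 := ded_20_2 (flp_b L761138) (flp_d L761088) L772735
theorem L772739 : sm gf N58292 = N57118 := ded_22_2 (flp_b L761096) (flp_f L761084) L772735
theorem L772741 : sm gj N58292 = N57142 := ded_24_2 (flp_b L761234) (flp_j L761086) L772735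
theorem L772743 : sm ge N57116 = N58293 := rfl
theorem L772745 : sm gc N58293 = N57117 := ded_28_1 (flp_e L761090) L761082 L772743
theorem L772747 : sm gj N58293 = N57143 := ded_42_2 (flp_e L761240) (flp_j L761086) L772743
theorem L772749 : sm gf N57117 = N58294 := rfl
theorem L772751 : sm gb N58294 = N57136 := ded_22_1 (flp_f L772713) L772705 L772749
theorem L772753 : sm gd N58294 = N57153 := ded_35_1 (flp_f L761292) (flp_d L761094) L772749
theorem L772755 : sm gj N58294 = N57144 := ded_46_2 (flp_f L761244) (flp_j L761092) L772749
theorem L772757 : sm gh N58294 = N57130 := ded_47_2 (flp_f L763426) L763422 L772749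
theorem L772759 : sm ge N58294 = N57120 := ded_40_1 (flp_f L761110) (flp_e L747840) (flp_f L747830) L761090 L772749
theorem L772761 : sm ga N57118 = N58295 := rfl
theorem L772763 : sm gd N58295 = N57125 := ded_12_2 (flp_a L761144) (flp_d L761098) L772761
theorem L772765 : sm gj N58295 = N57145 := ded_16_2 (flp_a L761250) (flp_j L761100) L772761
theorem L772767 : sm ge N57118 = N58296 := rfl
theorem L772769 : sm gb N58296 = N57119 := ded_21_1 (flp_e L761102) L761096 L772767
theorem L772771 : sm gc N58296 = N57138 := ded_28_1 (flp_e L772717) L772723 L772767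
theorem L772773 : sm gj N58296 = N57146 := ded_42_2 (flp_e L761254) (flp_j L761100) L772767
theorem L772775 : sm gh N58296 = N57131 := ded_43_2 (flp_e L772727) L772731 L772767
theorem L772777 : sm gf N57119 = N58297 := rfl
theorem L772779 : sm gc N58297 = N57120 := ded_29_1 (flp_f L761110) (flp_c L761104) L772777
theorem L772781 : sm gj N58297 = N57147 := ded_46_2 (flp_f L761258) (flp_j L761106) L772777
theorem L772783 : sm gh N58297 = N57129 := ded_47_2 L761166 (flp_h L761108) L772777
theorem L772785 : sm gg N57120 = N58298 := rfl
theorem L772787 : sm gb N58298 = N57133 := ded_23_1 L761188 (flp_b L761112) L772785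
theorem L772789 : sm gd N58298 = N57121 := ded_36_1 (flp_g L761120) (flp_d L761114) L772785
theorem L772791 : sm gh N58298 = N57128 := ded_50_2 L761162 (flp_h L761118) L772785
theorem L772793 : sm gc N57122 = N58299 := rfl
theorem L772795 : sm gg N58299 = N57148 := ded_30_2 (flp_c L761262) (flp_g L761130) L772793
theorem L772797 : sm gj N58299 = N57123 := ded_31_2 (flp_c L761134) (flp_j L761132) L772793
theorem L772799 : sm gb N57123 = N58300 := rfl
theorem L772801 : sm gg N58300 = N57124 := ded_23_2 (flp_b L761138) (flp_g L761136) L772799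
theorem L772803 : sm ga N57124 = N58301 := rfl
theorem L772805 : sm gf N58301 = N57125 := ded_14_2 (flp_a L761144) (flp_f L761140) L772803
theorem L772807 : sm gj N58301 = N57150 := ded_16_2 (flp_a L761270) (flp_j L761142) L772803
theorem L772809 : sm gc N57126 = N58302 := rfl
theorem L772811 : sm ga N58302 = N57129 := ded_11_1 (flp_c L761164) (flp_a L761150) L772809
theorem L772813 : sm gf N58302 = N57127 := ded_29_2 (flp_c L761154) (flp_f L761152) L772809
theorem L772815 : sm gb N57127 = N58303 := rfl
theorem L772817 : sm gc N57128 = N58304 := rfl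
theorem L772819 : sm gg N58304 = N57129 := ded_30_2 (flp_c L761164) (flp_g L761162) L772817
theorem L772821 : sm ge N57128 = N58305 := rfl
theorem L772823 : sm gb N58305 = N57141 := ded_21_1 (flp_e L761228) (flp_b L761160) L772821
theorem L772825 : sm gg N58305 = N57130 := ded_41_2 (flp_e L761168) (flp_g L761162) L772821
theorem L772827 : sm gd N58305 = N57155 := ded_34_1 (flp_e L761311) (flp_d L748052) (flp_e L747908) L761158 L772821
theorem L772829 : sm gb N57129 = N58306 := rfl
theorem L772831 : sm gf N58306 = N57131 := ded_22_2 (flp_b L761174) (flp_f L761166) L772829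
theorem L772833 : sm gc N58306 = N57142 := ded_19_2 (flp_b L761234) (flp_c L747966) (flp_b L747914) L761164 L772829
theorem L772835 : sm ge N57129 = N58307 := rfl
theorem L772837 : sm gc N58307 = N57130 := ded_28_1 (flp_e L761168) L761164 L772835
theorem L772839 : sm ga N57131 = N58308 := rfl
theorem L772841 : sm gc N58308 = N57145 := ded_11_2 (flp_a L761250) (flp_c L761176) L772839
theorem L772843 : sm gd N57132 = N58309 := rfl
theorem L772845 : sm gg N58309 = N57134 := ded_36_2 (flp_d L761192) (flp_g L761182) L772843
theorem L772847 : sm gi N58309 = N57133 := ded_39_2 (flp_d L761186) (flp_i L761184) L772843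
theorem L772849 : sm gc N57133 = N58310 := rfl
theorem L772851 : sm gg N58310 = N57135 := ded_30_2 (flp_c L761198) (flp_g L761188) L772849
theorem L772853 : sm gh N58310 = N57140 := ded_32_2 (flp_c L761222) (flp_h L761190) L772849
theorem L772855 : sm ge N57133 = N58311 := rfl
theorem L772857 : sm gg N58311 = N57136 := ded_41_2 (flp_e L761204) (flp_g L761188) L772855
theorem L772859 : sm gh N58311 = N57141 := ded_43_2 (flp_e L761228) (flp_h L761190) L772855
theorem L772861 : sm gd N58311 = N57168 := ded_34_1 (flp_e L761401) (flp_d L748221) (flp_e L747928) L761186 L772855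
theorem L772863 : sm gc N57134 = N58312 := rfl
theorem L772865 : sm gf N58312 = N57137 := ded_29_2 (flp_c L761210) (flp_f L761194) L772863
theorem L772867 : sm gi N58312 = N57135 := ded_33_2 (flp_c L761198) (flp_i L761196) L772863
theorem L772869 : sm ge N57134 = N58313 := rfl
theorem L772871 : sm gi N58313 = N57136 := ded_44_2 (flp_e L761204) (flp_i L761196) L772869
theorem L772873 : sm gd N58313 = N57169 := ded_34_1 (flp_e L761407) (flp_d L748228) (flp_e L747934) L761192 L772869
theorem L772875 : sm gb N57135 = N58314 := rfl
theorem L772877 : sm gf N58314 = N57138 := ded_22_2 (flp_b L761214) (flp_f L761200) L772875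
theorem L772879 : sm gh N58314 = N57142 := ded_25_2 (flp_b L761234) (flp_h L761202) L772875
theorem L772881 : sm ge N57135 = N58315 := rfl
theorem L772883 : sm gc N58315 = N57136 := ded_28_1 (flp_e L761204) L761198 L772881
theorem L772885 : sm gh N58315 = N57143 := ded_43_2 (flp_e L761240) (flp_h L761202) L772881
theorem L772887 : sm gb N57137 = N58316 := rfl
theorem L772889 : sm gi N58316 = N57138 := ded_26_2 (flp_b L761214) (flp_i L761212) L772887
theorem L772891 : sm ga N57138 = N58317 := rfl
theorem L772893 : sm gh N58317 = N57145 := ded_17_2 (flp_a L761250) (flp_h L761216) L772891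
theorem L772895 : sm gc N57139 = N58318 := rfl
theorem L772897 : sm gj N58318 = N57140 := ded_31_2 (flp_c L761222) (flp_j L761220) L772895
theorem L772899 : sm gd N58318 = N57148 := ded_27_2 (flp_c L761262) (flp_d L747988) (flp_c L747956) L761218 L772895
theorem L772901 : sm ge N57139 = N58319 := rfl
theorem L772903 : sm gj N58319 = N57141 := ded_42_2 (flp_e L761228) (flp_j L761220) L772901
theorem L772905 : sm gd N58319 = N57157 := ded_34_1 (flp_e L761327) (flp_d L748074) (flp_e L747958) L761218 L772901
theorem L772907 : sm gb N57140 = N58320 := rfl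
theorem L772909 : sm gd N58320 = N57149 := ded_20_2 (flp_b L761266) (flp_d L761226) L772907
theorem L772911 : sm gg N58320 = N57142 := ded_23_2 (flp_b L761234) (flp_g L761224) L772907
theorem L772913 : sm ge N57140 = N58321 := rfl
theorem L772915 : sm gc N58321 = N57141 := ded_28_1 (flp_e L761228) L761222 L772913
theorem L772917 : sm gg N58321 = N57143 := ded_41_2 (flp_e L761240) (flp_g L761224) L772913
theorem L772919 : sm gf N57141 = N58322 := rfl
theorem L772921 : sm gd N58322 = N57156 := ded_35_1 L761325 (flp_d L761232) L772919
theorem L772923 : sm ga N57142 = N58323 := rfl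
theorem L772925 : sm gd N58323 = N57150 := ded_12_2 (flp_a L761270) (flp_d L761236) L772923
theorem L772927 : sm gf N58323 = N57145 := ded_14_2 (flp_a L761250) (flp_f L761238) L772923
theorem L772929 : sm ge N57142 = N58324 := rfl
theorem L772931 : sm gb N58324 = N57143 := ded_21_1 (flp_e L761240) L761234 L772929
theorem L772933 : sm gf N57143 = N58325 := rfl
theorem L772935 : sm gc N58325 = N57144 := ded_29_1 (flp_f L761244) (flp_c L761242) L772933
theorem L772937 : sm ge N58325 = N57147 := ded_40_1 (flp_f L761258) (flp_e L747980) (flp_f L747968) L761240 L772933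
theorem L772939 : sm ge N57145 = N58326 := rfl
theorem L772941 : sm ga N58326 = N57146 := ded_13_1 (flp_e L761254) L761250 L772939
theorem L772943 : sm gf N57146 = N58327 := rfl
theorem L772945 : sm gb N58327 = N57147 := ded_22_1 (flp_f L761258) (flp_b L761256) L772943
theorem L772947 : sm gb N57148 = N58328 := rfl
theorem L772949 : sm gj N58328 = N57149 := ded_24_2 (flp_b L761266) (flp_j L761264) L772947
theorem L772951 : sm ga N57149 = N58329 := rfl
theorem L772953 : sm gg N58329 = N57150 := ded_15_2 (flp_a L761270) (flp_g L761268) L772951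
theorem L772955 : sm ge N57151 = N58330 := rfl
theorem L772957 : sm gc N58330 = N57152 := ded_28_1 (flp_e L761282) L761274 L772955
theorem L772959 : sm gj N58330 = N57156 := ded_42_2 (flp_e L761319) (flp_j L761278) L772955
theorem L772961 : sm gh N58330 = N57171 := ded_43_2 L761425 (flp_h L761280) L772955
theorem L772963 : sm gf N58330 = N57157 := ded_40_2 (flp_e L761327) L748076 (flp_e L748022) (flp_f L761276) L772955
theorem L772965 : sm gg N57153 = N58331 := rfl
theorem L772967 : sm gb N58331 = N57168 := ded_23_1 L761403 (flp_b L761294) L772965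
theorem L772969 : sm ge N58331 = N57154 := ded_41_1 (flp_g L761302) (flp_e L761300) L772965
theorem L772971 : sm gh N58331 = N57166 := ded_50_2 L761388 (flp_h L761298) L772965
theorem L772973 : sm ge N57160 = N58332 := rfl
theorem L772975 : sm gb N58332 = N57164 := ded_21_1 (flp_e L761376) (flp_b L761353) L772973
theorem L772977 : sm gh N58332 = N57161 := ded_43_2 (flp_e L761358) (flp_h L761356) L772973
theorem L772979 : sm ge N57163 = N58333 := rfl
theorem L772981 : sm gh N58333 = N58333 := ded_43_2 (flp_e L772979) L761375 L772979
theorem L772982 : sm gi N58333 = N57164 := ded_44_2 (flp_e L761376) (flp_i L761373) L772979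
theorem L772984 : sm ge N57165 = N58334 := rfl
theorem L772986 : sm gh N58334 = N58334 := ded_43_2 (flp_e L772984) L761383 L772984
theorem L772987 : sm ge N57167 = N58335 := rfl
theorem L772989 : sm gg N58335 = N57169 := ded_41_2 (flp_e L761407) (flp_g L761396) L772987
theorem L772991 : sm gh N58335 = N58335 := ded_43_2 (flp_e L772987) L761400 L772987
theorem L772992 : sm gi N58335 = N57168 := ded_44_2 (flp_e L761401) (flp_i L761398) L772987
theorem L772994 : sm gf N57168 = N58336 := rfl
theorem L772996 : sm gh N58336 = N57170 := ded_47_2 (flp_f L761412) (flp_h L761405) L772994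
theorem L772998 : sm ge N58336 = N58336 := ded_40_1 (flp_f L772994) (flp_e L761401) L748223 L761401 L772994
theorem L772999 : sm gd N57172 = N58337 := rfl
theorem L773001 : sm ga N58337 = N57563 := ded_12_1 (flp_d L766616) (flp_a L761429) L772999
theorem L773003 : sm gb N58337 = N57460 := ded_20_1 (flp_d L765395) (flp_b L761431) L772999
theorem L773005 : sm gf N58337 = N57173 := ded_35_2 (flp_d L761445) (flp_f L761437) L772999
theorem L773007 : sm gg N58337 = N57504 := ded_36_2 (flp_d L765954) (flp_g L761439) L772999
theorem L773009 : sm gj N58337 = N57598 := ded_37_2 (flp_d L766962) (flp_j L761441) L772999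
theorem L773011 : sm gi N58337 = N57179 := ded_39_2 (flp_d L761546) (flp_i L761443) L772999
theorem L773013 : sm gh N58337 = N57962 := ded_38_2 (flp_d L770480) (flp_h L758752) (flp_d L748358) L761427 L772999
theorem L773015 : sm gc N57173 = N58338 := rfl
theorem L773017 : sm ga N58338 = N57924 := ded_11_1 (flp_c L770108) (flp_a L761447) L773015
theorem L773019 : sm ge N58338 = N57189 := ded_28_2 (flp_c L761705) (flp_e L761457) L773015
theorem L773021 : sm gg N58338 = N57918 := ded_30_2 (flp_c L770038) (flp_g L761451) L773015
theorem L773023 : sm gj N58338 = N58169 := ded_31_2 (flp_c L771986) (flp_j L761453) L773015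
theorem L773025 : sm gh N58338 = N57963 := ded_32_2 (flp_c L770486) (flp_h L761459) L773015
theorem L773027 : sm gi N58338 = N57180 := ded_33_2 (flp_c L761558) (flp_i L761455) L773015
theorem L773029 : sm gd N58338 = N58171 := ded_27_2 L772000 L760345 (flp_c L748374) L761445 L773015
theorem L773031 : sm ge N57174 = N58339 := rfl
theorem L773033 : sm ga N58339 = N57570 := ded_13_1 (flp_e L766684) (flp_a L761463) L773031
theorem L773035 : sm gb N58339 = N57465 := ded_21_1 (flp_e L765460) (flp_b L761465) L773031
theorem L773037 : sm gc N58339 = N58124 := ded_28_1 L771726 (flp_c L761475) L773031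
theorem L773039 : sm gg N58339 = N57508 := ded_41_2 (flp_e L766004) (flp_g L761469) L773031
theorem L773041 : sm gj N58339 = N57614 := ded_42_2 (flp_e L767089) (flp_j L761471) L773031
theorem L773043 : sm gh N58339 = N58339 := ded_43_2 (flp_e L773031) L761477 L773031
theorem L773044 : sm gi N58339 = N57183 := ded_44_2 (flp_e L761606) (flp_i L761473) L773031
theorem L773046 : sm gf N58339 = N57191 := ded_40_2 (flp_e L761734) L748763 (flp_e L748414) (flp_f L761467) L773031
theorem L773048 : sm gd N57175 = N58340 := rfl
theorem L773050 : sm ga N58340 = N57605 := ded_12_1 (flp_d L767004) (flp_a L761480) L773048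
theorem L773052 : sm gb N58340 = N57442 := ded_20_1 (flp_d L765149) (flp_b L761482) L773048
theorem L773054 : sm gf N58340 = N57176 := ded_35_2 (flp_d L761496) (flp_f L761488) L773048
theorem L773056 : sm gg N58340 = N57559 := ded_36_2 (flp_d L766585) (flp_g L761490) L773048
theorem L773058 : sm gj N58340 = N57179 := ded_37_2 (flp_d L761546) (flp_j L761492) L773048
theorem L773060 : sm gi N58340 = N57598 := ded_39_2 (flp_d L766962) (flp_i L761494) L773048
theorem L773062 : sm ge N58340 = N58135 := ded_34_2 L771798 L760161 (flp_d L748523) (flp_e L761486) L773048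
theorem L773064 : sm gh N58340 = N57239 := ded_38_2 (flp_d L762442) (flp_h L749550) (flp_d L748425) L761478 L773048
theorem L773066 : sm gc N57176 = N58341 := rfl
theorem L773068 : sm ga N58341 = N58171 := ded_11_1 L772000 (flp_a L761498) L773066
theorem L773070 : sm ge N58341 = N57192 := ded_28_2 (flp_c L761747) (flp_e L761508) L773066
theorem L773072 : sm gg N58341 = N57925 := ded_30_2 (flp_c L770118) (flp_g L761502) L773066
theorem L773074 : sm gj N58341 = N57180 := ded_31_2 (flp_c L761558) (flp_j L761504) L773066
theorem L773076 : sm gh N58341 = N57240 := ded_32_2 (flp_c L762452) (flp_h L761510) L773066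
theorem L773078 : sm gi N58341 = N58169 := ded_33_2 (flp_c L771986) (flp_i L761506) L773066
theorem L773080 : sm gd N58341 = N57924 := ded_27_2 (flp_c L770108) (flp_d L758345) (flp_c L748441) L761496 L773066
theorem L773082 : sm gd N57177 = N58342 := rfl
theorem L773084 : sm ga N58342 = N57598 := ded_12_1 (flp_d L766962) (flp_a L761514) L773082
theorem L773086 : sm gb N58342 = N57572 := ded_20_1 (flp_d L766702) (flp_b L761516) L773082
theorem L773088 : sm gf N58342 = N57178 := ded_35_2 (flp_d L761530) (flp_f L761522) L773082
theorem L773090 : sm gg N58342 = N57517 := ded_36_2 (flp_d L766101) (flp_g L761524) L773082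
theorem L773092 : sm gj N58342 = N57563 := ded_37_2 (flp_d L766616) (flp_j L761526) L773082
theorem L773094 : sm gi N58342 = N57605 := ded_39_2 (flp_d L767004) (flp_i L761528) L773082
theorem L773096 : sm ge N58342 = N58145 := ded_34_2 L771856 L760206 L748596 (flp_e L761520) L773082
theorem L773098 : sm gh N58342 = N57372 := ded_38_2 (flp_d L764245) (flp_h L751516) (flp_d L748459) L761512 L773082
theorem L773100 : sm gc N57178 = N58343 := rfl
theorem L773102 : sm ga N58343 = N58169 := ded_11_1 (flp_c L771986) (flp_a L761532) L773100
theorem L773104 : sm ge N58343 = N57925 := ded_28_2 (flp_c L770118) (flp_e L761542) L773100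
theorem L773106 : sm gg N58343 = N57192 := ded_30_2 (flp_c L761747) (flp_g L761536) L773100
theorem L773108 : sm gj N58343 = N57924 := ded_31_2 (flp_c L770108) (flp_j L761538) L773100
theorem L773110 : sm gh N58343 = N57373 := ded_32_2 (flp_c L764253) (flp_h L761544) L773100
theorem L773112 : sm gi N58343 = N58171 := ded_33_2 L772000 (flp_i L761540) L773100
theorem L773114 : sm gd N58343 = N57180 := ded_27_2 (flp_c L761558) (flp_d L748497) (flp_c L748475) L761530 L773100
theorem L773116 : sm gc N57179 = N58344 := rfl
theorem L773118 : sm ga N58344 = N57606 := ded_11_1 (flp_c L767014) (flp_a L761548) L773116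
theorem L773120 : sm gf N58344 = N57180 := ded_29_2 (flp_c L761558) (flp_f L761552) L773116
theorem L773122 : sm gg N58344 = N57521 := ded_30_2 (flp_c L766135) (flp_g L761554) L773116
theorem L773124 : sm gh N58344 = N57253 := ded_32_2 (flp_c L762622) (flp_h L761556) L773116
theorem L773126 : sm ge N57179 = N58345 := rfl
theorem L773128 : sm ga N58345 = N57607 := ded_13_1 (flp_e L767022) (flp_a L761548) L773126
theorem L773130 : sm gb N58345 = N57476 := ded_21_1 (flp_e L765575) (flp_b L761550) L773126
theorem L773132 : sm gg N58345 = N57522 := ded_41_2 (flp_e L766143) (flp_g L761554) L773126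
theorem L773134 : sm gj N58345 = N58135 := ded_42_2 (flp_e L773062) L773058 L773126
theorem L773136 : sm gh N58345 = N57254 := ded_43_2 (flp_e L762630) (flp_h L761556) L773126
theorem L773138 : sm gd N58345 = N57183 := ded_34_1 (flp_e L761606) (flp_d L748598) (flp_e L748491) L761546 L773126
theorem L773140 : sm gf N58345 = N57197 := ded_40_2 (flp_e L761821) L748859 (flp_e L748505) (flp_f L761552) L773126
theorem L773142 : sm gb N57180 = N58346 := rfl
theorem L773144 : sm ge N58346 = N57198 := ded_21_2 (flp_b L761833) (flp_e L761562) L773142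
theorem L773146 : sm gg N58346 = N57919 := ded_23_2 (flp_b L770052) (flp_g L761564) L773142
theorem L773148 : sm gh N58346 = N57255 := ded_25_2 (flp_b L762642) (flp_h L761566) L773142
theorem L773150 : sm gc N58346 = N57477 := ded_19_2 (flp_b L765583) (flp_c L753406) (flp_b L748501) L761558 L773142
theorem L773152 : sm ge N57182 = N58347 := rfl
theorem L773154 : sm ga N58347 = N57592 := ded_13_1 L766921 (flp_a L761590) L773152
theorem L773156 : sm gb N58347 = N58121 := ded_21_1 L771705 (flp_b L761602) L773152
theorem L773158 : sm gc N58347 = N57183 := ded_28_1 (flp_e L761606) L761588 L773152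
theorem L773160 : sm gg N58347 = N57528 := ded_41_2 (flp_e L766218) (flp_g L761594) L773152
theorem L773162 : sm gj N58347 = N58102 := ded_42_2 L771588 (flp_j L761596) L773152
theorem L773164 : sm gh N58347 = N57184 := ded_43_2 (flp_e L761620) (flp_h L761598) L773152
theorem L773166 : sm gi N58347 = N58124 := ded_44_2 L771726 (flp_i L761600) L773152
theorem L773168 : sm gf N58347 = N57201 := ded_40_2 (flp_e L761875) L748907 (flp_e L748616) (flp_f L761592) L773152
theorem L773170 : sm gd N57184 = N58348 := rfl
theorem L773172 : sm ga N58348 = N57618 := ded_12_1 (flp_d L767112) (flp_a L761622) L773170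
theorem L773174 : sm gb N58348 = N57739 := ded_20_1 L768393 (flp_b L761624) L773170
theorem L773176 : sm gf N58348 = N57203 := ded_35_2 (flp_d L761906) (flp_f L761633) L773170
theorem L773178 : sm gg N58348 = N57529 := ded_36_2 (flp_d L766232) (flp_g L761628) L773170
theorem L773180 : sm gj N58348 = N57673 := ded_37_2 L767710 (flp_j L761630) L773170
theorem L773182 : sm gi N58348 = N58348 := ded_39_2 (flp_d L773170) L761632 L773170
theorem L773183 : sm gc N58348 = N57272 := ded_27_1 (flp_d L762871) L749975 (flp_d L748655) (flp_c L761626) L773170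
theorem L773185 : sm ge N58348 = N58348 := ded_34_2 (flp_d L773170) (flp_e L761620) L748643 L761620 L773170
theorem L773186 : sm gc N57185 = N58349 := rfl
theorem L773188 : sm ga N58349 = N57488 := ded_11_1 (flp_c L765732) (flp_a L761637) L773186
theorem L773190 : sm ge N58349 = N57935 := ded_28_2 (flp_c L770222) (flp_e L761649) L773186
theorem L773192 : sm gf N58349 = N58152 := ded_29_2 (flp_c L771892) (flp_f L761641) L773186
theorem L773194 : sm gg N58349 = N57920 := ded_30_2 (flp_c L770062) (flp_g L761643) L773186
theorem L773196 : sm gj N58349 = N58161 := ded_31_2 (flp_c L771944) (flp_j L761645) L773186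
theorem L773198 : sm gh N58349 = N57294 := ded_32_2 (flp_c L763201) (flp_h L761651) L773186
theorem L773200 : sm gi N58349 = N57928 := ded_33_2 (flp_c L770152) (flp_i L761647) L773186
theorem L773202 : sm gd N58349 = N58137 := ded_27_2 (flp_c L771806) (flp_d L760167) (flp_c L748665) L761635 L773186
theorem L773204 : sm gb N57186 = N58350 := rfl
theorem L773206 : sm gd N58350 = N57923 := ded_20_2 (flp_b L770096) (flp_d L761669) L773204
theorem L773208 : sm ge N58350 = N58176 := ded_21_2 (flp_b L772022) (flp_e L761657) L773204
theorem L773210 : sm gf N58350 = N58154 := ded_22_2 (flp_b L771904) (flp_f L761659) L773204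
theorem L773212 : sm gg N58350 = N57922 := ded_23_2 (flp_b L770090) (flp_g L761661) L773204
theorem L773214 : sm gj N58350 = N58170 := ded_24_2 (flp_b L771992) (flp_j L761663) L773204
theorem L773216 : sm gh N58350 = N57314 := ded_25_2 (flp_b L763484) (flp_h L761665) L773204
theorem L773218 : sm gi N58350 = N57934 := ded_26_2 (flp_b L770218) (flp_i L761667) L773204
theorem L773220 : sm gc N57187 = N58351 := rfl
theorem L773222 : sm ga N58351 = N57925 := ded_11_1 (flp_c L770118) (flp_a L761673) L773220
theorem L773224 : sm ge N58351 = N58169 := ded_28_2 (flp_c L771986) (flp_e L761685) L773220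
theorem L773226 : sm gf N58351 = N58128 := ded_29_2 (flp_c L771750) (flp_f L761677) L773220
theorem L773228 : sm gg N58351 = N58171 := ded_30_2 L772000 (flp_g L761679) L773220
theorem L773230 : sm gj N58351 = N57189 := ded_31_2 (flp_c L761705) (flp_j L761681) L773220
theorem L773232 : sm gh N58351 = N58299 := ded_32_2 (flp_c L772793) (flp_h L761687) L773220
theorem L773234 : sm gi N58351 = N57192 := ded_33_2 (flp_c L761747) (flp_i L761683) L773220
theorem L773236 : sm gd N58351 = N57918 := ded_27_2 (flp_c L770038) (flp_d L758269) (flp_c L748699) L761671 L773220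
theorem L773238 : sm gc N57188 = N58352 := rfl
theorem L773240 : sm ga N58352 = N57932 := ded_11_1 (flp_c L770200) (flp_a L761691) L773238
theorem L773242 : sm gf N58352 = N57189 := ded_29_2 (flp_c L761705) (flp_f L761695) L773238
theorem L773244 : sm gg N58352 = N58149 := ded_30_2 (flp_c L771876) (flp_g L761697) L773238
theorem L773246 : sm gj N58352 = N58128 := ded_31_2 (flp_c L771750) (flp_j L761699) L773238
theorem L773248 : sm gh N58352 = N58283 := ded_32_2 (flp_c L772672) (flp_h L761703) L773238
theorem L773250 : sm gi N58352 = N57196 := ded_33_2 (flp_c L761809) (flp_i L761701) L773238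
theorem L773252 : sm gd N58352 = N57921 := ded_27_2 (flp_c L770076) (flp_d L758311) (flp_c L748717) L761689 L773238
theorem L773254 : sm ge N57188 = N58353 := rfl
theorem L773256 : sm ga N58353 = N57933 := ded_13_1 (flp_e L770210) (flp_a L761691) L773254
theorem L773258 : sm gb N58353 = N57565 := ded_21_1 (flp_e L766634) (flp_b L761693) L773254
theorem L773260 : sm gg N58353 = N58150 := ded_41_2 (flp_e L771882) (flp_g L761697) L773254
theorem L773262 : sm gj N58353 = N58129 := ded_42_2 (flp_e L771758) (flp_j L761699) L773254
theorem L773264 : sm gh N58353 = N58284 := ded_43_2 (flp_e L772678) (flp_h L761703) L773254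
theorem L773266 : sm gi N58353 = N57197 := ded_44_2 (flp_e L761821) (flp_i L761701) L773254
theorem L773268 : sm gd N58353 = N57191 := ded_34_1 (flp_e L761734) (flp_d L748757) (flp_e L748719) L761689 L773254
theorem L773270 : sm gb N57189 = N58354 := rfl
theorem L773272 : sm gd N58354 = N57922 := ded_20_2 (flp_b L770090) (flp_d L761715) L773270
theorem L773274 : sm gg N58354 = N57923 := ded_23_2 (flp_b L770096) (flp_g L761709) L773270
theorem L773276 : sm gh N58354 = N58300 := ded_25_2 (flp_b L772799) (flp_h L761711) L773270
theorem L773278 : sm gi N58354 = N57198 := ded_26_2 (flp_b L761833) (flp_i L761713) L773270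
theorem L773280 : sm gc N58354 = N57566 := ded_19_2 (flp_b L766640) (flp_c L754700) (flp_b L748733) L761705 L773270
theorem L773282 : sm ge N57190 = N58355 := rfl
theorem L773284 : sm ga N58355 = N57939 := ded_13_1 (flp_e L770257) (flp_a L761719) L773282
theorem L773286 : sm gb N58355 = N57570 := ded_21_1 (flp_e L766684) (flp_b L761721) L773282
theorem L773288 : sm gc N58355 = N57487 := ded_28_1 (flp_e L765723) (flp_c L761731) L773282
theorem L773290 : sm gg N58355 = N57191 := ded_41_2 (flp_e L761734) (flp_g L761725) L773282
theorem L773292 : sm gj N58355 = N58139 := ded_42_2 L771825 (flp_j L761727) L773282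
theorem L773294 : sm gh N58355 = N58355 := ded_43_2 (flp_e L773282) L761733 L773282
theorem L773295 : sm gi N58355 = N57199 := ded_44_2 (flp_e L761841) (flp_i L761729) L773282
theorem L773297 : sm gd N58355 = N58150 := ded_34_1 (flp_e L771882) (flp_d L760231) (flp_e L748749) L761717 L773282
theorem L773299 : sm gf N58355 = N57938 := ded_40_2 (flp_e L770248) L758482 (flp_e L748786) (flp_f L761723) L773282
theorem L773301 : sm gb N57192 = N58356 := rfl
theorem L773303 : sm gd N58356 = N57919 := ded_20_2 (flp_b L770052) (flp_d L761757) L773301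
theorem L773305 : sm gf N58356 = N58133 := ded_22_2 (flp_b L771784) (flp_f L761751) L773301
theorem L773307 : sm gj N58356 = N57198 := ded_24_2 (flp_b L761833) (flp_j L761753) L773301
theorem L773309 : sm gh N58356 = N57385 := ded_25_2 (flp_b L764395) (flp_h L761755) L773301
theorem L773311 : sm gc N58356 = N57583 := ded_19_2 (flp_b L766810) (flp_c L754880) (flp_b L748793) L761747 L773301
theorem L773313 : sm gb N57193 = N58357 := rfl
theorem L773315 : sm gd N58357 = N57198 := ded_20_2 (flp_b L761833) (flp_d L761775) L773313
theorem L773317 : sm ge N58357 = N57926 := ded_21_2 (flp_b L770128) (flp_e L761763) L773313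
theorem L773319 : sm gf N58357 = N58132 := ded_22_2 (flp_b L771778) (flp_f L761765) L773313
theorem L773321 : sm gg N58357 = N57934 := ded_23_2 (flp_b L770218) (flp_g L761767) L773313
theorem L773323 : sm gj N58357 = N57919 := ded_24_2 (flp_b L770052) (flp_j L761769) L773313
theorem L773325 : sm gh N58357 = N57945 := ded_25_2 (flp_b L770325) (flp_h L761771) L773313
theorem L773327 : sm gi N58357 = N57922 := ded_26_2 (flp_b L770090) (flp_i L761773) L773313
theorem L773329 : sm gc N58357 = N58110 := ded_19_2 (flp_b L771634) (flp_c L759988) (flp_b L748805) L761759 L773313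
theorem L773331 : sm gd N57194 = N58358 := rfl
theorem L773333 : sm ga N58358 = N57468 := ded_12_1 (flp_d L765491) (flp_a L761779) L773331
theorem L773335 : sm gb N58358 = N57605 := ded_20_1 (flp_d L767004) (flp_b L761781) L773331
theorem L773337 : sm gf N58358 = N57547 := ded_35_2 (flp_d L766451) (flp_f L761787) L773331
theorem L773339 : sm gg N58358 = N57510 := ded_36_2 (flp_d L766021) (flp_g L761789) L773331
theorem L773341 : sm gj N58358 = N57195 := ded_37_2 (flp_d L761795) (flp_j L761791) L773331
theorem L773343 : sm gi N58358 = N57572 := ded_39_2 (flp_d L766702) (flp_i L761793) L773331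
theorem L773345 : sm ge N58358 = N58164 := ded_34_2 L771960 L760311 (flp_d L748885) (flp_e L761785) L773331
theorem L773347 : sm gh N58358 = N57405 := ded_38_2 (flp_d L764647) (flp_h L751859) (flp_d L748827) L761777 L773331
theorem L773349 : sm gc N57195 = N58359 := rfl
theorem L773351 : sm ga N58359 = N58147 := ded_11_1 (flp_c L771864) (flp_a L761797) L773349
theorem L773353 : sm gf N58359 = N57935 := ded_29_2 (flp_c L770222) (flp_f L761801) L773349
theorem L773355 : sm gg N58359 = N57196 := ded_30_2 (flp_c L761809) (flp_g L761803) L773349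
theorem L773357 : sm gh N58359 = N57406 := ded_32_2 (flp_c L764655) (flp_h L761807) L773349
theorem L773359 : sm gi N58359 = N58149 := ded_33_2 (flp_c L771876) (flp_i L761805) L773349
theorem L773361 : sm gd N58359 = N58131 := ded_27_2 (flp_c L771770) (flp_d L760127) (flp_c L748843) L761795 L773349
theorem L773363 : sm ge N57195 = N58360 := rfl
theorem L773365 : sm ga N58360 = N58148 := ded_13_1 (flp_e L771870) (flp_a L761797) L773363
theorem L773367 : sm gb N58360 = N57607 := ded_21_1 (flp_e L767022) (flp_b L761799) L773363
theorem L773369 : sm gg N58360 = N57197 := ded_41_2 (flp_e L761821) (flp_g L761803) L773363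
theorem L773371 : sm gj N58360 = N58164 := ded_42_2 (flp_e L773345) L773341 L773363
theorem L773373 : sm gh N58360 = N57407 := ded_43_2 (flp_e L764661) (flp_h L761807) L773363
theorem L773375 : sm gi N58360 = N58150 := ded_44_2 (flp_e L771882) (flp_i L761805) L773363
theorem L773377 : sm gd N58360 = N57199 := ded_34_1 (flp_e L761841) (flp_d L748887) (flp_e L748845) L761795 L773363
theorem L773379 : sm gf N58360 = N58153 := ded_40_2 (flp_e L771896) (flp_f L761641) L761649 (flp_f L761801) L773363
theorem L773381 : sm gb N57196 = N58361 := rfl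
theorem L773383 : sm gd N58361 = N58132 := ded_20_2 (flp_b L771778) (flp_d L761819) L773381
theorem L773385 : sm gf N58361 = N57198 := ded_22_2 (flp_b L761833) (flp_f L761813) L773381
theorem L773387 : sm gj N58361 = N58133 := ded_24_2 (flp_b L771784) (flp_j L761815) L773381
theorem L773389 : sm gh N58361 = N57408 := ded_25_2 (flp_b L764669) (flp_h L761817) L773381
theorem L773391 : sm gc N58361 = N57608 := ded_19_2 (flp_b L767034) (flp_c L755073) (flp_b L748857) L761809 L773381
theorem L773393 : sm ge N57196 = N58362 := rfl
theorem L773395 : sm ga N58362 = N58155 := ded_13_1 (flp_e L771910) (flp_a L761811) L773393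
theorem L773397 : sm gc N58362 = N57197 := ded_28_1 (flp_e L761821) L761809 L773393
theorem L773399 : sm gj N58362 = N58134 := ded_42_2 (flp_e L771788) (flp_j L761815) L773393
theorem L773401 : sm gh N58362 = N57409 := ded_43_2 (flp_e L764675) (flp_h L761817) L773393
theorem L773403 : sm ga N57198 = N58363 := rfl
theorem L773405 : sm gc N58363 = N57610 := ded_11_2 (flp_a L767046) (flp_c L761839) L773403
theorem L773407 : sm gg N58363 = N57937 := ded_15_2 (flp_a L770242) (flp_g L761835) L773403
theorem L773409 : sm gh N58363 = N57410 := ded_17_2 (flp_a L764679) (flp_h L761837) L773403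
theorem L773411 : sm ge N57200 = N58364 := rfl
theorem L773413 : sm ga N58364 = N57516 := ded_13_1 (flp_e L766091) (flp_a L761871) L773411
theorem L773415 : sm gb N58364 = N57201 := ded_21_1 (flp_e L761875) L761857 L773411
theorem L773417 : sm gc N58364 = N57604 := ded_28_1 L766998 (flp_c L761873) L773411
theorem L773419 : sm gg N58364 = N57473 := ded_41_2 L765553 (flp_g L761863) L773411
theorem L773421 : sm gj N58364 = N57569 := ded_42_2 (flp_e L766672) (flp_j L761865) L773411
theorem L773423 : sm gh N58364 = N57202 := ded_43_2 (flp_e L761889) (flp_h L761867) L773411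
theorem L773425 : sm gi N58364 = N57611 := ded_44_2 (flp_e L767052) (flp_i L761869) L773411
theorem L773427 : sm gf N58364 = N58121 := ded_40_2 L771705 L760072 (flp_e L748933) (flp_f L761861) L773411
theorem L773429 : sm gd N57201 = N58365 := rfl
theorem L773431 : sm ga N58365 = N57591 := ded_12_1 L766909 (flp_a L761877) L773429
theorem L773433 : sm gg N58365 = N58158 := ded_36_2 L771930 (flp_g L761881) L773429
theorem L773435 : sm gj N58365 = N58101 := ded_37_2 L771578 (flp_j L761883) L773429
theorem L773437 : sm gi N58365 = N58117 := ded_39_2 L771685 (flp_i L761887) L773429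
theorem L773439 : sm ge N58365 = N57585 := ded_34_2 (flp_d L766832) L754910 (flp_d L748917) L761875 L773429
theorem L773441 : sm gh N57203 = N58366 := rfl
theorem L773443 : sm ga N58366 = N57625 := ded_17_1 L767204 (flp_a L761908) L773441
theorem L773445 : sm gb N58366 = N57734 := ded_25_1 L768351 (flp_b L761910) L773441
theorem L773447 : sm gc N58366 = N57426 := ded_32_1 (flp_h L764900) (flp_c L761917) L773441
theorem L773449 : sm ge N58366 = N57623 := ded_43_1 L767178 (flp_e L761919) L773441
theorem L773451 : sm gg N58366 = N57671 := ded_50_1 L767692 (flp_g L761912) L773441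
theorem L773453 : sm gj N58366 = N57643 := ded_52_1 L767400 (flp_j L761914) L773441
theorem L773455 : sm gh N57204 = N58367 := rfl
theorem L773457 : sm ga N58367 = N57338 := ded_17_1 (flp_h L763811) (flp_a L761923) L773455
theorem L773459 : sm gb N58367 = N57640 := ded_25_1 (flp_h L767363) (flp_b L761925) L773455
theorem L773461 : sm gc N58367 = N57849 := ded_32_1 (flp_h L769450) (flp_c L761927) L773455
theorem L773463 : sm ge N58367 = N58367 := ded_43_1 (flp_h L773455) L761931 L773455
theorem L773464 : sm gf N58367 = N57205 := ded_47_1 (flp_h L761938) (flp_f L761932) L773455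
theorem L773466 : sm gg N58367 = N57593 := ded_50_1 (flp_h L766925) (flp_g L761934) L773455
theorem L773468 : sm gj N58367 = N57212 := ded_52_1 (flp_h L762049) (flp_j L761936) L773455
theorem L773470 : sm gi N58367 = N57305 := ded_54_2 (flp_h L763359) (flp_i L750556) (flp_h L749002) L761921 L773455
theorem L773472 : sm gd N57205 = N58368 := rfl
theorem L773474 : sm ga N58368 = N57339 := ded_12_1 (flp_d L763822) (flp_a L761940) L773472
theorem L773476 : sm gb N58368 = N57641 := ded_20_1 (flp_d L767374) (flp_b L761942) L773472
theorem L773478 : sm gg N58368 = N57298 := ded_36_2 (flp_d L763258) (flp_g L761948) L773472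
theorem L773480 : sm gj N58368 = N57213 := ded_37_2 (flp_d L762062) (flp_j L761950) L773472
theorem L773482 : sm gi N58368 = N57306 := ded_39_2 (flp_d L763372) (flp_i L761952) L773472
theorem L773484 : sm ge N58368 = N57326 := ded_34_2 (flp_d L763666) L750893 (flp_d L749036) (flp_e L761946) L773472
theorem L773486 : sm gh N58368 = N57220 := ded_38_2 (flp_d L762180) (flp_h L749272) (flp_d L749015) L761938 L773472
theorem L773488 : sm gh N57206 = N58369 := rfl
theorem L773490 : sm ga N58369 = N57827 := ded_17_1 (flp_h L769286) (flp_a L761956) L773488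
theorem L773492 : sm gb N58369 = N57210 := ded_25_1 (flp_h L762021) (flp_b L761958) L773488
theorem L773494 : sm gc N58369 = N57238 := ded_32_1 (flp_h L762428) (flp_c L761960) L773488
theorem L773496 : sm ge N58369 = N57207 := ded_43_1 (flp_h L761972) (flp_e L761964) L773488
theorem L773498 : sm gf N58369 = N57541 := ded_47_1 (flp_h L766400) (flp_f L761966) L773488
theorem L773500 : sm gg N58369 = N57235 := ded_50_1 (flp_h L762386) (flp_g L761968) L773488
theorem L773502 : sm gj N58369 = N57710 := ded_52_1 (flp_h L768101) (flp_j L761970) L773488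
theorem L773504 : sm gi N58369 = N57958 := ded_54_2 (flp_h L770433) (flp_i L758702) (flp_h L749052) L761954 L773488
theorem L773506 : sm gd N57207 = N58370 := rfl
theorem L773508 : sm ga N58370 = N57876 := ded_12_1 (flp_d L769643) (flp_a L761974) L773506
theorem L773510 : sm gb N58370 = N57211 := ded_20_1 (flp_d L762035) (flp_b L761976) L773506
theorem L773512 : sm gf N58370 = N58370 := ded_35_2 (flp_d L773506) L761980 L773506
theorem L773513 : sm gg N58370 = N57256 := ded_36_2 (flp_d L762650) (flp_g L761981) L773506
theorem L773515 : sm gj N58370 = N57730 := ded_37_2 (flp_d L768298) (flp_j L761983) L773506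
theorem L773517 : sm gi N58370 = N57959 := ded_39_2 (flp_d L770445) (flp_i L761985) L773506
theorem L773519 : sm gh N58370 = N58370 := ded_38_2 (flp_d L773506) (flp_h L761972) L749066 L761972 L773506
theorem L773520 : sm gh N57208 = N58371 := rfl
theorem L773522 : sm ga N58371 = N58009 := ded_17_1 (flp_h L770907) (flp_a L761989) L773520
theorem L773524 : sm gb N58371 = N57542 := ded_25_1 (flp_h L766407) (flp_b L761991) L773520
theorem L773526 : sm gc N58371 = N57222 := ded_32_1 (flp_h L762209) (flp_c L761993) L773520
theorem L773528 : sm ge N58371 = N58371 := ded_43_1 (flp_h L773520) L761997 L773520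
theorem L773529 : sm gf N58371 = N57538 := ded_47_1 (flp_h L766361) (flp_f L761998) L773520
theorem L773531 : sm gg N58371 = N57913 := ded_50_1 L769994 (flp_g L762000) L773520
theorem L773533 : sm gj N58371 = N58262 := ded_52_1 (flp_h L772537) (flp_j L762002) L773520
theorem L773535 : sm gi N58371 = N57752 := ded_54_2 (flp_h L768535) (flp_i L756763) (flp_h L749085) L761987 L773520
theorem L773537 : sm gh N57209 = N58372 := rfl
theorem L773539 : sm ga N58372 = N57759 := ded_17_1 (flp_h L768609) (flp_a L762006) L773537
theorem L773541 : sm gb N58372 = N57541 := ded_25_1 (flp_h L766400) (flp_b L762008) L773537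
theorem L773543 : sm gc N58372 = N57212 := ded_32_1 (flp_h L762049) (flp_c L762010) L773537
theorem L773545 : sm ge N58372 = N58372 := ded_43_1 (flp_h L773537) L762014 L773537
theorem L773546 : sm gf N58372 = N57210 := ded_47_1 (flp_h L762021) (flp_f L762015) L773537
theorem L773548 : sm gg N58372 = N57687 := ded_50_1 (flp_h L767832) (flp_g L762017) L773537
theorem L773550 : sm gj N58372 = N57849 := ded_52_1 (flp_h L769450) (flp_j L762019) L773537
theorem L773552 : sm gi N58372 = N57848 := ded_54_2 (flp_h L769439) (flp_i L757668) (flp_h L749101) L762004 L773537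
theorem L773554 : sm gd N57210 = N58373 := rfl
theorem L773556 : sm ga N58373 = N58010 := ded_12_1 (flp_d L770914) (flp_a L762023) L773554
theorem L773558 : sm gg N58373 = N57940 := ded_36_2 (flp_d L770266) (flp_g L762029) L773554
theorem L773560 : sm gj N58373 = N58309 := ded_37_2 (flp_d L772843) (flp_j L762031) L773554
theorem L773562 : sm gi N58373 = N57960 := ded_39_2 (flp_d L770458) (flp_i L762033) L773554
theorem L773564 : sm ge N57211 = N58374 := rfl
theorem L773566 : sm ga N58374 = N58011 := ded_13_1 (flp_e L770920) (flp_a L762037) L773564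
theorem L773568 : sm gc N58374 = N57334 := ded_28_1 (flp_e L763765) (flp_c L762046) L773564
theorem L773570 : sm gg N58374 = N57941 := ded_41_2 (flp_e L770276) (flp_g L762040) L773564
theorem L773572 : sm gj N58374 = N58335 := ded_42_2 (flp_e L772987) (flp_j L762042) L773564
theorem L773574 : sm gh N58374 = N58374 := ded_43_2 (flp_e L773564) L762048 L773564
theorem L773575 : sm gi N58374 = N57961 := ded_44_2 (flp_e L770468) (flp_i L762044) L773564
theorem L773577 : sm gd N57212 = N58375 := rfl
theorem L773579 : sm ga N58375 = N57764 := ded_12_1 (flp_d L768641) (flp_a L762051) L773577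
theorem L773581 : sm gb N58375 = N57644 := ded_20_1 (flp_d L767402) (flp_b L762053) L773577
theorem L773583 : sm gf N58375 = N57213 := ded_35_2 (flp_d L762062) (flp_f L762056) L773577
theorem L773585 : sm gg N58375 = N57690 := ded_36_2 (flp_d L767871) (flp_g L762058) L773577
theorem L773587 : sm gi N58375 = N57962 := ded_39_2 (flp_d L770480) (flp_i L762060) L773577
theorem L773589 : sm gh N58375 = N57225 := ded_38_2 (flp_d L762245) (flp_h L749345) (flp_d L749137) L762049 L773577
theorem L773591 : sm gc N57213 = N58376 := rfl
theorem L773593 : sm ga N58376 = N58012 := ded_11_1 (flp_c L770929) (flp_a L762064) L773591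
theorem L773595 : sm ge N58376 = N57336 := ded_28_2 (flp_c L763786) (flp_e L762072) L773591
theorem L773597 : sm gg N58376 = N57942 := ded_30_2 (flp_c L770287) (flp_g L762068) L773591
theorem L773599 : sm gh N58376 = N57226 := ded_32_2 (flp_c L762257) (flp_h L762074) L773591
theorem L773601 : sm gi N58376 = N57963 := ded_33_2 (flp_c L770486) (flp_i L762070) L773591
theorem L773603 : sm gd N57214 = N58377 := rfl
theorem L773605 : sm ga N58377 = N57326 := ded_12_1 (flp_d L763666) (flp_a L762078) L773603
theorem L773607 : sm gb N58377 = N57647 := ded_20_1 (flp_d L767435) (flp_b L762080) L773603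
theorem L773609 : sm gf N58377 = N58140 := ded_35_2 (flp_d L771827) (flp_f L762086) L773603
theorem L773611 : sm gg N58377 = N57220 := ded_36_2 (flp_d L762180) (flp_g L762088) L773603
theorem L773613 : sm gj N58377 = N57297 := ded_37_2 (flp_d L763244) (flp_j L762090) L773603
theorem L773615 : sm gi N58377 = N57234 := ded_39_2 (flp_d L762370) (flp_i L762092) L773603
theorem L773617 : sm ge N58377 = N57339 := ded_34_2 (flp_d L763822) L751051 (flp_d L749187) (flp_e L762084) L773603
theorem L773619 : sm gh N58377 = N57298 := ded_38_2 (flp_d L763258) (flp_h L750445) (flp_d L749164) L762076 L773603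
theorem L773621 : sm gh N57215 = N58378 := rfl
theorem L773623 : sm ga N58378 = N57752 := ded_17_1 (flp_h L768535) (flp_a L762096) L773621
theorem L773625 : sm gb N58378 = N57966 := ded_25_1 (flp_h L770508) (flp_b L762098) L773621
theorem L773627 : sm gc N58378 = N58262 := ded_32_1 (flp_h L772537) (flp_c L762100) L773621
theorem L773629 : sm ge N58378 = N58378 := ded_43_1 (flp_h L773621) L762104 L773621
theorem L773630 : sm gf N58378 = N57749 := ded_47_1 (flp_h L768492) (flp_f L762105) L773621
theorem L773632 : sm gg N58378 = N58016 := ded_50_1 (flp_h L770967) (flp_g L762107) L773621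
theorem L773634 : sm gj N58378 = N57222 := ded_52_1 (flp_h L762209) (flp_j L762109) L773621
theorem L773636 : sm gi N58378 = N58009 := ded_54_2 (flp_h L770907) (flp_i L759213) (flp_h L749206) L762094 L773621
theorem L773638 : sm gd N57216 = N58379 := rfl
theorem L773640 : sm ga N58379 = N58269 := ded_12_1 (flp_d L772579) (flp_a L762113) L773638
theorem L773642 : sm gb N58379 = N57968 := ded_20_1 (flp_d L770529) (flp_b L762115) L773638
theorem L773644 : sm gf N58379 = N57964 := ded_35_2 (flp_d L770494) (flp_f L762121) L773638
theorem L773646 : sm gg N58379 = N58047 := ded_36_2 (flp_d L771204) (flp_g L762123) L773638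
theorem L773648 : sm gj N58379 = N57223 := ded_37_2 (flp_d L762220) (flp_j L762125) L773638
theorem L773650 : sm gi N58379 = N57236 := ded_39_2 (flp_d L762402) (flp_i L762127) L773638
theorem L773652 : sm ge N57217 = N58380 := rfl
theorem L773654 : sm ga N58380 = N58279 := ded_13_1 (flp_e L772648) (flp_a L762131) L773652
theorem L773656 : sm gb N58380 = N57989 := ded_21_1 (flp_e L770707) (flp_b L762133) L773652
theorem L773658 : sm gc N58380 = N57344 := ded_28_1 (flp_e L763888) (flp_c L762143) L773652
theorem L773660 : sm gg N58380 = N58093 := ded_41_2 (flp_e L771507) (flp_g L762137) L773652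
theorem L773662 : sm gj N58380 = N57224 := ded_42_2 (flp_e L762232) (flp_j L762139) L773652
theorem L773664 : sm gh N58380 = N58380 := ded_43_2 (flp_e L773652) L762145 L773652
theorem L773665 : sm gi N58380 = N57237 := ded_44_2 (flp_e L762414) (flp_i L762141) L773652
theorem L773667 : sm gh N57218 = N58381 := rfl
theorem L773669 : sm ga N58381 = N57776 := ded_17_1 (flp_h L768769) (flp_a L762148) L773667
theorem L773671 : sm gb N58381 = N57449 := ded_25_1 (flp_h L765251) (flp_b L762150) L773667
theorem L773673 : sm gc N58381 = N57958 := ded_32_1 (flp_h L770433) (flp_c L762152) L773667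
theorem L773675 : sm ge N58381 = N57228 := ded_43_1 (flp_h L762283) (flp_e L762156) L773667
theorem L773677 : sm gf N58381 = N57557 := ded_47_1 (flp_h L766572) (flp_f L762158) L773667
theorem L773679 : sm gg N58381 = N57219 := ded_50_1 (flp_h L762164) (flp_g L762160) L773667
theorem L773681 : sm gj N58381 = N57694 := ded_52_1 (flp_h L767920) (flp_j L762162) L773667
theorem L773683 : sm gi N58381 = N57238 := ded_54_2 (flp_h L762428) (flp_i L749534) (flp_h L749252) L762146 L773667
theorem L773685 : sm gd N57219 = N58382 := rfl
theorem L773687 : sm ga N58382 = N57791 := ded_12_1 (flp_d L768927) (flp_a L762166) L773685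
theorem L773689 : sm gb N58382 = N57648 := ded_20_1 (flp_d L767447) (flp_b L762168) L773685
theorem L773691 : sm gf N58382 = N57220 := ded_35_2 (flp_d L762180) (flp_f L762174) L773685
theorem L773693 : sm gj N58382 = N57225 := ded_37_2 (flp_d L762245) (flp_j L762176) L773685
theorem L773695 : sm gi N58382 = N57239 := ded_39_2 (flp_d L762442) (flp_i L762178) L773685
theorem L773697 : sm gc N57220 = N58383 := rfl
theorem L773699 : sm ga N58383 = N58275 := ded_11_1 (flp_c L772621) (flp_a L762182) L773697
theorem L773701 : sm ge N58383 = N57347 := ded_28_2 (flp_c L763925) (flp_e L762190) L773697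
theorem L773703 : sm gj N58383 = N57226 := ded_31_2 (flp_c L762257) (flp_j L762186) L773697
theorem L773705 : sm gi N58383 = N57240 := ded_33_2 (flp_c L762452) (flp_i L762188) L773697
theorem L773707 : sm gh N57221 = N58384 := rfl
theorem L773709 : sm ga N58384 = N58262 := ded_17_1 (flp_h L772537) (flp_a L762194) L773707
theorem L773711 : sm gb N58384 = N57332 := ded_25_1 (flp_h L763744) (flp_b L762196) L773707
theorem L773713 : sm gc N58384 = N57752 := ded_32_1 (flp_h L768535) (flp_c L762198) L773707
theorem L773715 : sm ge N58384 = N58384 := ded_43_1 (flp_h L773707) L762202 L773707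
theorem L773716 : sm gf N58384 = N57329 := ded_47_1 (flp_h L763711) (flp_f L762203) L773707
theorem L773718 : sm gg N58384 = N57342 := ded_50_1 (flp_h L763865) (flp_g L762205) L773707
theorem L773720 : sm gj N58384 = N58009 := ded_52_1 (flp_h L770907) (flp_j L762207) L773707
theorem L773722 : sm gi N58384 = N57222 := ded_54_2 (flp_h L762209) (flp_i L749301) L749284 L762192 L773707
theorem L773724 : sm gd N57222 = N58385 := rfl
theorem L773726 : sm ga N58385 = N58263 := ded_12_1 (flp_d L772544) (flp_a L762211) L773724
theorem L773728 : sm gb N58385 = N57978 := ded_20_1 (flp_d L770619) (flp_b L762213) L773724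
theorem L773730 : sm gf N58385 = N57974 := ded_35_2 (flp_d L770587) (flp_f L762216) L773724
theorem L773732 : sm gg N58385 = N57858 := ded_36_2 L769526 (flp_g L762218) L773724
theorem L773734 : sm gh N58385 = N57223 := ded_38_2 (flp_d L762220) (flp_h L749314) (flp_d L749307) L762209 L773724
theorem L773736 : sm gc N57223 = N58386 := rfl
theorem L773738 : sm ga N58386 = N58270 := ded_11_1 (flp_c L772585) (flp_a L762222) L773736
theorem L773740 : sm gf N58386 = N57975 := ded_29_2 (flp_c L770595) (flp_f L762226) L773736
theorem L773742 : sm gg N58386 = N57867 := ded_30_2 L769590 (flp_g L762228) L773736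
theorem L773744 : sm gi N58386 = N57250 := ded_33_2 (flp_c L762594) (flp_i L762230) L773736
theorem L773746 : sm gd N58386 = N57226 := ded_27_2 (flp_c L762257) (flp_d L749361) (flp_c L749320) L762220 L773736
theorem L773748 : sm ge N57223 = N58387 := rfl
theorem L773750 : sm ga N58387 = N58271 := ded_13_1 (flp_e L772593) (flp_a L762222) L773748
theorem L773752 : sm gb N58387 = N57982 := ded_21_1 (flp_e L770657) (flp_b L762224) L773748
theorem L773754 : sm gg N58387 = N57864 := ded_41_2 L769568 (flp_g L762228) L773748
theorem L773756 : sm gi N58387 = N57251 := ded_44_2 (flp_e L762602) (flp_i L762230) L773748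
theorem L773758 : sm gd N58387 = N57224 := ded_34_1 (flp_e L762232) (flp_d L749330) (flp_e L749322) L762220 L773748
theorem L773760 : sm gf N57224 = N58388 := rfl
theorem L773762 : sm ga N58388 = N58278 := ded_14_1 L772646 (flp_a L762234) L773760
theorem L773764 : sm gb N58388 = N57703 := ded_22_1 L768027 (flp_b L762236) L773760
theorem L773766 : sm gc N58388 = N57357 := ded_29_1 (flp_f L764046) (flp_c L762238) L773760
theorem L773768 : sm gh N58388 = N58388 := ded_47_2 (flp_f L773760) L762242 L773760
theorem L773769 : sm gi N58388 = N57252 := ded_48_2 (flp_f L762610) (flp_i L762243) L773760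
theorem L773771 : sm ge N58388 = N57231 := ded_40_1 (flp_f L762327) (flp_e L749429) (flp_f L749336) L762232 L773760
theorem L773773 : sm gg N58388 = N57889 := ded_45_2 (flp_f L769757) L757941 L757953 (flp_g L762240) L773760
theorem L773775 : sm gc N57225 = N58389 := rfl
theorem L773777 : sm ga N58389 = N57792 := ded_11_1 (flp_c L768935) (flp_a L762247) L773775
theorem L773779 : sm gf N58389 = N57226 := ded_29_2 (flp_c L762257) (flp_f L762251) L773775
theorem L773781 : sm gg N58389 = N57697 := ded_30_2 (flp_c L767954) (flp_g L762253) L773775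
theorem L773783 : sm gi N58389 = N57253 := ded_33_2 (flp_c L762622) (flp_i L762255) L773775
theorem L773785 : sm gd N58389 = N57975 := ded_27_2 (flp_c L770595) (flp_d L758872) (flp_c L749351) L762245 L773775
theorem L773787 : sm ge N57225 = N58390 := rfl
theorem L773789 : sm ga N58390 = N57793 := ded_13_1 (flp_e L768943) (flp_a L762247) L773787
theorem L773791 : sm gb N58390 = N57651 := ded_21_1 (flp_e L767479) (flp_b L762249) L773787
theorem L773793 : sm gg N58390 = N57698 := ded_41_2 (flp_e L767964) (flp_g L762253) L773787
theorem L773795 : sm gi N58390 = N57254 := ded_44_2 (flp_e L762630) (flp_i L762255) L773787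
theorem L773797 : sm gd N58390 = N57233 := ded_34_1 (flp_e L762357) (flp_d L749444) (flp_e L749353) L762245 L773787
theorem L773799 : sm gf N58390 = N57361 := ded_40_2 (flp_e L764097) L751320 (flp_e L749371) (flp_f L762251) L773787
theorem L773801 : sm gb N57226 = N58391 := rfl
theorem L773803 : sm ge N58391 = N57362 := ded_21_2 (flp_b L764105) (flp_e L762261) L773801
theorem L773805 : sm gg N58391 = N57944 := ded_23_2 (flp_b L770315) (flp_g L762263) L773801
theorem L773807 : sm gi N58391 = N57255 := ded_26_2 (flp_b L762642) (flp_i L762265) L773801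
theorem L773809 : sm gc N58391 = N57652 := ded_19_2 (flp_b L767489) (flp_c L755620) (flp_b L749365) L762257 L773801
theorem L773811 : sm gf N57227 = N58392 := rfl
theorem L773813 : sm ga N58392 = N58003 := ded_14_1 L770849 (flp_a L762269) L773811
theorem L773815 : sm gb N58392 = N57701 := ded_22_1 L767998 (flp_b L762271) L773811
theorem L773817 : sm gc N58392 = N57363 := ded_29_1 (flp_f L764113) (flp_c L762273) L773811
theorem L773819 : sm gd N58392 = N57988 := ded_35_1 (flp_f L770695) (flp_d L762281) L773811
theorem L773821 : sm gj N58392 = N57231 := ded_46_2 (flp_f L762327) (flp_j L762276) L773811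
theorem L773823 : sm gh N58392 = N58392 := ded_47_2 (flp_f L773811) L762278 L773811
theorem L773824 : sm gi N58392 = N57259 := ded_48_2 (flp_f L762695) (flp_i L762279) L773811
theorem L773826 : sm gd N57228 = N58393 := rfl
theorem L773828 : sm ga N58393 = N57798 := ded_12_1 (flp_d L768986) (flp_a L762285) L773826
theorem L773830 : sm gb N58393 = N57450 := ded_20_1 (flp_d L765263) (flp_b L762287) L773826
theorem L773832 : sm gf N58393 = N58393 := ded_35_2 (flp_d L773826) L762291 L773826
theorem L773833 : sm gg N58393 = N57229 := ded_36_2 (flp_d L762298) (flp_g L762292) L773826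
theorem L773835 : sm gj N58393 = N57700 := ded_37_2 (flp_d L767984) (flp_j L762294) L773826
theorem L773837 : sm gi N58393 = N57260 := ded_39_2 (flp_d L762707) (flp_i L762296) L773826
theorem L773839 : sm gh N58393 = N58393 := ded_38_2 (flp_d L773826) (flp_h L762283) L749395 L762283 L773826
theorem L773840 : sm gc N57229 = N58394 := rfl
theorem L773842 : sm ga N58394 = N57803 := ded_11_1 (flp_c L769039) (flp_a L762300) L773840
theorem L773844 : sm gf N58394 = N57230 := ded_29_2 (flp_c L762311) (flp_f L762304) L773840
theorem L773846 : sm gj N58394 = N57232 := ded_31_2 (flp_c L762342) (flp_j L762306) L773840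
theorem L773848 : sm gh N58394 = N58394 := ded_32_2 (flp_c L773840) L762310 L773840
theorem L773849 : sm gi N58394 = N57261 := ded_33_2 (flp_c L762720) (flp_i L762308) L773840
theorem L773851 : sm gb N58394 = N57896 := ded_19_1 L769818 L759768 (flp_c L755642) (flp_b L762302) L773840
theorem L773853 : sm gd N58394 = N57885 := ded_27_2 L769726 (flp_d L758775) (flp_c L749407) L762298 L773840
theorem L773855 : sm ge N57229 = N58395 := rfl
theorem L773857 : sm ga N58395 = N57804 := ded_13_1 (flp_e L769052) (flp_a L762300) L773855
theorem L773859 : sm gb N58395 = N57653 := ded_21_1 (flp_e L767499) (flp_b L762302) L773855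
theorem L773861 : sm gj N58395 = N57233 := ded_42_2 (flp_e L762357) (flp_j L762306) L773855
theorem L773863 : sm gh N58395 = N58395 := ded_43_2 (flp_e L773855) L762310 L773855
theorem L773864 : sm gi N58395 = N57262 := ded_44_2 (flp_e L762732) (flp_i L762308) L773855
theorem L773866 : sm gf N58395 = N57366 := ded_40_2 (flp_e L764159) L751381 (flp_e L749426) (flp_f L762304) L773855
theorem L773868 : sm ge N57232 = N58396 := rfl
theorem L773870 : sm ga N58396 = N57805 := ded_13_1 (flp_e L769061) (flp_a L762344) L773868
theorem L773872 : sm gb N58396 = N57889 := ded_21_1 L769762 (flp_b L762353) L773868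
theorem L773874 : sm gc N58396 = N57233 := ded_28_1 (flp_e L762357) L762342 L773868
theorem L773876 : sm gg N58396 = N57703 := ded_41_2 (flp_e L768018) (flp_g L762348) L773868
theorem L773878 : sm gh N58396 = N58396 := ded_43_2 (flp_e L773868) L762350 L773868
theorem L773879 : sm gi N58396 = N57267 := ded_44_2 (flp_e L762803) (flp_i L762351) L773868
theorem L773881 : sm gf N58396 = N57369 := ded_40_2 (flp_e L764202) L751450 (flp_e L749461) (flp_f L762346) L773868
theorem L773883 : sm gc N57234 = N58397 := rfl
theorem L773885 : sm ga N58397 = N58299 := ded_11_1 (flp_c L772793) (flp_a L762372) L773883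
theorem L773887 : sm ge N58397 = N57373 := ded_28_2 (flp_c L764253) (flp_e L762382) L773883
theorem L773889 : sm gf N58397 = N58141 := ded_29_2 (flp_c L771833) (flp_f L762376) L773883
theorem L773891 : sm gg N58397 = N57240 := ded_30_2 (flp_c L762452) (flp_g L762378) L773883
theorem L773893 : sm gj N58397 = N57930 := ded_31_2 (flp_c L770176) (flp_j L762380) L773883
theorem L773895 : sm gh N58397 = N57925 := ded_32_2 (flp_c L770118) (flp_h L762384) L773883
theorem L773897 : sm gd N58397 = N58048 := ded_27_2 (flp_c L771210) (flp_d L759525) (flp_c L749478) L762370 L773883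
theorem L773899 : sm gd N57235 = N58398 := rfl
theorem L773901 : sm ga N58398 = N57859 := ded_12_1 (flp_d L769530) (flp_a L762388) L773899
theorem L773903 : sm gb N58398 = N57940 := ded_20_1 (flp_d L770266) (flp_b L762390) L773899
theorem L773905 : sm gf N58398 = N57236 := ded_35_2 (flp_d L762402) (flp_f L762396) L773899
theorem L773907 : sm gj N58398 = N57249 := ded_37_2 (flp_d L762582) (flp_j L762398) L773899
theorem L773909 : sm gi N58398 = N57964 := ded_39_2 (flp_d L770494) (flp_i L762400) L773899
theorem L773911 : sm gh N58398 = N58035 := ded_38_2 (flp_d L771123) (flp_h L759438) (flp_d L749496) L762386 L773899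
theorem L773913 : sm gc N57236 = N58399 := rfl
theorem L773915 : sm ga N58399 = N58318 := ded_11_1 (flp_c L772895) (flp_a L762404) L773913
theorem L773917 : sm gg N58399 = N58048 := ded_30_2 (flp_c L771210) (flp_g L762408) L773913
theorem L773919 : sm gj N58399 = N57250 := ded_31_2 (flp_c L762594) (flp_j L762410) L773913
theorem L773921 : sm gh N58399 = N58036 := ded_32_2 (flp_c L771127) (flp_h L762412) L773913
theorem L773923 : sm gd N58399 = N57240 := ded_27_2 (flp_c L762452) (flp_d L749562) (flp_c L749510) L762402 L773913
theorem L773925 : sm ge N57236 = N58400 := rfl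
theorem L773927 : sm ga N58400 = N58319 := ded_13_1 (flp_e L772901) (flp_a L762404) L773925
theorem L773929 : sm gb N58400 = N58217 := ded_21_1 (flp_e L772283) (flp_b L762406) L773925
theorem L773931 : sm gg N58400 = N58049 := ded_41_2 (flp_e L771216) (flp_g L762408) L773925
theorem L773933 : sm gj N58400 = N57251 := ded_42_2 (flp_e L762602) (flp_j L762410) L773925
theorem L773935 : sm gh N58400 = N58037 := ded_43_2 (flp_e L771133) (flp_h L762412) L773925
theorem L773937 : sm gd N58400 = N57237 := ded_34_1 (flp_e L762414) (flp_d L749518) (flp_e L749512) L762402 L773925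
theorem L773939 : sm gf N57237 = N58401 := rfl
theorem L773941 : sm ga N58401 = N58330 := ded_14_1 L772963 (flp_a L762416) L773939
theorem L773943 : sm gb N58401 = N57735 := ded_22_1 L768363 (flp_b L762418) L773939
theorem L773945 : sm gc N58401 = N57380 := ded_29_1 (flp_f L764335) (flp_c L762420) L773939
theorem L773947 : sm gj N58401 = N57252 := ded_46_2 (flp_f L762610) (flp_j L762424) L773939
theorem L773949 : sm gh N58401 = N57273 := ded_47_2 (flp_f L762883) (flp_h L762426) L773939
theorem L773951 : sm ge N58401 = N57259 := ded_40_1 (flp_f L762695) (flp_e L749778) (flp_f L749524) L762414 L773939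
theorem L773953 : sm gd N57238 = N58402 := rfl
theorem L773955 : sm ga N58402 = N57833 := ded_12_1 (flp_d L769336) (flp_a L762430) L773953
theorem L773957 : sm gb N58402 = N57642 := ded_20_1 (flp_d L767384) (flp_b L762432) L773953
theorem L773959 : sm gf N58402 = N57558 := ded_35_2 (flp_d L766579) (flp_f L762436) L773953
theorem L773961 : sm gg N58402 = N57239 := ded_36_2 (flp_d L762442) (flp_g L762438) L773953
theorem L773963 : sm gj N58402 = N57713 := ded_37_2 (flp_d L768139) (flp_j L762440) L773953
theorem L773965 : sm gh N58402 = N57559 := ded_38_2 (flp_d L766585) (flp_h L754657) (flp_d L749540) L762428 L773953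
theorem L773967 : sm gc N57239 = N58403 := rfl
theorem L773969 : sm ga N58403 = N57868 := ded_11_1 (flp_c L769596) (flp_a L762444) L773967
theorem L773971 : sm gf N58403 = N57240 := ded_29_2 (flp_c L762452) (flp_f L762448) L773967
theorem L773973 : sm gj N58403 = N57253 := ded_31_2 (flp_c L762622) (flp_j L762450) L773967
theorem L773975 : sm ge N57239 = N58404 := rfl
theorem L773977 : sm ga N58404 = N57869 := ded_13_1 (flp_e L769602) (flp_a L762444) L773975
theorem L773979 : sm gb N58404 = N57659 := ded_21_1 (flp_e L767570) (flp_b L762446) L773975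
theorem L773981 : sm gj N58404 = N57254 := ded_42_2 (flp_e L762630) (flp_j L762450) L773975
theorem L773983 : sm gh N58404 = N58135 := ded_43_2 (flp_e L773062) L773064 L773975
theorem L773985 : sm gd N58404 = N57262 := ded_34_1 (flp_e L762732) (flp_d L749802) (flp_e L749556) L762442 L773975
theorem L773987 : sm gf N58404 = N57384 := ded_40_2 (flp_e L764383) L751641 (flp_e L749570) (flp_f L762448) L773975
theorem L773989 : sm gb N57240 = N58405 := rfl
theorem L773991 : sm ge N58405 = N57385 := ded_21_2 (flp_b L764395) (flp_e L762456) L773989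
theorem L773993 : sm gj N58405 = N57255 := ded_24_2 (flp_b L762642) (flp_j L762458) L773989
theorem L773995 : sm gc N58405 = N57660 := ded_19_2 (flp_b L767578) (flp_c L755711) (flp_b L749566) L762452 L773989
theorem L773997 : sm gh N57241 = N58406 := rfl
theorem L773999 : sm ga N58406 = N57717 := ded_17_1 (flp_h L768165) (flp_a L762462) L773997
theorem L774001 : sm gb N58406 = N57247 := ded_25_1 (flp_h L762558) (flp_b L762464) L773997
theorem L774003 : sm gc N58406 = N57351 := ded_32_1 (flp_h L763975) (flp_c L762466) L773997
theorem L774005 : sm ge N58406 = N57274 := ded_43_1 (flp_h L762898) (flp_e L762470) L773997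
theorem L774007 : sm gf N58406 = N57331 := ded_47_1 (flp_h L763733) (flp_f L762472) L773997
theorem L774009 : sm gg N58406 = N57340 := ded_50_1 (flp_h L763834) (flp_g L762474) L773997
theorem L774011 : sm gj N58406 = N57911 := ded_52_1 L769970 (flp_j L762476) L773997
theorem L774013 : sm gi N58406 = N57242 := ded_54_2 (flp_h L762478) (flp_i L749590) L749572 L762460 L773997
theorem L774015 : sm gd N57242 = N58407 := rfl
theorem L774017 : sm ga N58407 = N58025 := ded_12_1 (flp_d L771050) (flp_a L762480) L774015
theorem L774019 : sm gb N58407 = N57248 := ded_20_1 (flp_d L762572) (flp_b L762482) L774015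
theorem L774021 : sm gf N58407 = N57954 := ded_35_2 (flp_d L770405) (flp_f L762488) L774015
theorem L774023 : sm gg N58407 = N57376 := ded_36_2 (flp_d L764295) (flp_g L762490) L774015
theorem L774025 : sm gj N58407 = N57912 := ded_37_2 (flp_d L769974) (flp_j L762492) L774015
theorem L774027 : sm gh N58407 = N57243 := ded_38_2 (flp_d L762494) (flp_h L749608) (flp_d L749598) L762478 L774015
theorem L774029 : sm gc N57243 = N58408 := rfl
theorem L774031 : sm ga N58408 = N58029 := ded_11_1 (flp_c L771073) (flp_a L762496) L774029
theorem L774033 : sm gf N58408 = N57955 := ded_29_2 (flp_c L770411) (flp_f L762500) L774029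
theorem L774035 : sm gg N58408 = N57947 := ded_30_2 (flp_c L770347) (flp_g L762502) L774029
theorem L774037 : sm gj N58408 = N58216 := ded_31_2 (flp_c L772277) (flp_j L762504) L774029
theorem L774039 : sm gi N58408 = N57981 := ded_33_2 (flp_c L770649) (flp_i L762506) L774029
theorem L774041 : sm gd N58408 = N57661 := ded_27_2 (flp_c L767584) (flp_d L755717) (flp_c L749614) L762494 L774029
theorem L774043 : sm ge N57243 = N58409 := rfl
theorem L774045 : sm ga N58409 = N57672 := ded_13_1 L767702 (flp_a L762496) L774043
theorem L774047 : sm gb N58409 = N57251 := ded_21_1 (flp_e L762602) (flp_b L762498) L774043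
theorem L774049 : sm gg N58409 = N57948 := ded_41_2 (flp_e L770353) (flp_g L762502) L774043
theorem L774051 : sm gj N58409 = N58217 := ded_42_2 (flp_e L772283) (flp_j L762504) L774043
theorem L774053 : sm gi N58409 = N57982 := ded_44_2 (flp_e L770657) (flp_i L762506) L774043
theorem L774055 : sm gd N58409 = N57244 := ded_34_1 (flp_e L762508) (flp_d L749626) (flp_e L749616) L762494 L774043
theorem L774057 : sm gf N57737 = N58409 := ded_14_0 L774045 L767696 (flp_a L768378)
theorem L774059 : sm gh N57245 = N58410 := rfl
theorem L774061 : sm ga N58410 = N57849 := ded_17_1 (flp_h L769450) (flp_a L762528) L774059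
theorem L774063 : sm gb N58410 = N57331 := ded_25_1 (flp_h L763733) (flp_b L762530) L774059
theorem L774065 : sm gc N58410 = N57338 := ded_32_1 (flp_h L763811) (flp_c L762532) L774059
theorem L774067 : sm ge N58410 = N58410 := ded_43_1 (flp_h L774059) L762536 L774059
theorem L774068 : sm gf N58410 = N57247 := ded_47_1 (flp_h L762558) (flp_f L762537) L774059
theorem L774070 : sm gg N58410 = N57720 := ded_50_1 (flp_h L768205) (flp_g L762539) L774059
theorem L774072 : sm gj N58410 = N57759 := ded_52_1 (flp_h L768609) (flp_j L762541) L774059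
theorem L774074 : sm gi N58410 = N57246 := ded_54_2 (flp_h L762543) (flp_i L749661) L749644 L762526 L774059
theorem L774076 : sm gd N57246 = N58411 := rfl
theorem L774078 : sm ga N58411 = N57850 := ded_12_1 (flp_d L769459) (flp_a L762545) L774076
theorem L774080 : sm gb N58411 = N57954 := ded_20_1 (flp_d L770405) (flp_b L762547) L774076
theorem L774082 : sm gf N58411 = N57248 := ded_35_2 (flp_d L762572) (flp_f L762552) L774076
theorem L774084 : sm gg N58411 = N57721 := ded_36_2 (flp_d L768218) (flp_g L762554) L774076
theorem L774086 : sm gj N58411 = N58035 := ded_37_2 (flp_d L771123) (flp_j L762556) L774076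
theorem L774088 : sm gh N58411 = N57249 := ded_38_2 (flp_d L762582) (flp_h L749702) (flp_d L749669) L762543 L774076
theorem L774090 : sm gd N57247 = N58412 := rfl
theorem L774092 : sm ga N58412 = N58309 := ded_12_1 (flp_d L772843) (flp_a L762560) L774090
theorem L774094 : sm gg N58412 = N57343 := ded_36_2 (flp_d L763878) (flp_g L762566) L774090
theorem L774096 : sm gj N58412 = N58010 := ded_37_2 (flp_d L770914) (flp_j L762568) L774090
theorem L774098 : sm gi N58412 = N57248 := ded_39_2 (flp_d L762572) (flp_i L762570) L774090
theorem L774100 : sm gc N57248 = N58413 := rfl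
theorem L774102 : sm ga N58413 = N58310 := ded_11_1 (flp_c L772849) (flp_a L762574) L774100
theorem L774104 : sm gg N58413 = N57378 := ded_30_2 (flp_c L764313) (flp_g L762576) L774100
theorem L774106 : sm gj N58413 = N58036 := ded_31_2 (flp_c L771127) (flp_j L762578) L774100
theorem L774108 : sm gh N58413 = N57250 := ded_32_2 (flp_c L762594) (flp_h L762580) L774100
theorem L774110 : sm gd N58413 = N57373 := ded_27_2 (flp_c L764253) (flp_d L751525) (flp_c L749694) L762572 L774100
theorem L774112 : sm ge N57248 = N58414 := rfl
theorem L774114 : sm ga N58414 = N58311 := ded_13_1 (flp_e L772855) (flp_a L762574) L774112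
theorem L774116 : sm gg N58414 = N57379 := ded_41_2 (flp_e L764325) (flp_g L762576) L774112
theorem L774118 : sm gj N58414 = N58037 := ded_42_2 (flp_e L771133) (flp_j L762578) L774112
theorem L774120 : sm gh N58414 = N57251 := ded_43_2 (flp_e L762602) (flp_h L762580) L774112
theorem L774122 : sm gd N58414 = N57278 := ded_34_1 (flp_e L762959) (flp_d L750066) (flp_e L749696) L762572 L774112
theorem L774124 : sm gc N57249 = N58415 := rfl
theorem L774126 : sm ga N58415 = N57860 := ded_11_1 (flp_c L769536) (flp_a L762584) L774124
theorem L774128 : sm gf N58415 = N57250 := ded_29_2 (flp_c L762594) (flp_f L762588) L774124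
theorem L774130 : sm gg N58415 = N57724 := ded_30_2 (flp_c L768252) (flp_g L762590) L774124
theorem L774132 : sm gi N58415 = N57975 := ded_33_2 (flp_c L770595) (flp_i L762592) L774124
theorem L774134 : sm gd N58415 = N57253 := ded_27_2 (flp_c L762622) (flp_d L749734) (flp_c L749708) L762582 L774124
theorem L774136 : sm ge N57249 = N58416 := rfl
theorem L774138 : sm ga N58416 = N57861 := ded_13_1 (flp_e L769544) (flp_a L762584) L774136
theorem L774140 : sm gb N58416 = N57956 := ded_21_1 (flp_e L770419) (flp_b L762586) L774136
theorem L774142 : sm gg N58416 = N57725 := ded_41_2 (flp_e L768262) (flp_g L762590) L774136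
theorem L774144 : sm gi N58416 = N57976 := ded_44_2 (flp_e L770599) (flp_i L762592) L774136
theorem L774146 : sm gd N58416 = N57264 := ded_34_1 (flp_e L762759) (flp_d L749827) (flp_e L749710) L762582 L774136
theorem L774148 : sm gb N57250 = N58417 := rfl
theorem L774150 : sm gd N58417 = N57255 := ded_20_2 (flp_b L762642) (flp_d L762600) L774148
theorem L774152 : sm gg N58417 = N57949 := ded_23_2 (flp_b L770359) (flp_g L762598) L774148
theorem L774154 : sm ge N57250 = N58418 := rfl
theorem L774156 : sm ga N58418 = N58321 := ded_13_1 (flp_e L772913) (flp_a L762596) L774154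
theorem L774158 : sm gc N58418 = N57251 := ded_28_1 (flp_e L762602) L762594 L774154
theorem L774160 : sm gg N58418 = N57950 := ded_41_2 (flp_e L770365) (flp_g L762598) L774154
theorem L774162 : sm gd N58418 = N57402 := ded_34_1 (flp_e L764617) L751843 (flp_e L749748) (flp_d L762600) L774154
theorem L774164 : sm gf N57251 = N58419 := rfl
theorem L774166 : sm ga N58419 = N58322 := ded_14_1 (flp_f L772919) (flp_a L762604) L774164
theorem L774168 : sm gb N58419 = N57737 := ded_22_1 L774057 L774047 L774164
theorem L774170 : sm gd N58419 = N57252 := ded_35_1 (flp_f L762610) (flp_d L762608) L774164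
theorem L774172 : sm gg N57252 = N58420 := rfl
theorem L774174 : sm ga N58420 = N57977 := ded_15_1 L770617 (flp_a L762612) L774172
theorem L774176 : sm gb N58420 = N57267 := ded_23_1 L762809 (flp_b L762614) L774172
theorem L774178 : sm gc N58420 = N57404 := ded_30_1 (flp_g L764631) (flp_c L762616) L774172
theorem L774180 : sm ge N58420 = N57266 := ded_41_1 (flp_g L762785) (flp_e L762620) L774172
theorem L774182 : sm gh N58420 = N57271 := ded_50_2 L762864 (flp_h L762618) L774172
theorem L774184 : sm gi N58420 = N57889 := ded_51_2 (flp_g L773773) L773769 L774172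
theorem L774186 : sm gf N58420 = N57418 := ded_45_1 L764793 L757268 (flp_g L749730) L762610 L774172
theorem L774188 : sm gj N58239 = N58420 := ded_31_0 L774178 (flp_j L764645) (flp_c L772406)
theorem L774190 : sm gb N57253 = N58421 := rfl
theorem L774192 : sm gf N58421 = N57255 := ded_22_2 (flp_b L762642) (flp_f L762626) L774190
theorem L774194 : sm gg N58421 = N57727 := ded_23_2 (flp_b L768282) (flp_g L762628) L774190
theorem L774196 : sm gc N58421 = N57668 := ded_19_2 (flp_b L767668) (flp_c L755801) (flp_b L749738) L762622 L774190
theorem L774198 : sm ge N57253 = N58422 := rfl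
theorem L774200 : sm ga N58422 = N57871 := ded_13_1 (flp_e L769618) (flp_a L762624) L774198
theorem L774202 : sm gc N58422 = N57254 := ded_28_1 (flp_e L762630) L762622 L774198
theorem L774204 : sm gg N58422 = N57728 := ded_41_2 (flp_e L768286) (flp_g L762628) L774198
theorem L774206 : sm gf N58422 = N57409 := ded_40_2 (flp_e L764675) L751879 (flp_e L749748) (flp_f L762626) L774198
theorem L774208 : sm ga N57255 = N58423 := rfl
theorem L774210 : sm gc N58423 = N57670 := ded_11_2 (flp_a L767678) (flp_c L762648) L774208
theorem L774212 : sm ge N58423 = N57410 := ded_13_2 (flp_a L764679) (flp_e L762644) L774208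
theorem L774214 : sm gg N58423 = N57951 := ded_15_2 (flp_a L770373) (flp_g L762646) L774208
theorem L774216 : sm gb N58423 = N58329 := ded_10_2 (flp_a L772951) (flp_b L761266) (flp_a L749746) L762642 L774208
theorem L774218 : sm gc N57256 = N58424 := rfl
theorem L774220 : sm ga N58424 = N57801 := ded_11_1 L769026 (flp_a L762652) L774218
theorem L774222 : sm gf N58424 = N57257 := ded_29_2 (flp_c L762663) (flp_f L762656) L774218
theorem L774224 : sm gj N58424 = N57263 := ded_31_2 (flp_c L762744) (flp_j L762658) L774218
theorem L774226 : sm gh N58424 = N58424 := ded_32_2 (flp_c L774218) L762662 L774218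
theorem L774227 : sm gi N58424 = N57885 := ded_33_2 L769726 (flp_i L762660) L774218
theorem L774229 : sm gb N58424 = N58003 := ded_19_1 (flp_c L770847) L759170 (flp_c L758531) (flp_b L762654) L774218
theorem L774231 : sm gd N58424 = N57261 := ded_27_2 (flp_c L762720) (flp_d L749802) (flp_c L749758) L762650 L774218
theorem L774233 : sm ge N57256 = N58425 := rfl
theorem L774235 : sm ga N58425 = N57888 := ded_13_1 (flp_e L769752) (flp_a L762652) L774233
theorem L774237 : sm gb N58425 = N57941 := ded_21_1 (flp_e L770276) (flp_b L762654) L774233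
theorem L774239 : sm gj N58425 = N57264 := ded_42_2 (flp_e L762759) (flp_j L762658) L774233
theorem L774241 : sm gh N58425 = N58425 := ded_43_2 (flp_e L774233) L762662 L774233
theorem L774242 : sm gi N58425 = N57965 := ded_44_2 (flp_e L770500) (flp_i L762660) L774233
theorem L774244 : sm gf N57258 = N58426 := rfl
theorem L774246 : sm ga N58426 = N57896 := ded_14_1 (flp_f L769816) (flp_a L762681) L774244
theorem L774248 : sm gb N58426 = N57731 := ded_22_1 L768314 (flp_b L762683) L774244
theorem L774250 : sm gc N58426 = N58089 := ded_29_1 L771475 (flp_c L762685) L774244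
theorem L774252 : sm gd N58426 = N57259 := ded_35_1 (flp_f L762695) (flp_d L762693) L774244
theorem L774254 : sm gj N58426 = N57265 := ded_46_2 (flp_f L762770) (flp_j L762688) L774244
theorem L774256 : sm gh N58426 = N58426 := ded_47_2 (flp_f L774244) L762690 L774244
theorem L774257 : sm gi N58426 = N57988 := ded_48_2 (flp_f L770695) (flp_i L762691) L774244
theorem L774259 : sm gg N57259 = N58427 := rfl
theorem L774261 : sm ga N58427 = N57997 := ded_15_1 L770801 (flp_a L762697) L774259
theorem L774263 : sm gb N58427 = N57733 := ded_23_1 L768341 (flp_b L762699) L774259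
theorem L774265 : sm gc N58427 = N57412 := ded_30_1 (flp_g L764703) (flp_c L762701) L774259
theorem L774267 : sm gh N58427 = N57280 := ded_50_2 (flp_g L762985) (flp_h L762705) L774259
theorem L774269 : sm gf N58427 = N58427 := ded_45_1 (flp_g L774259) (flp_f L762695) L749786 L762695 L774259
theorem L774270 : sm gj N58427 = N57754 := ded_49_2 L768553 L762801 (flp_g L762785) (flp_j L762703) L774259
theorem L774272 : sm gc N57260 = N58428 := rfl
theorem L774274 : sm ga N58428 = N57880 := ded_11_1 (flp_c L769681) (flp_a L762709) L774272
theorem L774276 : sm gf N58428 = N58428 := ded_29_2 (flp_c L774272) L762713 L774272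
theorem L774277 : sm gg N58428 = N57261 := ded_30_2 (flp_c L762720) (flp_g L762714) L774272
theorem L774279 : sm gj N58428 = N57733 := ded_31_2 (flp_c L768336) (flp_j L762716) L774272
theorem L774281 : sm gh N58428 = N57268 := ded_32_2 (flp_c L762815) (flp_h L762718) L774272
theorem L774283 : sm gb N58428 = N57754 := ded_19_1 (flp_c L768550) L756784 (flp_c L755538) (flp_b L762711) L774272
theorem L774285 : sm ge N57260 = N58429 := rfl
theorem L774287 : sm ga N58429 = N57881 := ded_13_1 (flp_e L769692) (flp_a L762709) L774285
theorem L774289 : sm gb N58429 = N57643 := ded_21_1 (flp_e L767392) (flp_b L762711) L774285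
theorem L774291 : sm gg N58429 = N57262 := ded_41_2 (flp_e L762732) (flp_g L762714) L774285
theorem L774293 : sm gj N58429 = N57734 := ded_42_2 (flp_e L768345) (flp_j L762716) L774285
theorem L774295 : sm gh N58429 = N57269 := ded_43_2 (flp_e L762828) (flp_h L762718) L774285
theorem L774297 : sm ge N57261 = N58430 := rfl
theorem L774299 : sm ga N58430 = N57891 := ded_13_1 (flp_e L769772) (flp_a L762722) L774297
theorem L774301 : sm gb N58430 = N58239 := ded_21_1 (flp_e L772404) (flp_b L762730) L774297
theorem L774303 : sm gc N58430 = N57262 := ded_28_1 (flp_e L762732) L762720 L774297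
theorem L774305 : sm gj N58430 = N57267 := ded_42_2 (flp_e L762803) (flp_j L762726) L774297
theorem L774307 : sm gh N58430 = N57270 := ded_43_2 (flp_e L762841) (flp_h L762728) L774297
theorem L774309 : sm gf N58430 = N57416 := ded_40_2 (flp_e L764763) L751969 (flp_e L749818) (flp_f L762724) L774297
theorem L774311 : sm ge N57263 = N58431 := rfl
theorem L774313 : sm ga N58431 = N57806 := ded_13_1 (flp_e L769074) (flp_a L762746) L774311
theorem L774315 : sm gb N58431 = N58278 := ded_21_1 (flp_e L772639) (flp_b L762755) L774311
theorem L774317 : sm gc N58431 = N57264 := ded_28_1 (flp_e L762759) L762744 L774311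
theorem L774319 : sm gg N58431 = N57736 := ded_41_2 (flp_e L768365) (flp_g L762750) L774311
theorem L774321 : sm gh N58431 = N58431 := ded_43_2 (flp_e L774311) L762752 L774311
theorem L774322 : sm gi N58431 = N57893 := ded_44_2 (flp_e L769792) (flp_i L762753) L774311
theorem L774324 : sm gf N58431 = N58091 := ded_40_2 (flp_e L771491) L759795 L749853 (flp_f L762748) L774311
theorem L774326 : sm gf N57264 = N58432 := rfl
theorem L774328 : sm ga N58432 = N57889 := ded_14_1 (flp_f L769757) (flp_a L762761) L774326
theorem L774330 : sm gb N58432 = N57736 := ded_22_1 L768374 (flp_b L762763) L774326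
theorem L774332 : sm gc N58432 = N58091 := ded_29_1 (flp_f L774324) L774317 L774326
theorem L774334 : sm gh N58432 = N58432 := ded_47_2 (flp_f L774326) L762767 L774326
theorem L774335 : sm gi N58432 = N57977 := ded_48_2 (flp_f L770607) (flp_i L762768) L774326
theorem L774337 : sm ge N58432 = N57265 := ded_40_1 (flp_f L762770) (flp_e L749855) (flp_f L749833) L762759 L774326
theorem L774339 : sm gg N58432 = N58278 := ded_45_2 L772646 L761024 (flp_f L756548) (flp_g L762765) L774326
theorem L774341 : sm gd N57267 = N58433 := rfl
theorem L774343 : sm ga N58433 = N57892 := ded_12_1 (flp_d L769784) (flp_a L762805) L774341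
theorem L774345 : sm gf N58433 = N57419 := ded_35_2 (flp_d L764799) (flp_f L762813) L774341
theorem L774347 : sm gg N58433 = N57737 := ded_36_2 (flp_d L768376) (flp_g L762809) L774341
theorem L774349 : sm ge N57268 = N58434 := rfl
theorem L774351 : sm ga N58434 = N57897 := ded_13_1 (flp_e L769827) (flp_a L762817) L774349
theorem L774353 : sm gb N58434 = N57916 := ded_21_1 (flp_e L770023) (flp_b L762825) L774349
theorem L774355 : sm gc N58434 = N57269 := ded_28_1 (flp_e L762828) L762815 L774349
theorem L774357 : sm gg N58434 = N57270 := ded_41_2 (flp_e L762841) (flp_g L762820) L774349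
theorem L774359 : sm gj N58434 = N57738 := ded_42_2 (flp_e L768380) (flp_j L762822) L774349
theorem L774361 : sm gi N58434 = N58434 := ded_44_2 (flp_e L774349) L762824 L774349
theorem L774362 : sm gd N58434 = N57901 := ded_56_3 L769870 (flp_b L764826) L764824 (flp_h L767241) (flp_f L767239) (flp_e L755350) (flp_d L740988) L723813 (flp_b L727208) (flp_a L742847) (flp_h L742845) L725813 (flp_e L742839) L742837 (flp_c L736390) L736388 L726010 (flp_h L731983) (flp_f L731981) (flp_e L713664) (flp_d L692965) L670938 (flp_b L667038) (flp_a L688587) (flp_h L688585) L666394 (flp_e L666468) L666466 L379426 L554324 L264513 L182203 (flp_f L183036) (flp_e L263852) (flp_d L383961) (flp_c L669025) (flp_b L691123) (flp_a L711997) L730598 L730602 (flp_e L721896) (flp_d L737933) (flp_c L748570) L748568 L733021 (flp_h L723558) (flp_f L723490) (flp_e L740602) (flp_d L750562) L750560 (flp_b L757604) L757602 L759335 (flp_f L768735) L768733 L768969 (flp_c L768984) (flp_b L769690) (flp_a L774274) L774281 L762819 L774349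
theorem L774364 : sm gf N57900 = N58434 := ded_45_5 L774357 L762852 L752146 (flp_f L758100) (flp_g L769864)
theorem L774366 : sm gf N57269 = N58435 := rfl
theorem L774368 : sm ga N58435 = N57619 := ded_14_1 L767130 (flp_a L762830) L774366
theorem L774370 : sm gb N58435 = N57673 := ded_22_1 (flp_f L767704) (flp_b L762832) L774366
theorem L774372 : sm gc N58435 = N57900 := ded_29_1 L774364 L774355 L774366
theorem L774374 : sm gd N58435 = N57530 := ded_35_1 L766259 (flp_d L762839) L774366
theorem L774376 : sm gj N58435 = N57739 := ded_46_2 (flp_f L768389) (flp_j L762836) L774366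
theorem L774378 : sm gi N58435 = N58435 := ded_48_2 (flp_f L774366) L762838 L774366
theorem L774379 : sm ge N58435 = N58435 := ded_40_1 (flp_f L774366) (flp_e L762828) L749926 L762828 L774366
theorem L774380 : sm gg N58435 = N57421 := ded_45_2 (flp_f L764822) L752120 (flp_f L749955) (flp_g L762834) L774366
theorem L774382 : sm gd N57271 = N58436 := rfl
theorem L774384 : sm ga N58436 = N58000 := ded_12_1 L770824 (flp_a L762858) L774382
theorem L774386 : sm gb N58436 = N57272 := ded_20_1 (flp_d L762871) (flp_b L762860) L774382
theorem L774388 : sm gf N58436 = N57425 := ded_35_2 (flp_d L764887) (flp_f L762869) L774382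
theorem L774390 : sm gg N58436 = N57279 := ded_36_2 L762979 (flp_g L762864) L774382
theorem L774392 : sm gj N58436 = N57917 := ded_37_2 L770034 (flp_j L762866) L774382
theorem L774394 : sm gi N58436 = N58436 := ded_39_2 (flp_d L774382) L762868 L774382
theorem L774395 : sm gc N58436 = N58095 := ded_27_1 L771523 (flp_c L764972) L764974 (flp_c L762862) L774382
theorem L774397 : sm ge N58436 = N58436 := ded_34_2 (flp_d L774382) (flp_e L762856) L749959 L762856 L774382
theorem L774398 : sm gh N57272 = N58437 := rfl
theorem L774400 : sm ga N58437 = N57906 := ded_17_1 (flp_h L769920) (flp_a L762873) L774398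
theorem L774402 : sm ge N58437 = N58437 := ded_43_1 (flp_h L774398) L762882 L774398
theorem L774403 : sm gf N58437 = N57426 := ded_47_1 (flp_h L764900) (flp_f L762875) L774398
theorem L774405 : sm gg N58437 = N57740 := ded_50_1 (flp_h L768399) (flp_g L762877) L774398
theorem L774407 : sm gj N58437 = N57763 := ded_52_1 L768638 (flp_j L762879) L774398
theorem L774409 : sm gg N57273 = N58438 := rfl
theorem L774411 : sm ga N58438 = N57999 := ded_15_1 L770817 (flp_a L762885) L774409
theorem L774413 : sm gb N58438 = N57738 := ded_23_1 L768386 (flp_b L762887) L774409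
theorem L774415 : sm gc N58438 = N57425 := ded_30_1 L764893 (flp_c L762889) L774409
theorem L774417 : sm gd N58438 = N57908 := ded_36_1 L769946 (flp_d L762891) L774409
theorem L774419 : sm ge N58438 = N57280 := ded_41_1 (flp_g L762985) (flp_e L762896) L774409
theorem L774421 : sm gi N58438 = N58438 := ded_51_2 (flp_g L774409) L762895 L774409
theorem L774422 : sm gf N58438 = N58095 := ded_45_1 (flp_g L771521) (flp_f L759839) (flp_g L749990) L762883 L774409
theorem L774424 : sm gj N58438 = N57916 := ded_49_2 L770027 (flp_j L762866) L762864 (flp_j L762893) L774409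
theorem L774426 : sm gd N57274 = N58439 := rfl
theorem L774428 : sm ga N58439 = N57741 := ded_12_1 (flp_d L768404) (flp_a L762900) L774426
theorem L774430 : sm gb N58439 = N57277 := ded_20_1 (flp_d L762945) (flp_b L762902) L774426
theorem L774432 : sm gf N58439 = N58439 := ded_35_2 (flp_d L774426) L762906 L774426
theorem L774433 : sm gg N58439 = N57341 := ded_36_2 (flp_d L763850) (flp_g L762907) L774426
theorem L774435 : sm gj N58439 = N57626 := ded_37_2 L767218 (flp_j L762909) L774426
theorem L774437 : sm gi N58439 = N57275 := ded_39_2 (flp_d L762913) (flp_i L762911) L774426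
theorem L774439 : sm gc N58439 = N57621 := ded_27_1 (flp_d L767143) L755236 (flp_d L756602) (flp_c L762904) L774426
theorem L774441 : sm gh N58439 = N58439 := ded_38_2 (flp_d L774426) (flp_h L762898) L750005 L762898 L774426
theorem L774442 : sm ge N57275 = N58440 := rfl
theorem L774444 : sm ga N58440 = N57674 := ded_13_1 L767718 (flp_a L762915) L774442
theorem L774446 : sm gb N58440 = N57278 := ded_21_1 (flp_e L762959) (flp_b L762917) L774442
theorem L774448 : sm gc N58440 = N57622 := ded_28_1 (flp_e L767157) (flp_c L762924) L774442
theorem L774450 : sm gg N58440 = N57377 := ded_41_2 (flp_e L764305) (flp_g L762920) L774442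
theorem L774452 : sm gj N58440 = N57628 := ded_42_2 (flp_e L767227) (flp_j L762922) L774442
theorem L774454 : sm gh N58440 = N57276 := ded_43_2 (flp_e L762928) (flp_h L762926) L774442
theorem L774456 : sm gf N57740 = N58440 := ded_14_0 L774444 L767720 (flp_a L768401)
theorem L774458 : sm ge N57277 = N58441 := rfl
theorem L774460 : sm ga N58441 = N58335 := ded_13_1 (flp_e L772987) (flp_a L762947) L774458
theorem L774462 : sm gc N58441 = N58093 := ded_28_1 (flp_e L771507) (flp_c L762956) L774458
theorem L774464 : sm gg N58441 = N57344 := ded_41_2 (flp_e L763888) (flp_g L762950) L774458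
theorem L774466 : sm gj N58441 = N58011 := ded_42_2 (flp_e L770920) (flp_j L762952) L774458
theorem L774468 : sm gh N58441 = N58441 := ded_43_2 (flp_e L774458) L762958 L774458
theorem L774469 : sm gi N58441 = N57278 := ded_44_2 (flp_e L762959) (flp_i L762954) L774458
theorem L774471 : sm gf N57278 = N58442 := rfl
theorem L774473 : sm ga N58442 = N58336 := ded_14_1 (flp_f L772994) (flp_a L762961) L774471
theorem L774475 : sm gb N58442 = N57740 := ded_22_1 L774456 L774446 L774471
theorem L774477 : sm gc N58442 = N58094 := ded_29_1 (flp_f L771514) (flp_c L762963) L774471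
theorem L774479 : sm gj N58442 = N58038 := ded_46_2 (flp_f L771139) (flp_j L762967) L774471
theorem L774481 : sm gh N58442 = N57279 := ded_47_2 (flp_f L762971) (flp_h L762969) L774471
theorem L774483 : sm ge N58442 = N58442 := ded_40_1 (flp_f L774471) (flp_e L762959) L750070 L762959 L774471
theorem L774484 : sm gd N57281 = N58443 := rfl
theorem L774486 : sm ga N58443 = N57675 := ded_12_1 (flp_d L767724) (flp_a L763000) L774484
theorem L774488 : sm gb N58443 = N57298 := ded_20_1 (flp_d L763258) (flp_b L763002) L774484
theorem L774490 : sm gf N58443 = N57678 := ded_35_2 (flp_d L767756) (flp_f L763008) L774484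
theorem L774492 : sm gg N58443 = N57641 := ded_36_2 (flp_d L767374) (flp_g L763010) L774484
theorem L774494 : sm gj N58443 = N57282 := ded_37_2 (flp_d L763016) (flp_j L763012) L774484
theorem L774496 : sm gi N58443 = N57289 := ded_39_2 (flp_d L763127) (flp_i L763014) L774484
theorem L774498 : sm ge N58443 = N57742 := ded_34_2 (flp_d L768418) L756625 (flp_d L750147) (flp_e L763006) L774484
theorem L774500 : sm gh N58443 = N57647 := ded_38_2 (flp_d L767435) (flp_h L755574) (flp_d L750123) L762998 L774484
theorem L774502 : sm gc N57282 = N58444 := rfl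
theorem L774504 : sm ga N58444 = N57676 := ded_11_1 (flp_c L767738) (flp_a L763018) L774502
theorem L774506 : sm ge N58444 = N58032 := ded_28_2 (flp_c L771095) (flp_e L763028) L774502
theorem L774508 : sm gf N58444 = N57682 := ded_29_2 (flp_c L767787) (flp_f L763022) L774502
theorem L774510 : sm gg N58444 = N57663 := ded_30_2 (flp_c L767616) (flp_g L763024) L774502
theorem L774512 : sm gh N58444 = N58183 := ded_32_2 (flp_c L772066) (flp_h L763030) L774502
theorem L774514 : sm gi N58444 = N57294 := ded_33_2 (flp_c L763201) (flp_i L763026) L774502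
theorem L774516 : sm gd N58444 = N57666 := ded_27_2 (flp_c L767654) (flp_d L755793) (flp_c L750157) L763016 L774502
theorem L774518 : sm gh N57283 = N58445 := rfl
theorem L774520 : sm ga N58445 = N57587 := ded_17_1 (flp_h L766857) (flp_a L763034) L774518
theorem L774522 : sm gb N58445 = N57694 := ded_25_1 (flp_h L767920) (flp_b L763036) L774518
theorem L774524 : sm gc N58445 = N57286 := ded_32_1 (flp_h L763082) (flp_c L763038) L774518
theorem L774526 : sm ge N58445 = N57284 := ded_43_1 (flp_h L763050) (flp_e L763042) L774518
theorem L774528 : sm gf N58445 = N58104 := ded_47_1 (flp_h L771596) (flp_f L763044) L774518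
theorem L774530 : sm gg N58445 = N57287 := ded_50_1 (flp_h L763096) (flp_g L763046) L774518
theorem L774532 : sm gj N58445 = N57449 := ded_52_1 (flp_h L765251) (flp_j L763048) L774518
theorem L774534 : sm gi N58445 = N57584 := ded_54_2 (flp_h L766816) (flp_i L754886) (flp_h L750179) L763032 L774518
theorem L774536 : sm gd N57284 = N58446 := rfl
theorem L774538 : sm ga N58446 = N57624 := ded_12_1 (flp_d L767180) (flp_a L763052) L774536
theorem L774540 : sm gb N58446 = N57700 := ded_20_1 (flp_d L767984) (flp_b L763054) L774536
theorem L774542 : sm gf N58446 = N58446 := ded_35_2 (flp_d L774536) L763058 L774536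
theorem L774543 : sm gg N58446 = N57288 := ded_36_2 (flp_d L763112) (flp_g L763059) L774536
theorem L774545 : sm gj N58446 = N57450 := ded_37_2 (flp_d L765263) (flp_j L763061) L774536
theorem L774547 : sm gi N58446 = N57623 := ded_39_2 (flp_d L767165) (flp_i L763063) L774536
theorem L774549 : sm gc N58446 = N57535 := ded_27_1 (flp_d L766326) L754381 (flp_d L750241) (flp_c L763056) L774536
theorem L774551 : sm gh N58446 = N58446 := ded_38_2 (flp_d L774536) (flp_h L763050) L750193 L763050 L774536
theorem L774552 : sm gh N57285 = N58447 := rfl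
theorem L774554 : sm ga N58447 = N57456 := ded_17_1 (flp_h L765349) (flp_a L763067) L774552
theorem L774556 : sm gb N58447 = N57305 := ded_25_1 (flp_h L763359) (flp_b L763069) L774552
theorem L774558 : sm gc N58447 = N58104 := ded_32_1 (flp_h L771596) (flp_c L763071) L774552
theorem L774560 : sm ge N58447 = N58447 := ded_43_1 (flp_h L774552) L763075 L774552
theorem L774561 : sm gf N58447 = N57286 := ded_47_1 (flp_h L763082) (flp_f L763076) L774552
theorem L774563 : sm gg N58447 = N57586 := ded_50_1 (flp_h L766844) (flp_g L763078) L774552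
theorem L774565 : sm gj N58447 = N57451 := ded_52_1 (flp_h L765275) (flp_j L763080) L774552
theorem L774567 : sm gi N58447 = N57640 := ded_54_2 (flp_h L767363) (flp_i L755500) (flp_h L750211) L763065 L774552
theorem L774569 : sm gd N57286 = N58448 := rfl
theorem L774571 : sm ga N58448 = N57677 := ded_12_1 (flp_d L767746) (flp_a L763084) L774569
theorem L774573 : sm gb N58448 = N57306 := ded_20_1 (flp_d L763372) (flp_b L763086) L774569
theorem L774575 : sm gg N58448 = N57289 := ded_36_2 (flp_d L763127) (flp_g L763090) L774569
theorem L774577 : sm gj N58448 = N57452 := ded_37_2 (flp_d L765288) (flp_j L763092) L774569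
theorem L774579 : sm gi N58448 = N57641 := ded_39_2 (flp_d L767374) (flp_i L763094) L774569
theorem L774581 : sm ge N58448 = N57537 := ded_34_2 (flp_d L766349) L754405 (flp_d L750241) (flp_e L763088) L774569
theorem L774583 : sm gh N58448 = N57453 := ded_38_2 (flp_d L765302) (flp_h L753103) (flp_d L750222) L763082 L774569
theorem L774585 : sm gd N57287 = N58449 := rfl
theorem L774587 : sm ga N58449 = N57678 := ded_12_1 (flp_d L767756) (flp_a L763098) L774585
theorem L774589 : sm gb N58449 = N57695 := ded_20_1 (flp_d L767932) (flp_b L763100) L774585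
theorem L774591 : sm gf N58449 = N57675 := ded_35_2 (flp_d L767724) (flp_f L763106) L774585
theorem L774593 : sm gj N58449 = N57291 := ded_37_2 (flp_d L763158) (flp_j L763108) L774585
theorem L774595 : sm gi N58449 = N57665 := ded_39_2 (flp_d L767642) (flp_i L763110) L774585
theorem L774597 : sm gh N58449 = N58187 := ded_38_2 (flp_d L772096) (flp_h L760453) (flp_d L750253) L763096 L774585
theorem L774599 : sm ge N57288 = N58450 := rfl
theorem L774601 : sm ga N58450 = N57679 := ded_13_1 (flp_e L767764) (flp_a L763114) L774599
theorem L774603 : sm gb N58450 = N57702 := ded_21_1 (flp_e L768007) (flp_b L763116) L774599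
theorem L774605 : sm gc N58450 = N58092 := ded_28_1 (flp_e L771502) (flp_c L763124) L774599
theorem L774607 : sm gj N58450 = N57292 := ded_42_2 (flp_e L763170) (flp_j L763120) L774599
theorem L774609 : sm gh N58450 = N58450 := ded_43_2 (flp_e L774599) L763126 L774599
theorem L774610 : sm gi N58450 = N57671 := ded_44_2 (flp_e L767684) (flp_i L763122) L774599
theorem L774612 : sm gf N58450 = N58215 := ded_40_2 (flp_e L772270) L760617 (flp_e L750376) (flp_f L763118) L774599
theorem L774614 : sm gc N57289 = N58451 := rfl
theorem L774616 : sm ga N58451 = N57680 := ded_11_1 (flp_c L767773) (flp_a L763129) L774614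
theorem L774618 : sm ge N58451 = N58086 := ded_28_2 (flp_c L771453) (flp_e L763137) L774614
theorem L774620 : sm gf N58451 = N58159 := ded_29_2 (flp_c L771932) (flp_f L763133) L774614
theorem L774622 : sm gj N58451 = N57294 := ded_31_2 (flp_c L763201) (flp_j L763135) L774614
theorem L774624 : sm gh N58451 = N58161 := ded_32_2 (flp_c L771944) (flp_h L763139) L774614
theorem L774626 : sm gd N57290 = N58452 := rfl
theorem L774628 : sm ga N58452 = N57681 := ded_12_1 (flp_d L767777) (flp_a L763143) L774626
theorem L774630 : sm gb N58452 = N57690 := ded_20_1 (flp_d L767871) (flp_b L763145) L774626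
theorem L774632 : sm gf N58452 = N57654 := ded_35_2 (flp_d L767512) (flp_f L763150) L774626
theorem L774634 : sm gg N58452 = N57644 := ded_36_2 (flp_d L767402) (flp_g L763152) L774626
theorem L774636 : sm gj N58452 = N58187 := ded_37_2 (flp_d L772096) (flp_j L763154) L774626
theorem L774638 : sm gi N58452 = N58178 := ded_39_2 (flp_d L772034) (flp_i L763156) L774626
theorem L774640 : sm gh N58452 = N57291 := ded_38_2 (flp_d L763158) (flp_h L750304) (flp_d L750295) L763141 L774626
theorem L774642 : sm gc N57291 = N58453 := rfl
theorem L774644 : sm ga N58453 = N57682 := ded_11_1 (flp_c L767787) (flp_a L763160) L774642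
theorem L774646 : sm gf N58453 = N57676 := ded_29_2 (flp_c L767738) (flp_f L763164) L774642
theorem L774648 : sm gg N58453 = N57650 := ded_30_2 (flp_c L767469) (flp_g L763166) L774642
theorem L774650 : sm gi N58453 = N57666 := ded_33_2 (flp_c L767654) (flp_i L763168) L774642
theorem L774652 : sm gd N58453 = N57294 := ded_27_2 (flp_c L763201) (flp_d L750353) (flp_c L750310) L763158 L774642
theorem L774654 : sm ge N57291 = N58454 := rfl
theorem L774656 : sm ga N58454 = N57683 := ded_13_1 (flp_e L767793) (flp_a L763160) L774654
theorem L774658 : sm gb N58454 = N57698 := ded_21_1 (flp_e L767964) (flp_b L763162) L774654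
theorem L774660 : sm gg N58454 = N57651 := ded_41_2 (flp_e L767479) (flp_g L763166) L774654
theorem L774662 : sm gi N58454 = N57667 := ded_44_2 (flp_e L767660) (flp_i L763168) L774654
theorem L774664 : sm gd N58454 = N57292 := ded_34_1 (flp_e L763170) (flp_d L750320) (flp_e L750312) L763158 L774654
theorem L774666 : sm gf N58454 = N58206 := ded_40_2 (flp_e L772225) L760575 (flp_e L755912) (flp_f L763164) L774654
theorem L774668 : sm gc N57293 = N58455 := rfl
theorem L774670 : sm ga N58455 = N57666 := ded_11_1 (flp_c L767654) (flp_a L763187) L774668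
theorem L774672 : sm gf N58455 = N57294 := ded_29_2 (flp_c L763201) (flp_f L763191) L774668
theorem L774674 : sm gg N58455 = N57637 := ded_30_2 (flp_c L767333) (flp_g L763193) L774668
theorem L774676 : sm gj N58455 = N58159 := ded_31_2 (flp_c L771932) (flp_j L763195) L774668
theorem L774678 : sm gh N58455 = N58152 := ded_32_2 (flp_c L771892) (flp_h L763199) L774668
theorem L774680 : sm gi N58455 = N57682 := ded_33_2 (flp_c L767787) (flp_i L763197) L774668
theorem L774682 : sm gd N58455 = N57676 := ded_27_2 (flp_c L767738) (flp_d L755904) (flp_c L750341) L763185 L774668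
theorem L774684 : sm ge N57293 = N58456 := rfl
theorem L774686 : sm ga N58456 = N57667 := ded_13_1 (flp_e L767660) (flp_a L763187) L774684
theorem L774688 : sm gb N58456 = N57313 := ded_21_1 (flp_e L763472) (flp_b L763189) L774684
theorem L774690 : sm gg N58456 = N57638 := ded_41_2 (flp_e L767343) (flp_g L763193) L774684
theorem L774692 : sm gj N58456 = N58160 := ded_42_2 (flp_e L771936) (flp_j L763195) L774684
theorem L774694 : sm gh N58456 = N58153 := ded_43_2 (flp_e L771896) (flp_h L763199) L774684
theorem L774696 : sm gi N58456 = N57683 := ded_44_2 (flp_e L767793) (flp_i L763197) L774684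
theorem L774698 : sm gd N58456 = N57295 := ded_34_1 (flp_e L763209) (flp_d L750379) (flp_e L750343) L763185 L774684
theorem L774700 : sm gf N58456 = N57407 := ded_40_2 (flp_e L764661) L751873 (flp_e L750361) (flp_f L763191) L774684
theorem L774702 : sm gb N57294 = N58457 := rfl
theorem L774704 : sm ge N58457 = N58087 := ded_21_2 (flp_b L771457) (flp_e L763205) L774702
theorem L774706 : sm gg N58457 = N57953 := ded_23_2 (flp_b L770397) (flp_g L763207) L774702
theorem L774708 : sm gc N58457 = N57314 := ded_19_2 (flp_b L763484) (flp_c L750669) (flp_b L750357) L763201 L774702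
theorem L774710 : sm gd N57296 = N58458 := rfl
theorem L774712 : sm ga N58458 = N57335 := ded_12_1 (flp_d L763774) (flp_a L763229) L774710
theorem L774714 : sm gb N58458 = N57681 := ded_20_1 (flp_d L767777) (flp_b L763231) L774710
theorem L774716 : sm gf N58458 = N57297 := ded_35_2 (flp_d L763244) (flp_f L763236) L774710
theorem L774718 : sm gg N58458 = N58203 := ded_36_2 (flp_d L772197) (flp_g L763238) L774710
theorem L774720 : sm gj N58458 = N58140 := ded_37_2 (flp_d L771827) (flp_j L763240) L774710
theorem L774722 : sm gi N58458 = N57929 := ded_39_2 (flp_d L770162) (flp_i L763242) L774710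
theorem L774724 : sm gh N58458 = N57302 := ded_38_2 (flp_d L763318) (flp_h L750511) (flp_d L750422) L763227 L774710
theorem L774726 : sm gc N57297 = N58459 := rfl
theorem L774728 : sm ga N58459 = N57336 := ded_11_1 (flp_c L763786) (flp_a L763246) L774726
theorem L774730 : sm ge N58459 = N58012 := ded_28_2 (flp_c L770929) (flp_e L763254) L774726
theorem L774732 : sm gg N58459 = N57943 := ded_30_2 (flp_c L770301) (flp_g L763250) L774726
theorem L774734 : sm gh N58459 = N57303 := ded_32_2 (flp_c L763332) (flp_h L763256) L774726
theorem L774736 : sm gi N58459 = N57930 := ded_33_2 (flp_c L770176) (flp_i L763252) L774726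
theorem L774738 : sm gd N58459 = N58073 := ded_27_2 (flp_c L771389) (flp_d L759672) (flp_c L750437) L763244 L774726
theorem L774740 : sm gc N57298 = N58460 := rfl
theorem L774742 : sm ga N58460 = N57347 := ded_11_1 (flp_c L763925) (flp_a L763260) L774740
theorem L774744 : sm ge N58460 = N58275 := ded_28_2 (flp_c L772621) (flp_e L763268) L774740
theorem L774746 : sm gf N58460 = N58165 := ded_29_2 (flp_c L771962) (flp_f L763262) L774740
theorem L774748 : sm gj N58460 = N57303 := ded_31_2 (flp_c L763332) (flp_j L763264) L774740
theorem L774750 : sm gi N58460 = N57307 := ded_33_2 (flp_c L763384) (flp_i L763266) L774740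
theorem L774752 : sm gd N58460 = N58312 := ded_27_2 (flp_c L772863) (flp_d L761192) (flp_c L750449) L763258 L774740
theorem L774754 : sm gd N57299 = N58461 := rfl
theorem L774756 : sm ga N58461 = N57353 := ded_12_1 (flp_d L764008) (flp_a L763272) L774754
theorem L774758 : sm gb N58461 = N57721 := ded_20_1 (flp_d L768218) (flp_b L763274) L774754
theorem L774760 : sm gf N58461 = N57718 := ded_35_2 (flp_d L768181) (flp_f L763279) L774754
theorem L774762 : sm gg N58461 = N57954 := ded_36_2 (flp_d L770405) (flp_g L763281) L774754
theorem L774764 : sm gj N58461 = N58264 := ded_37_2 (flp_d L772550) (flp_j L763283) L774754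
theorem L774766 : sm gi N58461 = N58005 := ded_39_2 (flp_d L770869) (flp_i L763285) L774754
theorem L774768 : sm gh N58461 = N57300 := ded_38_2 (flp_d L763287) (flp_h L750476) (flp_d L750467) L763270 L774754
theorem L774770 : sm gc N57300 = N58462 := rfl
theorem L774772 : sm ga N58462 = N57355 := ded_11_1 (flp_c L764030) (flp_a L763289) L774770
theorem L774774 : sm gf N58462 = N57719 := ded_29_2 (flp_c L768195) (flp_f L763293) L774770
theorem L774776 : sm gg N58462 = N57955 := ded_30_2 (flp_c L770411) (flp_g L763295) L774770
theorem L774778 : sm gj N58462 = N58312 := ded_31_2 (flp_c L772863) (flp_j L763297) L774770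
theorem L774780 : sm gi N58462 = N57308 := ded_33_2 (flp_c L763398) (flp_i L763299) L774770
theorem L774782 : sm gd N58462 = N57303 := ded_27_2 (flp_c L763332) (flp_d L750529) (flp_c L750482) L763287 L774770
theorem L774784 : sm ge N57300 = N58463 := rfl
theorem L774786 : sm ga N58463 = N57356 := ded_13_1 (flp_e L764038) (flp_a L763289) L774784
theorem L774788 : sm gb N58463 = N57725 := ded_21_1 (flp_e L768262) (flp_b L763291) L774784
theorem L774790 : sm gg N58463 = N57956 := ded_41_2 (flp_e L770419) (flp_g L763295) L774784
theorem L774792 : sm gj N58463 = N58313 := ded_42_2 (flp_e L772869) (flp_j L763297) L774784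
theorem L774794 : sm gi N58463 = N57309 := ded_44_2 (flp_e L763412) (flp_i L763299) L774784
theorem L774796 : sm gd N58463 = N57301 := ded_34_1 (flp_e L763301) (flp_d L750494) (flp_e L750484) L763287 L774784
theorem L774798 : sm gf N58463 = N58260 := ded_40_2 (flp_e L772523) L760884 (flp_e L756381) (flp_f L763293) L774784
theorem L774800 : sm gc N57302 = N58464 := rfl
theorem L774802 : sm ga N58464 = N57360 := ded_11_1 (flp_c L764091) (flp_a L763320) L774800
theorem L774804 : sm gf N58464 = N57303 := ded_29_2 (flp_c L763332) (flp_f L763324) L774800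
theorem L774806 : sm gg N58464 = N58205 := ded_30_2 (flp_c L772219) (flp_g L763326) L774800
theorem L774808 : sm gj N58464 = N58165 := ded_31_2 (flp_c L771962) (flp_j L763328) L774800
theorem L774810 : sm gi N58464 = N57312 := ded_33_2 (flp_c L763460) (flp_i L763330) L774800
theorem L774812 : sm gd N58464 = N57719 := ded_27_2 (flp_c L768195) (flp_d L756371) (flp_c L750517) L763318 L774800
theorem L774814 : sm ge N57302 = N58465 := rfl
theorem L774816 : sm ga N58465 = N57361 := ded_13_1 (flp_e L764097) (flp_a L763320) L774814
theorem L774818 : sm gb N58465 = N57683 := ded_21_1 (flp_e L767793) (flp_b L763322) L774814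
theorem L774820 : sm gg N58465 = N58206 := ded_41_2 (flp_e L772225) (flp_g L763326) L774814
theorem L774822 : sm gj N58465 = N58166 := ded_42_2 (flp_e L771968) (flp_j L763328) L774814
theorem L774824 : sm gi N58465 = N57313 := ded_44_2 (flp_e L763472) (flp_i L763330) L774814
theorem L774826 : sm gd N58465 = N57304 := ded_34_1 (flp_e L763342) (flp_d L750539) (flp_e L750519) L763318 L774814
theorem L774828 : sm gf N58465 = N57793 := ded_40_2 (flp_e L768943) L757136 (flp_e L750537) (flp_f L763324) L774814
theorem L774830 : sm gb N57303 = N58466 := rfl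
theorem L774832 : sm ge N58466 = N58276 := ded_21_2 (flp_b L772627) (flp_e L763336) L774830
theorem L774834 : sm gg N58466 = N57957 := ded_23_2 (flp_b L770427) (flp_g L763338) L774830
theorem L774836 : sm gi N58466 = N57314 := ded_26_2 (flp_b L763484) (flp_i L763340) L774830
theorem L774838 : sm gd N57305 = N58467 := rfl
theorem L774840 : sm ga N58467 = N57372 := ded_12_1 (flp_d L764245) (flp_a L763361) L774838
theorem L774842 : sm gf N58467 = N57306 := ded_35_2 (flp_d L763372) (flp_f L763366) L774838
theorem L774844 : sm gg N58467 = N57594 := ded_36_2 (flp_d L766934) (flp_g L763368) L774838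
theorem L774846 : sm gj N58467 = N57962 := ded_37_2 (flp_d L770480) (flp_j L763370) L774838
theorem L774848 : sm gh N58467 = N57598 := ded_38_2 (flp_d L766962) (flp_h L755025) (flp_d L750562) L763359 L774838
theorem L774850 : sm gc N57306 = N58468 := rfl
theorem L774852 : sm ga N58468 = N57373 := ded_11_1 (flp_c L764253) (flp_a L763374) L774850
theorem L774854 : sm ge N58468 = N58299 := ded_28_2 (flp_c L772793) (flp_e L763380) L774850
theorem L774856 : sm gg N58468 = N57307 := ded_30_2 (flp_c L763384) (flp_g L763376) L774850
theorem L774858 : sm gj N58468 = N57963 := ded_31_2 (flp_c L770486) (flp_j L763378) L774850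
theorem L774860 : sm gh N58468 = N58169 := ded_32_2 (flp_c L771986) (flp_h L763382) L774850
theorem L774862 : sm gd N58468 = N58310 := ded_27_2 (flp_c L772849) (flp_d L761186) (flp_c L750575) L763372 L774850
theorem L774864 : sm gb N57307 = N58469 := rfl
theorem L774866 : sm gd N58469 = N58314 := ded_20_2 (flp_b L772875) (flp_d L763396) L774864
theorem L774868 : sm ge N58469 = N58328 := ded_21_2 (flp_b L772947) (flp_e L763388) L774864
theorem L774870 : sm gf N58469 = N58167 := ded_22_2 (flp_b L771974) (flp_f L763390) L774864
theorem L774872 : sm gj N58469 = N57314 := ded_24_2 (flp_b L763484) (flp_j L763392) L774864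
theorem L774874 : sm gh N58469 = N58170 := ded_25_2 (flp_b L771992) (flp_h L763394) L774864
theorem L774876 : sm gb N57308 = N58470 := rfl
theorem L774878 : sm gd N58470 = N57314 := ded_20_2 (flp_b L763484) (flp_d L763410) L774876
theorem L774880 : sm gf N58470 = N58291 := ded_22_2 (flp_b L772725) (flp_f L763402) L774876
theorem L774882 : sm gg N58470 = N57983 := ded_23_2 (flp_b L770663) (flp_g L763404) L774876
theorem L774884 : sm gj N58470 = N58314 := ded_24_2 (flp_b L772875) (flp_j L763406) L774876
theorem L774886 : sm gh N58470 = N58292 := ded_25_2 (flp_b L772735) (flp_h L763408) L774876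
theorem L774888 : sm gc N58470 = N58327 := ded_19_2 L772945 L761260 (flp_b L750599) L763398 L774876
theorem L774890 : sm ge N57308 = N58471 := rfl
theorem L774892 : sm ga N58471 = N57402 := ded_13_1 (flp_e L764617) (flp_a L763400) L774890
theorem L774894 : sm gc N58471 = N57309 := ded_28_1 (flp_e L763412) L763398 L774890
theorem L774896 : sm gg N58471 = N57984 := ded_41_2 (flp_e L770667) (flp_g L763404) L774890
theorem L774898 : sm gj N58471 = N58315 := ded_42_2 (flp_e L772881) (flp_j L763406) L774890
theorem L774900 : sm gh N58471 = N58293 := ded_43_2 (flp_e L772743) (flp_h L763408) L774890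
theorem L774902 : sm gd N58471 = N58321 := ded_34_1 (flp_e L772913) L761226 (flp_e L750673) (flp_d L763410) L774890
theorem L774904 : sm gf N58471 = N58307 := ded_40_2 (flp_e L772835) L761166 (flp_e L761076) (flp_f L763402) L774890
theorem L774906 : sm gd N57310 = N58472 := rfl
theorem L774908 : sm ga N58472 = N57405 := ded_12_1 (flp_d L764647) (flp_a L763430) L774906
theorem L774910 : sm gb N58472 = N57470 := ded_20_1 (flp_d L765515) (flp_b L763432) L774906
theorem L774912 : sm gf N58472 = N57631 := ded_35_2 (flp_d L767258) (flp_f L763438) L774906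
theorem L774914 : sm gg N58472 = N57577 := ded_36_2 (flp_d L766762) (flp_g L763440) L774906
theorem L774916 : sm gj N58472 = N57311 := ded_37_2 (flp_d L763446) (flp_j L763442) L774906
theorem L774918 : sm gi N58472 = N58193 := ded_39_2 (flp_d L772131) (flp_i L763444) L774906
theorem L774920 : sm gh N58472 = N57468 := ded_38_2 (flp_d L765491) (flp_h L753330) (flp_d L750633) L763428 L774906
theorem L774922 : sm gc N57311 = N58473 := rfl
theorem L774924 : sm ga N58473 = N57406 := ded_11_1 (flp_c L764655) (flp_a L763448) L774922
theorem L774926 : sm gf N58473 = N57634 := ded_29_2 (flp_c L767299) (flp_f L763452) L774922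
theorem L774928 : sm gg N58473 = N57312 := ded_30_2 (flp_c L763460) (flp_g L763454) L774922
theorem L774930 : sm gh N58473 = N58147 := ded_32_2 (flp_c L771864) (flp_h L763458) L774922
theorem L774932 : sm gi N58473 = N58205 := ded_33_2 (flp_c L772219) (flp_i L763456) L774922
theorem L774934 : sm gd N58473 = N57847 := ded_27_2 L769431 L757666 (flp_c L750649) L763446 L774922
theorem L774936 : sm ge N57311 = N58474 := rfl
theorem L774938 : sm ga N58474 = N57407 := ded_13_1 (flp_e L764661) (flp_a L763448) L774936
theorem L774940 : sm gb N58474 = N57638 := ded_21_1 (flp_e L767343) (flp_b L763450) L774936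
theorem L774942 : sm gg N58474 = N57313 := ded_41_2 (flp_e L763472) (flp_g L763454) L774936
theorem L774944 : sm gh N58474 = N58148 := ded_43_2 (flp_e L771870) (flp_h L763458) L774936
theorem L774946 : sm gi N58474 = N58206 := ded_44_2 (flp_e L772225) (flp_i L763456) L774936
theorem L774948 : sm gd N58474 = N57316 := ded_34_1 (flp_e L763508) (flp_d L750693) (flp_e L750651) L763446 L774936
theorem L774950 : sm gf N58474 = N57667 := ded_40_2 (flp_e L767660) L755797 (flp_e L755428) (flp_f L763452) L774936
theorem L774952 : sm gb N57312 = N58475 := rfl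
theorem L774954 : sm gd N58475 = N58291 := ded_20_2 (flp_b L772725) (flp_d L763470) L774952
theorem L774956 : sm gf N58475 = N57314 := ded_22_2 (flp_b L763484) (flp_f L763464) L774952
theorem L774958 : sm gj N58475 = N58167 := ded_24_2 (flp_b L771974) (flp_j L763466) L774952
theorem L774960 : sm gh N58475 = N58154 := ded_25_2 (flp_b L771904) (flp_h L763468) L774952
theorem L774962 : sm ge N57312 = N58476 := rfl
theorem L774964 : sm ga N58476 = N57409 := ded_13_1 (flp_e L764675) (flp_a L763462) L774962
theorem L774966 : sm gc N58476 = N57313 := ded_28_1 (flp_e L763472) L763460 L774962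
theorem L774968 : sm gj N58476 = N58168 := ded_42_2 (flp_e L771980) (flp_j L763466) L774962
theorem L774970 : sm gh N58476 = N58155 := ded_43_2 (flp_e L771910) (flp_h L763468) L774962
theorem L774972 : sm gd N58476 = N58068 := ded_34_1 (flp_e L771358) L759640 (flp_e L761076) (flp_d L763470) L774962
theorem L774974 : sm gf N58476 = N57871 := ded_40_2 (flp_e L769618) L757792 (flp_e L750673) (flp_f L763464) L774962
theorem L774976 : sm ga N57314 = N58477 := rfl
theorem L774978 : sm ge N58477 = N58329 := ded_13_2 (flp_a L772951) (flp_e L763486) L774976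
theorem L774980 : sm gg N58477 = N57987 := ded_15_2 (flp_a L770689) (flp_g L763488) L774976
theorem L774982 : sm gb N58477 = N57410 := ded_10_2 (flp_a L764679) (flp_b L751887) (flp_a L750671) L763484 L774976
theorem L774984 : sm ge N57315 = N58478 := rfl
theorem L774986 : sm ga N58478 = N57417 := ded_13_1 (flp_e L764775) (flp_a L763492) L774984
theorem L774988 : sm gb N58478 = N57480 := ded_21_1 (flp_e L765623) (flp_b L763494) L774984
theorem L774990 : sm gc N58478 = N57377 := ded_28_1 (flp_e L764305) (flp_c L763504) L774984
theorem L774992 : sm gg N58478 = N57622 := ded_41_2 (flp_e L767157) (flp_g L763498) L774984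
theorem L774994 : sm gj N58478 = N57316 := ded_42_2 (flp_e L763508) (flp_j L763500) L774984
theorem L774996 : sm gh N58478 = N57317 := ded_43_2 (flp_e L763524) (flp_h L763506) L774984
theorem L774998 : sm gi N58478 = N58215 := ded_44_2 (flp_e L772270) (flp_i L763502) L774984
theorem L775000 : sm gf N58478 = N57671 := ded_40_2 (flp_e L767684) L755833 (flp_e L750734) (flp_f L763496) L774984
theorem L775002 : sm gh N57318 = N58479 := rfl
theorem L775004 : sm ga N58479 = N57538 := ded_17_1 (flp_h L766361) (flp_a L763543) L775002
theorem L775006 : sm gb N58479 = N57322 := ded_25_1 (flp_h L763608) (flp_b L763545) L775002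
theorem L775008 : sm gc N58479 = N57743 := ded_32_1 (flp_h L768432) (flp_c L763547) L775002
theorem L775010 : sm ge N58479 = N57319 := ded_43_1 (flp_h L763559) (flp_e L763551) L775002
theorem L775012 : sm gf N58479 = N58009 := ded_47_1 (flp_h L770907) (flp_f L763553) L775002
theorem L775014 : sm gg N58479 = N57756 := ded_50_1 (flp_h L768565) (flp_g L763555) L775002
theorem L775016 : sm gj N58479 = N57329 := ded_52_1 (flp_h L763711) (flp_j L763557) L775002
theorem L775018 : sm gi N58479 = N57749 := ded_54_2 (flp_h L768492) (flp_i L756720) (flp_h L750780) L763541 L775002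
theorem L775020 : sm gd N57319 = N58480 := rfl
theorem L775022 : sm ga N58480 = N57539 := ded_12_1 (flp_d L766373) (flp_a L763561) L775020
theorem L775024 : sm gb N58480 = N57323 := ded_20_1 (flp_d L763622) (flp_b L763563) L775020
theorem L775026 : sm gf N58480 = N58480 := ded_35_2 (flp_d L775020) L763567 L775020
theorem L775027 : sm gg N58480 = N58089 := ded_36_2 (flp_d L771469) (flp_g L763568) L775020
theorem L775029 : sm gj N58480 = N57330 := ded_37_2 (flp_d L763723) (flp_j L763570) L775020
theorem L775031 : sm gi N58480 = N57750 := ded_39_2 (flp_d L768504) (flp_i L763572) L775020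
theorem L775033 : sm gh N58480 = N58480 := ded_38_2 (flp_d L775020) (flp_h L763559) L750794 L763559 L775020
theorem L775034 : sm gh N57320 = N58481 := rfl
theorem L775036 : sm ga N58481 = N58016 := ded_17_1 (flp_h L770967) (flp_a L763576) L775034
theorem L775038 : sm gb N58481 = N57759 := ded_25_1 (flp_h L768609) (flp_b L763578) L775034
theorem L775040 : sm gc N58481 = N57342 := ded_32_1 (flp_h L763865) (flp_c L763580) L775034
theorem L775042 : sm ge N58481 = N58481 := ded_43_1 (flp_h L775034) L763584 L775034
theorem L775043 : sm gf N58481 = N57911 := ded_47_1 L769970 (flp_f L763585) L775034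
theorem L775045 : sm gg N58481 = N57752 := ded_50_1 (flp_h L768535) (flp_g L763587) L775034
theorem L775047 : sm gj N58481 = N57331 := ded_52_1 (flp_h L763733) (flp_j L763589) L775034
theorem L775049 : sm gi N58481 = N57913 := ded_54_2 L769994 L758209 (flp_h L750813) L763574 L775034
theorem L775051 : sm gh N57321 = N58482 := rfl
theorem L775053 : sm ga N58482 = N58045 := ded_17_1 (flp_h L771185) (flp_a L763593) L775051
theorem L775055 : sm gb N58482 = N58009 := ded_25_1 (flp_h L770907) (flp_b L763595) L775051
theorem L775057 : sm gc N58482 = N57325 := ded_32_1 (flp_h L763653) (flp_c L763597) L775051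
theorem L775059 : sm ge N58482 = N58482 := ded_43_1 (flp_h L775051) L763601 L775051
theorem L775060 : sm gf N58482 = N57322 := ded_47_1 (flp_h L763608) (flp_f L763602) L775051
theorem L775062 : sm gg N58482 = N58013 := ded_50_1 (flp_h L770937) (flp_g L763604) L775051
theorem L775064 : sm gj N58482 = N57332 := ded_52_1 (flp_h L763744) (flp_j L763606) L775051
theorem L775066 : sm gi N58482 = N57966 := ded_54_2 (flp_h L770508) (flp_i L758785) (flp_h L750829) L763591 L775051
theorem L775068 : sm gd N57322 = N58483 := rfl
theorem L775070 : sm ga N58483 = N58047 := ded_12_1 (flp_d L771204) (flp_a L763610) L775068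
theorem L775072 : sm gg N58483 = N58269 := ded_36_2 (flp_d L772579) (flp_g L763616) L775068
theorem L775074 : sm gj N58483 = N57333 := ded_37_2 (flp_d L763757) (flp_j L763618) L775068
theorem L775076 : sm gi N58483 = N57967 := ded_39_2 (flp_d L770519) (flp_i L763620) L775068
theorem L775078 : sm ge N57323 = N58484 := rfl
theorem L775080 : sm ga N58484 = N58093 := ded_13_1 (flp_e L771507) (flp_a L763624) L775078
theorem L775082 : sm gc N58484 = N58335 := ded_28_1 (flp_e L772987) (flp_c L763633) L775078
theorem L775084 : sm gg N58484 = N58279 := ded_41_2 (flp_e L772648) (flp_g L763627) L775078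
theorem L775086 : sm gj N58484 = N57334 := ded_42_2 (flp_e L763765) (flp_j L763629) L775078
theorem L775088 : sm gh N58484 = N58484 := ded_43_2 (flp_e L775078) L763635 L775078
theorem L775089 : sm gi N58484 = N57994 := ded_44_2 (flp_e L770765) (flp_i L763631) L775078
theorem L775091 : sm gh N57324 = N58485 := rfl
theorem L775093 : sm ga N58485 = N57557 := ded_17_1 (flp_h L766572) (flp_a L763638) L775091
theorem L775095 : sm gb N58485 = N57746 := ded_25_1 (flp_h L768469) (flp_b L763640) L775091
theorem L775097 : sm gc N58485 = N58013 := ded_32_1 (flp_h L770937) (flp_c L763642) L775091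
theorem L775099 : sm ge N58485 = N58485 := ded_43_1 (flp_h L775091) L763646 L775091
theorem L775100 : sm gf N58485 = N57776 := ded_47_1 (flp_h L768769) (flp_f L763647) L775091
theorem L775102 : sm gg N58485 = N57325 := ded_50_1 (flp_h L763653) (flp_g L763649) L775091
theorem L775104 : sm gj N58485 = N57769 := ded_52_1 (flp_h L768684) (flp_j L763651) L775091
theorem L775106 : sm gi N58485 = N57500 := ded_54_2 (flp_h L765908) (flp_i L753875) (flp_h L750870) L763636 L775091
theorem L775108 : sm gd N57325 = N58486 := rfl
theorem L775110 : sm ga N58486 = N58140 := ded_12_1 (flp_d L771827) (flp_a L763655) L775108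
theorem L775112 : sm gb N58486 = N57747 := ded_20_1 (flp_d L768478) (flp_b L763657) L775108
theorem L775114 : sm gf N58486 = N57326 := ded_35_2 (flp_d L763666) (flp_f L763660) L775108
theorem L775116 : sm gj N58486 = N57335 := ded_37_2 (flp_d L763774) (flp_j L763662) L775108
theorem L775118 : sm gi N58486 = N58127 := ded_39_2 (flp_d L771740) (flp_i L763664) L775108
theorem L775120 : sm gh N58486 = N57346 := ded_38_2 (flp_d L763913) (flp_h L751141) (flp_d L750882) L763653 L775108
theorem L775122 : sm gc N57326 = N58487 := rfl
theorem L775124 : sm gg N58487 = N58275 := ded_30_2 (flp_c L772621) (flp_g L763670) L775122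
theorem L775126 : sm gj N58487 = N57336 := ded_31_2 (flp_c L763786) (flp_j L763672) L775122
theorem L775128 : sm gh N58487 = N57347 := ded_32_2 (flp_c L763925) (flp_h L763676) L775122
theorem L775130 : sm gi N58487 = N58299 := ded_33_2 (flp_c L772793) (flp_i L763674) L775122
theorem L775132 : sm gh N57327 = N58488 := rfl
theorem L775134 : sm ga N58488 = N57329 := ded_17_1 (flp_h L763711) (flp_a L763680) L775132
theorem L775136 : sm gb N58488 = N57534 := ded_25_1 (flp_h L766312) (flp_b L763682) L775132
theorem L775138 : sm gc N58488 = N57749 := ded_32_1 (flp_h L768492) (flp_c L763684) L775132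
theorem L775140 : sm ge N58488 = N57328 := ded_43_1 (flp_h L763696) (flp_e L763688) L775132
theorem L775142 : sm gf N58488 = N58262 := ded_47_1 (flp_h L772537) (flp_f L763690) L775132
theorem L775144 : sm gg N58488 = N57783 := ded_50_1 (flp_h L768833) (flp_g L763692) L775132
theorem L775146 : sm gj N58488 = N57538 := ded_52_1 (flp_h L766361) (flp_j L763694) L775132
theorem L775148 : sm gi N58488 = N57743 := ded_54_2 (flp_h L768432) (flp_i L756633) (flp_h L750913) L763678 L775132
theorem L775150 : sm gd N57328 = N58489 := rfl
theorem L775152 : sm ga N58489 = N57330 := ded_12_1 (flp_d L763723) (flp_a L763698) L775150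
theorem L775154 : sm gb N58489 = N57535 := ded_20_1 (flp_d L766326) (flp_b L763700) L775150
theorem L775156 : sm gf N58489 = N58489 := ded_35_2 (flp_d L775150) L763704 L775150
theorem L775157 : sm gg N58489 = N57363 := ded_36_2 L764119 (flp_g L763705) L775150
theorem L775159 : sm gj N58489 = N57539 := ded_37_2 (flp_d L766373) (flp_j L763707) L775150
theorem L775161 : sm gi N58489 = N57412 := ded_39_2 L764709 (flp_i L763709) L775150
theorem L775163 : sm gh N58489 = N58489 := ded_38_2 (flp_d L775150) (flp_h L763696) L750927 L763696 L775150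
theorem L775164 : sm gd N57329 = N58490 := rfl
theorem L775166 : sm gb N58490 = N57333 := ded_20_1 (flp_d L763757) (flp_b L763713) L775164
theorem L775168 : sm gg N58490 = N58002 := ded_36_2 (flp_d L770837) (flp_g L763719) L775164
theorem L775170 : sm gi N58490 = N57974 := ded_39_2 (flp_d L770587) (flp_i L763721) L775164
theorem L775172 : sm gc N57330 = N58491 := rfl
theorem L775174 : sm gf N58491 = N58491 := ded_29_2 (flp_c L775172) L763727 L775172
theorem L775175 : sm gg N58491 = N58003 := ded_30_2 (flp_c L770847) (flp_g L763728) L775172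
theorem L775177 : sm gh N58491 = N58491 := ded_32_2 (flp_c L775172) L763732 L775172
theorem L775178 : sm gi N58491 = N57997 := ded_33_2 (flp_c L770798) (flp_i L763730) L775172
theorem L775180 : sm gd N58491 = N57754 := ded_27_2 (flp_c L768550) (flp_d L756782) (flp_c L750947) L763723 L775172
theorem L775182 : sm ge N57330 = N58492 := rfl
theorem L775184 : sm gb N58492 = N57334 := ded_21_1 (flp_e L763765) (flp_b L763725) L775182
theorem L775186 : sm gg N58492 = N58004 := ded_41_2 (flp_e L770858) (flp_g L763728) L775182
theorem L775188 : sm gh N58492 = N58492 := ded_43_2 (flp_e L775182) L763732 L775182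
theorem L775189 : sm gi N58492 = N57998 := ded_44_2 (flp_e L770805) (flp_i L763730) L775182
theorem L775191 : sm gd N57331 = N58493 := rfl
theorem L775193 : sm ga N58493 = N58026 := ded_12_1 (flp_d L771058) (flp_a L763735) L775191
theorem L775195 : sm gg N58493 = N58005 := ded_36_2 (flp_d L770869) (flp_g L763740) L775191
theorem L775197 : sm gi N58493 = N57954 := ded_39_2 (flp_d L770405) (flp_i L763742) L775191
theorem L775199 : sm gh N58493 = N57333 := ded_38_2 (flp_d L763757) (flp_h L750976) (flp_d L750960) L763733 L775191
theorem L775201 : sm gd N57332 = N58494 := rfl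
theorem L775203 : sm ga N58494 = N58070 := ded_12_1 (flp_d L771372) (flp_a L763746) L775201
theorem L775205 : sm gf N58494 = N57333 := ded_35_2 (flp_d L763757) (flp_f L763751) L775201
theorem L775207 : sm gg N58494 = N58246 := ded_36_2 (flp_d L772438) (flp_g L763753) L775201
theorem L775209 : sm gi N58494 = N57978 := ded_39_2 (flp_d L770619) (flp_i L763755) L775201
theorem L775211 : sm gc N57333 = N58495 := rfl
theorem L775213 : sm ga N58495 = N58073 := ded_11_1 (flp_c L771389) (flp_a L763759) L775211
theorem L775215 : sm gg N58495 = N58006 := ded_30_2 (flp_c L770877) (flp_g L763761) L775211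
theorem L775217 : sm gi N58495 = N57979 := ded_33_2 (flp_c L770629) (flp_i L763763) L775211
theorem L775219 : sm gd N58495 = N57336 := ded_27_2 (flp_c L763786) (flp_d L751009) (flp_c L750980) L763757 L775211
theorem L775221 : sm ge N57333 = N58496 := rfl
theorem L775223 : sm ga N58496 = N58074 := ded_13_1 (flp_e L771393) (flp_a L763759) L775221
theorem L775225 : sm gg N58496 = N58007 := ded_41_2 (flp_e L770887) (flp_g L763761) L775221
theorem L775227 : sm gi N58496 = N57980 := ded_44_2 (flp_e L770639) (flp_i L763763) L775221
theorem L775229 : sm gd N58496 = N57334 := ded_34_1 (flp_e L763765) (flp_d L750988) (flp_e L750982) L763757 L775221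
theorem L775231 : sm gf N57334 = N58497 := rfl
theorem L775233 : sm ga N58497 = N58097 := ded_14_1 (flp_f L771534) (flp_a L763767) L775231
theorem L775235 : sm gh N58497 = N58497 := ded_47_2 (flp_f L775231) L763771 L775231
theorem L775236 : sm gi N58497 = N58001 := ded_48_2 (flp_f L770830) (flp_i L763772) L775231
theorem L775238 : sm ge N58497 = N58497 := ded_40_1 (flp_f L775231) (flp_e L763765) L750992 L763765 L775231
theorem L775239 : sm gc N57335 = N58498 := rfl
theorem L775241 : sm gf N58498 = N57336 := ded_29_2 (flp_c L763786) (flp_f L763778) L775239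
theorem L775243 : sm gg N58498 = N58248 := ded_30_2 (flp_c L772452) (flp_g L763780) L775239
theorem L775245 : sm gh N58498 = N57360 := ded_32_2 (flp_c L764091) (flp_h L763784) L775239
theorem L775247 : sm gi N58498 = N58283 := ded_33_2 (flp_c L772672) (flp_i L763782) L775239
theorem L775249 : sm ge N57335 = N58499 := rfl
theorem L775251 : sm gb N58499 = N57766 := ded_21_1 (flp_e L768659) (flp_b L763776) L775249
theorem L775253 : sm gg N58499 = N58249 := ded_41_2 (flp_e L772458) (flp_g L763780) L775249
theorem L775255 : sm gh N58499 = N57361 := ded_43_2 (flp_e L764097) (flp_h L763784) L775249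
theorem L775257 : sm gi N58499 = N58284 := ded_44_2 (flp_e L772678) (flp_i L763782) L775249
theorem L775259 : sm gd N58499 = N58499 := ded_34_1 (flp_e L775249) (flp_d L763774) L751002 L763774 L775249
theorem L775260 : sm gb N57336 = N58500 := rfl
theorem L775262 : sm gg N58500 = N58008 := ded_23_2 (flp_b L770895) (flp_g L763788) L775260
theorem L775264 : sm gh N58500 = N57362 := ded_25_2 (flp_b L764105) (flp_h L763790) L775260
theorem L775266 : sm gi N58500 = N58300 := ded_26_2 (flp_b L772799) (flp_i L763792) L775260
theorem L775268 : sm gc N58500 = N57767 := ded_19_2 (flp_b L768664) (flp_c L756878) (flp_b L751011) L763786 L775260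
theorem L775270 : sm gh N57337 = N58501 := rfl
theorem L775272 : sm ga N58501 = N57593 := ded_17_1 (flp_h L766925) (flp_a L763796) L775270
theorem L775274 : sm gb N58501 = N57769 := ded_25_1 (flp_h L768684) (flp_b L763798) L775270
theorem L775276 : sm gc N58501 = N57720 := ded_32_1 (flp_h L768205) (flp_c L763800) L775270
theorem L775278 : sm ge N58501 = N58501 := ded_43_1 (flp_h L775270) L763804 L775270
theorem L775279 : sm gf N58501 = N57345 := ded_47_1 (flp_h L763897) (flp_f L763805) L775270
theorem L775281 : sm gg N58501 = N57338 := ded_50_1 (flp_h L763811) (flp_g L763807) L775270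
theorem L775283 : sm gj N58501 = N57746 := ded_52_1 (flp_h L768469) (flp_j L763809) L775270
theorem L775285 : sm gi N58501 = N57371 := ded_54_2 (flp_h L764232) (flp_i L751501) (flp_h L751030) L763794 L775270
theorem L775287 : sm gd N57338 = N58502 := rfl
theorem L775289 : sm gb N58502 = N57770 := ded_20_1 (flp_d L768695) (flp_b L763813) L775287
theorem L775291 : sm gf N58502 = N57339 := ded_35_2 (flp_d L763822) (flp_f L763816) L775287
theorem L775293 : sm gj N58502 = N57764 := ded_37_2 (flp_d L768641) (flp_j L763818) L775287
theorem L775295 : sm gi N58502 = N57372 := ded_39_2 (flp_d L764245) (flp_i L763820) L775287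
theorem L775297 : sm gh N58502 = N57791 := ded_38_2 (flp_d L768927) (flp_h L757124) (flp_d L751040) L763811 L775287
theorem L775299 : sm gc N57339 = N58503 := rfl
theorem L775301 : sm gg N58503 = N57347 := ded_30_2 (flp_c L763925) (flp_g L763826) L775299
theorem L775303 : sm gj N58503 = N58012 := ded_31_2 (flp_c L770929) (flp_j L763828) L775299
theorem L775305 : sm gh N58503 = N58275 := ded_32_2 (flp_c L772621) (flp_h L763832) L775299
theorem L775307 : sm gi N58503 = N57373 := ded_33_2 (flp_c L764253) (flp_i L763830) L775299
theorem L775309 : sm gd N57340 = N58504 := rfl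
theorem L775311 : sm ga N58504 = N57820 := ded_12_1 (flp_d L769220) (flp_a L763836) L775309
theorem L775313 : sm gb N58504 = N57343 := ded_20_1 (flp_d L763878) (flp_b L763838) L775309
theorem L775315 : sm gf N58504 = N57819 := ded_35_2 (flp_d L769206) (flp_f L763844) L775309
theorem L775317 : sm gj N58504 = N57349 := ded_37_2 (flp_d L763948) (flp_j L763846) L775309
theorem L775319 : sm gi N58504 = N57376 := ded_39_2 (flp_d L764295) (flp_i L763848) L775309
theorem L775321 : sm gh N58504 = N58246 := ded_38_2 (flp_d L772438) (flp_h L760798) (flp_d L751067) L763834 L775309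
theorem L775323 : sm ge N57341 = N58505 := rfl
theorem L775325 : sm ga N58505 = N57875 := ded_13_1 (flp_e L769636) (flp_a L763852) L775323
theorem L775327 : sm gb N58505 = N57344 := ded_21_1 (flp_e L763888) (flp_b L763854) L775323
theorem L775329 : sm gc N58505 = N58215 := ded_28_1 (flp_e L772270) (flp_c L763862) L775323
theorem L775331 : sm gj N58505 = N57350 := ded_42_2 (flp_e L763960) (flp_j L763858) L775323
theorem L775333 : sm gh N58505 = N58505 := ded_43_2 (flp_e L775323) L763864 L775323
theorem L775334 : sm gi N58505 = N57377 := ded_44_2 (flp_e L764305) (flp_i L763860) L775323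
theorem L775336 : sm gf N58505 = N58092 := ded_40_2 (flp_e L771502) L759809 (flp_e L751343) (flp_f L763856) L775323
theorem L775338 : sm gd N57342 = N58506 := rfl
theorem L775340 : sm ga N58506 = N58264 := ded_12_1 (flp_d L772550) (flp_a L763867) L775338
theorem L775342 : sm gb N58506 = N58246 := ded_20_1 (flp_d L772438) (flp_b L763869) L775338
theorem L775344 : sm gf N58506 = N57855 := ded_35_2 L769502 (flp_f L763872) L775338
theorem L775346 : sm gj N58506 = N57353 := ded_37_2 (flp_d L764008) (flp_j L763874) L775338
theorem L775348 : sm gi N58506 = N57858 := ded_39_2 L769526 (flp_i L763876) L775338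
theorem L775350 : sm gh N58506 = N57343 := ded_38_2 (flp_d L763878) (flp_h L751102) (flp_d L751095) L763865 L775338
theorem L775352 : sm gc N57343 = N58507 := rfl
theorem L775354 : sm ga N58507 = N58312 := ded_11_1 (flp_c L772863) (flp_a L763880) L775352
theorem L775356 : sm gf N58507 = N58231 := ded_29_2 (flp_c L772356) (flp_f L763882) L775352
theorem L775358 : sm gj N58507 = N57355 := ded_31_2 (flp_c L764030) (flp_j L763884) L775352
theorem L775360 : sm gi N58507 = N57378 := ded_33_2 (flp_c L764313) (flp_i L763886) L775352
theorem L775362 : sm gd N58507 = N57347 := ded_27_2 (flp_c L763925) (flp_d L751157) (flp_c L751106) L763878 L775352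
theorem L775364 : sm ge N57343 = N58508 := rfl
theorem L775366 : sm ga N58508 = N58313 := ded_13_1 (flp_e L772869) (flp_a L763880) L775364
theorem L775368 : sm gj N58508 = N57356 := ded_42_2 (flp_e L764038) (flp_j L763884) L775364
theorem L775370 : sm gi N58508 = N57379 := ded_44_2 (flp_e L764325) (flp_i L763886) L775364
theorem L775372 : sm gd N58508 = N57344 := ded_34_1 (flp_e L763888) (flp_d L751116) (flp_e L751108) L763878 L775364
theorem L775374 : sm gf N57344 = N58509 := rfl
theorem L775376 : sm ga N58509 = N58004 := ded_14_1 L770867 (flp_a L763890) L775374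
theorem L775378 : sm gb N58509 = N58092 := ded_22_1 (flp_f L775336) L775327 L775374
theorem L775380 : sm gj N58509 = N57357 := ded_46_2 (flp_f L764046) (flp_j L763892) L775374
theorem L775382 : sm gh N58509 = N58509 := ded_47_2 (flp_f L775374) L763894 L775374
theorem L775383 : sm gi N58509 = N57380 := ded_48_2 (flp_f L764335) (flp_i L763895) L775374
theorem L775385 : sm ge N58509 = N57363 := ded_40_1 (flp_f L764113) (flp_e L751346) (flp_f L751120) L763888 L775374
theorem L775387 : sm gd N57345 = N58510 := rfl
theorem L775389 : sm ga N58510 = N57595 := ded_12_1 (flp_d L766940) (flp_a L763899) L775387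
theorem L775391 : sm gb N58510 = N57777 := ded_20_1 (flp_d L768783) (flp_b L763901) L775387
theorem L775393 : sm gg N58510 = N57346 := ded_36_2 (flp_d L763913) (flp_g L763907) L775387
theorem L775395 : sm gj N58510 = N58256 := ded_37_2 (flp_d L772503) (flp_j L763909) L775387
theorem L775397 : sm gi N58510 = N57382 := ded_39_2 (flp_d L764361) (flp_i L763911) L775387
theorem L775399 : sm gc N57346 = N58511 := rfl
theorem L775401 : sm ga N58511 = N58165 := ded_11_1 (flp_c L771962) (flp_a L763915) L775399
theorem L775403 : sm gf N58511 = N57347 := ded_29_2 (flp_c L763925) (flp_f L763919) L775399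
theorem L775405 : sm gj N58511 = N57360 := ded_31_2 (flp_c L764091) (flp_j L763921) L775399
theorem L775407 : sm gi N58511 = N57383 := ded_33_2 (flp_c L764371) (flp_i L763923) L775399
theorem L775409 : sm gd N58511 = N58231 := ded_27_2 (flp_c L772356) (flp_d L760710) (flp_c L751147) L763913 L775399
theorem L775411 : sm ge N57346 = N58512 := rfl
theorem L775413 : sm ga N58512 = N58166 := ded_13_1 (flp_e L771968) (flp_a L763915) L775411
theorem L775415 : sm gb N58512 = N57779 := ded_21_1 (flp_e L768797) (flp_b L763917) L775411
theorem L775417 : sm gj N58512 = N57361 := ded_42_2 (flp_e L764097) (flp_j L763921) L775411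
theorem L775419 : sm gi N58512 = N57384 := ded_44_2 (flp_e L764383) (flp_i L763923) L775411
theorem L775421 : sm gd N58512 = N57366 := ded_34_1 (flp_e L764159) (flp_d L751375) (flp_e L751149) L763913 L775411
theorem L775423 : sm gb N57347 = N58513 := rfl
theorem L775425 : sm gj N58513 = N57362 := ded_24_2 (flp_b L764105) (flp_j L763927) L775423
theorem L775427 : sm gi N58513 = N57385 := ded_26_2 (flp_b L764395) (flp_i L763929) L775423
theorem L775429 : sm gc N58513 = N57780 := ded_19_2 (flp_b L768805) (flp_c L757010) (flp_b L751159) L763925 L775423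
theorem L775431 : sm gd N57348 = N58514 := rfl
theorem L775433 : sm ga N58514 = N57841 := ded_12_1 (flp_d L769385) (flp_a L763933) L775431
theorem L775435 : sm gb N58514 = N57353 := ded_20_1 (flp_d L764008) (flp_b L763935) L775431
theorem L775437 : sm gf N58514 = N57768 := ded_35_2 (flp_d L768670) (flp_f L763940) L775431
theorem L775439 : sm gg N58514 = N58021 := ded_36_2 (flp_d L771016) (flp_g L763942) L775431
theorem L775441 : sm gj N58514 = N58246 := ded_37_2 (flp_d L772438) (flp_j L763944) L775431
theorem L775443 : sm gi N58514 = N57811 := ded_39_2 (flp_d L769136) (flp_i L763946) L775431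
theorem L775445 : sm gh N58514 = N57349 := ded_38_2 (flp_d L763948) (flp_h L751182) (flp_d L751173) L763931 L775431
theorem L775447 : sm gc N57349 = N58515 := rfl
theorem L775449 : sm ga N58515 = N57844 := ded_11_1 (flp_c L769413) (flp_a L763950) L775447
theorem L775451 : sm gf N58515 = N57839 := ded_29_2 (flp_c L769368) (flp_f L763954) L775447
theorem L775453 : sm gg N58515 = N58023 := ded_30_2 (flp_c L771036) (flp_g L763956) L775447
theorem L775455 : sm gi N58515 = N57392 := ded_33_2 (flp_c L764495) (flp_i L763958) L775447
theorem L775457 : sm gd N58515 = N57782 := ded_27_2 (flp_c L768825) (flp_d L757028) (flp_c L751188) L763948 L775447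
theorem L775459 : sm ge N57349 = N58516 := rfl
theorem L775461 : sm ga N58516 = N57845 := ded_13_1 (flp_e L769417) (flp_a L763950) L775459
theorem L775463 : sm gb N58516 = N57356 := ded_21_1 (flp_e L764038) (flp_b L763952) L775459
theorem L775465 : sm gg N58516 = N58024 := ded_41_2 (flp_e L771042) (flp_g L763956) L775459
theorem L775467 : sm gi N58516 = N57393 := ded_44_2 (flp_e L764501) (flp_i L763958) L775459
theorem L775469 : sm gd N58516 = N57350 := ded_34_1 (flp_e L763960) (flp_d L751198) (flp_e L751190) L763948 L775459
theorem L775471 : sm gf N58516 = N58080 := ded_40_2 (flp_e L771425) (flp_f L764587) L764593 (flp_f L763954) L775459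
theorem L775473 : sm gd N57351 = N58517 := rfl
theorem L775475 : sm ga N58517 = N57718 := ded_12_1 (flp_d L768181) (flp_a L763977) L775473
theorem L775477 : sm gb N58517 = N57768 := ded_20_1 (flp_d L768670) (flp_b L763979) L775473
theorem L775479 : sm gf N58517 = N57353 := ded_35_2 (flp_d L764008) (flp_f L763983) L775473
theorem L775481 : sm gg N58517 = N57772 := ded_36_2 (flp_d L768711) (flp_g L763985) L775473
theorem L775483 : sm gj N58517 = N57855 := ded_37_2 L769502 (flp_j L763987) L775473
theorem L775485 : sm gi N58517 = N57808 := ded_39_2 (flp_d L769095) (flp_i L763989) L775473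
theorem L775487 : sm ge N58517 = N57825 := ded_34_2 (flp_d L769266) L757510 (flp_d L756602) (flp_e L763981) L775473
theorem L775489 : sm gh N58517 = N57354 := ded_38_2 (flp_d L764014) (flp_h L751251) (flp_d L751219) L763975 L775473
theorem L775491 : sm gd N57352 = N58518 := rfl
theorem L775493 : sm ga N58518 = N58005 := ded_12_1 (flp_d L770869) (flp_a L763993) L775491
theorem L775495 : sm gb N58518 = N57811 := ded_20_1 (flp_d L769136) (flp_b L763995) L775491
theorem L775497 : sm gf N58518 = N57808 := ded_35_2 (flp_d L769095) (flp_f L764000) L775491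
theorem L775499 : sm gg N58518 = N58026 := ded_36_2 (flp_d L771058) (flp_g L764002) L775491
theorem L775501 : sm gj N58518 = N57858 := ded_37_2 L769526 (flp_j L764004) L775491
theorem L775503 : sm gi N58518 = N57353 := ded_39_2 (flp_d L764008) (flp_i L764006) L775491
theorem L775505 : sm gh N58518 = N57395 := ded_38_2 (flp_d L764525) (flp_h L751765) (flp_d L751237) L763991 L775491
theorem L775507 : sm gc N57353 = N58519 := rfl
theorem L775509 : sm gg N58519 = N58027 := ded_30_2 (flp_c L771064) (flp_g L764010) L775507
theorem L775511 : sm gh N58519 = N57355 := ded_32_2 (flp_c L764030) (flp_h L764012) L775507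
theorem L775513 : sm ge N57353 = N58520 := rfl
theorem L775515 : sm gg N58520 = N58028 := ded_41_2 (flp_e L771068) (flp_g L764010) L775513
theorem L775517 : sm gh N58520 = N57356 := ded_43_2 (flp_e L764038) (flp_h L764012) L775513
theorem L775519 : sm gd N58520 = N58520 := ded_34_1 (flp_e L775513) (flp_d L764008) L751248 L764008 L775513
theorem L775520 : sm gc N57354 = N58521 := rfl
theorem L775522 : sm ga N58521 = N57719 := ded_11_1 (flp_c L768195) (flp_a L764016) L775520
theorem L775524 : sm ge N58521 = N58255 := ded_28_2 (flp_c L772497) (flp_e L764028) L775520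
theorem L775526 : sm gf N58521 = N57355 := ded_29_2 (flp_c L764030) (flp_f L764020) L775520
theorem L775528 : sm gg N58521 = N58228 := ded_30_2 (flp_c L772344) (flp_g L764022) L775520
theorem L775530 : sm gj N58521 = N58231 := ded_31_2 (flp_c L772356) (flp_j L764024) L775520
theorem L775532 : sm gi N58521 = N57400 := ded_33_2 (flp_c L764597) (flp_i L764026) L775520
theorem L775534 : sm gd N58521 = N57360 := ded_27_2 (flp_c L764091) (flp_d L751316) (flp_c L751257) L764014 L775520
theorem L775536 : sm gb N57355 = N58522 := rfl
theorem L775538 : sm gd N58522 = N57362 := ded_20_2 (flp_b L764105) (flp_d L764036) L775536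
theorem L775540 : sm gg N58522 = N58030 := ded_23_2 (flp_b L771083) (flp_g L764032) L775536
theorem L775542 : sm gi N58522 = N57401 := ded_26_2 (flp_b L764611) (flp_i L764034) L775536
theorem L775544 : sm ge N57355 = N58523 := rfl
theorem L775546 : sm gc N58523 = N57356 := ded_28_1 (flp_e L764038) L764030 L775544
theorem L775548 : sm gg N58523 = N58031 := ded_41_2 (flp_e L771089) (flp_g L764032) L775544
theorem L775550 : sm gi N58523 = N57402 := ded_44_2 (flp_e L764617) (flp_i L764034) L775544
theorem L775552 : sm gf N57356 = N58524 := rfl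
theorem L775554 : sm ga N58524 = N58260 := ded_14_1 (flp_f L774798) L774786 L775552
theorem L775556 : sm gb N58524 = N58080 := ded_22_1 (flp_f L775471) L775463 L775552
theorem L775558 : sm gd N58524 = N57357 := ded_35_1 (flp_f L764046) (flp_d L764044) L775552
theorem L775560 : sm gi N58524 = N57403 := ded_48_2 (flp_f L764623) (flp_i L764042) L775552
theorem L775562 : sm ge N58524 = N58064 := ded_40_1 L771334 (flp_e L764028) L764020 L764038 L775552
theorem L775564 : sm gg N58066 = N58524 := ded_23_0 L775556 L771427 (flp_b L771348)
theorem L775566 : sm gd N57358 = N58525 := rfl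
theorem L775568 : sm ga N58525 = N58193 := ded_12_1 (flp_d L772131) (flp_a L764061) L775566
theorem L775570 : sm gb N58525 = N57791 := ded_20_1 (flp_d L768927) (flp_b L764063) L775566
theorem L775572 : sm gf N58525 = N57742 := ded_35_2 (flp_d L768418) (flp_f L764069) L775566
theorem L775574 : sm gg N58525 = N58256 := ded_36_2 (flp_d L772503) (flp_g L764071) L775566
theorem L775576 : sm gj N58525 = N57359 := ded_37_2 (flp_d L764077) (flp_j L764073) L775566
theorem L775578 : sm gi N58525 = N57405 := ded_39_2 (flp_d L764647) (flp_i L764075) L775566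
theorem L775580 : sm gh N58525 = N57770 := ded_38_2 (flp_d L768695) (flp_h L756909) (flp_d L751290) L764059 L775566
theorem L775582 : sm gc N57359 = N58526 := rfl
theorem L775584 : sm ga N58526 = N58205 := ded_11_1 (flp_c L772219) (flp_a L764079) L775582
theorem L775586 : sm gf N58526 = N58032 := ded_29_2 (flp_c L771095) (flp_f L764083) L775582
theorem L775588 : sm gg N58526 = N57360 := ded_30_2 (flp_c L764091) (flp_g L764085) L775582
theorem L775590 : sm gh N58526 = N58248 := ded_32_2 (flp_c L772452) (flp_h L764089) L775582
theorem L775592 : sm gi N58526 = N57406 := ded_33_2 (flp_c L764655) (flp_i L764087) L775582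
theorem L775594 : sm gd N58526 = N58228 := ded_27_2 (flp_c L772344) (flp_d L760696) (flp_c L751306) L764077 L775582
theorem L775596 : sm ge N57359 = N58527 := rfl
theorem L775598 : sm ga N58527 = N58206 := ded_13_1 (flp_e L772225) (flp_a L764079) L775596
theorem L775600 : sm gb N58527 = N57793 := ded_21_1 (flp_e L768943) (flp_b L764081) L775596
theorem L775602 : sm gg N58527 = N57361 := ded_41_2 (flp_e L764097) (flp_g L764085) L775596
theorem L775604 : sm gh N58527 = N58249 := ded_43_2 (flp_e L772458) (flp_h L764089) L775596
theorem L775606 : sm gi N58527 = N57407 := ded_44_2 (flp_e L764661) (flp_i L764087) L775596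
theorem L775608 : sm gd N58527 = N57368 := ded_34_1 (flp_e L764187) (flp_d L751431) (flp_e L751308) L764077 L775596
theorem L775610 : sm gf N58527 = N57683 := ded_40_2 (flp_e L767793) (flp_f L763022) L763028 (flp_f L764083) L775596
theorem L775612 : sm gb N57360 = N58528 := rfl
theorem L775614 : sm gf N58528 = N57362 := ded_22_2 (flp_b L764105) (flp_f L764093) L775612
theorem L775616 : sm gi N58528 = N57408 := ded_26_2 (flp_b L764669) (flp_i L764095) L775612
theorem L775618 : sm gc N58528 = N57794 := ded_19_2 (flp_b L768951) (flp_c L757142) (flp_b L751318) L764091 L775612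
theorem L775620 : sm ge N57360 = N58529 := rfl
theorem L775622 : sm gc N58529 = N57361 := ded_28_1 (flp_e L764097) L764091 L775620
theorem L775624 : sm gi N58529 = N57409 := ded_44_2 (flp_e L764675) (flp_i L764095) L775620
theorem L775626 : sm ga N57362 = N58530 := rfl
theorem L775628 : sm gc N58530 = N57796 := ded_11_2 (flp_a L768963) (flp_c L764111) L775626
theorem L775630 : sm gg N58530 = N58034 := ded_15_2 (flp_a L771117) (flp_g L764107) L775626
theorem L775632 : sm gi N58530 = N57410 := ded_18_2 (flp_a L764679) (flp_i L764109) L775626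
theorem L775634 : sm ge N57364 = N58531 := rfl
theorem L775636 : sm ga N58531 = N57627 := ded_13_1 (flp_e L767220) (flp_a L764128) L775634
theorem L775638 : sm gb N58531 = N57800 := ded_21_1 (flp_e L769008) (flp_b L764130) L775634
theorem L775640 : sm gc N58531 = N58333 := ded_28_1 (flp_e L772979) (flp_c L764139) L775634
theorem L775642 : sm gg N58531 = N57366 := ded_41_2 (flp_e L764159) (flp_g L764133) L775634
theorem L775644 : sm gj N58531 = N58334 := ded_42_2 (flp_e L772984) (flp_j L764135) L775634
theorem L775646 : sm gh N58531 = N58531 := ded_43_2 (flp_e L775634) L764141 L775634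
theorem L775647 : sm gi N58531 = N57414 := ded_44_2 (flp_e L764733) (flp_i L764137) L775634
theorem L775649 : sm ge N57365 = N58532 := rfl
theorem L775651 : sm ga N58532 = N58015 := ded_13_1 (flp_e L770956) (flp_a L764144) L775649
theorem L775653 : sm gb N58532 = N57888 := ded_21_1 (flp_e L769752) (flp_b L764157) L775649
theorem L775655 : sm gc N58532 = N57366 := ded_28_1 (flp_e L764159) L764142 L775649
theorem L775657 : sm gg N58532 = N58333 := ded_41_2 (flp_e L772979) (flp_g L764148) L775649
theorem L775659 : sm gj N58532 = N57369 := ded_42_2 (flp_e L764202) (flp_j L764150) L775649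
theorem L775661 : sm gh N58532 = N58532 := ded_43_2 (flp_e L775649) L764152 L775649
theorem L775662 : sm gi N58532 = N57416 := ded_44_2 (flp_e L764763) (flp_i L764153) L775649
theorem L775664 : sm ge N57367 = N58533 := rfl
theorem L775666 : sm ga N58533 = N58215 := ded_13_1 (flp_e L772270) (flp_a L764172) L775664
theorem L775668 : sm gb N58533 = N57804 := ded_21_1 (flp_e L769052) (flp_b L764174) L775664
theorem L775670 : sm gc N58533 = N57875 := ded_28_1 (flp_e L769636) (flp_c L764184) L775664
theorem L775672 : sm gg N58533 = N58334 := ded_41_2 (flp_e L772984) (flp_g L764178) L775664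
theorem L775674 : sm gj N58533 = N57368 := ded_42_2 (flp_e L764187) (flp_j L764180) L775664
theorem L775676 : sm gh N58533 = N58533 := ded_43_2 (flp_e L775664) L764186 L775664
theorem L775677 : sm gi N58533 = N57417 := ded_44_2 (flp_e L764775) (flp_i L764182) L775664
theorem L775679 : sm gf N58533 = N57679 := ded_40_2 (flp_e L767764) L755942 (flp_e L751481) (flp_f L764176) L775664
theorem L775681 : sm gd N57369 = N58534 := rfl
theorem L775683 : sm ga N58534 = N58024 := ded_12_1 L771048 (flp_a L764204) L775681
theorem L775685 : sm gb N58534 = N57861 := ded_20_1 L769548 (flp_b L764206) L775681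
theorem L775687 : sm gg N58534 = N57845 := ded_36_2 L769421 (flp_g L764210) L775681
theorem L775689 : sm gi N58534 = N57419 := ded_39_2 (flp_d L764799) (flp_i L764213) L775681
theorem L775691 : sm ge N58534 = N57843 := ded_34_2 (flp_d L769401) L757638 (flp_d L751457) L764202 L775681
theorem L775693 : sm gh N57370 = N58535 := rfl
theorem L775695 : sm ga N58535 = N57575 := ded_17_1 (flp_h L766735) (flp_a L764217) L775693
theorem L775697 : sm gb N58535 = N57500 := ded_25_1 (flp_h L765908) (flp_b L764219) L775693
theorem L775699 : sm gc N58535 = N57708 := ded_32_1 (flp_h L768074) (flp_c L764221) L775693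
theorem L775701 : sm ge N58535 = N58535 := ded_43_1 (flp_h L775693) L764225 L775693
theorem L775702 : sm gf N58535 = N57381 := ded_47_1 (flp_h L764345) (flp_f L764226) L775693
theorem L775704 : sm gg N58535 = N57536 := ded_50_1 (flp_h L766338) (flp_g L764228) L775693
theorem L775706 : sm gj N58535 = N57371 := ded_52_1 (flp_h L764232) (flp_j L764230) L775693
theorem L775708 : sm gi N58535 = N57746 := ded_54_2 (flp_h L768469) (flp_i L756696) (flp_h L751497) L764215 L775693
theorem L775710 : sm gd N57371 = N58536 := rfl
theorem L775712 : sm ga N58536 = N57594 := ded_12_1 (flp_d L766934) (flp_a L764234) L775710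
theorem L775714 : sm gb N58536 = N57815 := ded_20_1 (flp_d L769183) (flp_b L764236) L775710
theorem L775716 : sm gf N58536 = N57382 := ded_35_2 (flp_d L764361) (flp_f L764241) L775710
theorem L775718 : sm gg N58536 = N57372 := ded_36_2 (flp_d L764245) (flp_g L764243) L775710
theorem L775720 : sm gh N58536 = N57517 := ded_38_2 (flp_d L766101) (flp_h L754119) (flp_d L751509) L764232 L775710
theorem L775722 : sm gc N57372 = N58537 := rfl
theorem L775724 : sm gf N58537 = N57373 := ded_29_2 (flp_c L764253) (flp_f L764249) L775722
theorem L775726 : sm gj N58537 = N58039 := ded_31_2 (flp_c L771146) (flp_j L764251) L775722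
theorem L775728 : sm ge N57372 = N58538 := rfl
theorem L775730 : sm gb N58538 = N57817 := ded_21_1 (flp_e L769195) (flp_b L764247) L775728
theorem L775732 : sm gj N58538 = N58040 := ded_42_2 (flp_e L771150) (flp_j L764251) L775728
theorem L775734 : sm gh N58538 = N58145 := ded_43_2 (flp_e L773096) L773098 L775728
theorem L775736 : sm gd N58538 = N58538 := ded_34_1 (flp_e L775728) (flp_d L764245) L751520 L764245 L775728
theorem L775737 : sm gf N58538 = N58142 := ded_40_2 (flp_e L771837) (flp_f L762376) L762382 (flp_f L764249) L775728
theorem L775739 : sm gb N57373 = N58539 := rfl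
theorem L775741 : sm gg N58539 = N57385 := ded_23_2 (flp_b L764395) (flp_g L764255) L775739
theorem L775743 : sm gj N58539 = N58041 := ded_24_2 (flp_b L771155) (flp_j L764257) L775739
theorem L775745 : sm gc N58539 = N57818 := ded_19_2 (flp_b L769200) (flp_c L757416) (flp_b L751527) L764253 L775739
theorem L775747 : sm gd N57374 = N58540 := rfl
theorem L775749 : sm ga N58540 = N57376 := ded_12_1 (flp_d L764295) (flp_a L764261) L775747
theorem L775751 : sm gb N58540 = N57774 := ded_20_1 (flp_d L768743) (flp_b L764263) L775747
theorem L775753 : sm gf N58540 = N57772 := ded_35_2 (flp_d L768711) (flp_f L764269) L775747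
theorem L775755 : sm gg N58540 = N58025 := ded_36_2 (flp_d L771050) (flp_g L764271) L775747
theorem L775757 : sm gj N58540 = N57387 := ded_37_2 (flp_d L764419) (flp_j L764273) L775747
theorem L775759 : sm gi N58540 = N57820 := ded_39_2 (flp_d L769220) (flp_i L764275) L775747
theorem L775761 : sm gh N58540 = N57946 := ded_38_2 (flp_d L770335) (flp_h L758586) (flp_d L751541) L764259 L775747
theorem L775763 : sm ge N57375 = N58541 := rfl
theorem L775765 : sm ga N58541 = N57377 := ded_13_1 (flp_e L764305) (flp_a L764279) L775763
theorem L775767 : sm gb N58541 = N57430 := ded_21_1 L764964 (flp_b L764281) L775763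
theorem L775769 : sm gc N58541 = N57417 := ded_28_1 (flp_e L764775) (flp_c L764291) L775763
theorem L775771 : sm gg N58541 = N57674 := ded_41_2 L767718 (flp_g L764285) L775763
theorem L775773 : sm gj N58541 = N57388 := ded_42_2 (flp_e L764431) (flp_j L764287) L775763
theorem L775775 : sm gh N58541 = N57423 := ded_43_2 (flp_e L764853) (flp_h L764293) L775763
theorem L775777 : sm gi N58541 = N57875 := ded_44_2 (flp_e L769636) (flp_i L764289) L775763
theorem L775779 : sm gf N58541 = N57428 := ded_40_2 (flp_e L764925) L752283 (flp_e L751906) (flp_f L764283) L775763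
theorem L775781 : sm gc N57376 = N58542 := rfl
theorem L775783 : sm gf N58542 = N58229 := ded_29_2 (flp_c L772348) (flp_f L764299) L775781
theorem L775785 : sm gj N58542 = N57392 := ded_31_2 (flp_c L764495) (flp_j L764301) L775781
theorem L775787 : sm gh N58542 = N57947 := ded_32_2 (flp_c L770347) (flp_h L764303) L775781
theorem L775789 : sm gd N58542 = N57821 := ded_27_2 (flp_c L769228) (flp_d L757465) (flp_c L751571) L764295 L775781
theorem L775791 : sm ge N57376 = N58543 := rfl
theorem L775793 : sm gb N58543 = N57379 := ded_21_1 (flp_e L764325) (flp_b L764297) L775791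
theorem L775795 : sm gj N58543 = N57393 := ded_42_2 (flp_e L764501) (flp_j L764301) L775791
theorem L775797 : sm gh N58543 = N57948 := ded_43_2 (flp_e L770353) (flp_h L764303) L775791
theorem L775799 : sm gd N58543 = N57377 := ded_34_1 (flp_e L764305) (flp_d L751579) (flp_e L751573) L764295 L775791
theorem L775801 : sm gf N57377 = N58544 := rfl
theorem L775803 : sm ga N58544 = N57428 := ded_14_1 (flp_f L775779) L775765 L775801
theorem L775805 : sm gb N58544 = N57380 := ded_22_1 (flp_f L764335) (flp_b L764307) L775801
theorem L775807 : sm gc N58544 = N57671 := ded_29_1 (flp_f L775000) L774990 L775801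
theorem L775809 : sm gj N58544 = N57394 := ded_46_2 (flp_f L764509) (flp_j L764309) L775801
theorem L775811 : sm gh N58544 = N57424 := ded_47_2 L764876 (flp_h L764311) L775801
theorem L775813 : sm gi N58544 = N58092 := ded_48_2 (flp_f L775336) L775334 L775801
theorem L775815 : sm ge N58544 = N57411 := ded_40_1 (flp_f L764685) (flp_e L751910) (flp_f L751583) L764305 L775801
theorem L775817 : sm gg N58544 = N57426 := ded_45_2 (flp_f L774403) L774405 L774456 L774450 L775801
theorem L775819 : sm gb N57378 = N58545 := rfl
theorem L775821 : sm gd N58545 = N57385 := ded_20_2 (flp_b L764395) (flp_d L764323) L775819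
theorem L775823 : sm gf N58545 = N58232 := ded_22_2 (flp_b L772362) (flp_f L764317) L775819
theorem L775825 : sm gj N58545 = N57401 := ded_24_2 (flp_b L764611) (flp_j L764319) L775819
theorem L775827 : sm gh N58545 = N57949 := ded_25_2 (flp_b L770359) (flp_h L764321) L775819
theorem L775829 : sm ge N57378 = N58546 := rfl
theorem L775831 : sm ga N58546 = N58315 := ded_13_1 (flp_e L772881) (flp_a L764315) L775829
theorem L775833 : sm gc N58546 = N57379 := ded_28_1 (flp_e L764325) L764313 L775829
theorem L775835 : sm gj N58546 = N57402 := ded_42_2 (flp_e L764617) (flp_j L764319) L775829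
theorem L775837 : sm gh N58546 = N57950 := ded_43_2 (flp_e L770365) (flp_h L764321) L775829
theorem L775839 : sm gf N57379 = N58547 := rfl
theorem L775841 : sm ga N58547 = N58289 := ded_14_1 L772713 (flp_a L764327) L775839
theorem L775843 : sm gd N58547 = N57380 := ded_35_1 (flp_f L764335) (flp_d L764333) L775839
theorem L775845 : sm gj N58547 = N57403 := ded_46_2 (flp_f L764623) (flp_j L764329) L775839
theorem L775847 : sm gh N58547 = N57789 := ded_47_2 L768915 (flp_h L764331) L775839
theorem L775849 : sm ge N58547 = N57784 := ded_40_1 L768853 L757084 (flp_f L751593) L764325 L775839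
theorem L775851 : sm gg N57380 = N58548 := rfl
theorem L775853 : sm ga N58548 = N57998 := ded_15_1 L770809 (flp_a L764337) L775851
theorem L775855 : sm gb N58548 = N57426 := ded_23_1 (flp_g L775817) L775805 L775851
theorem L775857 : sm ge N58548 = N57412 := ded_41_1 (flp_g L764703) (flp_e L764343) L775851
theorem L775859 : sm gh N58548 = N57425 := ded_50_2 L764893 (flp_h L764341) L775851
theorem L775861 : sm gj N58548 = N57755 := ded_49_2 L768561 L764645 (flp_g L764631) (flp_j L764339) L775851
theorem L775863 : sm gd N57381 = N58549 := rfl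
theorem L775865 : sm ga N58549 = N57577 := ded_12_1 (flp_d L766762) (flp_a L764347) L775863
theorem L775867 : sm gb N58549 = N57833 := ded_20_1 (flp_d L769336) (flp_b L764349) L775863
theorem L775869 : sm gg N58549 = N57405 := ded_36_2 (flp_d L764647) (flp_g L764355) L775863
theorem L775871 : sm gj N58549 = N57382 := ded_37_2 (flp_d L764361) (flp_j L764357) L775863
theorem L775873 : sm gi N58549 = N58256 := ded_39_2 (flp_d L772503) (flp_i L764359) L775863
theorem L775875 : sm gh N58549 = N57510 := ded_38_2 (flp_d L766021) (flp_h L754035) (flp_d L751615) L764345 L775863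
theorem L775877 : sm gc N57382 = N58550 := rfl
theorem L775879 : sm ga N58550 = N57596 := ded_11_1 (flp_c L766946) (flp_a L764363) L775877
theorem L775881 : sm gg N58550 = N57383 := ded_30_2 (flp_c L764371) (flp_g L764367) L775877
theorem L775883 : sm gh N58550 = N57518 := ded_32_2 (flp_c L766107) (flp_h L764369) L775877
theorem L775885 : sm gd N58550 = N57723 := ded_27_2 (flp_c L768242) (flp_d L756417) (flp_c L751629) L764361 L775877
theorem L775887 : sm ge N57382 = N58551 := rfl
theorem L775889 : sm ga N58551 = N57597 := ded_13_1 (flp_e L766954) (flp_a L764363) L775887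
theorem L775891 : sm gb N58551 = N57835 := ded_21_1 (flp_e L769346) (flp_b L764365) L775887
theorem L775893 : sm gg N58551 = N57384 := ded_41_2 (flp_e L764383) (flp_g L764367) L775887
theorem L775895 : sm gh N58551 = N57519 := ded_43_2 (flp_e L766115) (flp_h L764369) L775887
theorem L775897 : sm gd N58551 = N57414 := ded_34_1 (flp_e L764733) (flp_d L751952) (flp_e L751631) L764361 L775887
theorem L775899 : sm gb N57383 = N58552 := rfl
theorem L775901 : sm gd N58552 = N58232 := ded_20_2 (flp_b L772362) (flp_d L764381) L775899
theorem L775903 : sm gf N58552 = N57385 := ded_22_2 (flp_b L764395) (flp_f L764375) L775899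
theorem L775905 : sm gj N58552 = N57408 := ded_24_2 (flp_b L764669) (flp_j L764377) L775899
theorem L775907 : sm gh N58552 = N58133 := ded_25_2 (flp_b L771784) (flp_h L764379) L775899
theorem L775909 : sm gc N58552 = N57836 := ded_19_2 (flp_b L769352) (flp_c L757578) (flp_b L751639) L764371 L775899
theorem L775911 : sm ge N57383 = N58553 := rfl
theorem L775913 : sm ga N58553 = N58168 := ded_13_1 (flp_e L771980) (flp_a L764373) L775911
theorem L775915 : sm gc N58553 = N57384 := ded_28_1 (flp_e L764383) L764371 L775911
theorem L775917 : sm gj N58553 = N57409 := ded_42_2 (flp_e L764675) (flp_j L764377) L775911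
theorem L775919 : sm gh N58553 = N58134 := ded_43_2 (flp_e L771788) (flp_h L764379) L775911
theorem L775921 : sm ga N57385 = N58554 := rfl
theorem L775923 : sm gc N58554 = N57838 := ded_11_2 (flp_a L769364) (flp_c L764399) L775921
theorem L775925 : sm gj N58554 = N57410 := ded_16_2 (flp_a L764679) (flp_j L764397) L775921
theorem L775927 : sm gd N57386 = N58555 := rfl
theorem L775929 : sm ga N58555 = N57390 := ded_12_1 (flp_d L764465) (flp_a L764403) L775927
theorem L775931 : sm gb N58555 = N57784 := ded_20_1 (flp_d L768849) (flp_b L764405) L775927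
theorem L775933 : sm gf N58555 = N57781 := ded_35_2 (flp_d L768811) (flp_f L764411) L775927
theorem L775935 : sm gg N58555 = N57745 := ded_36_2 (flp_d L768461) (flp_g L764413) L775927
theorem L775937 : sm gj N58555 = N57946 := ded_37_2 (flp_d L770335) (flp_j L764415) L775927
theorem L775939 : sm gi N58555 = N58078 := ded_39_2 (flp_d L771415) (flp_i L764417) L775927
theorem L775941 : sm gh N58555 = N57387 := ded_38_2 (flp_d L764419) (flp_h L751669) (flp_d L751659) L764401 L775927
theorem L775943 : sm gc N57387 = N58556 := rfl
theorem L775945 : sm ga N58556 = N57392 := ded_11_1 (flp_c L764495) (flp_a L764421) L775943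
theorem L775947 : sm gf N58556 = N57782 := ded_29_2 (flp_c L768825) (flp_f L764425) L775943
theorem L775949 : sm gg N58556 = N58059 := ded_30_2 (flp_c L771296) (flp_g L764427) L775943
theorem L775951 : sm gi N58556 = N57844 := ded_33_2 (flp_c L769413) (flp_i L764429) L775943
theorem L775953 : sm gd N58556 = N57839 := ded_27_2 (flp_c L769368) (flp_d L757594) (flp_c L751675) L764419 L775943
theorem L775955 : sm ge N57387 = N58557 := rfl
theorem L775957 : sm ga N58557 = N57393 := ded_13_1 (flp_e L764501) (flp_a L764421) L775955
theorem L775959 : sm gb N58557 = N57789 := ded_21_1 (flp_e L768907) (flp_b L764423) L775955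
theorem L775961 : sm gg N58557 = N57419 := ded_41_2 L764803 (flp_g L764427) L775955
theorem L775963 : sm gi N58557 = N57845 := ded_44_2 (flp_e L769417) (flp_i L764429) L775955
theorem L775965 : sm gd N58557 = N57388 := ded_34_1 (flp_e L764431) (flp_d L751685) (flp_e L751677) L764419 L775955
theorem L775967 : sm gf N58557 = N57948 := ded_40_2 (flp_e L770353) L758606 (flp_e L757036) (flp_f L764425) L775955
theorem L775969 : sm gd N57389 = N58558 := rfl
theorem L775971 : sm ga N58558 = N58078 := ded_12_1 (flp_d L771415) (flp_a L764449) L775969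
theorem L775973 : sm gb N58558 = N57395 := ded_20_1 (flp_d L764525) (flp_b L764451) L775969
theorem L775975 : sm gf N58558 = N57809 := ded_35_2 (flp_d L769109) (flp_f L764457) L775969
theorem L775977 : sm gg N58558 = N58061 := ded_36_2 (flp_d L771310) (flp_g L764459) L775969
theorem L775979 : sm gj N58558 = N57632 := ded_37_2 (flp_d L767270) (flp_j L764461) L775969
theorem L775981 : sm gi N58558 = N57390 := ded_39_2 (flp_d L764465) (flp_i L764463) L775969
theorem L775983 : sm gh N58558 = N57811 := ded_38_2 (flp_d L769136) (flp_h L757372) (flp_d L751709) L764447 L775969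
theorem L775985 : sm gc N57390 = N58559 := rfl
theorem L775987 : sm gf N58559 = N58225 := ded_29_2 (flp_c L772328) (flp_f L764469) L775985
theorem L775989 : sm gg N58559 = N58062 := ded_30_2 (flp_c L771316) (flp_g L764471) L775985
theorem L775991 : sm gj N58559 = N57947 := ded_31_2 (flp_c L770347) (flp_j L764473) L775985
theorem L775993 : sm gh N58559 = N57392 := ded_32_2 (flp_c L764495) (flp_h L764475) L775985
theorem L775995 : sm gd N58559 = N58194 := ded_27_2 (flp_c L772139) (flp_d L760497) (flp_c L751723) L764465 L775985
theorem L775997 : sm ge N57390 = N58560 := rfl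
theorem L775999 : sm gb N58560 = N57397 := ded_21_1 (flp_e L764551) (flp_b L764467) L775997
theorem L776001 : sm gg N58560 = N58063 := ded_41_2 (flp_e L771320) (flp_g L764471) L775997
theorem L776003 : sm gj N58560 = N57948 := ded_42_2 (flp_e L770353) (flp_j L764473) L775997
theorem L776005 : sm gh N58560 = N57393 := ded_43_2 (flp_e L764501) (flp_h L764475) L775997
theorem L776007 : sm gd N58560 = N57428 := ded_34_1 (flp_e L764925) (flp_d L752279) (flp_e L751725) L764465 L775997
theorem L776009 : sm gc N57391 = N58561 := rfl
theorem L776011 : sm ga N58561 = N57782 := ded_11_1 (flp_c L768825) (flp_a L764479) L776009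
theorem L776013 : sm ge N58561 = N58228 := ded_28_2 (flp_c L772344) (flp_e L764491) L776009
theorem L776015 : sm gf N58561 = N57392 := ded_29_2 (flp_c L764495) (flp_f L764483) L776009
theorem L776017 : sm gg N58561 = N58255 := ded_30_2 (flp_c L772497) (flp_g L764485) L776009
theorem L776019 : sm gj N58561 = N58229 := ded_31_2 (flp_c L772348) (flp_j L764487) L776009
theorem L776021 : sm gh N58561 = N58225 := ded_32_2 (flp_c L772328) (flp_h L764493) L776009
theorem L776023 : sm gi N58561 = N57839 := ded_33_2 (flp_c L769368) (flp_i L764489) L776009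
theorem L776025 : sm gd N58561 = N57844 := ded_27_2 (flp_c L769413) (flp_d L757646) (flp_c L751739) L764477 L776009
theorem L776027 : sm gb N57392 = N58562 := rfl
theorem L776029 : sm gd N58562 = N57846 := ded_20_2 (flp_b L769423) (flp_d L764499) L776027
theorem L776031 : sm gg N58562 = N58067 := ded_23_2 (flp_b L771352) (flp_g L764497) L776027
theorem L776033 : sm gc N58562 = N57401 := ded_19_2 (flp_b L764611) (flp_c L751839) (flp_b L751753) L764495 L776027
theorem L776035 : sm ge N57392 = N58563 := rfl
theorem L776037 : sm gc N58563 = N57393 := ded_28_1 (flp_e L764501) L764495 L776035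
theorem L776039 : sm gg N58563 = N58068 := ded_41_2 (flp_e L771358) (flp_g L764497) L776035
theorem L776041 : sm gf N57393 = N58564 := rfl
theorem L776043 : sm ga N58564 = N57948 := ded_14_1 (flp_f L775967) L775957 L776041
theorem L776045 : sm gb N58564 = N57403 := ded_22_1 (flp_f L764623) (flp_b L764503) L776041
theorem L776047 : sm gd N58564 = N57394 := ded_35_1 (flp_f L764509) (flp_d L764507) L776041
theorem L776049 : sm gi N58564 = N58080 := ded_48_2 (flp_f L775471) L775467 L776041
theorem L776051 : sm ge N58564 = N57946 := ded_40_1 L770341 (flp_e L764491) L764483 L764501 L776041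
theorem L776053 : sm gg N58564 = N57672 := ded_45_2 L767696 (flp_g L769790) L769788 (flp_g L764505) L776041
theorem L776055 : sm gc N57395 = N58565 := rfl
theorem L776057 : sm ga N58565 = N58006 := ded_11_1 (flp_c L770877) (flp_a L764527) L776055
theorem L776059 : sm gf N58565 = N57832 := ded_29_2 L769328 (flp_f L764529) L776055
theorem L776061 : sm gg N58565 = N58073 := ded_30_2 (flp_c L771389) (flp_g L764531) L776055
theorem L776063 : sm gj N58565 = N57867 := ded_31_2 L769590 (flp_j L764533) L776055
theorem L776065 : sm gi N58565 = N57396 := ded_33_2 (flp_c L764537) (flp_i L764535) L776055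
theorem L776067 : sm gd N58565 = N57943 := ded_27_2 (flp_c L770301) (flp_d L758550) (flp_c L751769) L764525 L776055
theorem L776069 : sm ge N57395 = N58566 := rfl
theorem L776071 : sm ga N58566 = N58007 := ded_13_1 (flp_e L770887) (flp_a L764527) L776069
theorem L776073 : sm gg N58566 = N58074 := ded_41_2 (flp_e L771393) (flp_g L764531) L776069
theorem L776075 : sm gj N58566 = N57864 := ded_42_2 L769568 (flp_j L764533) L776069
theorem L776077 : sm gi N58566 = N57397 := ded_44_2 (flp_e L764551) (flp_i L764535) L776069
theorem L776079 : sm gd N58566 = N57429 := ded_34_1 (flp_e L764937) (flp_d L752319) (flp_e L751771) L764525 L776069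
theorem L776081 : sm gf N58566 = N57830 := ded_40_2 (flp_e L769312) L757546 L757556 (flp_f L764529) L776069
theorem L776083 : sm gb N57396 = N58567 := rfl
theorem L776085 : sm gd N58567 = N57945 := ded_20_2 (flp_b L770325) (flp_d L764549) L776083
theorem L776087 : sm gf N58567 = N58226 := ded_22_2 (flp_b L772332) (flp_f L764541) L776083
theorem L776089 : sm gg N58567 = N58075 := ded_23_2 (flp_b L771399) (flp_g L764543) L776083
theorem L776091 : sm gj N58567 = N57949 := ded_24_2 (flp_b L770359) (flp_j L764545) L776083
theorem L776093 : sm gh N58567 = N57401 := ded_25_2 (flp_b L764611) (flp_h L764547) L776083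
theorem L776095 : sm ge N57396 = N58568 := rfl
theorem L776097 : sm ga N58568 = N58293 := ded_13_1 (flp_e L772743) (flp_a L764539) L776095
theorem L776099 : sm gc N58568 = N57397 := ded_28_1 (flp_e L764551) L764537 L776095
theorem L776101 : sm gg N58568 = N58076 := ded_41_2 (flp_e L771403) (flp_g L764543) L776095
theorem L776103 : sm gj N58568 = N57950 := ded_42_2 (flp_e L770365) (flp_j L764545) L776095
theorem L776105 : sm gh N58568 = N57402 := ded_43_2 (flp_e L764617) (flp_h L764547) L776095
theorem L776107 : sm gd N58568 = N58053 := ded_34_1 (flp_e L771248) L759543 (flp_e L758580) (flp_d L764549) L776095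
theorem L776109 : sm gf N57397 = N58569 := rfl
theorem L776111 : sm ga N58569 = N58294 := ded_14_1 (flp_f L772749) (flp_a L764553) L776109
theorem L776113 : sm gd N58569 = N57430 := ded_35_1 (flp_f L764952) (flp_d L764561) L776109
theorem L776115 : sm gj N58569 = N57789 := ded_46_2 L768915 (flp_j L764557) L776109
theorem L776117 : sm gh N58569 = N57403 := ded_47_2 (flp_f L764623) (flp_h L764559) L776109
theorem L776119 : sm gi N58569 = N57830 := ded_48_2 (flp_f L776081) L776077 L776109
theorem L776121 : sm ge N58569 = N57774 := ded_40_1 L768747 L756978 (flp_f L751785) L764551 L776109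
theorem L776123 : sm gd N57398 = N58570 := rfl
theorem L776125 : sm ga N58570 = N57809 := ded_12_1 (flp_d L769109) (flp_a L764565) L776123
theorem L776127 : sm gb N58570 = N57785 := ded_20_1 (flp_d L768859) (flp_b L764567) L776123
theorem L776129 : sm gf N58570 = N58078 := ded_35_2 (flp_d L771415) (flp_f L764573) L776123
theorem L776131 : sm gg N58570 = N57709 := ded_36_2 (flp_d L768087) (flp_g L764575) L776123
theorem L776133 : sm gj N58570 = N57399 := ded_37_2 (flp_d L764581) (flp_j L764577) L776123
theorem L776135 : sm gi N58570 = N57781 := ded_39_2 (flp_d L768811) (flp_i L764579) L776123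
theorem L776137 : sm ge N58570 = N57819 := ded_34_2 (flp_d L769206) L757428 (flp_d L752036) (flp_e L764571) L776123
theorem L776139 : sm gh N58570 = N57705 := ded_38_2 (flp_d L768044) (flp_h L756223) (flp_d L751801) L764563 L776123
theorem L776141 : sm gc N57399 = N58571 := rfl
theorem L776143 : sm ga N58571 = N57847 := ded_11_1 L769431 (flp_a L764583) L776141
theorem L776145 : sm ge N58571 = N57839 := ded_28_2 (flp_c L769368) (flp_e L764593) L776141
theorem L776147 : sm gf N58571 = N58079 := ded_29_2 (flp_c L771419) (flp_f L764587) L776141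
theorem L776149 : sm gg N58571 = N57400 := ded_30_2 (flp_c L764597) (flp_g L764589) L776141
theorem L776151 : sm gh N58571 = N58221 := ded_32_2 (flp_c L772305) (flp_h L764595) L776141
theorem L776153 : sm gi N58571 = N58228 := ded_33_2 (flp_c L772344) (flp_i L764591) L776141
theorem L776155 : sm gd N58571 = N57406 := ded_27_2 (flp_c L764655) (flp_d L751869) (flp_c L751817) L764581 L776141
theorem L776157 : sm gb N57400 = N58572 := rfl
theorem L776159 : sm gd N58572 = N57408 := ded_20_2 (flp_b L764669) (flp_d L764609) L776157
theorem L776161 : sm ge N58572 = N58303 := ded_21_2 (flp_b L772815) (flp_e L764601) L776157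
theorem L776163 : sm gf N58572 = N57401 := ded_22_2 (flp_b L764611) (flp_f L764603) L776157
theorem L776165 : sm gj N58572 = N58232 := ded_24_2 (flp_b L772362) (flp_j L764605) L776157
theorem L776167 : sm gh N58572 = N58226 := ded_25_2 (flp_b L772332) (flp_h L764607) L776157
theorem L776169 : sm ga N57401 = N58573 := rfl
theorem L776171 : sm gd N58573 = N57410 := ded_12_2 (flp_a L764679) (flp_d L764613) L776169
theorem L776173 : sm gg N58573 = N58083 := ded_15_2 (flp_a L771441) (flp_g L764615) L776169
theorem L776175 : sm ge N57401 = N58574 := rfl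
theorem L776177 : sm gb N58574 = N57402 := ded_21_1 (flp_e L764617) L764611 L776175
theorem L776179 : sm gg N58574 = N58084 := ded_41_2 (flp_e L771445) (flp_g L764615) L776175
theorem L776181 : sm gf N57402 = N58575 := rfl
theorem L776183 : sm ga N58575 = N58307 := ded_14_1 (flp_f L774904) L774892 L776181
theorem L776185 : sm gc N58575 = N57403 := ded_29_1 (flp_f L764623) (flp_c L764619) L776181
theorem L776187 : sm ge N58575 = N58302 := ded_40_1 L772813 (flp_e L764601) L764603 L764617 L776181
theorem L776189 : sm gg N57403 = N58576 := rfl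
theorem L776191 : sm ga N58576 = N58305 := ded_15_1 L772825 (flp_a L764625) L776189
theorem L776193 : sm gb N58576 = N57672 := ded_23_1 (flp_g L776053) L776045 L776189
theorem L776195 : sm gd N58576 = N57404 := ded_36_1 (flp_g L764631) (flp_d L764627) L776189
theorem L776197 : sm ge N58576 = N58022 := ded_41_1 L771030 (flp_e L764629) L776189
theorem L776199 : sm gi N58576 = N58066 := ded_51_2 L775564 L775560 L776189
theorem L776201 : sm gf N58576 = N57894 := ded_45_1 L769810 (flp_f L759716) (flp_g L751847) L764623 L776189
theorem L776203 : sm gj N58238 = N58576 := ded_24_0 L776193 L767698 (flp_b L772400)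
theorem L776205 : sm gc N57405 = N58577 := rfl
theorem L776207 : sm gf N58577 = N58086 := ded_29_2 (flp_c L771453) (flp_f L764651) L776205
theorem L776209 : sm gj N58577 = N57406 := ded_31_2 (flp_c L764655) (flp_j L764653) L776205
theorem L776211 : sm ge N57405 = N58578 := rfl
theorem L776213 : sm gb N58578 = N57869 := ded_21_1 (flp_e L769602) (flp_b L764649) L776211
theorem L776215 : sm gj N58578 = N57407 := ded_42_2 (flp_e L764661) (flp_j L764653) L776211
theorem L776217 : sm gh N58578 = N58164 := ded_43_2 (flp_e L773345) L773347 L776211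
theorem L776219 : sm gd N58578 = N57417 := ded_34_1 (flp_e L764775) (flp_d L752056) (flp_e L751863) L764647 L776211
theorem L776221 : sm gf N58578 = N58160 := ded_40_2 (flp_e L771936) (flp_f L763133) L763137 (flp_f L764651) L776211
theorem L776223 : sm gb N57406 = N58579 := rfl
theorem L776225 : sm gf N58579 = N58087 := ded_22_2 (flp_b L771457) (flp_f L764657) L776223
theorem L776227 : sm gg N58579 = N57408 := ded_23_2 (flp_b L764669) (flp_g L764659) L776223
theorem L776229 : sm gc N58579 = N57870 := ded_19_2 (flp_b L769612) (flp_c L757790) (flp_b L751871) L764655 L776223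
theorem L776231 : sm ge N57406 = N58580 := rfl
theorem L776233 : sm gc N58580 = N57407 := ded_28_1 (flp_e L764661) L764655 L776231
theorem L776235 : sm gg N58580 = N57409 := ded_41_2 (flp_e L764675) (flp_g L764659) L776231
theorem L776237 : sm ga N57408 = N58581 := rfl
theorem L776239 : sm gc N58581 = N57872 := ded_11_2 (flp_a L769624) (flp_c L764673) L776237
theorem L776241 : sm gf N58581 = N57410 := ded_14_2 (flp_a L764679) (flp_f L764671) L776237
theorem L776243 : sm ge N57408 = N58582 := rfl
theorem L776245 : sm gb N58582 = N57409 := ded_21_1 (flp_e L764675) L764669 L776243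
theorem L776247 : sm gc N58582 = N57873 := ded_28_1 (flp_e L769628) (flp_c L764673) L776243
theorem L776249 : sm gd N57409 = N58583 := rfl
theorem L776251 : sm ga N58583 = N58068 := ded_12_1 (flp_d L774972) L774964 L776249
theorem L776253 : sm gc N58583 = N57419 := ded_27_1 (flp_d L764799) L752094 (flp_d L751885) (flp_c L764677) L776249
theorem L776255 : sm ge N58583 = N58059 := ded_34_2 L771300 (flp_e L764601) L764609 L764675 L776249
theorem L776257 : sm ge N57413 = N58584 := rfl
theorem L776259 : sm ga N58584 = N57622 := ded_13_1 (flp_e L767157) (flp_a L764718) L776257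
theorem L776261 : sm gb N58584 = N57881 := ded_21_1 (flp_e L769692) (flp_b L764720) L776257
theorem L776263 : sm gc N58584 = N57674 := ded_28_1 L767718 (flp_c L764729) L776257
theorem L776265 : sm gg N58584 = N57417 := ded_41_2 (flp_e L764775) (flp_g L764723) L776257
theorem L776267 : sm gj N58584 = N57414 := ded_42_2 (flp_e L764733) (flp_j L764725) L776257
theorem L776269 : sm gh N58584 = N57420 := ded_43_2 (flp_e L764805) (flp_h L764731) L776257
theorem L776271 : sm gi N58584 = N58334 := ded_44_2 (flp_e L772984) (flp_i L764727) L776257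
theorem L776273 : sm gf N57620 = N58584 := ded_56_1 (flp_e L776257) (flp_d L764716) L751943 L742488 (flp_a L744259) L744268 L727437 L744449 L744459 (flp_c L735822) L735820 (flp_a L741976) L756108 L756116 L741992 L725040 L712558 (flp_b L709061) L709059 (flp_h L693077) L671016 L387393 L266140 L183045 L126188 L87140 (flp_h L125661) (flp_f L182406) (flp_e L263244) (flp_d L636991) L361318 (flp_b L361185) (flp_a L659818) L682257 L682262 L659870 (flp_d L680893) (flp_c L701901) L701899 L693671 L682925 (flp_f L704221) L704219 (flp_d L707345) (flp_c L726888) (flp_b L743980) L743978 L745653 L745659 L729169 L732470 L748286 (flp_b L749825) L749816 L744137 (flp_f L744193) L758106 L769906 L769917 (flp_b L766236) L766234 L767138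
theorem L776275 : sm gf N57414 = N58585 := rfl
theorem L776277 : sm ga N58585 = N57629 := ded_14_1 (flp_f L767239) (flp_a L764735) L776275
theorem L776279 : sm gb N58585 = N57884 := ded_22_1 (flp_f L769719) (flp_b L764737) L776275
theorem L776281 : sm gc N58585 = N57904 := ded_29_1 L769902 (flp_c L764739) L776275
theorem L776283 : sm gj N58585 = N57620 := ded_46_2 L776273 L776267 L776275
theorem L776285 : sm gh N58585 = N57421 := ded_47_2 (flp_f L764822) (flp_h L764743) L776275
theorem L776287 : sm ge N58585 = N58585 := ded_40_1 (flp_f L776275) (flp_e L764733) L751958 L764733 L776275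
theorem L776288 : sm ge N57415 = N58586 := rfl
theorem L776290 : sm ga N58586 = N57965 := ded_13_1 (flp_e L770500) (flp_a L764759) L776288
theorem L776292 : sm gb N58586 = N57416 := ded_21_1 (flp_e L764763) L764745 L776288
theorem L776294 : sm gc N58586 = N57886 := ded_28_1 (flp_e L769736) (flp_c L764761) L776288
theorem L776296 : sm gg N58586 = N58332 := ded_41_2 (flp_e L772973) (flp_g L764751) L776288
theorem L776298 : sm gj N58586 = N57418 := ded_42_2 (flp_e L764785) (flp_j L764753) L776288
theorem L776300 : sm gh N58586 = N57422 := ded_43_2 (flp_e L764836) (flp_h L764755) L776288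
theorem L776302 : sm gi N58586 = N57888 := ded_44_2 (flp_e L769752) (flp_i L764757) L776288
theorem L776304 : sm gf N58586 = N58239 := ded_40_2 (flp_e L772404) L760764 (flp_e L751993) (flp_f L764749) L776288
theorem L776306 : sm gd N57416 = N58587 := rfl
theorem L776308 : sm ga N58587 = N58044 := ded_12_1 L771183 (flp_a L764765) L776306
theorem L776310 : sm gg N58587 = N58242 := ded_36_2 L772424 (flp_g L764769) L776306
theorem L776312 : sm gj N58587 = N57419 := ded_37_2 (flp_d L764799) (flp_j L764771) L776306
theorem L776314 : sm ge N58587 = N57758 := ded_34_2 (flp_d L768599) L756829 (flp_d L751977) L764763 L776306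
theorem L776316 : sm gh N58587 = N57762 := ded_38_2 L768634 L756859 (flp_d L752151) (flp_h L764773) L776306
theorem L776318 : sm gd N57418 = N58588 := rfl
theorem L776320 : sm ga N58588 = N57976 := ded_12_1 L770605 (flp_a L764787) L776318
theorem L776322 : sm gb N58588 = N57419 := ded_20_1 (flp_d L764799) (flp_b L764789) L776318
theorem L776324 : sm gg N58588 = N57789 := ded_36_2 L768913 (flp_g L764793) L776318
theorem L776326 : sm gi N58588 = N57861 := ded_39_2 L769548 (flp_i L764797) L776318
theorem L776328 : sm ge N58588 = N57787 := ded_34_2 (flp_d L768885) L757096 (flp_d L752076) L764785 L776318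
theorem L776330 : sm gh N57419 = N58589 := rfl
theorem L776332 : sm ga N58589 = N58063 := ded_17_1 L771324 (flp_a L764801) L776330
theorem L776334 : sm ge N58589 = N57745 := ded_43_1 L768467 (flp_e L764803) L776330
theorem L776336 : sm gj N58589 = N57762 := ded_52_1 (flp_h L776316) L776312 L776330
theorem L776338 : sm gd N58589 = N57426 := ded_38_1 (flp_h L764900) (flp_d L752203) (flp_h L752096) L764799 L776330
theorem L776340 : sm gi N57426 = N58590 := rfl
theorem L776342 : sm ga N58590 = N58096 := ded_18_1 L771532 (flp_a L764902) L776340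
theorem L776344 : sm ge N58590 = N57535 := ded_44_1 L766335 (flp_e L764904) L776340
theorem L776346 : sm gg N58590 = N58092 := ded_51_1 (flp_i L775813) L775817 L776340
theorem L776348 : sm gj N58590 = N57544 := ded_53_1 L766429 (flp_j L764906) L776340
theorem L776350 : sm gh N58590 = N58590 := ded_54_1 (flp_i L776340) (flp_h L764900) L752209 L764900 L776340
theorem L776351 : sm ge N57427 = N58591 := rfl
theorem L776353 : sm ga N58591 = N58092 := ded_13_1 (flp_e L771502) (flp_a L764910) L776351
theorem L776355 : sm gb N58591 = N57429 := ded_21_1 (flp_e L764937) (flp_b L764912) L776351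
theorem L776357 : sm gc N58591 = N57679 := ded_28_1 (flp_e L767764) (flp_c L764922) L776351
theorem L776359 : sm gg N58591 = N58096 := ded_41_2 (flp_e L771527) (flp_g L764916) L776351
theorem L776361 : sm gj N58591 = N57633 := ded_42_2 (flp_e L767284) (flp_j L764918) L776351
theorem L776363 : sm gh N58591 = N58591 := ded_43_2 (flp_e L776351) L764924 L776351
theorem L776364 : sm gi N58591 = N57428 := ded_44_2 (flp_e L764925) (flp_i L764920) L776351
theorem L776366 : sm gf N58591 = N57875 := ded_40_2 (flp_e L769636) L757818 (flp_e L755443) (flp_f L764914) L776351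
theorem L776368 : sm gg N57430 = N58592 := rfl
theorem L776370 : sm ga N58592 = N58331 := ded_15_1 (flp_g L772965) (flp_a L764954) L776368
theorem L776372 : sm gb N58592 = N57674 := ded_23_1 (flp_g L775771) L775767 L776368
theorem L776374 : sm gc N58592 = N58055 := ded_30_1 (flp_g L771260) (flp_c L764956) L776368
theorem L776376 : sm ge N58592 = N57797 := ded_41_1 L768976 (flp_e L764964) L776368
theorem L776378 : sm gh N58592 = N57431 := ded_50_2 (flp_g L764966) (flp_h L764960) L776368
theorem L776380 : sm gi N58592 = N57878 := ded_51_2 L769667 (flp_i L764962) L776368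
theorem L776382 : sm gf N58592 = N57909 := ded_45_1 L769954 (flp_f L759871) (flp_g L752340) L764952 L776368
theorem L776384 : sm gj N58592 = N58332 := ded_49_2 (flp_g L776296) L776298 L764793 (flp_j L764958) L776368
theorem L776386 : sm gd N57432 = N58593 := rfl
theorem L776388 : sm ga N58593 = N57547 := ded_12_1 (flp_d L766451) (flp_a L764985) L776386
theorem L776390 : sm gb N58593 = N57441 := ded_20_1 (flp_d L765137) (flp_b L764987) L776386
theorem L776392 : sm gf N58593 = N57468 := ded_35_2 (flp_d L765491) (flp_f L764993) L776386
theorem L776394 : sm gg N58593 = N57497 := ded_36_2 (flp_d L765865) (flp_g L764995) L776386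
theorem L776396 : sm gj N58593 = N57433 := ded_37_2 (flp_d L765001) (flp_j L764997) L776386
theorem L776398 : sm gi N58593 = N57509 := ded_39_2 (flp_d L766011) (flp_i L764999) L776386
theorem L776400 : sm ge N58593 = N57482 := ded_34_2 (flp_d L765653) L753579 (flp_d L752701) (flp_e L764991) L776386
theorem L776402 : sm gh N58593 = N57631 := ded_38_2 (flp_d L767258) (flp_h L755375) (flp_d L752679) L764983 L776386
theorem L776404 : sm gc N57433 = N58594 := rfl
theorem L776406 : sm ga N58594 = N57935 := ded_11_1 (flp_c L770222) (flp_a L765003) L776404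
theorem L776408 : sm ge N58594 = N57488 := ded_28_2 (flp_c L765732) (flp_e L765013) L776404
theorem L776410 : sm gf N58594 = N58147 := ded_29_2 (flp_c L771864) (flp_f L765007) L776404
theorem L776412 : sm gg N58594 = N57921 := ded_30_2 (flp_c L770076) (flp_g L765009) L776404
theorem L776414 : sm gh N58594 = N57634 := ded_32_2 (flp_c L767299) (flp_h L765015) L776404
theorem L776416 : sm gi N58594 = N58131 := ded_33_2 (flp_c L771770) (flp_i L765011) L776404
theorem L776418 : sm gd N58594 = N58149 := ded_27_2 (flp_c L771876) (flp_d L760231) (flp_c L752711) L765001 L776404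
theorem L776420 : sm gd N57434 = N58595 := rfl
theorem L776422 : sm ga N58595 = N57453 := ded_12_1 (flp_d L765302) (flp_a L765019) L776420
theorem L776424 : sm gb N58595 = N57509 := ded_20_1 (flp_d L766011) (flp_b L765021) L776420
theorem L776426 : sm gf N58595 = N57457 := ded_35_2 (flp_d L765362) (flp_f L765027) L776420
theorem L776428 : sm gg N58595 = N57482 := ded_36_2 (flp_d L765653) (flp_g L765029) L776420
theorem L776430 : sm gj N58595 = N57438 := ded_37_2 (flp_d L765088) (flp_j L765031) L776420
theorem L776432 : sm gi N58595 = N57441 := ded_39_2 (flp_d L765137) (flp_i L765033) L776420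
theorem L776434 : sm ge N58595 = N57497 := ded_34_2 (flp_d L765865) L753837 (flp_d L752753) (flp_e L765025) L776420
theorem L776436 : sm gh N58595 = N57677 := ded_38_2 (flp_d L767746) (flp_h L755914) (flp_d L752729) L765017 L776420
theorem L776438 : sm gd N57435 = N58596 := rfl
theorem L776440 : sm ga N58596 = N57457 := ded_12_1 (flp_d L765362) (flp_a L765037) L776438
theorem L776442 : sm gb N58596 = N57598 := ded_20_1 (flp_d L766962) (flp_b L765039) L776438
theorem L776444 : sm gf N58596 = N57453 := ded_35_2 (flp_d L765302) (flp_f L765045) L776438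
theorem L776446 : sm gg N58596 = N57589 := ded_36_2 (flp_d L766881) (flp_g L765047) L776438
theorem L776448 : sm gj N58596 = N57460 := ded_37_2 (flp_d L765395) (flp_j L765049) L776438
theorem L776450 : sm gi N58596 = N57442 := ded_39_2 (flp_d L765149) (flp_i L765051) L776438
theorem L776452 : sm ge N57436 = N58597 := rfl
theorem L776454 : sm ga N58597 = N57458 := ded_13_1 (flp_e L765368) (flp_a L765055) L776452
theorem L776456 : sm gb N58597 = N57614 := ded_21_1 (flp_e L767089) (flp_b L765057) L776452
theorem L776458 : sm gc N58597 = N57503 := ded_28_1 (flp_e L765945) (flp_c L765067) L776452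
theorem L776460 : sm gg N58597 = N57612 := ded_41_2 (flp_e L767059) (flp_g L765061) L776452
theorem L776462 : sm gj N58597 = N57465 := ded_42_2 (flp_e L765460) (flp_j L765063) L776452
theorem L776464 : sm gh N58597 = N58597 := ded_43_2 (flp_e L776452) L765069 L776452
theorem L776465 : sm gi N58597 = N57443 := ded_44_2 (flp_e L765161) (flp_i L765065) L776452
theorem L776467 : sm gf N58597 = N57567 := ded_40_2 (flp_e L766646) L754710 (flp_e L752833) (flp_f L765059) L776452
theorem L776469 : sm gd N57437 = N58598 := rfl
theorem L776471 : sm ga N58598 = N57460 := ded_12_1 (flp_d L765395) (flp_a L765072) L776469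
theorem L776473 : sm gb N58598 = N57931 := ded_20_1 (flp_d L770188) (flp_b L765074) L776469
theorem L776475 : sm gf N58598 = N57438 := ded_35_2 (flp_d L765088) (flp_f L765080) L776469
theorem L776477 : sm gg N58598 = N57927 := ded_36_2 (flp_d L770140) (flp_g L765082) L776469
theorem L776479 : sm gj N58598 = N57457 := ded_37_2 (flp_d L765362) (flp_j L765084) L776469
theorem L776481 : sm gi N58598 = N57444 := ded_39_2 (flp_d L765177) (flp_i L765086) L776469
theorem L776483 : sm gh N58598 = N58189 := ded_38_2 (flp_d L772106) (flp_h L760464) (flp_d L752797) L765070 L776469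
theorem L776485 : sm gc N57438 = N58599 := rfl
theorem L776487 : sm ga N58599 = N57461 := ded_11_1 (flp_c L765401) (flp_a L765090) L776485
theorem L776489 : sm ge N58599 = N57505 := ded_28_2 (flp_c L765962) (flp_e L765098) L776485
theorem L776491 : sm gg N58599 = N58098 := ded_30_2 (flp_c L771540) (flp_g L765094) L776485
theorem L776493 : sm gh N58599 = N58200 := ded_32_2 (flp_c L772177) (flp_h L765100) L776485
theorem L776495 : sm gi N58599 = N57445 := ded_33_2 (flp_c L765191) (flp_i L765096) L776485
theorem L776497 : sm ge N57439 = N58600 := rfl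
theorem L776499 : sm ga N58600 = N57465 := ded_13_1 (flp_e L765460) (flp_a L765104) L776497
theorem L776501 : sm gb N58600 = N57939 := ded_21_1 (flp_e L770257) (flp_b L765106) L776497
theorem L776503 : sm gc N58600 = N57551 := ded_28_1 (flp_e L766503) (flp_c L765116) L776497
theorem L776505 : sm gg N58600 = N57938 := ded_41_2 (flp_e L770248) (flp_g L765110) L776497
theorem L776507 : sm gj N58600 = N57458 := ded_42_2 (flp_e L765368) (flp_j L765112) L776497
theorem L776509 : sm gh N58600 = N58600 := ded_43_2 (flp_e L776497) L765118 L776497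
theorem L776510 : sm gi N58600 = N57446 := ded_44_2 (flp_e L765201) (flp_i L765114) L776497
theorem L776512 : sm gf N58600 = N57508 := ded_40_2 (flp_e L766004) L754003 (flp_e L752866) (flp_f L765108) L776497
theorem L776514 : sm gd N57440 = N58601 := rfl
theorem L776516 : sm ga N58601 = N57466 := ded_12_1 (flp_d L765467) (flp_a L765121) L776514
theorem L776518 : sm gb N58601 = N57497 := ded_20_1 (flp_d L765865) (flp_b L765123) L776514
theorem L776520 : sm gf N58601 = N57486 := ded_35_2 (flp_d L765715) (flp_f L765129) L776514
theorem L776522 : sm gg N58601 = N57441 := ded_36_2 (flp_d L765137) (flp_g L765131) L776514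
theorem L776524 : sm gj N58601 = N57481 := ded_37_2 (flp_d L765639) (flp_j L765133) L776514
theorem L776526 : sm gi N58601 = N57482 := ded_39_2 (flp_d L765653) (flp_i L765135) L776514
theorem L776528 : sm ge N58601 = N57509 := ded_34_2 (flp_d L766011) L754029 (flp_d L752901) (flp_e L765127) L776514
theorem L776530 : sm gh N58601 = N57635 := ded_38_2 (flp_d L767309) (flp_h L755446) (flp_d L752877) L765119 L776514
theorem L776532 : sm gc N57441 = N58602 := rfl
theorem L776534 : sm ga N58602 = N57467 := ded_11_1 (flp_c L765483) (flp_a L765139) L776532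
theorem L776536 : sm ge N58602 = N57513 := ded_28_2 (flp_c L766057) (flp_e L765145) L776532
theorem L776538 : sm gf N58602 = N57471 := ded_29_2 (flp_c L765529) (flp_f L765141) L776532
theorem L776540 : sm gj N58602 = N57445 := ded_31_2 (flp_c L765191) (flp_j L765143) L776532
theorem L776542 : sm gh N58602 = N57636 := ded_32_2 (flp_c L767321) (flp_h L765147) L776532
theorem L776544 : sm gd N58602 = N57475 := ded_27_2 (flp_c L765569) (flp_d L753400) (flp_c L752909) L765137 L776532
theorem L776546 : sm gc N57442 = N58603 := rfl
theorem L776548 : sm ga N58603 = N57471 := ded_11_1 (flp_c L765529) (flp_a L765151) L776546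
theorem L776550 : sm gf N58603 = N57467 := ded_29_2 (flp_c L765483) (flp_f L765153) L776546
theorem L776552 : sm gg N58603 = N58100 := ded_30_2 (flp_c L771568) (flp_g L765155) L776546
theorem L776554 : sm gj N58603 = N57475 := ded_31_2 (flp_c L765569) (flp_j L765157) L776546
theorem L776556 : sm gh N58603 = N57658 := ded_32_2 (flp_c L767562) (flp_h L765159) L776546
theorem L776558 : sm gd N58603 = N57445 := ded_27_2 (flp_c L765191) (flp_d L752963) (flp_c L752921) L765149 L776546
theorem L776560 : sm ge N57442 = N58604 := rfl
theorem L776562 : sm ga N58604 = N57472 := ded_13_1 (flp_e L765535) (flp_a L765151) L776560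
theorem L776564 : sm gb N58604 = N58135 := ded_21_1 (flp_e L773062) L773052 L776560
theorem L776566 : sm gg N58604 = N58101 := ded_41_2 (flp_e L771574) (flp_g L765155) L776560
theorem L776568 : sm gj N58604 = N57476 := ded_42_2 (flp_e L765575) (flp_j L765157) L776560
theorem L776570 : sm gh N58604 = N57659 := ded_43_2 (flp_e L767570) (flp_h L765159) L776560
theorem L776572 : sm gd N58604 = N57443 := ded_34_1 (flp_e L765161) (flp_d L752931) (flp_e L752923) L765149 L776560
theorem L776574 : sm gf N58604 = N57582 := ded_40_2 (flp_e L766800) L754874 (flp_e L753326) (flp_f L765153) L776560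
theorem L776576 : sm gc N57444 = N58605 := rfl
theorem L776578 : sm ga N58605 = N57475 := ded_11_1 (flp_c L765569) (flp_a L765179) L776576
theorem L776580 : sm gf N58605 = N57445 := ded_29_2 (flp_c L765191) (flp_f L765183) L776576
theorem L776582 : sm gg N58605 = N58152 := ded_30_2 (flp_c L771892) (flp_g L765185) L776576
theorem L776584 : sm gj N58605 = N57471 := ded_31_2 (flp_c L765529) (flp_j L765187) L776576
theorem L776586 : sm gh N58605 = N57637 := ded_32_2 (flp_c L767333) (flp_h L765189) L776576
theorem L776588 : sm gd N58605 = N57467 := ded_27_2 (flp_c L765483) (flp_d L753322) (flp_c L752953) L765177 L776576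
theorem L776590 : sm ge N57444 = N58606 := rfl
theorem L776592 : sm ga N58606 = N57476 := ded_13_1 (flp_e L765575) (flp_a L765179) L776590
theorem L776594 : sm gb N58606 = N58148 := ded_21_1 (flp_e L771870) (flp_b L765181) L776590
theorem L776596 : sm gg N58606 = N58153 := ded_41_2 (flp_e L771896) (flp_g L765185) L776590
theorem L776598 : sm gj N58606 = N57472 := ded_42_2 (flp_e L765535) (flp_j L765187) L776590
theorem L776600 : sm gh N58606 = N57638 := ded_43_2 (flp_e L767343) (flp_h L765189) L776590
theorem L776602 : sm gd N58606 = N57446 := ded_34_1 (flp_e L765201) (flp_d L752973) (flp_e L752955) L765177 L776590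
theorem L776604 : sm gf N58606 = N57522 := ded_40_2 (flp_e L766143) L754147 (flp_e L752969) (flp_f L765183) L776590
theorem L776606 : sm gb N57445 = N58607 := rfl
theorem L776608 : sm ge N58607 = N57523 := ded_21_2 (flp_b L766151) (flp_e L765195) L776606
theorem L776610 : sm gg N58607 = N58103 := ded_23_2 (flp_b L771590) (flp_g L765197) L776606
theorem L776612 : sm gh N58607 = N57639 := ded_25_2 (flp_b L767353) (flp_h L765199) L776606
theorem L776614 : sm gh N57447 = N58608 := rfl
theorem L776616 : sm ga N58608 = N58104 := ded_17_1 (flp_h L771596) (flp_a L765219) L776614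
theorem L776618 : sm gb N58608 = N57593 := ded_25_1 (flp_h L766925) (flp_b L765221) L776614
theorem L776620 : sm gc N58608 = N57456 := ded_32_1 (flp_h L765349) (flp_c L765223) L776614
theorem L776622 : sm ge N58608 = N58608 := ded_43_1 (flp_h L776614) L765227 L776614
theorem L776623 : sm gf N58608 = N57587 := ded_47_1 (flp_h L766857) (flp_f L765228) L776614
theorem L776625 : sm gg N58608 = N57640 := ded_50_1 (flp_h L767363) (flp_g L765230) L776614
theorem L776627 : sm gj N58608 = N58111 := ded_52_1 (flp_h L771642) (flp_j L765232) L776614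
theorem L776629 : sm gi N58608 = N57586 := ded_54_2 (flp_h L766844) (flp_i L754920) (flp_h L753036) L765217 L776614
theorem L776631 : sm gh N57448 = N58609 := rfl
theorem L776633 : sm ga N58609 = N58111 := ded_17_1 (flp_h L771642) (flp_a L765236) L776631
theorem L776635 : sm gb N58609 = N57557 := ded_25_1 (flp_h L766572) (flp_b L765238) L776631
theorem L776637 : sm gc N58609 = N57451 := ded_32_1 (flp_h L765275) (flp_c L765240) L776631
theorem L776639 : sm ge N58609 = N58609 := ded_43_1 (flp_h L776631) L765244 L776631
theorem L776640 : sm gf N58609 = N57449 := ded_47_1 (flp_h L765251) (flp_f L765245) L776631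
theorem L776642 : sm gg N58609 = N57646 := ded_50_1 (flp_h L767420) (flp_g L765247) L776631
theorem L776644 : sm gj N58609 = N58104 := ded_52_1 (flp_h L771596) (flp_j L765249) L776631
theorem L776646 : sm gi N58609 = N57554 := ded_54_2 (flp_h L766528) (flp_i L754593) (flp_h L753052) L765234 L776631
theorem L776648 : sm gd N57449 = N58610 := rfl
theorem L776650 : sm ga N58610 = N58113 := ded_12_1 (flp_d L771659) (flp_a L765253) L776648
theorem L776652 : sm gg N58610 = N57648 := ded_36_2 (flp_d L767447) (flp_g L765259) L776648
theorem L776654 : sm gi N58610 = N57642 := ded_39_2 (flp_d L767384) (flp_i L765261) L776648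
theorem L776656 : sm ge N57450 = N58611 := rfl
theorem L776658 : sm ga N58611 = N58125 := ded_13_1 (flp_e L771728) (flp_a L765265) L776656
theorem L776660 : sm gc N58611 = N57544 := ded_28_1 (flp_e L766424) (flp_c L765272) L776656
theorem L776662 : sm gg N58611 = N57653 := ded_41_2 (flp_e L767499) (flp_g L765268) L776656
theorem L776664 : sm gh N58611 = N58611 := ded_43_2 (flp_e L776656) L765274 L776656
theorem L776665 : sm gi N58611 = N57643 := ded_44_2 (flp_e L767392) (flp_i L765270) L776656
theorem L776667 : sm gd N57451 = N58612 := rfl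
theorem L776669 : sm ga N58612 = N58189 := ded_12_1 (flp_d L772106) (flp_a L765277) L776667
theorem L776671 : sm gb N58612 = N57962 := ded_20_1 (flp_d L770480) (flp_b L765279) L776667
theorem L776673 : sm gf N58612 = N57452 := ded_35_2 (flp_d L765288) (flp_f L765282) L776667
theorem L776675 : sm gg N58612 = N58178 := ded_36_2 (flp_d L772034) (flp_g L765284) L776667
theorem L776677 : sm gi N58612 = N57644 := ded_39_2 (flp_d L767402) (flp_i L765286) L776667
theorem L776679 : sm gh N58612 = N57460 := ded_38_2 (flp_d L765395) (flp_h L753199) (flp_d L753084) L765275 L776667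
theorem L776681 : sm gc N57452 = N58613 := rfl
theorem L776683 : sm ga N58613 = N58200 := ded_11_1 (flp_c L772177) (flp_a L765290) L776681
theorem L776685 : sm ge N58613 = N57546 := ded_28_2 (flp_c L766443) (flp_e L765298) L776681
theorem L776687 : sm gg N58613 = N57952 := ded_30_2 (flp_c L770383) (flp_g L765294) L776681
theorem L776689 : sm gh N58613 = N57461 := ded_32_2 (flp_c L765401) (flp_h L765300) L776681
theorem L776691 : sm gi N58613 = N57645 := ded_33_2 (flp_c L767410) (flp_i L765296) L776681
theorem L776693 : sm gc N57453 = N58614 := rfl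
theorem L776695 : sm ge N58614 = N57553 := ded_28_2 (flp_c L766522) (flp_e L765312) L776693
theorem L776697 : sm gg N58614 = N58161 := ded_30_2 (flp_c L771944) (flp_g L765306) L776693
theorem L776699 : sm gj N58614 = N57461 := ded_31_2 (flp_c L765401) (flp_j L765308) L776693
theorem L776701 : sm gi N58614 = N57467 := ded_33_2 (flp_c L765483) (flp_i L765310) L776693
theorem L776703 : sm gd N57454 = N58615 := rfl
theorem L776705 : sm ga N58615 = N57572 := ded_12_1 (flp_d L766702) (flp_a L765316) L776703
theorem L776707 : sm gb N58615 = N57457 := ded_20_1 (flp_d L765362) (flp_b L765318) L776703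
theorem L776709 : sm gf N58615 = N57509 := ded_35_2 (flp_d L766011) (flp_f L765324) L776703
theorem L776711 : sm gg N58615 = N57550 := ded_36_2 (flp_d L766495) (flp_g L765326) L776703
theorem L776713 : sm gj N58615 = N57931 := ded_37_2 (flp_d L770188) (flp_j L765328) L776703
theorem L776715 : sm gi N58615 = N57468 := ded_39_2 (flp_d L765491) (flp_i L765330) L776703
theorem L776717 : sm gh N58615 = N57706 := ded_38_2 (flp_d L768058) (flp_h L756239) (flp_d L753123) L765314 L776703
theorem L776719 : sm ge N57455 = N58616 := rfl
theorem L776721 : sm ga N58616 = N58139 := ded_13_1 L771825 (flp_a L765334) L776719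
theorem L776723 : sm gb N58616 = N57458 := ded_21_1 (flp_e L765368) (flp_b L765336) L776719
theorem L776725 : sm gc N58616 = N57938 := ded_28_1 (flp_e L770248) (flp_c L765346) L776719
theorem L776727 : sm gg N58616 = N57551 := ded_41_2 (flp_e L766503) (flp_g L765340) L776719
theorem L776729 : sm gj N58616 = N57939 := ded_42_2 (flp_e L770257) (flp_j L765342) L776719
theorem L776731 : sm gh N58616 = N58616 := ded_43_2 (flp_e L776719) L765348 L776719
theorem L776732 : sm gi N58616 = N57469 := ded_44_2 (flp_e L765499) (flp_i L765344) L776719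
theorem L776734 : sm gf N58616 = N57487 := ded_40_2 (flp_e L765723) L753665 (flp_e L753229) (flp_f L765338) L776719
theorem L776736 : sm gd N57456 = N58617 := rfl
theorem L776738 : sm gb N58617 = N57706 := ded_20_1 (flp_d L768058) (flp_b L765351) L776736
theorem L776740 : sm gf N58617 = N57677 := ded_35_2 (flp_d L767746) (flp_f L765354) L776736
theorem L776742 : sm gg N58617 = N58105 := ded_36_2 (flp_d L771603) (flp_g L765356) L776736
theorem L776744 : sm gj N58617 = N58189 := ded_37_2 (flp_d L772106) (flp_j L765358) L776736
theorem L776746 : sm gi N58617 = N58195 := ded_39_2 (flp_d L772143) (flp_i L765360) L776736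
theorem L776748 : sm gh N58617 = N57457 := ded_38_2 (flp_d L765362) (flp_h L753160) (flp_d L753151) L765349 L776736
theorem L776750 : sm gc N57457 = N58618 := rfl
theorem L776752 : sm gg N58618 = N58106 := ded_30_2 (flp_c L771607) (flp_g L765364) L776750
theorem L776754 : sm gi N58618 = N57471 := ded_33_2 (flp_c L765529) (flp_i L765366) L776750
theorem L776756 : sm gd N58618 = N57461 := ded_27_2 (flp_c L765401) (flp_d L753207) (flp_c L753162) L765362 L776750
theorem L776758 : sm ge N57457 = N58619 := rfl
theorem L776760 : sm gg N58619 = N58107 := ded_41_2 (flp_e L771613) (flp_g L765364) L776758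
theorem L776762 : sm gi N58619 = N57472 := ded_44_2 (flp_e L765535) (flp_i L765366) L776758
theorem L776764 : sm gd N58619 = N57458 := ded_34_1 (flp_e L765368) (flp_d L753170) (flp_e L753164) L765362 L776758
theorem L776766 : sm gf N57458 = N58620 := rfl
theorem L776768 : sm ga N58620 = N57567 := ded_14_1 (flp_f L776467) L776454 L776766
theorem L776770 : sm gb N58620 = N57487 := ded_22_1 (flp_f L776734) L776723 L776766
theorem L776772 : sm gc N58620 = N57562 := ded_29_1 (flp_f L766609) (flp_c L765370) L776766
theorem L776774 : sm gj N58620 = N57508 := ded_46_2 (flp_f L776512) L776507 L776766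
theorem L776776 : sm gh N58620 = N58620 := ded_47_2 (flp_f L776766) L765374 L776766
theorem L776777 : sm gi N58620 = N57473 := ded_48_2 (flp_f L765541) (flp_i L765375) L776766
theorem L776779 : sm ge N58620 = N57462 := ded_40_1 (flp_f L765409) (flp_e L753232) (flp_f L753172) L765368 L776766
theorem L776781 : sm gg N57611 = N58620 := ded_23_0 L776770 L765727 (flp_b L767054)
theorem L776783 : sm gd N57459 = N58621 := rfl
theorem L776785 : sm ga N58621 = N57927 := ded_12_1 (flp_d L770140) (flp_a L765379) L776783
theorem L776787 : sm gb N58621 = N57504 := ded_20_1 (flp_d L765954) (flp_b L765381) L776783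
theorem L776789 : sm gf N58621 = N57481 := ded_35_2 (flp_d L765639) (flp_f L765387) L776783
theorem L776791 : sm gg N58621 = N57460 := ded_36_2 (flp_d L765395) (flp_g L765389) L776783
theorem L776793 : sm gj N58621 = N57486 := ded_37_2 (flp_d L765715) (flp_j L765391) L776783
theorem L776795 : sm gi N58621 = N57474 := ded_39_2 (flp_d L765555) (flp_i L765393) L776783
theorem L776797 : sm gh N58621 = N58178 := ded_38_2 (flp_d L772034) (flp_h L760392) (flp_d L753189) L765377 L776783
theorem L776799 : sm gc N57460 = N58622 := rfl
theorem L776801 : sm gf N58622 = N57461 := ded_29_2 (flp_c L765401) (flp_f L765397) L776799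
theorem L776803 : sm gi N58622 = N57475 := ded_33_2 (flp_c L765569) (flp_i L765399) L776799
theorem L776805 : sm ge N57460 = N58623 := rfl
theorem L776807 : sm gi N58623 = N57476 := ded_44_2 (flp_e L765575) (flp_i L765399) L776805
theorem L776809 : sm gd N58623 = N57465 := ded_34_1 (flp_e L765460) (flp_d L753265) (flp_e L753201) L765395 L776805
theorem L776811 : sm gf N58623 = N57565 := ded_40_2 (flp_e L766634) L754696 (flp_e L753213) (flp_f L765397) L776805
theorem L776813 : sm gb N57461 = N58624 := rfl
theorem L776815 : sm ge N58624 = N57566 := ded_21_2 (flp_b L766640) (flp_e L765403) L776813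
theorem L776817 : sm gg N58624 = N58109 := ded_23_2 (flp_b L771628) (flp_g L765405) L776813
theorem L776819 : sm gi N58624 = N57477 := ded_26_2 (flp_b L765583) (flp_i L765407) L776813
theorem L776821 : sm ge N57463 = N58625 := rfl
theorem L776823 : sm ga N58625 = N57938 := ded_13_1 (flp_e L770248) (flp_a L765428) L776821
theorem L776825 : sm gb N58625 = N57508 := ded_21_1 (flp_e L766004) (flp_b L765430) L776821
theorem L776827 : sm gc N58625 = N58139 := ded_28_1 L771825 (flp_c L765440) L776821
theorem L776829 : sm gg N58625 = N57465 := ded_41_2 (flp_e L765460) (flp_g L765434) L776821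
theorem L776831 : sm gj N58625 = N57487 := ded_42_2 (flp_e L765723) (flp_j L765436) L776821
theorem L776833 : sm gh N58625 = N58625 := ded_43_2 (flp_e L776821) L765442 L776821
theorem L776834 : sm gi N58625 = N57478 := ded_44_2 (flp_e L765591) (flp_i L765438) L776821
theorem L776836 : sm gf N58625 = N57939 := ded_40_2 (flp_e L770257) L758491 (flp_e L753303) (flp_f L765432) L776821
theorem L776838 : sm ge N57464 = N58626 := rfl
theorem L776840 : sm ga N58626 = N57551 := ded_13_1 (flp_e L766503) (flp_a L765445) L776838
theorem L776842 : sm gb N58626 = N57526 := ded_21_1 (flp_e L766192) (flp_b L765458) L776838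
theorem L776844 : sm gc N58626 = N57465 := ded_28_1 (flp_e L765460) L765443 L776838
theorem L776846 : sm gg N58626 = N58139 := ded_41_2 L771825 (flp_g L765449) L776838
theorem L776848 : sm gj N58626 = N57503 := ded_42_2 (flp_e L765945) (flp_j L765451) L776838
theorem L776850 : sm gh N58626 = N58626 := ded_43_2 (flp_e L776838) L765453 L776838
theorem L776851 : sm gi N58626 = N57479 := ded_44_2 (flp_e L765607) (flp_i L765454) L776838
theorem L776853 : sm gf N58626 = N57571 := ded_40_2 (flp_e L766695) L754766 (flp_e L753276) (flp_f L765447) L776838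
theorem L776855 : sm gc N57466 = N58627 := rfl
theorem L776857 : sm ge N58627 = N57573 := ded_28_2 (flp_c L766710) (flp_e L765479) L776855
theorem L776859 : sm gf N58627 = N58137 := ded_29_2 (flp_c L771806) (flp_f L765471) L776855
theorem L776861 : sm gg N58627 = N57467 := ded_30_2 (flp_c L765483) (flp_g L765473) L776855
theorem L776863 : sm gj N58627 = N57928 := ded_31_2 (flp_c L770152) (flp_j L765475) L776855
theorem L776865 : sm gh N58627 = N57656 := ded_32_2 (flp_c L767538) (flp_h L765481) L776855
theorem L776867 : sm gi N58627 = N58161 := ded_33_2 (flp_c L771944) (flp_i L765477) L776855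
theorem L776869 : sm gd N58627 = N58152 := ded_27_2 (flp_c L771892) (flp_d L760243) (flp_c L753310) L765467 L776855
theorem L776871 : sm gb N57467 = N58628 := rfl
theorem L776873 : sm ge N58628 = N57583 := ded_21_2 (flp_b L766810) (flp_e L765485) L776871
theorem L776875 : sm gj N58628 = N57477 := ded_24_2 (flp_b L765583) (flp_j L765487) L776871
theorem L776877 : sm gh N58628 = N57660 := ded_25_2 (flp_b L767578) (flp_h L765489) L776871
theorem L776879 : sm gc N57468 = N58629 := rfl
theorem L776881 : sm gg N58629 = N57579 := ded_30_2 (flp_c L766778) (flp_g L765495) L776879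
theorem L776883 : sm gj N58629 = N58147 := ded_31_2 (flp_c L771864) (flp_j L765497) L776879
theorem L776885 : sm gd N58629 = N57573 := ded_27_2 (flp_c L766710) (flp_d L754782) (flp_c L753334) L765491 L776879
theorem L776887 : sm ge N57468 = N58630 := rfl
theorem L776889 : sm ga N58630 = N58164 := ded_13_1 (flp_e L773345) L773333 L776887
theorem L776891 : sm gb N58630 = N57472 := ded_21_1 (flp_e L765535) (flp_b L765493) L776887
theorem L776893 : sm gg N58630 = N57580 := ded_41_2 (flp_e L766784) (flp_g L765495) L776887
theorem L776895 : sm gj N58630 = N58148 := ded_42_2 (flp_e L771870) (flp_j L765497) L776887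
theorem L776897 : sm gd N58630 = N57469 := ded_34_1 (flp_e L765499) (flp_d L753342) (flp_e L753336) L765491 L776887
theorem L776899 : sm gf N58630 = N58158 := ded_40_2 (flp_e L771926) (flp_f L765659) (flp_e L776400) L776392 L776887
theorem L776901 : sm gc N57470 = N58631 := rfl
theorem L776903 : sm ga N58631 = N57658 := ded_11_1 (flp_c L767562) (flp_a L765517) L776901
theorem L776905 : sm gf N58631 = N57636 := ded_29_2 (flp_c L767321) (flp_f L765519) L776901
theorem L776907 : sm gg N58631 = N58114 := ded_30_2 (flp_c L771665) (flp_g L765521) L776901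
theorem L776909 : sm gj N58631 = N57637 := ded_31_2 (flp_c L767333) (flp_j L765523) L776901
theorem L776911 : sm gh N58631 = N57471 := ded_32_2 (flp_c L765529) (flp_h L765527) L776901
theorem L776913 : sm gi N58631 = N58197 := ded_33_2 (flp_c L772157) (flp_i L765525) L776901
theorem L776915 : sm gd N58631 = N57662 := ded_27_2 (flp_c L767600) (flp_d L755735) (flp_c L753362) L765515 L776901
theorem L776917 : sm ge N57470 = N58632 := rfl
theorem L776919 : sm ga N58632 = N57659 := ded_13_1 (flp_e L767570) (flp_a L765517) L776917
theorem L776921 : sm gg N58632 = N58115 := ded_41_2 (flp_e L771671) (flp_g L765521) L776917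
theorem L776923 : sm gj N58632 = N57638 := ded_42_2 (flp_e L767343) (flp_j L765523) L776917
theorem L776925 : sm gh N58632 = N57472 := ded_43_2 (flp_e L765535) (flp_h L765527) L776917
theorem L776927 : sm gi N58632 = N58198 := ded_44_2 (flp_e L772165) (flp_i L765525) L776917
theorem L776929 : sm gd N58632 = N57480 := ded_34_1 (flp_e L765623) (flp_d L753513) (flp_e L753364) L765515 L776917
theorem L776931 : sm gf N58632 = N57715 := ded_40_2 (flp_e L768153) L756333 (flp_e L755468) (flp_f L765519) L776917
theorem L776933 : sm gb N57471 = N58633 := rfl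
theorem L776935 : sm gd N58633 = N57477 := ded_20_2 (flp_b L765583) (flp_d L765533) L776933
theorem L776937 : sm gg N58633 = N58118 := ded_23_2 (flp_b L771687) (flp_g L765531) L776933
theorem L776939 : sm ge N57471 = N58634 := rfl
theorem L776941 : sm gc N58634 = N57472 := ded_28_1 (flp_e L765535) L765529 L776939
theorem L776943 : sm gg N58634 = N58119 := ded_41_2 (flp_e L771691) (flp_g L765531) L776939
theorem L776945 : sm gd N58634 = N57602 := ded_34_1 (flp_e L766984) L755043 (flp_e L753408) (flp_d L765533) L776939
theorem L776947 : sm gf N57472 = N58635 := rfl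
theorem L776949 : sm ga N58635 = N57582 := ded_14_1 (flp_f L776574) L776562 L776947
theorem L776951 : sm gb N58635 = N58158 := ded_22_1 (flp_f L776899) L776891 L776947
theorem L776953 : sm gd N58635 = N57473 := ded_35_1 (flp_f L765541) (flp_d L765539) L776947
theorem L776955 : sm gj N58635 = N57522 := ded_46_2 (flp_f L776604) L776598 L776947
theorem L776957 : sm gh N58635 = N57715 := ded_47_2 (flp_f L776931) L776925 L776947
theorem L776959 : sm ge N58635 = N57512 := ded_40_1 L766051 (flp_e L765145) L765141 L765535 L776947
theorem L776961 : sm gc N57474 = N58636 := rfl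
theorem L776963 : sm ga N58636 = N58152 := ded_11_1 (flp_c L771892) (flp_a L765557) L776961
theorem L776965 : sm gf N58636 = N57488 := ded_29_2 (flp_c L765732) (flp_f L765561) L776961
theorem L776967 : sm gg N58636 = N57475 := ded_30_2 (flp_c L765569) (flp_g L765563) L776961
theorem L776969 : sm gj N58636 = N58157 := ded_31_2 (flp_c L771922) (flp_j L765565) L776961
theorem L776971 : sm gh N58636 = N57666 := ded_32_2 (flp_c L767654) (flp_h L765567) L776961
theorem L776973 : sm ge N57474 = N58637 := rfl
theorem L776975 : sm ga N58637 = N58153 := ded_13_1 (flp_e L771896) (flp_a L765557) L776973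
theorem L776977 : sm gb N58637 = N57522 := ded_21_1 (flp_e L766143) (flp_b L765559) L776973
theorem L776979 : sm gg N58637 = N57476 := ded_41_2 (flp_e L765575) (flp_g L765563) L776973
theorem L776981 : sm gj N58637 = N58158 := ded_42_2 (flp_e L771926) (flp_j L765565) L776973
theorem L776983 : sm gh N58637 = N57667 := ded_43_2 (flp_e L767660) (flp_h L765567) L776973
theorem L776985 : sm gd N58637 = N57478 := ded_34_1 (flp_e L765591) (flp_d L753428) (flp_e L753392) L765555 L776973
theorem L776987 : sm gf N58637 = N58148 := ded_40_2 (flp_e L771870) (flp_f L765007) L765013 (flp_f L765561) L776973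
theorem L776989 : sm gb N57475 = N58638 := rfl
theorem L776991 : sm gf N58638 = N57477 := ded_22_2 (flp_b L765583) (flp_f L765571) L776989
theorem L776993 : sm gh N58638 = N57668 := ded_25_2 (flp_b L767668) (flp_h L765573) L776989
theorem L776995 : sm ge N57475 = N58639 := rfl
theorem L776997 : sm gc N58639 = N57476 := ded_28_1 (flp_e L765575) L765569 L776995
theorem L776999 : sm gh N58639 = N57669 := ded_43_2 (flp_e L767672) (flp_h L765573) L776995
theorem L777001 : sm gf N58639 = N57609 := ded_40_2 (flp_e L767040) L755075 (flp_e L753408) (flp_f L765571) L776995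
theorem L777003 : sm ga N57477 = N58640 := rfl
theorem L777005 : sm ge N58640 = N57610 := ded_13_2 (flp_a L767046) (flp_e L765585) L777003
theorem L777007 : sm gg N58640 = N58123 := ded_15_2 (flp_a L771717) (flp_g L765587) L777003
theorem L777009 : sm gh N58640 = N57670 := ded_17_2 (flp_a L767678) (flp_h L765589) L777003
theorem L777011 : sm gd N57479 = N58641 := rfl
theorem L777013 : sm ga N58641 = N57580 := ded_12_1 L766790 (flp_a L765609) L777011
theorem L777015 : sm gb N58641 = N58175 := ded_20_1 L772020 (flp_b L765611) L777011
theorem L777017 : sm gf N58641 = N57617 := ded_35_2 (flp_d L767110) (flp_f L765621) L777011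
theorem L777019 : sm gg N58641 = N58164 := ded_36_2 L771960 (flp_g L765615) L777011
theorem L777021 : sm gj N58641 = N57519 := ded_37_2 L766121 (flp_j L765617) L777011
theorem L777023 : sm ge N58641 = N57510 := ded_34_2 (flp_d L766021) L754041 (flp_d L753456) L765607 L777011
theorem L777025 : sm gc N57481 = N58642 := rfl
theorem L777027 : sm ga N58642 = N57928 := ded_11_1 (flp_c L770152) (flp_a L765641) L777025
theorem L777029 : sm ge N58642 = N58131 := ded_28_2 (flp_c L771770) (flp_e L765649) L777025
theorem L777031 : sm gg N58642 = N58099 := ded_30_2 (flp_c L771554) (flp_g L765645) L777025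
theorem L777033 : sm gh N58642 = N58179 := ded_32_2 (flp_c L772040) (flp_h L765651) L777025
theorem L777035 : sm gi N58642 = N57488 := ded_33_2 (flp_c L765732) (flp_i L765647) L777025
theorem L777037 : sm gd N58642 = N58157 := ded_27_2 (flp_c L771922) (flp_d L760275) (flp_c L753565) L765639 L777025
theorem L777039 : sm gc N57482 = N58643 := rfl
theorem L777041 : sm ga N58643 = N58161 := ded_11_1 (flp_c L771944) (flp_a L765655) L777039
theorem L777043 : sm gf N58643 = N58157 := ded_29_2 (flp_c L771922) (flp_f L765659) L777039
theorem L777045 : sm gj N58643 = N57488 := ded_31_2 (flp_c L765732) (flp_j L765661) L777039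
theorem L777047 : sm gh N58643 = N57680 := ded_32_2 (flp_c L767773) (flp_h L765663) L777039
theorem L777049 : sm gh N57483 = N58644 := rfl
theorem L777051 : sm ga N58644 = N57536 := ded_17_1 (flp_h L766338) (flp_a L765667) L777049
theorem L777053 : sm gb N58644 = N57485 := ded_25_1 (flp_h L765700) (flp_b L765669) L777049
theorem L777055 : sm gc N58644 = N57822 := ded_32_1 (flp_h L769232) (flp_c L765671) L777049
theorem L777057 : sm ge N58644 = N58644 := ded_43_1 (flp_h L777049) L765675 L777049
theorem L777058 : sm gf N58644 = N57489 := ded_47_1 (flp_h L765738) (flp_f L765676) L777049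
theorem L777060 : sm gg N58644 = N57575 := ded_50_1 (flp_h L766735) (flp_g L765678) L777049
theorem L777062 : sm gj N58644 = N57494 := ded_52_1 (flp_h L765820) (flp_j L765680) L777049
theorem L777064 : sm gi N58644 = N57685 := ded_54_2 (flp_h L767805) (flp_i L755977) (flp_h L753600) L765665 L777049
theorem L777066 : sm gd N57484 = N58645 := rfl
theorem L777068 : sm ga N58645 = N57552 := ded_12_1 (flp_d L766512) (flp_a L765684) L777066
theorem L777070 : sm gb N58645 = N57486 := ded_20_1 (flp_d L765715) (flp_b L765686) L777066
theorem L777072 : sm gf N58645 = N57497 := ded_35_2 (flp_d L765865) (flp_f L765692) L777066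
theorem L777074 : sm gg N58645 = N57578 := ded_36_2 (flp_d L766770) (flp_g L765694) L777066
theorem L777076 : sm gj N58645 = N57504 := ded_37_2 (flp_d L765954) (flp_j L765696) L777066
theorem L777078 : sm gi N58645 = N57512 := ded_39_2 (flp_d L766045) (flp_i L765698) L777066
theorem L777080 : sm gd N57485 = N58646 := rfl
theorem L777082 : sm ga N58646 = N57655 := ded_12_1 (flp_d L767528) (flp_a L765702) L777080
theorem L777084 : sm gf N58646 = N57635 := ded_35_2 (flp_d L767309) (flp_f L765707) L777080
theorem L777086 : sm gg N58646 = N58112 := ded_36_2 (flp_d L771653) (flp_g L765709) L777080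
theorem L777088 : sm gj N58646 = N58178 := ded_37_2 (flp_d L772034) (flp_j L765711) L777080
theorem L777090 : sm gi N58646 = N58187 := ded_39_2 (flp_d L772096) (flp_i L765713) L777080
theorem L777092 : sm gh N58646 = N57486 := ded_38_2 (flp_d L765715) (flp_h L753649) (flp_d L753640) L765700 L777080
theorem L777094 : sm gc N57486 = N58647 := rfl
theorem L777096 : sm ga N58647 = N58137 := ded_11_1 (flp_c L771806) (flp_a L765717) L777094
theorem L777098 : sm gg N58647 = N58116 := ded_30_2 (flp_c L771677) (flp_g L765719) L777094
theorem L777100 : sm gi N58647 = N58157 := ded_33_2 (flp_c L771922) (flp_i L765721) L777094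
theorem L777102 : sm gd N58647 = N57488 := ded_27_2 (flp_c L765732) (flp_d L753672) (flp_c L753653) L765715 L777094
theorem L777104 : sm ge N57486 = N58648 := rfl
theorem L777106 : sm ga N58648 = N58138 := ded_13_1 (flp_e L771810) (flp_a L765717) L777104
theorem L777108 : sm gg N58648 = N58117 := ded_41_2 (flp_e L771683) (flp_g L765719) L777104
theorem L777110 : sm gi N58648 = N58158 := ded_44_2 (flp_e L771926) (flp_i L765721) L777104
theorem L777112 : sm gd N58648 = N57487 := ded_34_1 (flp_e L765723) (flp_d L753661) (flp_e L753655) L765715 L777104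
theorem L777114 : sm gb N57488 = N58649 := rfl
theorem L777116 : sm gg N58649 = N58122 := ded_23_2 (flp_b L771709) (flp_g L765734) L777114
theorem L777118 : sm gh N58649 = N57684 := ded_25_2 (flp_b L767799) (flp_h L765736) L777114
theorem L777120 : sm gc N58649 = N57523 := ded_19_2 (flp_b L766151) (flp_c L754151) (flp_b L753674) L765732 L777114
theorem L777122 : sm gd N57489 = N58650 := rfl
theorem L777124 : sm ga N58650 = N57537 := ded_12_1 (flp_d L766349) (flp_a L765740) L777122
theorem L777126 : sm gb N58650 = N57635 := ded_20_1 (flp_d L767309) (flp_b L765742) L777122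
theorem L777128 : sm gg N58650 = N57631 := ded_36_2 (flp_d L767258) (flp_g L765748) L777122
theorem L777130 : sm gj N58650 = N57495 := ded_37_2 (flp_d L765833) (flp_j L765750) L777122
theorem L777132 : sm gi N58650 = N57686 := ded_39_2 (flp_d L767818) (flp_i L765752) L777122
theorem L777134 : sm ge N58650 = N57677 := ded_34_2 (flp_d L767746) L755918 (flp_d L753709) (flp_e L765746) L777122
theorem L777136 : sm gh N58650 = N57497 := ded_38_2 (flp_d L765865) (flp_h L753833) (flp_d L753688) L765738 L777122
theorem L777138 : sm gh N57490 = N58651 := rfl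
theorem L777140 : sm ga N58651 = N57541 := ded_17_1 (flp_h L766400) (flp_a L765756) L777138
theorem L777142 : sm gb N58651 = N58016 := ded_25_1 (flp_h L770967) (flp_b L765758) L777138
theorem L777144 : sm gc N58651 = N57500 := ded_32_1 (flp_h L765908) (flp_c L765760) L777138
theorem L777146 : sm ge N58651 = N58651 := ded_43_1 (flp_h L777138) L765764 L777138
theorem L777147 : sm gf N58651 = N57827 := ded_47_1 (flp_h L769286) (flp_f L765765) L777138
theorem L777149 : sm gg N58651 = N57966 := ded_50_1 (flp_h L770508) (flp_g L765767) L777138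
theorem L777151 : sm gj N58651 = N57810 := ded_52_1 (flp_h L769123) (flp_j L765769) L777138
theorem L777153 : sm gi N58651 = N58013 := ded_54_2 (flp_h L770937) (flp_i L759252) (flp_h L753726) L765754 L777138
theorem L777155 : sm gh N57491 = N58652 := rfl
theorem L777157 : sm ga N58652 = N57542 := ded_17_1 (flp_h L766407) (flp_a L765773) L777155
theorem L777159 : sm gb N58652 = N58045 := ded_25_1 (flp_h L771185) (flp_b L765775) L777155
theorem L777161 : sm gc N58652 = N57494 := ded_32_1 (flp_h L765820) (flp_c L765777) L777155
theorem L777163 : sm ge N58652 = N58652 := ded_43_1 (flp_h L777155) L765781 L777155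
theorem L777164 : sm gf N58652 = N57492 := ded_47_1 (flp_h L765788) (flp_f L765782) L777155
theorem L777166 : sm gg N58652 = N57848 := ded_50_1 (flp_h L769439) (flp_g L765784) L777155
theorem L777168 : sm gj N58652 = N57822 := ded_52_1 (flp_h L769232) (flp_j L765786) L777155
theorem L777170 : sm gi N58652 = N57687 := ded_54_2 (flp_h L767832) (flp_i L756006) (flp_h L753742) L765771 L777155
theorem L777172 : sm gd N57492 = N58653 := rfl
theorem L777174 : sm ga N58653 = N57543 := ded_12_1 (flp_d L766418) (flp_a L765790) L777172
theorem L777176 : sm gb N58653 = N58047 := ded_20_1 (flp_d L771204) (flp_b L765792) L777172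
theorem L777178 : sm gg N58653 = N57968 := ded_36_2 (flp_d L770529) (flp_g L765798) L777172
theorem L777180 : sm gj N58653 = N58061 := ded_37_2 (flp_d L771310) (flp_j L765800) L777172
theorem L777182 : sm gi N58653 = N57688 := ded_39_2 (flp_d L767845) (flp_i L765802) L777172
theorem L777184 : sm ge N57493 = N58654 := rfl
theorem L777186 : sm ga N58654 = N57544 := ded_13_1 (flp_e L766424) (flp_a L765806) L777184
theorem L777188 : sm gb N58654 = N58093 := ded_21_1 (flp_e L771507) (flp_b L765808) L777184
theorem L777190 : sm gc N58654 = N58125 := ded_28_1 (flp_e L771728) (flp_c L765817) L777184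
theorem L777192 : sm gg N58654 = N57989 := ded_41_2 (flp_e L770707) (flp_g L765811) L777184
theorem L777194 : sm gj N58654 = N58096 := ded_42_2 (flp_e L771527) (flp_j L765813) L777184
theorem L777196 : sm gh N58654 = N58654 := ded_43_2 (flp_e L777184) L765819 L777184
theorem L777197 : sm gi N58654 = N57689 := ded_44_2 (flp_e L767857) (flp_i L765815) L777184
theorem L777199 : sm gd N57494 = N58655 := rfl
theorem L777201 : sm ga N58655 = N57545 := ded_12_1 (flp_d L766431) (flp_a L765822) L777199
theorem L777203 : sm gb N58655 = N58178 := ded_20_1 (flp_d L772034) (flp_b L765824) L777199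
theorem L777205 : sm gf N58655 = N57495 := ded_35_2 (flp_d L765833) (flp_f L765827) L777199
theorem L777207 : sm gg N58655 = N57962 := ded_36_2 (flp_d L770480) (flp_g L765829) L777199
theorem L777209 : sm gi N58655 = N57690 := ded_39_2 (flp_d L767871) (flp_i L765831) L777199
theorem L777211 : sm gh N58655 = N57504 := ded_38_2 (flp_d L765954) (flp_h L753929) (flp_d L753782) L765820 L777199
theorem L777213 : sm gc N57495 = N58656 := rfl
theorem L777215 : sm ga N58656 = N57546 := ded_11_1 (flp_c L766443) (flp_a L765835) L777213
theorem L777217 : sm ge N58656 = N58200 := ded_28_2 (flp_c L772177) (flp_e L765843) L777213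
theorem L777219 : sm gg N58656 = N57972 := ded_30_2 (flp_c L770567) (flp_g L765839) L777213
theorem L777221 : sm gh N58656 = N57505 := ded_32_2 (flp_c L765962) (flp_h L765845) L777213
theorem L777223 : sm gi N58656 = N57691 := ded_33_2 (flp_c L767879) (flp_i L765841) L777213
theorem L777225 : sm gd N57496 = N58657 := rfl
theorem L777227 : sm ga N58657 = N57550 := ded_12_1 (flp_d L766495) (flp_a L765849) L777225
theorem L777229 : sm gb N58657 = N57517 := ded_20_1 (flp_d L766101) (flp_b L765851) L777225
theorem L777231 : sm gf N58657 = N57514 := ded_35_2 (flp_d L766065) (flp_f L765857) L777225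
theorem L777233 : sm gg N58657 = N57572 := ded_36_2 (flp_d L766702) (flp_g L765859) L777225
theorem L777235 : sm gj N58657 = N57502 := ded_37_2 (flp_d L765937) (flp_j L765861) L777225
theorem L777237 : sm gi N58657 = N57510 := ded_39_2 (flp_d L766021) (flp_i L765863) L777225
theorem L777239 : sm gh N58657 = N57815 := ded_38_2 (flp_d L769183) (flp_h L757403) (flp_d L753809) L765847 L777225
theorem L777241 : sm gc N57497 = N58658 := rfl
theorem L777243 : sm ga N58658 = N57553 := ded_11_1 (flp_c L766522) (flp_a L765867) L777241
theorem L777245 : sm gj N58658 = N57505 := ded_31_2 (flp_c L765962) (flp_j L765869) L777241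
theorem L777247 : sm gi N58658 = N57513 := ded_33_2 (flp_c L766057) (flp_i L765871) L777241
theorem L777249 : sm gd N57498 = N58659 := rfl
theorem L777251 : sm ga N58659 = N57578 := ded_12_1 (flp_d L766770) (flp_a L765875) L777249
theorem L777253 : sm gb N58659 = N57502 := ded_20_1 (flp_d L765937) (flp_b L765877) L777249
theorem L777255 : sm gf N58659 = N57510 := ded_35_2 (flp_d L766021) (flp_f L765883) L777249
theorem L777257 : sm gg N58659 = N57552 := ded_36_2 (flp_d L766512) (flp_g L765885) L777249
theorem L777259 : sm gj N58659 = N57517 := ded_37_2 (flp_d L766101) (flp_j L765887) L777249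
theorem L777261 : sm gi N58659 = N57514 := ded_39_2 (flp_d L766065) (flp_i L765889) L777249
theorem L777263 : sm ge N57499 = N58660 := rfl
theorem L777265 : sm ga N58660 = N57611 := ded_13_1 (flp_e L767052) (flp_a L765893) L777263
theorem L777267 : sm gb N58660 = N57503 := ded_21_1 (flp_e L765945) (flp_b L765895) L777263
theorem L777269 : sm gc N58660 = N57616 := ded_28_1 L767108 (flp_c L765905) L777263
theorem L777271 : sm gg N58660 = N57567 := ded_41_2 (flp_e L766646) (flp_g L765899) L777263
theorem L777273 : sm gj N58660 = N57526 := ded_42_2 (flp_e L766192) (flp_j L765901) L777263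
theorem L777275 : sm gh N58660 = N58660 := ded_43_2 (flp_e L777263) L765907 L777263
theorem L777276 : sm gi N58660 = N57516 := ded_44_2 (flp_e L766091) (flp_i L765903) L777263
theorem L777278 : sm gf N58660 = N57615 := ded_40_2 (flp_e L767100) L755165 (flp_e L753961) (flp_f L765897) L777263
theorem L777280 : sm gd N57500 = N58661 := rfl
theorem L777282 : sm ga N58661 = N57558 := ded_12_1 (flp_d L766579) (flp_a L765910) L777280
theorem L777284 : sm gf N58661 = N57833 := ded_35_2 (flp_d L769336) (flp_f L765913) L777280
theorem L777286 : sm gg N58661 = N58127 := ded_36_2 (flp_d L771740) (flp_g L765915) L777280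
theorem L777288 : sm gj N58661 = N57815 := ded_37_2 (flp_d L769183) (flp_j L765917) L777280
theorem L777290 : sm gh N58661 = N57502 := ded_38_2 (flp_d L765937) (flp_h L753906) (flp_d L753879) L765908 L777280
theorem L777292 : sm gd N57501 = N58662 := rfl
theorem L777294 : sm ga N58662 = N57559 := ded_12_1 (flp_d L766585) (flp_a L765921) L777292
theorem L777296 : sm gb N58662 = N57510 := ded_20_1 (flp_d L766021) (flp_b L765923) L777292
theorem L777298 : sm gf N58662 = N57502 := ded_35_2 (flp_d L765937) (flp_f L765929) L777292
theorem L777300 : sm gg N58662 = N57605 := ded_36_2 (flp_d L767004) (flp_g L765931) L777292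
theorem L777302 : sm gj N58662 = N57514 := ded_37_2 (flp_d L766065) (flp_j L765933) L777292
theorem L777304 : sm gi N58662 = N57517 := ded_39_2 (flp_d L766101) (flp_i L765935) L777292
theorem L777306 : sm ge N58662 = N58175 := ded_34_2 L772020 L760361 (flp_d L753978) (flp_e L765927) L777292
theorem L777308 : sm gh N58662 = N57833 := ded_38_2 (flp_d L769336) (flp_h L757566) (flp_d L753896) L765919 L777292
theorem L777310 : sm gc N57502 = N58663 := rfl
theorem L777312 : sm ga N58663 = N57560 := ded_11_1 (flp_c L766593) (flp_a L765939) L777310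
theorem L777314 : sm gg N58663 = N58128 := ded_30_2 (flp_c L771750) (flp_g L765941) L777310
theorem L777316 : sm gi N58663 = N57518 := ded_33_2 (flp_c L766107) (flp_i L765943) L777310
theorem L777318 : sm gd N58663 = N57505 := ded_27_2 (flp_c L765962) (flp_d L753939) (flp_c L753910) L765937 L777310
theorem L777320 : sm ge N57502 = N58664 := rfl
theorem L777322 : sm ga N58664 = N57561 := ded_13_1 (flp_e L766601) (flp_a L765939) L777320
theorem L777324 : sm gg N58664 = N58129 := ded_41_2 (flp_e L771758) (flp_g L765941) L777320
theorem L777326 : sm gi N58664 = N57519 := ded_44_2 (flp_e L766115) (flp_i L765943) L777320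
theorem L777328 : sm gd N58664 = N57503 := ded_34_1 (flp_e L765945) (flp_d L753918) (flp_e L753912) L765937 L777320
theorem L777330 : sm gf N57503 = N58665 := rfl
theorem L777332 : sm ga N58665 = N57562 := ded_14_1 (flp_f L766609) (flp_a L765947) L777330
theorem L777334 : sm gb N58665 = N57615 := ded_22_1 (flp_f L777278) L777267 L777330
theorem L777336 : sm gc N58665 = N57567 := ded_29_1 (flp_f L776467) L776458 L777330
theorem L777338 : sm gj N58665 = N57571 := ded_46_2 (flp_f L776853) L776848 L777330
theorem L777340 : sm gh N58665 = N58665 := ded_47_2 (flp_f L777330) L765951 L777330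
theorem L777341 : sm gi N58665 = N57520 := ded_48_2 (flp_f L766123) (flp_i L765952) L777330
theorem L777343 : sm ge N58665 = N57506 := ded_40_1 (flp_f L765970) (flp_e L753982) (flp_f L753922) L765945 L777330
theorem L777345 : sm gg N58665 = N57616 := ded_45_2 (flp_f L767105) (flp_g L767093) L767098 (flp_g L765949) L777330
theorem L777347 : sm gc N57504 = N58666 := rfl
theorem L777349 : sm ga N58666 = N57564 := ded_11_1 (flp_c L766628) (flp_a L765956) L777347
theorem L777351 : sm gf N58666 = N57505 := ded_29_2 (flp_c L765962) (flp_f L765958) L777347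
theorem L777353 : sm gi N58666 = N57521 := ded_33_2 (flp_c L766135) (flp_i L765960) L777347
theorem L777355 : sm ge N57504 = N58667 := rfl
theorem L777357 : sm ga N58667 = N57565 := ded_13_1 (flp_e L766634) (flp_a L765956) L777355
theorem L777359 : sm gi N58667 = N57522 := ded_44_2 (flp_e L766143) (flp_i L765960) L777355
theorem L777361 : sm gd N58667 = N57508 := ded_34_1 (flp_e L766004) (flp_d L753999) (flp_e L753933) L765954 L777355
theorem L777363 : sm gb N57505 = N58668 := rfl
theorem L777365 : sm gg N58668 = N58130 := ded_23_2 (flp_b L771766) (flp_g L765966) L777363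
theorem L777367 : sm gi N58668 = N57523 := ded_26_2 (flp_b L766151) (flp_i L765968) L777363
theorem L777369 : sm ge N57507 = N58669 := rfl
theorem L777371 : sm ga N58669 = N57571 := ded_13_1 (flp_e L766695) (flp_a L765989) L777369
theorem L777373 : sm gb N58669 = N58108 := ded_21_1 L771626 (flp_b L766000) L777369
theorem L777375 : sm gc N58669 = N57508 := ded_28_1 (flp_e L766004) L765987 L777369
theorem L777377 : sm gg N58669 = N58124 := ded_41_2 L771726 (flp_g L765993) L777369
theorem L777379 : sm gj N58669 = N57562 := ded_42_2 L766614 (flp_j L765995) L777369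
theorem L777381 : sm gh N58669 = N58669 := ded_43_2 (flp_e L777369) L765997 L777369
theorem L777382 : sm gi N58669 = N57528 := ded_44_2 (flp_e L766218) (flp_i L765998) L777369
theorem L777384 : sm gf N58669 = N57551 := ded_40_2 (flp_e L766503) L754568 (flp_e L754012) (flp_f L765991) L777369
theorem L777386 : sm gc N57509 = N58670 := rfl
theorem L777388 : sm ga N58670 = N57573 := ded_11_1 (flp_c L766710) (flp_a L766013) L777386
theorem L777390 : sm gg N58670 = N57513 := ded_30_2 (flp_c L766057) (flp_g L766015) L777386
theorem L777392 : sm gj N58670 = N58131 := ded_31_2 (flp_c L771770) (flp_j L766017) L777386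
theorem L777394 : sm gh N58670 = N57707 := ded_32_2 (flp_c L768066) (flp_h L766019) L777386
theorem L777396 : sm gc N57510 = N58671 := rfl
theorem L777398 : sm ga N58671 = N57579 := ded_11_1 (flp_c L766778) (flp_a L766023) L777396
theorem L777400 : sm gj N58671 = N57518 := ded_31_2 (flp_c L766107) (flp_j L766025) L777396
theorem L777402 : sm gd N58671 = N57513 := ded_27_2 (flp_c L766057) (flp_d L754075) (flp_c L754039) L766021 L777396
theorem L777404 : sm gd N57511 = N58672 := rfl
theorem L777406 : sm ga N58672 = N57514 := ded_12_1 (flp_d L766065) (flp_a L766029) L777404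
theorem L777408 : sm gb N58672 = N57585 := ded_20_1 (flp_d L766832) (flp_b L766031) L777404
theorem L777410 : sm gf N58672 = N57550 := ded_35_2 (flp_d L766495) (flp_f L766037) L777404
theorem L777412 : sm gg N58672 = N57512 := ded_36_2 (flp_d L766045) (flp_g L766039) L777404
theorem L777414 : sm gj N58672 = N57559 := ded_37_2 (flp_d L766585) (flp_j L766041) L777404
theorem L777416 : sm gi N58672 = N57578 := ded_39_2 (flp_d L766770) (flp_i L766043) L777404
theorem L777418 : sm gh N58672 = N57713 := ded_38_2 (flp_d L768139) (flp_h L756321) (flp_d L754053) L766027 L777404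
theorem L777420 : sm gc N57512 = N58673 := rfl
theorem L777422 : sm ga N58673 = N57581 := ded_11_1 (flp_c L766792) (flp_a L766047) L777420
theorem L777424 : sm gf N58673 = N57513 := ded_29_2 (flp_c L766057) (flp_f L766051) L777420
theorem L777426 : sm gj N58673 = N57521 := ded_31_2 (flp_c L766135) (flp_j L766053) L777420
theorem L777428 : sm gh N58673 = N57714 := ded_32_2 (flp_c L768145) (flp_h L766055) L777420
theorem L777430 : sm gb N57513 = N58674 := rfl
theorem L777432 : sm gj N58674 = N57523 := ded_24_2 (flp_b L766151) (flp_j L766061) L777430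
theorem L777434 : sm gh N58674 = N57716 := ded_25_2 (flp_b L768161) (flp_h L766063) L777430
theorem L777436 : sm gc N57514 = N58675 := rfl
theorem L777438 : sm gg N58675 = N57581 := ded_30_2 (flp_c L766792) (flp_g L766069) L777436
theorem L777440 : sm gh N58675 = N57834 := ded_32_2 (flp_c L769342) (flp_h L766071) L777436
theorem L777442 : sm ge N57514 = N58676 := rfl
theorem L777444 : sm gb N58676 = N57519 := ded_21_1 (flp_e L766115) (flp_b L766067) L777442
theorem L777446 : sm gg N58676 = N57582 := ded_41_2 (flp_e L766800) (flp_g L766069) L777442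
theorem L777448 : sm gj N58676 = N58175 := ded_42_2 (flp_e L777306) L777302 L777442
theorem L777450 : sm gh N58676 = N57835 := ded_43_2 (flp_e L769346) (flp_h L766071) L777442
theorem L777452 : sm gd N58676 = N57516 := ded_34_1 (flp_e L766091) (flp_d L754107) (flp_e L754103) L766065 L777442
theorem L777454 : sm ge N57515 = N58677 := rfl
theorem L777456 : sm ga N58677 = N57604 := ded_13_1 L766998 (flp_a L766075) L777454
theorem L777458 : sm gb N58677 = N58102 := ded_21_1 L771588 (flp_b L766087) L777454
theorem L777460 : sm gc N58677 = N57516 := ded_28_1 (flp_e L766091) L766073 L777454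
theorem L777462 : sm gg N58677 = N57520 := ded_41_2 L766133 (flp_g L766079) L777454
theorem L777464 : sm gj N58677 = N58121 := ded_42_2 L771705 (flp_j L766081) L777454
theorem L777466 : sm gh N58677 = N57530 := ded_43_2 (flp_e L766246) (flp_h L766083) L777454
theorem L777468 : sm gi N58677 = N57616 := ded_44_2 L767108 (flp_i L766085) L777454
theorem L777470 : sm gf N58677 = N57569 := ded_40_2 (flp_e L766672) L754740 L754175 (flp_f L766077) L777454
theorem L777472 : sm gf N57516 = N58678 := rfl
theorem L777474 : sm ga N58678 = N58121 := ded_14_1 (flp_f L773427) L773413 L777472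
theorem L777476 : sm gb N58678 = N57520 := ded_22_1 (flp_f L766123) (flp_b L766093) L777472
theorem L777478 : sm gc N58678 = N57569 := ded_29_1 (flp_f L777470) L777460 L777472
theorem L777480 : sm gj N58678 = N57604 := ded_46_2 L767002 (flp_j L766097) L777472
theorem L777482 : sm gh N58678 = N57531 := ded_47_2 (flp_f L766261) (flp_h L766099) L777472
theorem L777484 : sm gi N58678 = N57615 := ded_48_2 (flp_f L777278) L777276 L777472
theorem L777486 : sm ge N58678 = N57524 := ded_40_1 (flp_f L766157) (flp_e L754177) (flp_f L754111) L766091 L777472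
theorem L777488 : sm gg N58678 = N58102 := ded_45_2 (flp_f L771580) (flp_g L765169) L765175 (flp_g L766095) L777472
theorem L777490 : sm gc N57517 = N58679 := rfl
theorem L777492 : sm ga N58679 = N57599 := ded_11_1 (flp_c L766968) (flp_a L766103) L777490
theorem L777494 : sm gf N58679 = N57518 := ded_29_2 (flp_c L766107) (flp_f L766105) L777490
theorem L777496 : sm gd N58679 = N57521 := ded_27_2 (flp_c L766135) (flp_d L754143) (flp_c L754123) L766101 L777490
theorem L777498 : sm ge N57517 = N58680 := rfl
theorem L777500 : sm ga N58680 = N57600 := ded_13_1 (flp_e L766974) (flp_a L766103) L777498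
theorem L777502 : sm gg N58680 = N58145 := ded_41_2 (flp_e L773096) L773090 L777498
theorem L777504 : sm gi N58680 = N58175 := ded_44_2 (flp_e L777306) L777304 L777498
theorem L777506 : sm gd N58680 = N57526 := ded_34_1 (flp_e L766192) (flp_d L754195) (flp_e L754125) L766101 L777498
theorem L777508 : sm gb N57518 = N58681 := rfl
theorem L777510 : sm gd N58681 = N57523 := ded_20_2 (flp_b L766151) (flp_d L766113) L777508
theorem L777512 : sm gg N58681 = N58133 := ded_23_2 (flp_b L771784) (flp_g L766111) L777508
theorem L777514 : sm ge N57518 = N58682 := rfl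
theorem L777516 : sm ga N58682 = N57602 := ded_13_1 (flp_e L766984) (flp_a L766109) L777514
theorem L777518 : sm gc N58682 = N57519 := ded_28_1 (flp_e L766115) L766107 L777514
theorem L777520 : sm gg N58682 = N58134 := ded_41_2 (flp_e L771788) (flp_g L766111) L777514
theorem L777522 : sm gf N57519 = N58683 := rfl
theorem L777524 : sm ga N58683 = N57603 := ded_14_1 (flp_f L766990) (flp_a L766117) L777522
theorem L777526 : sm gd N58683 = N57520 := ded_35_1 (flp_f L766123) (flp_d L766121) L777522
theorem L777528 : sm gj N58683 = N57617 := ded_46_2 (flp_f L777017) L777021 L777522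
theorem L777530 : sm gb N57521 = N58684 := rfl
theorem L777532 : sm gf N58684 = N57523 := ded_22_2 (flp_b L766151) (flp_f L766139) L777530
theorem L777534 : sm gh N58684 = N57727 := ded_25_2 (flp_b L768282) (flp_h L766141) L777530
theorem L777536 : sm ge N57521 = N58685 := rfl
theorem L777538 : sm ga N58685 = N57609 := ded_13_1 (flp_e L767040) (flp_a L766137) L777536
theorem L777540 : sm gc N58685 = N57522 := ded_28_1 (flp_e L766143) L766135 L777536
theorem L777542 : sm gh N58685 = N57728 := ded_43_2 (flp_e L768286) (flp_h L766141) L777536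
theorem L777544 : sm ga N57523 = N58686 := rfl
theorem L777546 : sm gg N58686 = N58136 := ded_15_2 (flp_a L771800) (flp_g L766153) L777544
theorem L777548 : sm gh N58686 = N57729 := ded_17_2 (flp_a L768292) (flp_h L766155) L777544
theorem L777550 : sm gb N58686 = N57610 := ded_10_2 (flp_a L767046) (flp_b L755085) (flp_a L754153) L766151 L777544
theorem L777552 : sm ge N57525 = N58687 := rfl
theorem L777554 : sm ga N58687 = N57615 := ded_13_1 (flp_e L767100) (flp_a L766177) L777552
theorem L777556 : sm gb N58687 = N58124 := ded_21_1 L771726 (flp_b L766188) L777552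
theorem L777558 : sm gc N58687 = N57526 := ded_28_1 (flp_e L766192) L766175 L777552
theorem L777560 : sm gg N58687 = N58108 := ded_41_2 L771626 (flp_g L766181) L777552
theorem L777562 : sm gj N58687 = N57616 := ded_42_2 L767108 (flp_j L766183) L777552
theorem L777564 : sm gh N58687 = N58687 := ded_43_2 (flp_e L777552) L766185 L777552
theorem L777565 : sm gi N58687 = N58121 := ded_44_2 L771705 (flp_i L766186) L777552
theorem L777567 : sm gf N58687 = N57611 := ded_40_2 (flp_e L767052) L755095 L754221 (flp_f L766179) L777552
theorem L777569 : sm gf N57526 = N58688 := rfl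
theorem L777571 : sm ga N58688 = N57616 := ded_14_1 (flp_f L767105) (flp_a L766194) L777569
theorem L777573 : sm gb N58688 = N57571 := ded_22_1 (flp_f L776853) L776842 L777569
theorem L777575 : sm gc N58688 = N57611 := ded_29_1 (flp_f L777567) L777558 L777569
theorem L777577 : sm gj N58688 = N57615 := ded_46_2 (flp_f L777278) L777273 L777569
theorem L777579 : sm gh N58688 = N58688 := ded_47_2 (flp_f L777569) L766198 L777569
theorem L777580 : sm gi N58688 = N57604 := ded_48_2 L767002 (flp_i L766199) L777569
theorem L777582 : sm ge N58688 = N57527 := ded_40_1 (flp_f L766201) (flp_e L754223) (flp_f L754199) L766192 L777569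
theorem L777584 : sm gg N58688 = N57562 := ded_45_2 (flp_f L766609) L754677 L760201 (flp_g L766196) L777569
theorem L777586 : sm gd N57528 = N58689 := rfl
theorem L777588 : sm ga N58689 = N57617 := ded_12_1 (flp_d L767110) (flp_a L766220) L777586
theorem L777590 : sm gb N58689 = N58120 := ded_20_1 L771699 (flp_b L766222) L777586
theorem L777592 : sm gf N58689 = N57580 := ded_35_2 L766790 (flp_f L766230) L777586
theorem L777594 : sm gj N58689 = N57603 := ded_37_2 L766992 (flp_j L766226) L777586
theorem L777596 : sm gh N57529 = N58690 := rfl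
theorem L777598 : sm ga N58690 = N57620 := ded_17_1 (flp_h L767138) (flp_a L766234) L777596
theorem L777600 : sm gb N58690 = N58126 := ded_25_1 L771737 (flp_b L766236) L777596
theorem L777602 : sm gc N58690 = N57740 := ded_32_1 (flp_h L768399) (flp_c L766243) L777596
theorem L777604 : sm ge N58690 = N58690 := ded_43_1 (flp_h L777596) L766245 L777596
theorem L777605 : sm gf N58690 = N57622 := ded_47_1 L767163 (flp_f L766238) L777596
theorem L777607 : sm gj N58690 = N57629 := ded_52_1 L767241 (flp_j L766240) L777596
theorem L777609 : sm gh N57532 = N58691 := rfl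
theorem L777611 : sm ga N58691 = N57810 := ded_17_1 (flp_h L769123) (flp_a L766280) L777609
theorem L777613 : sm gb N58691 = N57849 := ded_25_1 (flp_h L769450) (flp_b L766282) L777609
theorem L777615 : sm gc N58691 = N57549 := ded_32_1 (flp_h L766482) (flp_c L766284) L777609
theorem L777617 : sm ge N58691 = N58691 := ded_43_1 (flp_h L777609) L766288 L777609
theorem L777618 : sm gf N58691 = N57710 := ded_47_1 (flp_h L768101) (flp_f L766289) L777609
theorem L777620 : sm gg N58691 = N57704 := ded_50_1 (flp_h L768029) (flp_g L766291) L777609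
theorem L777622 : sm gj N58691 = N57541 := ded_52_1 (flp_h L766400) (flp_j L766293) L777609
theorem L777624 : sm gi N58691 = N57840 := ded_54_2 (flp_h L769374) (flp_i L757600) (flp_h L754344) L766278 L777609
theorem L777626 : sm gh N57533 = N58692 := rfl
theorem L777628 : sm ga N58692 = N57822 := ded_17_1 (flp_h L769232) (flp_a L766297) L777626
theorem L777630 : sm gb N58692 = N58262 := ded_25_1 (flp_h L772537) (flp_b L766299) L777626
theorem L777632 : sm gc N58692 = N57536 := ded_32_1 (flp_h L766338) (flp_c L766301) L777626
theorem L777634 : sm ge N58692 = N58692 := ded_43_1 (flp_h L777626) L766305 L777626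
theorem L777635 : sm gf N58692 = N57534 := ded_47_1 (flp_h L766312) (flp_f L766306) L777626
theorem L777637 : sm gg N58692 = N57708 := ded_50_1 (flp_h L768074) (flp_g L766308) L777626
theorem L777639 : sm gj N58692 = N57542 := ded_52_1 (flp_h L766407) (flp_j L766310) L777626
theorem L777641 : sm gi N58692 = N57744 := ded_54_2 (flp_h L768446) (flp_i L756660) (flp_h L754360) L766295 L777626
theorem L777643 : sm gd N57534 = N58693 := rfl
theorem L777645 : sm ga N58693 = N58061 := ded_12_1 (flp_d L771310) (flp_a L766314) L777643
theorem L777647 : sm gg N58693 = N58078 := ded_36_2 (flp_d L771415) (flp_g L766320) L777643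
theorem L777649 : sm gj N58693 = N57543 := ded_37_2 (flp_d L766418) (flp_j L766322) L777643
theorem L777651 : sm gi N58693 = N57745 := ded_39_2 (flp_d L768461) (flp_i L766324) L777643
theorem L777653 : sm gd N57536 = N58694 := rfl
theorem L777655 : sm gb N58694 = N58127 := ded_20_1 (flp_d L771740) (flp_b L766340) L777653
theorem L777657 : sm gf N58694 = N57537 := ded_35_2 (flp_d L766349) (flp_f L766343) L777653
theorem L777659 : sm gj N58694 = N57545 := ded_37_2 (flp_d L766431) (flp_j L766345) L777653
theorem L777661 : sm gi N58694 = N57747 := ded_39_2 (flp_d L768478) (flp_i L766347) L777653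
theorem L777663 : sm gh N58694 = N57552 := ded_38_2 (flp_d L766512) (flp_h L754575) (flp_d L754394) L766338 L777653
theorem L777665 : sm gc N57537 = N58695 := rfl
theorem L777667 : sm gg N58695 = N58086 := ded_30_2 (flp_c L771453) (flp_g L766353) L777665
theorem L777669 : sm gj N58695 = N57546 := ded_31_2 (flp_c L766443) (flp_j L766355) L777665
theorem L777671 : sm gh N58695 = N57553 := ded_32_2 (flp_c L766522) (flp_h L766359) L777665
theorem L777673 : sm gi N58695 = N57748 := ded_33_2 (flp_c L768486) (flp_i L766357) L777665
theorem L777675 : sm gd N57538 = N58696 := rfl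
theorem L777677 : sm gb N58696 = N57543 := ded_20_1 (flp_d L766418) (flp_b L766363) L777675
theorem L777679 : sm gg N58696 = N58042 := ded_36_2 (flp_d L771161) (flp_g L766369) L777675
theorem L777681 : sm gi N58696 = N57753 := ded_39_2 (flp_d L768544) (flp_i L766371) L777675
theorem L777683 : sm gc N57539 = N58697 := rfl
theorem L777685 : sm gf N58697 = N58697 := ded_29_2 (flp_c L777683) L766377 L777683
theorem L777686 : sm gg N58697 = N57896 := ded_30_2 L769818 (flp_g L766378) L777683
theorem L777688 : sm gh N58697 = N58697 := ded_32_2 (flp_c L777683) L766382 L777683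
theorem L777689 : sm gi N58697 = N57754 := ded_33_2 (flp_c L768550) (flp_i L766380) L777683
theorem L777691 : sm gd N58697 = N57997 := ded_27_2 (flp_c L770798) (flp_d L759067) (flp_c L754427) L766373 L777683
theorem L777693 : sm ge N57539 = N58698 := rfl
theorem L777695 : sm gb N58698 = N57544 := ded_21_1 (flp_e L766424) (flp_b L766375) L777693
theorem L777697 : sm gg N58698 = N58090 := ded_41_2 (flp_e L771482) (flp_g L766378) L777693
theorem L777699 : sm gh N58698 = N58698 := ded_43_2 (flp_e L777693) L766382 L777693
theorem L777700 : sm gi N58698 = N57755 := ded_44_2 (flp_e L768557) (flp_i L766380) L777693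
theorem L777702 : sm gh N57540 = N58699 := rfl
theorem L777704 : sm ga N58699 = N58013 := ded_17_1 (flp_h L770937) (flp_a L766385) L777702
theorem L777706 : sm gb N58699 = N57848 := ded_25_1 (flp_h L769439) (flp_b L766387) L777702
theorem L777708 : sm gc N58699 = N57557 := ded_32_1 (flp_h L766572) (flp_c L766389) L777702
theorem L777710 : sm ge N58699 = N58699 := ded_43_1 (flp_h L777702) L766393 L777702
theorem L777711 : sm gf N58699 = N57958 := ded_47_1 (flp_h L770433) (flp_f L766394) L777702
theorem L777713 : sm gg N58699 = N58045 := ded_50_1 (flp_h L771185) (flp_g L766396) L777702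
theorem L777715 : sm gj N58699 = N57840 := ded_52_1 (flp_h L769374) (flp_j L766398) L777702
theorem L777717 : sm gi N58699 = N57541 := ded_54_2 (flp_h L766400) (flp_i L754451) L754434 L766383 L777702
theorem L777719 : sm gd N57541 = N58700 := rfl
theorem L777721 : sm gg N58700 = N58046 := ded_36_2 (flp_d L771196) (flp_g L766405) L777719
theorem L777723 : sm gh N58700 = N57543 := ded_38_2 (flp_d L766418) (flp_h L754469) (flp_d L754455) L766400 L777719
theorem L777725 : sm gd N57542 = N58701 := rfl
theorem L777727 : sm gf N58701 = N57543 := ded_35_2 (flp_d L766418) (flp_f L766412) L777725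
theorem L777729 : sm gg N58701 = N58035 := ded_36_2 (flp_d L771123) (flp_g L766414) L777725
theorem L777731 : sm gi N58701 = N57760 := ded_39_2 (flp_d L768620) (flp_i L766416) L777725
theorem L777733 : sm gc N57543 = N58702 := rfl
theorem L777735 : sm gg N58702 = N58050 := ded_30_2 (flp_c L771224) (flp_g L766420) L777733
theorem L777737 : sm gi N58702 = N57761 := ded_33_2 (flp_c L768624) (flp_i L766422) L777733
theorem L777739 : sm gd N58702 = N57546 := ded_27_2 (flp_c L766443) (flp_d L754498) (flp_c L754471) L766418 L777733
theorem L777741 : sm ge N57543 = N58703 := rfl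
theorem L777743 : sm gg N58703 = N58051 := ded_41_2 (flp_e L771234) (flp_g L766420) L777741
theorem L777745 : sm gi N58703 = N57762 := ded_44_2 (flp_e L768630) (flp_i L766422) L777741
theorem L777747 : sm gd N58703 = N57544 := ded_34_1 (flp_e L766424) (flp_d L754479) (flp_e L754473) L766418 L777741
theorem L777749 : sm gf N57544 = N58704 := rfl
theorem L777751 : sm gh N58704 = N58704 := ded_47_2 (flp_f L777749) L766428 L777749
theorem L777752 : sm gi N58704 = N57763 := ded_48_2 (flp_f L768636) (flp_i L766429) L777749
theorem L777754 : sm ge N58704 = N58704 := ded_40_1 (flp_f L777749) (flp_e L766424) L754481 L766424 L777749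
theorem L777755 : sm gc N57545 = N58705 := rfl
theorem L777757 : sm gf N58705 = N57546 := ded_29_2 (flp_c L766443) (flp_f L766435) L777755
theorem L777759 : sm gg N58705 = N58039 := ded_30_2 (flp_c L771146) (flp_g L766437) L777755
theorem L777761 : sm gh N58705 = N57564 := ded_32_2 (flp_c L766628) (flp_h L766441) L777755
theorem L777763 : sm gi N58705 = N57765 := ded_33_2 (flp_c L768653) (flp_i L766439) L777755
theorem L777765 : sm ge N57545 = N58706 := rfl
theorem L777767 : sm gb N58706 = N58284 := ded_21_1 (flp_e L772678) (flp_b L766433) L777765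
theorem L777769 : sm gg N58706 = N58040 := ded_41_2 (flp_e L771150) (flp_g L766437) L777765
theorem L777771 : sm gh N58706 = N57565 := ded_43_2 (flp_e L766634) (flp_h L766441) L777765
theorem L777773 : sm gi N58706 = N57766 := ded_44_2 (flp_e L768659) (flp_i L766439) L777765
theorem L777775 : sm gd N58706 = N58706 := ded_34_1 (flp_e L777765) (flp_d L766431) L754491 L766431 L777765
theorem L777776 : sm gb N57546 = N58707 := rfl
theorem L777778 : sm gg N58707 = N58056 := ded_23_2 (flp_b L771266) (flp_g L766445) L777776
theorem L777780 : sm gh N58707 = N57566 := ded_25_2 (flp_b L766640) (flp_h L766447) L777776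
theorem L777782 : sm gi N58707 = N57767 := ded_26_2 (flp_b L768664) (flp_i L766449) L777776
theorem L777784 : sm gc N58707 = N58300 := ded_19_2 (flp_b L772799) (flp_c L761134) (flp_b L754500) L766443 L777776
theorem L777786 : sm gc N57547 = N58708 := rfl
theorem L777788 : sm ge N58708 = N58161 := ded_28_2 (flp_c L771944) (flp_e L766461) L777786
theorem L777790 : sm gg N58708 = N57553 := ded_30_2 (flp_c L766522) (flp_g L766455) L777786
theorem L777792 : sm gj N58708 = N57935 := ded_31_2 (flp_c L770222) (flp_j L766457) L777786
theorem L777794 : sm gh N58708 = N58086 := ded_32_2 (flp_c L771453) (flp_h L766463) L777786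
theorem L777796 : sm gi N58708 = N57573 := ded_33_2 (flp_c L766710) (flp_i L766459) L777786
theorem L777798 : sm gh N57548 = N58709 := rfl
theorem L777800 : sm ga N58709 = N57769 := ded_17_1 (flp_h L768684) (flp_a L766467) L777798
theorem L777802 : sm gb N58709 = N58104 := ded_25_1 (flp_h L771596) (flp_b L766469) L777798
theorem L777804 : sm gc N58709 = N57840 := ded_32_1 (flp_h L769374) (flp_c L766471) L777798
theorem L777806 : sm ge N58709 = N58709 := ded_43_1 (flp_h L777798) L766475 L777798
theorem L777807 : sm gf N58709 = N57694 := ded_47_1 (flp_h L767920) (flp_f L766476) L777798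
theorem L777809 : sm gg N58709 = N57692 := ded_50_1 (flp_h L767889) (flp_g L766478) L777798
theorem L777811 : sm gj N58709 = N57557 := ded_52_1 (flp_h L766572) (flp_j L766480) L777798
theorem L777813 : sm gi N58709 = N57549 := ded_54_2 (flp_h L766482) (flp_i L754537) L754520 L766465 L777798
theorem L777815 : sm gd N57549 = N58710 := rfl
theorem L777817 : sm ga N58710 = N57815 := ded_12_1 (flp_d L769183) (flp_a L766484) L777815
theorem L777819 : sm gb N58710 = N58105 := ded_20_1 (flp_d L771603) (flp_b L766486) L777815
theorem L777821 : sm gf N58710 = N57713 := ded_35_2 (flp_d L768139) (flp_f L766489) L777815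
theorem L777823 : sm gg N58710 = N57706 := ded_36_2 (flp_d L768058) (flp_g L766491) L777815
theorem L777825 : sm gj N58710 = N57558 := ded_37_2 (flp_d L766579) (flp_j L766493) L777815
theorem L777827 : sm gh N58710 = N57550 := ded_38_2 (flp_d L766495) (flp_h L754552) (flp_d L754543) L766482 L777815
theorem L777829 : sm gc N57550 = N58711 := rfl
theorem L777831 : sm gj N58711 = N57560 := ded_31_2 (flp_c L766593) (flp_j L766499) L777829
theorem L777833 : sm gi N58711 = N57579 := ded_33_2 (flp_c L766778) (flp_i L766501) L777829
theorem L777835 : sm gd N58711 = N57553 := ded_27_2 (flp_c L766522) (flp_d L754587) (flp_c L754556) L766495 L777829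
theorem L777837 : sm ge N57550 = N58712 := rfl
theorem L777839 : sm gb N58712 = N58107 := ded_21_1 (flp_e L771613) (flp_b L766497) L777837
theorem L777841 : sm gj N58712 = N57561 := ded_42_2 (flp_e L766601) (flp_j L766499) L777837
theorem L777843 : sm gi N58712 = N57580 := ded_44_2 (flp_e L766784) (flp_i L766501) L777837
theorem L777845 : sm gd N58712 = N57551 := ded_34_1 (flp_e L766503) (flp_d L754564) (flp_e L754558) L766495 L777837
theorem L777847 : sm gc N57552 = N58713 := rfl
theorem L777849 : sm gf N58713 = N57553 := ded_29_2 (flp_c L766522) (flp_f L766516) L777847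
theorem L777851 : sm gj N58713 = N57564 := ded_31_2 (flp_c L766628) (flp_j L766518) L777847
theorem L777853 : sm gi N58713 = N57581 := ded_33_2 (flp_c L766792) (flp_i L766520) L777847
theorem L777855 : sm ge N57552 = N58714 := rfl
theorem L777857 : sm gb N58714 = N58129 := ded_21_1 (flp_e L771758) (flp_b L766514) L777855
theorem L777859 : sm gj N58714 = N57565 := ded_42_2 (flp_e L766634) (flp_j L766518) L777855
theorem L777861 : sm gi N58714 = N57582 := ded_44_2 (flp_e L766800) (flp_i L766520) L777855
theorem L777863 : sm gd N58714 = N57567 := ded_34_1 (flp_e L766646) (flp_d L754706) (flp_e L754579) L766512 L777855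
theorem L777865 : sm gb N57553 = N58715 := rfl
theorem L777867 : sm gj N58715 = N57566 := ded_24_2 (flp_b L766640) (flp_j L766524) L777865
theorem L777869 : sm gi N58715 = N57583 := ded_26_2 (flp_b L766810) (flp_i L766526) L777865
theorem L777871 : sm gd N57554 = N58716 := rfl
theorem L777873 : sm ga N58716 = N58112 := ded_12_1 (flp_d L771653) (flp_a L766530) L777871
theorem L777875 : sm gb N58716 = N57558 := ded_20_1 (flp_d L766579) (flp_b L766532) L777871
theorem L777877 : sm gf N58716 = N57642 := ded_35_2 (flp_d L767384) (flp_f L766537) L777871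
theorem L777879 : sm gg N58716 = N57655 := ded_36_2 (flp_d L767528) (flp_g L766539) L777871
theorem L777881 : sm gj N58716 = N58105 := ded_37_2 (flp_d L771603) (flp_j L766541) L777871
theorem L777883 : sm gh N58716 = N57555 := ded_38_2 (flp_d L766543) (flp_h L754610) (flp_d L754601) L766528 L777871
theorem L777885 : sm gc N57555 = N58717 := rfl
theorem L777887 : sm ga N58717 = N58116 := ded_11_1 (flp_c L771677) (flp_a L766545) L777885
theorem L777889 : sm gf N58717 = N58100 := ded_29_2 (flp_c L771568) (flp_f L766549) L777885
theorem L777891 : sm gg N58717 = N58137 := ded_30_2 (flp_c L771806) (flp_g L766551) L777885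
theorem L777893 : sm gj N58717 = N58106 := ded_31_2 (flp_c L771607) (flp_j L766553) L777885
theorem L777895 : sm gi N58717 = N57590 := ded_33_2 (flp_c L766893) (flp_i L766555) L777885
theorem L777897 : sm gd N58717 = N57920 := ded_27_2 (flp_c L770062) (flp_d L758295) (flp_c L754616) L766543 L777885
theorem L777899 : sm ge N57555 = N58718 := rfl
theorem L777901 : sm ga N58718 = N58117 := ded_13_1 (flp_e L771683) (flp_a L766545) L777899
theorem L777903 : sm gb N58718 = N57561 := ded_21_1 (flp_e L766601) (flp_b L766547) L777899
theorem L777905 : sm gg N58718 = N58138 := ded_41_2 (flp_e L771810) (flp_g L766551) L777899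
theorem L777907 : sm gj N58718 = N58107 := ded_42_2 (flp_e L771613) (flp_j L766553) L777899
theorem L777909 : sm gi N58718 = N57591 := ded_44_2 (flp_e L766901) (flp_i L766555) L777899
theorem L777911 : sm gd N58718 = N57556 := ded_34_1 (flp_e L766557) (flp_d L754628) (flp_e L754618) L766543 L777899
theorem L777913 : sm gf N57556 = N58719 := rfl
theorem L777915 : sm ga N58719 = N58124 := ded_14_1 (flp_f L771723) (flp_a L766559) L777913
theorem L777917 : sm gb N58719 = N57562 := ded_22_1 (flp_f L766609) (flp_b L766561) L777913
theorem L777919 : sm gc N58719 = N57570 := ded_29_1 L766693 (flp_c L766563) L777913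
theorem L777921 : sm gj N58719 = N58108 := ded_46_2 (flp_f L771619) (flp_j L766567) L777913
theorem L777923 : sm gh N58719 = N58719 := ded_47_2 (flp_f L777913) L766569 L777913
theorem L777924 : sm gi N58719 = N57592 := ded_48_2 (flp_f L766911) (flp_i L766570) L777913
theorem L777926 : sm ge N58719 = N57568 := ded_40_1 (flp_f L766655) (flp_e L754717) (flp_f L754634) L766557 L777913
theorem L777928 : sm gg N58719 = N57571 := ded_45_2 (flp_f L776853) L776846 (flp_f L771818) (flp_g L766565) L777913
theorem L777930 : sm gd N57557 = N58720 := rfl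
theorem L777932 : sm gg N58720 = N58140 := ded_36_2 (flp_d L771827) (flp_g L766575) L777930
theorem L777934 : sm gi N58720 = N57558 := ded_39_2 (flp_d L766579) (flp_i L766577) L777930
theorem L777936 : sm gh N58720 = N57595 := ded_38_2 (flp_d L766940) (flp_h L755009) (flp_d L754647) L766572 L777930
theorem L777938 : sm gc N57558 = N58721 := rfl
theorem L777940 : sm gg N58721 = N58141 := ded_30_2 (flp_c L771833) (flp_g L766581) L777938
theorem L777942 : sm gh N58721 = N57560 := ded_32_2 (flp_c L766593) (flp_h L766583) L777938
theorem L777944 : sm ge N57558 = N58722 := rfl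
theorem L777946 : sm gg N58722 = N58142 := ded_41_2 (flp_e L771837) (flp_g L766581) L777944
theorem L777948 : sm gh N58722 = N57561 := ded_43_2 (flp_e L766601) (flp_h L766583) L777944
theorem L777950 : sm gd N58722 = N58722 := ded_34_1 (flp_e L777944) (flp_d L766579) L754654 L766579 L777944
theorem L777951 : sm gc N57559 = N58723 := rfl
theorem L777953 : sm gf N58723 = N57560 := ded_29_2 (flp_c L766593) (flp_f L766589) L777951
theorem L777955 : sm gi N58723 = N57599 := ded_33_2 (flp_c L766968) (flp_i L766591) L777951
theorem L777957 : sm gd N58723 = N57564 := ded_27_2 (flp_c L766628) (flp_d L754694) (flp_c L754661) L766585 L777951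
theorem L777959 : sm ge N57559 = N58724 := rfl
theorem L777961 : sm ga N58724 = N58175 := ded_13_1 (flp_e L777306) L777294 L777959
theorem L777963 : sm gb N58724 = N58101 := ded_21_1 (flp_e L771574) (flp_b L766587) L777959
theorem L777965 : sm gg N58724 = N58135 := ded_41_2 (flp_e L773062) L773056 L777959
theorem L777967 : sm gi N58724 = N57600 := ded_44_2 (flp_e L766974) (flp_i L766591) L777959
theorem L777969 : sm gd N58724 = N57569 := ded_34_1 (flp_e L766672) (flp_d L754734) (flp_e L754663) L766585 L777959
theorem L777971 : sm gb N57560 = N58725 := rfl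
theorem L777973 : sm gd N58725 = N57566 := ded_20_2 (flp_b L766640) (flp_d L766599) L777971
theorem L777975 : sm gg N58725 = N58143 := ded_23_2 (flp_b L771842) (flp_g L766595) L777971
theorem L777977 : sm gi N58725 = N57601 := ded_26_2 (flp_b L766978) (flp_i L766597) L777971
theorem L777979 : sm ge N57560 = N58726 := rfl
theorem L777981 : sm gc N58726 = N57561 := ded_28_1 (flp_e L766601) L766593 L777979
theorem L777983 : sm gg N58726 = N58144 := ded_41_2 (flp_e L771848) (flp_g L766595) L777979
theorem L777985 : sm gi N58726 = N57602 := ded_44_2 (flp_e L766984) (flp_i L766597) L777979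
theorem L777987 : sm gf N57561 = N58727 := rfl
theorem L777989 : sm gd N58727 = N57562 := ded_35_1 (flp_f L766609) (flp_d L766607) L777987
theorem L777991 : sm gi N58727 = N57603 := ded_48_2 (flp_f L766990) (flp_i L766605) L777987
theorem L777993 : sm gc N57563 = N58728 := rfl
theorem L777995 : sm gf N58728 = N57924 := ded_29_2 (flp_c L770108) (flp_f L766620) L777993
theorem L777997 : sm gg N58728 = N57564 := ded_30_2 (flp_c L766628) (flp_g L766622) L777993
theorem L777999 : sm gh N58728 = N58039 := ded_32_2 (flp_c L771146) (flp_h L766626) L777993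
theorem L778001 : sm gi N58728 = N57606 := ded_33_2 (flp_c L767014) (flp_i L766624) L777993
theorem L778003 : sm ge N57563 = N58729 := rfl
theorem L778005 : sm gb N58729 = N58150 := ded_21_1 (flp_e L771882) (flp_b L766618) L778003
theorem L778007 : sm gg N58729 = N57565 := ded_41_2 (flp_e L766634) (flp_g L766622) L778003
theorem L778009 : sm gj N58729 = N58145 := ded_42_2 (flp_e L773096) L773092 L778003
theorem L778011 : sm gh N58729 = N58040 := ded_43_2 (flp_e L771150) (flp_h L766626) L778003
theorem L778013 : sm gi N58729 = N57607 := ded_44_2 (flp_e L767022) (flp_i L766624) L778003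
theorem L778015 : sm gd N58729 = N57570 := ded_34_1 (flp_e L766684) (flp_d L754753) (flp_e L754686) L766616 L778003
theorem L778017 : sm gf N58729 = N57933 := ded_40_2 (flp_e L770210) L758442 (flp_e L758353) (flp_f L766620) L778003
theorem L778019 : sm gb N57564 = N58730 := rfl
theorem L778021 : sm gf N58730 = N57566 := ded_22_2 (flp_b L766640) (flp_f L766630) L778019
theorem L778023 : sm gi N58730 = N57608 := ded_26_2 (flp_b L767034) (flp_i L766632) L778019
theorem L778025 : sm ge N57564 = N58731 := rfl
theorem L778027 : sm gc N58731 = N57565 := ded_28_1 (flp_e L766634) L766628 L778025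
theorem L778029 : sm gi N58731 = N57609 := ded_44_2 (flp_e L767040) (flp_i L766632) L778025
theorem L778031 : sm ga N57566 = N58732 := rfl
theorem L778033 : sm gg N58732 = N58146 := ded_15_2 (flp_a L771860) (flp_g L766642) L778031
theorem L778035 : sm gi N58732 = N57610 := ded_18_2 (flp_a L767046) (flp_i L766644) L778031
theorem L778037 : sm gd N57571 = N58733 := rfl
theorem L778039 : sm gi N58733 = N57617 := ded_39_2 (flp_d L767110) (flp_i L766700) L778037
theorem L778041 : sm gc N57572 = N58734 := rfl
theorem L778043 : sm gf N58734 = N57573 := ded_29_2 (flp_c L766710) (flp_f L766704) L778041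
theorem L778045 : sm gj N58734 = N58149 := ded_31_2 (flp_c L771876) (flp_j L766706) L778041
theorem L778047 : sm gh N58734 = N57816 := ded_32_2 (flp_c L769189) (flp_h L766708) L778041
theorem L778049 : sm ge N57572 = N58735 := rfl
theorem L778051 : sm gb N58735 = N58145 := ded_21_1 (flp_e L773096) L773086 L778049
theorem L778053 : sm gj N58735 = N58150 := ded_42_2 (flp_e L771882) (flp_j L766706) L778049
theorem L778055 : sm gh N58735 = N57817 := ded_43_2 (flp_e L769195) (flp_h L766708) L778049
theorem L778057 : sm gi N58735 = N58164 := ded_44_2 (flp_e L773345) L773343 L778049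
theorem L778059 : sm gd N58735 = N58139 := ded_34_1 L771825 L761586 L761576 L766702 L778049
theorem L778061 : sm gf N58735 = N58138 := ded_40_2 (flp_e L771810) (flp_f L765471) L765479 (flp_f L766704) L778049
theorem L778063 : sm gb N57573 = N58736 := rfl
theorem L778065 : sm gg N58736 = N57583 := ded_23_2 (flp_b L766810) (flp_g L766712) L778063
theorem L778067 : sm gj N58736 = N58151 := ded_24_2 (flp_b L771886) (flp_j L766714) L778063
theorem L778069 : sm gh N58736 = N57818 := ded_25_2 (flp_b L769200) (flp_h L766716) L778063
theorem L778071 : sm gh N57574 = N58737 := rfl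
theorem L778073 : sm ga N58737 = N57746 := ded_17_1 (flp_h L768469) (flp_a L766720) L778071
theorem L778075 : sm gb N58737 = N58111 := ded_25_1 (flp_h L771642) (flp_b L766722) L778071
theorem L778077 : sm gc N58737 = N57823 := ded_32_1 (flp_h L769243) (flp_c L766724) L778071
theorem L778079 : sm ge N58737 = N58737 := ded_43_1 (flp_h L778071) L766728 L778071
theorem L778080 : sm gf N58737 = N57576 := ded_47_1 (flp_h L766746) (flp_f L766729) L778071
theorem L778082 : sm gg N58737 = N57685 := ded_50_1 (flp_h L767805) (flp_g L766731) L778071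
theorem L778084 : sm gj N58737 = N57593 := ded_52_1 (flp_h L766925) (flp_j L766733) L778071
theorem L778086 : sm gi N58737 = N57575 := ded_54_2 (flp_h L766735) (flp_i L754807) L754790 L766718 L778071
theorem L778088 : sm gd N57575 = N58738 := rfl
theorem L778090 : sm gb N58738 = N58112 := ded_20_1 (flp_d L771653) (flp_b L766737) L778088
theorem L778092 : sm gf N58738 = N57577 := ded_35_2 (flp_d L766762) (flp_f L766742) L778088
theorem L778094 : sm gj N58738 = N57594 := ded_37_2 (flp_d L766934) (flp_j L766744) L778088
theorem L778096 : sm gh N58738 = N57578 := ded_38_2 (flp_d L766770) (flp_h L754844) (flp_d L754813) L766735 L778088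
theorem L778098 : sm gd N57576 = N58739 := rfl
theorem L778100 : sm ga N58739 = N58256 := ded_12_1 (flp_d L772503) (flp_a L766748) L778098
theorem L778102 : sm gb N58739 = N58113 := ded_20_1 (flp_d L771659) (flp_b L766750) L778098
theorem L778104 : sm gg N58739 = N58193 := ded_36_2 (flp_d L772131) (flp_g L766756) L778098
theorem L778106 : sm gj N58739 = N57595 := ded_37_2 (flp_d L766940) (flp_j L766758) L778098
theorem L778108 : sm gi N58739 = N57577 := ded_39_2 (flp_d L766762) (flp_i L766760) L778098
theorem L778110 : sm gc N57577 = N58740 := rfl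
theorem L778112 : sm gj N58740 = N57596 := ded_31_2 (flp_c L766946) (flp_j L766766) L778110
theorem L778114 : sm gh N58740 = N57579 := ded_32_2 (flp_c L766778) (flp_h L766768) L778110
theorem L778116 : sm gd N58740 = N57826 := ded_27_2 (flp_c L769280) (flp_d L757518) (flp_c L754838) L766762 L778110
theorem L778118 : sm ge N57577 = N58741 := rfl
theorem L778120 : sm gb N58741 = N58115 := ded_21_1 (flp_e L771671) (flp_b L766764) L778118
theorem L778122 : sm gj N58741 = N57597 := ded_42_2 (flp_e L766954) (flp_j L766766) L778118
theorem L778124 : sm gh N58741 = N57580 := ded_43_2 (flp_e L766784) (flp_h L766768) L778118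
theorem L778126 : sm gd N58741 = N57622 := ded_34_1 (flp_e L767157) (flp_d L755245) (flp_e L754840) L766762 L778118
theorem L778128 : sm gc N57578 = N58742 := rfl
theorem L778130 : sm gf N58742 = N57579 := ded_29_2 (flp_c L766778) (flp_f L766774) L778128
theorem L778132 : sm gj N58742 = N57599 := ded_31_2 (flp_c L766968) (flp_j L766776) L778128
theorem L778134 : sm gd N58742 = N57581 := ded_27_2 (flp_c L766792) (flp_d L754870) (flp_c L754848) L766770 L778128
theorem L778136 : sm ge N57578 = N58743 := rfl
theorem L778138 : sm gb N58743 = N58117 := ded_21_1 (flp_e L771683) (flp_b L766772) L778136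
theorem L778140 : sm gj N58743 = N57600 := ded_42_2 (flp_e L766974) (flp_j L766776) L778136
theorem L778142 : sm gd N58743 = N57611 := ded_34_1 (flp_e L767052) (flp_d L755091) (flp_e L754850) L766770 L778136
theorem L778144 : sm gb N57579 = N58744 := rfl
theorem L778146 : sm gd N58744 = N57583 := ded_20_2 (flp_b L766810) (flp_d L766782) L778144
theorem L778148 : sm gj N58744 = N57601 := ded_24_2 (flp_b L766978) (flp_j L766780) L778144
theorem L778150 : sm gc N58744 = N58118 := ded_19_2 (flp_b L771687) (flp_c L760030) (flp_b L754858) L766778 L778144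
theorem L778152 : sm ge N57579 = N58745 := rfl
theorem L778154 : sm gc N58745 = N57580 := ded_28_1 (flp_e L766784) L766778 L778152
theorem L778156 : sm gj N58745 = N57602 := ded_42_2 (flp_e L766984) (flp_j L766780) L778152
theorem L778158 : sm gb N57581 = N58746 := rfl
theorem L778160 : sm gf N58746 = N57583 := ded_22_2 (flp_b L766810) (flp_f L766794) L778158
theorem L778162 : sm gj N58746 = N57608 := ded_24_2 (flp_b L767034) (flp_j L766796) L778158
theorem L778164 : sm gh N58746 = N57836 := ded_25_2 (flp_b L769352) (flp_h L766798) L778158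
theorem L778166 : sm gc N58746 = N58133 := ded_19_2 (flp_b L771784) (flp_c L760143) (flp_b L754872) L766792 L778158
theorem L778168 : sm ge N57581 = N58747 := rfl
theorem L778170 : sm gc N58747 = N57582 := ded_28_1 (flp_e L766800) L766792 L778168
theorem L778172 : sm gj N58747 = N57609 := ded_42_2 (flp_e L767040) (flp_j L766796) L778168
theorem L778174 : sm gh N58747 = N57837 := ded_43_2 (flp_e L769358) (flp_h L766798) L778168
theorem L778176 : sm ga N57583 = N58748 := rfl
theorem L778178 : sm gj N58748 = N57610 := ded_16_2 (flp_a L767046) (flp_j L766812) L778176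
theorem L778180 : sm gh N58748 = N57838 := ded_17_2 (flp_a L769364) (flp_h L766814) L778176
theorem L778182 : sm gd N57584 = N58749 := rfl
theorem L778184 : sm ga N58749 = N57588 := ded_12_1 (flp_d L766871) (flp_a L766818) L778182
theorem L778186 : sm gb N58749 = N57713 := ded_20_1 (flp_d L768139) (flp_b L766820) L778182
theorem L778188 : sm gf N58749 = N58105 := ded_35_2 (flp_d L771603) (flp_f L766826) L778182
theorem L778190 : sm gg N58749 = N57665 := ded_36_2 (flp_d L767642) (flp_g L766828) L778182
theorem L778192 : sm gj N58749 = N57642 := ded_37_2 (flp_d L767384) (flp_j L766830) L778182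
theorem L778194 : sm gh N58749 = N57585 := ded_38_2 (flp_d L766832) (flp_h L754904) (flp_d L754894) L766816 L778182
theorem L778196 : sm gc N57585 = N58750 := rfl
theorem L778198 : sm ga N58750 = N57590 := ded_11_1 (flp_c L766893) (flp_a L766834) L778196
theorem L778200 : sm gf N58750 = N58106 := ded_29_2 (flp_c L771607) (flp_f L766836) L778196
theorem L778202 : sm gg N58750 = N58157 := ded_30_2 (flp_c L771922) (flp_g L766838) L778196
theorem L778204 : sm gj N58750 = N58100 := ded_31_2 (flp_c L771568) (flp_j L766840) L778196
theorem L778206 : sm gi N58750 = N58116 := ded_33_2 (flp_c L771677) (flp_i L766842) L778196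
theorem L778208 : sm gd N58750 = N58099 := ded_27_2 (flp_c L771554) (flp_d L759892) (flp_c L754908) L766832 L778196
theorem L778210 : sm gd N57586 = N58751 := rfl
theorem L778212 : sm ga N58751 = N58105 := ded_12_1 (flp_d L771603) (flp_a L766846) L778210
theorem L778214 : sm gb N58751 = N57594 := ded_20_1 (flp_d L766934) (flp_b L766848) L778210
theorem L778216 : sm gf N58751 = N57588 := ded_35_2 (flp_d L766871) (flp_f L766853) L778210
theorem L778218 : sm gj N58751 = N58112 := ded_37_2 (flp_d L771653) (flp_j L766855) L778210
theorem L778220 : sm gh N58751 = N57589 := ded_38_2 (flp_d L766881) (flp_h L754959) (flp_d L754928) L766844 L778210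
theorem L778222 : sm gd N57587 = N58752 := rfl
theorem L778224 : sm gb N58752 = N57595 := ded_20_1 (flp_d L766940) (flp_b L766859) L778222
theorem L778226 : sm gg N58752 = N57678 := ded_36_2 (flp_d L767756) (flp_g L766865) L778222
theorem L778228 : sm gj N58752 = N58113 := ded_37_2 (flp_d L771659) (flp_j L766867) L778222
theorem L778230 : sm gi N58752 = N57588 := ded_39_2 (flp_d L766871) (flp_i L766869) L778222
theorem L778232 : sm gc N57588 = N58753 := rfl
theorem L778234 : sm gg N58753 = N58159 := ded_30_2 (flp_c L771932) (flp_g L766875) L778232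
theorem L778236 : sm gj N58753 = N58114 := ded_31_2 (flp_c L771665) (flp_j L766877) L778232
theorem L778238 : sm gh N58753 = N57590 := ded_32_2 (flp_c L766893) (flp_h L766879) L778232
theorem L778240 : sm gd N58753 = N58196 := ded_27_2 (flp_c L772151) (flp_d L760510) (flp_c L754951) L766871 L778232
theorem L778242 : sm ge N57588 = N58754 := rfl
theorem L778244 : sm gb N58754 = N57597 := ded_21_1 (flp_e L766954) (flp_b L766873) L778242
theorem L778246 : sm gg N58754 = N58160 := ded_41_2 (flp_e L771936) (flp_g L766875) L778242
theorem L778248 : sm gj N58754 = N58115 := ded_42_2 (flp_e L771671) (flp_j L766877) L778242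
theorem L778250 : sm gh N58754 = N57591 := ded_43_2 (flp_e L766901) (flp_h L766879) L778242
theorem L778252 : sm gd N58754 = N57625 := ded_34_1 (flp_e L767194) (flp_d L755303) (flp_e L754953) L766871 L778242
theorem L778254 : sm gc N57589 = N58755 := rfl
theorem L778256 : sm ga N58755 = N58106 := ded_11_1 (flp_c L771607) (flp_a L766883) L778254
theorem L778258 : sm gf N58755 = N57590 := ded_29_2 (flp_c L766893) (flp_f L766887) L778254
theorem L778260 : sm gj N58755 = N58116 := ded_31_2 (flp_c L771677) (flp_j L766889) L778254
theorem L778262 : sm gi N58755 = N58100 := ded_33_2 (flp_c L771568) (flp_i L766891) L778254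
theorem L778264 : sm gd N58755 = N58098 := ded_27_2 (flp_c L771540) (flp_d L759876) (flp_c L754965) L766881 L778254
theorem L778266 : sm ge N57589 = N58756 := rfl
theorem L778268 : sm ga N58756 = N58107 := ded_13_1 (flp_e L771613) (flp_a L766883) L778266
theorem L778270 : sm gb N58756 = N57600 := ded_21_1 (flp_e L766974) (flp_b L766885) L778266
theorem L778272 : sm gj N58756 = N58117 := ded_42_2 (flp_e L771683) (flp_j L766889) L778266
theorem L778274 : sm gi N58756 = N58101 := ded_44_2 (flp_e L771574) (flp_i L766891) L778266
theorem L778276 : sm gd N58756 = N57612 := ded_34_1 (flp_e L767059) (flp_d L755108) (flp_e L754967) L766881 L778266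
theorem L778278 : sm gb N57590 = N58757 := rfl
theorem L778280 : sm gd N58757 = N58110 := ded_20_2 (flp_b L771634) (flp_d L766899) L778278
theorem L778282 : sm gg N58757 = N58162 := ded_23_2 (flp_b L771948) (flp_g L766895) L778278
theorem L778284 : sm gj N58757 = N58118 := ded_24_2 (flp_b L771687) (flp_j L766897) L778278
theorem L778286 : sm gc N58757 = N57601 := ded_19_2 (flp_b L766978) (flp_c L755039) (flp_b L754977) L766893 L778278
theorem L778288 : sm ge N57590 = N58758 := rfl
theorem L778290 : sm gc N58758 = N57591 := ded_28_1 (flp_e L766901) L766893 L778288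
theorem L778292 : sm gg N58758 = N58163 := ded_41_2 (flp_e L771952) (flp_g L766895) L778288
theorem L778294 : sm gj N58758 = N58119 := ded_42_2 (flp_e L771691) (flp_j L766897) L778288
theorem L778296 : sm gd N58758 = N58155 := ded_34_1 (flp_e L771910) L760261 (flp_e L759990) (flp_d L766899) L778288
theorem L778298 : sm gf N57591 = N58759 := rfl
theorem L778300 : sm gb N58759 = N57603 := ded_22_1 (flp_f L766990) (flp_b L766903) L778298
theorem L778302 : sm gd N58759 = N57592 := ded_35_1 (flp_f L766911) (flp_d L766909) L778298
theorem L778304 : sm gj N58759 = N58120 := ded_46_2 (flp_f L771697) (flp_j L766907) L778298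
theorem L778306 : sm gg N58759 = N57617 := ded_45_2 (flp_f L777017) L777019 (flp_f L771956) (flp_g L766905) L778298
theorem L778308 : sm gd N57593 = N58760 := rfl
theorem L778310 : sm gf N58760 = N57595 := ded_35_2 (flp_d L766940) (flp_f L766930) L778308
theorem L778312 : sm gi N58760 = N57594 := ded_39_2 (flp_d L766934) (flp_i L766932) L778308
theorem L778314 : sm gc N57594 = N58761 := rfl
theorem L778316 : sm gf N58761 = N57596 := ded_29_2 (flp_c L766946) (flp_f L766936) L778314
theorem L778318 : sm gh N58761 = N57599 := ded_32_2 (flp_c L766968) (flp_h L766938) L778314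
theorem L778320 : sm gd N58761 = N57852 := ded_27_2 (flp_c L769473) (flp_d L757702) (flp_c L755004) L766934 L778314
theorem L778322 : sm ge N57594 = N58762 := rfl
theorem L778324 : sm gh N58762 = N57600 := ded_43_2 (flp_e L766974) (flp_h L766938) L778322
theorem L778326 : sm gd N58762 = N58762 := ded_34_1 (flp_e L778322) (flp_d L766934) L755006 L766934 L778322
theorem L778327 : sm gc N57595 = N58763 := rfl
theorem L778329 : sm gg N58763 = N58165 := ded_30_2 (flp_c L771962) (flp_g L766942) L778327
theorem L778331 : sm gi N58763 = N57596 := ded_33_2 (flp_c L766946) (flp_i L766944) L778327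
theorem L778333 : sm gd N58763 = N57854 := ded_27_2 (flp_c L769484) (flp_d L757708) (flp_c L755011) L766940 L778327
theorem L778335 : sm ge N57595 = N58764 := rfl
theorem L778337 : sm gg N58764 = N58166 := ded_41_2 (flp_e L771968) (flp_g L766942) L778335
theorem L778339 : sm gi N58764 = N57597 := ded_44_2 (flp_e L766954) (flp_i L766944) L778335
theorem L778341 : sm gd N58764 = N57627 := ded_34_1 (flp_e L767220) (flp_d L755329) (flp_e L755013) L766940 L778335
theorem L778343 : sm gb N57596 = N58765 := rfl
theorem L778345 : sm gd N58765 = N57856 := ded_20_2 (flp_b L769504) (flp_d L766952) L778343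
theorem L778347 : sm gg N58765 = N58167 := ded_23_2 (flp_b L771974) (flp_g L766948) L778343
theorem L778349 : sm gh N58765 = N57601 := ded_25_2 (flp_b L766978) (flp_h L766950) L778343
theorem L778351 : sm ge N57596 = N58766 := rfl
theorem L778353 : sm gc N58766 = N57597 := ded_28_1 (flp_e L766954) L766946 L778351
theorem L778355 : sm gg N58766 = N58168 := ded_41_2 (flp_e L771980) (flp_g L766948) L778351
theorem L778357 : sm gh N58766 = N57602 := ded_43_2 (flp_e L766984) (flp_h L766950) L778351
theorem L778359 : sm gf N57597 = N58767 := rfl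
theorem L778361 : sm gd N58767 = N57629 := ded_35_1 (flp_f L767239) (flp_d L766960) L778359
theorem L778363 : sm gh N58767 = N57603 := ded_47_2 (flp_f L766990) (flp_h L766958) L778359
theorem L778365 : sm gc N57598 = N58768 := rfl
theorem L778367 : sm gf N58768 = N58169 := ded_29_2 (flp_c L771986) (flp_f L766964) L778365
theorem L778369 : sm gg N58768 = N57599 := ded_30_2 (flp_c L766968) (flp_g L766966) L778365
theorem L778371 : sm gd N58768 = N57606 := ded_27_2 (flp_c L767014) (flp_d L755065) (flp_c L755027) L766962 L778365
theorem L778373 : sm ge N57598 = N58769 := rfl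
theorem L778375 : sm ga N58769 = N58145 := ded_13_1 (flp_e L773096) L773084 L778373
theorem L778377 : sm gg N58769 = N57600 := ded_41_2 (flp_e L766974) (flp_g L766966) L778373
theorem L778379 : sm gi N58769 = N58135 := ded_44_2 (flp_e L773062) L773060 L778373
theorem L778381 : sm gd N58769 = N57614 := ded_34_1 (flp_e L767089) (flp_d L755152) (flp_e L755029) L766962 L778373
theorem L778383 : sm gf N58769 = N58129 := ded_40_2 (flp_e L771758) (flp_f L761677) L761685 (flp_f L766964) L778373
theorem L778385 : sm gb N57599 = N58770 := rfl
theorem L778387 : sm gd N58770 = N57608 := ded_20_2 (flp_b L767034) (flp_d L766972) L778385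
theorem L778389 : sm gf N58770 = N57601 := ded_22_2 (flp_b L766978) (flp_f L766970) L778385
theorem L778391 : sm ge N57599 = N58771 := rfl
theorem L778393 : sm gc N58771 = N57600 := ded_28_1 (flp_e L766974) L766968 L778391
theorem L778395 : sm gf N57600 = N58772 := rfl
theorem L778397 : sm gd N58772 = N57616 := ded_35_1 (flp_f L767105) (flp_d L766976) L778395
theorem L778399 : sm ge N58772 = N57603 := ded_40_1 (flp_f L766990) (flp_e L755045) (flp_f L755037) L766974 L778395
theorem L778401 : sm ga N57601 = N58773 := rfl
theorem L778403 : sm gd N58773 = N57610 := ded_12_2 (flp_a L767046) (flp_d L766980) L778401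
theorem L778405 : sm gg N58773 = N58172 := ded_15_2 (flp_a L772006) (flp_g L766982) L778401
theorem L778407 : sm ge N57601 = N58774 := rfl
theorem L778409 : sm gb N58774 = N57602 := ded_21_1 (flp_e L766984) L766978 L778407
theorem L778411 : sm gg N58774 = N58173 := ded_41_2 (flp_e L772010) (flp_g L766982) L778407
theorem L778413 : sm gf N57602 = N58775 := rfl
theorem L778415 : sm gc N58775 = N57603 := ded_29_1 (flp_f L766990) (flp_c L766986) L778413
theorem L778417 : sm gg N57603 = N58776 := rfl
theorem L778419 : sm gb N58776 = N57617 := ded_23_1 (flp_g L778306) L778300 L778417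
theorem L778421 : sm gd N58776 = N57604 := ded_36_1 (flp_g L766994) (flp_d L766992) L778417
theorem L778423 : sm gf N58776 = N58175 := ded_45_1 (flp_g L772018) (flp_f L760355) (flp_g L755047) L766990 L778417
theorem L778425 : sm gc N57605 = N58777 := rfl
theorem L778427 : sm ge N58777 = N58174 := ded_28_2 L772016 (flp_e L767010) L778425
theorem L778429 : sm gf N58777 = N58171 := ded_29_2 L772000 (flp_f L767006) L778425
theorem L778431 : sm gj N58777 = N57606 := ded_31_2 (flp_c L767014) (flp_j L767008) L778425
theorem L778433 : sm gh N58777 = N57868 := ded_32_2 (flp_c L769596) (flp_h L767012) L778425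
theorem L778435 : sm gb N57606 = N58778 := rfl
theorem L778437 : sm gf N58778 = N58176 := ded_22_2 (flp_b L772022) (flp_f L767016) L778435
theorem L778439 : sm gg N58778 = N57608 := ded_23_2 (flp_b L767034) (flp_g L767018) L778435
theorem L778441 : sm gh N58778 = N57870 := ded_25_2 (flp_b L769612) (flp_h L767020) L778435
theorem L778443 : sm ge N57606 = N58779 := rfl
theorem L778445 : sm gc N58779 = N57607 := ded_28_1 (flp_e L767022) L767014 L778443
theorem L778447 : sm gg N58779 = N57609 := ded_41_2 (flp_e L767040) (flp_g L767018) L778443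
theorem L778449 : sm gj N58779 = N58174 := ded_42_2 (flp_e L778427) L778431 L778443
theorem L778451 : sm gh N58779 = N57871 := ded_43_2 (flp_e L769618) (flp_h L767020) L778443
theorem L778453 : sm gf N58779 = N58155 := ded_40_2 (flp_e L771910) (flp_f L761659) L761657 (flp_f L767016) L778443
theorem L778455 : sm ga N57608 = N58780 := rfl
theorem L778457 : sm gf N58780 = N57610 := ded_14_2 (flp_a L767046) (flp_f L767036) L778455
theorem L778459 : sm gh N58780 = N57872 := ded_17_2 (flp_a L769624) (flp_h L767038) L778455
theorem L778461 : sm ge N57608 = N58781 := rfl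
theorem L778463 : sm gb N58781 = N57609 := ded_21_1 (flp_e L767040) L767034 L778461
theorem L778465 : sm gh N58781 = N57873 := ded_43_2 (flp_e L769628) (flp_h L767038) L778461
theorem L778467 : sm gd N57609 = N58782 := rfl
theorem L778469 : sm gc N58782 = N57617 := ded_27_1 (flp_d L767110) L755198 (flp_d L755083) (flp_c L767042) L778467
theorem L778471 : sm gf N57612 = N58783 := rfl
theorem L778473 : sm ga N58783 = N58108 := ded_14_1 (flp_f L771619) (flp_a L767061) L778471
theorem L778475 : sm gb N58783 = N57616 := ded_22_1 (flp_f L767105) (flp_b L767063) L778471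
theorem L778477 : sm gc N58783 = N57614 := ded_29_1 L767098 (flp_c L767065) L778471
theorem L778479 : sm gj N58783 = N58124 := ded_46_2 (flp_f L771723) (flp_j L767067) L778471
theorem L778481 : sm gh N58783 = N58783 := ded_47_2 (flp_f L778471) L767069 L778471
theorem L778482 : sm gi N58783 = N58102 := ded_48_2 (flp_f L771580) (flp_i L767070) L778471
theorem L778484 : sm ge N58783 = N57613 := ded_40_1 (flp_f L767072) (flp_e L755123) (flp_f L755114) L767059 L778471
theorem L778486 : sm gg N58783 = N57615 := ded_45_2 (flp_f L777278) L777271 (flp_f L776467) L776460 L778471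
theorem L778488 : sm gd N57615 = N58784 := rfl
theorem L778490 : sm ge N58784 = N57617 := ded_34_2 (flp_d L767110) (flp_e L755196) (flp_d L755168) L767100 L778488
theorem L778492 : sm gh N57617 = N58785 := rfl
theorem L778494 : sm gd N58785 = N57620 := ded_38_1 (flp_h L767138) (flp_d L755224) (flp_h L755200) L767110 L778492
theorem L778496 : sm gh N57618 = N58786 := rfl
theorem L778498 : sm gb N58786 = N57629 := ded_25_1 L767241 (flp_b L767114) L778496
theorem L778500 : sm gc N58786 = N57906 := ded_32_1 (flp_h L769920) (flp_c L767123) L778496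
theorem L778502 : sm ge N58786 = N58786 := ded_43_1 (flp_h L778496) L767125 L778496
theorem L778503 : sm gf N58786 = N57625 := ded_47_1 L767204 (flp_f L767116) L778496
theorem L778505 : sm gg N58786 = N57620 := ded_50_1 (flp_h L767138) (flp_g L767118) L778496
theorem L778507 : sm gj N58786 = N58126 := ded_52_1 L771737 (flp_j L767120) L778496
theorem L778509 : sm gc N57619 = N58787 := rfl
theorem L778511 : sm ga N58787 = N57900 := ded_11_1 (flp_c L774372) L774368 L778509
theorem L778513 : sm ge N58787 = N58787 := ded_28_2 (flp_c L778509) L767137 L778509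
theorem L778514 : sm gf N58787 = N57897 := ded_29_2 L769831 (flp_f L767130) L778509
theorem L778516 : sm gg N58787 = N57630 := ded_30_2 L767250 (flp_g L767132) L778509
theorem L778518 : sm gj N58787 = N57901 := ded_31_2 L769870 (flp_j L767134) L778509
theorem L778520 : sm gi N58787 = N58787 := ded_33_2 (flp_c L778509) L767136 L778509
theorem L778521 : sm gb N58787 = N57908 := ded_19_1 (flp_c L769941) L758142 (flp_c L755227) (flp_b L767128) L778509
theorem L778523 : sm gd N58787 = N57738 := ded_27_2 L768384 (flp_d L761902) L761895 L767126 L778509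
theorem L778525 : sm gh N57619 = N58788 := rfl
theorem L778527 : sm gb N58788 = N57620 := ded_25_1 (flp_h L767138) (flp_b L767128) L778525
theorem L778529 : sm ge N58788 = N58788 := ded_43_1 (flp_h L778525) L767137 L778525
theorem L778530 : sm gf N58788 = N57881 := ded_47_1 L769698 (flp_f L767130) L778525
theorem L778532 : sm gg N58788 = N57629 := ded_50_1 L767241 (flp_g L767132) L778525
theorem L778534 : sm gj N58788 = N57884 := ded_52_1 L769721 (flp_j L767134) L778525
theorem L778536 : sm gi N57620 = N58789 := rfl
theorem L778538 : sm gc N58789 = N57910 := ded_33_1 (flp_i L769956) (flp_c L767140) L778536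
theorem L778540 : sm ge N58789 = N58789 := ded_44_1 (flp_i L778536) L767142 L778536
theorem L778541 : sm gf N58789 = N58334 := ded_48_1 (flp_i L776271) (flp_f L776273) L778536
theorem L778543 : sm gh N58789 = N58789 := ded_54_1 (flp_i L778536) (flp_h L767138) L755226 L767138 L778536
theorem L778544 : sm ge N57621 = N58790 := rfl
theorem L778546 : sm ga N58790 = N58334 := ded_13_1 (flp_e L772984) (flp_a L767145) L778544
theorem L778548 : sm gb N58790 = N58125 := ded_21_1 (flp_e L771728) (flp_b L767147) L778544
theorem L778550 : sm gg N58790 = N58215 := ded_41_2 (flp_e L772270) (flp_g L767150) L778544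
theorem L778552 : sm gj N58790 = N57627 := ded_42_2 (flp_e L767220) (flp_j L767152) L778544
theorem L778554 : sm gh N58790 = N58790 := ded_43_2 (flp_e L778544) L767156 L778544
theorem L778555 : sm gi N58790 = N57622 := ded_44_2 (flp_e L767157) (flp_i L767154) L778544
theorem L778557 : sm ge N57624 = N58791 := rfl
theorem L778559 : sm gb N58791 = N57627 := ded_21_1 (flp_e L767220) (flp_b L767182) L778557
theorem L778561 : sm gc N58791 = N58096 := ded_28_1 (flp_e L771527) (flp_c L767191) L778557
theorem L778563 : sm gg N58791 = N57679 := ded_41_2 (flp_e L767764) (flp_g L767185) L778557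
theorem L778565 : sm gj N58791 = N58125 := ded_42_2 (flp_e L771728) (flp_j L767187) L778557
theorem L778567 : sm gh N58791 = N58791 := ded_43_2 (flp_e L778557) L767193 L778557
theorem L778568 : sm gi N58791 = N57625 := ded_44_2 (flp_e L767194) (flp_i L767189) L778557
theorem L778570 : sm ge N57626 = N58792 := rfl
theorem L778572 : sm ga N58792 = N58333 := ded_13_1 (flp_e L772979) (flp_a L767208) L778570
theorem L778574 : sm gb N58792 = N58011 := ded_21_1 (flp_e L770920) (flp_b L767216) L778570
theorem L778576 : sm gc N58792 = N57627 := ded_28_1 (flp_e L767220) L767206 L778570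
theorem L778578 : sm gg N58792 = N58015 := ded_41_2 (flp_e L770956) (flp_g L767211) L778570
theorem L778580 : sm gh N58792 = N58792 := ded_43_2 (flp_e L778570) L767213 L778570
theorem L778581 : sm gi N58792 = N57628 := ded_44_2 (flp_e L767227) (flp_i L767214) L778570
theorem L778583 : sm gf N57627 = N58793 := rfl
theorem L778585 : sm gh N58793 = N58793 := ded_47_2 (flp_f L778583) L767224 L778583
theorem L778586 : sm gi N58793 = N57629 := ded_48_2 (flp_f L767239) (flp_i L767225) L778583
theorem L778588 : sm ge N58793 = N58793 := ded_40_1 (flp_f L778583) (flp_e L767220) L755331 L767220 L778583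
theorem L778589 : sm gd N57628 = N58794 := rfl
theorem L778591 : sm ga N58794 = N58242 := ded_12_1 L772424 (flp_a L767229) L778589
theorem L778593 : sm gb N58794 = N58037 := ded_20_1 L771137 (flp_b L767231) L778589
theorem L778595 : sm gg N58794 = N58044 := ded_36_2 L771183 (flp_g L767235) L778589
theorem L778597 : sm ge N58794 = N57912 := ded_34_2 (flp_d L769974) (flp_e L758176) (flp_d L755348) L767227 L778589
theorem L778599 : sm gh N58794 = N58217 := ded_38_2 L772287 L760640 (flp_d L755367) (flp_h L767237) L778589
theorem L778601 : sm gf N57628 = N58795 := rfl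
theorem L778603 : sm ga N58795 = N57904 := ded_14_1 L769902 (flp_a L767229) L778601
theorem L778605 : sm gb N58795 = N58038 := ded_22_1 (flp_f L771139) (flp_b L767231) L778601
theorem L778607 : sm gc N58795 = N57629 := ded_29_1 (flp_f L767239) (flp_c L767233) L778601
theorem L778609 : sm gj N58795 = N57740 := ded_46_2 L774456 L774452 L778601
theorem L778611 : sm gh N58795 = N57630 := ded_47_2 (flp_f L767244) (flp_h L767237) L778601
theorem L778613 : sm ge N58795 = N58795 := ded_40_1 (flp_f L778601) (flp_e L767227) L755341 L767227 L778601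
theorem L778614 : sm gc N57631 = N58796 := rfl
theorem L778616 : sm ga N58796 = N58086 := ded_11_1 (flp_c L771453) (flp_a L767260) L778614
theorem L778618 : sm ge N58796 = N57680 := ded_28_2 (flp_c L767773) (flp_e L767268) L778614
theorem L778620 : sm gj N58796 = N57634 := ded_31_2 (flp_c L767299) (flp_j L767264) L778614
theorem L778622 : sm gi N58796 = N58194 := ded_33_2 (flp_c L772139) (flp_i L767266) L778614
theorem L778624 : sm gc N57632 = N58797 := rfl
theorem L778626 : sm ga N58797 = N58079 := ded_11_1 (flp_c L771419) (flp_a L767272) L778624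
theorem L778628 : sm gf N58797 = N57847 := ded_29_2 L769431 (flp_f L767276) L778624
theorem L778630 : sm gg N58797 = N57981 := ded_30_2 (flp_c L770649) (flp_g L767278) L778624
theorem L778632 : sm gh N58797 = N58280 := ded_32_2 (flp_c L772657) (flp_h L767282) L778624
theorem L778634 : sm gi N58797 = N57947 := ded_33_2 (flp_c L770347) (flp_i L767280) L778624
theorem L778636 : sm gd N58797 = N57634 := ded_27_2 (flp_c L767299) (flp_d L755418) (flp_c L755393) L767270 L778624
theorem L778638 : sm ge N57632 = N58798 := rfl
theorem L778640 : sm ga N58798 = N58080 := ded_13_1 (flp_e L771425) (flp_a L767272) L778638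
theorem L778642 : sm gb N58798 = N57864 := ded_21_1 L769568 (flp_b L767274) L778638
theorem L778644 : sm gg N58798 = N57982 := ded_41_2 (flp_e L770657) (flp_g L767278) L778638
theorem L778646 : sm gh N58798 = N58281 := ded_43_2 (flp_e L772663) (flp_h L767282) L778638
theorem L778648 : sm gi N58798 = N57948 := ded_44_2 (flp_e L770353) (flp_i L767280) L778638
theorem L778650 : sm gd N58798 = N57633 := ded_34_1 (flp_e L767284) (flp_d L755403) (flp_e L755395) L767270 L778638
theorem L778652 : sm gf N58798 = N57845 := ded_40_2 (flp_e L769417) L757650 L757656 (flp_f L767276) L778638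
theorem L778654 : sm gb N57634 = N58799 := rfl
theorem L778656 : sm ge N58799 = N57684 := ded_21_2 (flp_b L767799) (flp_e L767303) L778654
theorem L778658 : sm gg N58799 = N57986 := ded_23_2 (flp_b L770681) (flp_g L767305) L778654
theorem L778660 : sm gi N58799 = N58207 := ded_26_2 (flp_b L772231) (flp_i L767307) L778654
theorem L778662 : sm gc N58799 = N57639 := ded_19_2 (flp_b L767353) (flp_c L755478) (flp_b L755422) L767299 L778654
theorem L778664 : sm gc N57635 = N58800 := rfl
theorem L778666 : sm ga N58800 = N57656 := ded_11_1 (flp_c L767538) (flp_a L767311) L778664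
theorem L778668 : sm ge N58800 = N57707 := ded_28_2 (flp_c L768066) (flp_e L767319) L778664
theorem L778670 : sm gg N58800 = N57636 := ded_30_2 (flp_c L767321) (flp_g L767313) L778664
theorem L778672 : sm gj N58800 = N58179 := ded_31_2 (flp_c L772040) (flp_j L767315) L778664
theorem L778674 : sm gi N58800 = N58188 := ded_33_2 (flp_c L772100) (flp_i L767317) L778664
theorem L778676 : sm gd N58800 = N58183 := ded_27_2 (flp_c L772066) (flp_d L760425) (flp_c L755450) L767309 L778664
theorem L778678 : sm gb N57636 = N58801 := rfl
theorem L778680 : sm gd N58801 = N58184 := ded_20_2 (flp_b L772074) (flp_d L767331) L778678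
theorem L778682 : sm ge N58801 = N57716 := ded_21_2 (flp_b L768161) (flp_e L767325) L778678
theorem L778684 : sm gj N58801 = N57639 := ded_24_2 (flp_b L767353) (flp_j L767327) L778678
theorem L778686 : sm gi N58801 = N58199 := ded_26_2 (flp_b L772171) (flp_i L767329) L778678
theorem L778688 : sm gb N57637 = N58802 := rfl
theorem L778690 : sm gd N58802 = N58185 := ded_20_2 (flp_b L772082) (flp_d L767341) L778688
theorem L778692 : sm gf N58802 = N57639 := ded_22_2 (flp_b L767353) (flp_f L767337) L778688
theorem L778694 : sm gi N58802 = N58211 := ded_26_2 (flp_b L772250) (flp_i L767339) L778688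
theorem L778696 : sm ge N57637 = N58803 := rfl
theorem L778698 : sm ga N58803 = N57669 := ded_13_1 (flp_e L767672) (flp_a L767335) L778696
theorem L778700 : sm gc N58803 = N57638 := ded_28_1 (flp_e L767343) L767333 L778696
theorem L778702 : sm gi N58803 = N58212 := ded_44_2 (flp_e L772256) (flp_i L767339) L778696
theorem L778704 : sm gf N58803 = N57728 := ded_40_2 (flp_e L768286) L756451 (flp_e L755482) (flp_f L767337) L778696
theorem L778706 : sm ga N57639 = N58804 := rfl
theorem L778708 : sm gd N58804 = N58186 := ded_12_2 (flp_a L772090) (flp_d L767355) L778706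
theorem L778710 : sm ge N58804 = N57729 := ded_13_2 (flp_a L768292) (flp_e L767357) L778706
theorem L778712 : sm gg N58804 = N58181 := ded_15_2 (flp_a L772054) (flp_g L767359) L778706
theorem L778714 : sm gi N58804 = N58213 := ded_18_2 (flp_a L772260) (flp_i L767361) L778706
theorem L778716 : sm gb N58804 = N57670 := ded_10_2 (flp_a L767678) (flp_b L755811) (flp_a L755480) L767353 L778706
theorem L778718 : sm gd N57640 = N58805 := rfl
theorem L778720 : sm ga N58805 = N58195 := ded_12_1 (flp_d L772143) (flp_a L767365) L778718
theorem L778722 : sm gf N58805 = N57641 := ded_35_2 (flp_d L767374) (flp_f L767370) L778718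
theorem L778724 : sm gj N58805 = N57644 := ded_37_2 (flp_d L767402) (flp_j L767372) L778718
theorem L778726 : sm gh N58805 = N57648 := ded_38_2 (flp_d L767447) (flp_h L755588) (flp_d L755506) L767363 L778718
theorem L778728 : sm gc N57641 = N58806 := rfl
theorem L778730 : sm ga N58806 = N58196 := ded_11_1 (flp_c L772151) (flp_a L767376) L778728
theorem L778732 : sm ge N58806 = N57748 := ded_28_2 (flp_c L768486) (flp_e L767380) L778728
theorem L778734 : sm gj N58806 = N57645 := ded_31_2 (flp_c L767410) (flp_j L767378) L778728
theorem L778736 : sm gh N58806 = N57649 := ded_32_2 (flp_c L767457) (flp_h L767382) L778728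
theorem L778738 : sm gc N57642 = N58807 := rfl
theorem L778740 : sm ga N58807 = N58114 := ded_11_1 (flp_c L771665) (flp_a L767386) L778738
theorem L778742 : sm gg N58807 = N57658 := ded_30_2 (flp_c L767562) (flp_g L767388) L778738
theorem L778744 : sm gh N58807 = N58100 := ded_32_2 (flp_c L771568) (flp_h L767390) L778738
theorem L778746 : sm gd N58807 = N57645 := ded_27_2 (flp_c L767410) (flp_d L755549) (flp_c L755525) L767384 L778738
theorem L778748 : sm ge N57642 = N58808 := rfl
theorem L778750 : sm ga N58808 = N58115 := ded_13_1 (flp_e L771671) (flp_a L767386) L778748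
theorem L778752 : sm gg N58808 = N57659 := ded_41_2 (flp_e L767570) (flp_g L767388) L778748
theorem L778754 : sm gh N58808 = N58101 := ded_43_2 (flp_e L771574) (flp_h L767390) L778748
theorem L778756 : sm gd N58808 = N57643 := ded_34_1 (flp_e L767392) (flp_d L755531) (flp_e L755527) L767384 L778748
theorem L778758 : sm gf N57643 = N58809 := rfl
theorem L778760 : sm ga N58809 = N58126 := ded_14_1 (flp_f L771735) (flp_a L767394) L778758
theorem L778762 : sm gc N58809 = N57763 := ded_29_1 (flp_f L768636) (flp_c L767396) L778758
theorem L778764 : sm gh N58809 = N57673 := ded_47_2 (flp_f L767704) (flp_h L767400) L778758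
theorem L778766 : sm ge N58809 = N58809 := ded_40_1 (flp_f L778758) (flp_e L767392) L755535 L767392 L778758
theorem L778767 : sm gg N58809 = N57884 := ded_45_2 (flp_f L769719) L757876 (flp_f L755825) (flp_g L767398) L778758
theorem L778769 : sm gc N57644 = N58810 := rfl
theorem L778771 : sm ga N58810 = N58208 := ded_11_1 (flp_c L772235) (flp_a L767404) L778769
theorem L778773 : sm gf N58810 = N57645 := ded_29_2 (flp_c L767410) (flp_f L767406) L778769
theorem L778775 : sm gh N58810 = N57650 := ded_32_2 (flp_c L767469) (flp_h L767408) L778769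
theorem L778777 : sm ge N57644 = N58811 := rfl
theorem L778779 : sm ga N58811 = N58209 := ded_13_1 (flp_e L772241) (flp_a L767404) L778777
theorem L778781 : sm gh N58811 = N57651 := ded_43_2 (flp_e L767479) (flp_h L767408) L778777
theorem L778783 : sm gd N58811 = N58811 := ded_34_1 (flp_e L778777) (flp_d L767402) L755546 L767402 L778777
theorem L778784 : sm gf N58811 = N57766 := ded_40_2 (flp_e L768659) L756874 (flp_e L755555) (flp_f L767406) L778777
theorem L778786 : sm gb N57645 = N58812 := rfl
theorem L778788 : sm ge N58812 = N57767 := ded_21_2 (flp_b L768664) (flp_e L767414) L778786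
theorem L778790 : sm gg N58812 = N58182 := ded_23_2 (flp_b L772060) (flp_g L767416) L778786
theorem L778792 : sm gh N58812 = N57652 := ded_25_2 (flp_b L767489) (flp_h L767418) L778786
theorem L778794 : sm gd N57646 = N58813 := rfl
theorem L778796 : sm ga N58813 = N58187 := ded_12_1 (flp_d L772096) (flp_a L767422) L778794
theorem L778798 : sm gb N58813 = N58140 := ded_20_1 (flp_d L771827) (flp_b L767424) L778794
theorem L778800 : sm gf N58813 = N57647 := ded_35_2 (flp_d L767435) (flp_f L767429) L778794
theorem L778802 : sm gj N58813 = N57681 := ded_37_2 (flp_d L767777) (flp_j L767431) L778794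
theorem L778804 : sm gi N58813 = N57655 := ded_39_2 (flp_d L767528) (flp_i L767433) L778794
theorem L778806 : sm gh N58813 = N57678 := ded_38_2 (flp_d L767756) (flp_h L755926) (flp_d L755567) L767420 L778794
theorem L778808 : sm gc N57647 = N58814 := rfl
theorem L778810 : sm ga N58814 = N58188 := ded_11_1 (flp_c L772100) (flp_a L767437) L778808
theorem L778812 : sm ge N58814 = N57771 := ded_28_2 (flp_c L768703) (flp_e L767445) L778808
theorem L778814 : sm gg N58814 = N57649 := ded_30_2 (flp_c L767457) (flp_g L767439) L778808
theorem L778816 : sm gj N58814 = N58183 := ded_31_2 (flp_c L772066) (flp_j L767441) L778808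
theorem L778818 : sm gi N58814 = N57656 := ded_33_2 (flp_c L767538) (flp_i L767443) L778808
theorem L778820 : sm gd N58814 = N58179 := ded_27_2 (flp_c L772040) (flp_d L760399) (flp_c L755578) L767435 L778808
theorem L778822 : sm gc N57648 = N58815 := rfl
theorem L778824 : sm ga N58815 = N58197 := ded_11_1 (flp_c L772157) (flp_a L767449) L778822
theorem L778826 : sm gf N58815 = N57649 := ded_29_2 (flp_c L767457) (flp_f L767451) L778822
theorem L778828 : sm gj N58815 = N57650 := ded_31_2 (flp_c L767469) (flp_j L767453) L778822
theorem L778830 : sm gi N58815 = N57658 := ded_33_2 (flp_c L767562) (flp_i L767455) L778822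
theorem L778832 : sm gd N58815 = N57952 := ded_27_2 (flp_c L770383) (flp_d L758650) (flp_c L755592) L767447 L778822
theorem L778834 : sm ge N57648 = N58816 := rfl
theorem L778836 : sm ga N58816 = N58198 := ded_13_1 (flp_e L772165) (flp_a L767449) L778834
theorem L778838 : sm gj N58816 = N57651 := ded_42_2 (flp_e L767479) (flp_j L767453) L778834
theorem L778840 : sm gi N58816 = N57659 := ded_44_2 (flp_e L767570) (flp_i L767455) L778834
theorem L778842 : sm gd N58816 = N57653 := ded_34_1 (flp_e L767499) (flp_d L755632) (flp_e L755594) L767447 L778834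
theorem L778844 : sm gf N58816 = N57779 := ded_40_2 (flp_e L768797) L757004 (flp_e L755610) (flp_f L767451) L778834
theorem L778846 : sm gb N57649 = N58817 := rfl
theorem L778848 : sm gd N58817 = N58180 := ded_20_2 (flp_b L772048) (flp_d L767467) L778846
theorem L778850 : sm ge N58817 = N57780 := ded_21_2 (flp_b L768805) (flp_e L767461) L778846
theorem L778852 : sm gj N58817 = N57652 := ded_24_2 (flp_b L767489) (flp_j L767463) L778846
theorem L778854 : sm gi N58817 = N57660 := ded_26_2 (flp_b L767578) (flp_i L767465) L778846
theorem L778856 : sm gb N57650 = N58818 := rfl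
theorem L778858 : sm gd N58818 = N57953 := ded_20_2 (flp_b L770397) (flp_d L767477) L778856
theorem L778860 : sm gf N58818 = N57652 := ded_22_2 (flp_b L767489) (flp_f L767473) L778856
theorem L778862 : sm gi N58818 = N57668 := ded_26_2 (flp_b L767668) (flp_i L767475) L778856
theorem L778864 : sm ge N57650 = N58819 := rfl
theorem L778866 : sm ga N58819 = N58212 := ded_13_1 (flp_e L772256) (flp_a L767471) L778864
theorem L778868 : sm gc N58819 = N57651 := ded_28_1 (flp_e L767479) L767469 L778864
theorem L778870 : sm gi N58819 = N57669 := ded_44_2 (flp_e L767672) (flp_i L767475) L778864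
theorem L778872 : sm gd N58819 = N58082 := ded_34_1 (flp_e L771437) L759702 (flp_e L758670) (flp_d L767477) L778864
theorem L778874 : sm gf N58819 = N57795 := ded_40_2 (flp_e L768957) L757144 (flp_e L755624) (flp_f L767473) L778864
theorem L778876 : sm ga N57652 = N58820 := rfl
theorem L778878 : sm gd N58820 = N58181 := ded_12_2 (flp_a L772054) (flp_d L767491) L778876
theorem L778880 : sm ge N58820 = N57796 := ded_13_2 (flp_a L768963) (flp_e L767493) L778876
theorem L778882 : sm gg N58820 = N58186 := ded_15_2 (flp_a L772090) (flp_g L767495) L778876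
theorem L778884 : sm gi N58820 = N57670 := ded_18_2 (flp_a L767678) (flp_i L767497) L778876
theorem L778886 : sm gb N58820 = N58213 := ded_10_2 (flp_a L772260) (flp_b L760599) (flp_a L755622) L767489 L778876
theorem L778888 : sm gc N57654 = N58821 := rfl
theorem L778890 : sm ga N58821 = N58183 := ded_11_1 (flp_c L772066) (flp_a L767514) L778888
theorem L778892 : sm ge N58821 = N58204 := ded_28_2 (flp_c L772209) (flp_e L767524) L778888
theorem L778894 : sm gg N58821 = N57657 := ded_30_2 (flp_c L767546) (flp_g L767518) L778888
theorem L778896 : sm gj N58821 = N58188 := ded_31_2 (flp_c L772100) (flp_j L767520) L778888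
theorem L778898 : sm gh N58821 = N57676 := ded_32_2 (flp_c L767738) (flp_h L767526) L778888
theorem L778900 : sm gi N58821 = N58179 := ded_33_2 (flp_c L772040) (flp_i L767522) L778888
theorem L778902 : sm gd N58821 = N57656 := ded_27_2 (flp_c L767538) (flp_d L755681) (flp_c L755662) L767512 L778888
theorem L778904 : sm gc N57655 = N58822 := rfl
theorem L778906 : sm gf N58822 = N57656 := ded_29_2 (flp_c L767538) (flp_f L767532) L778904
theorem L778908 : sm gj N58822 = N58190 := ded_31_2 (flp_c L772116) (flp_j L767534) L778904
theorem L778910 : sm gh N58822 = N58137 := ded_32_2 (flp_c L771806) (flp_h L767536) L778904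
theorem L778912 : sm ge N57655 = N58823 := rfl
theorem L778914 : sm gb N58823 = N58142 := ded_21_1 (flp_e L771837) (flp_b L767530) L778912
theorem L778916 : sm gj N58823 = N58191 := ded_42_2 (flp_e L772120) (flp_j L767534) L778912
theorem L778918 : sm gh N58823 = N58138 := ded_43_2 (flp_e L771810) (flp_h L767536) L778912
theorem L778920 : sm gd N58823 = N58823 := ded_34_1 (flp_e L778912) (flp_d L767528) L755676 L767528 L778912
theorem L778921 : sm gf N58823 = N57817 := ded_40_2 (flp_e L769195) L757412 (flp_e L755687) (flp_f L767532) L778912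
theorem L778923 : sm gb N57656 = N58824 := rfl
theorem L778925 : sm ge N58824 = N57818 := ded_21_2 (flp_b L769200) (flp_e L767540) L778923
theorem L778927 : sm gg N58824 = N57660 := ded_23_2 (flp_b L767578) (flp_g L767542) L778923
theorem L778929 : sm gj N58824 = N58192 := ded_24_2 (flp_b L772125) (flp_j L767544) L778923
theorem L778931 : sm gb N57657 = N58825 := rfl
theorem L778933 : sm gd N58825 = N57660 := ded_20_2 (flp_b L767578) (flp_d L767560) L778931
theorem L778935 : sm ge N58825 = N58219 := ded_21_2 (flp_b L772293) (flp_e L767550) L778931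
theorem L778937 : sm gf N58825 = N58182 := ded_22_2 (flp_b L772060) (flp_f L767552) L778931
theorem L778939 : sm gj N58825 = N57664 := ded_24_2 (flp_b L767632) (flp_j L767554) L778931
theorem L778941 : sm gh N58825 = N58185 := ded_25_2 (flp_b L772082) (flp_h L767556) L778931
theorem L778943 : sm gi N58825 = N58180 := ded_26_2 (flp_b L772048) (flp_i L767558) L778931
theorem L778945 : sm gc N58825 = N58218 := ded_19_2 (flp_b L772289) (flp_c L760642) (flp_b L755693) L767546 L778931
theorem L778947 : sm gb N57658 = N58826 := rfl
theorem L778949 : sm gd N58826 = N58182 := ded_20_2 (flp_b L772060) (flp_d L767568) L778947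
theorem L778951 : sm gf N58826 = N57660 := ded_22_2 (flp_b L767578) (flp_f L767564) L778947
theorem L778953 : sm gj N58826 = N57668 := ded_24_2 (flp_b L767668) (flp_j L767566) L778947
theorem L778955 : sm ge N57658 = N58827 := rfl
theorem L778957 : sm gc N58827 = N57659 := ded_28_1 (flp_e L767570) L767562 L778955
theorem L778959 : sm gj N58827 = N57669 := ded_42_2 (flp_e L767672) (flp_j L767566) L778955
theorem L778961 : sm gd N58827 = N58244 := ded_34_1 (flp_e L772430) L760788 (flp_e L760421) (flp_d L767568) L778955
theorem L778963 : sm gf N58827 = N57837 := ded_40_2 (flp_e L769358) L757580 (flp_e L755713) (flp_f L767564) L778955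
theorem L778965 : sm ga N57660 = N58828 := rfl
theorem L778967 : sm ge N58828 = N57838 := ded_13_2 (flp_a L769364) (flp_e L767580) L778965
theorem L778969 : sm gj N58828 = N57670 := ded_16_2 (flp_a L767678) (flp_j L767582) L778965
theorem L778971 : sm gb N57661 = N58829 := rfl
theorem L778973 : sm ge N58829 = N58185 := ded_21_2 (flp_b L772082) (flp_e L767588) L778971
theorem L778975 : sm gf N58829 = N57957 := ded_22_2 (flp_b L770427) (flp_f L767590) L778971
theorem L778977 : sm gg N58829 = N58207 := ded_23_2 (flp_b L772231) (flp_g L767592) L778971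
theorem L778979 : sm gj N58829 = N58218 := ded_24_2 (flp_b L772289) (flp_j L767594) L778971
theorem L778981 : sm gh N58829 = N58219 := ded_25_2 (flp_b L772293) (flp_h L767596) L778971
theorem L778983 : sm gi N58829 = N57986 := ded_26_2 (flp_b L770681) (flp_i L767598) L778971
theorem L778985 : sm gc N58829 = N57664 := ded_19_2 (flp_b L767632) (flp_c L755769) (flp_b L755721) L767584 L778971
theorem L778987 : sm gb N57662 = N58830 := rfl
theorem L778989 : sm ge N58830 = N58218 := ded_21_2 (flp_b L772289) (flp_e L767604) L778987
theorem L778991 : sm gf N58830 = N58184 := ded_22_2 (flp_b L772074) (flp_f L767606) L778987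
theorem L778993 : sm gg N58830 = N58210 := ded_23_2 (flp_b L772246) (flp_g L767608) L778987
theorem L778995 : sm gj N58830 = N58185 := ded_24_2 (flp_b L772082) (flp_j L767610) L778987
theorem L778997 : sm gh N58830 = N57664 := ded_25_2 (flp_b L767632) (flp_h L767612) L778987
theorem L778999 : sm gi N58830 = N58201 := ded_26_2 (flp_b L772183) (flp_i L767614) L778987
theorem L779001 : sm gc N58830 = N58219 := ded_19_2 (flp_b L772293) (flp_c L760648) (flp_b L755739) L767600 L778987
theorem L779003 : sm gb N57663 = N58831 := rfl
theorem L779005 : sm gd N58831 = N57668 := ded_20_2 (flp_b L767668) (flp_d L767630) L779003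
theorem L779007 : sm ge N58831 = N58033 := ded_21_2 (flp_b L771105) (flp_e L767620) L779003
theorem L779009 : sm gf N58831 = N57664 := ded_22_2 (flp_b L767632) (flp_f L767622) L779003
theorem L779011 : sm gj N58831 = N58182 := ded_24_2 (flp_b L772060) (flp_j L767624) L779003
theorem L779013 : sm gh N58831 = N58184 := ded_25_2 (flp_b L772074) (flp_h L767626) L779003
theorem L779015 : sm gi N58831 = N57953 := ded_26_2 (flp_b L770397) (flp_i L767628) L779003
theorem L779017 : sm gc N58831 = N57957 := ded_19_2 (flp_b L770427) (flp_c L758694) (flp_b L755757) L767616 L779003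
theorem L779019 : sm ga N57664 = N58832 := rfl
theorem L779021 : sm gd N58832 = N57670 := ded_12_2 (flp_a L767678) (flp_d L767634) L779019
theorem L779023 : sm ge N58832 = N58220 := ded_13_2 (flp_a L772299) (flp_e L767636) L779019
theorem L779025 : sm gg N58832 = N58213 := ded_15_2 (flp_a L772260) (flp_g L767638) L779019
theorem L779027 : sm gi N58832 = N58181 := ded_18_2 (flp_a L772054) (flp_i L767640) L779019
theorem L779029 : sm gb N58832 = N58186 := ded_10_2 (flp_a L772090) (flp_b L760447) (flp_a L755771) L767632 L779019
theorem L779031 : sm gc N57665 = N58833 := rfl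
theorem L779033 : sm ga N58833 = N58159 := ded_11_1 (flp_c L771932) (flp_a L767644) L779031
theorem L779035 : sm gf N58833 = N57680 := ded_29_2 (flp_c L767773) (flp_f L767648) L779031
theorem L779037 : sm gj N58833 = N57666 := ded_31_2 (flp_c L767654) (flp_j L767650) L779031
theorem L779039 : sm gh N58833 = N58157 := ded_32_2 (flp_c L771922) (flp_h L767652) L779031
theorem L779041 : sm ge N57665 = N58834 := rfl
theorem L779043 : sm ga N58834 = N58160 := ded_13_1 (flp_e L771936) (flp_a L767644) L779041
theorem L779045 : sm gb N58834 = N57715 := ded_21_1 (flp_e L768153) (flp_b L767646) L779041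
theorem L779047 : sm gj N58834 = N57667 := ded_42_2 (flp_e L767660) (flp_j L767650) L779041
theorem L779049 : sm gh N58834 = N58158 := ded_43_2 (flp_e L771926) (flp_h L767652) L779041
theorem L779051 : sm gd N58834 = N57671 := ded_34_1 (flp_e L767684) (flp_d L755827) (flp_e L755787) L767642 L779041
theorem L779053 : sm gb N57666 = N58835 := rfl
theorem L779055 : sm gf N58835 = N57684 := ded_22_2 (flp_b L767799) (flp_f L767656) L779053
theorem L779057 : sm gg N58835 = N57668 := ded_23_2 (flp_b L767668) (flp_g L767658) L779053
theorem L779059 : sm gc N58835 = N57727 := ded_19_2 (flp_b L768282) (flp_c L756447) (flp_b L755795) L767654 L779053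
theorem L779061 : sm ge N57666 = N58836 := rfl
theorem L779063 : sm gc N58836 = N57667 := ded_28_1 (flp_e L767660) L767654 L779061
theorem L779065 : sm gg N58836 = N57669 := ded_41_2 (flp_e L767672) (flp_g L767658) L779061
theorem L779067 : sm ga N57668 = N58837 := rfl
theorem L779069 : sm gf N58837 = N57670 := ded_14_2 (flp_a L767678) (flp_f L767670) L779067
theorem L779071 : sm ge N57668 = N58838 := rfl
theorem L779073 : sm gb N58838 = N57669 := ded_21_1 (flp_e L767672) L767668 L779071
theorem L779075 : sm gf N58838 = N57873 := ded_40_2 (flp_e L769628) L757804 (flp_e L755813) (flp_f L767670) L779071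
theorem L779077 : sm gd N57669 = N58839 := rfl
theorem L779079 : sm gf N58839 = N57874 := ded_35_2 (flp_d L769632) (flp_f L767676) L779077
theorem L779081 : sm gj N58839 = N58244 := ded_37_2 (flp_d L778961) L778959 L779077
theorem L779083 : sm gi N58839 = N58082 := ded_39_2 (flp_d L778872) L778870 L779077
theorem L779085 : sm gc N58839 = N57672 := ded_27_1 (flp_d L767694) L755849 (flp_d L755807) (flp_c L767674) L779077
theorem L779087 : sm ge N58839 = N58029 := ded_34_2 L771081 (flp_e L767620) L767630 L767672 L779077
theorem L779089 : sm gh N57672 = N58840 := rfl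
theorem L779091 : sm ge N58840 = N58025 := ded_43_1 L771056 (flp_e L767702) L779089
theorem L779093 : sm gf N58840 = N57895 := ded_47_1 (flp_h L769812) (flp_f L767696) L779089
theorem L779095 : sm gj N58840 = N58242 := ded_52_1 L772422 (flp_j L767698) L779089
theorem L779097 : sm gd N58840 = N57674 := ded_38_1 (flp_h L767716) (flp_d L755881) (flp_h L755853) L767694 L779089
theorem L779099 : sm gi N57674 = N58841 := rfl
theorem L779101 : sm gb N58841 = N57878 := ded_26_1 (flp_i L776380) L776372 L779099
theorem L779103 : sm gc N58841 = N58334 := ded_33_1 (flp_i L776271) L776263 L779099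
theorem L779105 : sm ge N58841 = N57741 := ded_44_1 L768413 (flp_e L767718) L779099
theorem L779107 : sm gf N58841 = N57910 := ded_48_1 (flp_i L769956) (flp_f L767720) L779099
theorem L779109 : sm gg N58841 = N57875 := ded_51_1 (flp_i L775777) L775771 L779099
theorem L779111 : sm gj N58841 = N58333 := ded_53_1 L772982 (flp_j L767722) L779099
theorem L779113 : sm gh N58841 = N58841 := ded_54_1 (flp_i L779099) (flp_h L767716) L755887 L767716 L779099
theorem L779114 : sm gc N57675 = N58842 := rfl
theorem L779116 : sm ge N58842 = N58194 := ded_28_2 (flp_c L772139) (flp_e L767734) L779114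
theorem L779118 : sm gg N58842 = N58196 := ded_30_2 (flp_c L772151) (flp_g L767728) L779114
theorem L779120 : sm gj N58842 = N57676 := ded_31_2 (flp_c L767738) (flp_j L767730) L779114
theorem L779122 : sm gh N58842 = N58188 := ded_32_2 (flp_c L772100) (flp_h L767736) L779114
theorem L779124 : sm gi N58842 = N57680 := ded_33_2 (flp_c L767773) (flp_i L767732) L779114
theorem L779126 : sm gd N58842 = N58159 := ded_27_2 (flp_c L771932) (flp_d L760285) (flp_c L755894) L767724 L779114
theorem L779128 : sm gb N57676 = N58843 := rfl
theorem L779130 : sm ge N58843 = N58207 := ded_21_2 (flp_b L772231) (flp_e L767740) L779128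
theorem L779132 : sm gg N58843 = N58185 := ded_23_2 (flp_b L772082) (flp_g L767742) L779128
theorem L779134 : sm gi N58843 = N57684 := ded_26_2 (flp_b L767799) (flp_i L767744) L779128
theorem L779136 : sm gc N58843 = N57699 := ded_19_2 (flp_b L767974) (flp_c L756140) (flp_b L755906) L767738 L779128
theorem L779138 : sm gc N57677 = N58844 := rfl
theorem L779140 : sm gg N58844 = N57680 := ded_30_2 (flp_c L767773) (flp_g L767750) L779138
theorem L779142 : sm gj N58844 = N58200 := ded_31_2 (flp_c L772177) (flp_j L767752) L779138
theorem L779144 : sm gi N58844 = N58196 := ded_33_2 (flp_c L772151) (flp_i L767754) L779138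
theorem L779146 : sm gc N57678 = N58845 := rfl
theorem L779148 : sm gj N58845 = N57682 := ded_31_2 (flp_c L767787) (flp_j L767760) L779146
theorem L779150 : sm gi N58845 = N58159 := ded_33_2 (flp_c L771932) (flp_i L767762) L779146
theorem L779152 : sm gd N58845 = N57680 := ded_27_2 (flp_c L767773) (flp_d L755949) (flp_c L755930) L767756 L779146
theorem L779154 : sm ge N57678 = N58846 := rfl
theorem L779156 : sm gb N58846 = N58166 := ded_21_1 (flp_e L771968) (flp_b L767758) L779154
theorem L779158 : sm gj N58846 = N57683 := ded_42_2 (flp_e L767793) (flp_j L767760) L779154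
theorem L779160 : sm gi N58846 = N58160 := ded_44_2 (flp_e L771936) (flp_i L767762) L779154
theorem L779162 : sm gd N58846 = N57679 := ded_34_1 (flp_e L767764) (flp_d L755938) (flp_e L755932) L767756 L779154
theorem L779164 : sm gb N57680 = N58847 := rfl
theorem L779166 : sm gj N58847 = N57684 := ded_24_2 (flp_b L767799) (flp_j L767775) L779164
theorem L779168 : sm gc N58847 = N57716 := ded_19_2 (flp_b L768161) (flp_c L756337) (flp_b L755951) L767773 L779164
theorem L779170 : sm gc N57681 = N58848 := rfl
theorem L779172 : sm gf N58848 = N58183 := ded_29_2 (flp_c L772066) (flp_f L767779) L779170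
theorem L779174 : sm gg N58848 = N58208 := ded_30_2 (flp_c L772235) (flp_g L767781) L779170
theorem L779176 : sm gh N58848 = N57682 := ded_32_2 (flp_c L767787) (flp_h L767785) L779170
theorem L779178 : sm gi N58848 = N58190 := ded_33_2 (flp_c L772116) (flp_i L767783) L779170
theorem L779180 : sm ge N57681 = N58849 := rfl
theorem L779182 : sm gg N58849 = N58209 := ded_41_2 (flp_e L772241) (flp_g L767781) L779180
theorem L779184 : sm gh N58849 = N57683 := ded_43_2 (flp_e L767793) (flp_h L767785) L779180
theorem L779186 : sm gi N58849 = N58191 := ded_44_2 (flp_e L772120) (flp_i L767783) L779180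
theorem L779188 : sm gd N58849 = N58849 := ded_34_1 (flp_e L779180) (flp_d L767777) L755957 L767777 L779180
theorem L779189 : sm gf N58849 = N58249 := ded_40_2 (flp_e L772458) L760815 (flp_e L760431) (flp_f L767779) L779180
theorem L779191 : sm gb N57682 = N58850 := rfl
theorem L779193 : sm gd N58850 = N57684 := ded_20_2 (flp_b L767799) (flp_d L767791) L779191
theorem L779195 : sm gg N58850 = N58211 := ded_23_2 (flp_b L772250) (flp_g L767789) L779191
theorem L779197 : sm ge N57682 = N58851 := rfl
theorem L779199 : sm gc N58851 = N57683 := ded_28_1 (flp_e L767793) L767787 L779197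
theorem L779201 : sm gg N58851 = N58212 := ded_41_2 (flp_e L772256) (flp_g L767789) L779197
theorem L779203 : sm ga N57684 = N58852 := rfl
theorem L779205 : sm gc N58852 = N57729 := ded_11_2 (flp_a L768292) (flp_c L767803) L779203
theorem L779207 : sm gg N58852 = N58214 := ded_15_2 (flp_a L772264) (flp_g L767801) L779203
theorem L779209 : sm gd N57685 = N58853 := rfl
theorem L779211 : sm ga N58853 = N57747 := ded_12_1 (flp_d L768478) (flp_a L767807) L779209
theorem L779213 : sm gb N58853 = N58187 := ded_20_1 (flp_d L772096) (flp_b L767809) L779209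
theorem L779215 : sm gf N58853 = N57686 := ded_35_2 (flp_d L767818) (flp_f L767814) L779209
theorem L779217 : sm gj N58853 = N57690 := ded_37_2 (flp_d L767871) (flp_j L767816) L779209
theorem L779219 : sm gh N58853 = N57695 := ded_38_2 (flp_d L767932) (flp_h L756108) (flp_d L755985) L767805 L779209
theorem L779221 : sm gc N57686 = N58854 := rfl
theorem L779223 : sm ga N58854 = N57748 := ded_11_1 (flp_c L768486) (flp_a L767820) L779221
theorem L779225 : sm ge N58854 = N58196 := ded_28_2 (flp_c L772151) (flp_e L767828) L779221
theorem L779227 : sm gg N58854 = N58194 := ded_30_2 (flp_c L772139) (flp_g L767824) L779221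
theorem L779229 : sm gj N58854 = N57691 := ded_31_2 (flp_c L767879) (flp_j L767826) L779221
theorem L779231 : sm gh N58854 = N57696 := ded_32_2 (flp_c L767942) (flp_h L767830) L779221
theorem L779233 : sm gd N58854 = N58062 := ded_27_2 (flp_c L771316) (flp_d L759610) (flp_c L755998) L767818 L779221
theorem L779235 : sm gd N57687 = N58855 := rfl
theorem L779237 : sm ga N58855 = N57760 := ded_12_1 (flp_d L768620) (flp_a L767834) L779235
theorem L779239 : sm gb N58855 = N58046 := ded_20_1 (flp_d L771196) (flp_b L767836) L779235
theorem L779241 : sm gf N58855 = N57688 := ded_35_2 (flp_d L767845) (flp_f L767841) L779235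
theorem L779243 : sm gj N58855 = N58060 := ded_37_2 (flp_d L771302) (flp_j L767843) L779235
theorem L779245 : sm gh N58855 = N58042 := ded_38_2 (flp_d L771161) (flp_h L759467) (flp_d L756014) L767832 L779235
theorem L779247 : sm gc N57688 = N58856 := rfl
theorem L779249 : sm ga N58856 = N57761 := ded_11_1 (flp_c L768624) (flp_a L767847) L779247
theorem L779251 : sm gg N58856 = N58216 := ded_30_2 (flp_c L772277) (flp_g L767851) L779247
theorem L779253 : sm gj N58856 = N58062 := ded_31_2 (flp_c L771316) (flp_j L767853) L779247
theorem L779255 : sm gh N58856 = N58043 := ded_32_2 (flp_c L771171) (flp_h L767855) L779247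
theorem L779257 : sm gd N58856 = N57691 := ded_27_2 (flp_c L767879) (flp_d L756057) (flp_c L756027) L767845 L779247
theorem L779259 : sm ge N57688 = N58857 := rfl
theorem L779261 : sm ga N58857 = N57762 := ded_13_1 (flp_e L768630) (flp_a L767847) L779259
theorem L779263 : sm gb N58857 = N58049 := ded_21_1 (flp_e L771216) (flp_b L767849) L779259
theorem L779265 : sm gg N58857 = N58217 := ded_41_2 (flp_e L772283) (flp_g L767851) L779259
theorem L779267 : sm gj N58857 = N58063 := ded_42_2 (flp_e L771320) (flp_j L767853) L779259
theorem L779269 : sm gh N58857 = N58044 := ded_43_2 (flp_e L771177) (flp_h L767855) L779259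
theorem L779271 : sm gd N58857 = N57689 := ded_34_1 (flp_e L767857) (flp_d L756035) (flp_e L756029) L767845 L779259
theorem L779273 : sm gf N57689 = N58858 := rfl
theorem L779275 : sm ga N58858 = N57763 := ded_14_1 (flp_f L768636) (flp_a L767859) L779273
theorem L779277 : sm gb N58858 = N58094 := ded_22_1 (flp_f L771514) (flp_b L767861) L779273
theorem L779279 : sm gc N58858 = N58126 := ded_29_1 (flp_f L771735) (flp_c L767863) L779273
theorem L779281 : sm gj N58858 = N57906 := ded_46_2 L769925 (flp_j L767867) L779273
theorem L779283 : sm gh N58858 = N57905 := ded_47_2 L769912 (flp_h L767869) L779273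
theorem L779285 : sm ge N58858 = N58858 := ded_40_1 (flp_f L779273) (flp_e L767857) L756041 L767857 L779273
theorem L779286 : sm gc N57690 = N58859 := rfl
theorem L779288 : sm ga N58859 = N57765 := ded_11_1 (flp_c L768653) (flp_a L767873) L779286
theorem L779290 : sm gf N58859 = N57691 := ded_29_2 (flp_c L767879) (flp_f L767875) L779286
theorem L779292 : sm gh N58859 = N57697 := ded_32_2 (flp_c L767954) (flp_h L767877) L779286
theorem L779294 : sm ge N57690 = N58860 := rfl
theorem L779296 : sm ga N58860 = N57766 := ded_13_1 (flp_e L768659) (flp_a L767873) L779294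
theorem L779298 : sm gh N58860 = N57698 := ded_43_2 (flp_e L767964) (flp_h L767877) L779294
theorem L779300 : sm gd N58860 = N58860 := ded_34_1 (flp_e L779294) (flp_d L767871) L756054 L767871 L779294
theorem L779301 : sm gf N58860 = N58209 := ded_40_2 (flp_e L772241) L760581 (flp_e L756063) (flp_f L767875) L779294
theorem L779303 : sm gb N57691 = N58861 := rfl
theorem L779305 : sm ge N58861 = N58210 := ded_21_2 (flp_b L772246) (flp_e L767883) L779303
theorem L779307 : sm gg N58861 = N58218 := ded_23_2 (flp_b L772289) (flp_g L767885) L779303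
theorem L779309 : sm gh N58861 = N57699 := ded_25_2 (flp_b L767974) (flp_h L767887) L779303
theorem L779311 : sm gd N57692 = N58862 := rfl
theorem L779313 : sm ga N58862 = N57770 := ded_12_1 (flp_d L768695) (flp_a L767891) L779311
theorem L779315 : sm gb N58862 = N58195 := ded_20_1 (flp_d L772143) (flp_b L767893) L779311
theorem L779317 : sm gf N58862 = N57693 := ded_35_2 (flp_d L767904) (flp_f L767898) L779311
theorem L779319 : sm gj N58862 = N58203 := ded_37_2 (flp_d L772197) (flp_j L767900) L779311
theorem L779321 : sm gi N58862 = N57706 := ded_39_2 (flp_d L768058) (flp_i L767902) L779311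
theorem L779323 : sm gh N58862 = N58193 := ded_38_2 (flp_d L772131) (flp_h L760485) (flp_d L756075) L767889 L779311
theorem L779325 : sm gc N57693 = N58863 := rfl
theorem L779327 : sm ga N58863 = N57771 := ded_11_1 (flp_c L768703) (flp_a L767906) L779325
theorem L779329 : sm ge N58863 = N58188 := ded_28_2 (flp_c L772100) (flp_e L767916) L779325
theorem L779331 : sm gg N58863 = N57696 := ded_30_2 (flp_c L767942) (flp_g L767910) L779325
theorem L779333 : sm gj N58863 = N58204 := ded_31_2 (flp_c L772209) (flp_j L767912) L779325
theorem L779335 : sm gh N58863 = N58194 := ded_32_2 (flp_c L772139) (flp_h L767918) L779325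
theorem L779337 : sm gi N58863 = N57707 := ded_33_2 (flp_c L768066) (flp_i L767914) L779325
theorem L779339 : sm gd N58863 = N57842 := ded_27_2 (flp_c L769393) (flp_d L757620) (flp_c L756088) L767904 L779325
theorem L779341 : sm gd N57694 = N58864 := rfl
theorem L779343 : sm ga N58864 = N57777 := ded_12_1 (flp_d L768783) (flp_a L767922) L779341
theorem L779345 : sm gg N58864 = N57695 := ded_36_2 (flp_d L767932) (flp_g L767928) L779341
theorem L779347 : sm gi N58864 = N57713 := ded_39_2 (flp_d L768139) (flp_i L767930) L779341
theorem L779349 : sm gc N57695 = N58865 := rfl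
theorem L779351 : sm ga N58865 = N57778 := ded_11_1 (flp_c L768789) (flp_a L767934) L779349
theorem L779353 : sm gf N58865 = N57696 := ded_29_2 (flp_c L767942) (flp_f L767936) L779349
theorem L779355 : sm gj N58865 = N57697 := ded_31_2 (flp_c L767954) (flp_j L767938) L779349
theorem L779357 : sm gi N58865 = N57714 := ded_33_2 (flp_c L768145) (flp_i L767940) L779349
theorem L779359 : sm gd N58865 = N58297 := ded_27_2 L772779 L761114 (flp_c L756112) L767932 L779349
theorem L779361 : sm ge N57695 = N58866 := rfl
theorem L779363 : sm ga N58866 = N57779 := ded_13_1 (flp_e L768797) (flp_a L767934) L779361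
theorem L779365 : sm gj N58866 = N57698 := ded_42_2 (flp_e L767964) (flp_j L767938) L779361
theorem L779367 : sm gi N58866 = N57715 := ded_44_2 (flp_e L768153) (flp_i L767940) L779361
theorem L779369 : sm gd N58866 = N57702 := ded_34_1 (flp_e L768007) (flp_d L756163) (flp_e L756114) L767932 L779361
theorem L779371 : sm gf N58866 = N58198 := ded_40_2 (flp_e L772165) L760518 (flp_e L756130) (flp_f L767936) L779361
theorem L779373 : sm gb N57696 = N58867 := rfl
theorem L779375 : sm gd N58867 = N58296 := ded_20_2 L772769 (flp_d L767952) L779373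
theorem L779377 : sm ge N58867 = N58199 := ded_21_2 (flp_b L772171) (flp_e L767946) L779373
theorem L779379 : sm gj N58867 = N57699 := ded_24_2 (flp_b L767974) (flp_j L767948) L779373
theorem L779381 : sm gi N58867 = N57716 := ded_26_2 (flp_b L768161) (flp_i L767950) L779373
theorem L779383 : sm gb N57697 = N58868 := rfl
theorem L779385 : sm gd N58868 = N58327 := ded_20_2 L772945 (flp_d L767962) L779383
theorem L779387 : sm gf N58868 = N57699 := ded_22_2 (flp_b L767974) (flp_f L767958) L779383
theorem L779389 : sm gi N58868 = N57727 := ded_26_2 (flp_b L768282) (flp_i L767960) L779383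
theorem L779391 : sm ge N57697 = N58869 := rfl
theorem L779393 : sm ga N58869 = N57795 := ded_13_1 (flp_e L768957) (flp_a L767956) L779391
theorem L779395 : sm gc N58869 = N57698 := ded_28_1 (flp_e L767964) L767954 L779391
theorem L779397 : sm gi N58869 = N57728 := ded_44_2 (flp_e L768286) (flp_i L767960) L779391
theorem L779399 : sm gf N58869 = N58212 := ded_40_2 (flp_e L772256) L760591 (flp_e L756144) (flp_f L767958) L779391
theorem L779401 : sm ga N57699 = N58870 := rfl
theorem L779403 : sm gd N58870 = N58326 := ded_12_2 L772941 (flp_d L767976) L779401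
theorem L779405 : sm ge N58870 = N58213 := ded_13_2 (flp_a L772260) (flp_e L767978) L779401
theorem L779407 : sm gg N58870 = N58220 := ded_15_2 (flp_a L772299) (flp_g L767980) L779401
theorem L779409 : sm gi N58870 = N57729 := ded_18_2 (flp_a L768292) (flp_i L767982) L779401
theorem L779411 : sm gb N58870 = N57796 := ded_10_2 (flp_a L768963) (flp_b L757154) (flp_a L756142) L767974 L779401
theorem L779413 : sm gc N57700 = N58871 := rfl
theorem L779415 : sm ga N58871 = N57799 := ded_11_1 (flp_c L768998) (flp_a L767986) L779413
theorem L779417 : sm gf N58871 = N58871 := ded_29_2 (flp_c L779413) L767988 L779413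
theorem L779418 : sm gg N58871 = N57701 := ded_30_2 (flp_c L767994) (flp_g L767989) L779413
theorem L779420 : sm gh N58871 = N58871 := ded_32_2 (flp_c L779413) L767993 L779413
theorem L779421 : sm gi N58871 = N57733 := ded_33_2 (flp_c L768336) (flp_i L767991) L779413
theorem L779423 : sm gd N58871 = N57990 := ded_27_2 L770722 L761306 (flp_c L756156) L767984 L779413
theorem L779425 : sm ge N57700 = N58872 := rfl
theorem L779427 : sm ga N58872 = N57800 := ded_13_1 (flp_e L769008) (flp_a L767986) L779425
theorem L779429 : sm gg N58872 = N57702 := ded_41_2 (flp_e L768007) (flp_g L767989) L779425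
theorem L779431 : sm gh N58872 = N58872 := ded_43_2 (flp_e L779425) L767993 L779425
theorem L779432 : sm gi N58872 = N57734 := ded_44_2 (flp_e L768345) (flp_i L767991) L779425
theorem L779434 : sm ge N57701 = N58873 := rfl
theorem L779436 : sm ga N58873 = N57802 := ded_13_1 (flp_e L769028) (flp_a L767996) L779434
theorem L779438 : sm gc N58873 = N57702 := ded_28_1 (flp_e L768007) L767994 L779434
theorem L779440 : sm gj N58873 = N57703 := ded_42_2 (flp_e L768018) (flp_j L768000) L779434
theorem L779442 : sm gh N58873 = N58873 := ded_43_2 (flp_e L779434) L768002 L779434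
theorem L779443 : sm gi N58873 = N57735 := ded_44_2 (flp_e L768353) (flp_i L768003) L779434
theorem L779445 : sm gf N58873 = N57989 := ded_40_2 (flp_e L770707) L758962 (flp_e L756178) (flp_f L767998) L779434
theorem L779447 : sm gd N57703 = N58874 := rfl
theorem L779449 : sm ga N58874 = N57807 := ded_12_1 (flp_d L769087) (flp_a L768020) L779447
theorem L779451 : sm gf N58874 = N57982 := ded_35_2 L770661 (flp_f L768027) L779447
theorem L779453 : sm gi N58874 = N57737 := ded_39_2 (flp_d L768376) (flp_i L768025) L779447
theorem L779455 : sm ge N58874 = N57985 := ded_34_2 L770679 L758931 (flp_d L756197) L768018 L779447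
theorem L779457 : sm gd N57704 = N58875 := rfl
theorem L779459 : sm ga N58875 = N57811 := ded_12_1 (flp_d L769136) (flp_a L768031) L779457
theorem L779461 : sm gb N58875 = N57851 := ded_20_1 (flp_d L769467) (flp_b L768033) L779457
theorem L779463 : sm gf N58875 = N57705 := ded_35_2 (flp_d L768044) (flp_f L768038) L779457
theorem L779465 : sm gj N58875 = N58069 := ded_37_2 (flp_d L771362) (flp_j L768040) L779457
theorem L779467 : sm gi N58875 = N57841 := ded_39_2 (flp_d L769385) (flp_i L768042) L779457
theorem L779469 : sm gh N58875 = N58078 := ded_38_2 (flp_d L771415) (flp_h L759686) (flp_d L756216) L768029 L779457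
theorem L779471 : sm gc N57705 = N58876 := rfl
theorem L779473 : sm ga N58876 = N57812 := ded_11_1 (flp_c L769142) (flp_a L768046) L779471
theorem L779475 : sm ge N58876 = N58247 := ded_28_2 (flp_c L772444) (flp_e L768056) L779471
theorem L779477 : sm gg N58876 = N57712 := ded_30_2 (flp_c L768127) (flp_g L768050) L779471
theorem L779479 : sm gj N58876 = N58221 := ded_31_2 (flp_c L772305) (flp_j L768052) L779471
theorem L779481 : sm gi N58876 = N57842 := ded_33_2 (flp_c L769393) (flp_i L768054) L779471
theorem L779483 : sm gd N58876 = N57707 := ded_27_2 (flp_c L768066) (flp_d L756248) (flp_c L756229) L768044 L779471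
theorem L779485 : sm gc N57706 = N58877 := rfl
theorem L779487 : sm ga N58877 = N57816 := ded_11_1 (flp_c L769189) (flp_a L768060) L779485
theorem L779489 : sm gf N58877 = N57707 := ded_29_2 (flp_c L768066) (flp_f L768062) L779485
theorem L779491 : sm gj N58877 = N58222 := ded_31_2 (flp_c L772313) (flp_j L768064) L779485
theorem L779493 : sm ge N57706 = N58878 := rfl
theorem L779495 : sm ga N58878 = N57817 := ded_13_1 (flp_e L769195) (flp_a L768060) L779493
theorem L779497 : sm gj N58878 = N58223 := ded_42_2 (flp_e L772319) (flp_j L768064) L779493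
theorem L779499 : sm gd N58878 = N58878 := ded_34_1 (flp_e L779493) (flp_d L768058) L756243 L768058 L779493
theorem L779500 : sm gb N57707 = N58879 := rfl
theorem L779502 : sm gg N58879 = N57716 := ded_23_2 (flp_b L768161) (flp_g L768070) L779500
theorem L779504 : sm gj N58879 = N58224 := ded_24_2 (flp_b L772324) (flp_j L768072) L779500
theorem L779506 : sm gd N57708 = N58880 := rfl
theorem L779508 : sm ga N58880 = N57824 := ded_12_1 (flp_d L769258) (flp_a L768076) L779506
theorem L779510 : sm gb N58880 = N58264 := ded_20_1 (flp_d L772550) (flp_b L768078) L779506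
theorem L779512 : sm gf N58880 = N57709 := ded_35_2 (flp_d L768087) (flp_f L768081) L779506
theorem L779514 : sm gj N58880 = N57721 := ded_37_2 (flp_d L768218) (flp_j L768083) L779506
theorem L779516 : sm gi N58880 = N58257 := ded_39_2 (flp_d L772505) (flp_i L768085) L779506
theorem L779518 : sm gh N58880 = N57711 := ded_38_2 (flp_d L768115) (flp_h L756293) (flp_d L756262) L768074 L779506
theorem L779520 : sm gc N57709 = N58881 := rfl
theorem L779522 : sm ga N58881 = N57826 := ded_11_1 (flp_c L769280) (flp_a L768089) L779520
theorem L779524 : sm ge N58881 = N58252 := ded_28_2 (flp_c L772477) (flp_e L768097) L779520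
theorem L779526 : sm gj N58881 = N57723 := ded_31_2 (flp_c L768242) (flp_j L768093) L779520
theorem L779528 : sm gh N58881 = N57712 := ded_32_2 (flp_c L768127) (flp_h L768099) L779520
theorem L779530 : sm gi N58881 = N58258 := ded_33_2 (flp_c L772513) (flp_i L768095) L779520
theorem L779532 : sm gd N57710 = N58882 := rfl
theorem L779534 : sm ga N58882 = N57828 := ded_12_1 (flp_d L769300) (flp_a L768103) L779532
theorem L779536 : sm gb N58882 = N58309 := ded_20_1 (flp_d L772843) (flp_b L768105) L779532
theorem L779538 : sm gg N58882 = N57711 := ded_36_2 (flp_d L768115) (flp_g L768111) L779532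
theorem L779540 : sm gi N58882 = N58298 := ded_39_2 L772789 (flp_i L768113) L779532
theorem L779542 : sm gc N57711 = N58883 := rfl
theorem L779544 : sm ga N58883 = N57829 := ded_11_1 (flp_c L769304) (flp_a L768117) L779542
theorem L779546 : sm gf N58883 = N57712 := ded_29_2 (flp_c L768127) (flp_f L768121) L779542
theorem L779548 : sm gj N58883 = N57724 := ded_31_2 (flp_c L768252) (flp_j L768123) L779542
theorem L779550 : sm gi N58883 = N58297 := ded_33_2 L772779 (flp_i L768125) L779542
theorem L779552 : sm gd N58883 = N57714 := ded_27_2 (flp_c L768145) (flp_d L756329) (flp_c L756299) L768115 L779542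
theorem L779554 : sm ge N57711 = N58884 := rfl
theorem L779556 : sm ga N58884 = N57830 := ded_13_1 (flp_e L769312) (flp_a L768117) L779554
theorem L779558 : sm gb N58884 = N58313 := ded_21_1 (flp_e L772869) (flp_b L768119) L779554
theorem L779560 : sm gj N58884 = N57725 := ded_42_2 (flp_e L768262) (flp_j L768123) L779554
theorem L779562 : sm gi N58884 = N58294 := ded_44_2 L772759 (flp_i L768125) L779554
theorem L779564 : sm gd N58884 = N57732 := ded_34_1 (flp_e L768323) (flp_d L756476) (flp_e L756301) L768115 L779554
theorem L779566 : sm gf N58884 = N58007 := ded_40_2 (flp_e L770887) L759190 (flp_e L756319) (flp_f L768121) L779554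
theorem L779568 : sm gb N57712 = N58885 := rfl
theorem L779570 : sm gd N58885 = N57716 := ded_20_2 (flp_b L768161) (flp_d L768137) L779568
theorem L779572 : sm ge N58885 = N58253 := ded_21_2 (flp_b L772483) (flp_e L768131) L779568
theorem L779574 : sm gj N58885 = N57726 := ded_24_2 (flp_b L768272) (flp_j L768133) L779568
theorem L779576 : sm gi N58885 = N58296 := ded_26_2 L772769 (flp_i L768135) L779568
theorem L779578 : sm gc N58885 = N58316 := ded_19_2 (flp_b L772887) (flp_c L761210) (flp_b L756313) L768127 L779568
theorem L779580 : sm gc N57713 = N58886 := rfl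
theorem L779582 : sm ga N58886 = N57834 := ded_11_1 (flp_c L769342) (flp_a L768141) L779580
theorem L779584 : sm gg N58886 = N57714 := ded_30_2 (flp_c L768145) (flp_g L768143) L779580
theorem L779586 : sm ge N57713 = N58887 := rfl
theorem L779588 : sm ga N58887 = N57835 := ded_13_1 (flp_e L769346) (flp_a L768141) L779586
theorem L779590 : sm gg N58887 = N57715 := ded_41_2 (flp_e L768153) (flp_g L768143) L779586
theorem L779592 : sm gd N58887 = N57734 := ded_34_1 (flp_e L768345) (flp_d L756503) (flp_e L756325) L768139 L779586
theorem L779594 : sm gb N57714 = N58888 := rfl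
theorem L779596 : sm gf N58888 = N57716 := ded_22_2 (flp_b L768161) (flp_f L768149) L779594
theorem L779598 : sm gj N58888 = N57727 := ded_24_2 (flp_b L768282) (flp_j L768151) L779594
theorem L779600 : sm ge N57714 = N58889 := rfl
theorem L779602 : sm ga N58889 = N57837 := ded_13_1 (flp_e L769358) (flp_a L768147) L779600
theorem L779604 : sm gc N58889 = N57715 := ded_28_1 (flp_e L768153) L768145 L779600
theorem L779606 : sm gj N58889 = N57728 := ded_42_2 (flp_e L768286) (flp_j L768151) L779600
theorem L779608 : sm ga N57716 = N58890 := rfl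
theorem L779610 : sm gj N58890 = N57729 := ded_16_2 (flp_a L768292) (flp_j L768163) L779608
theorem L779612 : sm gb N58890 = N57838 := ded_10_2 (flp_a L769364) (flp_b L757590) (flp_a L756339) L768161 L779608
theorem L779614 : sm gd N57717 = N58891 := rfl
theorem L779616 : sm gb N58891 = N57828 := ded_20_1 (flp_d L769300) (flp_b L768167) L779614
theorem L779618 : sm gf N58891 = N58026 := ded_35_2 (flp_d L771058) (flp_f L768173) L779614
theorem L779620 : sm gg N58891 = N57820 := ded_36_2 (flp_d L769220) (flp_g L768175) L779614
theorem L779622 : sm gj N58891 = N58240 := ded_37_2 (flp_d L772410) (flp_j L768177) L779614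
theorem L779624 : sm gi N58891 = N58025 := ded_39_2 (flp_d L771050) (flp_i L768179) L779614
theorem L779626 : sm gh N58891 = N58070 := ded_38_2 (flp_d L771372) (flp_h L759659) (flp_d L756349) L768165 L779614
theorem L779628 : sm gc N57718 = N58892 := rfl
theorem L779630 : sm ge N58892 = N58258 := ded_28_2 (flp_c L772513) (flp_e L768191) L779628
theorem L779632 : sm gg N58892 = N58229 := ded_30_2 (flp_c L772348) (flp_g L768185) L779628
theorem L779634 : sm gj N58892 = N58267 := ded_31_2 (flp_c L772569) (flp_j L768187) L779628
theorem L779636 : sm gh N58892 = N57719 := ded_32_2 (flp_c L768195) (flp_h L768193) L779628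
theorem L779638 : sm gi N58892 = N58252 := ded_33_2 (flp_c L772477) (flp_i L768189) L779628
theorem L779640 : sm gb N57719 = N58893 := rfl
theorem L779642 : sm ge N58893 = N58261 := ded_21_2 (flp_b L772531) (flp_e L768197) L779640
theorem L779644 : sm gg N58893 = N58230 := ded_23_2 (flp_b L772352) (flp_g L768199) L779640
theorem L779646 : sm gj N58893 = N58316 := ded_24_2 (flp_b L772887) (flp_j L768201) L779640
theorem L779648 : sm gi N58893 = N58291 := ded_26_2 (flp_b L772725) (flp_i L768203) L779640
theorem L779650 : sm gc N58893 = N57726 := ded_19_2 (flp_b L768272) (flp_c L756435) (flp_b L756373) L768195 L779640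
theorem L779652 : sm gd N57720 = N58894 := rfl
theorem L779654 : sm ga N58894 = N57851 := ded_12_1 (flp_d L769467) (flp_a L768207) L779652
theorem L779656 : sm gb N58894 = N58005 := ded_20_1 (flp_d L770869) (flp_b L768209) L779652
theorem L779658 : sm gf N58894 = N57722 := ded_35_2 (flp_d L768226) (flp_f L768212) L779652
theorem L779660 : sm gj N58894 = N58257 := ded_37_2 (flp_d L772505) (flp_j L768214) L779652
theorem L779662 : sm gi N58894 = N57721 := ded_39_2 (flp_d L768218) (flp_i L768216) L779652
theorem L779664 : sm gh N58894 = N58002 := ded_38_2 (flp_d L770837) (flp_h L759154) (flp_d L756389) L768205 L779652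
theorem L779666 : sm gc N57721 = N58895 := rfl
theorem L779668 : sm ga N58895 = N57852 := ded_11_1 (flp_c L769473) (flp_a L768220) L779666
theorem L779670 : sm gf N58895 = N57723 := ded_29_2 (flp_c L768242) (flp_f L768222) L779666
theorem L779672 : sm gh N58895 = N57724 := ded_32_2 (flp_c L768252) (flp_h L768224) L779666
theorem L779674 : sm ge N57721 = N58896 := rfl
theorem L779676 : sm ga N58896 = N57853 := ded_13_1 (flp_e L769479) (flp_a L768220) L779674
theorem L779678 : sm gh N58896 = N57725 := ded_43_2 (flp_e L768262) (flp_h L768224) L779674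
theorem L779680 : sm gd N58896 = N58896 := ded_34_1 (flp_e L779674) (flp_d L768218) L756400 L768218 L779674
theorem L779681 : sm gf N58896 = N58266 := ded_40_2 (flp_e L772564) L760913 (flp_e L756423) (flp_f L768222) L779674
theorem L779683 : sm gc N57722 = N58897 := rfl
theorem L779685 : sm ga N58897 = N57854 := ded_11_1 (flp_c L769484) (flp_a L768228) L779683
theorem L779687 : sm ge N58897 = N58267 := ded_28_2 (flp_c L772569) (flp_e L768238) L779683
theorem L779689 : sm gg N58897 = N58231 := ded_30_2 (flp_c L772356) (flp_g L768232) L779683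
theorem L779691 : sm gj N58897 = N58258 := ded_31_2 (flp_c L772513) (flp_j L768234) L779683
theorem L779693 : sm gh N58897 = N58251 := ded_32_2 (flp_c L772469) (flp_h L768240) L779683
theorem L779695 : sm gi N58897 = N57723 := ded_33_2 (flp_c L768242) (flp_i L768236) L779683
theorem L779697 : sm gb N57723 = N58898 := rfl
theorem L779699 : sm ge N58898 = N58268 := ded_21_2 (flp_b L772575) (flp_e L768246) L779697
theorem L779701 : sm gg N58898 = N58232 := ded_23_2 (flp_b L772362) (flp_g L768248) L779697
theorem L779703 : sm gh N58898 = N57726 := ded_25_2 (flp_b L768272) (flp_h L768250) L779697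
theorem L779705 : sm gb N57724 = N58899 := rfl
theorem L779707 : sm gd N58899 = N57727 := ded_20_2 (flp_b L768282) (flp_d L768260) L779705
theorem L779709 : sm gf N58899 = N57726 := ded_22_2 (flp_b L768272) (flp_f L768256) L779705
theorem L779711 : sm gi N58899 = N58327 := ded_26_2 L772945 (flp_i L768258) L779705
theorem L779713 : sm ge N57724 = N58900 := rfl
theorem L779715 : sm ga N58900 = N57863 := ded_13_1 (flp_e L769556) (flp_a L768254) L779713
theorem L779717 : sm gc N58900 = N57725 := ded_28_1 (flp_e L768262) L768252 L779713
theorem L779719 : sm gi N58900 = N58325 := ded_44_2 L772937 (flp_i L768258) L779713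
theorem L779721 : sm gf N58900 = N58273 := ded_40_2 (flp_e L772609) L760945 (flp_e L756439) (flp_f L768256) L779713
theorem L779723 : sm ga N57726 = N58901 := rfl
theorem L779725 : sm gd N58901 = N57729 := ded_12_2 (flp_a L768292) (flp_d L768274) L779723
theorem L779727 : sm ge N58901 = N58274 := ded_13_2 (flp_a L772615) (flp_e L768276) L779723
theorem L779729 : sm gg N58901 = N58233 := ded_15_2 (flp_a L772366) (flp_g L768278) L779723
theorem L779731 : sm gi N58901 = N58326 := ded_18_2 L772941 (flp_i L768280) L779723
theorem L779733 : sm gb N58901 = N57865 := ded_10_2 (flp_a L769570) (flp_b L757758) (flp_a L756437) L768272 L779723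
theorem L779735 : sm ga N57727 = N58902 := rfl
theorem L779737 : sm gf N58902 = N57729 := ded_14_2 (flp_a L768292) (flp_f L768284) L779735
theorem L779739 : sm gb N58902 = N57872 := ded_10_2 (flp_a L769624) (flp_b L757802) (flp_a L756449) L768282 L779735
theorem L779741 : sm ge N57727 = N58903 := rfl
theorem L779743 : sm gb N58903 = N57728 := ded_21_1 (flp_e L768286) L768282 L779741
theorem L779745 : sm gd N57728 = N58904 := rfl
theorem L779747 : sm ga N58904 = N57874 := ded_12_1 (flp_d L769632) (flp_a L768288) L779745
theorem L779749 : sm gc N58904 = N57737 := ded_27_1 (flp_d L768376) L756554 (flp_d L756457) (flp_c L768290) L779745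
theorem L779751 : sm gc N57730 = N58905 := rfl
theorem L779753 : sm ga N58905 = N57877 := ded_11_1 (flp_c L769655) (flp_a L768300) L779751
theorem L779755 : sm gf N58905 = N58905 := ded_29_2 (flp_c L779751) L768304 L779751
theorem L779756 : sm gg N58905 = N57731 := ded_30_2 (flp_c L768310) (flp_g L768305) L779751
theorem L779758 : sm gh N58905 = N58905 := ded_32_2 (flp_c L779751) L768309 L779751
theorem L779759 : sm gi N58905 = N57990 := ded_33_2 L770722 (flp_i L768307) L779751
theorem L779761 : sm gd N58905 = N57733 := ded_27_2 (flp_c L768336) (flp_d L756503) (flp_c L756469) L768298 L779751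
theorem L779763 : sm ge N57730 = N58906 := rfl
theorem L779765 : sm ga N58906 = N57878 := ded_13_1 (flp_e L769665) (flp_a L768300) L779763
theorem L779767 : sm gb N58906 = N58335 := ded_21_1 (flp_e L772987) (flp_b L768302) L779763
theorem L779769 : sm gg N58906 = N57732 := ded_41_2 (flp_e L768323) (flp_g L768305) L779763
theorem L779771 : sm gh N58906 = N58906 := ded_43_2 (flp_e L779763) L768309 L779763
theorem L779772 : sm gi N58906 = N58331 := ded_44_2 L772969 (flp_i L768307) L779763
theorem L779774 : sm ge N57731 = N58907 := rfl
theorem L779776 : sm ga N58907 = N57879 := ded_13_1 (flp_e L769670) (flp_a L768312) L779774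
theorem L779778 : sm gc N58907 = N57732 := ded_28_1 (flp_e L768323) L768310 L779774
theorem L779780 : sm gj N58907 = N57736 := ded_42_2 (flp_e L768365) (flp_j L768316) L779774
theorem L779782 : sm gh N58907 = N58907 := ded_43_2 (flp_e L779774) L768318 L779774
theorem L779783 : sm gi N58907 = N57971 := ded_44_2 L770565 (flp_i L768319) L779774
theorem L779785 : sm gf N58907 = N57941 := ded_40_2 (flp_e L770276) L758525 (flp_e L756493) (flp_f L768314) L779774
theorem L779787 : sm ge N57733 = N58908 := rfl
theorem L779789 : sm ga N58908 = N57883 := ded_13_1 (flp_e L769711) (flp_a L768338) L779787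
theorem L779791 : sm gc N58908 = N57734 := ded_28_1 (flp_e L768345) L768336 L779787
theorem L779793 : sm gg N58908 = N57735 := ded_41_2 (flp_e L768353) (flp_g L768341) L779787
theorem L779795 : sm gh N58908 = N57738 := ded_43_2 (flp_e L768380) (flp_h L768343) L779787
theorem L779797 : sm gf N57734 = N58909 := rfl
theorem L779799 : sm ga N58909 = N57884 := ded_14_1 (flp_f L769719) (flp_a L768347) L779797
theorem L779801 : sm gh N58909 = N57739 := ded_47_2 (flp_f L768389) (flp_h L768351) L779797
theorem L779803 : sm ge N58909 = N58909 := ded_40_1 (flp_f L779797) (flp_e L768345) L756507 L768345 L779797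
theorem L779804 : sm gg N58909 = N58126 := ded_45_2 (flp_f L771735) (flp_g L765629) L765637 (flp_g L768349) L779797
theorem L779806 : sm gd N57735 = N58910 := rfl
theorem L779808 : sm ga N58910 = N57887 := ded_12_1 (flp_d L769746) (flp_a L768355) L779806
theorem L779810 : sm gf N58910 = N58217 := ded_35_2 L772287 (flp_f L768363) L779806
theorem L779812 : sm gj N58910 = N57737 := ded_37_2 (flp_d L768376) (flp_j L768359) L779806
theorem L779814 : sm gd N57736 = N58911 := rfl
theorem L779816 : sm ga N58911 = N57890 := ded_12_1 (flp_d L769764) (flp_a L768367) L779814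
theorem L779818 : sm gf N58911 = N57956 := ded_35_2 L770425 (flp_f L768374) L779814
theorem L779820 : sm gi N58911 = N57985 := ded_39_2 L770679 (flp_i L768372) L779814
theorem L779822 : sm ge N58911 = N57737 := ded_34_2 (flp_d L768376) (flp_e L756550) (flp_d L756539) L768365 L779814
theorem L779824 : sm gh N57737 = N58912 := rfl
theorem L779826 : sm ga N58912 = N57895 := ded_17_1 (flp_h L769812) (flp_a L768378) L779824
theorem L779828 : sm gd N58912 = N57740 := ded_38_1 (flp_h L768399) (flp_d L756585) (flp_h L756556) L768376 L779824
theorem L779830 : sm gf N57738 = N58913 := rfl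
theorem L779832 : sm ga N58913 = N57901 := ded_14_1 (flp_f L769868) (flp_a L768382) L779830
theorem L779834 : sm gb N58913 = N58095 := ded_22_1 (flp_f L774422) L774413 L779830
theorem L779836 : sm gc N58913 = N57739 := ded_29_1 (flp_f L768389) (flp_c L768384) L779830
theorem L779838 : sm gd N58913 = N57897 := ded_35_1 (flp_f L778514) L778523 L779830
theorem L779840 : sm gj N58913 = N57900 := ded_46_2 L774364 L774359 L779830
theorem L779842 : sm gi N58913 = N58913 := ded_48_2 (flp_f L779830) L768388 L779830
theorem L779843 : sm ge N58913 = N58913 := ded_40_1 (flp_f L779830) (flp_e L768380) L756562 L768380 L779830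
theorem L779844 : sm gg N58913 = N57905 := ded_45_2 L769912 L758220 (flp_f L756583) (flp_g L768386) L779830
theorem L779846 : sm gi N57740 = N58914 := rfl
theorem L779848 : sm ga N58914 = N57910 := ded_18_1 (flp_i L769956) (flp_a L768401) L779846
theorem L779850 : sm ge N58914 = N58914 := ded_44_1 (flp_i L779846) L768403 L779846
theorem L779851 : sm gh N58914 = N58914 := ded_54_1 (flp_i L779846) (flp_h L768399) L756589 L768399 L779846
theorem L779852 : sm gc N57742 = N58915 := rfl
theorem L779854 : sm ga N58915 = N58194 := ded_11_1 (flp_c L772139) (flp_a L768420) L779852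
theorem L779856 : sm gg N58915 = N57748 := ded_30_2 (flp_c L768486) (flp_g L768424) L779852
theorem L779858 : sm gj N58915 = N58032 := ded_31_2 (flp_c L771095) (flp_j L768426) L779852
theorem L779860 : sm gh N58915 = N57771 := ded_32_2 (flp_c L768703) (flp_h L768430) L779852
theorem L779862 : sm gi N58915 = N58086 := ded_33_2 (flp_c L771453) (flp_i L768428) L779852
theorem L779864 : sm gd N57743 = N58916 := rfl
theorem L779866 : sm ga N58916 = N57974 := ded_12_1 (flp_d L770587) (flp_a L768434) L779864
theorem L779868 : sm gb N58916 = N57745 := ded_20_1 (flp_d L768461) (flp_b L768436) L779864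
theorem L779870 : sm gf N58916 = N58263 := ded_35_2 (flp_d L772544) (flp_f L768440) L779864
theorem L779872 : sm gg N58916 = N57784 := ded_36_2 (flp_d L768849) (flp_g L768442) L779864
theorem L779874 : sm gj N58916 = N57753 := ded_37_2 (flp_d L768544) (flp_j L768444) L779864
theorem L779876 : sm gh N58916 = N57787 := ded_38_2 (flp_d L768885) (flp_h L757088) (flp_d L756639) L768432 L779864
theorem L779878 : sm gd N57744 = N58917 := rfl
theorem L779880 : sm ga N58917 = N58060 := ded_12_1 (flp_d L771302) (flp_a L768448) L779878
theorem L779882 : sm gb N58917 = N58263 := ded_20_1 (flp_d L772544) (flp_b L768450) L779878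
theorem L779884 : sm gf N58917 = N57745 := ded_35_2 (flp_d L768461) (flp_f L768455) L779878
theorem L779886 : sm gg N58917 = N58257 := ded_36_2 (flp_d L772505) (flp_g L768457) L779878
theorem L779888 : sm gj N58917 = N57760 := ded_37_2 (flp_d L768620) (flp_j L768459) L779878
theorem L779890 : sm gh N58917 = N58058 := ded_38_2 (flp_d L771284) (flp_h L759575) (flp_d L756668) L768446 L779878
theorem L779892 : sm gc N57745 = N58918 := rfl
theorem L779894 : sm ga N58918 = N58062 := ded_11_1 (flp_c L771316) (flp_a L768463) L779892
theorem L779896 : sm gj N58918 = N57761 := ded_31_2 (flp_c L768624) (flp_j L768465) L779892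
theorem L779898 : sm gh N58918 = N58059 := ded_32_2 (flp_c L771296) (flp_h L768467) L779892
theorem L779900 : sm gd N58918 = N57748 := ded_27_2 (flp_c L768486) (flp_d L756714) (flp_c L756681) L768461 L779892
theorem L779902 : sm gd N57746 = N58919 := rfl
theorem L779904 : sm gf N58919 = N58256 := ded_35_2 (flp_d L772503) (flp_f L768474) L779902
theorem L779906 : sm gg N58919 = N57747 := ded_36_2 (flp_d L768478) (flp_g L768476) L779902
theorem L779908 : sm gh N58919 = N57777 := ded_38_2 (flp_d L768783) (flp_h L756994) (flp_d L756700) L768469 L779902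
theorem L779910 : sm gc N57747 = N58920 := rfl
theorem L779912 : sm gf N58920 = N57748 := ded_29_2 (flp_c L768486) (flp_f L768480) L779910
theorem L779914 : sm gj N58920 = N57765 := ded_31_2 (flp_c L768653) (flp_j L768482) L779910
theorem L779916 : sm gh N58920 = N57778 := ded_32_2 (flp_c L768789) (flp_h L768484) L779910
theorem L779918 : sm ge N57747 = N58921 := rfl
theorem L779920 : sm gj N58921 = N57766 := ded_42_2 (flp_e L768659) (flp_j L768482) L779918
theorem L779922 : sm gh N58921 = N57779 := ded_43_2 (flp_e L768797) (flp_h L768484) L779918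
theorem L779924 : sm gd N58921 = N58921 := ded_34_1 (flp_e L779918) (flp_d L768478) L756709 L768478 L779918
theorem L779925 : sm gb N57748 = N58922 := rfl
theorem L779927 : sm gj N58922 = N57767 := ded_24_2 (flp_b L768664) (flp_j L768488) L779925
theorem L779929 : sm gh N58922 = N57780 := ded_25_2 (flp_b L768805) (flp_h L768490) L779925
theorem L779931 : sm gd N57749 = N58923 := rfl
theorem L779933 : sm ga N58923 = N57753 := ded_12_1 (flp_d L768544) (flp_a L768494) L779931
theorem L779935 : sm gb N58923 = N57967 := ded_20_1 (flp_d L770519) (flp_b L768496) L779931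
theorem L779937 : sm gg N58923 = N58234 := ded_36_2 (flp_d L772372) (flp_g L768500) L779931
theorem L779939 : sm gj N58923 = N57974 := ded_37_2 (flp_d L770587) (flp_j L768502) L779931
theorem L779941 : sm gh N58923 = N57964 := ded_38_2 (flp_d L770494) (flp_h L758767) (flp_d L756726) L768492 L779931
theorem L779943 : sm gc N57750 = N58924 := rfl
theorem L779945 : sm ga N58924 = N57754 := ded_11_1 (flp_c L768550) (flp_a L768506) L779943
theorem L779947 : sm gf N58924 = N58924 := ded_29_2 (flp_c L779943) L768510 L779943

end Cfsg.Agent.Helper28.FicA
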