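import Cfsg.Agent.Helper28.FicB44

/-! # The Fi₂₃ presentation, cosets of the subgroup generated by a, …, i: the coset enumeration, part 45 (helper28; generated) -/

set_option autoImplicit false

noncomputable section

namespace Cfsg.Agent.Helper28.FicA

open Cfsg.Agent.Helper28.CosetTable

theorem L779948 : sm gg N58924 = N57988 := ded_30_2 L770701 (flp_g L768511) L779943
theorem L779950 : sm gj N58924 = N57997 := ded_31_2 (flp_c L770798) (flp_j L768513) L779943
theorem L779952 : sm gh N58924 = N57914 := ded_32_2 (flp_c L769997) (flp_h L768515) L779943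
theorem L779954 : sm gb N58924 = N57990 := ded_19_1 L770722 L761304 (flp_c L759039) (flp_b L768508) L779943
theorem L779956 : sm ge N57750 = N58925 := rfl
theorem L779958 : sm ga N58925 = N57755 := ded_13_1 (flp_e L768557) (flp_a L768506) L779956
theorem L779960 : sm gb N58925 = N57994 := ded_21_1 (flp_e L770765) (flp_b L768508) L779956
theorem L779962 : sm gg N58925 = N58235 := ded_41_2 (flp_e L772380) (flp_g L768511) L779956
theorem L779964 : sm gj N58925 = N57998 := ded_42_2 (flp_e L770805) (flp_j L768513) L779956
theorem L779966 : sm gh N58925 = N57915 := ded_43_2 (flp_e L770010) (flp_h L768515) L779956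
theorem L779968 : sm gd N57751 = N58926 := rfl
theorem L779970 : sm ga N58926 = N57964 := ded_12_1 (flp_d L770494) (flp_a L768519) L779968
theorem L779972 : sm gb N58926 = N57758 := ded_20_1 (flp_d L768599) (flp_b L768521) L779968
theorem L779974 : sm gf N58926 = N58269 := ded_35_2 (flp_d L772579) (flp_f L768527) L779968
theorem L779976 : sm gg N58926 = N58236 := ded_36_2 (flp_d L772390) (flp_g L768529) L779968
theorem L779978 : sm gj N58926 = N57787 := ded_37_2 (flp_d L768885) (flp_j L768531) L779968
theorem L779980 : sm gi N58926 = N57859 := ded_39_2 (flp_d L769530) (flp_i L768533) L779968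
theorem L779982 : sm gh N58926 = N57753 := ded_38_2 (flp_d L768544) (flp_h L756774) (flp_d L756753) L768517 L779968
theorem L779984 : sm gd N57752 = N58927 := rfl
theorem L779986 : sm gb N58927 = N57760 := ded_20_1 (flp_d L768620) (flp_b L768537) L779984
theorem L779988 : sm gf N58927 = N57753 := ded_35_2 (flp_d L768544) (flp_f L768540) L779984
theorem L779990 : sm gj N58927 = N58263 := ded_37_2 (flp_d L772544) (flp_j L768542) L779984
theorem L779992 : sm gh N58927 = N58269 := ded_38_2 (flp_d L772579) (flp_h L760927) (flp_d L756767) L768535 L779984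
theorem L779994 : sm gc N57753 = N58928 := rfl
theorem L779996 : sm gg N58928 = N58237 := ded_30_2 (flp_c L772396) (flp_g L768548) L779994
theorem L779998 : sm ge N57753 = N58929 := rfl
theorem L780000 : sm gb N58929 = N57762 := ded_21_1 (flp_e L768630) (flp_b L768546) L779998
theorem L780002 : sm gg N58929 = N58238 := ded_41_2 (flp_e L772398) (flp_g L768548) L779998
theorem L780004 : sm gd N58929 = N57755 := ded_34_1 (flp_e L768557) (flp_d L756782) (flp_e L756778) L768544 L779998
theorem L780006 : sm ge N57754 = N58930 := rfl
theorem L780008 : sm gc N58930 = N57755 := ded_28_1 (flp_e L768557) L768550 L780006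
theorem L780010 : sm gg N58930 = N58239 := ded_41_2 (flp_e L772404) (flp_g L768553) L780006
theorem L780012 : sm gh N58930 = N57916 := ded_43_2 (flp_e L770023) (flp_h L768555) L780006
theorem L780014 : sm gf N57755 = N58931 := rfl
theorem L780016 : sm gb N58931 = N57763 := ded_22_1 (flp_f L768636) (flp_b L768559) L780014
theorem L780018 : sm gh N58931 = N57917 := ded_47_2 (flp_f L770030) (flp_h L768563) L780014
theorem L780020 : sm ge N58931 = N58931 := ded_40_1 (flp_f L780014) (flp_e L768557) L756786 L768557 L780014
theorem L780021 : sm gd N57756 = N58932 := rfl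
theorem L780023 : sm ga N58932 = N58042 := ded_12_1 (flp_d L771161) (flp_a L768567) L780021
theorem L780025 : sm gb N58932 = N58269 := ded_20_1 (flp_d L772579) (flp_b L768569) L780021
theorem L780027 : sm gf N58932 = N57758 := ded_35_2 (flp_d L768599) (flp_f L768575) L780021
theorem L780029 : sm gj N58932 = N58058 := ded_37_2 (flp_d L771284) (flp_j L768577) L780021
theorem L780031 : sm gi N58932 = N58234 := ded_39_2 (flp_d L772372) (flp_i L768579) L780021
theorem L780033 : sm gh N58932 = N57760 := ded_38_2 (flp_d L768620) (flp_h L756844) (flp_d L756799) L768565 L780021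
theorem L780035 : sm gd N57757 = N58933 := rfl
theorem L780037 : sm ga N58933 = N58014 := ded_12_1 (flp_d L770946) (flp_a L768583) L780035
theorem L780039 : sm gb N58933 = N57859 := ded_20_1 (flp_d L769530) (flp_b L768585) L780035
theorem L780041 : sm gf N58933 = N58234 := ded_35_2 (flp_d L772372) (flp_f L768591) L780035
theorem L780043 : sm gg N58933 = N58240 := ded_36_2 (flp_d L772410) (flp_g L768593) L780035
theorem L780045 : sm gj N58933 = N57843 := ded_37_2 (flp_d L769401) (flp_j L768595) L780035
theorem L780047 : sm gi N58933 = N57758 := ded_39_2 (flp_d L768599) (flp_i L768597) L780035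
theorem L780049 : sm gc N57758 = N58934 := rfl
theorem L780051 : sm ga N58934 = N58043 := ded_11_1 (flp_c L771171) (flp_a L768601) L780049
theorem L780053 : sm gg N58934 = N58241 := ded_30_2 (flp_c L772414) (flp_g L768603) L780049
theorem L780055 : sm gj N58934 = N58059 := ded_31_2 (flp_c L771296) (flp_j L768605) L780049
theorem L780057 : sm gh N58934 = N57761 := ded_32_2 (flp_c L768624) (flp_h L768607) L780049
theorem L780059 : sm gd N58934 = N57786 := ded_27_2 (flp_c L768873) (flp_d L757076) (flp_c L756827) L768599 L780049
theorem L780061 : sm gd N57759 = N58935 := rfl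
theorem L780063 : sm gf N58935 = N58010 := ded_35_2 (flp_d L770914) (flp_f L768614) L780061
theorem L780065 : sm gg N58935 = N57760 := ded_36_2 (flp_d L768620) (flp_g L768616) L780061
theorem L780067 : sm gi N58935 = N58035 := ded_39_2 (flp_d L771123) (flp_i L768618) L780061
theorem L780069 : sm gc N57760 = N58936 := rfl
theorem L780071 : sm gf N58936 = N57761 := ded_29_2 (flp_c L768624) (flp_f L768622) L780069
theorem L780073 : sm gd N58936 = N57765 := ded_27_2 (flp_c L768653) (flp_d L756872) (flp_c L756846) L768620 L780069
theorem L780075 : sm ge N57760 = N58937 := rfl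
theorem L780077 : sm gd N58937 = N58937 := ded_34_1 (flp_e L780075) (flp_d L768620) L756848 L768620 L780075
theorem L780078 : sm gb N57761 = N58938 := rfl
theorem L780080 : sm gd N58938 = N57767 := ded_20_2 (flp_b L768664) (flp_d L768628) L780078
theorem L780082 : sm gg N58938 = N58243 := ded_23_2 (flp_b L772426) (flp_g L768626) L780078
theorem L780084 : sm ge N57761 = N58939 := rfl
theorem L780086 : sm gc N58939 = N57762 := ded_28_1 (flp_e L768630) L768624 L780084
theorem L780088 : sm gg N58939 = N58244 := ded_41_2 (flp_e L772430) (flp_g L768626) L780084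
theorem L780090 : sm gf N57762 = N58940 := rfl
theorem L780092 : sm gd N58940 = N57763 := ded_35_1 (flp_f L768636) (flp_d L768634) L780090
theorem L780094 : sm gg N57763 = N58941 := rfl
theorem L780096 : sm gc N58941 = N57884 := ded_30_1 (flp_g L778767) L778762 L780094
theorem L780098 : sm ge N58941 = N58941 := ded_41_1 (flp_g L780094) L768640 L780094
theorem L780099 : sm gh N58941 = N57901 := ded_50_2 L769874 (flp_h L768638) L780094
theorem L780101 : sm gf N58941 = N57883 := ded_45_1 L769715 L757896 (flp_g L756857) L768636 L780094
theorem L780103 : sm gc N57764 = N58942 := rfl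
theorem L780105 : sm gf N58942 = N58012 := ded_29_2 (flp_c L770929) (flp_f L768645) L780103
theorem L780107 : sm gg N58942 = N57765 := ded_30_2 (flp_c L768653) (flp_g L768647) L780103
theorem L780109 : sm gh N58942 = N57792 := ded_32_2 (flp_c L768935) (flp_h L768651) L780103
theorem L780111 : sm gi N58942 = N58039 := ded_33_2 (flp_c L771146) (flp_i L768649) L780103
theorem L780113 : sm ge N57764 = N58943 := rfl
theorem L780115 : sm gb N58943 = N58249 := ded_21_1 (flp_e L772458) (flp_b L768643) L780113
theorem L780117 : sm gg N58943 = N57766 := ded_41_2 (flp_e L768659) (flp_g L768647) L780113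
theorem L780119 : sm gh N58943 = N57793 := ded_43_2 (flp_e L768943) (flp_h L768651) L780113
theorem L780121 : sm gi N58943 = N58040 := ded_44_2 (flp_e L771150) (flp_i L768649) L780113
theorem L780123 : sm gd N58943 = N58943 := ded_34_1 (flp_e L780113) (flp_d L768641) L756865 L768641 L780113
theorem L780124 : sm gb N57765 = N58944 := rfl
theorem L780126 : sm gf N58944 = N57767 := ded_22_2 (flp_b L768664) (flp_f L768655) L780124
theorem L780128 : sm gh N58944 = N57794 := ded_25_2 (flp_b L768951) (flp_h L768657) L780124
theorem L780130 : sm ge N57765 = N58945 := rfl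
theorem L780132 : sm gc N58945 = N57766 := ded_28_1 (flp_e L768659) L768653 L780130
theorem L780134 : sm gh N58945 = N57795 := ded_43_2 (flp_e L768957) (flp_h L768657) L780130
theorem L780136 : sm ga N57767 = N58946 := rfl
theorem L780138 : sm gg N58946 = N58245 := ded_15_2 (flp_a L772434) (flp_g L768666) L780136
theorem L780140 : sm gh N58946 = N57796 := ded_17_2 (flp_a L768963) (flp_h L768668) L780136
theorem L780142 : sm gc N57768 = N58947 := rfl
theorem L780144 : sm ga N58947 = N57842 := ded_11_1 (flp_c L769393) (flp_a L768672) L780142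
theorem L780146 : sm ge N58947 = N58221 := ded_28_2 (flp_c L772305) (flp_e L768680) L780142
theorem L780148 : sm gg N58947 = N57775 := ded_30_2 (flp_c L768755) (flp_g L768674) L780142
theorem L780150 : sm gj N58947 = N58247 := ded_31_2 (flp_c L772444) (flp_j L768676) L780142
theorem L780152 : sm gh N58947 = N57839 := ded_32_2 (flp_c L769368) (flp_h L768682) L780142
theorem L780154 : sm gi N58947 = N57812 := ded_33_2 (flp_c L769142) (flp_i L768678) L780142
theorem L780156 : sm gd N58947 = N57771 := ded_27_2 (flp_c L768703) (flp_d L756918) (flp_c L756888) L768670 L780142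
theorem L780158 : sm gd N57769 = N58948 := rfl
theorem L780160 : sm gf N58948 = N57777 := ded_35_2 (flp_d L768783) (flp_f L768689) L780158
theorem L780162 : sm gg N58948 = N57770 := ded_36_2 (flp_d L768695) (flp_g L768691) L780158
theorem L780164 : sm gi N58948 = N57815 := ded_39_2 (flp_d L769183) (flp_i L768693) L780158
theorem L780166 : sm gh N58948 = N58256 := ded_38_2 (flp_d L772503) (flp_h L760861) (flp_d L756902) L768684 L780158
theorem L780168 : sm gc N57770 = N58949 := rfl
theorem L780170 : sm gf N58949 = N57771 := ded_29_2 (flp_c L768703) (flp_f L768697) L780168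
theorem L780172 : sm gj N58949 = N58248 := ded_31_2 (flp_c L772452) (flp_j L768699) L780168
theorem L780174 : sm gi N58949 = N57816 := ded_33_2 (flp_c L769189) (flp_i L768701) L780168
theorem L780176 : sm ge N57770 = N58950 := rfl
theorem L780178 : sm gj N58950 = N58249 := ded_42_2 (flp_e L772458) (flp_j L768699) L780176
theorem L780180 : sm gi N58950 = N57817 := ded_44_2 (flp_e L769195) (flp_i L768701) L780176
theorem L780182 : sm gd N58950 = N58950 := ded_34_1 (flp_e L780176) (flp_d L768695) L756911 L768695 L780176
theorem L780183 : sm gb N57771 = N58951 := rfl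
theorem L780185 : sm gg N58951 = N57780 := ded_23_2 (flp_b L768805) (flp_g L768705) L780183
theorem L780187 : sm gj N58951 = N58250 := ded_24_2 (flp_b L772463) (flp_j L768707) L780183
theorem L780189 : sm gi N58951 = N57818 := ded_26_2 (flp_b L769200) (flp_i L768709) L780183
theorem L780191 : sm gc N57772 = N58952 := rfl
theorem L780193 : sm ga N58952 = N58229 := ded_11_1 (flp_c L772348) (flp_a L768713) L780191
theorem L780195 : sm ge N58952 = N58225 := ded_28_2 (flp_c L772328) (flp_e L768721) L780191
theorem L780197 : sm gj N58952 = N57782 := ded_31_2 (flp_c L768825) (flp_j L768717) L780191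
theorem L780199 : sm gh N58952 = N58228 := ded_32_2 (flp_c L772344) (flp_h L768723) L780191
theorem L780201 : sm gi N58952 = N57821 := ded_33_2 (flp_c L769228) (flp_i L768719) L780191
theorem L780203 : sm gd N57773 = N58953 := rfl
theorem L780205 : sm ga N58953 = N58298 := ded_12_1 L772789 (flp_a L768727) L780203
theorem L780207 : sm gb N58953 = N58025 := ded_20_1 (flp_d L771050) (flp_b L768729) L780203
theorem L780209 : sm gf N58953 = N58021 := ded_35_2 (flp_d L771016) (flp_f L768735) L780203
theorem L780211 : sm gg N58953 = N57774 := ded_36_2 (flp_d L768743) (flp_g L768737) L780203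
theorem L780213 : sm gj N58953 = N58236 := ded_37_2 (flp_d L772390) (flp_j L768739) L780203
theorem L780215 : sm gi N58953 = N57828 := ded_39_2 (flp_d L769300) (flp_i L768741) L780203
theorem L780217 : sm gh N58953 = N58022 := ded_38_2 (flp_d L771022) (flp_h L759340) (flp_d L756946) L768725 L780203
theorem L780219 : sm gc N57774 = N58954 := rfl
theorem L780221 : sm ga N58954 = N58297 := ded_11_1 L772779 (flp_a L768745) L780219
theorem L780223 : sm gf N58954 = N57775 := ded_29_2 (flp_c L768755) (flp_f L768747) L780219
theorem L780225 : sm gj N58954 = N57788 := ded_31_2 (flp_c L768897) (flp_j L768749) L780219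
theorem L780227 : sm gh N58954 = N58302 := ded_32_2 (flp_c L772809) (flp_h L768753) L780219
theorem L780229 : sm gi N58954 = N57829 := ded_33_2 (flp_c L769304) (flp_i L768751) L780219
theorem L780231 : sm gd N58954 = N57778 := ded_27_2 (flp_c L768789) (flp_d L757002) (flp_c L756960) L768743 L780219
theorem L780233 : sm gb N57775 = N58955 := rfl
theorem L780235 : sm gd N58955 = N57780 := ded_20_2 (flp_b L768805) (flp_d L768767) L780233
theorem L780237 : sm ge N58955 = N58226 := ded_21_2 (flp_b L772332) (flp_e L768759) L780233
theorem L780239 : sm gj N58955 = N57790 := ded_24_2 (flp_b L768917) (flp_j L768761) L780233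
theorem L780241 : sm gh N58955 = N58303 := ded_25_2 (flp_b L772815) (flp_h L768763) L780233
theorem L780243 : sm gi N58955 = N57831 := ded_26_2 (flp_b L769318) (flp_i L768765) L780233
theorem L780245 : sm gd N57776 = N58956 := rfl
theorem L780247 : sm gb N58956 = N58256 := ded_20_1 (flp_d L772503) (flp_b L768771) L780245
theorem L780249 : sm gg N58956 = N57791 := ded_36_2 (flp_d L768927) (flp_g L768777) L780245
theorem L780251 : sm gj N58956 = N57777 := ded_37_2 (flp_d L768783) (flp_j L768779) L780245
theorem L780253 : sm gi N58956 = N57833 := ded_39_2 (flp_d L769336) (flp_i L768781) L780245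
theorem L780255 : sm gc N57777 = N58957 := rfl
theorem L780257 : sm gg N58957 = N57778 := ded_30_2 (flp_c L768789) (flp_g L768785) L780255
theorem L780259 : sm gi N58957 = N57834 := ded_33_2 (flp_c L769342) (flp_i L768787) L780255
theorem L780261 : sm ge N57777 = N58958 := rfl
theorem L780263 : sm gg N58958 = N57779 := ded_41_2 (flp_e L768797) (flp_g L768785) L780261
theorem L780265 : sm gi N58958 = N57835 := ded_44_2 (flp_e L769346) (flp_i L768787) L780261
theorem L780267 : sm gd N58958 = N57800 := ded_34_1 (flp_e L769008) (flp_d L757202) (flp_e L756996) L768783 L780261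
theorem L780269 : sm gb N57778 = N58959 := rfl
theorem L780271 : sm gf N58959 = N57780 := ded_22_2 (flp_b L768805) (flp_f L768791) L780269
theorem L780273 : sm gj N58959 = N57794 := ded_24_2 (flp_b L768951) (flp_j L768793) L780269
theorem L780275 : sm gi N58959 = N57836 := ded_26_2 (flp_b L769352) (flp_i L768795) L780269
theorem L780277 : sm ge N57778 = N58960 := rfl
theorem L780279 : sm gc N58960 = N57779 := ded_28_1 (flp_e L768797) L768789 L780277
theorem L780281 : sm gj N58960 = N57795 := ded_42_2 (flp_e L768957) (flp_j L768793) L780277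
theorem L780283 : sm gi N58960 = N57837 := ded_44_2 (flp_e L769358) (flp_i L768795) L780277
theorem L780285 : sm ga N57780 = N58961 := rfl
theorem L780287 : sm gj N58961 = N57796 := ded_16_2 (flp_a L768963) (flp_j L768807) L780285
theorem L780289 : sm gi N58961 = N57838 := ded_18_2 (flp_a L769364) (flp_i L768809) L780285
theorem L780291 : sm gc N57781 = N58962 := rfl
theorem L780293 : sm ga N58962 = N58225 := ded_11_1 (flp_c L772328) (flp_a L768813) L780291
theorem L780295 : sm ge N58962 = N58229 := ded_28_2 (flp_c L772348) (flp_e L768821) L780291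
theorem L780297 : sm gg N58962 = N58258 := ded_30_2 (flp_c L772513) (flp_g L768817) L780291
theorem L780299 : sm gj N58962 = N58228 := ded_31_2 (flp_c L772344) (flp_j L768819) L780291
theorem L780301 : sm gh N58962 = N57782 := ded_32_2 (flp_c L768825) (flp_h L768823) L780291
theorem L780303 : sm gb N57782 = N58963 := rfl
theorem L780305 : sm ge N58963 = N58230 := ded_21_2 (flp_b L772352) (flp_e L768827) L780303
theorem L780307 : sm gg N58963 = N58261 := ded_23_2 (flp_b L772531) (flp_g L768829) L780303
theorem L780309 : sm gi N58963 = N57846 := ded_26_2 (flp_b L769423) (flp_i L768831) L780303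
theorem L780311 : sm gc N58963 = N57790 := ded_19_2 (flp_b L768917) (flp_c L757112) (flp_b L757030) L768825 L780303
theorem L780313 : sm gd N57783 = N58964 := rfl
theorem L780315 : sm ga N58964 = N58002 := ded_12_1 (flp_d L770837) (flp_a L768835) L780313
theorem L780317 : sm gb N58964 = N58078 := ded_20_1 (flp_d L771415) (flp_b L768837) L780313
theorem L780319 : sm gf N58964 = N57785 := ded_35_2 (flp_d L768859) (flp_f L768843) L780313
theorem L780321 : sm gj N58964 = N58064 := ded_37_2 (flp_d L771328) (flp_j L768845) L780313
theorem L780323 : sm gi N58964 = N57784 := ded_39_2 (flp_d L768849) (flp_i L768847) L780313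
theorem L780325 : sm gh N58964 = N57851 := ded_38_2 (flp_d L769467) (flp_h L757695) (flp_d L757046) L768833 L780313
theorem L780327 : sm gc N57784 = N58965 := rfl
theorem L780329 : sm ga N58965 = N58288 := ded_11_1 (flp_c L772695) (flp_a L768851) L780327
theorem L780331 : sm gf N58965 = N57786 := ded_29_2 (flp_c L768873) (flp_f L768853) L780327
theorem L780333 : sm gj N58965 = N58302 := ded_31_2 (flp_c L772809) (flp_j L768855) L780327
theorem L780335 : sm gh N58965 = N57788 := ded_32_2 (flp_c L768897) (flp_h L768857) L780327
theorem L780337 : sm gc N57785 = N58966 := rfl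
theorem L780339 : sm ga N58966 = N58251 := ded_11_1 (flp_c L772469) (flp_a L768861) L780337
theorem L780341 : sm ge N58966 = N58231 := ded_28_2 (flp_c L772356) (flp_e L768869) L780337
theorem L780343 : sm gg N58966 = N58267 := ded_30_2 (flp_c L772569) (flp_g L768863) L780337
theorem L780345 : sm gj N58966 = N58255 := ded_31_2 (flp_c L772497) (flp_j L768865) L780337
theorem L780347 : sm gh N58966 = N57854 := ded_32_2 (flp_c L769484) (flp_h L768871) L780337
theorem L780349 : sm gi N58966 = N57786 := ded_33_2 (flp_c L768873) (flp_i L768867) L780337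
theorem L780351 : sm gb N57786 = N58967 := rfl
theorem L780353 : sm ge N58967 = N58232 := ded_21_2 (flp_b L772362) (flp_e L768877) L780351
theorem L780355 : sm gg N58967 = N58268 := ded_23_2 (flp_b L772575) (flp_g L768879) L780351
theorem L780357 : sm gj N58967 = N58303 := ded_24_2 (flp_b L772815) (flp_j L768881) L780351
theorem L780359 : sm gh N58967 = N57790 := ded_25_2 (flp_b L768917) (flp_h L768883) L780351
theorem L780361 : sm gc N57787 = N58968 := rfl
theorem L780363 : sm ga N58968 = N57975 := ded_11_1 (flp_c L770595) (flp_a L768887) L780361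
theorem L780365 : sm gf N58968 = N58270 := ded_29_2 (flp_c L772585) (flp_f L768891) L780361
theorem L780367 : sm gg N58968 = N57788 := ded_30_2 (flp_c L768897) (flp_g L768893) L780361
theorem L780369 : sm gi N58968 = N57860 := ded_33_2 (flp_c L769536) (flp_i L768895) L780361
theorem L780371 : sm gd N58968 = N57792 := ded_27_2 (flp_c L768935) (flp_d L757134) (flp_c L757094) L768885 L780361
theorem L780373 : sm gb N57788 = N58969 := rfl
theorem L780375 : sm gd N58969 = N57794 := ded_20_2 (flp_b L768951) (flp_d L768905) L780373
theorem L780377 : sm gf N58969 = N57790 := ded_22_2 (flp_b L768917) (flp_f L768901) L780373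
theorem L780379 : sm gi N58969 = N57862 := ded_26_2 (flp_b L769550) (flp_i L768903) L780373
theorem L780381 : sm ge N57788 = N58970 := rfl
theorem L780383 : sm ga N58970 = N58325 := ded_13_1 L772937 (flp_a L768899) L780381
theorem L780385 : sm gc N58970 = N57789 := ded_28_1 (flp_e L768907) L768897 L780381
theorem L780387 : sm gi N58970 = N57863 := ded_44_2 (flp_e L769556) (flp_i L768903) L780381
theorem L780389 : sm gf N58970 = N57950 := ded_40_2 (flp_e L770365) L758618 (flp_e L757116) (flp_f L768901) L780381
theorem L780391 : sm gd N58085 = N58970 := ded_27_0 L780385 L768913 L757262 (flp_d L759718) (flp_c L771451)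
theorem L780393 : sm ga N57790 = N58971 := rfl
theorem L780395 : sm gd N58971 = N57796 := ded_12_2 (flp_a L768963) (flp_d L768919) L780393
theorem L780397 : sm ge N58971 = N58233 := ded_13_2 (flp_a L772366) (flp_e L768921) L780393
theorem L780399 : sm gg N58971 = N58274 := ded_15_2 (flp_a L772615) (flp_g L768923) L780393
theorem L780401 : sm gi N58971 = N57865 := ded_18_2 (flp_a L769570) (flp_i L768925) L780393
theorem L780403 : sm gb N58971 = N58326 := ded_10_2 L772941 L761256 (flp_a L757114) L768917 L780393
theorem L780405 : sm gc N57791 = N58972 := rfl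
theorem L780407 : sm gf N58972 = N58275 := ded_29_2 (flp_c L772621) (flp_f L768929) L780405
theorem L780409 : sm gj N58972 = N57792 := ded_31_2 (flp_c L768935) (flp_j L768931) L780405
theorem L780411 : sm gi N58972 = N57868 := ded_33_2 (flp_c L769596) (flp_i L768933) L780405
theorem L780413 : sm ge N57791 = N58973 := rfl
theorem L780415 : sm gj N58973 = N57793 := ded_42_2 (flp_e L768943) (flp_j L768931) L780413
theorem L780417 : sm gi N58973 = N57869 := ded_44_2 (flp_e L769602) (flp_i L768933) L780413
theorem L780419 : sm gd N58973 = N57804 := ded_34_1 (flp_e L769052) (flp_d L757270) (flp_e L757126) L768927 L780413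
theorem L780421 : sm gf N58973 = N58166 := ded_40_2 (flp_e L771968) (flp_f L763262) L763268 (flp_f L768929) L780413
theorem L780423 : sm gb N57792 = N58974 := rfl
theorem L780425 : sm gf N58974 = N58276 := ded_22_2 (flp_b L772627) (flp_f L768937) L780423
theorem L780427 : sm gg N58974 = N57794 := ded_23_2 (flp_b L768951) (flp_g L768939) L780423
theorem L780429 : sm gi N58974 = N57870 := ded_26_2 (flp_b L769612) (flp_i L768941) L780423
theorem L780431 : sm ge N57792 = N58975 := rfl
theorem L780433 : sm gc N58975 = N57793 := ded_28_1 (flp_e L768943) L768935 L780431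
theorem L780435 : sm gg N58975 = N57795 := ded_41_2 (flp_e L768957) (flp_g L768939) L780431
theorem L780437 : sm gi N58975 = N57871 := ded_44_2 (flp_e L769618) (flp_i L768941) L780431
theorem L780439 : sm ga N57794 = N58976 := rfl
theorem L780441 : sm gf N58976 = N57796 := ded_14_2 (flp_a L768963) (flp_f L768953) L780439
theorem L780443 : sm gi N58976 = N57872 := ded_18_2 (flp_a L769624) (flp_i L768955) L780439
theorem L780445 : sm ge N57794 = N58977 := rfl
theorem L780447 : sm gb N58977 = N57795 := ded_21_1 (flp_e L768957) L768951 L780445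
theorem L780449 : sm gi N58977 = N57873 := ded_44_2 (flp_e L769628) (flp_i L768955) L780445
theorem L780451 : sm gd N57795 = N58978 := rfl
theorem L780453 : sm gf N58978 = N58082 := ded_35_2 (flp_d L778872) L778874 L780451
theorem L780455 : sm gi N58978 = N57874 := ded_39_2 (flp_d L769632) (flp_i L768961) L780451
theorem L780457 : sm gc N58978 = N57807 := ded_27_1 (flp_d L769087) L757314 (flp_d L757152) (flp_c L768959) L780451
theorem L780459 : sm ge N58978 = N58085 := ded_34_2 L780391 (flp_e L780381) L768905 L768957 L780451
theorem L780461 : sm gc N57798 = N58979 := rfl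
theorem L780463 : sm gf N58979 = N58979 := ded_29_2 (flp_c L780461) L768990 L780461
theorem L780464 : sm gg N58979 = N57803 := ded_30_2 (flp_c L769039) (flp_g L768991) L780461
theorem L780466 : sm gj N58979 = N57799 := ded_31_2 (flp_c L768998) (flp_j L768993) L780461
theorem L780468 : sm gh N58979 = N58979 := ded_32_2 (flp_c L780461) L768997 L780461
theorem L780469 : sm gi N58979 = N57880 := ded_33_2 (flp_c L769681) (flp_i L768995) L780461
theorem L780471 : sm gb N58979 = N57877 := ded_19_1 (flp_c L769655) (flp_b L768406) L768415 (flp_b L768988) L780461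
theorem L780473 : sm gd N58979 = N57882 := ded_27_2 L769709 (flp_d L761351) (flp_c L757193) L768986 L780461
theorem L780475 : sm ge N57798 = N58980 := rfl
theorem L780477 : sm gb N58980 = N58334 := ded_21_1 (flp_e L772984) (flp_b L768988) L780475
theorem L780479 : sm gg N58980 = N57804 := ded_41_2 (flp_e L769052) (flp_g L768991) L780475
theorem L780481 : sm gj N58980 = N57800 := ded_42_2 (flp_e L769008) (flp_j L768993) L780475
theorem L780483 : sm gh N58980 = N58980 := ded_43_2 (flp_e L780475) L768997 L780475
theorem L780484 : sm gi N58980 = N57881 := ded_44_2 (flp_e L769692) (flp_i L768995) L780475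
theorem L780486 : sm gb N57799 = N58981 := rfl
theorem L780488 : sm gd N58981 = N57880 := ded_20_2 L769690 (flp_d L769006) L780486
theorem L780490 : sm gf N58981 = N58981 := ded_22_2 (flp_b L780486) L769000 L780486
theorem L780491 : sm gg N58981 = N57801 := ded_23_2 (flp_b L769015) (flp_g L769001) L780486
theorem L780493 : sm gj N58981 = N57877 := ded_24_2 (flp_b L780471) L780466 L780486
theorem L780495 : sm gh N58981 = N58981 := ded_25_2 (flp_b L780486) L769003 L780486
theorem L780496 : sm gi N58981 = N57882 := ded_26_2 (flp_b L769700) (flp_i L769004) L780486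
theorem L780498 : sm gc N58981 = N57876 := ded_19_2 L769645 (flp_c L764139) L764130 L768998 L780486
theorem L780500 : sm ge N57799 = N58982 := rfl
theorem L780502 : sm gc N58982 = N57800 := ded_28_1 (flp_e L769008) L768998 L780500
theorem L780504 : sm gg N58982 = N57802 := ded_41_2 (flp_e L769028) (flp_g L769001) L780500
theorem L780506 : sm gh N58982 = N58982 := ded_43_2 (flp_e L780500) L769003 L780500
theorem L780507 : sm gi N58982 = N57883 := ded_44_2 (flp_e L769711) (flp_i L769004) L780500
theorem L780509 : sm gf N57800 = N58983 := rfl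
theorem L780511 : sm gh N58983 = N58983 := ded_47_2 (flp_f L780509) L769012 L780509
theorem L780512 : sm gi N58983 = N57884 := ded_48_2 (flp_f L769719) (flp_i L769013) L780509
theorem L780514 : sm ge N58983 = N58983 := ded_40_1 (flp_f L780509) (flp_e L769008) L757204 L769008 L780509
theorem L780515 : sm ge N57801 = N58984 := rfl
theorem L780517 : sm gb N58984 = N57802 := ded_21_1 (flp_e L769028) L769015 L780515
theorem L780519 : sm gc N58984 = N57888 := ded_28_1 (flp_e L769752) (flp_c L769026) L780515
theorem L780521 : sm gj N58984 = N57806 := ded_42_2 (flp_e L769074) (flp_j L769021) L780515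
theorem L780523 : sm gh N58984 = N58984 := ded_43_2 (flp_e L780515) L769023 L780515
theorem L780524 : sm gi N58984 = N57886 := ded_44_2 (flp_e L769736) (flp_i L769024) L780515
theorem L780526 : sm gf N58984 = N58090 := ded_40_2 (flp_e L771482) L759770 (flp_e L757232) (flp_f L769019) L780515
theorem L780528 : sm gd N57802 = N58985 := rfl
theorem L780530 : sm gf N58985 = N58051 := ded_35_2 L771240 (flp_f L769037) L780528
theorem L780532 : sm gj N58985 = N57807 := ded_37_2 (flp_d L769087) (flp_j L769032) L780528
theorem L780534 : sm gi N58985 = N57887 := ded_39_2 (flp_d L769746) (flp_i L769035) L780528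
theorem L780536 : sm ge N58985 = N58054 := ded_34_2 L771256 L759557 (flp_d L757219) L769028 L780528
theorem L780538 : sm ge N57803 = N58986 := rfl
theorem L780540 : sm gb N58986 = N57879 := ded_21_1 (flp_e L769670) (flp_b L769048) L780538
theorem L780542 : sm gc N58986 = N57804 := ded_28_1 (flp_e L769052) L769039 L780538
theorem L780544 : sm gj N58986 = N57805 := ded_42_2 (flp_e L769061) (flp_j L769043) L780538
theorem L780546 : sm gh N58986 = N58986 := ded_43_2 (flp_e L780538) L769045 L780538
theorem L780547 : sm gi N58986 = N57891 := ded_44_2 (flp_e L769772) (flp_i L769046) L780538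
theorem L780549 : sm gf N58986 = N58015 := ded_40_2 (flp_e L770956) L759281 (flp_e L757323) (flp_f L769041) L780538
theorem L780551 : sm gd N57805 = N58987 := rfl
theorem L780553 : sm gb N58987 = N57890 := ded_20_1 (flp_d L769764) (flp_b L769063) L780551
theorem L780555 : sm gf N58987 = N58024 := ded_35_2 L771048 (flp_f L769072) L780551
theorem L780557 : sm gg N58987 = N57807 := ded_36_2 (flp_d L769087) (flp_g L769067) L780551
theorem L780559 : sm gi N58987 = N57892 := ded_39_2 (flp_d L769784) (flp_i L769070) L780551
theorem L780561 : sm ge N58987 = N57894 := ded_34_2 (flp_d L769806) (flp_e L758006) (flp_d L757290) L769061 L780551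
theorem L780563 : sm gd N57806 = N58988 := rfl
theorem L780565 : sm gb N58988 = N57807 := ded_20_1 (flp_d L769087) (flp_b L769076) L780563
theorem L780567 : sm gf N58988 = N58066 := ded_35_2 L771350 (flp_f L769085) L780563
theorem L780569 : sm gg N58988 = N57890 := ded_36_2 (flp_d L769764) (flp_g L769080) L780563
theorem L780571 : sm gi N58988 = N57894 := ded_39_2 (flp_d L769806) (flp_i L769083) L780563
theorem L780573 : sm ge N58988 = N57892 := ded_34_2 (flp_d L769784) (flp_e L757982) (flp_d L757301) L769074 L780563
theorem L780575 : sm gh N57807 = N58989 := rfl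
theorem L780577 : sm ge N58989 = N58077 := ded_43_1 L771413 (flp_e L769093) L780575
theorem L780579 : sm gf N58989 = N58072 := ded_47_1 L771386 (flp_f L769089) L780575
theorem L780581 : sm gd N58989 = N58989 := ded_38_1 (flp_h L780575) (flp_d L769087) L757316 L769087 L780575
theorem L780582 : sm gc N57808 = N58990 := rfl
theorem L780584 : sm ga N58990 = N58252 := ded_11_1 (flp_c L772477) (flp_a L769097) L780582
theorem L780586 : sm ge N58990 = N57826 := ded_28_2 (flp_c L769280) (flp_e L769105) L780582
theorem L780588 : sm gg N58990 = N57821 := ded_30_2 (flp_c L769228) (flp_g L769101) L780582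
theorem L780590 : sm gj N58990 = N57857 := ded_31_2 L769514 (flp_j L769103) L780582
theorem L780592 : sm gh N58990 = N57832 := ded_32_2 L769328 (flp_h L769107) L780582
theorem L780594 : sm gc N57809 = N58991 := rfl
theorem L780596 : sm ge N58991 = N57821 := ded_28_2 (flp_c L769228) (flp_e L769119) L780594
theorem L780598 : sm gg N58991 = N57826 := ded_30_2 (flp_c L769280) (flp_g L769113) L780594
theorem L780600 : sm gj N58991 = N57847 := ded_31_2 L769431 (flp_j L769115) L780594
theorem L780602 : sm gh N58991 = N57812 := ded_32_2 (flp_c L769142) (flp_h L769121) L780594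
theorem L780604 : sm gi N58991 = N58225 := ded_33_2 (flp_c L772328) (flp_i L769117) L780594
theorem L780606 : sm gd N57810 = N58992 := rfl
theorem L780608 : sm gb N58992 = N58026 := ded_20_1 (flp_d L771058) (flp_b L769125) L780606
theorem L780610 : sm gf N58992 = N57828 := ded_35_2 (flp_d L769300) (flp_f L769130) L780606
theorem L780612 : sm gg N58992 = N57811 := ded_36_2 (flp_d L769136) (flp_g L769132) L780606
theorem L780614 : sm gi N58992 = N58021 := ded_39_2 (flp_d L771016) (flp_i L769134) L780606
theorem L780616 : sm gh N58992 = N58061 := ded_38_2 (flp_d L771310) (flp_h L759602) (flp_d L757365) L769123 L780606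
theorem L780618 : sm gc N57811 = N58993 := rfl
theorem L780620 : sm gf N58993 = N57812 := ded_29_2 (flp_c L769142) (flp_f L769138) L780618
theorem L780622 : sm gj N58993 = N58280 := ded_31_2 (flp_c L772657) (flp_j L769140) L780618
theorem L780624 : sm gd N58993 = N57816 := ded_27_2 (flp_c L769189) (flp_d L757410) (flp_c L757374) L769136 L780618
theorem L780626 : sm ge N57811 = N58994 := rfl
theorem L780628 : sm gj N58994 = N58281 := ded_42_2 (flp_e L772663) (flp_j L769140) L780626
theorem L780630 : sm gd N58994 = N58994 := ded_34_1 (flp_e L780626) (flp_d L769136) L757376 L769136 L780626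
theorem L780631 : sm gb N57812 = N58995 := rfl
theorem L780633 : sm gd N58995 = N57818 := ded_20_2 (flp_b L769200) (flp_d L769148) L780631
theorem L780635 : sm gg N58995 = N57831 := ded_23_2 (flp_b L769318) (flp_g L769144) L780631
theorem L780637 : sm gj N58995 = N58282 := ded_24_2 (flp_b L772666) (flp_j L769146) L780631
theorem L780639 : sm ge N57812 = N58996 := rfl
theorem L780641 : sm ga N58996 = N58247 := ded_13_1 (flp_e L779475) L779473 L780639
theorem L780643 : sm gc N58996 = N57813 := ded_28_1 (flp_e L769150) L769142 L780639
theorem L780645 : sm gg N58996 = N57832 := ded_41_2 (flp_e L769324) (flp_g L769144) L780639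
theorem L780647 : sm gj N58996 = N57842 := ded_42_2 L769395 (flp_j L769146) L780639
theorem L780649 : sm gh N58996 = N57821 := ded_43_2 (flp_e L780596) L780602 L780639
theorem L780651 : sm gi N58996 = N58221 := ded_44_2 (flp_e L780146) L780154 L780639
theorem L780653 : sm gd N58996 = N58204 := ded_34_1 (flp_e L778892) L778902 L767540 (flp_d L769148) L780639
theorem L780655 : sm gf N57813 = N58997 := rfl
theorem L780657 : sm ga N58997 = N58246 := ded_14_1 L772440 (flp_a L769152) L780655
theorem L780659 : sm gb N58997 = N57824 := ded_22_1 L769260 (flp_b L769154) L780655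
theorem L780661 : sm gd N58997 = N57814 := ded_35_1 (flp_f L769166) (flp_d L769164) L780655
theorem L780663 : sm gj N58997 = N57841 := ded_46_2 L769389 (flp_j L769158) L780655
theorem L780665 : sm gh N58997 = N57820 := ded_47_2 L769224 (flp_h L769160) L780655
theorem L780667 : sm gi N58997 = N58069 := ded_48_2 L771366 (flp_i L769162) L780655
theorem L780669 : sm gg N58997 = N58070 := ded_45_2 L771374 (flp_g L764531) L764529 (flp_g L769156) L780655
theorem L780671 : sm gc N57815 = N58998 := rfl
theorem L780673 : sm gf N58998 = N57834 := ded_29_2 (flp_c L769342) (flp_f L769185) L780671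
theorem L780675 : sm gg N58998 = N57816 := ded_30_2 (flp_c L769189) (flp_g L769187) L780671
theorem L780677 : sm ge N57815 = N58999 := rfl
theorem L780679 : sm gg N58999 = N57817 := ded_41_2 (flp_e L769195) (flp_g L769187) L780677
theorem L780681 : sm gd N58999 = N58999 := ded_34_1 (flp_e L780677) (flp_d L769183) L757405 L769183 L780677
theorem L780682 : sm gb N57816 = N59000 := rfl
theorem L780684 : sm gf N59000 = N57818 := ded_22_2 (flp_b L769200) (flp_f L769191) L780682
theorem L780686 : sm gj N59000 = N58285 := ded_24_2 (flp_b L772683) (flp_j L769193) L780682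
theorem L780688 : sm ge N57816 = N59001 := rfl
theorem L780690 : sm gc N59001 = N57817 := ded_28_1 (flp_e L769195) L769189 L780688
theorem L780692 : sm gj N59001 = N58286 := ded_42_2 (flp_e L772687) (flp_j L769193) L780688
theorem L780694 : sm ga N57818 = N59002 := rfl
theorem L780696 : sm gg N59002 = N57838 := ded_15_2 (flp_a L769364) (flp_g L769202) L780694
theorem L780698 : sm gj N59002 = N58287 := ded_16_2 (flp_a L772691) (flp_j L769204) L780694
theorem L780700 : sm gc N57819 = N59003 := rfl
theorem L780702 : sm ga N59003 = N57821 := ded_11_1 (flp_c L769228) (flp_a L769208) L780700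
theorem L780704 : sm gg N59003 = N58252 := ded_30_2 (flp_c L772477) (flp_g L769212) L780700
theorem L780706 : sm gj N59003 = N57839 := ded_31_2 (flp_c L769368) (flp_j L769214) L780700
theorem L780708 : sm gh N59003 = N58247 := ded_32_2 (flp_c L772444) (flp_h L769218) L780700
theorem L780710 : sm gi N59003 = N58229 := ded_33_2 (flp_c L772348) (flp_i L769216) L780700
theorem L780712 : sm gc N57820 = N59004 := rfl
theorem L780714 : sm gf N59004 = N57821 := ded_29_2 (flp_c L769228) (flp_f L769224) L780712
theorem L780716 : sm gj N59004 = N57844 := ded_31_2 (flp_c L769413) (flp_j L769226) L780712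
theorem L780718 : sm gd N59004 = N58229 := ded_27_2 (flp_c L772348) (flp_d L760702) (flp_c L757457) L769220 L780712
theorem L780720 : sm ge N57820 = N59005 := rfl
theorem L780722 : sm gb N59005 = N57830 := ded_21_1 (flp_e L769312) (flp_b L769222) L780720
theorem L780724 : sm gj N59005 = N57845 := ded_42_2 (flp_e L769417) (flp_j L769226) L780720
theorem L780726 : sm gd N59005 = N57875 := ded_34_1 (flp_e L769636) (flp_d L757814) (flp_e L757459) L769220 L780720
theorem L780728 : sm gb N57821 = N59006 := rfl
theorem L780730 : sm gj N59006 = N57846 := ded_24_2 (flp_b L769423) (flp_j L769230) L780728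
theorem L780732 : sm gc N59006 = N57831 := ded_19_2 (flp_b L769318) (flp_c L757550) (flp_b L757467) L769228 L780728
theorem L780734 : sm gd N57822 = N59007 := rfl
theorem L780736 : sm gb N59007 = N58070 := ded_20_1 (flp_d L771372) (flp_b L769234) L780734
theorem L780738 : sm gf N59007 = N58061 := ded_35_2 (flp_d L771310) (flp_f L769237) L780734
theorem L780740 : sm gg N59007 = N57824 := ded_36_2 (flp_d L769258) (flp_g L769239) L780734
theorem L780742 : sm gi N59007 = N58060 := ded_39_2 (flp_d L771302) (flp_i L769241) L780734
theorem L780744 : sm gh N59007 = N57828 := ded_38_2 (flp_d L769300) (flp_h L757536) (flp_d L757475) L769232 L780734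
theorem L780746 : sm gd N57823 = N59008 := rfl
theorem L780748 : sm ga N59008 = N58257 := ded_12_1 (flp_d L772505) (flp_a L769245) L780746
theorem L780750 : sm gb N59008 = N58069 := ded_20_1 (flp_d L771362) (flp_b L769247) L780746
theorem L780752 : sm gf N59008 = N57825 := ded_35_2 (flp_d L769266) (flp_f L769250) L780746
theorem L780754 : sm gg N59008 = N58060 := ded_36_2 (flp_d L771302) (flp_g L769252) L780746
theorem L780756 : sm gj N59008 = N57851 := ded_37_2 (flp_d L769467) (flp_j L769254) L780746
theorem L780758 : sm gi N59008 = N57824 := ded_39_2 (flp_d L769258) (flp_i L769256) L780746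
theorem L780760 : sm gh N59008 = N58064 := ded_38_2 (flp_d L771328) (flp_h L759616) (flp_d L757488) L769243 L780746
theorem L780762 : sm gc N57824 = N59009 := rfl
theorem L780764 : sm gf N59009 = N57826 := ded_29_2 (flp_c L769280) (flp_f L769260) L780762
theorem L780766 : sm gj N59009 = N57852 := ded_31_2 (flp_c L769473) (flp_j L769262) L780762
theorem L780768 : sm gh N59009 = N57829 := ded_32_2 (flp_c L769304) (flp_h L769264) L780762
theorem L780770 : sm ge N57824 = N59010 := rfl
theorem L780772 : sm gj N59010 = N57853 := ded_42_2 (flp_e L769479) (flp_j L769262) L780770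
theorem L780774 : sm gh N59010 = N57830 := ded_43_2 (flp_e L769312) (flp_h L769264) L780770
theorem L780776 : sm gd N59010 = N59010 := ded_34_1 (flp_e L780770) (flp_d L769258) L757499 L769258 L780770
theorem L780777 : sm gc N57825 = N59011 := rfl
theorem L780779 : sm ga N59011 = N58258 := ded_11_1 (flp_c L772513) (flp_a L769268) L780777
theorem L780781 : sm gg N59011 = N58225 := ded_30_2 (flp_c L772328) (flp_g L769272) L780777
theorem L780783 : sm gj N59011 = N57854 := ded_31_2 (flp_c L769484) (flp_j L769274) L780777
theorem L780785 : sm gh N59011 = N58255 := ded_32_2 (flp_c L772497) (flp_h L769278) L780777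
theorem L780787 : sm gi N59011 = N57826 := ded_33_2 (flp_c L769280) (flp_i L769276) L780777
theorem L780789 : sm gb N57826 = N59012 := rfl
theorem L780791 : sm gj N59012 = N57856 := ded_24_2 (flp_b L769504) (flp_j L769282) L780789
theorem L780793 : sm gh N59012 = N57831 := ded_25_2 (flp_b L769318) (flp_h L769284) L780789
theorem L780795 : sm gd N57827 = N59013 := rfl
theorem L780797 : sm gb N59013 = N58240 := ded_20_1 (flp_d L772410) (flp_b L769288) L780795
theorem L780799 : sm gg N59013 = N57859 := ded_36_2 (flp_d L769530) (flp_g L769294) L780795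
theorem L780801 : sm gj N59013 = N57828 := ded_37_2 (flp_d L769300) (flp_j L769296) L780795
theorem L780803 : sm gi N59013 = N58236 := ded_39_2 (flp_d L772390) (flp_i L769298) L780795
theorem L780805 : sm gc N57828 = N59014 := rfl
theorem L780807 : sm gg N59014 = N57829 := ded_30_2 (flp_c L769304) (flp_g L769302) L780805
theorem L780809 : sm gd N59014 = N57834 := ded_27_2 (flp_c L769342) (flp_d L757574) (flp_c L757538) L769300 L780805
theorem L780811 : sm ge N57828 = N59015 := rfl
theorem L780813 : sm gg N59015 = N57830 := ded_41_2 (flp_e L769312) (flp_g L769302) L780811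
theorem L780815 : sm gd N59015 = N57878 := ded_34_1 (flp_e L769665) (flp_d L757836) (flp_e L757540) L769300 L780811
theorem L780817 : sm gb N57829 = N59016 := rfl
theorem L780819 : sm gd N59016 = N57836 := ded_20_2 (flp_b L769352) (flp_d L769310) L780817
theorem L780821 : sm gf N59016 = N57831 := ded_22_2 (flp_b L769318) (flp_f L769306) L780817
theorem L780823 : sm gj N59016 = N57862 := ded_24_2 (flp_b L769550) (flp_j L769308) L780817
theorem L780825 : sm ge N57829 = N59017 := rfl
theorem L780827 : sm gc N59017 = N57830 := ded_28_1 (flp_e L769312) L769304 L780825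
theorem L780829 : sm gj N59017 = N57863 := ded_42_2 (flp_e L769556) (flp_j L769308) L780825
theorem L780831 : sm ga N57831 = N59018 := rfl
theorem L780833 : sm gd N59018 = N57838 := ded_12_2 (flp_a L769364) (flp_d L769320) L780831
theorem L780835 : sm gj N59018 = N57865 := ded_16_2 (flp_a L769570) (flp_j L769322) L780831
theorem L780837 : sm ge N57831 = N59019 := rfl
theorem L780839 : sm gb N59019 = N57832 := ded_21_1 (flp_e L769324) L769318 L780837
theorem L780841 : sm gj N59019 = N57866 := ded_42_2 (flp_e L769576) (flp_j L769322) L780837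
theorem L780843 : sm gi N59019 = N58226 := ded_44_2 (flp_e L780237) L780243 L780837
theorem L780845 : sm gd N59019 = N58219 := ded_34_1 (flp_e L778935) L778933 L767580 (flp_d L769320) L780837
theorem L780847 : sm gc N57833 = N59020 := rfl
theorem L780849 : sm gg N59020 = N57868 := ded_30_2 (flp_c L769596) (flp_g L769338) L780847
theorem L780851 : sm gj N59020 = N57834 := ded_31_2 (flp_c L769342) (flp_j L769340) L780847
theorem L780853 : sm ge N57833 = N59021 := rfl
theorem L780855 : sm gg N59021 = N57869 := ded_41_2 (flp_e L769602) (flp_g L769338) L780853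
theorem L780857 : sm gj N59021 = N57835 := ded_42_2 (flp_e L769346) (flp_j L769340) L780853
theorem L780859 : sm gh N59021 = N58175 := ded_43_2 (flp_e L777306) L777308 L780853
theorem L780861 : sm gd N59021 = N57881 := ded_34_1 (flp_e L769692) (flp_d L757858) (flp_e L757568) L769336 L780853
theorem L780863 : sm gb N57834 = N59022 := rfl
theorem L780865 : sm gg N59022 = N57836 := ded_23_2 (flp_b L769352) (flp_g L769344) L780863
theorem L780867 : sm ge N57834 = N59023 := rfl
theorem L780869 : sm gc N59023 = N57835 := ded_28_1 (flp_e L769346) L769342 L780867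
theorem L780871 : sm gg N59023 = N57837 := ded_41_2 (flp_e L769358) (flp_g L769344) L780867
theorem L780873 : sm gf N57835 = N59024 := rfl
theorem L780875 : sm gd N59024 = N57884 := ded_35_1 (flp_f L769719) (flp_d L769350) L780873
theorem L780877 : sm ga N57836 = N59025 := rfl
theorem L780879 : sm gf N59025 = N57838 := ded_14_2 (flp_a L769364) (flp_f L769354) L780877
theorem L780881 : sm gj N59025 = N57872 := ded_16_2 (flp_a L769624) (flp_j L769356) L780877
theorem L780883 : sm ge N57836 = N59026 := rfl
theorem L780885 : sm gb N59026 = N57837 := ded_21_1 (flp_e L769358) L769352 L780883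
theorem L780887 : sm gj N59026 = N57873 := ded_42_2 (flp_e L769628) (flp_j L769356) L780883
theorem L780889 : sm gd N57837 = N59027 := rfl
theorem L780891 : sm gf N59027 = N58244 := ded_35_2 (flp_d L778961) L778963 L780889
theorem L780893 : sm gj N59027 = N57874 := ded_37_2 (flp_d L769632) (flp_j L769362) L780889
theorem L780895 : sm gc N59027 = N57887 := ded_27_1 (flp_d L769746) L757890 (flp_d L757588) (flp_c L769360) L780889
theorem L780897 : sm gb N57839 = N59028 := rfl
theorem L780899 : sm gg N59028 = N58303 := ded_23_2 (flp_b L772815) (flp_g L769372) L780897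
theorem L780901 : sm gd N57840 = N59029 := rfl
theorem L780903 : sm ga N59029 = N58021 := ded_12_1 (flp_d L771016) (flp_a L769376) L780901
theorem L780905 : sm gb N59029 = N57850 := ded_20_1 (flp_d L769459) (flp_b L769378) L780901
theorem L780907 : sm gf N59029 = N58298 := ded_35_2 L772789 (flp_f L769381) L780901
theorem L780909 : sm gg N59029 = N57841 := ded_36_2 (flp_d L769385) (flp_g L769383) L780901
theorem L780911 : sm gh N59029 = N57843 := ded_38_2 (flp_d L769401) (flp_h L757630) (flp_d L757606) L769374 L780901
theorem L780913 : sm gc N57841 = N59030 := rfl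
theorem L780915 : sm gf N59030 = N57842 := ded_29_2 (flp_c L769393) (flp_f L769389) L780913
theorem L780917 : sm gh N59030 = N57844 := ded_32_2 (flp_c L769413) (flp_h L769391) L780913
theorem L780919 : sm ge N57841 = N59031 := rfl
theorem L780921 : sm gb N59031 = N57853 := ded_21_1 (flp_e L769479) (flp_b L769387) L780919
theorem L780923 : sm gh N59031 = N57845 := ded_43_2 (flp_e L769417) (flp_h L769391) L780919
theorem L780925 : sm gd N59031 = N59031 := ded_34_1 (flp_e L780919) (flp_d L769385) L757617 L769385 L780919
theorem L780926 : sm gf N59031 = N58281 := ded_40_2 (flp_e L772663) L761031 (flp_e L757626) (flp_f L769389) L780919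
theorem L780928 : sm gb N57842 = N59032 := rfl
theorem L780930 : sm ge N59032 = N58282 := ded_21_2 (flp_b L772666) (flp_e L769395) L780928
theorem L780932 : sm gg N59032 = N58296 := ded_23_2 L772769 (flp_g L769397) L780928
theorem L780934 : sm gh N59032 = N57846 := ded_25_2 (flp_b L769423) (flp_h L769399) L780928
theorem L780936 : sm gc N59032 = N57856 := ded_19_2 (flp_b L769504) (flp_c L757714) (flp_b L757622) L769393 L780928
theorem L780938 : sm gc N57843 = N59033 := rfl
theorem L780940 : sm ga N59033 = N58023 := ded_11_1 (flp_c L771036) (flp_a L769403) L780938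
theorem L780942 : sm gf N59033 = N58304 := ded_29_2 (flp_c L772817) (flp_f L769407) L780938
theorem L780944 : sm gg N59033 = N57844 := ded_30_2 (flp_c L769413) (flp_g L769409) L780938
theorem L780946 : sm gi N59033 = N58059 := ded_33_2 (flp_c L771296) (flp_i L769411) L780938
theorem L780948 : sm gd N59033 = N58255 := ded_27_2 (flp_c L772497) (flp_d L760855) (flp_c L757636) L769401 L780938
theorem L780950 : sm gb N57844 = N59034 := rfl
theorem L780952 : sm gf N59034 = N57846 := ded_22_2 (flp_b L769423) (flp_f L769415) L780950
theorem L780954 : sm gc N59034 = N57862 := ded_19_2 (flp_b L769550) (flp_c L757748) (flp_b L757648) L769413 L780950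
theorem L780956 : sm ge N57844 = N59035 := rfl
theorem L780958 : sm gc N59035 = N57845 := ded_28_1 (flp_e L769417) L769413 L780956
theorem L780960 : sm ga N57846 = N59036 := rfl
theorem L780962 : sm gc N59036 = N57865 := ded_11_2 (flp_a L769570) (flp_c L769427) L780960
theorem L780964 : sm gg N59036 = N58308 := ded_15_2 (flp_a L772839) (flp_g L769425) L780960
theorem L780966 : sm ge N57846 = N59037 := rfl
theorem L780968 : sm gb N59037 = N57847 := ded_21_1 (flp_e L769429) L769423 L780966
theorem L780970 : sm gc N59037 = N57866 := ded_28_1 (flp_e L769576) (flp_c L769427) L780966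
theorem L780972 : sm gg N59037 = N58291 := ded_41_2 L772727 (flp_g L769425) L780966
theorem L780974 : sm gh N59037 = N58282 := ded_43_2 (flp_e L780930) L780934 L780966
theorem L780976 : sm gi N59037 = N58230 := ded_44_2 (flp_e L780305) L780309 L780966
theorem L780978 : sm gd N57848 = N59038 := rfl
theorem L780980 : sm ga N59038 = N58035 := ded_12_1 (flp_d L771123) (flp_a L769441) L780978
theorem L780982 : sm gf N59038 = N57960 := ded_35_2 (flp_d L770458) (flp_f L769446) L780978
theorem L780984 : sm gj N59038 = N57850 := ded_37_2 (flp_d L769459) (flp_j L769448) L780978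
theorem L780986 : sm gh N59038 = N57859 := ded_38_2 (flp_d L769530) (flp_h L757732) (flp_d L757674) L769439 L780978
theorem L780988 : sm gd N57849 = N59039 := rfl
theorem L780990 : sm gf N59039 = N58309 := ded_35_2 (flp_d L772843) (flp_f L769453) L780988
theorem L780992 : sm gg N59039 = N57851 := ded_36_2 (flp_d L769467) (flp_g L769455) L780988
theorem L780994 : sm gi N59039 = N57850 := ded_39_2 (flp_d L769459) (flp_i L769457) L780988
theorem L780996 : sm gc N57850 = N59040 := rfl
theorem L780998 : sm gf N59040 = N58310 := ded_29_2 (flp_c L772849) (flp_f L769461) L780996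
theorem L781000 : sm gg N59040 = N57852 := ded_30_2 (flp_c L769473) (flp_g L769463) L780996
theorem L781002 : sm gh N59040 = N57860 := ded_32_2 (flp_c L769536) (flp_h L769465) L780996
theorem L781004 : sm ge N57850 = N59041 := rfl
theorem L781006 : sm gg N59041 = N57853 := ded_41_2 (flp_e L769479) (flp_g L769463) L781004
theorem L781008 : sm gh N59041 = N57861 := ded_43_2 (flp_e L769544) (flp_h L769465) L781004
theorem L781010 : sm gd N59041 = N59041 := ded_34_1 (flp_e L781004) (flp_d L769459) L757690 L769459 L781004
theorem L781011 : sm gc N57851 = N59042 := rfl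
theorem L781013 : sm gf N59042 = N57854 := ded_29_2 (flp_c L769484) (flp_f L769469) L781011
theorem L781015 : sm gi N59042 = N57852 := ded_33_2 (flp_c L769473) (flp_i L769471) L781011
theorem L781017 : sm ge N57851 = N59043 := rfl
theorem L781019 : sm gi N59043 = N57853 := ded_44_2 (flp_e L769479) (flp_i L769471) L781017
theorem L781021 : sm gd N59043 = N59043 := ded_34_1 (flp_e L781017) (flp_d L769467) L757697 L769467 L781017
theorem L781022 : sm gb N57852 = N59044 := rfl
theorem L781024 : sm gf N59044 = N57856 := ded_22_2 (flp_b L769504) (flp_f L769475) L781022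
theorem L781026 : sm gh N59044 = N57862 := ded_25_2 (flp_b L769550) (flp_h L769477) L781022
theorem L781028 : sm ge N57852 = N59045 := rfl
theorem L781030 : sm gc N59045 = N57853 := ded_28_1 (flp_e L769479) L769473 L781028
theorem L781032 : sm gh N59045 = N57863 := ded_43_2 (flp_e L769556) (flp_h L769477) L781028
theorem L781034 : sm gf N57853 = N59046 := rfl
theorem L781036 : sm ga N59046 = N58266 := ded_14_1 (flp_f L779681) L779676 L781034
theorem L781038 : sm gb N59046 = N58281 := ded_22_1 (flp_f L780926) L780921 L781034
theorem L781040 : sm gd N59046 = N59046 := ded_35_1 (flp_f L781034) L769483 L781034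
theorem L781041 : sm gh N59046 = N57864 := ded_47_2 (flp_f L769560) (flp_h L769481) L781034
theorem L781043 : sm ge N59046 = N57858 := ded_40_1 (flp_f L769520) (flp_e L757720) (flp_f L757704) L769479 L781034
theorem L781045 : sm gb N57854 = N59047 := rfl
theorem L781047 : sm gg N59047 = N58316 := ded_23_2 (flp_b L772887) (flp_g L769486) L781045
theorem L781049 : sm gi N59047 = N57856 := ded_26_2 (flp_b L769504) (flp_i L769488) L781045
theorem L781051 : sm ge N57854 = N59048 := rfl
theorem L781053 : sm ga N59048 = N58267 := ded_13_1 (flp_e L779687) L779685 L781051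
theorem L781055 : sm gc N59048 = N57855 := ded_28_1 (flp_e L769490) L769484 L781051
theorem L781057 : sm gg N59048 = N58251 := ded_41_2 L772471 (flp_g L769486) L781051
theorem L781059 : sm gh N59048 = N58231 := ded_43_2 (flp_e L780341) L780347 L781051
theorem L781061 : sm gi N59048 = N57857 := ded_44_2 (flp_e L769510) (flp_i L769488) L781051
theorem L781063 : sm ga N57856 = N59049 := rfl
theorem L781065 : sm gg N59049 = N58317 := ded_15_2 (flp_a L772891) (flp_g L769506) L781063
theorem L781067 : sm gh N59049 = N57865 := ded_17_2 (flp_a L769570) (flp_h L769508) L781063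
theorem L781069 : sm ge N57856 = N59050 := rfl
theorem L781071 : sm gb N59050 = N57857 := ded_21_1 (flp_e L769510) L769504 L781069
theorem L781073 : sm gc N59050 = N58282 := ded_28_1 (flp_e L780930) L780936 L781069
theorem L781075 : sm gg N59050 = N58290 := ded_41_2 L772717 (flp_g L769506) L781069
theorem L781077 : sm gh N59050 = N57866 := ded_43_2 (flp_e L769576) (flp_h L769508) L781069
theorem L781079 : sm gd N57857 = N59051 := rfl
theorem L781081 : sm ga N59051 = N58241 := ded_12_1 L772418 (flp_a L769512) L781079
theorem L781083 : sm gg N59051 = N58043 := ded_36_2 L771175 (flp_g L769516) L781079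
theorem L781085 : sm gc N59051 = N57912 := ded_27_1 (flp_d L769974) L758182 (flp_d L757730) (flp_c L769514) L781079
theorem L781087 : sm gh N59051 = N58216 := ded_38_2 L772281 L760646 (flp_d L757774) (flp_h L769518) L781079
theorem L781089 : sm gf N57857 = N59052 := rfl
theorem L781091 : sm ga N59052 = N58265 := ded_14_1 L772560 (flp_a L769512) L781089
theorem L781093 : sm gc N59052 = N57858 := ded_29_1 (flp_f L769520) (flp_c L769514) L781089
theorem L781095 : sm gh N59052 = N57867 := ded_47_2 (flp_f L769586) (flp_h L769518) L781089
theorem L781097 : sm gc N57859 = N59053 := rfl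
theorem L781099 : sm gf N59053 = N58318 := ded_29_2 (flp_c L772895) (flp_f L769532) L781097
theorem L781101 : sm gj N59053 = N57860 := ded_31_2 (flp_c L769536) (flp_j L769534) L781097
theorem L781103 : sm gd N59053 = N57868 := ded_27_2 (flp_c L769596) (flp_d L757784) (flp_c L757734) L769530 L781097
theorem L781105 : sm ge N57859 = N59054 := rfl
theorem L781107 : sm gj N59054 = N57861 := ded_42_2 (flp_e L769544) (flp_j L769534) L781105
theorem L781109 : sm gd N59054 = N57888 := ded_34_1 (flp_e L769752) (flp_d L757932) (flp_e L757736) L769530 L781105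
theorem L781111 : sm gb N57860 = N59055 := rfl
theorem L781113 : sm gd N59055 = N57870 := ded_20_2 (flp_b L769612) (flp_d L769542) L781111
theorem L781115 : sm gf N59055 = N58320 := ded_22_2 (flp_b L772907) (flp_f L769538) L781111
theorem L781117 : sm gg N59055 = N57862 := ded_23_2 (flp_b L769550) (flp_g L769540) L781111
theorem L781119 : sm ge N57860 = N59056 := rfl
theorem L781121 : sm gc N59056 = N57861 := ded_28_1 (flp_e L769544) L769536 L781119
theorem L781123 : sm gg N59056 = N57863 := ded_41_2 (flp_e L769556) (flp_g L769540) L781119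
theorem L781125 : sm gf N57861 = N59057 := rfl
theorem L781127 : sm gd N59057 = N57889 := ded_35_1 (flp_f L769757) (flp_d L769548) L781125
theorem L781129 : sm ge N59057 = N58322 := ded_40_1 (flp_f L772919) (flp_e L761228) (flp_f L757744) L769544 L781125
theorem L781131 : sm ga N57862 = N59058 := rfl
theorem L781133 : sm gd N59058 = N57872 := ded_12_2 (flp_a L769624) (flp_d L769552) L781131
theorem L781135 : sm gf N59058 = N57865 := ded_14_2 (flp_a L769570) (flp_f L769554) L781131
theorem L781137 : sm ge N57862 = N59059 := rfl
theorem L781139 : sm gb N59059 = N57863 := ded_21_1 (flp_e L769556) L769550 L781137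
theorem L781141 : sm gd N57863 = N59060 := rfl
theorem L781143 : sm gi N59060 = N58085 := ded_39_2 L780391 L780387 L781141
theorem L781145 : sm gc N59060 = N57890 := ded_27_1 (flp_d L769764) L757946 (flp_d L757756) (flp_c L769558) L781141
theorem L781147 : sm ge N59060 = N57874 := ded_34_2 (flp_d L769632) (flp_e L757806) (flp_d L757752) L769556 L781141
theorem L781149 : sm gf N58031 = N59060 := ded_48_3 L781143 (flp_f L771449) (flp_i L771093)
theorem L781151 : sm gf N57863 = N59061 := rfl
theorem L781153 : sm ga N59061 = N58273 := ded_14_1 (flp_f L779721) L779715 L781151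
theorem L781155 : sm gc N59061 = N57864 := ded_29_1 (flp_f L769560) (flp_c L769558) L781151
theorem L781157 : sm gd N59061 = N58031 := ded_35_1 L781149 (flp_d L781141) L781151
theorem L781159 : sm gi N59061 = N57950 := ded_48_2 (flp_f L780389) L780387 L781151
theorem L781161 : sm ge N59061 = N57867 := ded_40_1 (flp_f L769586) (flp_e L757764) (flp_f L757750) L769556 L781151
theorem L781163 : sm ge N57865 = N59062 := rfl
theorem L781165 : sm ga N59062 = N57866 := ded_13_1 (flp_e L769576) L769570 L781163
theorem L781167 : sm gb N59062 = N58274 := ded_21_1 (flp_e L779727) L779733 L781163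
theorem L781169 : sm gg N59062 = N58326 := ded_41_2 (flp_e L772939) (flp_g L769574) L781163
theorem L781171 : sm gi N59062 = N58233 := ded_44_2 (flp_e L780397) L780401 L781163
theorem L781173 : sm gd N59062 = N58220 := ded_34_1 (flp_e L779023) L779021 L767680 (flp_d L769572) L781163
theorem L781175 : sm gf N57866 = N59063 := rfl
theorem L781177 : sm gb N59063 = N57867 := ded_22_1 (flp_f L769586) (flp_b L769578) L781175
theorem L781179 : sm gd N59063 = N57944 := ded_35_1 L770319 (flp_d L769584) L781175
theorem L781181 : sm gi N59063 = N57949 := ded_48_2 L770363 (flp_i L769582) L781175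
theorem L781183 : sm gb N57868 = N59064 := rfl
theorem L781185 : sm gf N59064 = N58328 := ded_22_2 (flp_b L772947) (flp_f L769598) L781183
theorem L781187 : sm gj N59064 = N57870 := ded_24_2 (flp_b L769612) (flp_j L769600) L781183
theorem L781189 : sm ge N57868 = N59065 := rfl
theorem L781191 : sm gc N59065 = N57869 := ded_28_1 (flp_e L769602) L769596 L781189
theorem L781193 : sm gj N59065 = N57871 := ded_42_2 (flp_e L769618) (flp_j L769600) L781189
theorem L781195 : sm gh N59065 = N58174 := ded_43_2 (flp_e L778427) L778433 L781189
theorem L781197 : sm gf N59065 = N58168 := ded_40_2 (flp_e L771980) (flp_f L763390) L763388 (flp_f L769598) L781189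
theorem L781199 : sm ga N57870 = N59066 := rfl
theorem L781201 : sm gf N59066 = N58329 := ded_14_2 (flp_a L772951) (flp_f L769614) L781199
theorem L781203 : sm gg N59066 = N57872 := ded_15_2 (flp_a L769624) (flp_g L769616) L781199
theorem L781205 : sm ge N57870 = N59067 := rfl
theorem L781207 : sm gb N59067 = N57871 := ded_21_1 (flp_e L769618) L769612 L781205
theorem L781209 : sm gg N59067 = N57873 := ded_41_2 (flp_e L769628) (flp_g L769616) L781205
theorem L781211 : sm gd N57871 = N59068 := rfl
theorem L781213 : sm gf N59068 = N58068 := ded_35_2 (flp_d L774972) L774974 L781211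
theorem L781215 : sm gg N59068 = N57874 := ded_36_2 (flp_d L769632) (flp_g L769622) L781211
theorem L781217 : sm gc N59068 = N57892 := ded_27_1 (flp_d L769784) L757986 (flp_d L757800) (flp_c L769620) L781211
theorem L781219 : sm ge N57872 = N59069 := rfl
theorem L781221 : sm ga N59069 = N57873 := ded_13_1 (flp_e L769628) L769624 L781219
theorem L781223 : sm gd N57873 = N59070 := rfl
theorem L781225 : sm gb N59070 = N57874 := ded_20_1 (flp_d L769632) (flp_b L769630) L781223
theorem L781227 : sm gh N57874 = N59071 := rfl
theorem L781229 : sm gc N59071 = N57895 := ded_32_1 (flp_h L769812) (flp_c L769634) L781227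
theorem L781231 : sm ge N57876 = N59072 := rfl
theorem L781233 : sm gb N59072 = N58333 := ded_21_1 (flp_e L772979) (flp_b L769645) L781231
theorem L781235 : sm gg N59072 = N57888 := ded_41_2 (flp_e L769752) (flp_g L769648) L781231
theorem L781237 : sm gj N59072 = N57878 := ded_42_2 (flp_e L769665) (flp_j L769650) L781231
theorem L781239 : sm gh N59072 = N59072 := ded_43_2 (flp_e L781231) L769654 L781231
theorem L781240 : sm gi N59072 = N58332 := ded_44_2 (flp_e L772973) (flp_i L769652) L781231
theorem L781242 : sm ge N57877 = N59073 := rfl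
theorem L781244 : sm gc N59073 = N57878 := ded_28_1 (flp_e L769665) L769655 L781242
theorem L781246 : sm gg N59073 = N57879 := ded_41_2 (flp_e L769670) (flp_g L769658) L781242
theorem L781248 : sm gh N59073 = N59073 := ded_43_2 (flp_e L781242) L769660 L781242
theorem L781249 : sm gi N59073 = N58055 := ded_44_2 L771262 (flp_i L769661) L781242
theorem L781251 : sm gf N57878 = N59074 := rfl
theorem L781253 : sm gb N59074 = N57910 := ded_22_1 (flp_f L779107) L779101 L781251
theorem L781255 : sm gh N59074 = N59074 := ded_47_2 (flp_f L781251) L769669 L781251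
theorem L781256 : sm gi N59074 = N57909 := ded_48_2 (flp_f L776382) L776380 L781251
theorem L781258 : sm ge N59074 = N59074 := ded_40_1 (flp_f L781251) (flp_e L769665) L757838 L769665 L781251
theorem L781259 : sm gg N59074 = N58097 := ded_45_2 (flp_f L771534) (flp_g L764943) L764950 (flp_g L769667) L781251
theorem L781261 : sm gd N57879 = N59075 := rfl
theorem L781263 : sm gf N59075 = N58019 := ded_35_2 L771002 (flp_f L769679) L781261
theorem L781265 : sm gj N59075 = N57890 := ded_37_2 (flp_d L769764) (flp_j L769674) L781261
theorem L781267 : sm gi N59075 = N58054 := ded_39_2 L771256 (flp_i L769677) L781261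
theorem L781269 : sm ge N59075 = N57887 := ded_34_2 (flp_d L769746) (flp_e L757888) (flp_d L757851) L769670 L781261
theorem L781271 : sm ge N57880 = N59076 := rfl
theorem L781273 : sm gb N59076 = N58055 := ded_21_1 L771262 (flp_b L769690) L781271
theorem L781275 : sm gc N59076 = N57881 := ded_28_1 (flp_e L769692) L769681 L781271
theorem L781277 : sm gg N59076 = N57891 := ded_41_2 (flp_e L769772) (flp_g L769684) L781271
theorem L781279 : sm gj N59076 = N57883 := ded_42_2 (flp_e L769711) (flp_j L769686) L781271
theorem L781281 : sm gh N59076 = N57897 := ded_43_2 (flp_e L769827) (flp_h L769688) L781271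
theorem L781283 : sm ga N57882 = N59077 := rfl
theorem L781285 : sm gc N59077 = N57959 := ded_11_2 L770447 (flp_c L769709) L781283
theorem L781287 : sm gf N59077 = N59077 := ded_14_2 (flp_a L781283) L769702 L781283
theorem L781288 : sm gg N59077 = N57885 := ded_15_2 (flp_a L769724) (flp_g L769703) L781283
theorem L781290 : sm gj N59077 = N57990 := ded_16_2 L770720 (flp_j L769705) L781283
theorem L781292 : sm gh N59077 = N57898 := ded_17_2 (flp_a L769838) (flp_h L769707) L781283
theorem L781294 : sm gb N59077 = N57997 := ded_10_2 (flp_a L774261) L774263 L768338 L769700 L781283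
theorem L781296 : sm ge N57882 = N59078 := rfl
theorem L781298 : sm gb N59078 = N57883 := ded_21_1 (flp_e L769711) L769700 L781296
theorem L781300 : sm gc N59078 = N58332 := ded_28_1 (flp_e L772973) (flp_c L769709) L781296
theorem L781302 : sm gg N59078 = N57886 := ded_41_2 (flp_e L769736) (flp_g L769703) L781296
theorem L781304 : sm gj N59078 = N58055 := ded_42_2 L771262 (flp_j L769705) L781296
theorem L781306 : sm gh N59078 = N57899 := ded_43_2 (flp_e L769851) (flp_h L769707) L781296
theorem L781308 : sm gd N57883 = N59079 := rfl
theorem L781310 : sm gg N59079 = N57887 := ded_36_2 (flp_d L769746) (flp_g L769715) L781308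
theorem L781312 : sm ge N57885 = N59080 := rfl
theorem L781314 : sm ga N59080 = N57886 := ded_13_1 (flp_e L769736) L769724 L781312
theorem L781316 : sm gb N59080 = N58330 := ded_21_1 (flp_e L772955) (flp_b L769734) L781312
theorem L781318 : sm gc N59080 = N57965 := ded_28_1 (flp_e L770500) (flp_c L769726) L781312
theorem L781320 : sm gj N59080 = N57893 := ded_42_2 (flp_e L769792) (flp_j L769730) L781312
theorem L781322 : sm gh N59080 = N57902 := ded_43_2 (flp_e L769876) (flp_h L769732) L781312
theorem L781324 : sm gf N59080 = N58235 := ded_40_2 (flp_e L772380) L760746 (flp_e L757902) (flp_f L769728) L781312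
theorem L781326 : sm gd N57886 = N59081 := rfl
theorem L781328 : sm gb N59081 = N57887 := ded_20_1 (flp_d L769746) (flp_b L769738) L781326
theorem L781330 : sm gf N59081 = N58238 := ded_35_2 L772402 (flp_f L769744) L781326
theorem L781332 : sm gj N59081 = N57894 := ded_37_2 (flp_d L769806) (flp_j L769740) L781326
theorem L781334 : sm gh N57887 = N59082 := rfl
theorem L781336 : sm gf N59082 = N58242 := ded_47_1 L772422 (flp_f L769748) L781334
theorem L781338 : sm gj N59082 = N57895 := ded_52_1 (flp_h L769812) (flp_j L769750) L781334
theorem L781340 : sm gd N59082 = N57904 := ded_38_1 (flp_h L769899) (flp_d L758098) (flp_h L757894) L769746 L781334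
theorem L781342 : sm gf N57888 = N59083 := rfl
theorem L781344 : sm gc N59083 = N58090 := ded_29_1 (flp_f L780526) L780519 L781342
theorem L781346 : sm gj N59083 = N57889 := ded_46_2 (flp_f L769757) (flp_j L769754) L781342
theorem L781348 : sm gh N59083 = N59083 := ded_47_2 (flp_f L781342) L769756 L781342
theorem L781349 : sm gi N59083 = N58239 := ded_48_2 (flp_f L776304) L776302 L781342
theorem L781351 : sm ge N59083 = N57896 := ded_40_1 (flp_f L769816) (flp_e L758016) (flp_f L757934) L769752 L781342
theorem L781353 : sm gh N57890 = N59084 := rfl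
theorem L781355 : sm ge N59084 = N57895 := ded_43_1 (flp_h L769812) (flp_e L769770) L781353
theorem L781357 : sm gf N59084 = N58028 := ded_47_1 L771070 (flp_f L769766) L781353
theorem L781359 : sm gd N59084 = N59084 := ded_38_1 (flp_h L781353) (flp_d L769764) L757948 L769764 L781353
theorem L781360 : sm gd N57891 = N59085 := rfl
theorem L781362 : sm gb N59085 = N58054 := ded_20_1 L771256 (flp_b L769774) L781360
theorem L781364 : sm gf N59085 = N58044 := ded_35_2 L771183 (flp_f L769782) L781360
theorem L781366 : sm gj N59085 = N57892 := ded_37_2 (flp_d L769784) (flp_j L769778) L781360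
theorem L781368 : sm gh N57892 = N59086 := rfl
theorem L781370 : sm gb N59086 = N58077 := ded_25_1 L771413 (flp_b L769786) L781368
theorem L781372 : sm gf N59086 = N58063 := ded_47_1 L771324 (flp_f L769788) L781368
theorem L781374 : sm gg N59086 = N57895 := ded_50_1 (flp_h L769812) (flp_g L769790) L781368
theorem L781376 : sm gd N59086 = N57906 := ded_38_1 (flp_h L769920) (flp_d L758117) (flp_h L757990) L769784 L781368
theorem L781378 : sm gd N57893 = N59087 := rfl
theorem L781380 : sm ga N59087 = N57894 := ded_12_1 (flp_d L769806) (flp_a L769794) L781378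
theorem L781382 : sm gb N59087 = N58322 := ded_20_1 L772921 (flp_b L769796) L781378
theorem L781384 : sm gf N59087 = N58305 := ded_35_2 L772827 (flp_f L769804) L781378
theorem L781386 : sm gg N59087 = N57985 := ded_36_2 L770679 (flp_g L769800) L781378
theorem L781388 : sm gc N57894 = N59088 := rfl
theorem L781390 : sm gg N59088 = N58085 := ded_30_2 L771451 (flp_g L769810) L781388
theorem L781392 : sm gh N57894 = N59089 := rfl
theorem L781394 : sm gb N59089 = N57895 := ded_25_1 (flp_h L769812) (flp_b L769808) L781392
theorem L781396 : sm gg N59089 = N58077 := ded_50_1 L771413 (flp_g L769810) L781392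
theorem L781398 : sm gd N59089 = N57909 := ded_38_1 (flp_h L769949) (flp_d L758140) (flp_h L758012) L769806 L781392
theorem L781400 : sm gi N57895 = N59090 := rfl
theorem L781402 : sm gd N59090 = N57910 := ded_39_1 (flp_i L769956) (flp_d L769814) L781400
theorem L781404 : sm ge N57898 = N59091 := rfl
theorem L781406 : sm ga N59091 = N57899 := ded_13_1 (flp_e L769851) L769838 L781404
theorem L781408 : sm gb N59091 = N57999 := ded_21_1 (flp_e L770813) (flp_b L769849) L781404
theorem L781410 : sm gc N59091 = N57991 := ded_28_1 (flp_e L770727) (flp_c L769840) L781404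
theorem L781412 : sm gg N59091 = N57902 := ded_41_2 (flp_e L769876) (flp_g L769844) L781404
theorem L781414 : sm gj N59091 = N57996 := ded_42_2 L770795 (flp_j L769846) L781404
theorem L781416 : sm gi N59091 = N59091 := ded_44_2 (flp_e L781404) L769848 L781404
theorem L781417 : sm gd N57899 = N59092 := rfl
theorem L781419 : sm gb N59092 = N57900 := ded_20_1 (flp_d L769862) (flp_b L769853) L781417
theorem L781421 : sm gg N59092 = N57903 := ded_36_2 (flp_d L769889) (flp_g L769857) L781417
theorem L781423 : sm gj N59092 = N58095 := ded_37_2 L771523 (flp_j L769859) L781417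
theorem L781425 : sm gi N59092 = N59092 := ded_39_2 (flp_d L781417) L769861 L781417
theorem L781426 : sm gc N59092 = N57917 := ded_27_1 L770034 L761367 (flp_d L761363) (flp_c L769855) L781417
theorem L781428 : sm ge N59092 = N59092 := ded_34_2 (flp_d L781417) (flp_e L769851) L758057 L769851 L781417
theorem L781429 : sm gf N57916 = N59092 := ded_22_0 L781419 L774364 L774353
theorem L781431 : sm gf N57899 = N59093 := rfl
theorem L781433 : sm gb N59093 = N57901 := ded_22_1 (flp_f L769868) (flp_b L769853) L781431
theorem L781435 : sm gc N59093 = N57903 := ded_29_1 L769893 (flp_c L769855) L781431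
theorem L781437 : sm gd N59093 = N57916 := ded_35_1 L781429 (flp_d L781417) L781431
theorem L781439 : sm gj N59093 = N57908 := ded_46_2 L769944 (flp_j L769859) L781431
theorem L781441 : sm gi N59093 = N59093 := ded_48_2 (flp_f L781431) L769861 L781431
theorem L781442 : sm ge N59093 = N59093 := ded_40_1 (flp_f L781431) (flp_e L769851) L758058 L769851 L781431
theorem L781443 : sm gg N59093 = N57917 := ded_45_2 (flp_f L770030) L758250 (flp_f L758096) (flp_g L769857) L781431
theorem L781445 : sm gh N57900 = N59094 := rfl
theorem L781447 : sm ge N59094 = N59094 := ded_43_1 (flp_h L781445) L769867 L781445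
theorem L781448 : sm gg N59094 = N57904 := ded_50_1 (flp_h L769899) (flp_g L769864) L781445
theorem L781450 : sm gd N57902 = N59095 := rfl
theorem L781452 : sm ga N59095 = N57903 := ded_12_1 (flp_d L769889) (flp_a L769878) L781450
theorem L781454 : sm gb N59095 = N57992 := ded_20_1 L770746 (flp_b L769880) L781450
theorem L781456 : sm gf N59095 = N57991 := ded_35_2 L770738 (flp_f L769887) L781450
theorem L781458 : sm gj N59095 = N57907 := ded_37_2 (flp_d L769929) (flp_j L769884) L781450
theorem L781460 : sm gi N59095 = N59095 := ded_39_2 (flp_d L781450) L769886 L781450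
theorem L781461 : sm ge N59095 = N59095 := ded_34_2 (flp_d L781450) (flp_e L769876) L758081 L769876 L781450
theorem L781462 : sm gh N57903 = N59096 := rfl
theorem L781464 : sm gb N59096 = N57904 := ded_25_1 (flp_h L769899) (flp_b L769891) L781462
theorem L781466 : sm ge N59096 = N59096 := ded_43_1 (flp_h L781462) L769898 L781462
theorem L781467 : sm gf N59096 = N58332 := ded_47_1 L772977 (flp_f L769893) L781462
theorem L781469 : sm gj N59096 = N57909 := ded_52_1 (flp_h L769949) (flp_j L769895) L781462
theorem L781471 : sm gi N57904 = N59097 := rfl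
theorem L781473 : sm ge N59097 = N59097 := ded_44_1 (flp_i L781471) L769901 L781471
theorem L781474 : sm gf N59097 = N58333 := ded_48_1 L772982 (flp_f L769902) L781471
theorem L781476 : sm gj N59097 = N57910 := ded_53_1 (flp_i L769956) (flp_j L769904) L781471
theorem L781478 : sm gh N59097 = N59097 := ded_54_1 (flp_i L781471) (flp_h L769899) L758104 L769899 L781471
theorem L781479 : sm gi N57906 = N59098 := rfl
theorem L781481 : sm gb N59098 = N58097 := ded_26_1 L771537 (flp_b L769922) L781479
theorem L781483 : sm ge N59098 = N59098 := ded_44_1 (flp_i L781479) L769924 L781479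
theorem L781484 : sm gf N59098 = N58096 := ded_48_1 L771532 (flp_f L769925) L781479
theorem L781486 : sm gg N59098 = N57910 := ded_51_1 (flp_i L769956) (flp_g L769927) L781479
theorem L781488 : sm gh N59098 = N59098 := ded_54_1 (flp_i L781479) (flp_h L769920) L758125 L769920 L781479
theorem L781489 : sm gc N57907 = N59099 := rfl
theorem L781491 : sm ga N59099 = N57908 := ded_11_1 (flp_c L769941) (flp_a L769931) L781489
theorem L781493 : sm ge N59099 = N59099 := ded_28_2 (flp_c L781489) L769940 L781489
theorem L781494 : sm gf N59099 = N57996 := ded_29_2 L770793 (flp_f L769935) L781489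
theorem L781496 : sm gg N59099 = N57992 := ded_30_2 L770744 (flp_g L769937) L781489
theorem L781498 : sm gi N59099 = N59099 := ded_33_2 (flp_c L781489) L769939 L781489
theorem L781499 : sm gd N59099 = N57999 := ded_27_2 L770815 L759090 (flp_c L758133) L769929 L781489
theorem L781501 : sm gh N57907 = N59100 := rfl
theorem L781503 : sm ga N59100 = N57909 := ded_17_1 (flp_h L769949) (flp_a L769931) L781501
theorem L781505 : sm gb N59100 = N58336 := ded_25_1 L772996 (flp_b L769933) L781501
theorem L781507 : sm ge N59100 = N59100 := ded_43_1 (flp_h L781501) L769940 L781501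
theorem L781508 : sm gf N59100 = N58331 := ded_47_1 L772971 (flp_f L769935) L781501
theorem L781510 : sm gg N59100 = N58001 := ded_50_1 L770834 (flp_g L769937) L781501
theorem L781512 : sm gh N57908 = N59101 := rfl
theorem L781514 : sm gc N59101 = N57909 := ded_32_1 (flp_h L769949) L769941 L781512
theorem L781516 : sm ge N59101 = N59101 := ded_43_1 (flp_h L781512) L769943 L781512
theorem L781517 : sm gf N59101 = N58055 := ded_47_1 L771264 (flp_f L769944) L781512
theorem L781519 : sm gg N59101 = N58038 := ded_50_1 L771143 (flp_g L769946) L781512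
theorem L781521 : sm gd N57911 = N59102 := rfl
theorem L781523 : sm ga N59102 = N58240 := ded_12_1 (flp_d L772410) (flp_a L769962) L781521
theorem L781525 : sm gb N59102 = N58010 := ded_20_1 (flp_d L770914) (flp_b L769964) L781521
theorem L781527 : sm gg N59102 = N58014 := ded_36_2 (flp_d L770946) (flp_g L769968) L781521
theorem L781529 : sm gi N59102 = N57912 := ded_39_2 (flp_d L769974) (flp_i L769972) L781521
theorem L781531 : sm gf N57912 = N59103 := rfl
theorem L781533 : sm ga N59103 = N58017 := ded_14_1 L770980 (flp_a L769976) L781531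
theorem L781535 : sm gb N59103 = N58035 := ded_22_1 L771125 (flp_b L769978) L781531
theorem L781537 : sm gd N59103 = N57913 := ded_35_1 (flp_f L769984) L769974 L781531
theorem L781539 : sm gj N59103 = N57954 := ded_46_2 (flp_f L774021) L774025 L781531
theorem L781541 : sm gh N59103 = N57940 := ded_47_2 L770270 (flp_h L769982) L781531
theorem L781543 : sm ge N57914 = N59104 := rfl
theorem L781545 : sm ga N59104 = N57916 := ded_13_1 (flp_e L770023) (flp_a L769999) L781543
theorem L781547 : sm gb N59104 = N57996 := ded_21_1 L770795 (flp_b L770007) L781543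
theorem L781549 : sm gc N59104 = N57915 := ded_28_1 (flp_e L770010) L769997 L781543
theorem L781551 : sm gg N59104 = N57993 := ded_41_2 L770763 (flp_g L770002) L781543
theorem L781553 : sm gj N59104 = N57999 := ded_42_2 (flp_e L770813) (flp_j L770004) L781543
theorem L781555 : sm gi N59104 = N59104 := ded_44_2 (flp_e L781543) L770006 L781543
theorem L781556 : sm gf N57915 = N59105 := rfl
theorem L781558 : sm ga N59105 = N57917 := ded_14_1 (flp_f L770030) (flp_a L770012) L781556
theorem L781560 : sm gb N59105 = N57995 := ded_22_1 (flp_f L770777) (flp_b L770014) L781556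
theorem L781562 : sm gd N59105 = N57993 := ded_35_1 (flp_f L770752) (flp_d L770021) L781556
theorem L781564 : sm gj N59105 = N58000 := ded_46_2 (flp_f L770820) (flp_j L770018) L781556
theorem L781566 : sm gi N59105 = N59105 := ded_48_2 (flp_f L781556) L770020 L781556
theorem L781567 : sm ge N59105 = N59105 := ded_40_1 (flp_f L781556) (flp_e L770010) L758233 L770010 L781556
theorem L781568 : sm gb N57918 = N59106 := rfl
theorem L781570 : sm ge N59106 = N57923 := ded_21_2 (flp_b L770096) (flp_e L770042) L781568
theorem L781572 : sm gf N59106 = N58130 := ded_22_2 (flp_b L771766) (flp_f L770044) L781568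
theorem L781574 : sm gj N59106 = N57922 := ded_24_2 (flp_b L770090) (flp_j L770046) L781568
theorem L781576 : sm gh N59106 = N57973 := ded_25_2 (flp_b L770581) (flp_h L770048) L781568
theorem L781578 : sm gi N59106 = N57919 := ded_26_2 (flp_b L770052) (flp_i L770050) L781568
theorem L781580 : sm gc N59106 = N58109 := ded_19_2 (flp_b L771628) (flp_c L759975) (flp_b L758273) L770038 L781568
theorem L781582 : sm ga N57919 = N59107 := rfl
theorem L781584 : sm gc N59107 = N58123 := ded_11_2 (flp_a L771717) (flp_c L770060) L781582
theorem L781586 : sm ge N59107 = N57937 := ded_13_2 (flp_a L770242) (flp_e L770054) L781582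
theorem L781588 : sm gf N59107 = N58136 := ded_14_2 (flp_a L771800) (flp_f L770056) L781582
theorem L781590 : sm gh N59107 = N57951 := ded_17_2 (flp_a L770373) (flp_h L770058) L781582
theorem L781592 : sm gb N59107 = N58177 := ded_10_2 (flp_a L772028) (flp_b L760371) (flp_a L758287) L770052 L781582
theorem L781594 : sm gb N57920 = N59108 := rfl
theorem L781596 : sm ge N59108 = N57936 := ded_21_2 (flp_b L770230) (flp_e L770066) L781594
theorem L781598 : sm gf N59108 = N58103 := ded_22_2 (flp_b L771590) (flp_f L770068) L781594
theorem L781600 : sm gj N59108 = N58109 := ded_24_2 (flp_b L771628) (flp_j L770070) L781594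
theorem L781602 : sm gh N59108 = N57953 := ded_25_2 (flp_b L770397) (flp_h L770072) L781594
theorem L781604 : sm gi N59108 = N58110 := ded_26_2 (flp_b L771634) (flp_i L770074) L781594
theorem L781606 : sm gc N59108 = N57922 := ded_19_2 (flp_b L770090) (flp_c L758327) (flp_b L758299) L770062 L781594
theorem L781608 : sm gb N57921 = N59109 := rfl
theorem L781610 : sm ge N59109 = N58122 := ded_21_2 (flp_b L771709) (flp_e L770080) L781608
theorem L781612 : sm gf N59109 = N57922 := ded_22_2 (flp_b L770090) (flp_f L770082) L781608
theorem L781614 : sm gj N59109 = N58130 := ded_24_2 (flp_b L771766) (flp_j L770084) L781608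
theorem L781616 : sm gh N59109 = N57986 := ded_25_2 (flp_b L770681) (flp_h L770086) L781608
theorem L781618 : sm gi N59109 = N58132 := ded_26_2 (flp_b L771778) (flp_i L770088) L781608
theorem L781620 : sm gc N59109 = N58103 := ded_19_2 (flp_b L771590) (flp_c L759920) (flp_b L758315) L770076 L781608
theorem L781622 : sm ga N57922 = N59110 := rfl
theorem L781624 : sm ge N59110 = N58177 := ded_13_2 (flp_a L772028) (flp_e L770092) L781622
theorem L781626 : sm gh N59110 = N57987 := ded_17_2 (flp_a L770689) (flp_h L770094) L781622
theorem L781628 : sm gb N59110 = N57937 := ded_10_2 (flp_a L770242) (flp_b L758472) (flp_a L758329) L770090 L781622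
theorem L781630 : sm ga N57923 = N59111 := rfl
theorem L781632 : sm gc N59111 = N58146 := ded_11_2 (flp_a L771860) (flp_c L770106) L781630
theorem L781634 : sm gf N59111 = N58156 := ded_14_2 (flp_a L771916) (flp_f L770098) L781630
theorem L781636 : sm gj N59111 = N58177 := ded_16_2 (flp_a L772028) (flp_j L770100) L781630
theorem L781638 : sm gh N59111 = N58301 := ded_17_2 (flp_a L772803) (flp_h L770102) L781630
theorem L781640 : sm gi N59111 = N57937 := ded_18_2 (flp_a L770242) (flp_i L770104) L781630
theorem L781642 : sm gb N57924 = N59112 := rfl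
theorem L781644 : sm ge N59112 = N57934 := ded_21_2 (flp_b L770218) (flp_e L770110) L781642
theorem L781646 : sm gg N59112 = N57926 := ded_23_2 (flp_b L770128) (flp_g L770112) L781642
theorem L781648 : sm gh N59112 = N58041 := ded_25_2 (flp_b L771155) (flp_h L770114) L781642
theorem L781650 : sm gi N59112 = N58176 := ded_26_2 (flp_b L772022) (flp_i L770116) L781642
theorem L781652 : sm gc N59112 = N58151 := ded_19_2 (flp_b L771886) (flp_c L760237) (flp_b L758347) L770108 L781642
theorem L781654 : sm gb N57925 = N59113 := rfl
theorem L781656 : sm gd N59113 = N57926 := ded_20_2 (flp_b L770128) (flp_d L770126) L781654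
theorem L781658 : sm gf N59113 = N58143 := ded_22_2 (flp_b L771842) (flp_f L770120) L781654
theorem L781660 : sm gj N59113 = N57934 := ded_24_2 (flp_b L770218) (flp_j L770122) L781654
theorem L781662 : sm gi N59113 = N58170 := ded_26_2 (flp_b L771992) (flp_i L770124) L781654
theorem L781664 : sm ga N57926 = N59114 := rfl
theorem L781666 : sm gc N59114 = N58156 := ded_11_2 (flp_a L771916) (flp_c L770138) L781664
theorem L781668 : sm gf N59114 = N58146 := ded_14_2 (flp_a L771860) (flp_f L770130) L781664
theorem L781670 : sm gj N59114 = N57937 := ded_16_2 (flp_a L770242) (flp_j L770132) L781664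
theorem L781672 : sm gh N59114 = N58057 := ded_17_2 (flp_a L771278) (flp_h L770134) L781664
theorem L781674 : sm gi N59114 = N58177 := ded_18_2 (flp_a L772028) (flp_i L770136) L781664
theorem L781676 : sm gc N57927 = N59115 := rfl
theorem L781678 : sm gf N59115 = N57928 := ded_29_2 (flp_c L770152) (flp_f L770144) L781676
theorem L781680 : sm gj N59115 = N58137 := ded_31_2 (flp_c L771806) (flp_j L770146) L781676
theorem L781682 : sm gh N59115 = N58190 := ded_32_2 (flp_c L772116) (flp_h L770150) L781676
theorem L781684 : sm gi N59115 = N58152 := ded_33_2 (flp_c L771892) (flp_i L770148) L781676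
theorem L781686 : sm gd N59115 = N58161 := ded_27_2 (flp_c L771944) (flp_d L760291) (flp_c L758379) L770140 L781676
theorem L781688 : sm ge N57927 = N59116 := rfl
theorem L781690 : sm gb N59116 = N57933 := ded_21_1 (flp_e L770210) (flp_b L770142) L781688
theorem L781692 : sm gj N59116 = N58138 := ded_42_2 (flp_e L771810) (flp_j L770146) L781688
theorem L781694 : sm gh N59116 = N58191 := ded_43_2 (flp_e L772120) (flp_h L770150) L781688
theorem L781696 : sm gi N59116 = N58153 := ded_44_2 (flp_e L771896) (flp_i L770148) L781688
theorem L781698 : sm gd N59116 = N57938 := ded_34_1 (flp_e L770248) (flp_d L758478) (flp_e L758381) L770140 L781688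
theorem L781700 : sm gf N59116 = N58150 := ded_40_2 (flp_e L771882) L760233 (flp_e L758395) (flp_f L770144) L781688
theorem L781702 : sm gb N57928 = N59117 := rfl
theorem L781704 : sm gd N59117 = N58162 := ded_20_2 (flp_b L771948) (flp_d L770160) L781702
theorem L781706 : sm ge N59117 = N58151 := ded_21_2 (flp_b L771886) (flp_e L770154) L781702
theorem L781708 : sm gg N59117 = N58110 := ded_23_2 (flp_b L771634) (flp_g L770156) L781702
theorem L781710 : sm gh N59117 = N58192 := ded_25_2 (flp_b L772125) (flp_h L770158) L781702
theorem L781712 : sm gc N59117 = N57934 := ded_19_2 (flp_b L770218) (flp_c L758448) (flp_b L758391) L770152 L781702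
theorem L781714 : sm gc N57929 = N59118 := rfl
theorem L781716 : sm ga N59118 = N58283 := ded_11_1 (flp_c L772672) (flp_a L770164) L781714
theorem L781718 : sm gf N59118 = N57930 := ded_29_2 (flp_c L770176) (flp_f L770168) L781714
theorem L781720 : sm gg N59118 = N58222 := ded_30_2 (flp_c L772313) (flp_g L770170) L781714
theorem L781722 : sm gj N59118 = N58141 := ded_31_2 (flp_c L771833) (flp_j L770172) L781714
theorem L781724 : sm gh N59118 = N57932 := ded_32_2 (flp_c L770200) (flp_h L770174) L781714
theorem L781726 : sm gd N59118 = N58071 := ded_27_2 (flp_c L771378) (flp_d L759666) (flp_c L758405) L770162 L781714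
theorem L781728 : sm ge N57929 = N59119 := rfl
theorem L781730 : sm ga N59119 = N58284 := ded_13_1 (flp_e L772678) (flp_a L770164) L781728
theorem L781732 : sm gb N59119 = N58191 := ded_21_1 (flp_e L772120) (flp_b L770166) L781728
theorem L781734 : sm gg N59119 = N58223 := ded_41_2 (flp_e L772319) (flp_g L770170) L781728
theorem L781736 : sm gj N59119 = N58142 := ded_42_2 (flp_e L771837) (flp_j L770172) L781728
theorem L781738 : sm gh N59119 = N57933 := ded_43_2 (flp_e L770210) (flp_h L770174) L781728
theorem L781740 : sm gd N59119 = N59119 := ded_34_1 (flp_e L781728) (flp_d L770162) L758407 L770162 L781728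
theorem L781741 : sm gf N59119 = N58040 := ded_40_2 (flp_e L771150) L759461 (flp_e L758422) (flp_f L770168) L781728
theorem L781743 : sm gb N57930 = N59120 := rfl
theorem L781745 : sm gd N59120 = N58075 := ded_20_2 (flp_b L771399) (flp_d L770186) L781743
theorem L781747 : sm ge N59120 = N58041 := ded_21_2 (flp_b L771155) (flp_e L770180) L781743
theorem L781749 : sm gg N59120 = N57945 := ded_23_2 (flp_b L770325) (flp_g L770182) L781743
theorem L781751 : sm gh N59120 = N57934 := ded_25_2 (flp_b L770218) (flp_h L770184) L781743
theorem L781753 : sm gc N59120 = N58192 := ded_19_2 (flp_b L772125) (flp_c L760479) (flp_b L758418) L770176 L781743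
theorem L781755 : sm gc N57931 = N59121 := rfl
theorem L781757 : sm ga N59121 = N58149 := ded_11_1 (flp_c L771876) (flp_a L770190) L781755
theorem L781759 : sm gf N59121 = N58131 := ded_29_2 (flp_c L771770) (flp_f L770192) L781755
theorem L781761 : sm gg N59121 = N57932 := ded_30_2 (flp_c L770200) (flp_g L770194) L781755
theorem L781763 : sm gh N59121 = N58222 := ded_32_2 (flp_c L772313) (flp_h L770198) L781755
theorem L781765 : sm gi N59121 = N58147 := ded_33_2 (flp_c L771864) (flp_i L770196) L781755
theorem L781767 : sm gd N59121 = N57935 := ded_27_2 (flp_c L770222) (flp_d L758452) (flp_c L758430) L770188 L781755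
theorem L781769 : sm ge N57931 = N59122 := rfl
theorem L781771 : sm ga N59122 = N58150 := ded_13_1 (flp_e L771882) (flp_a L770190) L781769
theorem L781773 : sm gg N59122 = N57933 := ded_41_2 (flp_e L770210) (flp_g L770194) L781769
theorem L781775 : sm gh N59122 = N58223 := ded_43_2 (flp_e L772319) (flp_h L770198) L781769
theorem L781777 : sm gi N59122 = N58148 := ded_44_2 (flp_e L771870) (flp_i L770196) L781769
theorem L781779 : sm gd N59122 = N57939 := ded_34_1 (flp_e L770257) (flp_d L758489) (flp_e L758432) L770188 L781769
theorem L781781 : sm gb N57932 = N59123 := rfl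
theorem L781783 : sm gd N59123 = N57936 := ded_20_2 (flp_b L770230) (flp_d L770208) L781781
theorem L781785 : sm gf N59123 = N57934 := ded_22_2 (flp_b L770218) (flp_f L770202) L781781
theorem L781787 : sm gj N59123 = N58143 := ded_24_2 (flp_b L771842) (flp_j L770204) L781781
theorem L781789 : sm gi N59123 = N58154 := ded_26_2 (flp_b L771904) (flp_i L770206) L781781
theorem L781791 : sm ge N57932 = N59124 := rfl
theorem L781793 : sm gc N59124 = N57933 := ded_28_1 (flp_e L770210) L770200 L781791
theorem L781795 : sm gj N59124 = N58144 := ded_42_2 (flp_e L771848) (flp_j L770204) L781791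
theorem L781797 : sm gi N59124 = N58155 := ded_44_2 (flp_e L771910) (flp_i L770206) L781791
theorem L781799 : sm ga N57934 = N59125 := rfl
theorem L781801 : sm gd N59125 = N57937 := ded_12_2 (flp_a L770242) (flp_d L770220) L781799
theorem L781803 : sm gb N57935 = N59126 := rfl
theorem L781805 : sm gg N59126 = N57936 := ded_23_2 (flp_b L770230) (flp_g L770224) L781803
theorem L781807 : sm gh N59126 = N58087 := ded_25_2 (flp_b L771457) (flp_h L770226) L781803
theorem L781809 : sm gi N59126 = N58151 := ded_26_2 (flp_b L771886) (flp_i L770228) L781803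
theorem L781811 : sm gc N59126 = N58176 := ded_19_2 (flp_b L772022) (flp_c L760365) (flp_b L758454) L770222 L781803
theorem L781813 : sm ga N57936 = N59127 := rfl
theorem L781815 : sm gc N59127 = N58177 := ded_11_2 (flp_a L772028) (flp_c L770240) L781813
theorem L781817 : sm gf N59127 = N57937 := ded_14_2 (flp_a L770242) (flp_f L770232) L781813
theorem L781819 : sm gj N59127 = N58146 := ded_16_2 (flp_a L771860) (flp_j L770234) L781813
theorem L781821 : sm gh N59127 = N58088 := ded_17_2 (flp_a L771463) (flp_h L770236) L781813
theorem L781823 : sm gi N59127 = N58156 := ded_18_2 (flp_a L771916) (flp_i L770238) L781813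
theorem L781825 : sm gc N57940 = N59128 := rfl
theorem L781827 : sm ga N59128 = N58018 := ded_11_1 (flp_c L770986) (flp_a L770268) L781825
theorem L781829 : sm gf N59128 = N58216 := ded_29_2 (flp_c L772277) (flp_f L770270) L781825
theorem L781831 : sm gj N59128 = N57955 := ded_31_2 (flp_c L770411) (flp_j L770272) L781825
theorem L781833 : sm gi N59128 = N57969 := ded_33_2 (flp_c L770539) (flp_i L770274) L781825
theorem L781835 : sm gd N59128 = N57942 := ded_27_2 (flp_c L770287) (flp_d L758534) (flp_c L758511) L770266 L781825
theorem L781837 : sm ge N57940 = N59129 := rfl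
theorem L781839 : sm ga N59129 = N58019 := ded_13_1 (flp_e L770996) (flp_a L770268) L781837
theorem L781841 : sm gj N59129 = N57956 := ded_42_2 (flp_e L770419) (flp_j L770272) L781837
theorem L781843 : sm gi N59129 = N57970 := ded_44_2 (flp_e L770547) (flp_i L770274) L781837
theorem L781845 : sm gd N59129 = N57941 := ded_34_1 (flp_e L770276) (flp_d L758521) (flp_e L758513) L770266 L781837
theorem L781847 : sm gb N57942 = N59130 := rfl
theorem L781849 : sm ge N59130 = N58008 := ded_21_2 (flp_b L770895) (flp_e L770291) L781847
theorem L781851 : sm gf N59130 = N58218 := ded_22_2 (flp_b L772289) (flp_f L770293) L781847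
theorem L781853 : sm gj N59130 = N57957 := ded_24_2 (flp_b L770427) (flp_j L770295) L781847
theorem L781855 : sm gh N59130 = N57944 := ded_25_2 (flp_b L770315) (flp_h L770297) L781847
theorem L781857 : sm gi N59130 = N57973 := ded_26_2 (flp_b L770581) (flp_i L770299) L781847
theorem L781859 : sm gc N59130 = N58182 := ded_19_2 (flp_b L772060) (flp_c L760419) (flp_b L758538) L770287 L781847
theorem L781861 : sm gb N57943 = N59131 := rfl
theorem L781863 : sm ge N59131 = N58020 := ded_21_2 (flp_b L771004) (flp_e L770305) L781861
theorem L781865 : sm gf N59131 = N58219 := ded_22_2 (flp_b L772293) (flp_f L770307) L781861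
theorem L781867 : sm gj N59131 = N57944 := ded_24_2 (flp_b L770315) (flp_j L770309) L781861
theorem L781869 : sm gh N59131 = N57957 := ded_25_2 (flp_b L770427) (flp_h L770311) L781861
theorem L781871 : sm gi N59131 = N57945 := ded_26_2 (flp_b L770325) (flp_i L770313) L781861
theorem L781873 : sm gc N59131 = N58184 := ded_19_2 (flp_b L772074) (flp_c L760433) (flp_b L758554) L770301 L781861
theorem L781875 : sm ga N57944 = N59132 := rfl
theorem L781877 : sm gc N59132 = N58186 := ded_11_2 (flp_a L772090) (flp_c L770323) L781875
theorem L781879 : sm ge N59132 = N58034 := ded_13_2 (flp_a L771117) (flp_e L770317) L781875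
theorem L781881 : sm gf N59132 = N58220 := ded_14_2 (flp_a L772299) (flp_f L770319) L781875
theorem L781883 : sm gi N59132 = N57951 := ded_18_2 (flp_a L770373) (flp_i L770321) L781875
theorem L781885 : sm gb N59132 = N58277 := ded_10_2 (flp_a L772633) (flp_b L760975) (flp_a L758568) L770315 L781875
theorem L781887 : sm ga N57945 = N59133 := rfl
theorem L781889 : sm gc N59133 = N58202 := ded_11_2 (flp_a L772191) (flp_c L770333) L781887
theorem L781891 : sm ge N59133 = N58057 := ded_13_2 (flp_a L771278) (flp_e L770327) L781887
theorem L781893 : sm gf N59133 = N58227 := ded_14_2 (flp_a L772338) (flp_f L770329) L781887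
theorem L781895 : sm gj N59133 = N57951 := ded_16_2 (flp_a L770373) (flp_j L770331) L781887
theorem L781897 : sm gb N59133 = N58301 := ded_10_2 (flp_a L772803) (flp_b L761138) (flp_a L758578) L770325 L781887
theorem L781899 : sm gc N57946 = N59134 := rfl
theorem L781901 : sm ga N59134 = N57947 := ded_11_1 (flp_c L770347) (flp_a L770337) L781899
theorem L781903 : sm gf N59134 = N58228 := ded_29_2 (flp_c L772344) (flp_f L770341) L781899
theorem L781905 : sm gg N59134 = N58029 := ded_30_2 (flp_c L771073) (flp_g L770343) L781899
theorem L781907 : sm gi N59134 = N58079 := ded_33_2 (flp_c L771419) (flp_i L770345) L781899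
theorem L781909 : sm gd N59134 = N58032 := ded_27_2 (flp_c L771095) (flp_d L759410) (flp_c L758592) L770335 L781899
theorem L781911 : sm gb N57947 = N59135 := rfl
theorem L781913 : sm gd N59135 = N58207 := ded_20_2 (flp_b L772231) (flp_d L770351) L781911
theorem L781915 : sm gf N59135 = N58230 := ded_22_2 (flp_b L772352) (flp_f L770349) L781911
theorem L781917 : sm gc N59135 = N57949 := ded_19_2 (flp_b L770359) (flp_c L758614) (flp_b L758604) L770347 L781911
theorem L781919 : sm ge N57947 = N59136 := rfl
theorem L781921 : sm gc N59136 = N57948 := ded_28_1 (flp_e L770353) L770347 L781919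
theorem L781923 : sm ga N57949 = N59137 := rfl
theorem L781925 : sm gd N59137 = N57951 := ded_12_2 (flp_a L770373) (flp_d L770361) L781923
theorem L781927 : sm gf N59137 = N58233 := ded_14_2 (flp_a L772366) (flp_f L770363) L781923
theorem L781929 : sm gb N59137 = N58323 := ded_10_2 (flp_a L772923) (flp_b L761234) (flp_a L758616) L770359 L781923
theorem L781931 : sm ge N57949 = N59138 := rfl
theorem L781933 : sm gb N59138 = N57950 := ded_21_1 (flp_e L770365) L770359 L781931
theorem L781935 : sm gd N59138 = N58084 := ded_34_1 (flp_e L771445) L759710 (flp_e L758630) (flp_d L770361) L781931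
theorem L781937 : sm gb N57952 = N59139 := rfl
theorem L781939 : sm ge N59139 = N58056 := ded_21_2 (flp_b L771266) (flp_e L770387) L781937
theorem L781941 : sm gf N59139 = N58180 := ded_22_2 (flp_b L772048) (flp_f L770389) L781937
theorem L781943 : sm gj N59139 = N57953 := ded_24_2 (flp_b L770397) (flp_j L770391) L781937
theorem L781945 : sm gh N59139 = N58109 := ded_25_2 (flp_b L771628) (flp_h L770393) L781937
theorem L781947 : sm gi N59139 = N58182 := ded_26_2 (flp_b L772060) (flp_i L770395) L781937
theorem L781949 : sm gc N59139 = N57973 := ded_19_2 (flp_b L770581) (flp_c L758856) (flp_b L758654) L770383 L781937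
theorem L781951 : sm ga N57953 = N59140 := rfl
theorem L781953 : sm gc N59140 = N57987 := ded_11_2 (flp_a L770689) (flp_c L770403) L781951
theorem L781955 : sm ge N59140 = N58088 := ded_13_2 (flp_a L771463) (flp_e L770399) L781951
theorem L781957 : sm gf N59140 = N58181 := ded_14_2 (flp_a L772054) (flp_f L770401) L781951
theorem L781959 : sm gb N59140 = N58214 := ded_10_2 (flp_a L772264) (flp_b L760603) (flp_a L758668) L770397 L781951
theorem L781961 : sm gc N57954 = N59141 := rfl
theorem L781963 : sm ga N59141 = N58027 := ded_11_1 (flp_c L771064) (flp_a L770407) L781961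
theorem L781965 : sm gh N59141 = N57955 := ded_32_2 (flp_c L770411) (flp_h L770409) L781961
theorem L781967 : sm ge N57954 = N59142 := rfl
theorem L781969 : sm ga N59142 = N58028 := ded_13_1 (flp_e L771068) (flp_a L770407) L781967
theorem L781971 : sm gh N59142 = N57956 := ded_43_2 (flp_e L770419) (flp_h L770409) L781967
theorem L781973 : sm gd N59142 = N59142 := ded_34_1 (flp_e L781967) (flp_d L770405) L758678 L770405 L781967
theorem L781974 : sm gb N57955 = N59143 := rfl
theorem L781976 : sm gd N59143 = N57957 := ded_20_2 (flp_b L770427) (flp_d L770417) L781974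
theorem L781978 : sm gi N59143 = N57983 := ded_26_2 (flp_b L770663) (flp_i L770415) L781974
theorem L781980 : sm ge N57955 = N59144 := rfl
theorem L781982 : sm ga N59144 = N58031 := ded_13_1 (flp_e L771089) (flp_a L770413) L781980
theorem L781984 : sm gc N59144 = N57956 := ded_28_1 (flp_e L770419) L770411 L781980
theorem L781986 : sm gi N59144 = N57984 := ded_44_2 (flp_e L770667) (flp_i L770415) L781980
theorem L781988 : sm gd N59144 = N58273 := ded_34_1 (flp_e L772609) L760949 (flp_e L758698) (flp_d L770417) L781980
theorem L781990 : sm ga N57957 = N59145 := rfl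
theorem L781992 : sm ge N59145 = N58277 := ded_13_2 (flp_a L772633) (flp_e L770429) L781990
theorem L781994 : sm gi N59145 = N57987 := ded_18_2 (flp_a L770689) (flp_i L770431) L781990
theorem L781996 : sm gb N59145 = N58034 := ded_10_2 (flp_a L771117) (flp_b L759432) (flp_a L758696) L770427 L781990
theorem L781998 : sm gd N57958 = N59146 := rfl
theorem L782000 : sm ga N59146 = N58236 := ded_12_1 (flp_d L772390) (flp_a L770435) L781998
theorem L782002 : sm gb N59146 = N57960 := ded_20_1 (flp_d L770458) (flp_b L770437) L781998
theorem L782004 : sm gg N59146 = N57964 := ded_36_2 (flp_d L770494) (flp_g L770441) L781998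
theorem L782006 : sm gj N59146 = N58298 := ded_37_2 L772789 (flp_j L770443) L781998
theorem L782008 : sm gh N59146 = N58234 := ded_38_2 (flp_d L772372) (flp_h L760730) (flp_d L758708) L770433 L781998
theorem L782010 : sm ge N57959 = N59147 := rfl
theorem L782012 : sm ga N59147 = N58332 := ded_13_1 (flp_e L772973) (flp_a L770447) L782010
theorem L782014 : sm gb N59147 = N57961 := ded_21_1 (flp_e L770468) (flp_b L770449) L782010
theorem L782016 : sm gg N59147 = N57965 := ded_41_2 (flp_e L770500) (flp_g L770452) L782010
theorem L782018 : sm gj N59147 = N58331 := ded_42_2 L772969 (flp_j L770454) L782010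
theorem L782020 : sm gh N59147 = N57991 := ded_43_2 (flp_e L770727) (flp_h L770456) L782010
theorem L782022 : sm gc N57960 = N59148 := rfl
theorem L782024 : sm ga N59148 = N58036 := ded_11_1 (flp_c L771127) (flp_a L770460) L782022
theorem L782026 : sm gg N59148 = N57969 := ded_30_2 (flp_c L770539) (flp_g L770462) L782022
theorem L782028 : sm gj N59148 = N58310 := ded_31_2 (flp_c L772849) (flp_j L770464) L782022
theorem L782030 : sm gh N59148 = N58318 := ded_32_2 (flp_c L772895) (flp_h L770466) L782022
theorem L782032 : sm gd N59148 = N57963 := ded_27_2 (flp_c L770486) (flp_d L758759) (flp_c L758731) L770458 L782022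
theorem L782034 : sm ge N57960 = N59149 := rfl
theorem L782036 : sm ga N59149 = N58037 := ded_13_1 (flp_e L771133) (flp_a L770460) L782034
theorem L782038 : sm gg N59149 = N57970 := ded_41_2 (flp_e L770547) (flp_g L770462) L782034
theorem L782040 : sm gj N59149 = N58311 := ded_42_2 (flp_e L772855) (flp_j L770464) L782034
theorem L782042 : sm gh N59149 = N58319 := ded_43_2 (flp_e L772901) (flp_h L770466) L782034
theorem L782044 : sm gd N59149 = N57961 := ded_34_1 (flp_e L770468) (flp_d L758739) (flp_e L758733) L770458 L782034
theorem L782046 : sm gf N57961 = N59150 := rfl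
theorem L782048 : sm ga N59150 = N58038 := ded_14_1 (flp_f L771139) (flp_a L770470) L782046
theorem L782050 : sm gc N59150 = N58001 := ded_29_1 (flp_f L770830) (flp_c L770472) L782046
theorem L782052 : sm gj N59150 = N58336 := ded_46_2 (flp_f L772994) (flp_j L770476) L782046
theorem L782054 : sm gh N59150 = N57992 := ded_47_2 (flp_f L770740) (flp_h L770478) L782046
theorem L782056 : sm ge N59150 = N59150 := ded_40_1 (flp_f L782046) (flp_e L770468) L758743 L770468 L782046
theorem L782057 : sm gc N57962 = N59151 := rfl
theorem L782059 : sm ga N59151 = N58039 := ded_11_1 (flp_c L771146) (flp_a L770482) L782057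
theorem L782061 : sm gf N59151 = N57963 := ded_29_2 (flp_c L770486) (flp_f L770484) L782057
theorem L782063 : sm ge N57962 = N59152 := rfl
theorem L782065 : sm ga N59152 = N58040 := ded_13_1 (flp_e L771150) (flp_a L770482) L782063
theorem L782067 : sm gd N59152 = N59152 := ded_34_1 (flp_e L782063) (flp_d L770480) L758756 L770480 L782063
theorem L782068 : sm gf N59152 = N58284 := ded_40_2 (flp_e L772678) L761041 (flp_e L758765) (flp_f L770484) L782063
theorem L782070 : sm gb N57963 = N59153 := rfl
theorem L782072 : sm ge N59153 = N58300 := ded_21_2 (flp_b L772799) (flp_e L770490) L782070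
theorem L782074 : sm gg N59153 = N57973 := ded_23_2 (flp_b L770581) (flp_g L770492) L782070
theorem L782076 : sm gc N57964 = N59154 := rfl
theorem L782078 : sm gj N59154 = N57975 := ded_31_2 (flp_c L770595) (flp_j L770498) L782076
theorem L782080 : sm ge N57964 = N59155 := rfl
theorem L782082 : sm gb N59155 = N57970 := ded_21_1 (flp_e L770547) (flp_b L770496) L782080
theorem L782084 : sm gj N59155 = N57976 := ded_42_2 (flp_e L770599) (flp_j L770498) L782080
theorem L782086 : sm gd N59155 = N57965 := ded_34_1 (flp_e L770500) (flp_d L758775) (flp_e L758771) L770494 L782080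
theorem L782088 : sm gf N57965 = N59156 := rfl
theorem L782090 : sm ga N59156 = N58239 := ded_14_1 (flp_f L776304) L776290 L782088
theorem L782092 : sm gb N59156 = N57971 := ded_22_1 (flp_f L770555) (flp_b L770502) L782088
theorem L782094 : sm gc N59156 = N58235 := ded_29_1 (flp_f L781324) L781318 L782088
theorem L782096 : sm gj N59156 = N57977 := ded_46_2 (flp_f L770607) (flp_j L770504) L782088
theorem L782098 : sm gh N59156 = N57993 := ded_47_2 (flp_f L770752) (flp_h L770506) L782088
theorem L782100 : sm ge N59156 = N57988 := ded_40_1 (flp_f L770695) (flp_e L758945) (flp_f L758779) L770500 L782088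
theorem L782102 : sm gd N57966 = N59157 := rfl
theorem L782104 : sm ga N59157 = N58046 := ded_12_1 (flp_d L771196) (flp_a L770510) L782102
theorem L782106 : sm gf N59157 = N57967 := ded_35_2 (flp_d L770519) (flp_f L770515) L782102
theorem L782108 : sm gj N59157 = N57978 := ded_37_2 (flp_d L770619) (flp_j L770517) L782102
theorem L782110 : sm gh N59157 = N57968 := ded_38_2 (flp_d L770529) (flp_h L758810) (flp_d L758791) L770508 L782102
theorem L782112 : sm gc N57967 = N59158 := rfl
theorem L782114 : sm ga N59158 = N58048 := ded_11_1 (flp_c L771210) (flp_a L770521) L782112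
theorem L782116 : sm gg N59158 = N58318 := ded_30_2 (flp_c L772895) (flp_g L770523) L782112
theorem L782118 : sm gj N59158 = N57979 := ded_31_2 (flp_c L770629) (flp_j L770525) L782112
theorem L782120 : sm gh N59158 = N57969 := ded_32_2 (flp_c L770539) (flp_h L770527) L782112
theorem L782122 : sm gd N59158 = N58299 := ded_27_2 (flp_c L772793) (flp_d L761128) (flp_c L758802) L770519 L782112
theorem L782124 : sm ge N57967 = N59159 := rfl
theorem L782126 : sm ga N59159 = N58049 := ded_13_1 (flp_e L771216) (flp_a L770521) L782124
theorem L782128 : sm gg N59159 = N58319 := ded_41_2 (flp_e L772901) (flp_g L770523) L782124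
theorem L782130 : sm gj N59159 = N57980 := ded_42_2 (flp_e L770639) (flp_j L770525) L782124
theorem L782132 : sm gh N59159 = N57970 := ded_43_2 (flp_e L770547) (flp_h L770527) L782124
theorem L782134 : sm gd N59159 = N57994 := ded_34_1 (flp_e L770765) (flp_d L759030) (flp_e L758804) L770519 L782124
theorem L782136 : sm gc N57968 = N59160 := rfl
theorem L782138 : sm ga N59160 = N58050 := ded_11_1 (flp_c L771224) (flp_a L770531) L782136
theorem L782140 : sm gf N59160 = N57969 := ded_29_2 (flp_c L770539) (flp_f L770533) L782136
theorem L782142 : sm gj N59160 = N57981 := ded_31_2 (flp_c L770649) (flp_j L770535) L782136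
theorem L782144 : sm gi N59160 = N58216 := ded_33_2 (flp_c L772277) (flp_i L770537) L782136
theorem L782146 : sm gd N59160 = N57972 := ded_27_2 (flp_c L770567) (flp_d L758840) (flp_c L758814) L770529 L782136
theorem L782148 : sm ge N57968 = N59161 := rfl
theorem L782150 : sm ga N59161 = N58051 := ded_13_1 (flp_e L771234) (flp_a L770531) L782148
theorem L782152 : sm gj N59161 = N57982 := ded_42_2 (flp_e L770657) (flp_j L770535) L782148
theorem L782154 : sm gi N59161 = N58217 := ded_44_2 (flp_e L772283) (flp_i L770537) L782148
theorem L782156 : sm gd N59161 = N57989 := ded_34_1 (flp_e L770707) (flp_d L758958) (flp_e L758816) L770529 L782148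
theorem L782158 : sm gb N57969 = N59162 := rfl
theorem L782160 : sm gd N59162 = N57973 := ded_20_2 (flp_b L770581) (flp_d L770545) L782158
theorem L782162 : sm gj N59162 = N57983 := ded_24_2 (flp_b L770663) (flp_j L770543) L782158
theorem L782164 : sm ge N57969 = N59163 := rfl
theorem L782166 : sm ga N59163 = N58053 := ded_13_1 (flp_e L771248) (flp_a L770541) L782164
theorem L782168 : sm gc N59163 = N57970 := ded_28_1 (flp_e L770547) L770539 L782164
theorem L782170 : sm gj N59163 = N57984 := ded_42_2 (flp_e L770667) (flp_j L770543) L782164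
theorem L782172 : sm gd N59163 = N58293 := ded_34_1 (flp_e L772743) L761088 (flp_e L758860) (flp_d L770545) L782164
theorem L782174 : sm gf N57970 = N59164 := rfl
theorem L782176 : sm ga N59164 = N58054 := ded_14_1 (flp_f L771254) (flp_a L770549) L782174
theorem L782178 : sm gd N59164 = N57971 := ded_35_1 (flp_f L770555) (flp_d L770553) L782174
theorem L782180 : sm gj N59164 = N57985 := ded_46_2 (flp_f L770675) (flp_j L770551) L782174
theorem L782182 : sm gg N57971 = N59165 := rfl
theorem L782184 : sm ga N59165 = N58055 := ded_15_1 (flp_g L771260) (flp_a L770557) L782182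
theorem L782186 : sm gc N59165 = N58331 := ded_30_1 (flp_g L772965) (flp_c L770559) L782182
theorem L782188 : sm ge N59165 = N57990 := ded_41_1 (flp_g L770718) (flp_e L770565) L782182
theorem L782190 : sm gh N59165 = N57996 := ded_50_2 (flp_g L770789) (flp_h L770563) L782182
theorem L782192 : sm gb N57972 = N59166 := rfl
theorem L782194 : sm ge N59166 = N58201 := ded_21_2 (flp_b L772183) (flp_e L770571) L782192
theorem L782196 : sm gf N59166 = N57973 := ded_22_2 (flp_b L770581) (flp_f L770573) L782192
theorem L782198 : sm gj N59166 = N57986 := ded_24_2 (flp_b L770681) (flp_j L770575) L782192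
theorem L782200 : sm gh N59166 = N58130 := ded_25_2 (flp_b L771766) (flp_h L770577) L782192
theorem L782202 : sm gi N59166 = N58218 := ded_26_2 (flp_b L772289) (flp_i L770579) L782192
theorem L782204 : sm gc N59166 = N58180 := ded_19_2 (flp_b L772048) (flp_c L760407) (flp_b L758844) L770567 L782192
theorem L782206 : sm ga N57973 = N59167 := rfl
theorem L782208 : sm ge N59167 = N58301 := ded_13_2 (flp_a L772803) (flp_e L770583) L782206
theorem L782210 : sm gj N59167 = N57987 := ded_16_2 (flp_a L770689) (flp_j L770585) L782206
theorem L782212 : sm gb N59167 = N58057 := ded_10_2 (flp_a L771278) (flp_b L759569) (flp_a L758858) L770581 L782206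
theorem L782214 : sm gc N57974 = N59168 := rfl
theorem L782216 : sm gg N59168 = N58288 := ded_30_2 (flp_c L772695) (flp_g L770591) L782214
theorem L782218 : sm gh N59168 = N57975 := ded_32_2 (flp_c L770595) (flp_h L770593) L782214
theorem L782220 : sm ge N57974 = N59169 := rfl
theorem L782222 : sm gb N59169 = N57980 := ded_21_1 (flp_e L770639) (flp_b L770589) L782220
theorem L782224 : sm gg N59169 = N58289 := ded_41_2 (flp_e L772703) (flp_g L770591) L782220
theorem L782226 : sm gh N59169 = N57976 := ded_43_2 (flp_e L770599) (flp_h L770593) L782220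
theorem L782228 : sm gd N59169 = N57998 := ded_34_1 (flp_e L770805) (flp_d L759067) (flp_e L758868) L770587 L782220
theorem L782230 : sm gb N57975 = N59170 := rfl
theorem L782232 : sm gg N59170 = N58327 := ded_23_2 L772945 (flp_g L770597) L782230
theorem L782234 : sm gc N59170 = N57983 := ded_19_2 (flp_b L770663) (flp_c L758911) (flp_b L758874) L770595 L782230
theorem L782236 : sm ge N57975 = N59171 := rfl
theorem L782238 : sm gc N59171 = N57976 := ded_28_1 (flp_e L770599) L770595 L782236
theorem L782240 : sm gg N59171 = N58325 := ded_41_2 L772937 (flp_g L770597) L782236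
theorem L782242 : sm gf N57976 = N59172 := rfl
theorem L782244 : sm gb N59172 = N57985 := ded_22_1 (flp_f L770675) (flp_b L770601) L782242
theorem L782246 : sm gd N59172 = N57977 := ded_35_1 (flp_f L770607) (flp_d L770605) L782242
theorem L782248 : sm gg N59172 = N58322 := ded_45_2 (flp_f L772919) L761230 L761244 (flp_g L770603) L782242
theorem L782250 : sm gc N57978 = N59173 := rfl
theorem L782252 : sm ga N59173 = N58071 := ded_11_1 (flp_c L771378) (flp_a L770621) L782250
theorem L782254 : sm gf N59173 = N57979 := ded_29_2 (flp_c L770629) (flp_f L770623) L782250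
theorem L782256 : sm gg N59173 = N58280 := ded_30_2 (flp_c L772657) (flp_g L770625) L782250
theorem L782258 : sm gh N59173 = N57981 := ded_32_2 (flp_c L770649) (flp_h L770627) L782250
theorem L782260 : sm gd N59173 = N58283 := ded_27_2 (flp_c L772672) (flp_d L761039) (flp_c L758890) L770619 L782250
theorem L782262 : sm ge N57978 = N59174 := rfl
theorem L782264 : sm ga N59174 = N58072 := ded_13_1 (flp_e L771384) (flp_a L770621) L782262
theorem L782266 : sm gg N59174 = N58281 := ded_41_2 (flp_e L772663) (flp_g L770625) L782262
theorem L782268 : sm gh N59174 = N57982 := ded_43_2 (flp_e L770657) (flp_h L770627) L782262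
theorem L782270 : sm gd N59174 = N59174 := ded_34_1 (flp_e L782262) (flp_d L770619) L758892 L770619 L782262
theorem L782271 : sm gb N57979 = N59175 := rfl
theorem L782273 : sm gd N59175 = N58300 := ded_20_2 (flp_b L772799) (flp_d L770637) L782271
theorem L782275 : sm gg N59175 = N58292 := ded_23_2 (flp_b L772735) (flp_g L770633) L782271
theorem L782277 : sm gh N59175 = N57983 := ded_25_2 (flp_b L770663) (flp_h L770635) L782271
theorem L782279 : sm ge N57979 = N59176 := rfl
theorem L782281 : sm ga N59176 = N58076 := ded_13_1 (flp_e L771403) (flp_a L770631) L782279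
theorem L782283 : sm gc N59176 = N57980 := ded_28_1 (flp_e L770639) L770629 L782279
theorem L782285 : sm gg N59176 = N58293 := ded_41_2 (flp_e L772743) (flp_g L770633) L782279
theorem L782287 : sm gh N59176 = N57984 := ded_43_2 (flp_e L770667) (flp_h L770635) L782279
theorem L782289 : sm gf N57980 = N59177 := rfl
theorem L782291 : sm ga N59177 = N58077 := ded_14_1 (flp_f L771409) (flp_a L770641) L782289
theorem L782293 : sm gd N59177 = N58001 := ded_35_1 (flp_f L770830) (flp_d L770647) L782289
theorem L782295 : sm gh N59177 = N57985 := ded_47_2 (flp_f L770675) (flp_h L770645) L782289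
theorem L782297 : sm gb N57981 = N59178 := rfl
theorem L782299 : sm gd N59178 = N57986 := ded_20_2 (flp_b L770681) (flp_d L770655) L782297
theorem L782301 : sm gf N59178 = N57983 := ded_22_2 (flp_b L770663) (flp_f L770653) L782297
theorem L782303 : sm ge N57981 = N59179 := rfl
theorem L782305 : sm ga N59179 = N58082 := ded_13_1 (flp_e L771437) (flp_a L770651) L782303
theorem L782307 : sm gc N59179 = N57982 := ded_28_1 (flp_e L770657) L770649 L782303
theorem L782309 : sm gd N59179 = N58212 := ded_34_1 (flp_e L772256) L760593 (flp_e L758937) (flp_d L770655) L782303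
theorem L782311 : sm ga N57983 = N59180 := rfl
theorem L782313 : sm gd N59180 = N57987 := ded_12_2 (flp_a L770689) (flp_d L770665) L782311
theorem L782315 : sm gb N59180 = N58083 := ded_10_2 (flp_a L771441) (flp_b L759708) (flp_a L758913) L770663 L782311
theorem L782317 : sm ge N57983 = N59181 := rfl
theorem L782319 : sm gb N59181 = N57984 := ded_21_1 (flp_e L770667) L770663 L782317
theorem L782321 : sm gd N59181 = N58324 := ded_34_1 (flp_e L772929) L761236 (flp_e L758943) (flp_d L770665) L782317
theorem L782323 : sm gf N57984 = N59182 := rfl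
theorem L782325 : sm ga N59182 = N58085 := ded_14_1 (flp_f L771449) (flp_a L770669) L782323
theorem L782327 : sm gc N59182 = N57985 := ded_29_1 (flp_f L770675) (flp_c L770671) L782323
theorem L782329 : sm gd N59182 = N58325 := ded_35_1 (flp_f L772933) (flp_d L770673) L782323
theorem L782331 : sm ga N57986 = N59183 := rfl
theorem L782333 : sm gc N59183 = N58181 := ded_11_2 (flp_a L772054) (flp_c L770687) L782331
theorem L782335 : sm ge N59183 = N58214 := ded_13_2 (flp_a L772264) (flp_e L770683) L782331
theorem L782337 : sm gf N59183 = N57987 := ded_14_2 (flp_a L770689) (flp_f L770685) L782331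
theorem L782339 : sm gb N59183 = N58088 := ded_10_2 (flp_a L771463) (flp_b L759730) (flp_a L758935) L770681 L782331
theorem L782341 : sm gf N57994 = N59184 := rfl
theorem L782343 : sm ga N59184 = N58094 := ded_14_1 (flp_f L771514) (flp_a L770767) L782341
theorem L782345 : sm gc N59184 = N58336 := ded_29_1 (flp_f L772994) (flp_c L770769) L782341
theorem L782347 : sm gj N59184 = N58001 := ded_46_2 (flp_f L770830) (flp_j L770773) L782341
theorem L782349 : sm gh N59184 = N57995 := ded_47_2 (flp_f L770777) (flp_h L770775) L782341
theorem L782351 : sm ge N59184 = N59184 := ded_40_1 (flp_f L782341) (flp_e L770765) L759034 L770765 L782341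
theorem L782352 : sm gg N57995 = N59185 := rfl
theorem L782354 : sm ga N59185 = N58095 := ded_15_1 (flp_g L771521) (flp_a L770779) L782352
theorem L782356 : sm gc N59185 = N58000 := ded_30_1 L770828 (flp_c L770781) L782352
theorem L782358 : sm gd N59185 = N57996 := ded_36_1 (flp_g L770789) (flp_d L770783) L782352
theorem L782360 : sm ge N59185 = N59185 := ded_41_1 (flp_g L782352) L770788 L782352
theorem L782361 : sm gi N59185 = N59185 := ded_51_2 (flp_g L782352) L770787 L782352
theorem L782362 : sm gf N59185 = N57999 := ded_45_1 L770817 (flp_f L761418) (flp_g L759049) L770777 L782352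
theorem L782364 : sm ge N57997 = N59186 := rfl
theorem L782366 : sm gc N59186 = N57998 := ded_28_1 (flp_e L770805) L770798 L782364
theorem L782368 : sm gg N59186 = N58330 := ded_41_2 (flp_e L772955) (flp_g L770801) L782364
theorem L782370 : sm gh N59186 = N57999 := ded_43_2 (flp_e L770813) (flp_h L770803) L782364
theorem L782372 : sm gf N57998 = N59187 := rfl
theorem L782374 : sm gb N59187 = N58001 := ded_22_1 (flp_f L770830) (flp_b L770807) L782372
theorem L782376 : sm gh N59187 = N58000 := ded_47_2 (flp_f L770820) (flp_h L770811) L782372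
theorem L782378 : sm ge N59187 = N59187 := ded_40_1 (flp_f L782372) (flp_e L770805) L759071 L770805 L782372
theorem L782379 : sm gg N59187 = N58336 := ded_45_2 (flp_f L772994) L761403 (flp_f L761290) (flp_g L770809) L782372
theorem L782381 : sm gc N58002 = N59188 := rfl
theorem L782383 : sm gf N59188 = N58251 := ded_29_2 (flp_c L772469) (flp_f L770841) L782381
theorem L782385 : sm gj N59188 = N58259 := ded_31_2 (flp_c L772517) (flp_j L770843) L782381
theorem L782387 : sm gi N59188 = N58288 := ded_33_2 (flp_c L772695) (flp_i L770845) L782381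
theorem L782389 : sm gd N59188 = N58237 := ded_27_2 (flp_c L772396) (flp_d L760758) (flp_c L759158) L770837 L782381
theorem L782391 : sm ge N58002 = N59189 := rfl
theorem L782393 : sm gb N59189 = N58007 := ded_21_1 (flp_e L770887) (flp_b L770839) L782391
theorem L782395 : sm gj N59189 = N58260 := ded_42_2 (flp_e L772523) (flp_j L770843) L782391
theorem L782397 : sm gi N59189 = N58289 := ded_44_2 (flp_e L772703) (flp_i L770845) L782391
theorem L782399 : sm gd N59189 = N58004 := ded_34_1 (flp_e L770858) (flp_d L759168) (flp_e L759160) L770837 L782391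
theorem L782401 : sm gf N59189 = N58313 := ded_40_2 (flp_e L772869) L761194 (flp_e L760833) (flp_f L770841) L782391
theorem L782403 : sm ge N58003 = N59190 := rfl
theorem L782405 : sm gc N59190 = N58004 := ded_28_1 (flp_e L770858) L770847 L782403
theorem L782407 : sm gj N59190 = N58278 := ded_42_2 (flp_e L772639) (flp_j L770851) L782403
theorem L782409 : sm gh N59190 = N59190 := ded_43_2 (flp_e L782403) L770853 L782403
theorem L782410 : sm gi N59190 = N58330 := ded_44_2 (flp_e L772955) (flp_i L770854) L782403
theorem L782412 : sm gf N59190 = N58279 := ded_40_2 (flp_e L772648) L761013 (flp_e L760987) (flp_f L770849) L782403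
theorem L782414 : sm gc N58005 = N59191 := rfl
theorem L782416 : sm gf N59191 = N58252 := ded_29_2 (flp_c L772477) (flp_f L770871) L782414
theorem L782418 : sm gj N59191 = N58265 := ded_31_2 (flp_c L772558) (flp_j L770873) L782414
theorem L782420 : sm gh N59191 = N58006 := ded_32_2 (flp_c L770877) (flp_h L770875) L782414
theorem L782422 : sm gd N59191 = N58027 := ded_27_2 (flp_c L771064) (flp_d L759386) (flp_c L759181) L770869 L782414
theorem L782424 : sm ge N58005 = N59192 := rfl
theorem L782426 : sm gj N59192 = N58266 := ded_42_2 (flp_e L772564) (flp_j L770873) L782424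
theorem L782428 : sm gh N59192 = N58007 := ded_43_2 (flp_e L770887) (flp_h L770875) L782424
theorem L782430 : sm gd N59192 = N59192 := ded_34_1 (flp_e L782424) (flp_d L770869) L759183 L770869 L782424
theorem L782431 : sm gb N58006 = N59193 := rfl
theorem L782433 : sm gd N59193 = N58008 := ded_20_2 (flp_b L770895) (flp_d L770885) L782431
theorem L782435 : sm gf N59193 = N58253 := ded_22_2 (flp_b L772483) (flp_f L770879) L782431
theorem L782437 : sm gj N59193 = N58272 := ded_24_2 (flp_b L772601) (flp_j L770881) L782431
theorem L782439 : sm gi N59193 = N58292 := ded_26_2 (flp_b L772735) (flp_i L770883) L782431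
theorem L782441 : sm ge N58006 = N59194 := rfl
theorem L782443 : sm gc N59194 = N58007 := ded_28_1 (flp_e L770887) L770877 L782441
theorem L782445 : sm gj N59194 = N58273 := ded_42_2 (flp_e L772609) (flp_j L770881) L782441
theorem L782447 : sm gi N59194 = N58293 := ded_44_2 (flp_e L772743) (flp_i L770883) L782441
theorem L782449 : sm ga N58008 = N59195 := rfl
theorem L782451 : sm gc N59195 = N58245 := ded_11_2 (flp_a L772434) (flp_c L770905) L782449
theorem L782453 : sm gf N59195 = N58254 := ded_14_2 (flp_a L772491) (flp_f L770897) L782449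
theorem L782455 : sm gj N59195 = N58277 := ded_16_2 (flp_a L772633) (flp_j L770899) L782449
theorem L782457 : sm gh N59195 = N58034 := ded_17_2 (flp_a L771117) (flp_h L770901) L782449
theorem L782459 : sm gi N59195 = N58301 := ded_18_2 (flp_a L772803) (flp_i L770903) L782449
theorem L782461 : sm gd N58009 = N59196 := rfl
theorem L782463 : sm gg N59196 = N58017 := ded_36_2 (flp_d L770978) (flp_g L770912) L782461
theorem L782465 : sm gh N59196 = N58010 := ded_38_2 (flp_d L770914) (flp_h L759222) (flp_d L759217) L770907 L782461
theorem L782467 : sm gc N58010 = N59197 := rfl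
theorem L782469 : sm gg N59197 = N58018 := ded_30_2 (flp_c L770986) (flp_g L770916) L782467
theorem L782471 : sm gi N59197 = N58036 := ded_33_2 (flp_c L771127) (flp_i L770918) L782467
theorem L782473 : sm gd N59197 = N58012 := ded_27_2 (flp_c L770929) (flp_d L759242) (flp_c L759224) L770914 L782467
theorem L782475 : sm ge N58010 = N59198 := rfl
theorem L782477 : sm gg N59198 = N58019 := ded_41_2 (flp_e L770996) (flp_g L770916) L782475
theorem L782479 : sm gi N59198 = N58037 := ded_44_2 (flp_e L771133) (flp_i L770918) L782475
theorem L782481 : sm gd N59198 = N58011 := ded_34_1 (flp_e L770920) (flp_d L759232) (flp_e L759226) L770914 L782475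
theorem L782483 : sm gf N58011 = N59199 := rfl
theorem L782485 : sm gc N59199 = N58097 := ded_29_1 (flp_f L771534) (flp_c L770922) L782483
theorem L782487 : sm gh N59199 = N59199 := ded_47_2 (flp_f L782483) L770926 L782483
theorem L782488 : sm gi N59199 = N58038 := ded_48_2 (flp_f L771139) (flp_i L770927) L782483
theorem L782490 : sm ge N59199 = N59199 := ded_40_1 (flp_f L782483) (flp_e L770920) L759234 L770920 L782483
theorem L782491 : sm gb N58012 = N59200 := rfl
theorem L782493 : sm gg N59200 = N58020 := ded_23_2 (flp_b L771004) (flp_g L770931) L782491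
theorem L782495 : sm gh N59200 = N58276 := ded_25_2 (flp_b L772627) (flp_h L770933) L782491
theorem L782497 : sm gi N59200 = N58041 := ded_26_2 (flp_b L771155) (flp_i L770935) L782491
theorem L782499 : sm gc N59200 = N58250 := ded_19_2 (flp_b L772463) (flp_c L760819) (flp_b L759244) L770929 L782491
theorem L782501 : sm gd N58013 = N59201 := rfl
theorem L782503 : sm gb N59201 = N58017 := ded_20_1 (flp_d L770978) (flp_b L770939) L782501
theorem L782505 : sm gf N59201 = N58236 := ded_35_2 (flp_d L772390) (flp_f L770942) L782501
theorem L782507 : sm gj N59201 = N58021 := ded_37_2 (flp_d L771016) (flp_j L770944) L782501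
theorem L782509 : sm gh N59201 = N58014 := ded_38_2 (flp_d L770946) (flp_h L759263) (flp_d L759256) L770937 L782501
theorem L782511 : sm gc N58014 = N59202 := rfl
theorem L782513 : sm gf N59202 = N58237 := ded_29_2 (flp_c L772396) (flp_f L770950) L782511
theorem L782515 : sm gj N59202 = N58023 := ded_31_2 (flp_c L771036) (flp_j L770952) L782511
theorem L782517 : sm gi N59202 = N58043 := ded_33_2 (flp_c L771171) (flp_i L770954) L782511
theorem L782519 : sm gd N59202 = N58251 := ded_27_2 (flp_c L772469) (flp_d L760825) (flp_c L759267) L770946 L782511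
theorem L782521 : sm ge N58014 = N59203 := rfl
theorem L782523 : sm gb N59203 = N58019 := ded_21_1 (flp_e L770996) (flp_b L770948) L782521
theorem L782525 : sm gj N59203 = N58024 := ded_42_2 (flp_e L771042) (flp_j L770952) L782521
theorem L782527 : sm gi N59203 = N58044 := ded_44_2 (flp_e L771177) (flp_i L770954) L782521
theorem L782529 : sm gd N59203 = N58015 := ded_34_1 (flp_e L770956) (flp_d L759277) (flp_e L759269) L770946 L782521
theorem L782531 : sm gd N58016 = N59204 := rfl
theorem L782533 : sm gf N59204 = N58240 := ded_35_2 (flp_d L772410) (flp_f L770972) L782531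
theorem L782535 : sm gj N59204 = N58026 := ded_37_2 (flp_d L771058) (flp_j L770974) L782531
theorem L782537 : sm gi N59204 = N58017 := ded_39_2 (flp_d L770978) (flp_i L770976) L782531
theorem L782539 : sm gh N59204 = N58047 := ded_38_2 (flp_d L771204) (flp_h L759517) (flp_d L759294) L770967 L782531
theorem L782541 : sm gc N58017 = N59205 := rfl
theorem L782543 : sm gf N59205 = N58241 := ded_29_2 (flp_c L772414) (flp_f L770980) L782541
theorem L782545 : sm gj N59205 = N58027 := ded_31_2 (flp_c L771064) (flp_j L770982) L782541
theorem L782547 : sm gh N59205 = N58018 := ded_32_2 (flp_c L770986) (flp_h L770984) L782541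
theorem L782549 : sm gd N59205 = N58265 := ded_27_2 (flp_c L772558) (flp_d L760911) (flp_c L759303) L770978 L782541
theorem L782551 : sm ge N58017 = N59206 := rfl
theorem L782553 : sm gj N59206 = N58028 := ded_42_2 (flp_e L771068) (flp_j L770982) L782551
theorem L782555 : sm gh N59206 = N58019 := ded_43_2 (flp_e L770996) (flp_h L770984) L782551
theorem L782557 : sm gd N59206 = N59206 := ded_34_1 (flp_e L782551) (flp_d L770978) L759305 L770978 L782551
theorem L782558 : sm gb N58018 = N59207 := rfl
theorem L782560 : sm gd N59207 = N58020 := ded_20_2 (flp_b L771004) (flp_d L770994) L782558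
theorem L782562 : sm gf N59207 = N58243 := ded_22_2 (flp_b L772426) (flp_f L770988) L782558
theorem L782564 : sm gj N59207 = N58030 := ded_24_2 (flp_b L771083) (flp_j L770990) L782558
theorem L782566 : sm gi N59207 = N58052 := ded_26_2 (flp_b L771242) (flp_i L770992) L782558
theorem L782568 : sm ge N58018 = N59208 := rfl
theorem L782570 : sm gc N59208 = N58019 := ded_28_1 (flp_e L770996) L770986 L782568
theorem L782572 : sm gj N59208 = N58031 := ded_42_2 (flp_e L771089) (flp_j L770990) L782568
theorem L782574 : sm gi N59208 = N58053 := ded_44_2 (flp_e L771248) (flp_i L770992) L782568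
theorem L782576 : sm ga N58020 = N59209 := rfl
theorem L782578 : sm gc N59209 = N58254 := ded_11_2 (flp_a L772491) (flp_c L771014) L782576
theorem L782580 : sm gf N59209 = N58245 := ded_14_2 (flp_a L772434) (flp_f L771006) L782576
theorem L782582 : sm gj N59209 = N58034 := ded_16_2 (flp_a L771117) (flp_j L771008) L782576
theorem L782584 : sm gh N59209 = N58277 := ded_17_2 (flp_a L772633) (flp_h L771010) L782576
theorem L782586 : sm gi N59209 = N58057 := ded_18_2 (flp_a L771278) (flp_i L771012) L782576
theorem L782588 : sm gc N58021 = N59210 := rfl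
theorem L782590 : sm gh N59210 = N58023 := ded_32_2 (flp_c L771036) (flp_h L771020) L782588
theorem L782592 : sm ge N58021 = N59211 := rfl
theorem L782594 : sm gb N59211 = N58028 := ded_21_1 (flp_e L771068) (flp_b L771018) L782592
theorem L782596 : sm gh N59211 = N58024 := ded_43_2 (flp_e L771042) (flp_h L771020) L782592
theorem L782598 : sm gd N59211 = N59211 := ded_34_1 (flp_e L782592) (flp_d L771016) L759339 L771016 L782592
theorem L782599 : sm gc N58022 = N59212 := rfl
theorem L782601 : sm ga N59212 = N58304 := ded_11_1 (flp_c L772817) (flp_a L771024) L782599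
theorem L782603 : sm gf N59212 = N58023 := ded_29_2 (flp_c L771036) (flp_f L771028) L782599
theorem L782605 : sm gg N59212 = N58302 := ded_30_2 (flp_c L772809) (flp_g L771030) L782599
theorem L782607 : sm gj N59212 = N58237 := ded_31_2 (flp_c L772396) (flp_j L771032) L782599
theorem L782609 : sm gi N59212 = N58065 := ded_33_2 (flp_c L771340) (flp_i L771034) L782599
theorem L782611 : sm gd N59212 = N58259 := ded_27_2 (flp_c L772517) (flp_d L760880) (flp_c L759346) L771022 L782599
theorem L782613 : sm gb N58023 = N59213 := rfl
theorem L782615 : sm gd N59213 = N58261 := ded_20_2 (flp_b L772531) (flp_d L771040) L782613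
theorem L782617 : sm gi N59213 = N58067 := ded_26_2 (flp_b L771352) (flp_i L771038) L782613
theorem L782619 : sm gc N59213 = N58030 := ded_19_2 (flp_b L771083) (flp_c L759398) (flp_b L759360) L771036 L782613
theorem L782621 : sm ge N58023 = N59214 := rfl
theorem L782623 : sm gc N59214 = N58024 := ded_28_1 (flp_e L771042) L771036 L782621
theorem L782625 : sm gi N59214 = N58068 := ded_44_2 (flp_e L771358) (flp_i L771038) L782621
theorem L782627 : sm gc N58025 = N59215 := rfl
theorem L782629 : sm gf N59215 = N58027 := ded_29_2 (flp_c L771064) (flp_f L771052) L782627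
theorem L782631 : sm gj N59215 = N58241 := ded_31_2 (flp_c L772414) (flp_j L771054) L782627
theorem L782633 : sm gh N59215 = N58029 := ded_32_2 (flp_c L771073) (flp_h L771056) L782627
theorem L782635 : sm gd N59215 = N58252 := ded_27_2 (flp_c L772477) (flp_d L760835) (flp_c L759373) L771050 L782627
theorem L782637 : sm gc N58026 = N59216 := rfl
theorem L782639 : sm gh N59216 = N58073 := ded_32_2 (flp_c L771389) (flp_h L771062) L782637
theorem L782641 : sm gi N59216 = N58027 := ded_33_2 (flp_c L771064) (flp_i L771060) L782637
theorem L782643 : sm ge N58026 = N59217 := rfl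
theorem L782645 : sm gh N59217 = N58074 := ded_43_2 (flp_e L771393) (flp_h L771062) L782643
theorem L782647 : sm gi N59217 = N58028 := ded_44_2 (flp_e L771068) (flp_i L771060) L782643
theorem L782649 : sm gd N59217 = N59217 := ded_34_1 (flp_e L782643) (flp_d L771058) L759383 L771058 L782643
theorem L782650 : sm gb N58027 = N59218 := rfl
theorem L782652 : sm gh N59218 = N58030 := ded_25_2 (flp_b L771083) (flp_h L771066) L782650
theorem L782654 : sm ge N58027 = N59219 := rfl
theorem L782656 : sm gc N59219 = N58028 := ded_28_1 (flp_e L771068) L771064 L782654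
theorem L782658 : sm gh N59219 = N58031 := ded_43_2 (flp_e L771089) (flp_h L771066) L782654
theorem L782660 : sm gb N58029 = N59220 := rfl
theorem L782662 : sm gd N59220 = N58033 := ded_20_2 (flp_b L771105) (flp_d L771081) L782660
theorem L782664 : sm gf N59220 = N58030 := ded_22_2 (flp_b L771083) (flp_f L771075) L782660
theorem L782666 : sm gj N59220 = N58243 := ded_24_2 (flp_b L772426) (flp_j L771077) L782660
theorem L782668 : sm gi N59220 = N58081 := ded_26_2 (flp_b L771431) (flp_i L771079) L782660
theorem L782670 : sm ga N58030 = N59221 := rfl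
theorem L782672 : sm gd N59221 = N58034 := ded_12_2 (flp_a L771117) (flp_d L771085) L782670
theorem L782674 : sm gi N59221 = N58083 := ded_18_2 (flp_a L771441) (flp_i L771087) L782670
theorem L782676 : sm ge N58030 = N59222 := rfl
theorem L782678 : sm gb N59222 = N58031 := ded_21_1 (flp_e L771089) L771083 L782676
theorem L782680 : sm gi N59222 = N58084 := ded_44_2 (flp_e L771445) (flp_i L771087) L782676
theorem L782682 : sm gb N58032 = N59223 := rfl
theorem L782684 : sm gg N59223 = N58033 := ded_23_2 (flp_b L771105) (flp_g L771099) L782682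
theorem L782686 : sm gh N59223 = N58250 := ded_25_2 (flp_b L772463) (flp_h L771101) L782682
theorem L782688 : sm gi N59223 = N58087 := ded_26_2 (flp_b L771457) (flp_i L771103) L782682
theorem L782690 : sm gc N59223 = N58276 := ded_19_2 (flp_b L772627) (flp_c L760969) (flp_b L759414) L771095 L782682
theorem L782692 : sm ga N58033 = N59224 := rfl
theorem L782694 : sm gc N59224 = N58277 := ded_11_2 (flp_a L772633) (flp_c L771115) L782692
theorem L782696 : sm gf N59224 = N58034 := ded_14_2 (flp_a L771117) (flp_f L771107) L782692
theorem L782698 : sm gj N59224 = N58245 := ded_16_2 (flp_a L772434) (flp_j L771109) L782692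
theorem L782700 : sm gh N59224 = N58254 := ded_17_2 (flp_a L772491) (flp_h L771111) L782692
theorem L782702 : sm gi N59224 = N58088 := ded_18_2 (flp_a L771463) (flp_i L771113) L782692
theorem L782704 : sm gc N58035 = N59225 := rfl
theorem L782706 : sm gf N59225 = N58036 := ded_29_2 (flp_c L771127) (flp_f L771125) L782704
theorem L782708 : sm gd N59225 = N58039 := ded_27_2 (flp_c L771146) (flp_d L759457) (flp_c L759440) L771123 L782704
theorem L782710 : sm ge N58035 = N59226 := rfl
theorem L782712 : sm gd N59226 = N59226 := ded_34_1 (flp_e L782710) (flp_d L771123) L759442 L771123 L782710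
theorem L782713 : sm gb N58036 = N59227 := rfl
theorem L782715 : sm gd N59227 = N58041 := ded_20_2 (flp_b L771155) (flp_d L771131) L782713
theorem L782717 : sm gg N59227 = N58052 := ded_23_2 (flp_b L771242) (flp_g L771129) L782713
theorem L782719 : sm ge N58036 = N59228 := rfl
theorem L782721 : sm gc N59228 = N58037 := ded_28_1 (flp_e L771133) L771127 L782719
theorem L782723 : sm gg N59228 = N58053 := ded_41_2 (flp_e L771248) (flp_g L771129) L782719
theorem L782725 : sm gd N59228 = N58076 := ded_34_1 (flp_e L771403) (flp_d L770186) L770180 (flp_d L771131) L782719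
theorem L782727 : sm gf N58037 = N59229 := rfl
theorem L782729 : sm gd N59229 = N58038 := ded_35_1 (flp_f L771139) (flp_d L771137) L782727
theorem L782731 : sm gb N58039 = N59230 := rfl
theorem L782733 : sm gf N59230 = N58041 := ded_22_2 (flp_b L771155) (flp_f L771148) L782731
theorem L782735 : sm gc N59230 = N58285 := ded_19_2 (flp_b L772683) (flp_c L761045) (flp_b L759459) L771146 L782731
theorem L782737 : sm ge N58039 = N59231 := rfl
theorem L782739 : sm gc N59231 = N58040 := ded_28_1 (flp_e L771150) L771146 L782737
theorem L782741 : sm ga N58041 = N59232 := rfl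
theorem L782743 : sm gc N59232 = N58287 := ded_11_2 (flp_a L772691) (flp_c L771159) L782741
theorem L782745 : sm gg N59232 = N58057 := ded_15_2 (flp_a L771278) (flp_g L771157) L782741
theorem L782747 : sm gc N58042 = N59233 := rfl
theorem L782749 : sm gf N59233 = N58043 := ded_29_2 (flp_c L771171) (flp_f L771165) L782747
theorem L782751 : sm gj N59233 = N58065 := ded_31_2 (flp_c L771340) (flp_j L771167) L782747
theorem L782753 : sm gi N59233 = N58237 := ded_33_2 (flp_c L772396) (flp_i L771169) L782747
theorem L782755 : sm gd N59233 = N58288 := ded_27_2 (flp_c L772695) (flp_d L761056) (flp_c L759471) L771161 L782747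
theorem L782757 : sm ge N58042 = N59234 := rfl
theorem L782759 : sm gb N59234 = N58051 := ded_21_1 (flp_e L771234) (flp_b L771163) L782757
theorem L782761 : sm gj N59234 = N58066 := ded_42_2 (flp_e L771346) (flp_j L771167) L782757
theorem L782763 : sm gi N59234 = N58238 := ded_44_2 (flp_e L772398) (flp_i L771169) L782757
theorem L782765 : sm gd N59234 = N58090 := ded_34_1 (flp_e L771482) (flp_d L759766) (flp_e L759473) L771161 L782757
theorem L782767 : sm gb N58043 = N59235 := rfl
theorem L782769 : sm gd N59235 = N58290 := ded_20_2 (flp_b L772715) (flp_d L771175) L782767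
theorem L782771 : sm gj N59235 = N58067 := ded_24_2 (flp_b L771352) (flp_j L771173) L782767
theorem L782773 : sm gc N59235 = N58052 := ded_19_2 (flp_b L771242) (flp_c L759539) (flp_b L759483) L771171 L782767
theorem L782775 : sm ge N58043 = N59236 := rfl
theorem L782777 : sm gc N59236 = N58044 := ded_28_1 (flp_e L771177) L771171 L782775
theorem L782779 : sm gj N59236 = N58068 := ded_42_2 (flp_e L771358) (flp_j L771173) L782775
theorem L782781 : sm gd N59236 = N58168 := ded_34_1 (flp_e L771980) L760321 (flp_e L761068) (flp_d L771175) L782775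
theorem L782783 : sm gd N58045 = N59237 := rfl
theorem L782785 : sm gf N59237 = N58047 := ded_35_2 (flp_d L771204) (flp_f L771190) L782783
theorem L782787 : sm gj N59237 = N58070 := ded_37_2 (flp_d L771372) (flp_j L771192) L782783
theorem L782789 : sm gi N59237 = N58046 := ded_39_2 (flp_d L771196) (flp_i L771194) L782783
theorem L782791 : sm gh N59237 = N58240 := ded_38_2 (flp_d L772410) (flp_h L760774) (flp_d L759501) L771185 L782783
theorem L782793 : sm gc N58046 = N59238 := rfl
theorem L782795 : sm gf N59238 = N58048 := ded_29_2 (flp_c L771210) (flp_f L771198) L782793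
theorem L782797 : sm gj N59238 = N58071 := ded_31_2 (flp_c L771378) (flp_j L771200) L782793
theorem L782799 : sm gh N59238 = N58050 := ded_32_2 (flp_c L771224) (flp_h L771202) L782793
theorem L782801 : sm gd N59238 = N58141 := ded_27_2 (flp_c L771833) (flp_d L760185) (flp_c L759510) L771196 L782793
theorem L782803 : sm ge N58046 = N59239 := rfl
theorem L782805 : sm gj N59239 = N58072 := ded_42_2 (flp_e L771384) (flp_j L771200) L782803
theorem L782807 : sm gh N59239 = N58051 := ded_43_2 (flp_e L771234) (flp_h L771202) L782803
theorem L782809 : sm gd N59239 = N59239 := ded_34_1 (flp_e L782803) (flp_d L771196) L759512 L771196 L782803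
theorem L782810 : sm gc N58047 = N59240 := rfl
theorem L782812 : sm gj N59240 = N58073 := ded_31_2 (flp_c L771389) (flp_j L771206) L782810
theorem L782814 : sm gi N59240 = N58048 := ded_33_2 (flp_c L771210) (flp_i L771208) L782810
theorem L782816 : sm ge N58047 = N59241 := rfl
theorem L782818 : sm gj N59241 = N58074 := ded_42_2 (flp_e L771393) (flp_j L771206) L782816
theorem L782820 : sm gi N59241 = N58049 := ded_44_2 (flp_e L771216) (flp_i L771208) L782816
theorem L782822 : sm gd N59241 = N58093 := ded_34_1 (flp_e L771507) (flp_d L759825) (flp_e L759519) L771204 L782816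
theorem L782824 : sm gb N58048 = N59242 := rfl
theorem L782826 : sm gj N59242 = N58075 := ded_24_2 (flp_b L771399) (flp_j L771212) L782824
theorem L782828 : sm gh N59242 = N58052 := ded_25_2 (flp_b L771242) (flp_h L771214) L782824
theorem L782830 : sm ge N58048 = N59243 := rfl
theorem L782832 : sm gc N59243 = N58049 := ded_28_1 (flp_e L771216) L771210 L782830
theorem L782834 : sm gj N59243 = N58076 := ded_42_2 (flp_e L771403) (flp_j L771212) L782830
theorem L782836 : sm gh N59243 = N58053 := ded_43_2 (flp_e L771248) (flp_h L771214) L782830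
theorem L782838 : sm gf N58049 = N59244 := rfl
theorem L782840 : sm gd N59244 = N58094 := ded_35_1 (flp_f L771514) (flp_d L771222) L782838
theorem L782842 : sm gj N59244 = N58077 := ded_46_2 (flp_f L771409) (flp_j L771218) L782838
theorem L782844 : sm gh N59244 = N58054 := ded_47_2 (flp_f L771254) (flp_h L771220) L782838
theorem L782846 : sm gb N58050 = N59245 := rfl
theorem L782848 : sm gd N59245 = N58056 := ded_20_2 (flp_b L771266) (flp_d L771232) L782846
theorem L782850 : sm gf N59245 = N58052 := ded_22_2 (flp_b L771242) (flp_f L771226) L782846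
theorem L782852 : sm gj N59245 = N58081 := ded_24_2 (flp_b L771431) (flp_j L771228) L782846
theorem L782854 : sm gi N59245 = N58243 := ded_26_2 (flp_b L772426) (flp_i L771230) L782846
theorem L782856 : sm ge N58050 = N59246 := rfl
theorem L782858 : sm gc N59246 = N58051 := ded_28_1 (flp_e L771234) L771224 L782856
theorem L782860 : sm gj N59246 = N58082 := ded_42_2 (flp_e L771437) (flp_j L771228) L782856
theorem L782862 : sm gi N59246 = N58244 := ded_44_2 (flp_e L772430) (flp_i L771230) L782856
theorem L782864 : sm ga N58052 = N59247 := rfl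
theorem L782866 : sm gd N59247 = N58057 := ded_12_2 (flp_a L771278) (flp_d L771244) L782864
theorem L782868 : sm gj N59247 = N58083 := ded_16_2 (flp_a L771441) (flp_j L771246) L782864
theorem L782870 : sm ge N58052 = N59248 := rfl
theorem L782872 : sm gb N59248 = N58053 := ded_21_1 (flp_e L771248) L771242 L782870
theorem L782874 : sm gj N59248 = N58084 := ded_42_2 (flp_e L771445) (flp_j L771246) L782870
theorem L782876 : sm gf N58053 = N59249 := rfl
theorem L782878 : sm gc N59249 = N58054 := ded_29_1 (flp_f L771254) (flp_c L771250) L782876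
theorem L782880 : sm gj N59249 = N58085 := ded_46_2 (flp_f L771449) (flp_j L771252) L782876
theorem L782882 : sm gg N58054 = N59250 := rfl
theorem L782884 : sm gd N59250 = N58055 := ded_36_1 (flp_g L771260) (flp_d L771256) L782882
theorem L782886 : sm ga N58056 = N59251 := rfl
theorem L782888 : sm gc N59251 = N58301 := ded_11_2 (flp_a L772803) (flp_c L771276) L782886
theorem L782890 : sm gf N59251 = N58057 := ded_14_2 (flp_a L771278) (flp_f L771268) L782886
theorem L782892 : sm gj N59251 = N58088 := ded_16_2 (flp_a L771463) (flp_j L771270) L782886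
theorem L782894 : sm gh N59251 = N58146 := ded_17_2 (flp_a L771860) (flp_h L771272) L782886
theorem L782896 : sm gi N59251 = N58245 := ded_18_2 (flp_a L772434) (flp_i L771274) L782886
theorem L782898 : sm gc N58058 = N59252 := rfl
theorem L782900 : sm ga N59252 = N58065 := ded_11_1 (flp_c L771340) (flp_a L771286) L782898
theorem L782902 : sm gf N59252 = N58059 := ded_29_2 (flp_c L771296) (flp_f L771290) L782898
theorem L782904 : sm gg N59252 = N58259 := ded_30_2 (flp_c L772517) (flp_g L771292) L782898
theorem L782906 : sm gi N59252 = N58304 := ded_33_2 (flp_c L772817) (flp_i L771294) L782898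
theorem L782908 : sm gd N59252 = N58302 := ded_27_2 (flp_c L772809) (flp_d L761148) (flp_c L759581) L771284 L782898
theorem L782910 : sm ge N58058 = N59253 := rfl
theorem L782912 : sm ga N59253 = N58066 := ded_13_1 (flp_e L771346) (flp_a L771286) L782910
theorem L782914 : sm gb N59253 = N58271 := ded_21_1 (flp_e L772593) (flp_b L771288) L782910
theorem L782916 : sm gg N59253 = N58260 := ded_41_2 (flp_e L772523) (flp_g L771292) L782910
theorem L782918 : sm gi N59253 = N58305 := ded_44_2 (flp_e L772821) (flp_i L771294) L782910
theorem L782920 : sm gd N59253 = N58091 := ded_34_1 (flp_e L771491) (flp_d L759789) (flp_e L759583) L771284 L782910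
theorem L782922 : sm gb N58059 = N59254 := rfl
theorem L782924 : sm gd N59254 = N58303 := ded_20_2 (flp_b L772815) (flp_d L771300) L782922
theorem L782926 : sm gc N58060 = N59255 := rfl
theorem L782928 : sm gf N59255 = N58062 := ded_29_2 (flp_c L771316) (flp_f L771306) L782926
theorem L782930 : sm gh N59255 = N58065 := ded_32_2 (flp_c L771340) (flp_h L771308) L782926
theorem L782932 : sm ge N58060 = N59256 := rfl
theorem L782934 : sm gb N59256 = N58072 := ded_21_1 (flp_e L771384) (flp_b L771304) L782932
theorem L782936 : sm gh N59256 = N58066 := ded_43_2 (flp_e L771346) (flp_h L771308) L782932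
theorem L782938 : sm gd N59256 = N59256 := ded_34_1 (flp_e L782932) (flp_d L771302) L759599 L771302 L782932
theorem L782939 : sm gc N58061 = N59257 := rfl
theorem L782941 : sm gi N59257 = N58062 := ded_33_2 (flp_c L771316) (flp_i L771314) L782939
theorem L782943 : sm ge N58061 = N59258 := rfl
theorem L782945 : sm gb N59258 = N58074 := ded_21_1 (flp_e L771393) (flp_b L771312) L782943
theorem L782947 : sm gi N59258 = N58063 := ded_44_2 (flp_e L771320) (flp_i L771314) L782943
theorem L782949 : sm gd N59258 = N58096 := ded_34_1 (flp_e L771527) (flp_d L759852) (flp_e L759606) L771310 L782943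
theorem L782951 : sm gb N58062 = N59259 := rfl
theorem L782953 : sm gh N59259 = N58067 := ded_25_2 (flp_b L771352) (flp_h L771318) L782951
theorem L782955 : sm gc N59259 = N58075 := ded_19_2 (flp_b L771399) (flp_c L759676) (flp_b L759612) L771316 L782951
theorem L782957 : sm ge N58062 = N59260 := rfl
theorem L782959 : sm gc N59260 = N58063 := ded_28_1 (flp_e L771320) L771316 L782957
theorem L782961 : sm gh N59260 = N58068 := ded_43_2 (flp_e L771358) (flp_h L771318) L782957
theorem L782963 : sm gc N58064 = N59261 := rfl
theorem L782965 : sm ga N59261 = N58259 := ded_11_1 (flp_c L772517) (flp_a L771330) L782963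
theorem L782967 : sm gf N59261 = N58255 := ded_29_2 (flp_c L772497) (flp_f L771334) L782963
theorem L782969 : sm gg N59261 = N58065 := ded_30_2 (flp_c L771340) (flp_g L771336) L782963
theorem L782971 : sm gi N59261 = N58302 := ded_33_2 (flp_c L772809) (flp_i L771338) L782963
theorem L782973 : sm gd N59261 = N58304 := ded_27_2 (flp_c L772817) (flp_d L761158) (flp_c L759622) L771328 L782963
theorem L782975 : sm gb N58065 = N59262 := rfl
theorem L782977 : sm gd N59262 = N58306 := ded_20_2 (flp_b L772829) (flp_d L771344) L782975
theorem L782979 : sm gf N59262 = N58067 := ded_22_2 (flp_b L771352) (flp_f L771342) L782975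
theorem L782981 : sm gc N59262 = N58081 := ded_19_2 (flp_b L771431) (flp_c L759698) (flp_b L759634) L771340 L782975
theorem L782983 : sm ge N58065 = N59263 := rfl
theorem L782985 : sm gc N59263 = N58066 := ded_28_1 (flp_e L771346) L771340 L782983
theorem L782987 : sm ga N58067 = N59264 := rfl
theorem L782989 : sm gc N59264 = N58083 := ded_11_2 (flp_a L771441) (flp_c L771356) L782987
theorem L782991 : sm gd N59264 = N58308 := ded_12_2 (flp_a L772839) (flp_d L771354) L782987
theorem L782993 : sm ge N58067 = N59265 := rfl
theorem L782995 : sm gb N59265 = N58068 := ded_21_1 (flp_e L771358) L771352 L782993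
theorem L782997 : sm gc N59265 = N58084 := ded_28_1 (flp_e L771445) (flp_c L771356) L782993
theorem L782999 : sm gc N58069 = N59266 := rfl
theorem L783001 : sm ga N59266 = N58280 := ded_11_1 (flp_c L772657) (flp_a L771364) L782999
theorem L783003 : sm gf N59266 = N58221 := ded_29_2 (flp_c L772305) (flp_f L771366) L782999
theorem L783005 : sm gg N59266 = N58071 := ded_30_2 (flp_c L771378) (flp_g L771368) L782999
theorem L783007 : sm gh N59266 = N58079 := ded_32_2 (flp_c L771419) (flp_h L771370) L782999
theorem L783009 : sm gd N59266 = N58222 := ded_27_2 (flp_c L772313) (flp_d L760666) (flp_c L759652) L771362 L782999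
theorem L783011 : sm ge N58069 = N59267 := rfl
theorem L783013 : sm ga N59267 = N58281 := ded_13_1 (flp_e L772663) (flp_a L771364) L783011
theorem L783015 : sm gg N59267 = N58072 := ded_41_2 (flp_e L771384) (flp_g L771368) L783011
theorem L783017 : sm gh N59267 = N58080 := ded_43_2 (flp_e L771425) (flp_h L771370) L783011
theorem L783019 : sm gd N59267 = N59267 := ded_34_1 (flp_e L783011) (flp_d L771362) L759654 L771362 L783011
theorem L783020 : sm gc N58070 = N59268 := rfl
theorem L783022 : sm gf N59268 = N58073 := ded_29_2 (flp_c L771389) (flp_f L771374) L783020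
theorem L783024 : sm gi N59268 = N58071 := ded_33_2 (flp_c L771378) (flp_i L771376) L783020
theorem L783026 : sm ge N58070 = N59269 := rfl
theorem L783028 : sm gi N59269 = N58072 := ded_44_2 (flp_e L771384) (flp_i L771376) L783026
theorem L783030 : sm gd N59269 = N59269 := ded_34_1 (flp_e L783026) (flp_d L771372) L759661 L771372 L783026
theorem L783031 : sm gb N58071 = N59270 := rfl
theorem L783033 : sm gf N59270 = N58075 := ded_22_2 (flp_b L771399) (flp_f L771380) L783031
theorem L783035 : sm gh N59270 = N58081 := ded_25_2 (flp_b L771431) (flp_h L771382) L783031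
theorem L783037 : sm ge N58071 = N59271 := rfl
theorem L783039 : sm gc N59271 = N58072 := ded_28_1 (flp_e L771384) L771378 L783037
theorem L783041 : sm gh N59271 = N58082 := ded_43_2 (flp_e L771437) (flp_h L771382) L783037
theorem L783043 : sm gb N58073 = N59272 := rfl
theorem L783045 : sm gi N59272 = N58075 := ded_26_2 (flp_b L771399) (flp_i L771391) L783043
theorem L783047 : sm ge N58073 = N59273 := rfl
theorem L783049 : sm gc N59273 = N58074 := ded_28_1 (flp_e L771393) L771389 L783047
theorem L783051 : sm gi N59273 = N58076 := ded_44_2 (flp_e L771403) (flp_i L771391) L783047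
theorem L783053 : sm gf N58074 = N59274 := rfl
theorem L783055 : sm gd N59274 = N58097 := ded_35_1 (flp_f L771534) (flp_d L771397) L783053
theorem L783057 : sm gi N59274 = N58077 := ded_48_2 (flp_f L771409) (flp_i L771395) L783053
theorem L783059 : sm ga N58075 = N59275 := rfl
theorem L783061 : sm gh N59275 = N58083 := ded_17_2 (flp_a L771441) (flp_h L771401) L783059
theorem L783063 : sm ge N58075 = N59276 := rfl
theorem L783065 : sm gb N59276 = N58076 := ded_21_1 (flp_e L771403) L771399 L783063
theorem L783067 : sm gh N59276 = N58084 := ded_43_2 (flp_e L771445) (flp_h L771401) L783063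
theorem L783069 : sm gf N58076 = N59277 := rfl
theorem L783071 : sm gc N59277 = N58077 := ded_29_1 (flp_f L771409) (flp_c L771405) L783069
theorem L783073 : sm gh N59277 = N58085 := ded_47_2 (flp_f L771449) (flp_h L771407) L783069
theorem L783075 : sm gc N58078 = N59278 := rfl
theorem L783077 : sm gj N59278 = N58079 := ded_31_2 (flp_c L771419) (flp_j L771417) L783075
theorem L783079 : sm gd N59278 = N58086 := ded_27_2 (flp_c L771453) (flp_d L759720) (flp_c L759688) L771415 L783075
theorem L783081 : sm ge N58078 = N59279 := rfl
theorem L783083 : sm gj N59279 = N58080 := ded_42_2 (flp_e L771425) (flp_j L771417) L783081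
theorem L783085 : sm gd N59279 = N58092 := ded_34_1 (flp_e L771502) (flp_d L759807) (flp_e L759690) L771415 L783081
theorem L783087 : sm gb N58079 = N59280 := rfl
theorem L783089 : sm gd N59280 = N58087 := ded_20_2 (flp_b L771457) (flp_d L771423) L783087
theorem L783091 : sm gg N59280 = N58081 := ded_23_2 (flp_b L771431) (flp_g L771421) L783087
theorem L783093 : sm ge N58079 = N59281 := rfl
theorem L783095 : sm gc N59281 = N58080 := ded_28_1 (flp_e L771425) L771419 L783093
theorem L783097 : sm gg N59281 = N58082 := ded_41_2 (flp_e L771437) (flp_g L771421) L783093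
theorem L783099 : sm ga N58081 = N59282 := rfl
theorem L783101 : sm gd N59282 = N58088 := ded_12_2 (flp_a L771463) (flp_d L771433) L783099
theorem L783103 : sm gf N59282 = N58083 := ded_14_2 (flp_a L771441) (flp_f L771435) L783099
theorem L783105 : sm ge N58081 = N59283 := rfl
theorem L783107 : sm gb N59283 = N58082 := ded_21_1 (flp_e L771437) L771431 L783105
theorem L783109 : sm ge N58083 = N59284 := rfl
theorem L783111 : sm ga N59284 = N58084 := ded_13_1 (flp_e L771445) L771441 L783109
theorem L783113 : sm gf N58084 = N59285 := rfl
theorem L783115 : sm gb N59285 = N58085 := ded_22_1 (flp_f L771449) (flp_b L771447) L783113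
theorem L783117 : sm gb N58086 = N59286 := rfl
theorem L783119 : sm gj N59286 = N58087 := ded_24_2 (flp_b L771457) (flp_j L771455) L783117
theorem L783121 : sm gc N59286 = N58328 := ded_19_2 (flp_b L772947) (flp_c L761262) (flp_b L759722) L771453 L783117
theorem L783123 : sm ga N58087 = N59287 := rfl
theorem L783125 : sm gc N59287 = N58329 := ded_11_2 (flp_a L772951) (flp_c L771461) L783123
theorem L783127 : sm gg N59287 = N58088 := ded_15_2 (flp_a L771463) (flp_g L771459) L783123
theorem L783129 : sm ge N58089 = N59288 := rfl
theorem L783131 : sm ga N59288 = N58090 := ded_13_1 (flp_e L771482) (flp_a L771471) L783129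
theorem L783133 : sm gb N59288 = N58279 := ded_21_1 (flp_e L772648) (flp_b L771473) L783129
theorem L783135 : sm gj N59288 = N58091 := ded_42_2 (flp_e L771491) (flp_j L771477) L783129
theorem L783137 : sm gh N59288 = N59288 := ded_43_2 (flp_e L783129) L771481 L783129
theorem L783138 : sm gi N59288 = N58235 := ded_44_2 (flp_e L772380) (flp_i L771479) L783129
theorem L783140 : sm gf N58093 = N59289 := rfl
theorem L783142 : sm gj N59289 = N58097 := ded_46_2 (flp_f L771534) (flp_j L771509) L783140
theorem L783144 : sm gh N59289 = N59289 := ded_47_2 (flp_f L783140) L771511 L783140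
theorem L783145 : sm gi N59289 = N58094 := ded_48_2 (flp_f L771514) (flp_i L771512) L783140
theorem L783147 : sm ge N59289 = N59289 := ded_40_1 (flp_f L783140) (flp_e L771507) L759827 L771507 L783140
theorem L783148 : sm gg N58094 = N59290 := rfl
theorem L783150 : sm ge N59290 = N59290 := ded_41_1 (flp_g L783148) L771520 L783148
theorem L783151 : sm gh N59290 = N58095 := ded_50_2 (flp_g L771521) (flp_h L771518) L783148
theorem L783153 : sm gb N58098 = N59291 := rfl
theorem L783155 : sm ge N59291 = N58130 := ded_21_2 (flp_b L771766) (flp_e L771544) L783153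
theorem L783157 : sm gf N59291 = N58110 := ded_22_2 (flp_b L771634) (flp_f L771546) L783153
theorem L783159 : sm gj N59291 = N58122 := ded_24_2 (flp_b L771709) (flp_j L771548) L783153
theorem L783161 : sm gh N59291 = N58201 := ded_25_2 (flp_b L772183) (flp_h L771550) L783153
theorem L783163 : sm gi N59291 = N58103 := ded_26_2 (flp_b L771590) (flp_i L771552) L783153
theorem L783165 : sm gc N59291 = N58132 := ded_19_2 (flp_b L771778) (flp_c L760135) (flp_b L759880) L771540 L783153
theorem L783167 : sm gb N58099 = N59292 := rfl
theorem L783169 : sm ge N59292 = N58132 := ded_21_2 (flp_b L771778) (flp_e L771558) L783167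
theorem L783171 : sm gf N59292 = N58109 := ded_22_2 (flp_b L771628) (flp_f L771560) L783167
theorem L783173 : sm gj N59292 = N58103 := ded_24_2 (flp_b L771590) (flp_j L771562) L783167
theorem L783175 : sm gh N59292 = N58180 := ded_25_2 (flp_b L772048) (flp_h L771564) L783167
theorem L783177 : sm gi N59292 = N58122 := ded_26_2 (flp_b L771709) (flp_i L771566) L783167
theorem L783179 : sm gc N59292 = N58130 := ded_19_2 (flp_b L771766) (flp_c L760121) (flp_b L759896) L771554 L783167
theorem L783181 : sm gb N58100 = N59293 := rfl
theorem L783183 : sm gd N59293 = N58103 := ded_20_2 (flp_b L771590) (flp_d L771572) L783181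
theorem L783185 : sm ge N58100 = N59294 := rfl
theorem L783187 : sm ga N59294 = N58119 := ded_13_1 (flp_e L771691) (flp_a L771570) L783185
theorem L783189 : sm gc N59294 = N58101 := ded_28_1 (flp_e L771574) L771568 L783185
theorem L783191 : sm gd N59294 = N58134 := ded_34_1 (flp_e L771788) L760147 (flp_e L759924) (flp_d L771572) L783185
theorem L783193 : sm gf N58101 = N59295 := rfl
theorem L783195 : sm ga N59295 = N58120 := ded_14_1 (flp_f L771697) (flp_a L771576) L783193
theorem L783197 : sm gd N59295 = N58102 := ded_35_1 (flp_f L771580) (flp_d L771578) L783193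
theorem L783199 : sm ga N58103 = N59296 := rfl
theorem L783201 : sm ge N59296 = N58136 := ded_13_2 (flp_a L771800) (flp_e L771592) L783199
theorem L783203 : sm gh N59296 = N58181 := ded_17_2 (flp_a L772054) (flp_h L771594) L783199
theorem L783205 : sm gb N59296 = N58123 := ded_10_2 (flp_a L771717) (flp_b L760052) (flp_a L759922) L771590 L783199
theorem L783207 : sm gd N58104 = N59297 := rfl
theorem L783209 : sm gg N59297 = N58195 := ded_36_2 (flp_d L772143) (flp_g L771599) L783207
theorem L783211 : sm gi N59297 = N58105 := ded_39_2 (flp_d L771603) (flp_i L771601) L783207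
theorem L783213 : sm gh N59297 = N58113 := ded_38_2 (flp_d L771659) (flp_h L760012) (flp_d L759956) L771596 L783207
theorem L783215 : sm gc N58105 = N59298 := rfl
theorem L783217 : sm gh N59298 = N58106 := ded_32_2 (flp_c L771607) (flp_h L771605) L783215
theorem L783219 : sm ge N58105 = N59299 := rfl
theorem L783221 : sm gh N59299 = N58107 := ded_43_2 (flp_e L771613) (flp_h L771605) L783219
theorem L783223 : sm gd N59299 = N59299 := ded_34_1 (flp_e L783219) (flp_d L771603) L759963 L771603 L783219
theorem L783224 : sm gb N58106 = N59300 := rfl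
theorem L783226 : sm gd N59300 = N58109 := ded_20_2 (flp_b L771628) (flp_d L771611) L783224
theorem L783228 : sm gi N59300 = N58118 := ded_26_2 (flp_b L771687) (flp_i L771609) L783224
theorem L783230 : sm ge N58106 = N59301 := rfl
theorem L783232 : sm gc N59301 = N58107 := ded_28_1 (flp_e L771613) L771607 L783230
theorem L783234 : sm gi N59301 = N58119 := ded_44_2 (flp_e L771691) (flp_i L771609) L783230
theorem L783236 : sm gd N59301 = N58144 := ded_34_1 (flp_e L771848) L760193 (flp_e L759977) (flp_d L771611) L783230
theorem L783238 : sm gf N58107 = N59302 := rfl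
theorem L783240 : sm gd N59302 = N58108 := ded_35_1 (flp_f L771619) (flp_d L771617) L783238
theorem L783242 : sm gi N59302 = N58120 := ded_48_2 (flp_f L771697) (flp_i L771615) L783238
theorem L783244 : sm ga N58109 = N59303 := rfl
theorem L783246 : sm ge N59303 = N58146 := ded_13_2 (flp_a L771860) (flp_e L771630) L783244
theorem L783248 : sm gi N59303 = N58123 := ded_18_2 (flp_a L771717) (flp_i L771632) L783244
theorem L783250 : sm ga N58110 = N59304 := rfl
theorem L783252 : sm ge N59304 = N58156 := ded_13_2 (flp_a L771916) (flp_e L771636) L783250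
theorem L783254 : sm gj N59304 = N58123 := ded_16_2 (flp_a L771717) (flp_j L771638) L783250
theorem L783256 : sm gh N59304 = N58202 := ded_17_2 (flp_a L772191) (flp_h L771640) L783250
theorem L783258 : sm gd N58111 = N59305 := rfl
theorem L783260 : sm gf N59305 = N58113 := ded_35_2 (flp_d L771659) (flp_f L771647) L783258
theorem L783262 : sm gg N59305 = N58187 := ded_36_2 (flp_d L772096) (flp_g L771649) L783258
theorem L783264 : sm gi N59305 = N58112 := ded_39_2 (flp_d L771653) (flp_i L771651) L783258
theorem L783266 : sm gc N58112 = N59306 := rfl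
theorem L783268 : sm gf N59306 = N58114 := ded_29_2 (flp_c L771665) (flp_f L771655) L783266
theorem L783270 : sm gh N59306 = N58116 := ded_32_2 (flp_c L771677) (flp_h L771657) L783266
theorem L783272 : sm gd N59306 = N58208 := ded_27_2 (flp_c L772235) (flp_d L760579) (flp_c L760007) L771653 L783266
theorem L783274 : sm ge N58112 = N59307 := rfl
theorem L783276 : sm gh N59307 = N58117 := ded_43_2 (flp_e L771683) (flp_h L771657) L783274
theorem L783278 : sm gd N59307 = N59307 := ded_34_1 (flp_e L783274) (flp_d L771653) L760009 L771653 L783274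
theorem L783279 : sm gc N58113 = N59308 := rfl
theorem L783281 : sm gg N59308 = N58197 := ded_30_2 (flp_c L772157) (flp_g L771661) L783279
theorem L783283 : sm gi N59308 = N58114 := ded_33_2 (flp_c L771665) (flp_i L771663) L783279
theorem L783285 : sm gd N59308 = N58200 := ded_27_2 (flp_c L772177) (flp_d L760528) (flp_c L760014) L771659 L783279
theorem L783287 : sm ge N58113 = N59309 := rfl
theorem L783289 : sm gg N59309 = N58198 := ded_41_2 (flp_e L772165) (flp_g L771661) L783287
theorem L783291 : sm gi N59309 = N58115 := ded_44_2 (flp_e L771671) (flp_i L771663) L783287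
theorem L783293 : sm gd N59309 = N58125 := ded_34_1 (flp_e L771728) (flp_d L760074) (flp_e L760016) L771659 L783287
theorem L783295 : sm gb N58114 = N59310 := rfl
theorem L783297 : sm gd N59310 = N58210 := ded_20_2 (flp_b L772246) (flp_d L771669) L783295
theorem L783299 : sm gh N59310 = N58118 := ded_25_2 (flp_b L771687) (flp_h L771667) L783295
theorem L783301 : sm ge N58114 = N59311 := rfl
theorem L783303 : sm gc N59311 = N58115 := ded_28_1 (flp_e L771671) L771665 L783301
theorem L783305 : sm gh N59311 = N58119 := ded_43_2 (flp_e L771691) (flp_h L771667) L783301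
theorem L783307 : sm gf N58115 = N59312 := rfl
theorem L783309 : sm gd N59312 = N58126 := ded_35_1 (flp_f L771735) (flp_d L771675) L783307
theorem L783311 : sm gh N59312 = N58120 := ded_47_2 (flp_f L771697) (flp_h L771673) L783307
theorem L783313 : sm gb N58116 = N59313 := rfl
theorem L783315 : sm gd N59313 = N58122 := ded_20_2 (flp_b L771709) (flp_d L771681) L783313
theorem L783317 : sm gf N59313 = N58118 := ded_22_2 (flp_b L771687) (flp_f L771679) L783313
theorem L783319 : sm ge N58116 = N59314 := rfl
theorem L783321 : sm gc N59314 = N58117 := ded_28_1 (flp_e L771683) L771677 L783319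
theorem L783323 : sm gf N58117 = N59315 := rfl
theorem L783325 : sm gd N59315 = N58124 := ded_35_1 (flp_f L771723) (flp_d L771685) L783323
theorem L783327 : sm ge N59315 = N58120 := ded_40_1 (flp_f L771697) (flp_e L760034) (flp_f L760028) L771683 L783323
theorem L783329 : sm ga N58118 = N59316 := rfl
theorem L783331 : sm gd N59316 = N58123 := ded_12_2 (flp_a L771717) (flp_d L771689) L783329
theorem L783333 : sm ge N58118 = N59317 := rfl
theorem L783335 : sm gb N59317 = N58119 := ded_21_1 (flp_e L771691) L771687 L783333
theorem L783337 : sm gd N59317 = N58173 := ded_34_1 (flp_e L772010) L760349 (flp_e L760054) (flp_d L771689) L783333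
theorem L783339 : sm gf N58119 = N59318 := rfl
theorem L783341 : sm gc N59318 = N58120 := ded_29_1 (flp_f L771697) (flp_c L771693) L783339
theorem L783343 : sm gd N59318 = N58174 := ded_35_1 (flp_f L772014) (flp_d L771695) L783339
theorem L783345 : sm gg N58120 = N59319 := rfl
theorem L783347 : sm gd N59319 = N58121 := ded_36_1 (flp_g L771701) (flp_d L771699) L783345
theorem L783349 : sm ga N58122 = N59320 := rfl
theorem L783351 : sm gc N59320 = N58136 := ded_11_2 (flp_a L771800) (flp_c L771715) L783349
theorem L783353 : sm gf N59320 = N58123 := ded_14_2 (flp_a L771717) (flp_f L771711) L783349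
theorem L783355 : sm gh N59320 = N58214 := ded_17_2 (flp_a L772264) (flp_h L771713) L783349
theorem L783357 : sm gf N58125 = N59321 := rfl
theorem L783359 : sm gh N59321 = N59321 := ded_47_2 (flp_f L783357) L771732 L783357
theorem L783360 : sm gi N59321 = N58126 := ded_48_2 (flp_f L771735) (flp_i L771733) L783357
theorem L783362 : sm ge N59321 = N59321 := ded_40_1 (flp_f L783357) (flp_e L771728) L760076 L771728 L783357
theorem L783363 : sm gc N58127 = N59322 := rfl
theorem L783365 : sm ga N59322 = N58141 := ded_11_1 (flp_c L771833) (flp_a L771742) L783363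
theorem L783367 : sm gf N59322 = N58299 := ded_29_2 (flp_c L772793) (flp_f L771744) L783363
theorem L783369 : sm gj N59322 = N58283 := ded_31_2 (flp_c L772672) (flp_j L771746) L783363
theorem L783371 : sm gh N59322 = N58128 := ded_32_2 (flp_c L771750) (flp_h L771748) L783363
theorem L783373 : sm ge N58127 = N59323 := rfl
theorem L783375 : sm ga N59323 = N58142 := ded_13_1 (flp_e L771837) (flp_a L771742) L783373
theorem L783377 : sm gj N59323 = N58284 := ded_42_2 (flp_e L772678) (flp_j L771746) L783373
theorem L783379 : sm gh N59323 = N58129 := ded_43_2 (flp_e L771758) (flp_h L771748) L783373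
theorem L783381 : sm gd N59323 = N59323 := ded_34_1 (flp_e L783373) (flp_d L771740) L760103 L771740 L783373
theorem L783382 : sm gb N58128 = N59324 := rfl
theorem L783384 : sm gd N59324 = N58130 := ded_20_2 (flp_b L771766) (flp_d L771756) L783382
theorem L783386 : sm gi N59324 = N58133 := ded_26_2 (flp_b L771784) (flp_i L771754) L783382
theorem L783388 : sm ge N58128 = N59325 := rfl
theorem L783390 : sm ga N59325 = N58144 := ded_13_1 (flp_e L771848) (flp_a L771752) L783388
theorem L783392 : sm gc N59325 = N58129 := ded_28_1 (flp_e L771758) L771750 L783388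
theorem L783394 : sm gi N59325 = N58134 := ded_44_2 (flp_e L771788) (flp_i L771754) L783388
theorem L783396 : sm ga N58130 = N59326 := rfl
theorem L783398 : sm gi N59326 = N58136 := ded_18_2 (flp_a L771800) (flp_i L771768) L783396
theorem L783400 : sm gb N59326 = N58146 := ded_10_2 (flp_a L771860) (flp_b L760208) (flp_a L760123) L771766 L783396
theorem L783402 : sm gb N58131 = N59327 := rfl
theorem L783404 : sm gg N59327 = N58132 := ded_23_2 (flp_b L771778) (flp_g L771774) L783402
theorem L783406 : sm gh N59327 = N58224 := ded_25_2 (flp_b L772324) (flp_h L771776) L783402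
theorem L783408 : sm ga N58132 = N59328 := rfl
theorem L783410 : sm gj N59328 = N58136 := ded_16_2 (flp_a L771800) (flp_j L771780) L783408
theorem L783412 : sm gh N59328 = N58227 := ded_17_2 (flp_a L772338) (flp_h L771782) L783408
theorem L783414 : sm gb N59328 = N58156 := ded_10_2 (flp_a L771916) (flp_b L760269) (flp_a L760137) L771778 L783408
theorem L783416 : sm ga N58133 = N59329 := rfl
theorem L783418 : sm gd N59329 = N58136 := ded_12_2 (flp_a L771800) (flp_d L771786) L783416
theorem L783420 : sm gb N59329 = N58172 := ded_10_2 (flp_a L772006) (flp_b L760347) (flp_a L760145) L771784 L783416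
theorem L783422 : sm ge N58133 = N59330 := rfl
theorem L783424 : sm gb N59330 = N58134 := ded_21_1 (flp_e L771788) L771784 L783422
theorem L783426 : sm gf N58134 = N59331 := rfl
theorem L783428 : sm ga N59331 = N58174 := ded_14_1 (flp_f L772014) (flp_a L771790) L783426
theorem L783430 : sm gc N59331 = N58135 := ded_29_1 (flp_f L771794) (flp_c L771792) L783426
theorem L783432 : sm gb N58137 = N59332 := rfl
theorem L783434 : sm gi N59332 = N58162 := ded_26_2 (flp_b L771948) (flp_i L771808) L783432
theorem L783436 : sm gc N59332 = N58143 := ded_19_2 (flp_b L771842) (flp_c L760189) (flp_b L760169) L771806 L783432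
theorem L783438 : sm ge N58137 = N59333 := rfl
theorem L783440 : sm gc N59333 = N58138 := ded_28_1 (flp_e L771810) L771806 L783438
theorem L783442 : sm gi N59333 = N58163 := ded_44_2 (flp_e L771952) (flp_i L771808) L783438
theorem L783444 : sm gc N58140 = N59334 := rfl
theorem L783446 : sm gh N59334 = N58165 := ded_32_2 (flp_c L771962) (flp_h L771831) L783444
theorem L783448 : sm gi N59334 = N58141 := ded_33_2 (flp_c L771833) (flp_i L771829) L783444
theorem L783450 : sm ge N58140 = N59335 := rfl
theorem L783452 : sm gh N59335 = N58166 := ded_43_2 (flp_e L771968) (flp_h L771831) L783450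
theorem L783454 : sm gi N59335 = N58142 := ded_44_2 (flp_e L771837) (flp_i L771829) L783450
theorem L783456 : sm gd N59335 = N59335 := ded_34_1 (flp_e L783450) (flp_d L771827) L760182 L771827 L783450
theorem L783457 : sm gb N58141 = N59336 := rfl
theorem L783459 : sm gh N59336 = N58143 := ded_25_2 (flp_b L771842) (flp_h L771835) L783457
theorem L783461 : sm ge N58141 = N59337 := rfl
theorem L783463 : sm gc N59337 = N58142 := ded_28_1 (flp_e L771837) L771833 L783461
theorem L783465 : sm gh N59337 = N58144 := ded_43_2 (flp_e L771848) (flp_h L771835) L783461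
theorem L783467 : sm ga N58143 = N59338 := rfl
theorem L783469 : sm gd N59338 = N58146 := ded_12_2 (flp_a L771860) (flp_d L771844) L783467
theorem L783471 : sm gi N59338 = N58172 := ded_18_2 (flp_a L772006) (flp_i L771846) L783467
theorem L783473 : sm ge N58143 = N59339 := rfl
theorem L783475 : sm gb N59339 = N58144 := ded_21_1 (flp_e L771848) L771842 L783473
theorem L783477 : sm gi N59339 = N58173 := ded_44_2 (flp_e L772010) (flp_i L771846) L783473
theorem L783479 : sm gf N58144 = N59340 := rfl
theorem L783481 : sm gc N59340 = N58145 := ded_29_1 (flp_f L771854) (flp_c L771850) L783479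
theorem L783483 : sm gi N59340 = N58174 := ded_48_2 (flp_f L772014) (flp_i L771852) L783479
theorem L783485 : sm gb N58147 = N59341 := rfl
theorem L783487 : sm gd N59341 = N58151 := ded_20_2 (flp_b L771886) (flp_d L771868) L783485
theorem L783489 : sm gg N59341 = N58154 := ded_23_2 (flp_b L771904) (flp_g L771866) L783485
theorem L783491 : sm ge N58147 = N59342 := rfl
theorem L783493 : sm gc N59342 = N58148 := ded_28_1 (flp_e L771870) L771864 L783491
theorem L783495 : sm gg N59342 = N58155 := ded_41_2 (flp_e L771910) (flp_g L771866) L783491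
theorem L783497 : sm gd N59342 = N58163 := ded_34_1 (flp_e L771952) (flp_d L770160) L770154 (flp_d L771868) L783491
theorem L783499 : sm gb N58149 = N59343 := rfl
theorem L783501 : sm gf N59343 = N58151 := ded_22_2 (flp_b L771886) (flp_f L771878) L783499
theorem L783503 : sm gh N59343 = N58285 := ded_25_2 (flp_b L772683) (flp_h L771880) L783499
theorem L783505 : sm ge N58149 = N59344 := rfl
theorem L783507 : sm gc N59344 = N58150 := ded_28_1 (flp_e L771882) L771876 L783505
theorem L783509 : sm gh N59344 = N58286 := ded_43_2 (flp_e L772687) (flp_h L771880) L783505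
theorem L783511 : sm ga N58151 = N59345 := rfl
theorem L783513 : sm gg N59345 = N58156 := ded_15_2 (flp_a L771916) (flp_g L771888) L783511
theorem L783515 : sm gh N59345 = N58287 := ded_17_2 (flp_a L772691) (flp_h L771890) L783511
theorem L783517 : sm gb N58152 = N59346 := rfl
theorem L783519 : sm gj N59346 = N58162 := ded_24_2 (flp_b L771948) (flp_j L771894) L783517
theorem L783521 : sm gc N59346 = N58154 := ded_19_2 (flp_b L771904) (flp_c L760257) (flp_b L760245) L771892 L783517
theorem L783523 : sm ge N58152 = N59347 := rfl
theorem L783525 : sm gc N59347 = N58153 := ded_28_1 (flp_e L771896) L771892 L783523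
theorem L783527 : sm gj N59347 = N58163 := ded_42_2 (flp_e L771952) (flp_j L771894) L783523
theorem L783529 : sm ga N58154 = N59348 := rfl
theorem L783531 : sm gd N59348 = N58156 := ded_12_2 (flp_a L771916) (flp_d L771906) L783529
theorem L783533 : sm gj N59348 = N58172 := ded_16_2 (flp_a L772006) (flp_j L771908) L783529
theorem L783535 : sm ge N58154 = N59349 := rfl
theorem L783537 : sm gb N59349 = N58155 := ded_21_1 (flp_e L771910) L771904 L783535
theorem L783539 : sm gj N59349 = N58173 := ded_42_2 (flp_e L772010) (flp_j L771908) L783535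
theorem L783541 : sm gb N58157 = N59350 := rfl
theorem L783543 : sm ge N58157 = N59351 := rfl
theorem L783545 : sm ga N59351 = N58163 := ded_13_1 (flp_e L771952) (flp_a L771924) L783543
theorem L783547 : sm gc N59351 = N58158 := ded_28_1 (flp_e L771926) L771922 L783543
theorem L783549 : sm gb N58159 = N59352 := rfl
theorem L783551 : sm gh N59352 = N58162 := ded_25_2 (flp_b L771948) (flp_h L771934) L783549
theorem L783553 : sm gc N59352 = N58167 := ded_19_2 (flp_b L771974) (flp_c L760317) (flp_b L760287) L771932 L783549
theorem L783555 : sm ge N58159 = N59353 := rfl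
theorem L783557 : sm gc N59353 = N58160 := ded_28_1 (flp_e L771936) L771932 L783555
theorem L783559 : sm gh N59353 = N58163 := ded_43_2 (flp_e L771952) (flp_h L771934) L783555
theorem L783561 : sm gb N58161 = N59354 := rfl
theorem L783563 : sm gf N59354 = N58162 := ded_22_2 (flp_b L771948) (flp_f L771946) L783561
theorem L783565 : sm gc N59354 = N58170 := ded_19_2 (flp_b L771992) (flp_c L760333) (flp_b L760293) L771944 L783561
theorem L783567 : sm ga N58162 = N59355 := rfl
theorem L783569 : sm gc N59355 = N58172 := ded_11_2 (flp_a L772006) (flp_c L771950) L783567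
theorem L783571 : sm ge N58162 = N59356 := rfl
theorem L783573 : sm gb N59356 = N58163 := ded_21_1 (flp_e L771952) L771948 L783571
theorem L783575 : sm gc N59356 = N58173 := ded_28_1 (flp_e L772010) (flp_c L771950) L783571
theorem L783577 : sm gf N58163 = N59357 := rfl
theorem L783579 : sm gc N59357 = N58164 := ded_29_1 (flp_f L771956) (flp_c L771954) L783577
theorem L783581 : sm gb N58165 = N59358 := rfl
theorem L783583 : sm gd N59358 = N58316 := ded_20_2 (flp_b L772887) (flp_d L771966) L783581
theorem L783585 : sm gi N59358 = N58167 := ded_26_2 (flp_b L771974) (flp_i L771964) L783581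
theorem L783587 : sm ge N58165 = N59359 := rfl
theorem L783589 : sm gc N59359 = N58166 := ded_28_1 (flp_e L771968) L771962 L783587
theorem L783591 : sm gi N59359 = N58168 := ded_44_2 (flp_e L771980) (flp_i L771964) L783587
theorem L783593 : sm ga N58167 = N59360 := rfl
theorem L783595 : sm gd N59360 = N58317 := ded_12_2 (flp_a L772891) (flp_d L771976) L783593
theorem L783597 : sm gh N59360 = N58172 := ded_17_2 (flp_a L772006) (flp_h L771978) L783593
theorem L783599 : sm ge N58167 = N59361 := rfl
theorem L783601 : sm gb N59361 = N58168 := ded_21_1 (flp_e L771980) L771974 L783599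
theorem L783603 : sm gh N59361 = N58173 := ded_43_2 (flp_e L772010) (flp_h L771978) L783599
theorem L783605 : sm gb N58169 = N59362 := rfl
theorem L783607 : sm gd N59362 = N58176 := ded_20_2 (flp_b L772022) (flp_d L771990) L783605
theorem L783609 : sm gg N59362 = N58170 := ded_23_2 (flp_b L771992) (flp_g L771988) L783605
theorem L783611 : sm ga N58170 = N59363 := rfl
theorem L783613 : sm gd N59363 = N58177 := ded_12_2 (flp_a L772028) (flp_d L771994) L783611
theorem L783615 : sm gf N59363 = N58172 := ded_14_2 (flp_a L772006) (flp_f L771996) L783611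
theorem L783617 : sm ge N58170 = N59364 := rfl
theorem L783619 : sm gb N59364 = N58171 := ded_21_1 (flp_e L771998) L771992 L783617
theorem L783621 : sm gj N59364 = N58176 := ded_42_2 (flp_e L773208) L773214 L783617
theorem L783623 : sm gh N59364 = N58328 := ded_43_2 (flp_e L774868) L774874 L783617
theorem L783625 : sm ge N58172 = N59365 := rfl
theorem L783627 : sm ga N59365 = N58173 := ded_13_1 (flp_e L772010) L772006 L783625
theorem L783629 : sm gf N58173 = N59366 := rfl
theorem L783631 : sm gb N59366 = N58174 := ded_22_1 (flp_f L772014) (flp_b L772012) L783629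
theorem L783633 : sm gg N58174 = N59367 := rfl
theorem L783635 : sm gc N59367 = N58175 := ded_30_1 (flp_g L772018) (flp_c L772016) L783633
theorem L783637 : sm ga N58176 = N59368 := rfl
theorem L783639 : sm gg N59368 = N58177 := ded_15_2 (flp_a L772028) (flp_g L772024) L783637
theorem L783641 : sm gh N59368 = N58329 := ded_17_2 (flp_a L772951) (flp_h L772026) L783637
theorem L783643 : sm gc N58178 = N59369 := rfl
theorem L783645 : sm ga N59369 = N58190 := ded_11_1 (flp_c L772116) (flp_a L772036) L783643
theorem L783647 : sm gf N59369 = N58179 := ded_29_2 (flp_c L772040) (flp_f L772038) L783643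
theorem L783649 : sm ge N58178 = N59370 := rfl
theorem L783651 : sm ga N59370 = N58191 := ded_13_1 (flp_e L772120) (flp_a L772036) L783649
theorem L783653 : sm gd N59370 = N59370 := ded_34_1 (flp_e L783649) (flp_d L772034) L760396 L772034 L783649
theorem L783654 : sm gf N59370 = N58223 := ded_40_2 (flp_e L772319) L760670 (flp_e L760405) (flp_f L772038) L783649
theorem L783656 : sm gb N58179 = N59371 := rfl
theorem L783658 : sm ge N59371 = N58224 := ded_21_2 (flp_b L772324) (flp_e L772044) L783656
theorem L783660 : sm gg N59371 = N58180 := ded_23_2 (flp_b L772048) (flp_g L772046) L783656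
theorem L783662 : sm ga N58180 = N59372 := rfl
theorem L783664 : sm ge N59372 = N58227 := ded_13_2 (flp_a L772338) (flp_e L772050) L783662
theorem L783666 : sm gj N59372 = N58181 := ded_16_2 (flp_a L772054) (flp_j L772052) L783662
theorem L783668 : sm gb N59372 = N58202 := ded_10_2 (flp_a L772191) (flp_b L760542) (flp_a L760409) L772048 L783662
theorem L783670 : sm ga N58182 = N59373 := rfl
theorem L783672 : sm ge N59373 = N58245 := ded_13_2 (flp_a L772434) (flp_e L772062) L783670
theorem L783674 : sm gh N59373 = N58186 := ded_17_2 (flp_a L772090) (flp_h L772064) L783670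
theorem L783676 : sm gb N58183 = N59374 := rfl
theorem L783678 : sm ge N59374 = N58250 := ded_21_2 (flp_b L772463) (flp_e L772068) L783676
theorem L783680 : sm gg N59374 = N58184 := ded_23_2 (flp_b L772074) (flp_g L772070) L783676
theorem L783682 : sm gi N59374 = N58192 := ded_26_2 (flp_b L772125) (flp_i L772072) L783676
theorem L783684 : sm ga N58184 = N59375 := rfl
theorem L783686 : sm ge N59375 = N58254 := ded_13_2 (flp_a L772491) (flp_e L772076) L783684
theorem L783688 : sm gj N59375 = N58186 := ded_16_2 (flp_a L772090) (flp_j L772078) L783684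
theorem L783690 : sm gi N59375 = N58202 := ded_18_2 (flp_a L772191) (flp_i L772080) L783684
theorem L783692 : sm ga N58185 = N59376 := rfl
theorem L783694 : sm gc N59376 = N58220 := ded_11_2 (flp_a L772299) (flp_c L772088) L783692
theorem L783696 : sm gf N59376 = N58186 := ded_14_2 (flp_a L772090) (flp_f L772084) L783692
theorem L783698 : sm gi N59376 = N58214 := ded_18_2 (flp_a L772264) (flp_i L772086) L783692
theorem L783700 : sm gc N58187 = N59377 := rfl
theorem L783702 : sm gf N59377 = N58188 := ded_29_2 (flp_c L772100) (flp_f L772098) L783700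
theorem L783704 : sm gd N59377 = N58190 := ded_27_2 (flp_c L772116) (flp_d L760475) (flp_c L760455) L772096 L783700
theorem L783706 : sm ge N58187 = N59378 := rfl
theorem L783708 : sm gd N59378 = N59378 := ded_34_1 (flp_e L783706) (flp_d L772096) L760457 L772096 L783706
theorem L783709 : sm gb N58188 = N59379 := rfl
theorem L783711 : sm gd N59379 = N58192 := ded_20_2 (flp_b L772125) (flp_d L772104) L783709
theorem L783713 : sm gg N59379 = N58199 := ded_23_2 (flp_b L772171) (flp_g L772102) L783709
theorem L783715 : sm gc N58189 = N59380 := rfl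
theorem L783717 : sm gf N59380 = N58200 := ded_29_2 (flp_c L772177) (flp_f L772110) L783715
theorem L783719 : sm gg N59380 = N58190 := ded_30_2 (flp_c L772116) (flp_g L772112) L783715
theorem L783721 : sm gi N59380 = N58208 := ded_33_2 (flp_c L772235) (flp_i L772114) L783715
theorem L783723 : sm ge N58189 = N59381 := rfl
theorem L783725 : sm gb N59381 = N58223 := ded_21_1 (flp_e L772319) (flp_b L772108) L783723
theorem L783727 : sm gg N59381 = N58191 := ded_41_2 (flp_e L772120) (flp_g L772112) L783723
theorem L783729 : sm gi N59381 = N58209 := ded_44_2 (flp_e L772241) (flp_i L772114) L783723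
theorem L783731 : sm gd N59381 = N59381 := ded_34_1 (flp_e L783723) (flp_d L772106) L760468 L772106 L783723
theorem L783732 : sm gb N58190 = N59382 := rfl
theorem L783734 : sm gf N59382 = N58192 := ded_22_2 (flp_b L772125) (flp_f L772118) L783732
theorem L783736 : sm ge N58190 = N59383 := rfl
theorem L783738 : sm gc N59383 = N58191 := ded_28_1 (flp_e L772120) L772116 L783736
theorem L783740 : sm gf N59383 = N58286 := ded_40_2 (flp_e L772687) L761047 (flp_e L760481) (flp_f L772118) L783736
theorem L783742 : sm ga N58192 = N59384 := rfl
theorem L783744 : sm ge N59384 = N58287 := ded_13_2 (flp_a L772691) (flp_e L772127) L783742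
theorem L783746 : sm gg N59384 = N58202 := ded_15_2 (flp_a L772191) (flp_g L772129) L783742
theorem L783748 : sm gc N58193 = N59385 := rfl
theorem L783750 : sm gf N59385 = N58194 := ded_29_2 (flp_c L772139) (flp_f L772135) L783748
theorem L783752 : sm gj N59385 = N58205 := ded_31_2 (flp_c L772219) (flp_j L772137) L783748
theorem L783754 : sm gd N59385 = N58225 := ded_27_2 (flp_c L772328) (flp_d L760678) (flp_c L760489) L772131 L783748
theorem L783756 : sm ge N58193 = N59386 := rfl
theorem L783758 : sm gb N59386 = N58198 := ded_21_1 (flp_e L772165) (flp_b L772133) L783756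
theorem L783760 : sm gj N59386 = N58206 := ded_42_2 (flp_e L772225) (flp_j L772137) L783756
theorem L783762 : sm gd N59386 = N58215 := ded_34_1 (flp_e L772270) (flp_d L760613) (flp_e L760491) L772131 L783756
theorem L783764 : sm gb N58194 = N59387 := rfl
theorem L783766 : sm gj N59387 = N58207 := ded_24_2 (flp_b L772231) (flp_j L772141) L783764
theorem L783768 : sm gc N59387 = N58199 := ded_19_2 (flp_b L772171) (flp_c L760522) (flp_b L760499) L772139 L783764
theorem L783770 : sm gc N58195 = N59388 := rfl
theorem L783772 : sm gf N59388 = N58196 := ded_29_2 (flp_c L772151) (flp_f L772145) L783770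
theorem L783774 : sm gj N59388 = N58208 := ded_31_2 (flp_c L772235) (flp_j L772147) L783770
theorem L783776 : sm gh N59388 = N58197 := ded_32_2 (flp_c L772157) (flp_h L772149) L783770
theorem L783778 : sm ge N58195 = N59389 := rfl
theorem L783780 : sm gj N59389 = N58209 := ded_42_2 (flp_e L772241) (flp_j L772147) L783778
theorem L783782 : sm gh N59389 = N58198 := ded_43_2 (flp_e L772165) (flp_h L772149) L783778
theorem L783784 : sm gd N59389 = N59389 := ded_34_1 (flp_e L783778) (flp_d L772143) L760505 L772143 L783778
theorem L783785 : sm gb N58196 = N59390 := rfl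
theorem L783787 : sm gj N59390 = N58210 := ded_24_2 (flp_b L772246) (flp_j L772153) L783785
theorem L783789 : sm gh N59390 = N58199 := ded_25_2 (flp_b L772171) (flp_h L772155) L783785
theorem L783791 : sm gb N58197 = N59391 := rfl
theorem L783793 : sm gd N59391 = N58201 := ded_20_2 (flp_b L772183) (flp_d L772163) L783791
theorem L783795 : sm gf N59391 = N58199 := ded_22_2 (flp_b L772171) (flp_f L772159) L783791
theorem L783797 : sm gj N59391 = N58211 := ded_24_2 (flp_b L772250) (flp_j L772161) L783791
theorem L783799 : sm ge N58197 = N59392 := rfl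
theorem L783801 : sm gc N59392 = N58198 := ded_28_1 (flp_e L772165) L772157 L783799
theorem L783803 : sm gj N59392 = N58212 := ded_42_2 (flp_e L772256) (flp_j L772161) L783799
theorem L783805 : sm ga N58199 = N59393 := rfl
theorem L783807 : sm gd N59393 = N58202 := ded_12_2 (flp_a L772191) (flp_d L772173) L783805
theorem L783809 : sm gj N59393 = N58213 := ded_16_2 (flp_a L772260) (flp_j L772175) L783805
theorem L783811 : sm gb N58200 = N59394 := rfl
theorem L783813 : sm gg N59394 = N58201 := ded_23_2 (flp_b L772183) (flp_g L772179) L783811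
theorem L783815 : sm gi N59394 = N58210 := ded_26_2 (flp_b L772246) (flp_i L772181) L783811
theorem L783817 : sm gc N59394 = N58224 := ded_19_2 (flp_b L772324) (flp_c L760672) (flp_b L760530) L772177 L783811
theorem L783819 : sm ga N58201 = N59395 := rfl
theorem L783821 : sm gc N59395 = N58227 := ded_11_2 (flp_a L772338) (flp_c L772189) L783819
theorem L783823 : sm gf N59395 = N58202 := ded_14_2 (flp_a L772191) (flp_f L772185) L783819
theorem L783825 : sm gj N59395 = N58214 := ded_16_2 (flp_a L772264) (flp_j L772187) L783819
theorem L783827 : sm gc N58203 = N59396 := rfl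
theorem L783829 : sm ga N59396 = N58248 := ded_11_1 (flp_c L772452) (flp_a L772199) L783827
theorem L783831 : sm gf N59396 = N58204 := ded_29_2 (flp_c L772209) (flp_f L772203) L783827
theorem L783833 : sm gh N59396 = N58205 := ded_32_2 (flp_c L772219) (flp_h L772207) L783827
theorem L783835 : sm gi N59396 = N58222 := ded_33_2 (flp_c L772313) (flp_i L772205) L783827
theorem L783837 : sm ge N58203 = N59397 := rfl
theorem L783839 : sm ga N59397 = N58249 := ded_13_1 (flp_e L772458) (flp_a L772199) L783837
theorem L783841 : sm gb N59397 = N58209 := ded_21_1 (flp_e L772241) (flp_b L772201) L783837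
theorem L783843 : sm gh N59397 = N58206 := ded_43_2 (flp_e L772225) (flp_h L772207) L783837
theorem L783845 : sm gi N59397 = N58223 := ded_44_2 (flp_e L772319) (flp_i L772205) L783837
theorem L783847 : sm gd N59397 = N59397 := ded_34_1 (flp_e L783837) (flp_d L772197) L760554 L772197 L783837
theorem L783848 : sm gb N58204 = N59398 := rfl
theorem L783850 : sm gg N59398 = N58219 := ded_23_2 (flp_b L772293) (flp_g L772213) L783848
theorem L783852 : sm gh N59398 = N58207 := ded_25_2 (flp_b L772231) (flp_h L772215) L783848
theorem L783854 : sm gi N59398 = N58224 := ded_26_2 (flp_b L772324) (flp_i L772217) L783848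
theorem L783856 : sm gc N59398 = N58210 := ded_19_2 (flp_b L772246) (flp_c L760585) (flp_b L760563) L772209 L783848
theorem L783858 : sm gb N58205 = N59399 := rfl
theorem L783860 : sm gd N59399 = N58230 := ded_20_2 (flp_b L772352) (flp_d L772223) L783858
theorem L783862 : sm gf N59399 = N58207 := ded_22_2 (flp_b L772231) (flp_f L772221) L783858
theorem L783864 : sm gc N59399 = N58211 := ded_19_2 (flp_b L772250) (flp_c L760589) (flp_b L760573) L772219 L783858
theorem L783866 : sm ge N58205 = N59400 := rfl
theorem L783868 : sm gc N59400 = N58206 := ded_28_1 (flp_e L772225) L772219 L783866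
theorem L783870 : sm ga N58207 = N59401 := rfl
theorem L783872 : sm gc N59401 = N58213 := ded_11_2 (flp_a L772260) (flp_c L772233) L783870
theorem L783874 : sm gb N58208 = N59402 := rfl
theorem L783876 : sm gf N59402 = N58210 := ded_22_2 (flp_b L772246) (flp_f L772237) L783874
theorem L783878 : sm gh N59402 = N58211 := ded_25_2 (flp_b L772250) (flp_h L772239) L783874
theorem L783880 : sm ge N58208 = N59403 := rfl
theorem L783882 : sm gc N59403 = N58209 := ded_28_1 (flp_e L772241) L772235 L783880
theorem L783884 : sm gh N59403 = N58212 := ded_43_2 (flp_e L772256) (flp_h L772239) L783880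
theorem L783886 : sm ga N58210 = N59404 := rfl
theorem L783888 : sm gh N59404 = N58213 := ded_17_2 (flp_a L772260) (flp_h L772248) L783886
theorem L783890 : sm ga N58211 = N59405 := rfl
theorem L783892 : sm gd N59405 = N58214 := ded_12_2 (flp_a L772264) (flp_d L772252) L783890
theorem L783894 : sm gf N59405 = N58213 := ded_14_2 (flp_a L772260) (flp_f L772254) L783890
theorem L783896 : sm ge N58211 = N59406 := rfl
theorem L783898 : sm gb N59406 = N58212 := ded_21_1 (flp_e L772256) L772250 L783896
theorem L783900 : sm gb N58216 = N59407 := rfl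
theorem L783902 : sm gd N59407 = N58218 := ded_20_2 (flp_b L772289) (flp_d L772281) L783900
theorem L783904 : sm ge N58216 = N59408 := rfl
theorem L783906 : sm ga N59408 = N58244 := ded_13_1 (flp_e L772430) (flp_a L772279) L783904
theorem L783908 : sm gc N59408 = N58217 := ded_28_1 (flp_e L772283) L772277 L783904
theorem L783910 : sm ga N58218 = N59409 := rfl
theorem L783912 : sm gh N59409 = N58220 := ded_17_2 (flp_a L772299) (flp_h L772291) L783910
theorem L783914 : sm gb N59409 = N58245 := ded_10_2 (flp_a L772434) (flp_b L760794) (flp_a L760644) L772289 L783910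
theorem L783916 : sm ga N58219 = N59410 := rfl
theorem L783918 : sm gj N59410 = N58220 := ded_16_2 (flp_a L772299) (flp_j L772295) L783916
theorem L783920 : sm gi N59410 = N58227 := ded_18_2 (flp_a L772338) (flp_i L772297) L783916
theorem L783922 : sm gb N59410 = N58254 := ded_10_2 (flp_a L772491) (flp_b L760849) (flp_a L760650) L772293 L783916
theorem L783924 : sm gb N58221 = N59411 := rfl
theorem L783926 : sm gd N59411 = N58224 := ded_20_2 (flp_b L772324) (flp_d L772311) L783924
theorem L783928 : sm gg N59411 = N58226 := ded_23_2 (flp_b L772332) (flp_g L772309) L783924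
theorem L783930 : sm gb N58222 = N59412 := rfl
theorem L783932 : sm gf N59412 = N58224 := ded_22_2 (flp_b L772324) (flp_f L772317) L783930
theorem L783934 : sm ge N58222 = N59413 := rfl
theorem L783936 : sm ga N59413 = N58286 := ded_13_1 (flp_e L772687) (flp_a L772315) L783934
theorem L783938 : sm gc N59413 = N58223 := ded_28_1 (flp_e L772319) L772313 L783934
theorem L783940 : sm ga N58224 = N59414 := rfl
theorem L783942 : sm gg N59414 = N58227 := ded_15_2 (flp_a L772338) (flp_g L772326) L783940
theorem L783944 : sm gb N59414 = N58287 := ded_10_2 (flp_a L772691) (flp_b L761052) (flp_a L760674) L772324 L783940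
theorem L783946 : sm gb N58225 = N59415 := rfl
theorem L783948 : sm gj N59415 = N58230 := ded_24_2 (flp_b L772352) (flp_j L772330) L783946
theorem L783950 : sm gc N59415 = N58226 := ded_19_2 (flp_b L772332) (flp_c L760684) (flp_b L760680) L772328 L783946
theorem L783952 : sm ga N58226 = N59416 := rfl
theorem L783954 : sm gd N59416 = N58227 := ded_12_2 (flp_a L772338) (flp_d L772334) L783952
theorem L783956 : sm gj N59416 = N58233 := ded_16_2 (flp_a L772366) (flp_j L772336) L783952
theorem L783958 : sm gb N59416 = N58295 := ded_10_2 (flp_a L772761) (flp_b L761096) (flp_a L760686) L772332 L783952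
theorem L783960 : sm gb N58228 = N59417 := rfl
theorem L783962 : sm gc N59417 = N58303 := ded_19_2 (flp_b L772815) (flp_c L761154) (flp_b L760700) L772344 L783960
theorem L783964 : sm gb N58229 = N59418 := rfl
theorem L783966 : sm gh N59418 = N58230 := ded_25_2 (flp_b L772352) (flp_h L772350) L783964
theorem L783968 : sm gc N59418 = N58232 := ded_19_2 (flp_b L772362) (flp_c L760716) (flp_b L760704) L772348 L783964
theorem L783970 : sm ga N58230 = N59419 := rfl
theorem L783972 : sm gc N59419 = N58233 := ded_11_2 (flp_a L772366) (flp_c L772354) L783970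
theorem L783974 : sm gb N58231 = N59420 := rfl
theorem L783976 : sm gi N59420 = N58232 := ded_26_2 (flp_b L772362) (flp_i L772360) L783974
theorem L783978 : sm ga N58232 = N59421 := rfl
theorem L783980 : sm gh N59421 = N58233 := ded_17_2 (flp_a L772366) (flp_h L772364) L783978
theorem L783982 : sm gb N59421 = N58317 := ded_10_2 (flp_a L772891) (flp_b L761214) (flp_a L760718) L772362 L783978
theorem L783984 : sm gc N58234 = N59422 := rfl
theorem L783986 : sm ga N59422 = N58237 := ded_11_1 (flp_c L772396) (flp_a L772374) L783984
theorem L783988 : sm gj N59422 = N58304 := ded_31_2 (flp_c L772817) (flp_j L772378) L783984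
theorem L783990 : sm ge N58234 = N59423 := rfl
theorem L783992 : sm ga N59423 = N58238 := ded_13_1 (flp_e L772398) (flp_a L772374) L783990
theorem L783994 : sm gb N59423 = N58319 := ded_21_1 (flp_e L772901) (flp_b L772376) L783990
theorem L783996 : sm gj N59423 = N58305 := ded_42_2 (flp_e L772821) (flp_j L772378) L783990
theorem L783998 : sm gd N59423 = N58235 := ded_34_1 (flp_e L772380) (flp_d L760740) (flp_e L760736) L772372 L783990
theorem L784000 : sm gc N58236 = N59424 := rfl
theorem L784002 : sm gh N59424 = N58237 := ded_32_2 (flp_c L772396) (flp_h L772394) L784000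
theorem L784004 : sm ge N58236 = N59425 := rfl
theorem L784006 : sm gb N59425 = N58242 := ded_21_1 (flp_e L772420) (flp_b L772392) L784004
theorem L784008 : sm gh N59425 = N58238 := ded_43_2 (flp_e L772398) (flp_h L772394) L784004
theorem L784010 : sm gd N59425 = N58332 := ded_34_1 (flp_e L772973) (flp_d L761351) (flp_e L760756) L772390 L784004
theorem L784012 : sm gb N58237 = N59426 := rfl
theorem L784014 : sm gc N59426 = N58243 := ded_19_2 (flp_b L772426) (flp_c L760786) (flp_b L760760) L772396 L784012
theorem L784016 : sm ge N58237 = N59427 := rfl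
theorem L784018 : sm gc N59427 = N58238 := ded_28_1 (flp_e L772398) L772396 L784016
theorem L784020 : sm gd N58239 = N59428 := rfl
theorem L784022 : sm gc N58240 = N59429 := rfl
theorem L784024 : sm gi N59429 = N58241 := ded_33_2 (flp_c L772414) (flp_i L772412) L784022
theorem L784026 : sm gd N59429 = N58267 := ded_27_2 (flp_c L772569) (flp_d L760917) (flp_c L760776) L772410 L784022
theorem L784028 : sm ge N58240 = N59430 := rfl
theorem L784030 : sm gi N59430 = N58242 := ded_44_2 (flp_e L772420) (flp_i L772412) L784028
theorem L784032 : sm gd N59430 = N58333 := ded_34_1 (flp_e L772979) (flp_d L761370) (flp_e L760778) L772410 L784028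
theorem L784034 : sm gb N58241 = N59431 := rfl
theorem L784036 : sm gd N59431 = N58268 := ded_20_2 (flp_b L772575) (flp_d L772418) L784034
theorem L784038 : sm gh N59431 = N58243 := ded_25_2 (flp_b L772426) (flp_h L772416) L784034
theorem L784040 : sm ge N58241 = N59432 := rfl
theorem L784042 : sm gc N59432 = N58242 := ded_28_1 (flp_e L772420) L772414 L784040
theorem L784044 : sm gh N59432 = N58244 := ded_43_2 (flp_e L772430) (flp_h L772416) L784040
theorem L784046 : sm ga N58243 = N59433 := rfl
theorem L784048 : sm gd N59433 = N58245 := ded_12_2 (flp_a L772434) (flp_d L772428) L784046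
theorem L784050 : sm ge N58243 = N59434 := rfl
theorem L784052 : sm gb N59434 = N58244 := ded_21_1 (flp_e L772430) L772426 L784050
theorem L784054 : sm gc N58246 = N59435 := rfl
theorem L784056 : sm gf N59435 = N58247 := ded_29_2 (flp_c L772444) (flp_f L772440) L784054
theorem L784058 : sm gi N59435 = N58280 := ded_33_2 (flp_c L772657) (flp_i L772442) L784054
theorem L784060 : sm gd N59435 = N58248 := ded_27_2 (flp_c L772452) (flp_d L760813) (flp_c L760800) L772438 L784054
theorem L784062 : sm ge N58246 = N59436 := rfl
theorem L784064 : sm gi N59436 = N58281 := ded_44_2 (flp_e L772663) (flp_i L772442) L784062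
theorem L784066 : sm gd N59436 = N59436 := ded_34_1 (flp_e L784062) (flp_d L772438) L760802 L772438 L784062
theorem L784067 : sm gb N58247 = N59437 := rfl
theorem L784069 : sm gd N59437 = N58250 := ded_20_2 (flp_b L772463) (flp_d L772450) L784067
theorem L784071 : sm gg N59437 = N58253 := ded_23_2 (flp_b L772483) (flp_g L772446) L784067
theorem L784073 : sm gi N59437 = N58282 := ded_26_2 (flp_b L772666) (flp_i L772448) L784067
theorem L784075 : sm gb N58248 = N59438 := rfl
theorem L784077 : sm gf N59438 = N58250 := ded_22_2 (flp_b L772463) (flp_f L772454) L784075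
theorem L784079 : sm gi N59438 = N58285 := ded_26_2 (flp_b L772683) (flp_i L772456) L784075
theorem L784081 : sm ge N58248 = N59439 := rfl
theorem L784083 : sm gc N59439 = N58249 := ded_28_1 (flp_e L772458) L772452 L784081
theorem L784085 : sm gi N59439 = N58286 := ded_44_2 (flp_e L772687) (flp_i L772456) L784081
theorem L784087 : sm ga N58250 = N59440 := rfl
theorem L784089 : sm gg N59440 = N58254 := ded_15_2 (flp_a L772491) (flp_g L772465) L784087
theorem L784091 : sm gi N59440 = N58287 := ded_18_2 (flp_a L772691) (flp_i L772467) L784087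
theorem L784093 : sm gb N58251 = N59441 := rfl
theorem L784095 : sm ge N59441 = N58316 := ded_21_2 (flp_b L772887) (flp_e L772471) L784093
theorem L784097 : sm gj N59441 = N58261 := ded_24_2 (flp_b L772531) (flp_j L772473) L784093
theorem L784099 : sm gi N59441 = N58290 := ded_26_2 (flp_b L772715) (flp_i L772475) L784093
theorem L784101 : sm gc N59441 = N58253 := ded_19_2 (flp_b L772483) (flp_c L760841) (flp_b L760827) L772469 L784093
theorem L784103 : sm gb N58252 = N59442 := rfl
theorem L784105 : sm gj N59442 = N58268 := ded_24_2 (flp_b L772575) (flp_j L772479) L784103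
theorem L784107 : sm gh N59442 = N58253 := ded_25_2 (flp_b L772483) (flp_h L772481) L784103
theorem L784109 : sm ga N58253 = N59443 := rfl
theorem L784111 : sm gd N59443 = N58254 := ded_12_2 (flp_a L772491) (flp_d L772485) L784109
theorem L784113 : sm gj N59443 = N58274 := ded_16_2 (flp_a L772615) (flp_j L772487) L784109
theorem L784115 : sm gi N59443 = N58295 := ded_18_2 (flp_a L772761) (flp_i L772489) L784109
theorem L784117 : sm gb N58255 = N59444 := rfl
theorem L784119 : sm gi N59444 = N58303 := ded_26_2 (flp_b L772815) (flp_i L772501) L784117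
theorem L784121 : sm gc N58256 = N59445 := rfl
theorem L784123 : sm gd N59445 = N58258 := ded_27_2 (flp_c L772513) (flp_d L760874) (flp_c L760863) L772503 L784121
theorem L784125 : sm ge N58256 = N59446 := rfl
theorem L784127 : sm gd N59446 = N58334 := ded_34_1 (flp_e L772984) (flp_d L761380) (flp_e L760865) L772503 L784125
theorem L784129 : sm gc N58257 = N59447 := rfl
theorem L784131 : sm gf N59447 = N58258 := ded_29_2 (flp_c L772513) (flp_f L772509) L784129
theorem L784133 : sm gh N59447 = N58259 := ded_32_2 (flp_c L772517) (flp_h L772511) L784129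
theorem L784135 : sm ge N58257 = N59448 := rfl
theorem L784137 : sm gb N59448 = N58266 := ded_21_1 (flp_e L772564) (flp_b L772507) L784135
theorem L784139 : sm gh N59448 = N58260 := ded_43_2 (flp_e L772523) (flp_h L772511) L784135
theorem L784141 : sm gd N59448 = N59448 := ded_34_1 (flp_e L784135) (flp_d L772505) L760871 L772505 L784135
theorem L784142 : sm gb N58258 = N59449 := rfl
theorem L784144 : sm gh N59449 = N58261 := ded_25_2 (flp_b L772531) (flp_h L772515) L784142
theorem L784146 : sm gc N59449 = N58268 := ded_19_2 (flp_b L772575) (flp_c L760923) (flp_b L760876) L772513 L784142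
theorem L784148 : sm gb N58259 = N59450 := rfl
theorem L784150 : sm gf N59450 = N58261 := ded_22_2 (flp_b L772531) (flp_f L772519) L784148
theorem L784152 : sm gi N59450 = N58306 := ded_26_2 (flp_b L772829) (flp_i L772521) L784148
theorem L784154 : sm gc N59450 = N58272 := ded_19_2 (flp_b L772601) (flp_c L760943) (flp_b L760882) L772517 L784148
theorem L784156 : sm ge N58259 = N59451 := rfl
theorem L784158 : sm gc N59451 = N58260 := ded_28_1 (flp_e L772523) L772517 L784156
theorem L784160 : sm gi N59451 = N58307 := ded_44_2 (flp_e L772835) (flp_i L772521) L784156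
theorem L784162 : sm ga N58261 = N59452 := rfl
theorem L784164 : sm gc N59452 = N58274 := ded_11_2 (flp_a L772615) (flp_c L772535) L784162
theorem L784166 : sm gi N59452 = N58308 := ded_18_2 (flp_a L772839) (flp_i L772533) L784162
theorem L784168 : sm gd N58262 = N59453 := rfl
theorem L784170 : sm gg N59453 = N58264 := ded_36_2 (flp_d L772550) (flp_g L772540) L784168
theorem L784172 : sm gi N59453 = N58263 := ded_39_2 (flp_d L772544) (flp_i L772542) L784168
theorem L784174 : sm gh N59453 = N58309 := ded_38_2 (flp_d L772843) (flp_h L761178) (flp_d L760894) L772537 L784168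
theorem L784176 : sm gc N58263 = N59454 := rfl
theorem L784178 : sm gg N59454 = N58265 := ded_30_2 (flp_c L772558) (flp_g L772546) L784176
theorem L784180 : sm gh N59454 = N58270 := ded_32_2 (flp_c L772585) (flp_h L772548) L784176
theorem L784182 : sm ge N58263 = N59455 := rfl
theorem L784184 : sm gg N59455 = N58266 := ded_41_2 (flp_e L772564) (flp_g L772546) L784182
theorem L784186 : sm gh N59455 = N58271 := ded_43_2 (flp_e L772593) (flp_h L772548) L784182
theorem L784188 : sm gd N59455 = N59455 := ded_34_1 (flp_e L784182) (flp_d L772544) L760901 L772544 L784182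
theorem L784189 : sm gc N58264 = N59456 := rfl
theorem L784191 : sm gf N59456 = N58267 := ded_29_2 (flp_c L772569) (flp_f L772552) L784189
theorem L784193 : sm gh N59456 = N58312 := ded_32_2 (flp_c L772863) (flp_h L772556) L784189
theorem L784195 : sm gi N59456 = N58265 := ded_33_2 (flp_c L772558) (flp_i L772554) L784189
theorem L784197 : sm ge N58264 = N59457 := rfl
theorem L784199 : sm gh N59457 = N58313 := ded_43_2 (flp_e L772869) (flp_h L772556) L784197
theorem L784201 : sm gi N59457 = N58266 := ded_44_2 (flp_e L772564) (flp_i L772554) L784197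
theorem L784203 : sm gd N59457 = N59457 := ded_34_1 (flp_e L784197) (flp_d L772550) L760906 L772550 L784197
theorem L784204 : sm gb N58265 = N59458 := rfl
theorem L784206 : sm gf N59458 = N58268 := ded_22_2 (flp_b L772575) (flp_f L772560) L784204
theorem L784208 : sm gh N59458 = N58272 := ded_25_2 (flp_b L772601) (flp_h L772562) L784204
theorem L784210 : sm ge N58265 = N59459 := rfl
theorem L784212 : sm gc N59459 = N58266 := ded_28_1 (flp_e L772564) L772558 L784210
theorem L784214 : sm gh N59459 = N58273 := ded_43_2 (flp_e L772609) (flp_h L772562) L784210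
theorem L784216 : sm gb N58267 = N59460 := rfl
theorem L784218 : sm gh N59460 = N58316 := ded_25_2 (flp_b L772887) (flp_h L772571) L784216
theorem L784220 : sm gi N59460 = N58268 := ded_26_2 (flp_b L772575) (flp_i L772573) L784216
theorem L784222 : sm ga N58268 = N59461 := rfl
theorem L784224 : sm gh N59461 = N58274 := ded_17_2 (flp_a L772615) (flp_h L772577) L784222
theorem L784226 : sm gc N58269 = N59462 := rfl
theorem L784228 : sm gj N59462 = N58270 := ded_31_2 (flp_c L772585) (flp_j L772581) L784226
theorem L784230 : sm gi N59462 = N58318 := ded_33_2 (flp_c L772895) (flp_i L772583) L784226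
theorem L784232 : sm gd N59462 = N58275 := ded_27_2 (flp_c L772621) (flp_d L760963) (flp_c L760929) L772579 L784226
theorem L784234 : sm ge N58269 = N59463 := rfl
theorem L784236 : sm gj N59463 = N58271 := ded_42_2 (flp_e L772593) (flp_j L772581) L784234
theorem L784238 : sm gi N59463 = N58319 := ded_44_2 (flp_e L772901) (flp_i L772583) L784234
theorem L784240 : sm gd N59463 = N58279 := ded_34_1 (flp_e L772648) (flp_d L761011) (flp_e L760931) L772579 L784234
theorem L784242 : sm gb N58270 = N59464 := rfl
theorem L784244 : sm gd N59464 = N58276 := ded_20_2 (flp_b L772627) (flp_d L772591) L784242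
theorem L784246 : sm gg N59464 = N58272 := ded_23_2 (flp_b L772601) (flp_g L772587) L784242
theorem L784248 : sm gi N59464 = N58320 := ded_26_2 (flp_b L772907) (flp_i L772589) L784242
theorem L784250 : sm ge N58270 = N59465 := rfl
theorem L784252 : sm gc N59465 = N58271 := ded_28_1 (flp_e L772593) L772585 L784250
theorem L784254 : sm gg N59465 = N58273 := ded_41_2 (flp_e L772609) (flp_g L772587) L784250
theorem L784256 : sm gi N59465 = N58321 := ded_44_2 (flp_e L772913) (flp_i L772589) L784250
theorem L784258 : sm gf N58271 = N59466 := rfl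
theorem L784260 : sm gd N59466 = N58278 := ded_35_1 L772646 (flp_d L772599) L784258
theorem L784262 : sm gi N59466 = N58322 := ded_48_2 (flp_f L772919) (flp_i L772597) L784258
theorem L784264 : sm ga N58272 = N59467 := rfl
theorem L784266 : sm gd N59467 = N58277 := ded_12_2 (flp_a L772633) (flp_d L772603) L784264
theorem L784268 : sm gf N59467 = N58274 := ded_14_2 (flp_a L772615) (flp_f L772605) L784264
theorem L784270 : sm gi N59467 = N58323 := ded_18_2 (flp_a L772923) (flp_i L772607) L784264
theorem L784272 : sm ge N58272 = N59468 := rfl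
theorem L784274 : sm gb N59468 = N58273 := ded_21_1 (flp_e L772609) L772601 L784272
theorem L784276 : sm gi N59468 = N58324 := ded_44_2 (flp_e L772929) (flp_i L772607) L784272
theorem L784278 : sm gb N58275 = N59469 := rfl
theorem L784280 : sm gj N59469 = N58276 := ded_24_2 (flp_b L772627) (flp_j L772623) L784278
theorem L784282 : sm gi N59469 = N58328 := ded_26_2 (flp_b L772947) (flp_i L772625) L784278
theorem L784284 : sm ga N58276 = N59470 := rfl
theorem L784286 : sm gg N59470 = N58277 := ded_15_2 (flp_a L772633) (flp_g L772629) L784284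
theorem L784288 : sm gi N59470 = N58329 := ded_18_2 (flp_a L772951) (flp_i L772631) L784284
theorem L784290 : sm gb N58280 = N59471 := rfl
theorem L784292 : sm gd N59471 = N58285 := ded_20_2 (flp_b L772683) (flp_d L772661) L784290
theorem L784294 : sm gf N59471 = N58282 := ded_22_2 (flp_b L772666) (flp_f L772659) L784290
theorem L784296 : sm ge N58280 = N59472 := rfl
theorem L784298 : sm gc N59472 = N58281 := ded_28_1 (flp_e L772663) L772657 L784296
theorem L784300 : sm ga N58282 = N59473 := rfl
theorem L784302 : sm gd N59473 = N58287 := ded_12_2 (flp_a L772691) (flp_d L772668) L784300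
theorem L784304 : sm gg N59473 = N58295 := ded_15_2 (flp_a L772761) (flp_g L772670) L784300
theorem L784306 : sm gb N58283 = N59474 := rfl
theorem L784308 : sm gf N59474 = N58300 := ded_22_2 (flp_b L772799) (flp_f L772674) L784306
theorem L784310 : sm gg N59474 = N58285 := ded_23_2 (flp_b L772683) (flp_g L772676) L784306
theorem L784312 : sm ge N58283 = N59475 := rfl
theorem L784314 : sm gc N59475 = N58284 := ded_28_1 (flp_e L772678) L772672 L784312
theorem L784316 : sm gg N59475 = N58286 := ded_41_2 (flp_e L772687) (flp_g L772676) L784312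
theorem L784318 : sm ga N58285 = N59476 := rfl
theorem L784320 : sm gf N59476 = N58287 := ded_14_2 (flp_a L772691) (flp_f L772685) L784318
theorem L784322 : sm ge N58285 = N59477 := rfl
theorem L784324 : sm gb N59477 = N58286 := ded_21_1 (flp_e L772687) L772683 L784322
theorem L784326 : sm gd N58286 = N59478 := rfl
theorem L784328 : sm gc N59478 = N59478 := ded_27_1 (flp_d L784326) L772689 L761051 (flp_c L772689) L784326
theorem L784329 : sm gb N58288 = N59479 := rfl
theorem L784331 : sm gf N59479 = N58290 := ded_22_2 (flp_b L772715) (flp_f L772697) L784329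
theorem L784333 : sm gj N59479 = N58306 := ded_24_2 (flp_b L772829) (flp_j L772699) L784329
theorem L784335 : sm gh N59479 = N58327 := ded_25_2 L772945 (flp_h L772701) L784329
theorem L784337 : sm gc N59479 = N58292 := ded_19_2 (flp_b L772735) (flp_c L761082) (flp_b L761058) L772695 L784329
theorem L784339 : sm ge N58288 = N59480 := rfl
theorem L784341 : sm gc N59480 = N58289 := ded_28_1 (flp_e L772703) L772695 L784339
theorem L784343 : sm gj N59480 = N58307 := ded_42_2 (flp_e L772835) (flp_j L772699) L784339
theorem L784345 : sm gh N59480 = N58325 := ded_43_2 L772937 (flp_h L772701) L784339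
theorem L784347 : sm gf N59480 = N58315 := ded_40_2 (flp_e L772881) L761200 (flp_e L761068) (flp_f L772697) L784339
theorem L784349 : sm ga N58290 = N59481 := rfl
theorem L784351 : sm gc N59481 = N58295 := ded_11_2 (flp_a L772761) (flp_c L772723) L784349
theorem L784353 : sm ge N59481 = N58317 := ded_13_2 (flp_a L772891) (flp_e L772717) L784349
theorem L784355 : sm gj N59481 = N58308 := ded_16_2 (flp_a L772839) (flp_j L772719) L784349
theorem L784357 : sm gh N59481 = N58326 := ded_17_2 L772941 (flp_h L772721) L784349
theorem L784359 : sm ga N58291 = N59482 := rfl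
theorem L784361 : sm gc N59482 = N58326 := ded_11_2 L772941 (flp_c L772733) L784359
theorem L784363 : sm ge N59482 = N58308 := ded_13_2 (flp_a L772839) (flp_e L772727) L784359
theorem L784365 : sm gj N59482 = N58317 := ded_16_2 (flp_a L772891) (flp_j L772729) L784359
theorem L784367 : sm gh N59482 = N58295 := ded_17_2 (flp_a L772761) (flp_h L772731) L784359
theorem L784369 : sm ga N58292 = N59483 := rfl
theorem L784371 : sm gd N59483 = N58301 := ded_12_2 (flp_a L772803) (flp_d L772737) L784369
theorem L784373 : sm gf N59483 = N58295 := ded_14_2 (flp_a L772761) (flp_f L772739) L784369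
theorem L784375 : sm gj N59483 = N58323 := ded_16_2 (flp_a L772923) (flp_j L772741) L784369
theorem L784377 : sm ge N58292 = N59484 := rfl
theorem L784379 : sm gb N59484 = N58293 := ded_21_1 (flp_e L772743) L772735 L784377
theorem L784381 : sm gj N59484 = N58324 := ded_42_2 (flp_e L772929) (flp_j L772741) L784377
theorem L784383 : sm gf N58293 = N59485 := rfl
theorem L784385 : sm gc N59485 = N58294 := ded_29_1 (flp_f L772749) (flp_c L772745) L784383
theorem L784387 : sm gj N59485 = N58325 := ded_46_2 (flp_f L772933) (flp_j L772747) L784383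
theorem L784389 : sm gh N59485 = N58307 := ded_47_2 (flp_f L774904) L774900 L784383
theorem L784391 : sm ge N59485 = N58297 := ded_40_1 (flp_f L772777) (flp_e L761102) (flp_f L761084) L772743 L784383
theorem L784393 : sm gg N58294 = N59486 := rfl
theorem L784395 : sm gb N59486 = N58311 := ded_23_1 L772857 (flp_b L772751) L784393
theorem L784397 : sm gd N59486 = N58331 := ded_36_1 (flp_g L772965) (flp_d L772753) L784393
theorem L784399 : sm ge N59486 = N58298 := ded_41_1 (flp_g L772785) (flp_e L772759) L784393
theorem L784401 : sm gh N59486 = N58305 := ded_50_2 L772825 (flp_h L772757) L784393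
theorem L784403 : sm ge N58295 = N59487 := rfl
theorem L784405 : sm ga N59487 = N58296 := ded_13_1 (flp_e L772767) L772761 L784403
theorem L784407 : sm gc N59487 = N58317 := ded_28_1 (flp_e L784353) L784351 L784403
theorem L784409 : sm gj N59487 = N58326 := ded_42_2 (flp_e L772939) (flp_j L772765) L784403
theorem L784411 : sm gh N59487 = N58308 := ded_43_2 (flp_e L784363) L784367 L784403
theorem L784413 : sm gf N58296 = N59488 := rfl
theorem L784415 : sm gb N59488 = N58297 := ded_22_1 (flp_f L772777) (flp_b L772769) L784413
theorem L784417 : sm gc N59488 = N58314 := ded_29_1 L772877 (flp_c L772771) L784413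
theorem L784419 : sm gj N59488 = N58327 := ded_46_2 (flp_f L772943) (flp_j L772773) L784413
theorem L784421 : sm gh N59488 = N58306 := ded_47_2 L772831 (flp_h L772775) L784413
theorem L784423 : sm gg N58297 = N59489 := rfl
theorem L784425 : sm gc N59489 = N58298 := ded_30_1 (flp_g L772785) (flp_c L772779) L784423
theorem L784427 : sm gh N59489 = N58304 := ded_50_2 L772819 (flp_h L772783) L784423
theorem L784429 : sm gb N58299 = N59490 := rfl
theorem L784431 : sm gg N59490 = N58328 := ded_23_2 (flp_b L772947) (flp_g L772795) L784429
theorem L784433 : sm gj N59490 = N58300 := ded_24_2 (flp_b L772799) (flp_j L772797) L784429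
theorem L784435 : sm ga N58300 = N59491 := rfl
theorem L784437 : sm gg N59491 = N58301 := ded_15_2 (flp_a L772803) (flp_g L772801) L784435
theorem L784439 : sm gb N58302 = N59492 := rfl
theorem L784441 : sm gf N59492 = N58303 := ded_22_2 (flp_b L772815) (flp_f L772813) L784439
theorem L784443 : sm ga N58303 = N59493 := rfl
theorem L784445 : sm gb N59493 = N58308 := ded_10_2 (flp_a L772839) (flp_b L761174) (flp_a L761156) L772815 L784443
theorem L784447 : sm gb N58304 = N59494 := rfl
theorem L784449 : sm gg N59494 = N58306 := ded_23_2 (flp_b L772829) (flp_g L772819) L784447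
theorem L784451 : sm gc N59494 = N58320 := ded_19_2 (flp_b L772907) (flp_c L761222) (flp_b L761160) L772817 L784447
theorem L784453 : sm ge N58304 = N59495 := rfl
theorem L784455 : sm gc N59495 = N58305 := ded_28_1 (flp_e L772821) L772817 L784453
theorem L784457 : sm gg N59495 = N58307 := ded_41_2 (flp_e L772835) (flp_g L772819) L784453
theorem L784459 : sm ga N58306 = N59496 := rfl
theorem L784461 : sm gc N59496 = N58323 := ded_11_2 (flp_a L772923) (flp_c L772833) L784459
theorem L784463 : sm gf N59496 = N58308 := ded_14_2 (flp_a L772839) (flp_f L772831) L784459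
theorem L784465 : sm ge N58306 = N59497 := rfl
theorem L784467 : sm gb N59497 = N58307 := ded_21_1 (flp_e L772835) L772829 L784465
theorem L784469 : sm gc N59497 = N58324 := ded_28_1 (flp_e L772929) (flp_c L772833) L784465
theorem L784471 : sm gd N58307 = N59498 := rfl
theorem L784473 : sm gf N59498 = N58321 := ded_35_2 (flp_d L774902) L774904 L784471
theorem L784475 : sm gc N59498 = N58322 := ded_27_1 L772921 L761321 (flp_d L761172) (flp_c L772837) L784471
theorem L784477 : sm gc N58309 = N59499 := rfl
theorem L784479 : sm gg N59499 = N58312 := ded_30_2 (flp_c L772863) (flp_g L772845) L784477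
theorem L784481 : sm gi N59499 = N58310 := ded_33_2 (flp_c L772849) (flp_i L772847) L784477
theorem L784483 : sm ge N58309 = N59500 := rfl
theorem L784485 : sm gg N59500 = N58313 := ded_41_2 (flp_e L772869) (flp_g L772845) L784483
theorem L784487 : sm gi N59500 = N58311 := ded_44_2 (flp_e L772855) (flp_i L772847) L784483
theorem L784489 : sm gd N59500 = N58335 := ded_34_1 (flp_e L772987) (flp_d L761393) (flp_e L761180) L772843 L784483
theorem L784491 : sm gb N58310 = N59501 := rfl
theorem L784493 : sm gg N59501 = N58314 := ded_23_2 (flp_b L772875) (flp_g L772851) L784491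
theorem L784495 : sm gh N59501 = N58320 := ded_25_2 (flp_b L772907) (flp_h L772853) L784491
theorem L784497 : sm ge N58310 = N59502 := rfl
theorem L784499 : sm gc N59502 = N58311 := ded_28_1 (flp_e L772855) L772849 L784497
theorem L784501 : sm gg N59502 = N58315 := ded_41_2 (flp_e L772881) (flp_g L772851) L784497
theorem L784503 : sm gh N59502 = N58321 := ded_43_2 (flp_e L772913) (flp_h L772853) L784497
theorem L784505 : sm gf N58311 = N59503 := rfl
theorem L784507 : sm gd N59503 = N58336 := ded_35_1 (flp_f L772994) (flp_d L772861) L784505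
theorem L784509 : sm gh N59503 = N58322 := ded_47_2 (flp_f L772919) (flp_h L772859) L784505
theorem L784511 : sm gb N58312 = N59504 := rfl
theorem L784513 : sm gf N59504 = N58316 := ded_22_2 (flp_b L772887) (flp_f L772865) L784511
theorem L784515 : sm gi N59504 = N58314 := ded_26_2 (flp_b L772875) (flp_i L772867) L784511
theorem L784517 : sm ge N58312 = N59505 := rfl
theorem L784519 : sm gc N59505 = N58313 := ded_28_1 (flp_e L772869) L772863 L784517
theorem L784521 : sm gi N59505 = N58315 := ded_44_2 (flp_e L772881) (flp_i L772867) L784517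
theorem L784523 : sm ga N58314 = N59506 := rfl
theorem L784525 : sm gf N59506 = N58317 := ded_14_2 (flp_a L772891) (flp_f L772877) L784523
theorem L784527 : sm gh N59506 = N58323 := ded_17_2 (flp_a L772923) (flp_h L772879) L784523
theorem L784529 : sm ge N58314 = N59507 := rfl
theorem L784531 : sm gb N59507 = N58315 := ded_21_1 (flp_e L772881) L772875 L784529
theorem L784533 : sm gh N59507 = N58324 := ded_43_2 (flp_e L772929) (flp_h L772879) L784529
theorem L784535 : sm gd N58315 = N59508 := rfl
theorem L784537 : sm gj N59508 = N58321 := ded_37_2 (flp_d L774902) L774898 L784535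
theorem L784539 : sm gc N59508 = N58319 := ded_27_1 L772905 L761329 (flp_d L761208) (flp_c L772883) L784535
theorem L784541 : sm ge N59508 = N58318 := ded_34_2 L772899 (flp_e L763388) L763396 L772881 L784535
theorem L784543 : sm ga N58316 = N59509 := rfl
theorem L784545 : sm gi N59509 = N58317 := ded_18_2 (flp_a L772891) (flp_i L772889) L784543
theorem L784547 : sm gb N58318 = N59510 := rfl
theorem L784549 : sm gd N59510 = N58328 := ded_20_2 (flp_b L772947) (flp_d L772899) L784547
theorem L784551 : sm gj N59510 = N58320 := ded_24_2 (flp_b L772907) (flp_j L772897) L784547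
theorem L784553 : sm gf N58319 = N59511 := rfl
theorem L784555 : sm gd N59511 = N58330 := ded_35_1 L772963 (flp_d L772905) L784553
theorem L784557 : sm gj N59511 = N58322 := ded_46_2 (flp_f L772919) (flp_j L772903) L784553
theorem L784559 : sm ga N58320 = N59512 := rfl
theorem L784561 : sm gd N59512 = N58329 := ded_12_2 (flp_a L772951) (flp_d L772909) L784559
theorem L784563 : sm gg N59512 = N58323 := ded_15_2 (flp_a L772923) (flp_g L772911) L784559
theorem L784565 : sm ge N58320 = N59513 := rfl
theorem L784567 : sm gb N59513 = N58321 := ded_21_1 (flp_e L772913) L772907 L784565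
theorem L784569 : sm gg N59513 = N58324 := ded_41_2 (flp_e L772929) (flp_g L772911) L784565
theorem L784571 : sm ge N58323 = N59514 := rfl
theorem L784573 : sm ga N59514 = N58324 := ded_13_1 (flp_e L772929) L772923 L784571
theorem L784575 : sm gf N58324 = N59515 := rfl
theorem L784577 : sm gb N59515 = N58325 := ded_22_1 (flp_f L772933) (flp_b L772931) L784575
theorem L784579 : sm ge N59515 = N58327 := ded_40_1 (flp_f L772943) (flp_e L761254) (flp_f L761238) L772929 L784575
theorem L784581 : sm gf N58326 = N59516 := rfl
theorem L784583 : sm ga N59516 = N58327 := ded_14_1 (flp_f L772943) (flp_a L772941) L784581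
theorem L784585 : sm ga N58328 = N59517 := rfl
theorem L784587 : sm gj N59517 = N58329 := ded_16_2 (flp_a L772951) (flp_j L772949) L784585
theorem L784589 : sm gf N58335 = N59518 := rfl
theorem L784591 : sm gh N59518 = N59518 := ded_47_2 (flp_f L784589) L772991 L784589
theorem L784592 : sm gi N59518 = N58336 := ded_48_2 (flp_f L772994) (flp_i L772992) L784589
theorem L784594 : sm ge N59518 = N59518 := ded_40_1 (flp_f L784589) (flp_e L772987) L761395 L772987 L784589
theorem L784595 : sm gc N58337 = N59519 := rfl
theorem L784597 : sm ga N59519 = N58728 := ded_11_1 (flp_c L777993) (flp_a L773001) L784595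
theorem L784599 : sm gf N59519 = N58338 := ded_29_2 (flp_c L773015) (flp_f L773005) L784595
theorem L784601 : sm gg N59519 = N58666 := ded_30_2 (flp_c L777347) (flp_g L773007) L784595
theorem L784603 : sm gj N59519 = N58768 := ded_31_2 (flp_c L778365) (flp_j L773009) L784595
theorem L784605 : sm gh N59519 = N59151 := ded_32_2 (flp_c L782057) (flp_h L773013) L784595
theorem L784607 : sm gi N59519 = N58344 := ded_33_2 (flp_c L773116) (flp_i L773011) L784595
theorem L784609 : sm gd N59519 = N58777 := ded_27_2 (flp_c L778425) (flp_d L767004) (flp_c L761433) L772999 L784595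
theorem L784611 : sm ge N58337 = N59520 := rfl
theorem L784613 : sm ga N59520 = N58729 := ded_13_1 (flp_e L778003) (flp_a L773001) L784611
theorem L784615 : sm gb N59520 = N58623 := ded_21_1 (flp_e L776805) (flp_b L773003) L784611
theorem L784617 : sm gg N59520 = N58667 := ded_41_2 (flp_e L777355) (flp_g L773007) L784611
theorem L784619 : sm gj N59520 = N58769 := ded_42_2 (flp_e L778373) (flp_j L773009) L784611
theorem L784621 : sm gh N59520 = N59152 := ded_43_2 (flp_e L782063) (flp_h L773013) L784611
theorem L784623 : sm gi N59520 = N58345 := ded_44_2 (flp_e L773126) (flp_i L773011) L784611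
theorem L784625 : sm gd N59520 = N58339 := ded_34_1 (flp_e L773031) (flp_d L761461) (flp_e L761435) L772999 L784611
theorem L784627 : sm gf N59520 = N58353 := ded_40_2 (flp_e L773254) L761695 (flp_e L761457) (flp_f L773005) L784611
theorem L784629 : sm gb N58338 = N59521 := rfl
theorem L784631 : sm gd N59521 = N59364 := ded_20_2 L783619 (flp_d L773029) L784629
theorem L784633 : sm ge N59521 = N58354 := ded_21_2 (flp_b L773270) (flp_e L773019) L784629
theorem L784635 : sm gg N59521 = N59106 := ded_23_2 (flp_b L781568) (flp_g L773021) L784629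
theorem L784637 : sm gj N59521 = N59362 := ded_24_2 (flp_b L783605) (flp_j L773023) L784629
theorem L784639 : sm gh N59521 = N59153 := ded_25_2 (flp_b L782070) (flp_h L773025) L784629
theorem L784641 : sm gi N59521 = N58346 := ded_26_2 (flp_b L773142) (flp_i L773027) L784629
theorem L784643 : sm gc N59521 = N58624 := ded_19_2 (flp_b L776813) (flp_c L765401) (flp_b L761449) L773015 L784629
theorem L784645 : sm gc N58340 = N59522 := rfl
theorem L784647 : sm ga N59522 = N58777 := ded_11_1 (flp_c L778425) (flp_a L773050) L784645
theorem L784649 : sm ge N59522 = N59331 := ded_28_2 L783430 (flp_e L773062) L784645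
theorem L784651 : sm gf N59522 = N58341 := ded_29_2 (flp_c L773066) (flp_f L773054) L784645
theorem L784653 : sm gg N59522 = N58723 := ded_30_2 (flp_c L777951) (flp_g L773056) L784645
theorem L784655 : sm gj N59522 = N58344 := ded_31_2 (flp_c L773116) (flp_j L773058) L784645
theorem L784657 : sm gh N59522 = N58403 := ded_32_2 (flp_c L773967) (flp_h L773064) L784645
theorem L784659 : sm gi N59522 = N58768 := ded_33_2 (flp_c L778365) (flp_i L773060) L784645
theorem L784661 : sm gd N59522 = N58728 := ded_27_2 (flp_c L777993) (flp_d L766616) (flp_c L761484) L773048 L784645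
theorem L784663 : sm gb N58341 = N59523 := rfl
theorem L784665 : sm gd N59523 = N59112 := ded_20_2 (flp_b L781642) (flp_d L773080) L784663
theorem L784667 : sm ge N59523 = N58356 := ded_21_2 (flp_b L773301) (flp_e L773070) L784663
theorem L784669 : sm gg N59523 = N59113 := ded_23_2 (flp_b L781654) (flp_g L773072) L784663
theorem L784671 : sm gj N59523 = N58346 := ded_24_2 (flp_b L773142) (flp_j L773074) L784663
theorem L784673 : sm gh N59523 = N58405 := ded_25_2 (flp_b L773989) (flp_h L773076) L784663
theorem L784675 : sm gi N59523 = N59362 := ded_26_2 (flp_b L783605) (flp_i L773078) L784663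
theorem L784677 : sm gc N59523 = N58628 := ded_19_2 (flp_b L776871) (flp_c L765483) (flp_b L761500) L773066 L784663
theorem L784679 : sm gc N58342 = N59524 := rfl
theorem L784681 : sm ga N59524 = N58768 := ded_11_1 (flp_c L778365) (flp_a L773084) L784679
theorem L784683 : sm ge N59524 = N59340 := ded_28_2 L783481 (flp_e L773096) L784679
theorem L784685 : sm gf N59524 = N58343 := ded_29_2 (flp_c L773100) (flp_f L773088) L784679
theorem L784687 : sm gg N59524 = N58679 := ded_30_2 (flp_c L777490) (flp_g L773090) L784679
theorem L784689 : sm gj N59524 = N58728 := ded_31_2 (flp_c L777993) (flp_j L773092) L784679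
theorem L784691 : sm gh N59524 = N58537 := ded_32_2 (flp_c L775722) (flp_h L773098) L784679
theorem L784693 : sm gi N59524 = N58777 := ded_33_2 (flp_c L778425) (flp_i L773094) L784679
theorem L784695 : sm gd N59524 = N58344 := ded_27_2 (flp_c L773116) (flp_d L761546) (flp_c L761518) L773082 L784679
theorem L784697 : sm gb N58343 = N59525 := rfl
theorem L784699 : sm gd N59525 = N58346 := ded_20_2 (flp_b L773142) (flp_d L773114) L784697
theorem L784701 : sm ge N59525 = N59113 := ded_21_2 (flp_b L781654) (flp_e L773104) L784697
theorem L784703 : sm gg N59525 = N58356 := ded_23_2 (flp_b L773301) (flp_g L773106) L784697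
theorem L784705 : sm gj N59525 = N59112 := ded_24_2 (flp_b L781642) (flp_j L773108) L784697
theorem L784707 : sm gh N59525 = N58539 := ded_25_2 (flp_b L775739) (flp_h L773110) L784697
theorem L784709 : sm gi N59525 = N59364 := ded_26_2 L783619 (flp_i L773112) L784697
theorem L784711 : sm gc N59525 = N58736 := ded_19_2 (flp_b L778063) (flp_c L766710) (flp_b L761534) L773100 L784697
theorem L784713 : sm gb N58344 = N59526 := rfl
theorem L784715 : sm gf N59526 = N58346 := ded_22_2 (flp_b L773142) (flp_f L773120) L784713
theorem L784717 : sm gg N59526 = N58684 := ded_23_2 (flp_b L777530) (flp_g L773122) L784713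
theorem L784719 : sm gh N59526 = N58421 := ded_25_2 (flp_b L774190) (flp_h L773124) L784713
theorem L784721 : sm gc N59526 = N58638 := ded_19_2 (flp_b L776989) (flp_c L765569) (flp_b L761550) L773116 L784713
theorem L784723 : sm ge N58344 = N59527 := rfl
theorem L784725 : sm ga N59527 = N58779 := ded_13_1 (flp_e L778443) (flp_a L773118) L784723
theorem L784727 : sm gc N59527 = N58345 := ded_28_1 (flp_e L773126) L773116 L784723
theorem L784729 : sm gg N59527 = N58685 := ded_41_2 (flp_e L777536) (flp_g L773122) L784723
theorem L784731 : sm gj N59527 = N59331 := ded_42_2 (flp_e L784649) L784655 L784723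
theorem L784733 : sm gh N59527 = N58422 := ded_43_2 (flp_e L774198) (flp_h L773124) L784723
theorem L784735 : sm gf N59527 = N58362 := ded_40_2 (flp_e L773393) L761813 (flp_e L761562) (flp_f L773120) L784723
theorem L784737 : sm ga N58346 = N59528 := rfl
theorem L784739 : sm gc N59528 = N58640 := ded_11_2 (flp_a L777003) (flp_c L773150) L784737
theorem L784741 : sm ge N59528 = N58363 := ded_13_2 (flp_a L773403) (flp_e L773144) L784737
theorem L784743 : sm gg N59528 = N59107 := ded_15_2 (flp_a L781582) (flp_g L773146) L784737
theorem L784745 : sm gh N59528 = N58423 := ded_17_2 (flp_a L774208) (flp_h L773148) L784737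
theorem L784747 : sm gb N59528 = N59368 := ded_10_2 (flp_a L783637) (flp_b L772022) (flp_a L761560) L773142 L784737
theorem L784749 : sm gd N58347 = N59529 := rfl
theorem L784751 : sm ga N59529 = N58759 := ded_12_1 L778302 (flp_a L773154) L784749
theorem L784753 : sm gb N59529 = N59319 := ded_20_1 L783347 (flp_b L773156) L784749
theorem L784755 : sm gf N59529 = N58365 := ded_35_2 (flp_d L773429) (flp_f L773168) L784749
theorem L784757 : sm gg N59529 = N58689 := ded_36_2 (flp_d L777586) (flp_g L773160) L784749
theorem L784759 : sm gj N59529 = N59295 := ded_37_2 L783197 (flp_j L773162) L784749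
theorem L784761 : sm gi N59529 = N59315 := ded_39_2 L783325 (flp_i L773166) L784749
theorem L784763 : sm ge N59529 = N59302 := ded_34_2 L783240 L771626 (flp_d L761604) L773152 L784749
theorem L784765 : sm gh N58348 = N59530 := rfl
theorem L784767 : sm ga N59530 = N58786 := ded_17_1 (flp_h L778496) (flp_a L773172) L784765
theorem L784769 : sm gb N59530 = N58909 := ded_25_1 L779801 (flp_b L773174) L784765
theorem L784771 : sm gc N59530 = N58437 := ded_32_1 (flp_h L774398) (flp_c L773183) L784765
theorem L784773 : sm ge N59530 = N59530 := ded_43_1 (flp_h L784765) L773185 L784765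
theorem L784774 : sm gf N59530 = N58366 := ded_47_1 (flp_h L773441) (flp_f L773176) L784765
theorem L784776 : sm gg N59530 = N58690 := ded_50_1 (flp_h L777596) (flp_g L773178) L784765
theorem L784778 : sm gj N59530 = N58809 := ded_52_1 L778764 (flp_j L773180) L784765
theorem L784780 : sm gb N58349 = N59531 := rfl
theorem L784782 : sm gd N59531 = N59332 := ded_20_2 (flp_b L783432) (flp_d L773202) L784780
theorem L784784 : sm ge N59531 = N59126 := ded_21_2 (flp_b L781803) (flp_e L773190) L784780
theorem L784786 : sm gf N59531 = N59346 := ded_22_2 (flp_b L783517) (flp_f L773192) L784780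
theorem L784788 : sm gg N59531 = N59108 := ded_23_2 (flp_b L781594) (flp_g L773194) L784780
theorem L784790 : sm gj N59531 = N59354 := ded_24_2 (flp_b L783561) (flp_j L773196) L784780
theorem L784792 : sm gh N59531 = N58457 := ded_25_2 (flp_b L774702) (flp_h L773198) L784780
theorem L784794 : sm gi N59531 = N59117 := ded_26_2 (flp_b L781702) (flp_i L773200) L784780
theorem L784796 : sm gc N59531 = N58350 := ded_19_2 (flp_b L773204) (flp_c L761653) (flp_b L761639) L773186 L784780
theorem L784798 : sm ga N58350 = N59532 := rfl
theorem L784800 : sm gd N59532 = N59111 := ded_12_2 (flp_a L781630) (flp_d L773206) L784798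
theorem L784802 : sm ge N59532 = N59368 := ded_13_2 (flp_a L783637) (flp_e L773208) L784798
theorem L784804 : sm gf N59532 = N59348 := ded_14_2 (flp_a L783529) (flp_f L773210) L784798
theorem L784806 : sm gg N59532 = N59110 := ded_15_2 (flp_a L781622) (flp_g L773212) L784798
theorem L784808 : sm gj N59532 = N59363 := ded_16_2 (flp_a L783611) (flp_j L773214) L784798
theorem L784810 : sm gh N59532 = N58477 := ded_17_2 (flp_a L774976) (flp_h L773216) L784798
theorem L784812 : sm gi N59532 = N59125 := ded_18_2 (flp_a L781799) (flp_i L773218) L784798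
theorem L784814 : sm gb N59532 = N58363 := ded_10_2 (flp_a L773403) (flp_b L761833) (flp_a L761655) L773204 L784798
theorem L784816 : sm gb N58351 = N59533 := rfl
theorem L784818 : sm gd N59533 = N59106 := ded_20_2 (flp_b L781568) (flp_d L773236) L784816
theorem L784820 : sm ge N59533 = N59362 := ded_21_2 (flp_b L783605) (flp_e L773224) L784816
theorem L784822 : sm gf N59533 = N59324 := ded_22_2 (flp_b L783382) (flp_f L773226) L784816
theorem L784824 : sm gg N59533 = N59364 := ded_23_2 L783619 (flp_g L773228) L784816
theorem L784826 : sm gj N59533 = N58354 := ded_24_2 (flp_b L773270) (flp_j L773230) L784816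
theorem L784828 : sm gh N59533 = N59490 := ded_25_2 (flp_b L784429) (flp_h L773232) L784816
theorem L784830 : sm gi N59533 = N58356 := ded_26_2 (flp_b L773301) (flp_i L773234) L784816
theorem L784832 : sm gc N59533 = N58715 := ded_19_2 (flp_b L777865) (flp_c L766522) (flp_b L761675) L773220 L784816
theorem L784834 : sm gb N58352 = N59534 := rfl
theorem L784836 : sm gd N59534 = N59109 := ded_20_2 (flp_b L781608) (flp_d L773252) L784834
theorem L784838 : sm gf N59534 = N58354 := ded_22_2 (flp_b L773270) (flp_f L773242) L784834
theorem L784840 : sm gg N59534 = N59343 := ded_23_2 (flp_b L783499) (flp_g L773244) L784834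
theorem L784842 : sm gj N59534 = N59324 := ded_24_2 (flp_b L783382) (flp_j L773246) L784834
theorem L784844 : sm gh N59534 = N59474 := ded_25_2 (flp_b L784306) (flp_h L773248) L784834
theorem L784846 : sm gi N59534 = N58361 := ded_26_2 (flp_b L773381) (flp_i L773250) L784834
theorem L784848 : sm gc N59534 = N58730 := ded_19_2 (flp_b L778019) (flp_c L766628) (flp_b L761693) L773238 L784834
theorem L784850 : sm ge N58352 = N59535 := rfl
theorem L784852 : sm ga N59535 = N59124 := ded_13_1 (flp_e L781791) (flp_a L773240) L784850
theorem L784854 : sm gc N59535 = N58353 := ded_28_1 (flp_e L773254) L773238 L784850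
theorem L784856 : sm gg N59535 = N59344 := ded_41_2 (flp_e L783505) (flp_g L773244) L784850
theorem L784858 : sm gj N59535 = N59325 := ded_42_2 (flp_e L783388) (flp_j L773246) L784850
theorem L784860 : sm gh N59535 = N59475 := ded_43_2 (flp_e L784312) (flp_h L773248) L784850
theorem L784862 : sm gi N59535 = N58362 := ded_44_2 (flp_e L773393) (flp_i L773250) L784850
theorem L784864 : sm gd N59535 = N59314 := ded_34_1 (flp_e L783319) L771681 (flp_e L770080) (flp_d L773252) L784850
theorem L784866 : sm ga N58354 = N59536 := rfl
theorem L784868 : sm gc N59536 = N58732 := ded_11_2 (flp_a L778031) (flp_c L773280) L784866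
theorem L784870 : sm gd N59536 = N59110 := ded_12_2 (flp_a L781622) (flp_d L773272) L784866
theorem L784872 : sm gg N59536 = N59111 := ded_15_2 (flp_a L781630) (flp_g L773274) L784866
theorem L784874 : sm gh N59536 = N59491 := ded_17_2 (flp_a L784435) (flp_h L773276) L784866
theorem L784876 : sm gi N59536 = N58363 := ded_18_2 (flp_a L773403) (flp_i L773278) L784866
theorem L784878 : sm gb N59536 = N59125 := ded_10_2 (flp_a L781799) (flp_b L770218) (flp_a L761707) L773270 L784866
theorem L784880 : sm ga N58356 = N59537 := rfl
theorem L784882 : sm gc N59537 = N58748 := ded_11_2 (flp_a L778176) (flp_c L773311) L784880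
theorem L784884 : sm gd N59537 = N59107 := ded_12_2 (flp_a L781582) (flp_d L773303) L784880
theorem L784886 : sm gf N59537 = N59329 := ded_14_2 (flp_a L783416) (flp_f L773305) L784880
theorem L784888 : sm gj N59537 = N58363 := ded_16_2 (flp_a L773403) (flp_j L773307) L784880
theorem L784890 : sm gh N59537 = N58554 := ded_17_2 (flp_a L775921) (flp_h L773309) L784880
theorem L784892 : sm gb N59537 = N59363 := ded_10_2 (flp_a L783611) (flp_b L771992) (flp_a L761749) L773301 L784880
theorem L784894 : sm ga N58357 = N59538 := rfl
theorem L784896 : sm gc N59538 = N59304 := ded_11_2 (flp_a L783250) (flp_c L773329) L784894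
theorem L784898 : sm gd N59538 = N58363 := ded_12_2 (flp_a L773403) (flp_d L773315) L784894
theorem L784900 : sm ge N59538 = N59114 := ded_13_2 (flp_a L781664) (flp_e L773317) L784894
theorem L784902 : sm gf N59538 = N59328 := ded_14_2 (flp_a L783408) (flp_f L773319) L784894
theorem L784904 : sm gg N59538 = N59125 := ded_15_2 (flp_a L781799) (flp_g L773321) L784894
theorem L784906 : sm gj N59538 = N59107 := ded_16_2 (flp_a L781582) (flp_j L773323) L784894
theorem L784908 : sm gh N59538 = N59133 := ded_17_2 (flp_a L781887) (flp_h L773325) L784894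
theorem L784910 : sm gi N59538 = N59110 := ded_18_2 (flp_a L781622) (flp_i L773327) L784894
theorem L784912 : sm gb N59538 = N59111 := ded_10_2 (flp_a L781630) (flp_b L770096) (flp_a L761761) L773313 L784894
theorem L784914 : sm gc N58358 = N59539 := rfl
theorem L784916 : sm ga N59539 = N58629 := ded_11_1 (flp_c L776879) (flp_a L773333) L784914
theorem L784918 : sm ge N59539 = N59357 := ded_28_2 L783579 (flp_e L773345) L784914
theorem L784920 : sm gf N59539 = N58708 := ded_29_2 (flp_c L777786) (flp_f L773337) L784914
theorem L784922 : sm gg N59539 = N58671 := ded_30_2 (flp_c L777396) (flp_g L773339) L784914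
theorem L784924 : sm gj N59539 = N58359 := ded_31_2 (flp_c L773349) (flp_j L773341) L784914
theorem L784926 : sm gh N59539 = N58577 := ded_32_2 (flp_c L776205) (flp_h L773347) L784914
theorem L784928 : sm gi N59539 = N58734 := ded_33_2 (flp_c L778041) (flp_i L773343) L784914
theorem L784930 : sm gd N59539 = N58670 := ded_27_2 (flp_c L777386) (flp_d L766011) (flp_c L761783) L773331 L784914
theorem L784932 : sm gb N58359 = N59540 := rfl
theorem L784934 : sm gd N59540 = N59327 := ded_20_2 (flp_b L783402) (flp_d L773361) L784932
theorem L784936 : sm gf N59540 = N59126 := ded_22_2 (flp_b L781803) (flp_f L773353) L784932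
theorem L784938 : sm gg N59540 = N58361 := ded_23_2 (flp_b L773381) (flp_g L773355) L784932
theorem L784940 : sm gh N59540 = N58579 := ded_25_2 (flp_b L776223) (flp_h L773357) L784932
theorem L784942 : sm gi N59540 = N59343 := ded_26_2 (flp_b L783499) (flp_i L773359) L784932
theorem L784944 : sm gc N59540 = N58778 := ded_19_2 (flp_b L778435) (flp_c L767014) (flp_b L761799) L773349 L784932
theorem L784946 : sm ge N58359 = N59541 := rfl
theorem L784948 : sm ga N59541 = N59342 := ded_13_1 (flp_e L783491) (flp_a L773351) L784946
theorem L784950 : sm gc N59541 = N58360 := ded_28_1 (flp_e L773363) L773349 L784946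
theorem L784952 : sm gg N59541 = N58362 := ded_41_2 (flp_e L773393) (flp_g L773355) L784946
theorem L784954 : sm gj N59541 = N59357 := ded_42_2 (flp_e L784918) L784924 L784946
theorem L784956 : sm gh N59541 = N58580 := ded_43_2 (flp_e L776231) (flp_h L773357) L784946
theorem L784958 : sm gi N59541 = N59344 := ded_44_2 (flp_e L783505) (flp_i L773359) L784946
theorem L784960 : sm gd N59541 = N59351 := ded_34_1 (flp_e L783543) (flp_d L777037) L777029 (flp_d L773361) L784946
theorem L784962 : sm gf N59541 = N59347 := ded_40_2 (flp_e L783523) (flp_f L773192) L773190 (flp_f L773353) L784946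
theorem L784964 : sm ga N58361 = N59542 := rfl
theorem L784966 : sm gc N59542 = N58780 := ded_11_2 (flp_a L778455) (flp_c L773391) L784964
theorem L784968 : sm gd N59542 = N59328 := ded_12_2 (flp_a L783408) (flp_d L773383) L784964
theorem L784970 : sm gf N59542 = N58363 := ded_14_2 (flp_a L773403) (flp_f L773385) L784964
theorem L784972 : sm gj N59542 = N59329 := ded_16_2 (flp_a L783416) (flp_j L773387) L784964
theorem L784974 : sm gh N59542 = N58581 := ded_17_2 (flp_a L776237) (flp_h L773389) L784964
theorem L784976 : sm gb N59542 = N59348 := ded_10_2 (flp_a L783529) (flp_b L771904) (flp_a L761811) L773381 L784964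
theorem L784978 : sm ge N58361 = N59543 := rfl
theorem L784980 : sm gb N59543 = N58362 := ded_21_1 (flp_e L773393) L773381 L784978
theorem L784982 : sm gc N59543 = N58781 := ded_28_1 (flp_e L778461) (flp_c L773391) L784978
theorem L784984 : sm gj N59543 = N59330 := ded_42_2 (flp_e L783422) (flp_j L773387) L784978
theorem L784986 : sm gh N59543 = N58582 := ded_43_2 (flp_e L776243) (flp_h L773389) L784978
theorem L784988 : sm gd N58362 = N59544 := rfl
theorem L784990 : sm ga N59544 = N58758 := ded_12_1 L778296 (flp_a L773395) L784988
theorem L784992 : sm gg N59544 = N59351 := ded_36_2 (flp_d L784960) L784952 L784988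
theorem L784994 : sm gj N59544 = N59294 := ded_37_2 L783191 (flp_j L773399) L784988
theorem L784996 : sm gi N59544 = N59314 := ded_39_2 (flp_d L784864) L784862 L784988
theorem L784998 : sm gc N59544 = N58365 := ded_27_1 (flp_d L773429) L761879 (flp_d L761831) (flp_c L773397) L784988
theorem L785000 : sm ge N59544 = N58750 := ded_34_2 L778208 L771558 (flp_d L761819) L773393 L784988
theorem L785002 : sm gd N58364 = N59545 := rfl
theorem L785004 : sm ga N59545 = N58676 := ded_12_1 L777452 (flp_a L773413) L785002
theorem L785006 : sm gb N59545 = N58365 := ded_20_1 (flp_d L773429) (flp_b L773415) L785002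
theorem L785008 : sm gf N59545 = N59319 := ded_35_2 L783347 (flp_f L773427) L785002
theorem L785010 : sm gg N59545 = N58635 := ded_36_2 L776953 (flp_g L773419) L785002
theorem L785012 : sm gj N59545 = N58724 := ded_37_2 L777969 (flp_j L773421) L785002
theorem L785014 : sm gi N59545 = N58743 := ded_39_2 L778142 (flp_i L773425) L785002
theorem L785016 : sm ge N59545 = N58672 := ded_34_2 (flp_d L777404) L766035 (flp_d L761859) L773411 L785002
theorem L785018 : sm gh N59545 = N58887 := ded_38_2 L779592 L768351 (flp_d L761902) (flp_h L773423) L785002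
theorem L785020 : sm gh N58365 = N59546 := rfl
theorem L785022 : sm ga N59546 = N58754 := ded_17_1 L778250 (flp_a L773431) L785020
theorem L785024 : sm gb N59546 = N58887 := ded_25_1 (flp_h L785018) L785006 L785020
theorem L785026 : sm ge N59546 = N58749 := ded_43_1 L778194 (flp_e L773439) L785020
theorem L785028 : sm gg N59546 = N58834 := ded_50_1 L779049 (flp_g L773433) L785020
theorem L785030 : sm gj N59546 = N58808 := ded_52_1 L778754 (flp_j L773435) L785020
theorem L785032 : sm gd N59546 = N58366 := ded_38_1 (flp_h L773441) (flp_d L761906) (flp_h L761885) L773429 L785020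
theorem L785034 : sm gi N58366 = N59547 := rfl
theorem L785036 : sm ga N59547 = N58791 := ded_18_1 L778568 (flp_a L773443) L785034
theorem L785038 : sm gb N59547 = N58872 := ded_26_1 L779432 (flp_b L773445) L785034
theorem L785040 : sm gc N59547 = N58590 := ded_33_1 (flp_i L776340) (flp_c L773447) L785034
theorem L785042 : sm ge N59547 = N58446 := ded_44_1 L774547 (flp_e L773449) L785034
theorem L785044 : sm gg N59547 = N58450 := ded_51_1 L774610 (flp_g L773451) L785034
theorem L785046 : sm gj N59547 = N58611 := ded_53_1 L776665 (flp_j L773453) L785034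
theorem L785048 : sm gh N59547 = N59547 := ded_54_1 (flp_i L785034) (flp_h L773441) L761916 L773441 L785034
theorem L785049 : sm gd N58367 = N59548 := rfl
theorem L785051 : sm ga N59548 = N58502 := ded_12_1 (flp_d L775287) (flp_a L773457) L785049
theorem L785053 : sm gb N59548 = N58805 := ded_20_1 (flp_d L778718) (flp_b L773459) L785049
theorem L785055 : sm gf N59548 = N58368 := ded_35_2 (flp_d L773472) (flp_f L773464) L785049
theorem L785057 : sm gg N59548 = N58760 := ded_36_2 (flp_d L778308) (flp_g L773466) L785049
theorem L785059 : sm gj N59548 = N58375 := ded_37_2 (flp_d L773577) (flp_j L773468) L785049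
theorem L785061 : sm gi N59548 = N58467 := ded_39_2 (flp_d L774838) (flp_i L773470) L785049
theorem L785063 : sm gh N59548 = N58382 := ded_38_2 (flp_d L773685) (flp_h L762164) (flp_d L761929) L773455 L785049
theorem L785065 : sm gc N58368 = N59549 := rfl
theorem L785067 : sm ga N59549 = N58503 := ded_11_1 (flp_c L775299) (flp_a L773474) L785065
theorem L785069 : sm ge N59549 = N58487 := ded_28_2 (flp_c L775122) (flp_e L773484) L785065
theorem L785071 : sm gg N59549 = N58460 := ded_30_2 (flp_c L774740) (flp_g L773478) L785065
theorem L785073 : sm gj N59549 = N58376 := ded_31_2 (flp_c L773591) (flp_j L773480) L785065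
theorem L785075 : sm gh N59549 = N58383 := ded_32_2 (flp_c L773697) (flp_h L773486) L785065
theorem L785077 : sm gi N59549 = N58468 := ded_33_2 (flp_c L774850) (flp_i L773482) L785065
theorem L785079 : sm gd N59549 = N59499 := ded_27_2 (flp_c L784477) (flp_d L772843) (flp_c L761944) L773472 L785065
theorem L785081 : sm gd N58369 = N59550 := rfl
theorem L785083 : sm ga N59550 = N59013 := ded_12_1 (flp_d L780795) (flp_a L773490) L785081
theorem L785085 : sm gb N59550 = N58373 := ded_20_1 (flp_d L773554) (flp_b L773492) L785081
theorem L785087 : sm gf N59550 = N58700 := ded_35_2 (flp_d L777719) (flp_f L773498) L785081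
theorem L785089 : sm gg N59550 = N58398 := ded_36_2 (flp_d L773899) (flp_g L773500) L785081
theorem L785091 : sm gj N59550 = N58882 := ded_37_2 (flp_d L779532) (flp_j L773502) L785081
theorem L785093 : sm gi N59550 = N59146 := ded_39_2 (flp_d L781998) (flp_i L773504) L785081
theorem L785095 : sm gh N59550 = N58701 := ded_38_2 (flp_d L777725) (flp_h L766407) (flp_d L761962) L773488 L785081
theorem L785097 : sm gc N58370 = N59551 := rfl
theorem L785099 : sm ga N59551 = N58981 := ded_11_1 L780498 (flp_a L773508) L785097
theorem L785101 : sm gf N59551 = N59551 := ded_29_2 (flp_c L785097) L773512 L785097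
theorem L785102 : sm gg N59551 = N58424 := ded_30_2 (flp_c L774218) (flp_g L773513) L785097
theorem L785104 : sm gj N59551 = N58905 := ded_31_2 (flp_c L779751) (flp_j L773515) L785097
theorem L785106 : sm gh N59551 = N59551 := ded_32_2 (flp_c L785097) L773519 L785097
theorem L785107 : sm gi N59551 = N59077 := ded_33_2 L781285 (flp_i L773517) L785097
theorem L785109 : sm gb N59551 = N58491 := ded_19_1 (flp_c L775172) L763725 (flp_c L762046) (flp_b L773510) L785097
theorem L785111 : sm gd N59551 = N58428 := ded_27_2 (flp_c L774272) (flp_d L762707) (flp_c L761978) L773506 L785097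
theorem L785113 : sm ge N58370 = N59552 := rfl
theorem L785115 : sm ga N59552 = N59072 := ded_13_1 (flp_e L781231) (flp_a L773508) L785113
theorem L785117 : sm gb N59552 = N58374 := ded_21_1 (flp_e L773564) (flp_b L773510) L785113
theorem L785119 : sm gg N59552 = N58425 := ded_41_2 (flp_e L774233) (flp_g L773513) L785113
theorem L785121 : sm gj N59552 = N58906 := ded_42_2 (flp_e L779763) (flp_j L773515) L785113
theorem L785123 : sm gh N59552 = N59552 := ded_43_2 (flp_e L785113) L773519 L785113
theorem L785124 : sm gi N59552 = N59147 := ded_44_2 (flp_e L782010) (flp_i L773517) L785113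
theorem L785126 : sm gd N58371 = N59553 := rfl
theorem L785128 : sm ga N59553 = N59196 := ded_12_1 (flp_d L782461) (flp_a L773522) L785126
theorem L785130 : sm gb N59553 = N58701 := ded_20_1 (flp_d L777725) (flp_b L773524) L785126
theorem L785132 : sm gf N59553 = N58696 := ded_35_2 (flp_d L777675) (flp_f L773529) L785126
theorem L785134 : sm gg N59553 = N59103 := ded_36_2 L781537 (flp_g L773531) L785126
theorem L785136 : sm gj N59553 = N59453 := ded_37_2 (flp_d L784168) (flp_j L773533) L785126
theorem L785138 : sm gi N59553 = N58927 := ded_39_2 (flp_d L779984) (flp_i L773535) L785126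
theorem L785140 : sm gh N59553 = N58373 := ded_38_2 (flp_d L773554) (flp_h L762021) (flp_d L761995) L773520 L785126
theorem L785142 : sm gd N58372 = N59554 := rfl
theorem L785144 : sm ga N59554 = N58935 := ded_12_1 (flp_d L780061) (flp_a L773539) L785142
theorem L785146 : sm gb N59554 = N58700 := ded_20_1 (flp_d L777719) (flp_b L773541) L785142
theorem L785148 : sm gf N59554 = N58373 := ded_35_2 (flp_d L773554) (flp_f L773546) L785142
theorem L785150 : sm gg N59554 = N58855 := ded_36_2 (flp_d L779235) (flp_g L773548) L785142
theorem L785152 : sm gj N59554 = N59039 := ded_37_2 (flp_d L780988) (flp_j L773550) L785142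
theorem L785154 : sm gi N59554 = N59038 := ded_39_2 (flp_d L780978) (flp_i L773552) L785142
theorem L785156 : sm gh N59554 = N58696 := ded_38_2 (flp_d L777675) (flp_h L766361) (flp_d L762012) L773537 L785142
theorem L785158 : sm gc N58373 = N59555 := rfl
theorem L785160 : sm ga N59555 = N59197 := ded_11_1 (flp_c L782467) (flp_a L773556) L785158
theorem L785162 : sm gg N59555 = N59128 := ded_30_2 (flp_c L781825) (flp_g L773558) L785158
theorem L785164 : sm gj N59555 = N59499 := ded_31_2 (flp_c L784477) (flp_j L773560) L785158
theorem L785166 : sm gi N59555 = N59148 := ded_33_2 (flp_c L782022) (flp_i L773562) L785158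
theorem L785168 : sm gd N59555 = N58376 := ded_27_2 (flp_c L773591) (flp_d L762062) (flp_c L762025) L773554 L785158
theorem L785170 : sm ge N58373 = N59556 := rfl
theorem L785172 : sm ga N59556 = N59198 := ded_13_1 (flp_e L782475) (flp_a L773556) L785170
theorem L785174 : sm gg N59556 = N59129 := ded_41_2 (flp_e L781837) (flp_g L773558) L785170
theorem L785176 : sm gj N59556 = N59500 := ded_42_2 (flp_e L784483) (flp_j L773560) L785170
theorem L785178 : sm gi N59556 = N59149 := ded_44_2 (flp_e L782034) (flp_i L773562) L785170
theorem L785180 : sm gd N59556 = N58374 := ded_34_1 (flp_e L773564) (flp_d L762035) (flp_e L762027) L773554 L785170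
theorem L785182 : sm gf N58374 = N59557 := rfl
theorem L785184 : sm ga N59557 = N59199 := ded_14_1 (flp_f L782483) (flp_a L773566) L785182
theorem L785186 : sm gc N59557 = N58497 := ded_29_1 (flp_f L775231) (flp_c L773568) L785182
theorem L785188 : sm gj N59557 = N59518 := ded_46_2 (flp_f L784589) (flp_j L773572) L785182
theorem L785190 : sm gh N59557 = N59557 := ded_47_2 (flp_f L785182) L773574 L785182
theorem L785191 : sm gi N59557 = N59150 := ded_48_2 (flp_f L782046) (flp_i L773575) L785182
theorem L785193 : sm ge N59557 = N59557 := ded_40_1 (flp_f L785182) (flp_e L773564) L762039 L773564 L785182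
theorem L785194 : sm gc N58375 = N59558 := rfl
theorem L785196 : sm ga N59558 = N58942 := ded_11_1 (flp_c L780103) (flp_a L773579) L785194
theorem L785198 : sm gf N59558 = N58376 := ded_29_2 (flp_c L773591) (flp_f L773583) L785194
theorem L785200 : sm gg N59558 = N58859 := ded_30_2 (flp_c L779286) (flp_g L773585) L785194
theorem L785202 : sm gh N59558 = N58389 := ded_32_2 (flp_c L773775) (flp_h L773589) L785194
theorem L785204 : sm gi N59558 = N59151 := ded_33_2 (flp_c L782057) (flp_i L773587) L785194
theorem L785206 : sm ge N58375 = N59559 := rfl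
theorem L785208 : sm ga N59559 = N58943 := ded_13_1 (flp_e L780113) (flp_a L773579) L785206
theorem L785210 : sm gb N59559 = N58811 := ded_21_1 (flp_e L778777) (flp_b L773581) L785206
theorem L785212 : sm gg N59559 = N58860 := ded_41_2 (flp_e L779294) (flp_g L773585) L785206
theorem L785214 : sm gh N59559 = N58390 := ded_43_2 (flp_e L773787) (flp_h L773589) L785206
theorem L785216 : sm gi N59559 = N59152 := ded_44_2 (flp_e L782063) (flp_i L773587) L785206
theorem L785218 : sm gd N59559 = N59559 := ded_34_1 (flp_e L785206) (flp_d L773577) L762055 L773577 L785206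
theorem L785219 : sm gf N59559 = N58499 := ded_40_2 (flp_e L775249) L763778 (flp_e L762072) (flp_f L773583) L785206
theorem L785221 : sm gb N58376 = N59560 := rfl
theorem L785223 : sm ge N59560 = N58500 := ded_21_2 (flp_b L775260) (flp_e L773595) L785221
theorem L785225 : sm gg N59560 = N59130 := ded_23_2 (flp_b L781847) (flp_g L773597) L785221
theorem L785227 : sm gh N59560 = N58391 := ded_25_2 (flp_b L773801) (flp_h L773599) L785221
theorem L785229 : sm gi N59560 = N59153 := ded_26_2 (flp_b L782070) (flp_i L773601) L785221
theorem L785231 : sm gc N59560 = N58812 := ded_19_2 (flp_b L778786) (flp_c L767410) (flp_b L762066) L773591 L785221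
theorem L785233 : sm gc N58377 = N59561 := rfl
theorem L785235 : sm ga N59561 = N58487 := ded_11_1 (flp_c L775122) (flp_a L773605) L785233
theorem L785237 : sm ge N59561 = N58503 := ded_28_2 (flp_c L775299) (flp_e L773617) L785233
theorem L785239 : sm gf N59561 = N59334 := ded_29_2 (flp_c L783444) (flp_f L773609) L785233
theorem L785241 : sm gg N59561 = N58383 := ded_30_2 (flp_c L773697) (flp_g L773611) L785233
theorem L785243 : sm gj N59561 = N58459 := ded_31_2 (flp_c L774726) (flp_j L773613) L785233
theorem L785245 : sm gh N59561 = N58460 := ded_32_2 (flp_c L774740) (flp_h L773619) L785233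
theorem L785247 : sm gi N59561 = N58397 := ded_33_2 (flp_c L773883) (flp_i L773615) L785233
theorem L785249 : sm gd N59561 = N59240 := ded_27_2 (flp_c L782810) (flp_d L771204) (flp_c L762082) L773603 L785233
theorem L785251 : sm gd N58378 = N59562 := rfl
theorem L785253 : sm ga N59562 = N58927 := ded_12_1 (flp_d L779984) (flp_a L773623) L785251
theorem L785255 : sm gb N59562 = N59157 := ded_20_1 (flp_d L782102) (flp_b L773625) L785251
theorem L785257 : sm gf N59562 = N58923 := ded_35_2 (flp_d L779931) (flp_f L773630) L785251
theorem L785259 : sm gg N59562 = N59204 := ded_36_2 (flp_d L782531) (flp_g L773632) L785251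
theorem L785261 : sm gj N59562 = N58385 := ded_37_2 (flp_d L773724) (flp_j L773634) L785251
theorem L785263 : sm gi N59562 = N59196 := ded_39_2 (flp_d L782461) (flp_i L773636) L785251
theorem L785265 : sm gh N59562 = N58379 := ded_38_2 (flp_d L773638) (flp_h L762111) (flp_d L762102) L773621 L785251
theorem L785267 : sm gc N58379 = N59563 := rfl
theorem L785269 : sm ga N59563 = N59462 := ded_11_1 (flp_c L784226) (flp_a L773640) L785267
theorem L785271 : sm gf N59563 = N59154 := ded_29_2 (flp_c L782076) (flp_f L773644) L785267
theorem L785273 : sm gg N59563 = N59240 := ded_30_2 (flp_c L782810) (flp_g L773646) L785267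
theorem L785275 : sm gj N59563 = N58386 := ded_31_2 (flp_c L773736) (flp_j L773648) L785267
theorem L785277 : sm gi N59563 = N58399 := ded_33_2 (flp_c L773913) (flp_i L773650) L785267
theorem L785279 : sm gd N59563 = N58383 := ded_27_2 (flp_c L773697) (flp_d L762180) (flp_c L762117) L773638 L785267
theorem L785281 : sm ge N58379 = N59564 := rfl
theorem L785283 : sm ga N59564 = N59463 := ded_13_1 (flp_e L784234) (flp_a L773640) L785281
theorem L785285 : sm gb N59564 = N59161 := ded_21_1 (flp_e L782148) (flp_b L773642) L785281
theorem L785287 : sm gg N59564 = N59241 := ded_41_2 (flp_e L782816) (flp_g L773646) L785281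
theorem L785289 : sm gj N59564 = N58387 := ded_42_2 (flp_e L773748) (flp_j L773648) L785281
theorem L785291 : sm gi N59564 = N58400 := ded_44_2 (flp_e L773925) (flp_i L773650) L785281
theorem L785293 : sm gd N59564 = N58380 := ded_34_1 (flp_e L773652) (flp_d L762129) (flp_e L762119) L773638 L785281
theorem L785295 : sm gf N58380 = N59565 := rfl
theorem L785297 : sm ga N59565 = N59190 := ded_14_1 L782412 (flp_a L773654) L785295
theorem L785299 : sm gb N59565 = N58873 := ded_22_1 L779445 (flp_b L773656) L785295
theorem L785301 : sm gc N59565 = N58509 := ded_29_1 (flp_f L775374) (flp_c L773658) L785295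
theorem L785303 : sm gj N59565 = N58388 := ded_46_2 (flp_f L773760) (flp_j L773662) L785295
theorem L785305 : sm gh N59565 = N59565 := ded_47_2 (flp_f L785295) L773664 L785295
theorem L785306 : sm gi N59565 = N58401 := ded_48_2 (flp_f L773939) (flp_i L773665) L785295
theorem L785308 : sm ge N59565 = N58392 := ded_40_1 (flp_f L773811) (flp_e L762267) (flp_f L762135) L773652 L785295
theorem L785310 : sm gd N58381 = N59566 := rfl
theorem L785312 : sm ga N59566 = N58956 := ded_12_1 (flp_d L780245) (flp_a L773669) L785310
theorem L785314 : sm gb N59566 = N58610 := ded_20_1 (flp_d L776648) (flp_b L773671) L785310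
theorem L785316 : sm gf N59566 = N58720 := ded_35_2 (flp_d L777930) (flp_f L773677) L785310
theorem L785318 : sm gg N59566 = N58382 := ded_36_2 (flp_d L773685) (flp_g L773679) L785310
theorem L785320 : sm gj N59566 = N58864 := ded_37_2 (flp_d L779341) (flp_j L773681) L785310
theorem L785322 : sm gi N59566 = N58402 := ded_39_2 (flp_d L773953) (flp_i L773683) L785310
theorem L785324 : sm gh N59566 = N58760 := ded_38_2 (flp_d L778308) (flp_h L766925) (flp_d L762154) L773667 L785310
theorem L785326 : sm gc N58382 = N59567 := rfl
theorem L785328 : sm ga N59567 = N58972 := ded_11_1 (flp_c L780405) (flp_a L773687) L785326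
theorem L785330 : sm gf N59567 = N58383 := ded_29_2 (flp_c L773697) (flp_f L773691) L785326
theorem L785332 : sm gj N59567 = N58389 := ded_31_2 (flp_c L773775) (flp_j L773693) L785326
theorem L785334 : sm gi N59567 = N58403 := ded_33_2 (flp_c L773967) (flp_i L773695) L785326
theorem L785336 : sm gd N59567 = N59154 := ded_27_2 (flp_c L782076) (flp_d L770494) (flp_c L762170) L773685 L785326
theorem L785338 : sm ge N58382 = N59568 := rfl
theorem L785340 : sm ga N59568 = N58973 := ded_13_1 (flp_e L780413) (flp_a L773687) L785338
theorem L785342 : sm gb N59568 = N58816 := ded_21_1 (flp_e L778834) (flp_b L773689) L785338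
theorem L785344 : sm gj N59568 = N58390 := ded_42_2 (flp_e L773787) (flp_j L773693) L785338
theorem L785346 : sm gi N59568 = N58404 := ded_44_2 (flp_e L773975) (flp_i L773695) L785338
theorem L785348 : sm gd N59568 = N58395 := ded_34_1 (flp_e L773855) (flp_d L762298) (flp_e L762172) L773685 L785338
theorem L785350 : sm gf N59568 = N58512 := ded_40_2 (flp_e L775411) L763919 (flp_e L762190) (flp_f L773691) L785338
theorem L785352 : sm gb N58383 = N59569 := rfl
theorem L785354 : sm ge N59569 = N58513 := ded_21_2 (flp_b L775423) (flp_e L773701) L785352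
theorem L785356 : sm gj N59569 = N58391 := ded_24_2 (flp_b L773801) (flp_j L773703) L785352
theorem L785358 : sm gi N59569 = N58405 := ded_26_2 (flp_b L773989) (flp_i L773705) L785352
theorem L785360 : sm gc N59569 = N58817 := ded_19_2 (flp_b L778846) (flp_c L767457) (flp_b L762184) L773697 L785352
theorem L785362 : sm gd N58384 = N59570 := rfl
theorem L785364 : sm ga N59570 = N59453 := ded_12_1 (flp_d L784168) (flp_a L773709) L785362
theorem L785366 : sm gb N59570 = N58494 := ded_20_1 (flp_d L775201) (flp_b L773711) L785362
theorem L785368 : sm gf N59570 = N58490 := ded_35_2 (flp_d L775164) (flp_f L773716) L785362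
theorem L785370 : sm gg N59570 = N58506 := ded_36_2 (flp_d L775338) (flp_g L773718) L785362
theorem L785372 : sm gj N59570 = N59196 := ded_37_2 (flp_d L782461) (flp_j L773720) L785362
theorem L785374 : sm gi N59570 = N58385 := ded_39_2 (flp_d L773724) (flp_i L773722) L785362
theorem L785376 : sm gh N59570 = N58412 := ded_38_2 (flp_d L774090) (flp_h L762558) (flp_d L762200) L773707 L785362
theorem L785378 : sm gc N58385 = N59571 := rfl
theorem L785380 : sm ga N59571 = N59454 := ded_11_1 (flp_c L784176) (flp_a L773726) L785378
theorem L785382 : sm gf N59571 = N59168 := ded_29_2 (flp_c L782214) (flp_f L773730) L785378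
theorem L785384 : sm gg N59571 = N59052 := ded_30_2 L781093 (flp_g L773732) L785378
theorem L785386 : sm gh N59571 = N58386 := ded_32_2 (flp_c L773736) (flp_h L773734) L785378
theorem L785388 : sm ge N58385 = N59572 := rfl
theorem L785390 : sm ga N59572 = N59455 := ded_13_1 (flp_e L784182) (flp_a L773726) L785388
theorem L785392 : sm gb N59572 = N59174 := ded_21_1 (flp_e L782262) (flp_b L773728) L785388
theorem L785394 : sm gg N59572 = N59046 := ded_41_2 L781043 (flp_g L773732) L785388
theorem L785396 : sm gh N59572 = N58387 := ded_43_2 (flp_e L773748) (flp_h L773734) L785388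
theorem L785398 : sm gd N59572 = N59572 := ded_34_1 (flp_e L785388) (flp_d L773724) L762215 L773724 L785388
theorem L785399 : sm gb N58386 = N59573 := rfl
theorem L785401 : sm gd N59573 = N58391 := ded_20_2 (flp_b L773801) (flp_d L773746) L785399
theorem L785403 : sm gf N59573 = N59170 := ded_22_2 (flp_b L782230) (flp_f L773740) L785399
theorem L785405 : sm gg N59573 = N59063 := ded_23_2 L781177 (flp_g L773742) L785399
theorem L785407 : sm gi N59573 = N58417 := ded_26_2 (flp_b L774148) (flp_i L773744) L785399
theorem L785409 : sm gc N59573 = N59178 := ded_19_2 (flp_b L782297) (flp_c L770649) (flp_b L762224) L773736 L785399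
theorem L785411 : sm ge N58386 = N59574 := rfl
theorem L785413 : sm ga N59574 = N59465 := ded_13_1 (flp_e L784250) (flp_a L773738) L785411
theorem L785415 : sm gc N59574 = N58387 := ded_28_1 (flp_e L773748) L773736 L785411
theorem L785417 : sm gg N59574 = N59061 := ded_41_2 L781161 (flp_g L773742) L785411
theorem L785419 : sm gi N59574 = N58418 := ded_44_2 (flp_e L774154) (flp_i L773744) L785411
theorem L785421 : sm gd N59574 = N58523 := ded_34_1 (flp_e L775544) L764036 (flp_e L762261) (flp_d L773746) L785411
theorem L785423 : sm gf N58387 = N59575 := rfl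
theorem L785425 : sm ga N59575 = N59466 := ded_14_1 (flp_f L784258) (flp_a L773750) L785423
theorem L785427 : sm gb N59575 = N58874 := ded_22_1 L779451 (flp_b L773752) L785423
theorem L785429 : sm gd N59575 = N58388 := ded_35_1 (flp_f L773760) (flp_d L773758) L785423
theorem L785431 : sm gi N59575 = N58419 := ded_48_2 (flp_f L774164) (flp_i L773756) L785423
theorem L785433 : sm ge N59575 = N59172 := ded_40_1 (flp_f L782242) (flp_e L770599) (flp_f L762226) L773748 L785423
theorem L785435 : sm gg N59575 = N59057 := ded_45_2 (flp_f L781125) L769546 L769560 (flp_g L773754) L785423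
theorem L785437 : sm gb N58389 = N59576 := rfl
theorem L785439 : sm gd N59576 = N59170 := ded_20_2 (flp_b L782230) (flp_d L773785) L785437
theorem L785441 : sm gf N59576 = N58391 := ded_22_2 (flp_b L773801) (flp_f L773779) L785437
theorem L785443 : sm gg N59576 = N58868 := ded_23_2 (flp_b L779383) (flp_g L773781) L785437
theorem L785445 : sm gi N59576 = N58421 := ded_26_2 (flp_b L774190) (flp_i L773783) L785437
theorem L785447 : sm gc N59576 = N58818 := ded_19_2 (flp_b L778856) (flp_c L767469) (flp_b L762249) L773775 L785437
theorem L785449 : sm ge N58389 = N59577 := rfl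
theorem L785451 : sm ga N59577 = N58975 := ded_13_1 (flp_e L780431) (flp_a L773777) L785449
theorem L785453 : sm gc N59577 = N58390 := ded_28_1 (flp_e L773787) L773775 L785449
theorem L785455 : sm gg N59577 = N58869 := ded_41_2 (flp_e L779391) (flp_g L773781) L785449
theorem L785457 : sm gi N59577 = N58422 := ded_44_2 (flp_e L774198) (flp_i L773783) L785449
theorem L785459 : sm gf N59577 = N58529 := ded_40_2 (flp_e L775620) L764093 (flp_e L762261) (flp_f L773779) L785449
theorem L785461 : sm ga N58391 = N59578 := rfl
theorem L785463 : sm gc N59578 = N58820 := ded_11_2 (flp_a L778876) (flp_c L773809) L785461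
theorem L785465 : sm ge N59578 = N58530 := ded_13_2 (flp_a L775626) (flp_e L773803) L785461
theorem L785467 : sm gg N59578 = N59132 := ded_15_2 (flp_a L781875) (flp_g L773805) L785461
theorem L785469 : sm gi N59578 = N58423 := ded_18_2 (flp_a L774208) (flp_i L773807) L785461
theorem L785471 : sm gb N59578 = N59470 := ded_10_2 (flp_a L784284) (flp_b L772627) (flp_a L762259) L773801 L785461
theorem L785473 : sm gg N58392 = N59579 := rfl
theorem L785475 : sm ga N59579 = N58491 := ded_15_1 L775175 (flp_a L773813) L785473
theorem L785477 : sm gb N59579 = N58871 := ded_23_1 L779418 (flp_b L773815) L785473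
theorem L785479 : sm gc N59579 = N58489 := ded_30_1 L775157 (flp_c L773817) L785473
theorem L785481 : sm gd N59579 = N58924 := ded_36_1 L779948 (flp_d L773819) L785473
theorem L785483 : sm gh N59579 = N59579 := ded_50_2 (flp_g L785473) L773823 L785473
theorem L785484 : sm gi N59579 = N58427 := ded_51_2 (flp_g L774259) (flp_i L773824) L785473
theorem L785486 : sm gf N59579 = N59579 := ded_45_1 (flp_g L785473) (flp_f L773811) L762275 L773811 L785473
theorem L785487 : sm gj N59579 = N58697 := ded_49_2 L777686 L769822 (flp_g L762340) (flp_j L773821) L785473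
theorem L785489 : sm gc N58393 = N59580 := rfl
theorem L785491 : sm ga N59580 = N58979 := ded_11_1 (flp_c L780461) (flp_a L773828) L785489
theorem L785493 : sm gf N59580 = N59580 := ded_29_2 (flp_c L785489) L773832 L785489
theorem L785494 : sm gg N59580 = N58394 := ded_30_2 (flp_c L773840) (flp_g L773833) L785489
theorem L785496 : sm gj N59580 = N58871 := ded_31_2 (flp_c L779413) (flp_j L773835) L785489
theorem L785498 : sm gh N59580 = N59580 := ded_32_2 (flp_c L785489) L773839 L785489
theorem L785499 : sm gi N59580 = N58428 := ded_33_2 (flp_c L774272) (flp_i L773837) L785489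
theorem L785501 : sm gb N59580 = N58697 := ded_19_1 (flp_c L777683) L766375 (flp_c L765272) (flp_b L773830) L785489
theorem L785503 : sm gd N59580 = N59077 := ded_27_2 L781285 (flp_d L770445) (flp_c L762289) L773826 L785489
theorem L785505 : sm ge N58393 = N59581 := rfl
theorem L785507 : sm ga N59581 = N58980 := ded_13_1 (flp_e L780475) (flp_a L773828) L785505
theorem L785509 : sm gb N59581 = N58611 := ded_21_1 (flp_e L776656) (flp_b L773830) L785505
theorem L785511 : sm gg N59581 = N58395 := ded_41_2 (flp_e L773855) (flp_g L773833) L785505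
theorem L785513 : sm gj N59581 = N58872 := ded_42_2 (flp_e L779425) (flp_j L773835) L785505
theorem L785515 : sm gh N59581 = N59581 := ded_43_2 (flp_e L785505) L773839 L785505
theorem L785516 : sm gi N59581 = N58429 := ded_44_2 (flp_e L774285) (flp_i L773837) L785505
theorem L785518 : sm ge N58394 = N59582 := rfl
theorem L785520 : sm ga N59582 = N58986 := ded_13_1 (flp_e L780538) (flp_a L773842) L785518
theorem L785522 : sm gb N59582 = N59083 := ded_21_1 L781351 (flp_b L773851) L785518
theorem L785524 : sm gc N59582 = N58395 := ded_28_1 (flp_e L773855) L773840 L785518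
theorem L785526 : sm gj N59582 = N58396 := ded_42_2 (flp_e L773868) (flp_j L773846) L785518
theorem L785528 : sm gh N59582 = N59582 := ded_43_2 (flp_e L785518) L773848 L785518
theorem L785529 : sm gi N59582 = N58430 := ded_44_2 (flp_e L774297) (flp_i L773849) L785518
theorem L785531 : sm gf N59582 = N58532 := ded_40_2 (flp_e L775649) L764146 (flp_e L762315) (flp_f L773844) L785518
theorem L785533 : sm gd N58396 = N59583 := rfl
theorem L785535 : sm ga N59583 = N58987 := ded_12_1 (flp_d L780551) (flp_a L773870) L785533
theorem L785537 : sm gb N59583 = N59057 := ded_20_1 L781127 (flp_b L773872) L785533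
theorem L785539 : sm gf N59583 = N58534 := ded_35_2 (flp_d L775681) (flp_f L773881) L785533
theorem L785541 : sm gg N59583 = N58874 := ded_36_2 (flp_d L779447) (flp_g L773876) L785533
theorem L785543 : sm gi N59583 = N58433 := ded_39_2 (flp_d L774341) (flp_i L773879) L785533
theorem L785545 : sm ge N59583 = N59087 := ded_34_2 (flp_d L781378) (flp_e L769792) (flp_d L762355) L773868 L785533
theorem L785547 : sm gb N58397 = N59584 := rfl
theorem L785549 : sm gd N59584 = N59242 := ded_20_2 (flp_b L782824) (flp_d L773897) L785547
theorem L785551 : sm ge N59584 = N58539 := ded_21_2 (flp_b L775739) (flp_e L773887) L785547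
theorem L785553 : sm gf N59584 = N59336 := ded_22_2 (flp_b L783457) (flp_f L773889) L785547
theorem L785555 : sm gg N59584 = N58405 := ded_23_2 (flp_b L773989) (flp_g L773891) L785547
theorem L785557 : sm gj N59584 = N59120 := ded_24_2 (flp_b L781743) (flp_j L773893) L785547
theorem L785559 : sm gh N59584 = N59113 := ded_25_2 (flp_b L781654) (flp_h L773895) L785547
theorem L785561 : sm gc N59584 = N58824 := ded_19_2 (flp_b L778923) (flp_c L767538) (flp_b L762374) L773883 L785547
theorem L785563 : sm gc N58398 = N59585 := rfl
theorem L785565 : sm ga N59585 = N59053 := ded_11_1 (flp_c L781097) (flp_a L773901) L785563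
theorem L785567 : sm gf N59585 = N58399 := ded_29_2 (flp_c L773913) (flp_f L773905) L785563
theorem L785569 : sm gj N59585 = N58415 := ded_31_2 (flp_c L774124) (flp_j L773907) L785563
theorem L785571 : sm gh N59585 = N59225 := ded_32_2 (flp_c L782704) (flp_h L773911) L785563
theorem L785573 : sm gi N59585 = N59154 := ded_33_2 (flp_c L782076) (flp_i L773909) L785563
theorem L785575 : sm gd N59585 = N58403 := ded_27_2 (flp_c L773967) (flp_d L762442) (flp_c L762392) L773899 L785563
theorem L785577 : sm ge N58398 = N59586 := rfl
theorem L785579 : sm ga N59586 = N59054 := ded_13_1 (flp_e L781105) (flp_a L773901) L785577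
theorem L785581 : sm gb N59586 = N59129 := ded_21_1 (flp_e L781837) (flp_b L773903) L785577
theorem L785583 : sm gj N59586 = N58416 := ded_42_2 (flp_e L774136) (flp_j L773907) L785577
theorem L785585 : sm gh N59586 = N59226 := ded_43_2 (flp_e L782710) (flp_h L773911) L785577
theorem L785587 : sm gi N59586 = N59155 := ded_44_2 (flp_e L782080) (flp_i L773909) L785577
theorem L785589 : sm gd N59586 = N58425 := ded_34_1 (flp_e L774233) (flp_d L762650) (flp_e L762394) L773899 L785577
theorem L785591 : sm gb N58399 = N59587 := rfl
theorem L785593 : sm gd N59587 = N58405 := ded_20_2 (flp_b L773989) (flp_d L773923) L785591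
theorem L785595 : sm gg N59587 = N59242 := ded_23_2 (flp_b L782824) (flp_g L773917) L785591
theorem L785597 : sm gj N59587 = N58417 := ded_24_2 (flp_b L774148) (flp_j L773919) L785591
theorem L785599 : sm gh N59587 = N59227 := ded_25_2 (flp_b L782713) (flp_h L773921) L785591
theorem L785601 : sm gc N59587 = N59407 := ded_19_2 (flp_b L783900) (flp_c L772277) (flp_b L762406) L773913 L785591
theorem L785603 : sm ge N58399 = N59588 := rfl
theorem L785605 : sm ga N59588 = N59508 := ded_13_1 L784541 (flp_a L773915) L785603
theorem L785607 : sm gc N59588 = N58400 := ded_28_1 (flp_e L773925) L773913 L785603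
theorem L785609 : sm gg N59588 = N59243 := ded_41_2 (flp_e L782830) (flp_g L773917) L785603
theorem L785611 : sm gj N59588 = N58418 := ded_42_2 (flp_e L774154) (flp_j L773919) L785603
theorem L785613 : sm gh N59588 = N59228 := ded_43_2 (flp_e L782719) (flp_h L773921) L785603
theorem L785615 : sm gd N59588 = N58546 := ded_34_1 (flp_e L775829) L764323 (flp_e L762456) (flp_d L773923) L785603
theorem L785617 : sm gf N58400 = N59589 := rfl
theorem L785619 : sm ga N59589 = N59511 := ded_14_1 (flp_f L784553) (flp_a L773927) L785617
theorem L785621 : sm gb N59589 = N58910 := ded_22_1 L779810 (flp_b L773929) L785617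
theorem L785623 : sm gd N59589 = N58401 := ded_35_1 (flp_f L773939) (flp_d L773937) L785617
theorem L785625 : sm gj N59589 = N58419 := ded_46_2 (flp_f L774164) (flp_j L773933) L785617
theorem L785627 : sm gh N59589 = N59229 := ded_47_2 (flp_f L782727) (flp_h L773935) L785617
theorem L785629 : sm gg N58401 = N59590 := rfl
theorem L785631 : sm ga N59590 = N59186 := ded_15_1 L782368 (flp_a L773941) L785629
theorem L785633 : sm gb N59590 = N58908 := ded_23_1 L779793 (flp_b L773943) L785629
theorem L785635 : sm gc N59590 = N58548 := ded_30_1 (flp_g L775851) (flp_c L773945) L785629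
theorem L785637 : sm ge N59590 = N58427 := ded_41_1 (flp_g L774259) (flp_e L773951) L785629
theorem L785639 : sm gh N59590 = N58438 := ded_50_2 (flp_g L774409) (flp_h L773949) L785629
theorem L785641 : sm gf N59590 = N59290 := ded_45_1 (flp_g L783148) (flp_f L771514) (flp_g L762422) L773939 L785629
theorem L785643 : sm gj N59590 = N58930 := ded_49_2 L780010 L774188 (flp_g L774172) (flp_j L773947) L785629
theorem L785645 : sm gc N58402 = N59591 := rfl
theorem L785647 : sm ga N59591 = N59020 := ded_11_1 (flp_c L780847) (flp_a L773955) L785645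
theorem L785649 : sm gf N59591 = N58721 := ded_29_2 (flp_c L777938) (flp_f L773959) L785645
theorem L785651 : sm gg N59591 = N58403 := ded_30_2 (flp_c L773967) (flp_g L773961) L785645
theorem L785653 : sm gj N59591 = N58886 := ded_31_2 (flp_c L779580) (flp_j L773963) L785645
theorem L785655 : sm gh N59591 = N58723 := ded_32_2 (flp_c L777951) (flp_h L773965) L785645
theorem L785657 : sm ge N58402 = N59592 := rfl
theorem L785659 : sm ga N59592 = N59021 := ded_13_1 (flp_e L780853) (flp_a L773955) L785657
theorem L785661 : sm gb N59592 = N58808 := ded_21_1 (flp_e L778748) (flp_b L773957) L785657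
theorem L785663 : sm gg N59592 = N58404 := ded_41_2 (flp_e L773975) (flp_g L773961) L785657
theorem L785665 : sm gj N59592 = N58887 := ded_42_2 (flp_e L779586) (flp_j L773963) L785657
theorem L785667 : sm gh N59592 = N58724 := ded_43_2 (flp_e L777959) (flp_h L773965) L785657
theorem L785669 : sm gd N59592 = N58429 := ded_34_1 (flp_e L774285) (flp_d L762707) (flp_e L762434) L773953 L785657
theorem L785671 : sm gb N58403 = N59593 := rfl
theorem L785673 : sm gf N59593 = N58405 := ded_22_2 (flp_b L773989) (flp_f L773971) L785671
theorem L785675 : sm gj N59593 = N58421 := ded_24_2 (flp_b L774190) (flp_j L773973) L785671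
theorem L785677 : sm gc N59593 = N58826 := ded_19_2 (flp_b L778947) (flp_c L767562) (flp_b L762446) L773967 L785671
theorem L785679 : sm ge N58403 = N59594 := rfl
theorem L785681 : sm ga N59594 = N59065 := ded_13_1 (flp_e L781189) (flp_a L773969) L785679
theorem L785683 : sm gc N59594 = N58404 := ded_28_1 (flp_e L773975) L773967 L785679
theorem L785685 : sm gj N59594 = N58422 := ded_42_2 (flp_e L774198) (flp_j L773973) L785679
theorem L785687 : sm gh N59594 = N59331 := ded_43_2 (flp_e L784649) L784657 L785679
theorem L785689 : sm gf N59594 = N58553 := ded_40_2 (flp_e L775911) L764375 (flp_e L762456) (flp_f L773971) L785679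
theorem L785691 : sm ga N58405 = N59595 := rfl
theorem L785693 : sm gc N59595 = N58828 := ded_11_2 (flp_a L778965) (flp_c L773995) L785691
theorem L785695 : sm ge N59595 = N58554 := ded_13_2 (flp_a L775921) (flp_e L773991) L785691
theorem L785697 : sm gj N59595 = N58423 := ded_16_2 (flp_a L774208) (flp_j L773993) L785691
theorem L785699 : sm gb N59595 = N59517 := ded_10_2 (flp_a L784585) (flp_b L772947) (flp_a L762454) L773989 L785691
theorem L785701 : sm gd N58406 = N59596 := rfl
theorem L785703 : sm ga N59596 = N58891 := ded_12_1 (flp_d L779614) (flp_a L773999) L785701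
theorem L785705 : sm gb N59596 = N58412 := ded_20_1 (flp_d L774090) (flp_b L774001) L785701
theorem L785707 : sm gf N59596 = N58493 := ded_35_2 (flp_d L775191) (flp_f L774007) L785701
theorem L785709 : sm gg N59596 = N58504 := ded_36_2 (flp_d L775309) (flp_g L774009) L785701
theorem L785711 : sm gj N59596 = N59102 := ded_37_2 (flp_d L781521) (flp_j L774011) L785701
theorem L785713 : sm gi N59596 = N58407 := ded_39_2 (flp_d L774015) (flp_i L774013) L785701
theorem L785715 : sm gh N59596 = N58494 := ded_38_2 (flp_d L775201) (flp_h L763744) (flp_d L762468) L773997 L785701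
theorem L785717 : sm gc N58407 = N59597 := rfl
theorem L785719 : sm ga N59597 = N59215 := ded_11_1 (flp_c L782627) (flp_a L774017) L785717
theorem L785721 : sm gf N59597 = N59141 := ded_29_2 (flp_c L781961) (flp_f L774021) L785717
theorem L785723 : sm gg N59597 = N58542 := ded_30_2 (flp_c L775781) (flp_g L774023) L785717
theorem L785725 : sm gj N59597 = N59051 := ded_31_2 L781085 (flp_j L774025) L785717
theorem L785727 : sm gh N59597 = N58408 := ded_32_2 (flp_c L774029) (flp_h L774027) L785717
theorem L785729 : sm gd N59597 = N58990 := ded_27_2 (flp_c L780582) (flp_d L769095) (flp_c L762484) L774015 L785717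
theorem L785731 : sm ge N58407 = N59598 := rfl
theorem L785733 : sm ga N59598 = N58840 := ded_13_1 L779091 (flp_a L774017) L785731
theorem L785735 : sm gb N59598 = N58414 := ded_21_1 (flp_e L774112) (flp_b L774019) L785731
theorem L785737 : sm gg N59598 = N58543 := ded_41_2 (flp_e L775791) (flp_g L774023) L785731
theorem L785739 : sm gj N59598 = N58794 := ded_42_2 L778597 (flp_j L774025) L785731
theorem L785741 : sm gh N59598 = N58409 := ded_43_2 (flp_e L774043) (flp_h L774027) L785731
theorem L785743 : sm gd N59598 = N58440 := ded_34_1 (flp_e L774442) (flp_d L762913) (flp_e L762486) L774015 L785731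
theorem L785745 : sm gf N58912 = N59598 := ded_55_3 (flp_e L785731) (flp_d L774015) L762482 L749694 L751525 (flp_i L763830) L763832 (flp_d L760963) (flp_f L757128) L757126 L757270 (flp_b L764174) L764184 (flp_d L757814) (flp_i L751565) (flp_h L751551) L736262 L719283 L699691 L693885 L672356 L650424 L272725 L646682 L646652 L129817 L647588 L62326 (flp_d L89856) L89860 (flp_c L129975) L129977 L646238 (flp_h L272633) L648548 (flp_f L649095) L648521 (flp_d L665840) L688039 L688048 L669840 L670089 (flp_h L684365) (flp_d L705580) (flp_f L724747) (flp_e L741690) L741688 (flp_b L741830) L741832 L729439 (flp_i L710530) (flp_h L710163) L729049 (flp_f L742928) L742924 L726081 L713934 L693365 L671451 L671536 (flp_h L685009) (flp_d L703364) L703368 L703366 L682219 L659789 (flp_c L681953) (flp_d L703048) (flp_i L703044) (flp_h L702834) (flp_d L702826) L681815 L659540 L681838 (flp_b L702277) L702279 L681194 L681255 L702371 L721658 (flp_f L738860) L753466 L753479 L741668 (flp_c L742481) L756585 L756589 L768399 (flp_d L779828)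
theorem L785747 : sm gb N58408 = N59599 := rfl
theorem L785749 : sm gd N59599 = N58829 := ded_20_2 (flp_b L778971) (flp_d L774041) L785747
theorem L785751 : sm gf N59599 = N59143 := ded_22_2 (flp_b L781974) (flp_f L774033) L785747
theorem L785753 : sm gg N59599 = N59135 := ded_23_2 (flp_b L781911) (flp_g L774035) L785747
theorem L785755 : sm gj N59599 = N59407 := ded_24_2 (flp_b L783900) (flp_j L774037) L785747
theorem L785757 : sm gi N59599 = N59178 := ded_26_2 (flp_b L782297) (flp_i L774039) L785747
theorem L785759 : sm gc N59599 = N58417 := ded_19_2 (flp_b L774148) (flp_c L762594) (flp_b L762498) L774029 L785747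
theorem L785761 : sm ge N58408 = N59600 := rfl
theorem L785763 : sm ga N59600 = N58839 := ded_13_1 L779087 (flp_a L774031) L785761
theorem L785765 : sm gc N59600 = N58409 := ded_28_1 (flp_e L774043) L774029 L785761
theorem L785767 : sm gg N59600 = N59136 := ded_41_2 (flp_e L781919) (flp_g L774035) L785761
theorem L785769 : sm gj N59600 = N59408 := ded_42_2 (flp_e L783904) (flp_j L774037) L785761
theorem L785771 : sm gi N59600 = N59179 := ded_44_2 (flp_e L782303) (flp_i L774039) L785761
theorem L785773 : sm gd N59600 = N58803 := ded_34_1 (flp_e L778696) L767341 (flp_e L767588) (flp_d L774041) L785761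
theorem L785775 : sm gf N58904 = N59600 := ded_14_0 L785763 L779079 (flp_a L779747)
theorem L785777 : sm gd N58410 = N59601 := rfl
theorem L785779 : sm ga N59601 = N59039 := ded_12_1 (flp_d L780988) (flp_a L774061) L785777
theorem L785781 : sm gb N59601 = N58493 := ded_20_1 (flp_d L775191) (flp_b L774063) L785777
theorem L785783 : sm gf N59601 = N58412 := ded_35_2 (flp_d L774090) (flp_f L774068) L785777
theorem L785785 : sm gg N59601 = N58894 := ded_36_2 (flp_d L779652) (flp_g L774070) L785777
theorem L785787 : sm gj N59601 = N58935 := ded_37_2 (flp_d L780061) (flp_j L774072) L785777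
theorem L785789 : sm gi N59601 = N58411 := ded_39_2 (flp_d L774076) (flp_i L774074) L785777
theorem L785791 : sm gh N59601 = N58490 := ded_38_2 (flp_d L775164) (flp_h L763711) (flp_d L762534) L774059 L785777
theorem L785793 : sm gc N58411 = N59602 := rfl
theorem L785795 : sm ga N59602 = N59040 := ded_11_1 (flp_c L780996) (flp_a L774078) L785793
theorem L785797 : sm gf N59602 = N58413 := ded_29_2 (flp_c L774100) (flp_f L774082) L785793
theorem L785799 : sm gg N59602 = N58895 := ded_30_2 (flp_c L779666) (flp_g L774084) L785793
theorem L785801 : sm gj N59602 = N59225 := ded_31_2 (flp_c L782704) (flp_j L774086) L785793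
theorem L785803 : sm gh N59602 = N58415 := ded_32_2 (flp_c L774124) (flp_h L774088) L785793
theorem L785805 : sm gd N59602 = N58537 := ded_27_2 (flp_c L775722) (flp_d L764245) (flp_c L762549) L774076 L785793
theorem L785807 : sm ge N58411 = N59603 := rfl
theorem L785809 : sm ga N59603 = N59041 := ded_13_1 (flp_e L781004) (flp_a L774078) L785807
theorem L785811 : sm gb N59603 = N59142 := ded_21_1 (flp_e L781967) (flp_b L774080) L785807
theorem L785813 : sm gg N59603 = N58896 := ded_41_2 (flp_e L779674) (flp_g L774084) L785807
theorem L785815 : sm gj N59603 = N59226 := ded_42_2 (flp_e L782710) (flp_j L774086) L785807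
theorem L785817 : sm gh N59603 = N58416 := ded_43_2 (flp_e L774136) (flp_h L774088) L785807
theorem L785819 : sm gd N59603 = N59603 := ded_34_1 (flp_e L785807) (flp_d L774076) L762551 L774076 L785807
theorem L785820 : sm gc N58412 = N59604 := rfl
theorem L785822 : sm ga N59604 = N59499 := ded_11_1 (flp_c L784477) (flp_a L774092) L785820
theorem L785824 : sm gg N59604 = N58507 := ded_30_2 (flp_c L775352) (flp_g L774094) L785820
theorem L785826 : sm gj N59604 = N59197 := ded_31_2 (flp_c L782467) (flp_j L774096) L785820
theorem L785828 : sm gi N59604 = N58413 := ded_33_2 (flp_c L774100) (flp_i L774098) L785820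
theorem L785830 : sm gd N59604 = N58503 := ded_27_2 (flp_c L775299) (flp_d L763822) (flp_c L762562) L774090 L785820
theorem L785832 : sm ge N58412 = N59605 := rfl
theorem L785834 : sm ga N59605 = N59500 := ded_13_1 (flp_e L784483) (flp_a L774092) L785832
theorem L785836 : sm gg N59605 = N58508 := ded_41_2 (flp_e L775364) (flp_g L774094) L785832
theorem L785838 : sm gj N59605 = N59198 := ded_42_2 (flp_e L782475) (flp_j L774096) L785832
theorem L785840 : sm gi N59605 = N58414 := ded_44_2 (flp_e L774112) (flp_i L774098) L785832
theorem L785842 : sm gd N59605 = N58441 := ded_34_1 (flp_e L774458) (flp_d L762945) (flp_e L762564) L774090 L785832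
theorem L785844 : sm gb N58413 = N59606 := rfl
theorem L785846 : sm gd N59606 = N58539 := ded_20_2 (flp_b L775739) (flp_d L774110) L785844
theorem L785848 : sm gg N59606 = N58545 := ded_23_2 (flp_b L775819) (flp_g L774104) L785844
theorem L785850 : sm gj N59606 = N59227 := ded_24_2 (flp_b L782713) (flp_j L774106) L785844
theorem L785852 : sm gh N59606 = N58417 := ded_25_2 (flp_b L774148) (flp_h L774108) L785844
theorem L785854 : sm ge N58413 = N59607 := rfl
theorem L785856 : sm ga N59607 = N59502 := ded_13_1 (flp_e L784497) (flp_a L774102) L785854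
theorem L785858 : sm gc N59607 = N58414 := ded_28_1 (flp_e L774112) L774100 L785854
theorem L785860 : sm gg N59607 = N58546 := ded_41_2 (flp_e L775829) (flp_g L774104) L785854
theorem L785862 : sm gj N59607 = N59228 := ded_42_2 (flp_e L782719) (flp_j L774106) L785854
theorem L785864 : sm gh N59607 = N58418 := ded_43_2 (flp_e L774154) (flp_h L774108) L785854
theorem L785866 : sm gd N59607 = N59243 := ded_34_1 (flp_e L782830) (flp_d L773897) L773887 (flp_d L774110) L785854
theorem L785868 : sm gf N58414 = N59608 := rfl
theorem L785870 : sm ga N59608 = N59503 := ded_14_1 (flp_f L784505) (flp_a L774114) L785868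
theorem L785872 : sm gb N59608 = N58912 := ded_22_1 L785745 L785735 L785868
theorem L785874 : sm gd N59608 = N58442 := ded_35_1 (flp_f L774471) (flp_d L774122) L785868
theorem L785876 : sm gj N59608 = N59229 := ded_46_2 (flp_f L782727) (flp_j L774118) L785868
theorem L785878 : sm gh N59608 = N58419 := ded_47_2 (flp_f L774164) (flp_h L774120) L785868
theorem L785880 : sm gb N58415 = N59609 := rfl
theorem L785882 : sm gd N59609 = N58421 := ded_20_2 (flp_b L774190) (flp_d L774134) L785880
theorem L785884 : sm gf N59609 = N58417 := ded_22_2 (flp_b L774148) (flp_f L774128) L785880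
theorem L785886 : sm gg N59609 = N58899 := ded_23_2 (flp_b L779705) (flp_g L774130) L785880
theorem L785888 : sm gi N59609 = N59170 := ded_26_2 (flp_b L782230) (flp_i L774132) L785880
theorem L785890 : sm gc N59609 = N59143 := ded_19_2 (flp_b L781974) (flp_c L770411) (flp_b L762586) L774124 L785880
theorem L785892 : sm ge N58415 = N59610 := rfl
theorem L785894 : sm ga N59610 = N59056 := ded_13_1 (flp_e L781119) (flp_a L774126) L785892
theorem L785896 : sm gc N59610 = N58416 := ded_28_1 (flp_e L774136) L774124 L785892
theorem L785898 : sm gg N59610 = N58900 := ded_41_2 (flp_e L779713) (flp_g L774130) L785892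
theorem L785900 : sm gi N59610 = N59171 := ded_44_2 (flp_e L782236) (flp_i L774132) L785892
theorem L785902 : sm gf N58416 = N59611 := rfl
theorem L785904 : sm ga N59611 = N59057 := ded_14_1 (flp_f L781125) (flp_a L774138) L785902
theorem L785906 : sm gb N59611 = N58911 := ded_22_1 L779818 (flp_b L774140) L785902
theorem L785908 : sm gd N59611 = N58432 := ded_35_1 (flp_f L774326) (flp_d L774146) L785902
theorem L785910 : sm gi N59611 = N59172 := ded_48_2 (flp_f L782242) (flp_i L774144) L785902
theorem L785912 : sm ge N59611 = N58419 := ded_40_1 (flp_f L774164) (flp_e L762602) (flp_f L762588) L774136 L785902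
theorem L785914 : sm gg N59611 = N59466 := ded_45_2 (flp_f L784258) L772595 (flp_f L768270) (flp_g L774142) L785902
theorem L785916 : sm ga N58417 = N59612 := rfl
theorem L785918 : sm gd N59612 = N58423 := ded_12_2 (flp_a L774208) (flp_d L774150) L785916
theorem L785920 : sm gg N59612 = N59137 := ded_15_2 (flp_a L781923) (flp_g L774152) L785916
theorem L785922 : sm gb N59612 = N59512 := ded_10_2 (flp_a L784559) (flp_b L772907) (flp_a L762596) L774148 L785916
theorem L785924 : sm ge N58417 = N59613 := rfl
theorem L785926 : sm gb N59613 = N58418 := ded_21_1 (flp_e L774154) L774148 L785924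
theorem L785928 : sm gg N59613 = N59138 := ded_41_2 (flp_e L781931) (flp_g L774152) L785924
theorem L785930 : sm gd N59613 = N58574 := ded_34_1 (flp_e L776175) L764613 (flp_e L762644) (flp_d L774150) L785924
theorem L785932 : sm gf N58418 = N59614 := rfl
theorem L785934 : sm ga N59614 = N59498 := ded_14_1 L784473 (flp_a L774156) L785932
theorem L785936 : sm gc N59614 = N58419 := ded_29_1 (flp_f L774164) (flp_c L774158) L785932
theorem L785938 : sm gd N59614 = N58575 := ded_35_1 (flp_f L776181) (flp_d L774162) L785932
theorem L785940 : sm gg N58419 = N59615 := rfl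
theorem L785942 : sm ga N59615 = N59172 := ded_15_1 L782248 (flp_a L774166) L785940
theorem L785944 : sm gb N59615 = N58433 := ded_23_1 L774347 (flp_b L774168) L785940
theorem L785946 : sm gd N59615 = N58420 := ded_36_1 (flp_g L774172) (flp_d L774170) L785940
theorem L785948 : sm ge N59615 = N59466 := ded_41_1 (flp_g L785914) L785912 L785940
theorem L785950 : sm gi N59615 = N59057 := ded_51_2 (flp_g L785435) L785431 L785940
theorem L785952 : sm gf N59615 = N58588 := ded_45_1 L776324 L768915 (flp_g L762606) L774164 L785940
theorem L785954 : sm gj N59428 = N59615 := ded_37_0 L785946 (flp_j L774188) L784020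
theorem L785956 : sm ga N58421 = N59616 := rfl
theorem L785958 : sm gc N59616 = N58837 := ded_11_2 (flp_a L779067) (flp_c L774196) L785956
theorem L785960 : sm gf N59616 = N58423 := ded_14_2 (flp_a L774208) (flp_f L774192) L785956
theorem L785962 : sm gg N59616 = N58902 := ded_15_2 (flp_a L779735) (flp_g L774194) L785956
theorem L785964 : sm gb N59616 = N59066 := ded_10_2 (flp_a L781199) (flp_b L769612) (flp_a L762624) L774190 L785956
theorem L785966 : sm ge N58421 = N59617 := rfl
theorem L785968 : sm gb N59617 = N58422 := ded_21_1 (flp_e L774198) L774190 L785966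
theorem L785970 : sm gc N59617 = N58838 := ded_28_1 (flp_e L779071) (flp_c L774196) L785966
theorem L785972 : sm gg N59617 = N58903 := ded_41_2 (flp_e L779741) (flp_g L774194) L785966
theorem L785974 : sm gf N59617 = N58582 := ded_40_2 (flp_e L776243) L764671 (flp_e L762644) (flp_f L774192) L785966
theorem L785976 : sm gd N58422 = N59618 := rfl
theorem L785978 : sm ga N59618 = N59068 := ded_12_1 (flp_d L781211) (flp_a L774200) L785976
theorem L785980 : sm gf N59618 = N58583 := ded_35_2 (flp_d L776249) (flp_f L774206) L785976
theorem L785982 : sm gg N59618 = N58904 := ded_36_2 (flp_d L779745) (flp_g L774204) L785976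
theorem L785984 : sm gc N59618 = N58433 := ded_27_1 (flp_d L774341) L762807 (flp_d L762638) (flp_c L774202) L785976
theorem L785986 : sm ge N58424 = N59619 := rfl
theorem L785988 : sm ga N59619 = N58984 := ded_13_1 (flp_e L780515) (flp_a L774220) L785986
theorem L785990 : sm gb N59619 = N59190 := ded_21_1 (flp_e L782403) (flp_b L774229) L785986
theorem L785992 : sm gc N59619 = N58425 := ded_28_1 (flp_e L774233) L774218 L785986
theorem L785994 : sm gj N59619 = N58431 := ded_42_2 (flp_e L774311) (flp_j L774224) L785986
theorem L785996 : sm gh N59619 = N59619 := ded_43_2 (flp_e L785986) L774226 L785986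
theorem L785997 : sm gi N59619 = N59080 := ded_44_2 (flp_e L781312) (flp_i L774227) L785986
theorem L785999 : sm gf N59619 = N59288 := ded_40_2 (flp_e L783129) L771475 L762677 (flp_f L774222) L785986
theorem L786001 : sm gf N58425 = N59620 := rfl
theorem L786003 : sm ga N59620 = N59083 := ded_14_1 (flp_f L781342) (flp_a L774235) L786001
theorem L786005 : sm gb N59620 = N58907 := ded_22_1 L779785 (flp_b L774237) L786001
theorem L786007 : sm gc N59620 = N59288 := ded_29_1 (flp_f L785999) L785992 L786001
theorem L786009 : sm gj N59620 = N58432 := ded_46_2 (flp_f L774326) (flp_j L774239) L786001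
theorem L786011 : sm gh N59620 = N59620 := ded_47_2 (flp_f L786001) L774241 L786001
theorem L786012 : sm gi N59620 = N59156 := ded_48_2 (flp_f L782088) (flp_i L774242) L786001
theorem L786014 : sm ge N59620 = N58426 := ded_40_1 (flp_f L774244) (flp_e L762679) (flp_f L762656) L774233 L786001
theorem L786016 : sm gg N58426 = N59621 := rfl
theorem L786018 : sm ga N59621 = N58697 := ded_15_1 L777686 (flp_a L774246) L786016
theorem L786020 : sm gb N59621 = N58905 := ded_23_1 L779756 (flp_b L774248) L786016
theorem L786022 : sm gc N59621 = N58480 := ded_30_1 L775027 (flp_c L774250) L786016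
theorem L786024 : sm gd N59621 = N58427 := ded_36_1 (flp_g L774259) (flp_d L774252) L786016
theorem L786026 : sm gh N59621 = N59621 := ded_50_2 (flp_g L786016) L774256 L786016
theorem L786027 : sm gi N59621 = N58924 := ded_51_2 L779948 (flp_i L774257) L786016
theorem L786029 : sm gf N59621 = N59621 := ded_45_1 (flp_g L786016) (flp_f L774244) L762687 L774244 L786016
theorem L786030 : sm gj N59621 = N58491 := ded_49_2 L775175 L770851 (flp_g L762783) (flp_j L774254) L786016
theorem L786032 : sm ge N58428 = N59622 := rfl
theorem L786034 : sm ga N59622 = N59076 := ded_13_1 (flp_e L781271) (flp_a L774274) L786032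
theorem L786036 : sm gb N59622 = N58930 := ded_21_1 (flp_e L780006) (flp_b L774283) L786032
theorem L786038 : sm gc N59622 = N58429 := ded_28_1 (flp_e L774285) L774272 L786032
theorem L786040 : sm gg N59622 = N58430 := ded_41_2 (flp_e L774297) (flp_g L774277) L786032
theorem L786042 : sm gj N59622 = N58908 := ded_42_2 (flp_e L779787) (flp_j L774279) L786032
theorem L786044 : sm gh N59622 = N58434 := ded_43_2 (flp_e L774349) (flp_h L774281) L786032
theorem L786046 : sm gf N59094 = N59622 := ded_45_5 L786040 L774309 L764769 (flp_f L769902) (flp_g L781448)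
theorem L786048 : sm gf N58429 = N59623 := rfl
theorem L786050 : sm ga N59623 = N58788 := ded_14_1 L778530 (flp_a L774287) L786048
theorem L786052 : sm gb N59623 = N58809 := ded_22_1 (flp_f L778758) (flp_b L774289) L786048
theorem L786054 : sm gc N59623 = N59094 := ded_29_1 L786046 L786038 L786048
theorem L786056 : sm gj N59623 = N58909 := ded_46_2 (flp_f L779797) (flp_j L774293) L786048
theorem L786058 : sm gh N59623 = N58435 := ded_47_2 (flp_f L774366) (flp_h L774295) L786048
theorem L786060 : sm ge N59623 = N59623 := ded_40_1 (flp_f L786048) (flp_e L774285) L762713 L774285 L786048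
theorem L786061 : sm gg N59623 = N58585 := ded_45_2 (flp_f L776275) L764741 (flp_f L762742) (flp_g L774291) L786048
theorem L786063 : sm gd N58430 = N59624 := rfl
theorem L786065 : sm ga N59624 = N59085 := ded_12_1 (flp_d L781360) (flp_a L774299) L786063
theorem L786067 : sm gb N59624 = N59428 := ded_20_1 (flp_d L784020) (flp_b L774301) L786063
theorem L786069 : sm gf N59624 = N58587 := ded_35_2 (flp_d L776306) (flp_f L774309) L786063
theorem L786071 : sm gj N59624 = N58433 := ded_37_2 (flp_d L774341) (flp_j L774305) L786063
theorem L786073 : sm gh N59624 = N58940 := ded_38_2 L780092 L768638 L762854 (flp_h L774307) L786063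
theorem L786075 : sm gd N58431 = N59625 := rfl
theorem L786077 : sm ga N59625 = N58988 := ded_12_1 (flp_d L780563) (flp_a L774313) L786075
theorem L786079 : sm gb N59625 = N59466 := ded_20_1 L784260 (flp_b L774315) L786075
theorem L786081 : sm gf N59625 = N59253 := ded_35_2 L782920 (flp_f L774324) L786075
theorem L786083 : sm gg N59625 = N58911 := ded_36_2 (flp_d L779814) (flp_g L774319) L786075
theorem L786085 : sm gi N59625 = N59087 := ded_39_2 (flp_d L781378) (flp_i L774322) L786075
theorem L786087 : sm ge N59625 = N58433 := ded_34_2 (flp_d L774341) (flp_e L762803) (flp_d L762757) L774311 L786075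
theorem L786089 : sm gh N58433 = N59626 := rfl
theorem L786091 : sm ga N59626 = N59086 := ded_17_1 (flp_h L781368) (flp_a L774343) L786089
theorem L786093 : sm gf N59626 = N58589 := ded_47_1 (flp_h L776330) (flp_f L774345) L786089
theorem L786095 : sm gg N59626 = N58912 := ded_50_1 (flp_h L779824) (flp_g L774347) L786089
theorem L786097 : sm gj N59626 = N58940 := ded_52_1 (flp_h L786073) L786071 L786089
theorem L786099 : sm gd N59626 = N58437 := ded_38_1 (flp_h L774398) (flp_d L762871) (flp_h L762811) L774341 L786089
theorem L786101 : sm gh N58436 = N59627 := rfl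
theorem L786103 : sm ga N59627 = N59187 := ded_17_1 L782376 (flp_a L774384) L786101
theorem L786105 : sm gb N59627 = N58437 := ded_25_1 (flp_h L774398) (flp_b L774386) L786101
theorem L786107 : sm gc N59627 = N59290 := ded_32_1 L783151 (flp_c L774395) L786101
theorem L786109 : sm ge N59627 = N59627 := ded_43_1 (flp_h L786101) L774397 L786101
theorem L786110 : sm gf N59627 = N58548 := ded_47_1 L775859 (flp_f L774388) L786101
theorem L786112 : sm gg N59627 = N58442 := ded_50_1 L774481 (flp_g L774390) L786101
theorem L786114 : sm gj N59627 = N58931 := ded_52_1 L780018 (flp_j L774392) L786101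
theorem L786116 : sm gi N58437 = N59628 := rfl
theorem L786118 : sm ga N59628 = N59098 := ded_18_1 (flp_i L781479) (flp_a L774400) L786116
theorem L786120 : sm ge N59628 = N59628 := ded_44_1 (flp_i L786116) L774402 L786116
theorem L786121 : sm gf N59628 = N58590 := ded_48_1 (flp_i L776340) (flp_f L774403) L786116
theorem L786123 : sm gg N59628 = N58914 := ded_51_1 (flp_i L779846) (flp_g L774405) L786116
theorem L786125 : sm gj N59628 = N58704 := ded_53_1 L777752 (flp_j L774407) L786116
theorem L786127 : sm gh N59628 = N59628 := ded_54_1 (flp_i L786116) (flp_h L774398) L762881 L774398 L786116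
theorem L786128 : sm ge N58439 = N59629 := rfl
theorem L786130 : sm ga N59629 = N58841 := ded_13_1 L779105 (flp_a L774428) L786128
theorem L786132 : sm gb N59629 = N58441 := ded_21_1 (flp_e L774458) (flp_b L774430) L786128
theorem L786134 : sm gc N59629 = N58790 := ded_28_1 (flp_e L778544) (flp_c L774439) L786128
theorem L786136 : sm gg N59629 = N58505 := ded_41_2 (flp_e L775323) (flp_g L774433) L786128
theorem L786138 : sm gj N59629 = N58792 := ded_42_2 (flp_e L778570) (flp_j L774435) L786128
theorem L786140 : sm gh N59629 = N59629 := ded_43_2 (flp_e L786128) L774441 L786128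
theorem L786141 : sm gi N59629 = N58440 := ded_44_2 (flp_e L774442) (flp_i L774437) L786128
theorem L786143 : sm gf N58914 = N59629 := ded_14_0 L786130 L779107 (flp_a L779848)
theorem L786145 : sm gf N58441 = N59630 := rfl
theorem L786147 : sm ga N59630 = N59518 := ded_14_1 (flp_f L784589) (flp_a L774460) L786145
theorem L786149 : sm gb N59630 = N58914 := ded_22_1 L786143 L786132 L786145
theorem L786151 : sm gc N59630 = N59289 := ded_29_1 (flp_f L783140) (flp_c L774462) L786145
theorem L786153 : sm gj N59630 = N59199 := ded_46_2 (flp_f L782483) (flp_j L774466) L786145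
theorem L786155 : sm gh N59630 = N59630 := ded_47_2 (flp_f L786145) L774468 L786145
theorem L786156 : sm gi N59630 = N58442 := ded_48_2 (flp_f L774471) (flp_i L774469) L786145
theorem L786158 : sm ge N59630 = N59630 := ded_40_1 (flp_f L786145) (flp_e L774458) L762949 L774458 L786145
theorem L786159 : sm gc N58443 = N59631 := rfl
theorem L786161 : sm ga N59631 = N58842 := ded_11_1 (flp_c L779114) (flp_a L774486) L786159
theorem L786163 : sm ge N59631 = N58915 := ded_28_2 (flp_c L779852) (flp_e L774498) L786159
theorem L786165 : sm gf N59631 = N58845 := ded_29_2 (flp_c L779146) (flp_f L774490) L786159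
theorem L786167 : sm gg N59631 = N58806 := ded_30_2 (flp_c L778728) (flp_g L774492) L786159
theorem L786169 : sm gj N59631 = N58444 := ded_31_2 (flp_c L774502) (flp_j L774494) L786159
theorem L786171 : sm gh N59631 = N58814 := ded_32_2 (flp_c L778808) (flp_h L774500) L786159
theorem L786173 : sm gi N59631 = N58451 := ded_33_2 (flp_c L774614) (flp_i L774496) L786159
theorem L786175 : sm gd N59631 = N58833 := ded_27_2 (flp_c L779031) (flp_d L767642) (flp_c L763004) L774484 L786159
theorem L786177 : sm gb N58444 = N59632 := rfl
theorem L786179 : sm gd N59632 = N58835 := ded_20_2 (flp_b L779053) (flp_d L774516) L786177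
theorem L786181 : sm ge N59632 = N59223 := ded_21_2 (flp_b L782682) (flp_e L774506) L786177
theorem L786183 : sm gf N59632 = N58850 := ded_22_2 (flp_b L779191) (flp_f L774508) L786177
theorem L786185 : sm gg N59632 = N58831 := ded_23_2 (flp_b L779003) (flp_g L774510) L786177
theorem L786187 : sm gh N59632 = N59374 := ded_25_2 (flp_b L783676) (flp_h L774512) L786177
theorem L786189 : sm gi N59632 = N58457 := ded_26_2 (flp_b L774702) (flp_i L774514) L786177
theorem L786191 : sm gc N59632 = N58466 := ded_19_2 (flp_b L774830) (flp_c L763332) (flp_b L763020) L774502 L786177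
theorem L786193 : sm gd N58445 = N59633 := rfl
theorem L786195 : sm ga N59633 = N58752 := ded_12_1 (flp_d L778222) (flp_a L774520) L786193
theorem L786197 : sm gb N59633 = N58864 := ded_20_1 (flp_d L779341) (flp_b L774522) L786193
theorem L786199 : sm gf N59633 = N59297 := ded_35_2 (flp_d L783207) (flp_f L774528) L786193
theorem L786201 : sm gg N59633 = N58449 := ded_36_2 (flp_d L774585) (flp_g L774530) L786193
theorem L786203 : sm gj N59633 = N58610 := ded_37_2 (flp_d L776648) (flp_j L774532) L786193
theorem L786205 : sm gi N59633 = N58749 := ded_39_2 (flp_d L778182) (flp_i L774534) L786193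
theorem L786207 : sm gh N59633 = N59305 := ded_38_2 (flp_d L783258) (flp_h L771642) (flp_d L763040) L774518 L786193
theorem L786209 : sm gd N58447 = N59634 := rfl
theorem L786211 : sm ga N59634 = N58617 := ded_12_1 (flp_d L776736) (flp_a L774554) L786209
theorem L786213 : sm gb N59634 = N58467 := ded_20_1 (flp_d L774838) (flp_b L774556) L786209
theorem L786215 : sm gf N59634 = N58448 := ded_35_2 (flp_d L774569) (flp_f L774561) L786209
theorem L786217 : sm gg N59634 = N58751 := ded_36_2 (flp_d L778210) (flp_g L774563) L786209
theorem L786219 : sm gj N59634 = N58612 := ded_37_2 (flp_d L776667) (flp_j L774565) L786209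
theorem L786221 : sm gi N59634 = N58805 := ded_39_2 (flp_d L778718) (flp_i L774567) L786209
theorem L786223 : sm gh N59634 = N58596 := ded_38_2 (flp_d L776438) (flp_h L765035) (flp_d L763073) L774552 L786209
theorem L786225 : sm gc N58448 = N59635 := rfl
theorem L786227 : sm ga N59635 = N58844 := ded_11_1 (flp_c L779138) (flp_a L774571) L786225
theorem L786229 : sm ge N59635 = N58695 := ded_28_2 (flp_c L777665) (flp_e L774581) L786225
theorem L786231 : sm gg N59635 = N58451 := ded_30_2 (flp_c L774614) (flp_g L774575) L786225
theorem L786233 : sm gj N59635 = N58613 := ded_31_2 (flp_c L776681) (flp_j L774577) L786225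
theorem L786235 : sm gh N59635 = N58614 := ded_32_2 (flp_c L776693) (flp_h L774583) L786225
theorem L786237 : sm gi N59635 = N58806 := ded_33_2 (flp_c L778728) (flp_i L774579) L786225
theorem L786239 : sm gc N58449 = N59636 := rfl
theorem L786241 : sm ga N59636 = N58845 := ded_11_1 (flp_c L779146) (flp_a L774587) L786239
theorem L786243 : sm gf N59636 = N58842 := ded_29_2 (flp_c L779114) (flp_f L774591) L786239
theorem L786245 : sm gj N59636 = N58453 := ded_31_2 (flp_c L774642) (flp_j L774593) L786239
theorem L786247 : sm gh N59636 = N59377 := ded_32_2 (flp_c L783700) (flp_h L774597) L786239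
theorem L786249 : sm gi N59636 = N58833 := ded_33_2 (flp_c L779031) (flp_i L774595) L786239
theorem L786251 : sm gd N59636 = N58451 := ded_27_2 (flp_c L774614) (flp_d L763127) (flp_c L763102) L774585 L786239
theorem L786253 : sm ge N58449 = N59637 := rfl
theorem L786255 : sm ga N59637 = N58846 := ded_13_1 (flp_e L779154) (flp_a L774587) L786253
theorem L786257 : sm gb N59637 = N58866 := ded_21_1 (flp_e L779361) (flp_b L774589) L786253
theorem L786259 : sm gj N59637 = N58454 := ded_42_2 (flp_e L774654) (flp_j L774593) L786253
theorem L786261 : sm gh N59637 = N59378 := ded_43_2 (flp_e L783706) (flp_h L774597) L786253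
theorem L786263 : sm gi N59637 = N58834 := ded_44_2 (flp_e L779041) (flp_i L774595) L786253
theorem L786265 : sm gd N59637 = N58450 := ded_34_1 (flp_e L774599) (flp_d L763112) (flp_e L763104) L774585 L786253
theorem L786267 : sm gf N59637 = N59386 := ded_40_2 (flp_e L783756) L772135 (flp_e L767734) (flp_f L774591) L786253
theorem L786269 : sm gb N58451 = N59638 := rfl
theorem L786271 : sm ge N59638 = N59286 := ded_21_2 (flp_b L783117) (flp_e L774618) L786269
theorem L786273 : sm gf N59638 = N59352 := ded_22_2 (flp_b L783549) (flp_f L774620) L786269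
theorem L786275 : sm gj N59638 = N58457 := ded_24_2 (flp_b L774702) (flp_j L774622) L786269
theorem L786277 : sm gh N59638 = N59354 := ded_25_2 (flp_b L783561) (flp_h L774624) L786269
theorem L786279 : sm gc N59638 = N58469 := ded_19_2 (flp_b L774864) (flp_c L763384) (flp_b L763131) L774614 L786269
theorem L786281 : sm gc N58452 = N59639 := rfl
theorem L786283 : sm ga N59639 = N58848 := ded_11_1 (flp_c L779170) (flp_a L774628) L786281
theorem L786285 : sm gf N59639 = N58821 := ded_29_2 (flp_c L778888) (flp_f L774632) L786281
theorem L786287 : sm gg N59639 = N58810 := ded_30_2 (flp_c L778769) (flp_g L774634) L786281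
theorem L786289 : sm gj N59639 = N59377 := ded_31_2 (flp_c L783700) (flp_j L774636) L786281
theorem L786291 : sm gh N59639 = N58453 := ded_32_2 (flp_c L774642) (flp_h L774640) L786281
theorem L786293 : sm gi N59639 = N59369 := ded_33_2 (flp_c L783643) (flp_i L774638) L786281
theorem L786295 : sm gd N59639 = N58822 := ded_27_2 (flp_c L778904) (flp_d L767528) (flp_c L763147) L774626 L786281
theorem L786297 : sm ge N58452 = N59640 := rfl
theorem L786299 : sm ga N59640 = N58849 := ded_13_1 (flp_e L779180) (flp_a L774628) L786297
theorem L786301 : sm gb N59640 = N58860 := ded_21_1 (flp_e L779294) (flp_b L774630) L786297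
theorem L786303 : sm gg N59640 = N58811 := ded_41_2 (flp_e L778777) (flp_g L774634) L786297
theorem L786305 : sm gj N59640 = N59378 := ded_42_2 (flp_e L783706) (flp_j L774636) L786297
theorem L786307 : sm gh N59640 = N58454 := ded_43_2 (flp_e L774654) (flp_h L774640) L786297
theorem L786309 : sm gi N59640 = N59370 := ded_44_2 (flp_e L783649) (flp_i L774638) L786297
theorem L786311 : sm gd N59640 = N59640 := ded_34_1 (flp_e L786297) (flp_d L774626) L763149 L774626 L786297
theorem L786312 : sm gf N59640 = N59397 := ded_40_2 (flp_e L783837) L772203 (flp_e L767524) (flp_f L774632) L786297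
theorem L786314 : sm gb N58453 = N59641 := rfl
theorem L786316 : sm gd N59641 = N58457 := ded_20_2 (flp_b L774702) (flp_d L774652) L786314
theorem L786318 : sm gf N59641 = N58843 := ded_22_2 (flp_b L779128) (flp_f L774646) L786314
theorem L786320 : sm gg N59641 = N58818 := ded_23_2 (flp_b L778856) (flp_g L774648) L786314
theorem L786322 : sm gi N59641 = N58835 := ded_26_2 (flp_b L779053) (flp_i L774650) L786314
theorem L786324 : sm gc N59641 = N58868 := ded_19_2 (flp_b L779383) (flp_c L767954) (flp_b L763162) L774642 L786314
theorem L786326 : sm ge N58453 = N59642 := rfl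
theorem L786328 : sm ga N59642 = N58851 := ded_13_1 (flp_e L779197) (flp_a L774644) L786326
theorem L786330 : sm gc N59642 = N58454 := ded_28_1 (flp_e L774654) L774642 L786326
theorem L786332 : sm gg N59642 = N58819 := ded_41_2 (flp_e L778864) (flp_g L774648) L786326
theorem L786334 : sm gi N59642 = N58836 := ded_44_2 (flp_e L779061) (flp_i L774650) L786326
theorem L786336 : sm gd N59642 = N59281 := ded_34_1 (flp_e L783093) L771423 (flp_e L763205) (flp_d L774652) L786326
theorem L786338 : sm gf N59642 = N59400 := ded_40_2 (flp_e L783866) L772221 (flp_e L767740) (flp_f L774646) L786326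
theorem L786340 : sm gb N58455 = N59643 := rfl
theorem L786342 : sm gd N59643 = N58843 := ded_20_2 (flp_b L779128) (flp_d L774682) L786340
theorem L786344 : sm gf N59643 = N58457 := ded_22_2 (flp_b L774702) (flp_f L774672) L786340
theorem L786346 : sm gg N59643 = N58802 := ded_23_2 (flp_b L778688) (flp_g L774674) L786340
theorem L786348 : sm gj N59643 = N59352 := ded_24_2 (flp_b L783549) (flp_j L774676) L786340
theorem L786350 : sm gh N59643 = N59346 := ded_25_2 (flp_b L783517) (flp_h L774678) L786340
theorem L786352 : sm gi N59643 = N58850 := ded_26_2 (flp_b L779191) (flp_i L774680) L786340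
theorem L786354 : sm gc N59643 = N58475 := ded_19_2 (flp_b L774952) (flp_c L763460) (flp_b L763189) L774668 L786340
theorem L786356 : sm ge N58455 = N59644 := rfl
theorem L786358 : sm ga N59644 = N58836 := ded_13_1 (flp_e L779061) (flp_a L774670) L786356
theorem L786360 : sm gc N59644 = N58456 := ded_28_1 (flp_e L774684) L774668 L786356
theorem L786362 : sm gg N59644 = N58803 := ded_41_2 (flp_e L778696) (flp_g L774674) L786356
theorem L786364 : sm gj N59644 = N59353 := ded_42_2 (flp_e L783555) (flp_j L774676) L786356
theorem L786366 : sm gh N59644 = N59347 := ded_43_2 (flp_e L783523) (flp_h L774678) L786356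
theorem L786368 : sm gi N59644 = N58851 := ded_44_2 (flp_e L779197) (flp_i L774680) L786356
theorem L786370 : sm gd N59644 = N59136 := ded_34_1 (flp_e L781919) L770351 (flp_e L767740) (flp_d L774682) L786356
theorem L786372 : sm gf N59644 = N58580 := ded_40_2 (flp_e L776231) L764657 (flp_e L763205) (flp_f L774672) L786356
theorem L786374 : sm ga N58457 = N59645 := rfl
theorem L786376 : sm gc N59645 = N58477 := ded_11_2 (flp_a L774976) (flp_c L774708) L786374
theorem L786378 : sm ge N59645 = N59287 := ded_13_2 (flp_a L783123) (flp_e L774704) L786374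
theorem L786380 : sm gg N59645 = N59140 := ded_15_2 (flp_a L781951) (flp_g L774706) L786374
theorem L786382 : sm gb N59645 = N58852 := ded_10_2 (flp_a L779203) (flp_b L767799) (flp_a L763203) L774702 L786374
theorem L786384 : sm gc N58458 = N59646 := rfl
theorem L786386 : sm ga N59646 = N58498 := ded_11_1 (flp_c L775239) (flp_a L774712) L786384
theorem L786388 : sm gf N59646 = N58459 := ded_29_2 (flp_c L774726) (flp_f L774716) L786384
theorem L786390 : sm gg N59646 = N59396 := ded_30_2 (flp_c L783827) (flp_g L774718) L786384
theorem L786392 : sm gj N59646 = N59334 := ded_31_2 (flp_c L783444) (flp_j L774720) L786384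
theorem L786394 : sm gh N59646 = N58464 := ded_32_2 (flp_c L774800) (flp_h L774724) L786384
theorem L786396 : sm gi N59646 = N59118 := ded_33_2 (flp_c L781714) (flp_i L774722) L786384
theorem L786398 : sm gd N59646 = N59268 := ded_27_2 (flp_c L783020) (flp_d L771372) (flp_c L763233) L774710 L786384
theorem L786400 : sm ge N58458 = N59647 := rfl
theorem L786402 : sm ga N59647 = N58499 := ded_13_1 (flp_e L775249) (flp_a L774712) L786400
theorem L786404 : sm gb N59647 = N58849 := ded_21_1 (flp_e L779180) (flp_b L774714) L786400
theorem L786406 : sm gg N59647 = N59397 := ded_41_2 (flp_e L783837) (flp_g L774718) L786400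
theorem L786408 : sm gj N59647 = N59335 := ded_42_2 (flp_e L783450) (flp_j L774720) L786400
theorem L786410 : sm gh N59647 = N58465 := ded_43_2 (flp_e L774814) (flp_h L774724) L786400
theorem L786412 : sm gi N59647 = N59119 := ded_44_2 (flp_e L781728) (flp_i L774722) L786400
theorem L786414 : sm gd N59647 = N59647 := ded_34_1 (flp_e L786400) (flp_d L774710) L763235 L774710 L786400
theorem L786415 : sm gf N59647 = N58943 := ded_40_2 (flp_e L780113) L768645 (flp_e L763254) (flp_f L774716) L786400
theorem L786417 : sm gb N58459 = N59648 := rfl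
theorem L786419 : sm gd N59648 = N59272 := ded_20_2 (flp_b L783043) (flp_d L774738) L786417
theorem L786421 : sm ge N59648 = N59200 := ded_21_2 (flp_b L782491) (flp_e L774730) L786417
theorem L786423 : sm gg N59648 = N59131 := ded_23_2 (flp_b L781861) (flp_g L774732) L786417
theorem L786425 : sm gh N59648 = N58466 := ded_25_2 (flp_b L774830) (flp_h L774734) L786417
theorem L786427 : sm gi N59648 = N59120 := ded_26_2 (flp_b L781743) (flp_i L774736) L786417
theorem L786429 : sm gc N59648 = N59374 := ded_19_2 (flp_b L783676) (flp_c L772066) (flp_b L763248) L774726 L786417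
theorem L786431 : sm gb N58460 = N59649 := rfl
theorem L786433 : sm gd N59649 = N59504 := ded_20_2 (flp_b L784511) (flp_d L774752) L786431
theorem L786435 : sm ge N59649 = N59469 := ded_21_2 (flp_b L784278) (flp_e L774744) L786431
theorem L786437 : sm gf N59649 = N59358 := ded_22_2 (flp_b L783581) (flp_f L774746) L786431
theorem L786439 : sm gj N59649 = N58466 := ded_24_2 (flp_b L774830) (flp_j L774748) L786431
theorem L786441 : sm gi N59649 = N58469 := ded_26_2 (flp_b L774864) (flp_i L774750) L786431
theorem L786443 : sm gc N58461 = N59650 := rfl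
theorem L786445 : sm ga N59650 = N58519 := ded_11_1 (flp_c L775507) (flp_a L774756) L786443
theorem L786447 : sm gf N59650 = N58892 := ded_29_2 (flp_c L779628) (flp_f L774760) L786443
theorem L786449 : sm gg N59650 = N59141 := ded_30_2 (flp_c L781961) (flp_g L774762) L786443
theorem L786451 : sm gj N59650 = N59456 := ded_31_2 (flp_c L784189) (flp_j L774764) L786443
theorem L786453 : sm gh N59650 = N58462 := ded_32_2 (flp_c L774770) (flp_h L774768) L786443
theorem L786455 : sm gi N59650 = N59191 := ded_33_2 (flp_c L782414) (flp_i L774766) L786443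
theorem L786457 : sm gd N59650 = N59216 := ded_27_2 (flp_c L782637) (flp_d L771058) (flp_c L763276) L774754 L786443
theorem L786459 : sm ge N58461 = N59651 := rfl
theorem L786461 : sm ga N59651 = N58520 := ded_13_1 (flp_e L775513) (flp_a L774756) L786459
theorem L786463 : sm gb N59651 = N58896 := ded_21_1 (flp_e L779674) (flp_b L774758) L786459
theorem L786465 : sm gg N59651 = N59142 := ded_41_2 (flp_e L781967) (flp_g L774762) L786459
theorem L786467 : sm gj N59651 = N59457 := ded_42_2 (flp_e L784197) (flp_j L774764) L786459
theorem L786469 : sm gh N59651 = N58463 := ded_43_2 (flp_e L774784) (flp_h L774768) L786459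
theorem L786471 : sm gi N59651 = N59192 := ded_44_2 (flp_e L782424) (flp_i L774766) L786459
theorem L786473 : sm gd N59651 = N59651 := ded_34_1 (flp_e L786459) (flp_d L774754) L763278 L774754 L786459
theorem L786474 : sm gf N59651 = N59448 := ded_40_2 (flp_e L784135) L772509 (flp_e L768191) (flp_f L774760) L786459
theorem L786476 : sm gb N58462 = N59652 := rfl
theorem L786478 : sm gd N59652 = N58466 := ded_20_2 (flp_b L774830) (flp_d L774782) L786476
theorem L786480 : sm gf N59652 = N58893 := ded_22_2 (flp_b L779640) (flp_f L774774) L786476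
theorem L786482 : sm gg N59652 = N59143 := ded_23_2 (flp_b L781974) (flp_g L774776) L786476
theorem L786484 : sm gj N59652 = N59504 := ded_24_2 (flp_b L784511) (flp_j L774778) L786476
theorem L786486 : sm gi N59652 = N58470 := ded_26_2 (flp_b L774876) (flp_i L774780) L786476
theorem L786488 : sm gc N59652 = N58899 := ded_19_2 (flp_b L779705) (flp_c L768252) (flp_b L763291) L774770 L786476
theorem L786490 : sm ge N58462 = N59653 := rfl
theorem L786492 : sm ga N59653 = N58523 := ded_13_1 (flp_e L775544) (flp_a L774772) L786490
theorem L786494 : sm gc N59653 = N58463 := ded_28_1 (flp_e L774784) L774770 L786490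
theorem L786496 : sm gg N59653 = N59144 := ded_41_2 (flp_e L781980) (flp_g L774776) L786490
theorem L786498 : sm gj N59653 = N59505 := ded_42_2 (flp_e L784517) (flp_j L774778) L786490
theorem L786500 : sm gi N59653 = N58471 := ded_44_2 (flp_e L774890) (flp_i L774780) L786490
theorem L786502 : sm gd N59653 = N59465 := ded_34_1 (flp_e L784250) L772591 (flp_e L763336) (flp_d L774782) L786490
theorem L786504 : sm gf N59653 = N59451 := ded_40_2 (flp_e L784156) L772519 (flp_e L768197) (flp_f L774774) L786490
theorem L786506 : sm gb N58464 = N59654 := rfl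
theorem L786508 : sm gd N59654 = N58893 := ded_20_2 (flp_b L779640) (flp_d L774812) L786506
theorem L786510 : sm gf N59654 = N58466 := ded_22_2 (flp_b L774830) (flp_f L774804) L786506
theorem L786512 : sm gg N59654 = N59399 := ded_23_2 (flp_b L783858) (flp_g L774806) L786506
theorem L786514 : sm gj N59654 = N59358 := ded_24_2 (flp_b L783581) (flp_j L774808) L786506
theorem L786516 : sm gi N59654 = N58475 := ded_26_2 (flp_b L774952) (flp_i L774810) L786506
theorem L786518 : sm gc N59654 = N58850 := ded_19_2 (flp_b L779191) (flp_c L767787) (flp_b L763322) L774800 L786506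
theorem L786520 : sm ge N58464 = N59655 := rfl
theorem L786522 : sm ga N59655 = N58529 := ded_13_1 (flp_e L775620) (flp_a L774802) L786520
theorem L786524 : sm gc N59655 = N58465 := ded_28_1 (flp_e L774814) L774800 L786520
theorem L786526 : sm gg N59655 = N59400 := ded_41_2 (flp_e L783866) (flp_g L774806) L786520
theorem L786528 : sm gj N59655 = N59359 := ded_42_2 (flp_e L783587) (flp_j L774808) L786520
theorem L786530 : sm gi N59655 = N58476 := ded_44_2 (flp_e L774962) (flp_i L774810) L786520
theorem L786532 : sm gd N59655 = N59214 := ded_34_1 (flp_e L782621) L771040 (flp_e L768197) (flp_d L774812) L786520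
theorem L786534 : sm gf N59655 = N58975 := ded_40_2 (flp_e L780431) L768937 (flp_e L763336) (flp_f L774804) L786520
theorem L786536 : sm ga N58466 = N59656 := rfl
theorem L786538 : sm ge N59656 = N59470 := ded_13_2 (flp_a L784284) (flp_e L774832) L786536
theorem L786540 : sm gg N59656 = N59145 := ded_15_2 (flp_a L781990) (flp_g L774834) L786536
theorem L786542 : sm gi N59656 = N58477 := ded_18_2 (flp_a L774976) (flp_i L774836) L786536
theorem L786544 : sm gb N59656 = N58530 := ded_10_2 (flp_a L775626) (flp_b L764105) (flp_a L763334) L774830 L786536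
theorem L786546 : sm gc N58467 = N59657 := rfl
theorem L786548 : sm ga N59657 = N58537 := ded_11_1 (flp_c L775722) (flp_a L774840) L786546
theorem L786550 : sm gf N59657 = N58468 := ded_29_2 (flp_c L774850) (flp_f L774842) L786546
theorem L786552 : sm gg N59657 = N58761 := ded_30_2 (flp_c L778314) (flp_g L774844) L786546
theorem L786554 : sm gj N59657 = N59151 := ded_31_2 (flp_c L782057) (flp_j L774846) L786546
theorem L786556 : sm gh N59657 = N58768 := ded_32_2 (flp_c L778365) (flp_h L774848) L786546
theorem L786558 : sm gd N59657 = N59040 := ded_27_2 (flp_c L780996) (flp_d L769459) (flp_c L763363) L774838 L786546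
theorem L786560 : sm ge N58467 = N59658 := rfl
theorem L786562 : sm ga N59658 = N58538 := ded_13_1 (flp_e L775728) (flp_a L774840) L786560
theorem L786564 : sm gg N59658 = N58762 := ded_41_2 (flp_e L778322) (flp_g L774844) L786560
theorem L786566 : sm gj N59658 = N59152 := ded_42_2 (flp_e L782063) (flp_j L774846) L786560
theorem L786568 : sm gh N59658 = N58769 := ded_43_2 (flp_e L778373) (flp_h L774848) L786560
theorem L786570 : sm gd N59658 = N59658 := ded_34_1 (flp_e L786560) (flp_d L774838) L763365 L774838 L786560
theorem L786571 : sm gf N59658 = N59323 := ded_40_2 (flp_e L783373) L771744 (flp_e L763380) (flp_f L774842) L786560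
theorem L786573 : sm gb N58468 = N59659 := rfl
theorem L786575 : sm gd N59659 = N59501 := ded_20_2 (flp_b L784491) (flp_d L774862) L786573
theorem L786577 : sm ge N59659 = N59490 := ded_21_2 (flp_b L784429) (flp_e L774854) L786573
theorem L786579 : sm gg N59659 = N58469 := ded_23_2 (flp_b L774864) (flp_g L774856) L786573
theorem L786581 : sm gj N59659 = N59153 := ded_24_2 (flp_b L782070) (flp_j L774858) L786573
theorem L786583 : sm gh N59659 = N59362 := ded_25_2 (flp_b L783605) (flp_h L774860) L786573
theorem L786585 : sm ga N58469 = N59660 := rfl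
theorem L786587 : sm gd N59660 = N59506 := ded_12_2 (flp_a L784523) (flp_d L774866) L786585
theorem L786589 : sm ge N59660 = N59517 := ded_13_2 (flp_a L784585) (flp_e L774868) L786585
theorem L786591 : sm gf N59660 = N59360 := ded_14_2 (flp_a L783593) (flp_f L774870) L786585
theorem L786593 : sm gj N59660 = N58477 := ded_16_2 (flp_a L774976) (flp_j L774872) L786585
theorem L786595 : sm gh N59660 = N59363 := ded_17_2 (flp_a L783611) (flp_h L774874) L786585
theorem L786597 : sm gb N59660 = N58554 := ded_10_2 (flp_a L775921) (flp_b L764395) (flp_a L763386) L774864 L786585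
theorem L786599 : sm ga N58470 = N59661 := rfl
theorem L786601 : sm gc N59661 = N59516 := ded_11_2 L784583 (flp_c L774888) L786599
theorem L786603 : sm gd N59661 = N58477 := ded_12_2 (flp_a L774976) (flp_d L774878) L786599
theorem L786605 : sm gf N59661 = N59482 := ded_14_2 (flp_a L784359) (flp_f L774880) L786599
theorem L786607 : sm gg N59661 = N59180 := ded_15_2 (flp_a L782311) (flp_g L774882) L786599
theorem L786609 : sm gj N59661 = N59506 := ded_16_2 (flp_a L784523) (flp_j L774884) L786599
theorem L786611 : sm gh N59661 = N59483 := ded_17_2 (flp_a L784369) (flp_h L774886) L786599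
theorem L786613 : sm gb N59661 = N58573 := ded_10_2 (flp_a L776169) (flp_b L764611) (flp_a L763400) L774876 L786599
theorem L786615 : sm ge N58470 = N59662 := rfl
theorem L786617 : sm gb N59662 = N58471 := ded_21_1 (flp_e L774890) L774876 L786615
theorem L786619 : sm gc N59662 = N59515 := ded_28_1 L784579 (flp_c L774888) L786615
theorem L786621 : sm gg N59662 = N59181 := ded_41_2 (flp_e L782317) (flp_g L774882) L786615
theorem L786623 : sm gj N59662 = N59507 := ded_42_2 (flp_e L784529) (flp_j L774884) L786615
theorem L786625 : sm gh N59662 = N59484 := ded_43_2 (flp_e L784377) (flp_h L774886) L786615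
theorem L786627 : sm gd N59662 = N59513 := ded_34_1 (flp_e L784565) L772909 (flp_e L763486) (flp_d L774878) L786615
theorem L786629 : sm gf N59662 = N59497 := ded_40_2 (flp_e L784465) L772831 (flp_e L772727) (flp_f L774880) L786615
theorem L786631 : sm gc N58472 = N59663 := rfl
theorem L786633 : sm ga N59663 = N58577 := ded_11_1 (flp_c L776205) (flp_a L774908) L786631
theorem L786635 : sm gf N59663 = N58796 := ded_29_2 (flp_c L778614) (flp_f L774912) L786631
theorem L786637 : sm gg N59663 = N58740 := ded_30_2 (flp_c L778110) (flp_g L774914) L786631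
theorem L786639 : sm gj N59663 = N58473 := ded_31_2 (flp_c L774922) (flp_j L774916) L786631
theorem L786641 : sm gh N59663 = N58629 := ded_32_2 (flp_c L776879) (flp_h L774920) L786631
theorem L786643 : sm gi N59663 = N59385 := ded_33_2 (flp_c L783748) (flp_i L774918) L786631
theorem L786645 : sm gd N59663 = N58991 := ded_27_2 (flp_c L780594) (flp_d L769109) (flp_c L763434) L774906 L786631
theorem L786647 : sm ge N58472 = N59664 := rfl
theorem L786649 : sm ga N59664 = N58578 := ded_13_1 (flp_e L776211) (flp_a L774908) L786647
theorem L786651 : sm gb N59664 = N58632 := ded_21_1 (flp_e L776917) (flp_b L774910) L786647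
theorem L786653 : sm gg N59664 = N58741 := ded_41_2 (flp_e L778118) (flp_g L774914) L786647
theorem L786655 : sm gj N59664 = N58474 := ded_42_2 (flp_e L774936) (flp_j L774916) L786647
theorem L786657 : sm gh N59664 = N58630 := ded_43_2 (flp_e L776887) (flp_h L774920) L786647
theorem L786659 : sm gi N59664 = N59386 := ded_44_2 (flp_e L783756) (flp_i L774918) L786647
theorem L786661 : sm gd N59664 = N58478 := ded_34_1 (flp_e L774984) (flp_d L763490) (flp_e L763436) L774906 L786647
theorem L786663 : sm gf N59664 = N58834 := ded_40_2 (flp_e L779041) L767648 (flp_e L767268) (flp_f L774912) L786647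
theorem L786665 : sm gb N58473 = N59665 := rfl
theorem L786667 : sm gd N59665 = N59037 := ded_20_2 L780968 (flp_d L774934) L786665
theorem L786669 : sm gf N59665 = N58799 := ded_22_2 (flp_b L778654) (flp_f L774926) L786665
theorem L786671 : sm gg N59665 = N58475 := ded_23_2 (flp_b L774952) (flp_g L774928) L786665
theorem L786673 : sm gh N59665 = N59341 := ded_25_2 (flp_b L783485) (flp_h L774930) L786665
theorem L786675 : sm gi N59665 = N59399 := ded_26_2 (flp_b L783858) (flp_i L774932) L786665
theorem L786677 : sm gc N59665 = N58802 := ded_19_2 (flp_b L778688) (flp_c L767333) (flp_b L763450) L774922 L786665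
theorem L786679 : sm ge N58473 = N59666 := rfl
theorem L786681 : sm ga N59666 = N58580 := ded_13_1 (flp_e L776231) (flp_a L774924) L786679
theorem L786683 : sm gc N59666 = N58474 := ded_28_1 (flp_e L774936) L774922 L786679
theorem L786685 : sm gg N59666 = N58476 := ded_41_2 (flp_e L774962) (flp_g L774928) L786679
theorem L786687 : sm gh N59666 = N59342 := ded_43_2 (flp_e L783491) (flp_h L774930) L786679
theorem L786689 : sm gi N59666 = N59400 := ded_44_2 (flp_e L783866) (flp_i L774932) L786679
theorem L786691 : sm gd N59666 = N58563 := ded_34_1 (flp_e L776035) L764499 L769429 (flp_d L774934) L786679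
theorem L786693 : sm gf N59666 = N58836 := ded_40_2 (flp_e L779061) L767656 (flp_e L767303) (flp_f L774926) L786679
theorem L786695 : sm ga N58475 = N59667 := rfl
theorem L786697 : sm gd N59667 = N59482 := ded_12_2 (flp_a L784359) (flp_d L774954) L786695
theorem L786699 : sm gf N59667 = N58477 := ded_14_2 (flp_a L774976) (flp_f L774956) L786695
theorem L786701 : sm gj N59667 = N59360 := ded_16_2 (flp_a L783593) (flp_j L774958) L786695
theorem L786703 : sm gh N59667 = N59348 := ded_17_2 (flp_a L783529) (flp_h L774960) L786695
theorem L786705 : sm gb N59667 = N58581 := ded_10_2 (flp_a L776237) (flp_b L764669) (flp_a L763462) L774952 L786695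
theorem L786707 : sm ge N58475 = N59668 := rfl
theorem L786709 : sm gb N59668 = N58476 := ded_21_1 (flp_e L774962) L774952 L786707
theorem L786711 : sm gj N59668 = N59361 := ded_42_2 (flp_e L783599) (flp_j L774958) L786707
theorem L786713 : sm gh N59668 = N59349 := ded_43_2 (flp_e L783535) (flp_h L774960) L786707
theorem L786715 : sm gd N59668 = N59265 := ded_34_1 (flp_e L782993) L771354 (flp_e L772727) (flp_d L774954) L786707
theorem L786717 : sm gf N59668 = N59067 := ded_40_2 (flp_e L781205) L769614 (flp_e L763486) (flp_f L774956) L786707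
theorem L786719 : sm gd N58479 = N59669 := rfl
theorem L786721 : sm ga N59669 = N58696 := ded_12_1 (flp_d L777675) (flp_a L775004) L786719
theorem L786723 : sm gb N59669 = N58483 := ded_20_1 (flp_d L775068) (flp_b L775006) L786719
theorem L786725 : sm gf N59669 = N59196 := ded_35_2 (flp_d L782461) (flp_f L775012) L786719
theorem L786727 : sm gg N59669 = N58932 := ded_36_2 (flp_d L780021) (flp_g L775014) L786719
theorem L786729 : sm gj N59669 = N58490 := ded_37_2 (flp_d L775164) (flp_j L775016) L786719
theorem L786731 : sm gi N59669 = N58923 := ded_39_2 (flp_d L779931) (flp_i L775018) L786719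
theorem L786733 : sm gh N59669 = N58935 := ded_38_2 (flp_d L780061) (flp_h L768609) (flp_d L763549) L775002 L786719
theorem L786735 : sm ge N58480 = N59670 := rfl
theorem L786737 : sm ga N59670 = N58698 := ded_13_1 (flp_e L777693) (flp_a L775022) L786735
theorem L786739 : sm gb N59670 = N58484 := ded_21_1 (flp_e L775078) (flp_b L775024) L786735
theorem L786741 : sm gg N59670 = N59288 := ded_41_2 (flp_e L783129) (flp_g L775027) L786735
theorem L786743 : sm gj N59670 = N58492 := ded_42_2 (flp_e L775182) (flp_j L775029) L786735
theorem L786745 : sm gh N59670 = N59670 := ded_43_2 (flp_e L786735) L775033 L786735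
theorem L786746 : sm gi N59670 = N58925 := ded_44_2 (flp_e L779956) (flp_i L775031) L786735
theorem L786748 : sm gd N58481 = N59671 := rfl
theorem L786750 : sm ga N59671 = N59204 := ded_12_1 (flp_d L782531) (flp_a L775036) L786748
theorem L786752 : sm gb N59671 = N58935 := ded_20_1 (flp_d L780061) (flp_b L775038) L786748
theorem L786754 : sm gf N59671 = N59102 := ded_35_2 (flp_d L781521) (flp_f L775043) L786748
theorem L786756 : sm gg N59671 = N58927 := ded_36_2 (flp_d L779984) (flp_g L775045) L786748
theorem L786758 : sm gj N59671 = N58493 := ded_37_2 (flp_d L775191) (flp_j L775047) L786748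
theorem L786760 : sm gi N59671 = N59103 := ded_39_2 L781537 (flp_i L775049) L786748
theorem L786762 : sm gh N59671 = N58483 := ded_38_2 (flp_d L775068) (flp_h L763608) (flp_d L763582) L775034 L786748
theorem L786764 : sm gd N58482 = N59672 := rfl
theorem L786766 : sm ga N59672 = N59237 := ded_12_1 (flp_d L782783) (flp_a L775053) L786764
theorem L786768 : sm gb N59672 = N59196 := ded_20_1 (flp_d L782461) (flp_b L775055) L786764
theorem L786770 : sm gf N59672 = N58483 := ded_35_2 (flp_d L775068) (flp_f L775060) L786764
theorem L786772 : sm gg N59672 = N59201 := ded_36_2 (flp_d L782501) (flp_g L775062) L786764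
theorem L786774 : sm gj N59672 = N58494 := ded_37_2 (flp_d L775201) (flp_j L775064) L786764
theorem L786776 : sm gi N59672 = N59157 := ded_39_2 (flp_d L782102) (flp_i L775066) L786764
theorem L786778 : sm gh N59672 = N59102 := ded_38_2 (flp_d L781521) L769970 (flp_d L763599) L775051 L786764
theorem L786780 : sm gc N58483 = N59673 := rfl
theorem L786782 : sm ga N59673 = N59240 := ded_11_1 (flp_c L782810) (flp_a L775070) L786780
theorem L786784 : sm gg N59673 = N59462 := ded_30_2 (flp_c L784226) (flp_g L775072) L786780
theorem L786786 : sm gj N59673 = N58495 := ded_31_2 (flp_c L775211) (flp_j L775074) L786780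
theorem L786788 : sm gi N59673 = N59158 := ded_33_2 (flp_c L782112) (flp_i L775076) L786780
theorem L786790 : sm gd N59673 = N58487 := ded_27_2 (flp_c L775122) (flp_d L763666) (flp_c L763612) L775068 L786780
theorem L786792 : sm ge N58483 = N59674 := rfl
theorem L786794 : sm ga N59674 = N59241 := ded_13_1 (flp_e L782816) (flp_a L775070) L786792
theorem L786796 : sm gg N59674 = N59463 := ded_41_2 (flp_e L784234) (flp_g L775072) L786792
theorem L786798 : sm gj N59674 = N58496 := ded_42_2 (flp_e L775221) (flp_j L775074) L786792
theorem L786800 : sm gi N59674 = N59159 := ded_44_2 (flp_e L782124) (flp_i L775076) L786792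
theorem L786802 : sm gd N59674 = N58484 := ded_34_1 (flp_e L775078) (flp_d L763622) (flp_e L763614) L775068 L786792
theorem L786804 : sm gf N58484 = N59675 := rfl
theorem L786806 : sm ga N59675 = N59289 := ded_14_1 (flp_f L783140) (flp_a L775080) L786804
theorem L786808 : sm gc N59675 = N59518 := ded_29_1 (flp_f L784589) (flp_c L775082) L786804
theorem L786810 : sm gj N59675 = N58497 := ded_46_2 (flp_f L775231) (flp_j L775086) L786804
theorem L786812 : sm gh N59675 = N59675 := ded_47_2 (flp_f L786804) L775088 L786804
theorem L786813 : sm gi N59675 = N59184 := ded_48_2 (flp_f L782341) (flp_i L775089) L786804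
theorem L786815 : sm ge N59675 = N59675 := ded_40_1 (flp_f L786804) (flp_e L775078) L763626 L775078 L786804
theorem L786816 : sm gd N58485 = N59676 := rfl
theorem L786818 : sm ga N59676 = N58720 := ded_12_1 (flp_d L777930) (flp_a L775093) L786816
theorem L786820 : sm gb N59676 = N58919 := ded_20_1 (flp_d L779902) (flp_b L775095) L786816
theorem L786822 : sm gf N59676 = N58956 := ded_35_2 (flp_d L780245) (flp_f L775100) L786816
theorem L786824 : sm gg N59676 = N58486 := ded_36_2 (flp_d L775108) (flp_g L775102) L786816
theorem L786826 : sm gj N59676 = N58948 := ded_37_2 (flp_d L780158) (flp_j L775104) L786816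
theorem L786828 : sm gi N59676 = N58661 := ded_39_2 (flp_d L777280) (flp_i L775106) L786816
theorem L786830 : sm gh N59676 = N58510 := ded_38_2 (flp_d L775387) (flp_h L763897) (flp_d L763644) L775091 L786816
theorem L786832 : sm gc N58486 = N59677 := rfl
theorem L786834 : sm ga N59677 = N59334 := ded_11_1 (flp_c L783444) (flp_a L775110) L786832
theorem L786836 : sm gf N59677 = N58487 := ded_29_2 (flp_c L775122) (flp_f L775114) L786832
theorem L786838 : sm gj N59677 = N58498 := ded_31_2 (flp_c L775239) (flp_j L775116) L786832
theorem L786840 : sm gh N59677 = N58511 := ded_32_2 (flp_c L775399) (flp_h L775120) L786832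
theorem L786842 : sm gi N59677 = N59322 := ded_33_2 (flp_c L783363) (flp_i L775118) L786832
theorem L786844 : sm ge N58486 = N59678 := rfl
theorem L786846 : sm ga N59678 = N59335 := ded_13_1 (flp_e L783450) (flp_a L775110) L786844
theorem L786848 : sm gb N59678 = N58921 := ded_21_1 (flp_e L779918) (flp_b L775112) L786844
theorem L786850 : sm gj N59678 = N58499 := ded_42_2 (flp_e L775249) (flp_j L775116) L786844
theorem L786852 : sm gh N59678 = N58512 := ded_43_2 (flp_e L775411) (flp_h L775120) L786844
theorem L786854 : sm gi N59678 = N59323 := ded_44_2 (flp_e L783373) (flp_i L775118) L786844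
theorem L786856 : sm gd N59678 = N59678 := ded_34_1 (flp_e L786844) (flp_d L775108) L763659 L775108 L786844
theorem L786857 : sm gb N58487 = N59679 := rfl
theorem L786859 : sm gg N59679 = N59469 := ded_23_2 (flp_b L784278) (flp_g L775124) L786857
theorem L786861 : sm gj N59679 = N58500 := ded_24_2 (flp_b L775260) (flp_j L775126) L786857
theorem L786863 : sm gh N59679 = N58513 := ded_25_2 (flp_b L775423) (flp_h L775128) L786857
theorem L786865 : sm gi N59679 = N59490 := ded_26_2 (flp_b L784429) (flp_i L775130) L786857
theorem L786867 : sm gc N59679 = N58922 := ded_19_2 (flp_b L779925) (flp_c L768486) (flp_b L763668) L775122 L786857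
theorem L786869 : sm gd N58488 = N59680 := rfl
theorem L786871 : sm ga N59680 = N58490 := ded_12_1 (flp_d L775164) (flp_a L775134) L786869
theorem L786873 : sm gb N59680 = N58693 := ded_20_1 (flp_d L777643) (flp_b L775136) L786869
theorem L786875 : sm gf N59680 = N59453 := ded_35_2 (flp_d L784168) (flp_f L775142) L786869
theorem L786877 : sm gg N59680 = N58964 := ded_36_2 (flp_d L780313) (flp_g L775144) L786869
theorem L786879 : sm gj N59680 = N58696 := ded_37_2 (flp_d L777675) (flp_j L775146) L786869
theorem L786881 : sm gi N59680 = N58916 := ded_39_2 (flp_d L779864) (flp_i L775148) L786869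
theorem L786883 : sm gh N59680 = N59039 := ded_38_2 (flp_d L780988) (flp_h L769450) (flp_d L763686) L775132 L786869
theorem L786885 : sm ge N58489 = N59681 := rfl
theorem L786887 : sm ga N59681 = N58492 := ded_13_1 (flp_e L775182) (flp_a L775152) L786885
theorem L786889 : sm gb N59681 = N58590 := ded_21_1 L776344 (flp_b L775154) L786885
theorem L786891 : sm gg N59681 = N58509 := ded_41_2 L775385 (flp_g L775157) L786885
theorem L786893 : sm gj N59681 = N58698 := ded_42_2 (flp_e L777693) (flp_j L775159) L786885
theorem L786895 : sm gh N59681 = N59681 := ded_43_2 (flp_e L786885) L775163 L786885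
theorem L786896 : sm gi N59681 = N58548 := ded_44_2 L775857 (flp_i L775161) L786885
theorem L786898 : sm gc N58490 = N59682 := rfl
theorem L786900 : sm gg N59682 = N59188 := ded_30_2 (flp_c L782381) (flp_g L775168) L786898
theorem L786902 : sm gi N59682 = N59168 := ded_33_2 (flp_c L782214) (flp_i L775170) L786898
theorem L786904 : sm gd N59682 = N58928 := ded_27_2 (flp_c L779994) (flp_d L768544) (flp_c L763715) L775164 L786898
theorem L786906 : sm ge N58490 = N59683 := rfl
theorem L786908 : sm gb N59683 = N58496 := ded_21_1 (flp_e L775221) (flp_b L775166) L786906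
theorem L786910 : sm gg N59683 = N59189 := ded_41_2 (flp_e L782391) (flp_g L775168) L786906
theorem L786912 : sm gi N59683 = N59169 := ded_44_2 (flp_e L782220) (flp_i L775170) L786906
theorem L786914 : sm gd N59683 = N58492 := ded_34_1 (flp_e L775182) (flp_d L763723) (flp_e L763717) L775164 L786906
theorem L786916 : sm ge N58491 = N59684 := rfl
theorem L786918 : sm gc N59684 = N58492 := ded_28_1 (flp_e L775182) L775172 L786916
theorem L786920 : sm gg N59684 = N59190 := ded_41_2 (flp_e L782403) (flp_g L775175) L786916
theorem L786922 : sm gh N59684 = N59684 := ded_43_2 (flp_e L786916) L775177 L786916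
theorem L786923 : sm gi N59684 = N59186 := ded_44_2 (flp_e L782364) (flp_i L775178) L786916
theorem L786925 : sm gf N58492 = N59685 := rfl
theorem L786927 : sm gb N59685 = N58497 := ded_22_1 (flp_f L775231) (flp_b L775184) L786925
theorem L786929 : sm gh N59685 = N59685 := ded_47_2 (flp_f L786925) L775188 L786925
theorem L786930 : sm gi N59685 = N59187 := ded_48_2 (flp_f L782372) (flp_i L775189) L786925
theorem L786932 : sm ge N59685 = N59685 := ded_40_1 (flp_f L786925) (flp_e L775182) L763727 L775182 L786925
theorem L786933 : sm gg N59685 = N59518 := ded_45_2 (flp_f L784589) L772989 (flp_f L770867) (flp_g L775186) L786925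
theorem L786935 : sm gc N58493 = N59686 := rfl
theorem L786937 : sm ga N59686 = N59216 := ded_11_1 (flp_c L782637) (flp_a L775193) L786935
theorem L786939 : sm gg N59686 = N59191 := ded_30_2 (flp_c L782414) (flp_g L775195) L786935
theorem L786941 : sm gh N59686 = N58495 := ded_32_2 (flp_c L775211) (flp_h L775199) L786935
theorem L786943 : sm gi N59686 = N59141 := ded_33_2 (flp_c L781961) (flp_i L775197) L786935
theorem L786945 : sm gd N59686 = N58519 := ded_27_2 (flp_c L775507) (flp_d L764008) (flp_c L763737) L775191 L786935
theorem L786947 : sm ge N58493 = N59687 := rfl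
theorem L786949 : sm ga N59687 = N59217 := ded_13_1 (flp_e L782643) (flp_a L775193) L786947
theorem L786951 : sm gg N59687 = N59192 := ded_41_2 (flp_e L782424) (flp_g L775195) L786947
theorem L786953 : sm gh N59687 = N58496 := ded_43_2 (flp_e L775221) (flp_h L775199) L786947
theorem L786955 : sm gi N59687 = N59142 := ded_44_2 (flp_e L781967) (flp_i L775197) L786947
theorem L786957 : sm gd N59687 = N59687 := ded_34_1 (flp_e L786947) (flp_d L775191) L763739 L775191 L786947
theorem L786958 : sm gc N58494 = N59688 := rfl
theorem L786960 : sm ga N59688 = N59268 := ded_11_1 (flp_c L783020) (flp_a L775203) L786958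
theorem L786962 : sm gf N59688 = N58495 := ded_29_2 (flp_c L775211) (flp_f L775205) L786958
theorem L786964 : sm gg N59688 = N59435 := ded_30_2 (flp_c L784054) (flp_g L775207) L786958
theorem L786966 : sm gi N59688 = N59173 := ded_33_2 (flp_c L782250) (flp_i L775209) L786958
theorem L786968 : sm gd N59688 = N58498 := ded_27_2 (flp_c L775239) (flp_d L763774) (flp_c L763748) L775201 L786958
theorem L786970 : sm ge N58494 = N59689 := rfl
theorem L786972 : sm ga N59689 = N59269 := ded_13_1 (flp_e L783026) (flp_a L775203) L786970
theorem L786974 : sm gg N59689 = N59436 := ded_41_2 (flp_e L784062) (flp_g L775207) L786970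
theorem L786976 : sm gi N59689 = N59174 := ded_44_2 (flp_e L782262) (flp_i L775209) L786970
theorem L786978 : sm gd N59689 = N59689 := ded_34_1 (flp_e L786970) (flp_d L775201) L763750 L775201 L786970
theorem L786979 : sm gb N58495 = N59690 := rfl
theorem L786981 : sm gd N59690 = N58500 := ded_20_2 (flp_b L775260) (flp_d L775219) L786979
theorem L786983 : sm gg N59690 = N59193 := ded_23_2 (flp_b L782431) (flp_g L775215) L786979
theorem L786985 : sm gi N59690 = N59175 := ded_26_2 (flp_b L782271) (flp_i L775217) L786979
theorem L786987 : sm ge N58495 = N59691 := rfl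
theorem L786989 : sm ga N59691 = N59273 := ded_13_1 (flp_e L783047) (flp_a L775213) L786987
theorem L786991 : sm gc N59691 = N58496 := ded_28_1 (flp_e L775221) L775211 L786987
theorem L786993 : sm gg N59691 = N59194 := ded_41_2 (flp_e L782441) (flp_g L775215) L786987
theorem L786995 : sm gi N59691 = N59176 := ded_44_2 (flp_e L782279) (flp_i L775217) L786987
theorem L786997 : sm gf N58496 = N59692 := rfl
theorem L786999 : sm ga N59692 = N59274 := ded_14_1 (flp_f L783053) (flp_a L775223) L786997
theorem L787001 : sm gd N59692 = N58497 := ded_35_1 (flp_f L775231) (flp_d L775229) L786997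
theorem L787003 : sm gi N59692 = N59177 := ded_48_2 (flp_f L782289) (flp_i L775227) L786997
theorem L787005 : sm gg N58497 = N59693 := rfl
theorem L787007 : sm ga N59693 = N59074 := ded_15_1 L781259 (flp_a L775233) L787005
theorem L787009 : sm gb N59693 = N59518 := ded_23_1 (flp_g L786933) L786927 L787005
theorem L787011 : sm ge N59693 = N59693 := ded_41_1 (flp_g L787005) L775238 L787005
theorem L787012 : sm gh N59693 = N59693 := ded_50_2 (flp_g L787005) L775235 L787005
theorem L787013 : sm gi N59693 = N59100 := ded_51_2 L781510 (flp_i L775236) L787005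
theorem L787015 : sm gf N59693 = N58906 := ded_45_1 L779769 L768334 (flp_g L763769) L775231 L787005
theorem L787017 : sm gb N58498 = N59694 := rfl
theorem L787019 : sm gf N59694 = N58500 := ded_22_2 (flp_b L775260) (flp_f L775241) L787017
theorem L787021 : sm gg N59694 = N59438 := ded_23_2 (flp_b L784075) (flp_g L775243) L787017
theorem L787023 : sm gh N59694 = N58528 := ded_25_2 (flp_b L775612) (flp_h L775245) L787017
theorem L787025 : sm gi N59694 = N59474 := ded_26_2 (flp_b L784306) (flp_i L775247) L787017
theorem L787027 : sm gc N59694 = N58944 := ded_19_2 (flp_b L780124) (flp_c L768653) (flp_b L763776) L775239 L787017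
theorem L787029 : sm ge N58498 = N59695 := rfl
theorem L787031 : sm gc N59695 = N58499 := ded_28_1 (flp_e L775249) L775239 L787029
theorem L787033 : sm gg N59695 = N59439 := ded_41_2 (flp_e L784081) (flp_g L775243) L787029
theorem L787035 : sm gh N59695 = N58529 := ded_43_2 (flp_e L775620) (flp_h L775245) L787029
theorem L787037 : sm gi N59695 = N59475 := ded_44_2 (flp_e L784312) (flp_i L775247) L787029
theorem L787039 : sm ga N58500 = N59696 := rfl
theorem L787041 : sm gc N59696 = N58946 := ded_11_2 (flp_a L780136) (flp_c L775268) L787039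
theorem L787043 : sm gg N59696 = N59195 := ded_15_2 (flp_a L782449) (flp_g L775262) L787039
theorem L787045 : sm gh N59696 = N58530 := ded_17_2 (flp_a L775626) (flp_h L775264) L787039
theorem L787047 : sm gi N59696 = N59491 := ded_18_2 (flp_a L784435) (flp_i L775266) L787039
theorem L787049 : sm gd N58501 = N59697 := rfl
theorem L787051 : sm ga N59697 = N58760 := ded_12_1 (flp_d L778308) (flp_a L775272) L787049
theorem L787053 : sm gb N59697 = N58948 := ded_20_1 (flp_d L780158) (flp_b L775274) L787049
theorem L787055 : sm gf N59697 = N58510 := ded_35_2 (flp_d L775387) (flp_f L775279) L787049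
theorem L787057 : sm gg N59697 = N58502 := ded_36_2 (flp_d L775287) (flp_g L775281) L787049
theorem L787059 : sm gj N59697 = N58919 := ded_37_2 (flp_d L779902) (flp_j L775283) L787049
theorem L787061 : sm gi N59697 = N58536 := ded_39_2 (flp_d L775710) (flp_i L775285) L787049
theorem L787063 : sm gh N59697 = N58956 := ded_38_2 (flp_d L780245) (flp_h L768769) (flp_d L763802) L775270 L787049
theorem L787065 : sm gc N58502 = N59698 := rfl
theorem L787067 : sm gf N59698 = N58503 := ded_29_2 (flp_c L775299) (flp_f L775291) L787065
theorem L787069 : sm gj N59698 = N58942 := ded_31_2 (flp_c L780103) (flp_j L775293) L787065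
theorem L787071 : sm gh N59698 = N58972 := ded_32_2 (flp_c L780405) (flp_h L775297) L787065
theorem L787073 : sm gi N59698 = N58537 := ded_33_2 (flp_c L775722) (flp_i L775295) L787065
theorem L787075 : sm ge N58502 = N59699 := rfl
theorem L787077 : sm gb N59699 = N58950 := ded_21_1 (flp_e L780176) (flp_b L775289) L787075
theorem L787079 : sm gj N59699 = N58943 := ded_42_2 (flp_e L780113) (flp_j L775293) L787075
theorem L787081 : sm gh N59699 = N58973 := ded_43_2 (flp_e L780413) (flp_h L775297) L787075
theorem L787083 : sm gi N59699 = N58538 := ded_44_2 (flp_e L775728) (flp_i L775295) L787075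
theorem L787085 : sm gd N59699 = N59699 := ded_34_1 (flp_e L787075) (flp_d L775287) L763815 L775287 L787075
theorem L787086 : sm gf N59699 = N59335 := ded_40_2 (flp_e L783450) (flp_f L773609) L773617 (flp_f L775291) L787075
theorem L787088 : sm gb N58503 = N59700 := rfl
theorem L787090 : sm gg N59700 = N58513 := ded_23_2 (flp_b L775423) (flp_g L775301) L787088
theorem L787092 : sm gj N59700 = N59200 := ded_24_2 (flp_b L782491) (flp_j L775303) L787088
theorem L787094 : sm gh N59700 = N59469 := ded_25_2 (flp_b L784278) (flp_h L775305) L787088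
theorem L787096 : sm gi N59700 = N58539 := ded_26_2 (flp_b L775739) (flp_i L775307) L787088
theorem L787098 : sm gc N59700 = N58951 := ded_19_2 (flp_b L780183) (flp_c L768703) (flp_b L763824) L775299 L787088
theorem L787100 : sm gc N58504 = N59701 := rfl
theorem L787102 : sm ga N59701 = N59004 := ded_11_1 (flp_c L780712) (flp_a L775311) L787100
theorem L787104 : sm gf N59701 = N59003 := ded_29_2 (flp_c L780700) (flp_f L775315) L787100
theorem L787106 : sm gj N59701 = N58515 := ded_31_2 (flp_c L775447) (flp_j L775317) L787100
theorem L787108 : sm gh N59701 = N59435 := ded_32_2 (flp_c L784054) (flp_h L775321) L787100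
theorem L787110 : sm gi N59701 = N58542 := ded_33_2 (flp_c L775781) (flp_i L775319) L787100
theorem L787112 : sm gd N59701 = N58952 := ded_27_2 (flp_c L780191) (flp_d L768711) (flp_c L763840) L775309 L787100
theorem L787114 : sm ge N58504 = N59702 := rfl
theorem L787116 : sm ga N59702 = N59005 := ded_13_1 (flp_e L780720) (flp_a L775311) L787114
theorem L787118 : sm gb N59702 = N58508 := ded_21_1 (flp_e L775364) (flp_b L775313) L787114
theorem L787120 : sm gj N59702 = N58516 := ded_42_2 (flp_e L775459) (flp_j L775317) L787114
theorem L787122 : sm gh N59702 = N59436 := ded_43_2 (flp_e L784062) (flp_h L775321) L787114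
theorem L787124 : sm gi N59702 = N58543 := ded_44_2 (flp_e L775791) (flp_i L775319) L787114
theorem L787126 : sm gd N59702 = N58505 := ded_34_1 (flp_e L775323) (flp_d L763850) (flp_e L763842) L775309 L787114
theorem L787128 : sm gf N59702 = N59279 := ded_40_2 (flp_e L783081) (flp_f L776129) L776137 (flp_f L775315) L787114
theorem L787130 : sm gc N58506 = N59703 := rfl
theorem L787132 : sm ga N59703 = N59456 := ded_11_1 (flp_c L784189) (flp_a L775340) L787130
theorem L787134 : sm gf N59703 = N59048 := ded_29_2 L781055 (flp_f L775344) L787130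
theorem L787136 : sm gj N59703 = N58519 := ded_31_2 (flp_c L775507) (flp_j L775346) L787130
theorem L787138 : sm gh N59703 = N58507 := ded_32_2 (flp_c L775352) (flp_h L775350) L787130
theorem L787140 : sm gi N59703 = N59052 := ded_33_2 L781093 (flp_i L775348) L787130
theorem L787142 : sm ge N58506 = N59704 := rfl
theorem L787144 : sm ga N59704 = N59457 := ded_13_1 (flp_e L784197) (flp_a L775340) L787142
theorem L787146 : sm gb N59704 = N59436 := ded_21_1 (flp_e L784062) (flp_b L775342) L787142
theorem L787148 : sm gj N59704 = N58520 := ded_42_2 (flp_e L775513) (flp_j L775346) L787142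
theorem L787150 : sm gh N59704 = N58508 := ded_43_2 (flp_e L775364) (flp_h L775350) L787142
theorem L787152 : sm gi N59704 = N59046 := ded_44_2 L781043 (flp_i L775348) L787142
theorem L787154 : sm gd N59704 = N59704 := ded_34_1 (flp_e L787142) (flp_d L775338) L763871 L775338 L787142
theorem L787155 : sm gf N59704 = N59043 := ded_40_2 (flp_e L781017) L769469 L769490 (flp_f L775344) L787142
theorem L787157 : sm gb N58507 = N59705 := rfl
theorem L787159 : sm gd N59705 = N58513 := ded_20_2 (flp_b L775423) (flp_d L775362) L787157
theorem L787161 : sm gf N59705 = N59420 := ded_22_2 (flp_b L783974) (flp_f L775356) L787157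
theorem L787163 : sm gj N59705 = N58522 := ded_24_2 (flp_b L775536) (flp_j L775358) L787157
theorem L787165 : sm gi N59705 = N58545 := ded_26_2 (flp_b L775819) (flp_i L775360) L787157
theorem L787167 : sm ge N58507 = N59706 := rfl
theorem L787169 : sm ga N59706 = N59505 := ded_13_1 (flp_e L784517) (flp_a L775354) L787167
theorem L787171 : sm gc N59706 = N58508 := ded_28_1 (flp_e L775364) L775352 L787167
theorem L787173 : sm gj N59706 = N58523 := ded_42_2 (flp_e L775544) (flp_j L775358) L787167
theorem L787175 : sm gi N59706 = N58546 := ded_44_2 (flp_e L775829) (flp_i L775360) L787167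
theorem L787177 : sm gf N58508 = N59707 := rfl
theorem L787179 : sm ga N59707 = N59189 := ded_14_1 L782401 (flp_a L775366) L787177
theorem L787181 : sm gb N59707 = N59279 := ded_22_1 (flp_f L787128) L787118 L787177
theorem L787183 : sm gd N59707 = N58509 := ded_35_1 (flp_f L775374) (flp_d L775372) L787177
theorem L787185 : sm gj N59707 = N58524 := ded_46_2 (flp_f L775552) (flp_j L775368) L787177
theorem L787187 : sm gh N59707 = N59043 := ded_47_2 (flp_f L787155) L787150 L787177
theorem L787189 : sm gi N59707 = N58547 := ded_48_2 (flp_f L775839) (flp_i L775370) L787177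
theorem L787191 : sm ge N59707 = N58964 := ded_40_1 L780319 L768869 (flp_f L763882) L775364 L787177
theorem L787193 : sm gc N58510 = N59708 := rfl
theorem L787195 : sm ga N59708 = N58763 := ded_11_1 (flp_c L778327) (flp_a L775389) L787193
theorem L787197 : sm gg N59708 = N58511 := ded_30_2 (flp_c L775399) (flp_g L775393) L787193
theorem L787199 : sm gj N59708 = N59445 := ded_31_2 (flp_c L784121) (flp_j L775395) L787193
theorem L787201 : sm gi N59708 = N58550 := ded_33_2 (flp_c L775877) (flp_i L775397) L787193
theorem L787203 : sm gd N59708 = N58897 := ded_27_2 (flp_c L779683) (flp_d L768226) (flp_c L763903) L775387 L787193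
theorem L787205 : sm ge N58510 = N59709 := rfl
theorem L787207 : sm ga N59709 = N58764 := ded_13_1 (flp_e L778335) (flp_a L775389) L787205
theorem L787209 : sm gb N59709 = N58958 := ded_21_1 (flp_e L780261) (flp_b L775391) L787205
theorem L787211 : sm gg N59709 = N58512 := ded_41_2 (flp_e L775411) (flp_g L775393) L787205
theorem L787213 : sm gj N59709 = N59446 := ded_42_2 (flp_e L784125) (flp_j L775395) L787205
theorem L787215 : sm gi N59709 = N58551 := ded_44_2 (flp_e L775887) (flp_i L775397) L787205
theorem L787217 : sm gd N59709 = N58531 := ded_34_1 (flp_e L775634) (flp_d L764126) (flp_e L763905) L775387 L787205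
theorem L787219 : sm gb N58511 = N59710 := rfl
theorem L787221 : sm gd N59710 = N59420 := ded_20_2 (flp_b L783974) (flp_d L775409) L787219
theorem L787223 : sm gf N59710 = N58513 := ded_22_2 (flp_b L775423) (flp_f L775403) L787219
theorem L787225 : sm gj N59710 = N58528 := ded_24_2 (flp_b L775612) (flp_j L775405) L787219
theorem L787227 : sm gi N59710 = N58552 := ded_26_2 (flp_b L775899) (flp_i L775407) L787219
theorem L787229 : sm gc N59710 = N58959 := ded_19_2 (flp_b L780269) (flp_c L768789) (flp_b L763917) L775399 L787219
theorem L787231 : sm ge N58511 = N59711 := rfl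
theorem L787233 : sm ga N59711 = N59359 := ded_13_1 (flp_e L783587) (flp_a L775401) L787231
theorem L787235 : sm gc N59711 = N58512 := ded_28_1 (flp_e L775411) L775399 L787231
theorem L787237 : sm gj N59711 = N58529 := ded_42_2 (flp_e L775620) (flp_j L775405) L787231
theorem L787239 : sm gi N59711 = N58553 := ded_44_2 (flp_e L775911) (flp_i L775407) L787231
theorem L787241 : sm ga N58513 = N59712 := rfl
theorem L787243 : sm gc N59712 = N58961 := ded_11_2 (flp_a L780285) (flp_c L775429) L787241
theorem L787245 : sm gj N59712 = N58530 := ded_16_2 (flp_a L775626) (flp_j L775425) L787241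
theorem L787247 : sm gi N59712 = N58554 := ded_18_2 (flp_a L775921) (flp_i L775427) L787241
theorem L787249 : sm gc N58514 = N59713 := rfl
theorem L787251 : sm ga N59713 = N59030 := ded_11_1 (flp_c L780913) (flp_a L775433) L787249
theorem L787253 : sm gf N59713 = N58947 := ded_29_2 (flp_c L780142) (flp_f L775437) L787249
theorem L787255 : sm gg N59713 = N59210 := ded_30_2 (flp_c L782588) (flp_g L775439) L787249
theorem L787257 : sm gj N59713 = N59435 := ded_31_2 (flp_c L784054) (flp_j L775441) L787249
theorem L787259 : sm gh N59713 = N58515 := ded_32_2 (flp_c L775447) (flp_h L775445) L787249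
theorem L787261 : sm gi N59713 = N58993 := ded_33_2 (flp_c L780618) (flp_i L775443) L787249
theorem L787263 : sm gd N59713 = N58949 := ded_27_2 (flp_c L780168) (flp_d L768695) (flp_c L763937) L775431 L787249
theorem L787265 : sm ge N58514 = N59714 := rfl
theorem L787267 : sm ga N59714 = N59031 := ded_13_1 (flp_e L780919) (flp_a L775433) L787265
theorem L787269 : sm gb N59714 = N58520 := ded_21_1 (flp_e L775513) (flp_b L775435) L787265
theorem L787271 : sm gg N59714 = N59211 := ded_41_2 (flp_e L782592) (flp_g L775439) L787265
theorem L787273 : sm gj N59714 = N59436 := ded_42_2 (flp_e L784062) (flp_j L775441) L787265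
theorem L787275 : sm gh N59714 = N58516 := ded_43_2 (flp_e L775459) (flp_h L775445) L787265
theorem L787277 : sm gi N59714 = N58994 := ded_44_2 (flp_e L780626) (flp_i L775443) L787265
theorem L787279 : sm gd N59714 = N59714 := ded_34_1 (flp_e L787265) (flp_d L775431) L763939 L775431 L787265
theorem L787280 : sm gf N59714 = N59267 := ded_40_2 (flp_e L783011) L771366 (flp_e L768680) (flp_f L775437) L787265
theorem L787282 : sm gb N58515 = N59715 := rfl
theorem L787284 : sm gd N59715 = N58963 := ded_20_2 (flp_b L780303) (flp_d L775457) L787282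
theorem L787286 : sm gf N59715 = N59028 := ded_22_2 (flp_b L780897) (flp_f L775451) L787282
theorem L787288 : sm gg N59715 = N59213 := ded_23_2 (flp_b L782613) (flp_g L775453) L787282
theorem L787290 : sm gi N59715 = N58562 := ded_26_2 (flp_b L776027) (flp_i L775455) L787282
theorem L787292 : sm gc N59715 = N58522 := ded_19_2 (flp_b L775536) (flp_c L764030) (flp_b L763952) L775447 L787282
theorem L787294 : sm ge N58515 = N59716 := rfl
theorem L787296 : sm ga N59716 = N59035 := ded_13_1 (flp_e L780956) (flp_a L775449) L787294
theorem L787298 : sm gc N59716 = N58516 := ded_28_1 (flp_e L775459) L775447 L787294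
theorem L787300 : sm gg N59716 = N59214 := ded_41_2 (flp_e L782621) (flp_g L775453) L787294
theorem L787302 : sm gi N59716 = N58563 := ded_44_2 (flp_e L776035) (flp_i L775455) L787294
theorem L787304 : sm gd N59716 = N59400 := ded_34_1 (flp_e L783866) L772223 (flp_e L768827) (flp_d L775457) L787294
theorem L787306 : sm gf N59716 = N59281 := ded_40_2 (flp_e L783093) (flp_f L776147) L776145 (flp_f L775451) L787294
theorem L787308 : sm gc N58517 = N59717 := rfl
theorem L787310 : sm ga N59717 = N58892 := ded_11_1 (flp_c L779628) (flp_a L775475) L787308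
theorem L787312 : sm ge N59717 = N59011 := ded_28_2 (flp_c L780777) (flp_e L775487) L787308
theorem L787314 : sm gf N59717 = N58519 := ded_29_2 (flp_c L775507) (flp_f L775479) L787308
theorem L787316 : sm gg N59717 = N58952 := ded_30_2 (flp_c L780191) (flp_g L775481) L787308
theorem L787318 : sm gj N59717 = N59048 := ded_31_2 L781055 (flp_j L775483) L787308
theorem L787320 : sm gh N59717 = N58521 := ded_32_2 (flp_c L775520) (flp_h L775489) L787308
theorem L787322 : sm gi N59717 = N58990 := ded_33_2 (flp_c L780582) (flp_i L775485) L787308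
theorem L787324 : sm gc N58518 = N59718 := rfl
theorem L787326 : sm ga N59718 = N59191 := ded_11_1 (flp_c L782414) (flp_a L775493) L787324
theorem L787328 : sm gf N59718 = N58990 := ded_29_2 (flp_c L780582) (flp_f L775497) L787324
theorem L787330 : sm gg N59718 = N59216 := ded_30_2 (flp_c L782637) (flp_g L775499) L787324
theorem L787332 : sm gj N59718 = N59052 := ded_31_2 L781093 (flp_j L775501) L787324
theorem L787334 : sm gh N59718 = N58565 := ded_32_2 (flp_c L776055) (flp_h L775505) L787324
theorem L787336 : sm gi N59718 = N58519 := ded_33_2 (flp_c L775507) (flp_i L775503) L787324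
theorem L787338 : sm gd N59718 = N59141 := ded_27_2 (flp_c L781961) (flp_d L770405) (flp_c L763997) L775491 L787324
theorem L787340 : sm ge N58518 = N59719 := rfl
theorem L787342 : sm ga N59719 = N59192 := ded_13_1 (flp_e L782424) (flp_a L775493) L787340
theorem L787344 : sm gb N59719 = N58994 := ded_21_1 (flp_e L780626) (flp_b L775495) L787340
theorem L787346 : sm gg N59719 = N59217 := ded_41_2 (flp_e L782643) (flp_g L775499) L787340
theorem L787348 : sm gj N59719 = N59046 := ded_42_2 L781043 (flp_j L775501) L787340
theorem L787350 : sm gh N59719 = N58566 := ded_43_2 (flp_e L776069) (flp_h L775505) L787340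
theorem L787352 : sm gi N59719 = N58520 := ded_44_2 (flp_e L775513) (flp_i L775503) L787340
theorem L787354 : sm gd N59719 = N59719 := ded_34_1 (flp_e L787340) (flp_d L775491) L763999 L775491 L787340
theorem L787355 : sm gf N59719 = N59010 := ded_40_2 (flp_e L780770) L769260 (flp_e L769105) (flp_f L775497) L787340
theorem L787357 : sm gb N58519 = N59720 := rfl
theorem L787359 : sm gg N59720 = N59218 := ded_23_2 (flp_b L782650) (flp_g L775509) L787357
theorem L787361 : sm gh N59720 = N58522 := ded_25_2 (flp_b L775536) (flp_h L775511) L787357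
theorem L787363 : sm ge N58519 = N59721 := rfl
theorem L787365 : sm gc N59721 = N58520 := ded_28_1 (flp_e L775513) L775507 L787363
theorem L787367 : sm gg N59721 = N59219 := ded_41_2 (flp_e L782654) (flp_g L775509) L787363
theorem L787369 : sm gh N59721 = N58523 := ded_43_2 (flp_e L775544) (flp_h L775511) L787363
theorem L787371 : sm gf N58520 = N59722 := rfl
theorem L787373 : sm ga N59722 = N59448 := ded_14_1 (flp_f L786474) L786461 L787371
theorem L787375 : sm gb N59722 = N59267 := ded_22_1 (flp_f L787280) L787269 L787371
theorem L787377 : sm gd N59722 = N59722 := ded_35_1 (flp_f L787371) L775519 L787371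
theorem L787378 : sm gj N59722 = N59043 := ded_46_2 (flp_f L787155) L787148 L787371
theorem L787380 : sm gh N59722 = N58524 := ded_47_2 (flp_f L775552) (flp_h L775517) L787371
theorem L787382 : sm gi N59722 = N59010 := ded_48_2 (flp_f L787355) L787352 L787371
theorem L787384 : sm ge N59722 = N59008 := ded_40_1 L780752 (flp_e L775487) L775479 L775513 L787371
theorem L787386 : sm gg N59256 = N59722 := ded_23_0 L787375 L783015 (flp_b L782934)
theorem L787388 : sm gb N58521 = N59723 := rfl
theorem L787390 : sm gd N59723 = N58528 := ded_20_2 (flp_b L775612) (flp_d L775534) L787388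
theorem L787392 : sm ge N59723 = N59444 := ded_21_2 (flp_b L784117) (flp_e L775524) L787388
theorem L787394 : sm gf N59723 = N58522 := ded_22_2 (flp_b L775536) (flp_f L775526) L787388
theorem L787396 : sm gg N59723 = N59417 := ded_23_2 (flp_b L783960) (flp_g L775528) L787388
theorem L787398 : sm gj N59723 = N59420 := ded_24_2 (flp_b L783974) (flp_j L775530) L787388
theorem L787400 : sm gi N59723 = N58572 := ded_26_2 (flp_b L776157) (flp_i L775532) L787388
theorem L787402 : sm gc N59723 = N59028 := ded_19_2 (flp_b L780897) (flp_c L769368) (flp_b L764018) L775520 L787388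
theorem L787404 : sm ga N58522 = N59724 := rfl
theorem L787406 : sm gd N59724 = N58530 := ded_12_2 (flp_a L775626) (flp_d L775538) L787404
theorem L787408 : sm gg N59724 = N59221 := ded_15_2 (flp_a L782670) (flp_g L775540) L787404
theorem L787410 : sm gi N59724 = N58573 := ded_18_2 (flp_a L776169) (flp_i L775542) L787404
theorem L787412 : sm ge N58522 = N59725 := rfl
theorem L787414 : sm gb N59725 = N58523 := ded_21_1 (flp_e L775544) L775536 L787412
theorem L787416 : sm gg N59725 = N59222 := ded_41_2 (flp_e L782676) (flp_g L775540) L787412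
theorem L787418 : sm gi N59725 = N58574 := ded_44_2 (flp_e L776175) (flp_i L775542) L787412
theorem L787420 : sm gf N58523 = N59726 := rfl
theorem L787422 : sm ga N59726 = N59451 := ded_14_1 (flp_f L786504) L786492 L787420
theorem L787424 : sm gc N59726 = N58524 := ded_29_1 (flp_f L775552) (flp_c L775546) L787420
theorem L787426 : sm gi N59726 = N58575 := ded_48_2 (flp_f L776181) (flp_i L775550) L787420
theorem L787428 : sm ge N59726 = N59261 := ded_40_1 L782967 (flp_e L775524) L775526 L775544 L787420
theorem L787430 : sm gg N59263 = N59726 := ded_30_0 L787424 (flp_g L775564) (flp_c L782985)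
theorem L787432 : sm gc N58525 = N59727 := rfl
theorem L787434 : sm ga N59727 = N59385 := ded_11_1 (flp_c L783748) (flp_a L775568) L787432
theorem L787436 : sm gf N59727 = N58915 := ded_29_2 (flp_c L779852) (flp_f L775572) L787432
theorem L787438 : sm gg N59727 = N59445 := ded_30_2 (flp_c L784121) (flp_g L775574) L787432
theorem L787440 : sm gj N59727 = N58526 := ded_31_2 (flp_c L775582) (flp_j L775576) L787432
theorem L787442 : sm gh N59727 = N58949 := ded_32_2 (flp_c L780168) (flp_h L775580) L787432
theorem L787444 : sm gi N59727 = N58577 := ded_33_2 (flp_c L776205) (flp_i L775578) L787432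
theorem L787446 : sm gd N59727 = N58962 := ded_27_2 (flp_c L780291) (flp_d L768811) (flp_c L764065) L775566 L787432
theorem L787448 : sm ge N58525 = N59728 := rfl
theorem L787450 : sm ga N59728 = N59386 := ded_13_1 (flp_e L783756) (flp_a L775568) L787448
theorem L787452 : sm gb N59728 = N58973 := ded_21_1 (flp_e L780413) (flp_b L775570) L787448
theorem L787454 : sm gg N59728 = N59446 := ded_41_2 (flp_e L784125) (flp_g L775574) L787448
theorem L787456 : sm gj N59728 = N58527 := ded_42_2 (flp_e L775596) (flp_j L775576) L787448
theorem L787458 : sm gh N59728 = N58950 := ded_43_2 (flp_e L780176) (flp_h L775580) L787448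
theorem L787460 : sm gi N59728 = N58578 := ded_44_2 (flp_e L776211) (flp_i L775578) L787448
theorem L787462 : sm gd N59728 = N58533 := ded_34_1 (flp_e L775664) (flp_d L764170) (flp_e L764067) L775566 L787448
theorem L787464 : sm gf N59728 = N58846 := ded_40_2 (flp_e L779154) (flp_f L774490) L774498 (flp_f L775572) L787448
theorem L787466 : sm gb N58526 = N59729 := rfl
theorem L787468 : sm gd N59729 = N59417 := ded_20_2 (flp_b L783960) (flp_d L775594) L787466
theorem L787470 : sm gf N59729 = N59223 := ded_22_2 (flp_b L782682) (flp_f L775586) L787466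
theorem L787472 : sm gg N59729 = N58528 := ded_23_2 (flp_b L775612) (flp_g L775588) L787466
theorem L787474 : sm gh N59729 = N59438 := ded_25_2 (flp_b L784075) (flp_h L775590) L787466
theorem L787476 : sm gi N59729 = N58579 := ded_26_2 (flp_b L776223) (flp_i L775592) L787466
theorem L787478 : sm gc N59729 = N58974 := ded_19_2 (flp_b L780423) (flp_c L768935) (flp_b L764081) L775582 L787466
theorem L787480 : sm ge N58526 = N59730 := rfl
theorem L787482 : sm ga N59730 = N59400 := ded_13_1 (flp_e L783866) (flp_a L775584) L787480
theorem L787484 : sm gc N59730 = N58527 := ded_28_1 (flp_e L775596) L775582 L787480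
theorem L787486 : sm gg N59730 = N58529 := ded_41_2 (flp_e L775620) (flp_g L775588) L787480
theorem L787488 : sm gh N59730 = N59439 := ded_43_2 (flp_e L784081) (flp_h L775590) L787480
theorem L787490 : sm gi N59730 = N58580 := ded_44_2 (flp_e L776231) (flp_i L775592) L787480
theorem L787492 : sm gd N59730 = N59035 := ded_34_1 (flp_e L780956) (flp_d L776025) L776013 (flp_d L775594) L787480
theorem L787494 : sm gf N59730 = N58851 := ded_40_2 (flp_e L779197) (flp_f L774508) L774506 (flp_f L775586) L787480
theorem L787496 : sm ga N58528 = N59731 := rfl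
theorem L787498 : sm gc N59731 = N58976 := ded_11_2 (flp_a L780439) (flp_c L775618) L787496
theorem L787500 : sm gf N59731 = N58530 := ded_14_2 (flp_a L775626) (flp_f L775614) L787496
theorem L787502 : sm gi N59731 = N58581 := ded_18_2 (flp_a L776237) (flp_i L775616) L787496
theorem L787504 : sm ge N58528 = N59732 := rfl
theorem L787506 : sm gb N59732 = N58529 := ded_21_1 (flp_e L775620) L775612 L787504
theorem L787508 : sm gc N59732 = N58977 := ded_28_1 (flp_e L780445) (flp_c L775618) L787504
theorem L787510 : sm gi N59732 = N58582 := ded_44_2 (flp_e L776243) (flp_i L775616) L787504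
theorem L787512 : sm gd N58529 = N59733 := rfl
theorem L787514 : sm ga N59733 = N59214 := ded_12_1 (flp_d L786532) L786522 L787512
theorem L787516 : sm gg N59733 = N59035 := ded_36_2 (flp_d L787492) L787486 L787512
theorem L787518 : sm gi N59733 = N58583 := ded_39_2 (flp_d L776249) (flp_i L775624) L787512
theorem L787520 : sm gc N59733 = N58534 := ded_27_1 (flp_d L775681) L764208 (flp_d L764103) (flp_c L775622) L787512
theorem L787522 : sm ge N59733 = N59033 := ded_34_2 L780948 (flp_e L775524) L775534 L775620 L787512
theorem L787524 : sm gf N58531 = N59734 := rfl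
theorem L787526 : sm ga N59734 = N58793 := ded_14_1 (flp_f L778583) (flp_a L775636) L787524
theorem L787528 : sm gb N59734 = N58983 := ded_22_1 (flp_f L780509) (flp_b L775638) L787524
theorem L787530 : sm gc N59734 = N59097 := ded_29_1 L781474 (flp_c L775640) L787524
theorem L787532 : sm gj N59734 = N58789 := ded_46_2 L778541 (flp_j L775644) L787524
theorem L787534 : sm gh N59734 = N59734 := ded_47_2 (flp_f L787524) L775646 L787524
theorem L787535 : sm gi N59734 = N58585 := ded_48_2 (flp_f L776275) (flp_i L775647) L787524
theorem L787537 : sm ge N59734 = N59734 := ded_40_1 (flp_f L787524) (flp_e L775634) L764132 L775634 L787524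
theorem L787538 : sm gd N58532 = N59735 := rfl
theorem L787540 : sm ga N59735 = N59203 := ded_12_1 L782529 (flp_a L775651) L787538
theorem L787542 : sm gb N59735 = N59054 := ded_20_1 L781109 (flp_b L775653) L787538
theorem L787544 : sm gg N59735 = N59430 := ded_36_2 L784032 (flp_g L775657) L787538
theorem L787546 : sm gj N59735 = N58534 := ded_37_2 (flp_d L775681) (flp_j L775659) L787538
theorem L787548 : sm gi N59735 = N58587 := ded_39_2 (flp_d L776306) (flp_i L775662) L787538
theorem L787550 : sm ge N59735 = N58933 := ded_34_2 (flp_d L780035) L768589 (flp_d L764155) L775649 L787538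
theorem L787552 : sm gh N58534 = N59736 := rfl
theorem L787554 : sm ga N59736 = N59211 := ded_17_1 L782596 (flp_a L775683) L787552
theorem L787556 : sm gb N59736 = N59041 := ded_25_1 L781008 (flp_b L775685) L787552
theorem L787558 : sm ge N59736 = N59029 := ded_43_1 L780911 (flp_e L775691) L787552
theorem L787560 : sm gg N59736 = N59031 := ded_50_1 L780923 (flp_g L775687) L787552
theorem L787562 : sm gd N59736 = N59736 := ded_38_1 (flp_h L787552) (flp_d L775681) L764212 L775681 L787552
theorem L787563 : sm gd N58535 = N59737 := rfl
theorem L787565 : sm ga N59737 = N58738 := ded_12_1 (flp_d L778088) (flp_a L775695) L787563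
theorem L787567 : sm gb N59737 = N58661 := ded_20_1 (flp_d L777280) (flp_b L775697) L787563
theorem L787569 : sm gf N59737 = N58549 := ded_35_2 (flp_d L775863) (flp_f L775702) L787563
theorem L787571 : sm gg N59737 = N58694 := ded_36_2 (flp_d L777653) (flp_g L775704) L787563
theorem L787573 : sm gj N59737 = N58536 := ded_37_2 (flp_d L775710) (flp_j L775706) L787563
theorem L787575 : sm gi N59737 = N58919 := ded_39_2 (flp_d L779902) (flp_i L775708) L787563
theorem L787577 : sm gh N59737 = N58659 := ded_38_2 (flp_d L777249) (flp_h L765873) (flp_d L764223) L775693 L787563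
theorem L787579 : sm gc N58536 = N59738 := rfl
theorem L787581 : sm ga N59738 = N58761 := ded_11_1 (flp_c L778314) (flp_a L775712) L787579
theorem L787583 : sm gf N59738 = N58550 := ded_29_2 (flp_c L775877) (flp_f L775716) L787579
theorem L787585 : sm gg N59738 = N58537 := ded_30_2 (flp_c L775722) (flp_g L775718) L787579
theorem L787587 : sm gh N59738 = N58679 := ded_32_2 (flp_c L777490) (flp_h L775720) L787579
theorem L787589 : sm gd N59738 = N58895 := ded_27_2 (flp_c L779666) (flp_d L768218) (flp_c L764238) L775710 L787579
theorem L787591 : sm ge N58536 = N59739 := rfl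
theorem L787593 : sm ga N59739 = N58762 := ded_13_1 (flp_e L778322) (flp_a L775712) L787591
theorem L787595 : sm gb N59739 = N58999 := ded_21_1 (flp_e L780677) (flp_b L775714) L787591
theorem L787597 : sm gg N59739 = N58538 := ded_41_2 (flp_e L775728) (flp_g L775718) L787591
theorem L787599 : sm gh N59739 = N58680 := ded_43_2 (flp_e L777498) (flp_h L775720) L787591
theorem L787601 : sm gd N59739 = N59739 := ded_34_1 (flp_e L787591) (flp_d L775710) L764240 L775710 L787591
theorem L787602 : sm gb N58537 = N59740 := rfl
theorem L787604 : sm gf N59740 = N58539 := ded_22_2 (flp_b L775739) (flp_f L775724) L787602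
theorem L787606 : sm gj N59740 = N59230 := ded_24_2 (flp_b L782731) (flp_j L775726) L787602
theorem L787608 : sm gc N59740 = N59000 := ded_19_2 (flp_b L780682) (flp_c L769189) (flp_b L764247) L775722 L787602
theorem L787610 : sm ge N58537 = N59741 := rfl
theorem L787612 : sm gc N59741 = N58538 := ded_28_1 (flp_e L775728) L775722 L787610
theorem L787614 : sm gj N59741 = N59231 := ded_42_2 (flp_e L782737) (flp_j L775726) L787610
theorem L787616 : sm gh N59741 = N59340 := ded_43_2 (flp_e L784683) L784691 L787610
theorem L787618 : sm gf N59741 = N59337 := ded_40_2 (flp_e L783461) (flp_f L773889) L773887 (flp_f L775724) L787610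
theorem L787620 : sm ga N58539 = N59742 := rfl
theorem L787622 : sm gc N59742 = N59002 := ded_11_2 (flp_a L780694) (flp_c L775745) L787620
theorem L787624 : sm gg N59742 = N58554 := ded_15_2 (flp_a L775921) (flp_g L775741) L787620
theorem L787626 : sm gj N59742 = N59232 := ded_16_2 (flp_a L782741) (flp_j L775743) L787620
theorem L787628 : sm gc N58540 = N59743 := rfl
theorem L787630 : sm ga N59743 = N58542 := ded_11_1 (flp_c L775781) (flp_a L775749) L787628
theorem L787632 : sm gf N59743 = N58952 := ded_29_2 (flp_c L780191) (flp_f L775753) L787628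
theorem L787634 : sm gg N59743 = N59215 := ded_30_2 (flp_c L782627) (flp_g L775755) L787628
theorem L787636 : sm gj N59743 = N58556 := ded_31_2 (flp_c L775943) (flp_j L775757) L787628
theorem L787638 : sm gh N59743 = N59134 := ded_32_2 (flp_c L781899) (flp_h L775761) L787628
theorem L787640 : sm gi N59743 = N59004 := ded_33_2 (flp_c L780712) (flp_i L775759) L787628
theorem L787642 : sm gd N59743 = N59003 := ded_27_2 (flp_c L780700) (flp_d L769206) (flp_c L764265) L775747 L787628
theorem L787644 : sm ge N58540 = N59744 := rfl
theorem L787646 : sm ga N59744 = N58543 := ded_13_1 (flp_e L775791) (flp_a L775749) L787644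
theorem L787648 : sm gb N59744 = N58569 := ded_21_1 L776121 (flp_b L775751) L787644
theorem L787650 : sm gg N59744 = N58840 := ded_41_2 L779091 (flp_g L775755) L787644
theorem L787652 : sm gj N59744 = N58557 := ded_42_2 (flp_e L775955) (flp_j L775757) L787644
theorem L787654 : sm gh N59744 = N58564 := ded_43_2 L776051 (flp_h L775761) L787644
theorem L787656 : sm gi N59744 = N59005 := ded_44_2 (flp_e L780720) (flp_i L775759) L787644
theorem L787658 : sm gd N59744 = N58541 := ded_34_1 (flp_e L775763) (flp_d L764277) (flp_e L764267) L775747 L787644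
theorem L787660 : sm gf N59744 = N58560 := ded_40_2 (flp_e L775997) L764469 (flp_e L768721) (flp_f L775753) L787644
theorem L787662 : sm gb N58542 = N59745 := rfl
theorem L787664 : sm gd N59745 = N59006 := ded_20_2 (flp_b L780728) (flp_d L775789) L787662
theorem L787666 : sm gf N59745 = N59418 := ded_22_2 (flp_b L783964) (flp_f L775783) L787662
theorem L787668 : sm gj N59745 = N58562 := ded_24_2 (flp_b L776027) (flp_j L775785) L787662
theorem L787670 : sm gh N59745 = N59135 := ded_25_2 (flp_b L781911) (flp_h L775787) L787662
theorem L787672 : sm gc N59745 = N58545 := ded_19_2 (flp_b L775819) (flp_c L764313) (flp_b L764297) L775781 L787662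
theorem L787674 : sm ge N58542 = N59746 := rfl
theorem L787676 : sm gc N59746 = N58543 := ded_28_1 (flp_e L775791) L775781 L787674
theorem L787678 : sm gj N59746 = N58563 := ded_42_2 (flp_e L776035) (flp_j L775785) L787674
theorem L787680 : sm gh N59746 = N59136 := ded_43_2 (flp_e L781919) (flp_h L775787) L787674
theorem L787682 : sm gf N58543 = N59747 := rfl
theorem L787684 : sm ga N59747 = N58560 := ded_14_1 (flp_f L787660) L787646 L787682
theorem L787686 : sm gb N59747 = N58547 := ded_22_1 (flp_f L775839) (flp_b L775793) L787682
theorem L787688 : sm gd N59747 = N58544 := ded_35_1 (flp_f L775801) (flp_d L775799) L787682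
theorem L787690 : sm gj N59747 = N58564 := ded_46_2 (flp_f L776041) (flp_j L775795) L787682
theorem L787692 : sm gh N59747 = N58557 := ded_47_2 L775967 (flp_h L775797) L787682
theorem L787694 : sm gi N59747 = N59279 := ded_48_2 (flp_f L787128) L787124 L787682
theorem L787696 : sm ge N59747 = N58555 := ded_40_1 L775933 L768821 (flp_f L764299) L775791 L787682
theorem L787698 : sm gg N59747 = N58589 := ded_45_2 (flp_f L786093) L786095 L785745 L785737 L787682
theorem L787700 : sm ga N58545 = N59748 := rfl
theorem L787702 : sm gd N59748 = N58554 := ded_12_2 (flp_a L775921) (flp_d L775821) L787700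
theorem L787704 : sm gf N59748 = N59421 := ded_14_2 (flp_a L783978) (flp_f L775823) L787700
theorem L787706 : sm gj N59748 = N58573 := ded_16_2 (flp_a L776169) (flp_j L775825) L787700
theorem L787708 : sm gh N59748 = N59137 := ded_17_2 (flp_a L781923) (flp_h L775827) L787700
theorem L787710 : sm gb N59748 = N59506 := ded_10_2 (flp_a L784523) (flp_b L772875) (flp_a L764315) L775819 L787700
theorem L787712 : sm ge N58545 = N59749 := rfl
theorem L787714 : sm gb N59749 = N58546 := ded_21_1 (flp_e L775829) L775819 L787712
theorem L787716 : sm gj N59749 = N58574 := ded_42_2 (flp_e L776175) (flp_j L775825) L787712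
theorem L787718 : sm gh N59749 = N59138 := ded_43_2 (flp_e L781931) (flp_h L775827) L787712
theorem L787720 : sm gf N58546 = N59750 := rfl
theorem L787722 : sm ga N59750 = N59480 := ded_14_1 L784347 (flp_a L775831) L787720
theorem L787724 : sm gc N59750 = N58547 := ded_29_1 (flp_f L775839) (flp_c L775833) L787720
theorem L787726 : sm gj N59750 = N58575 := ded_46_2 (flp_f L776181) (flp_j L775835) L787720
theorem L787728 : sm gh N59750 = N58970 := ded_47_2 L780389 (flp_h L775837) L787720
theorem L787730 : sm ge N59750 = N58965 := ded_40_1 L780331 L768877 (flp_f L764317) L775829 L787720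
theorem L787732 : sm gg N58547 = N59751 := rfl
theorem L787734 : sm ga N59751 = N59169 := ded_15_1 L782224 (flp_a L775841) L787732
theorem L787736 : sm gb N59751 = N58589 := ded_23_1 (flp_g L787698) L787686 L787732
theorem L787738 : sm gd N59751 = N58548 := ded_36_1 (flp_g L775851) (flp_d L775843) L787732
theorem L787740 : sm ge N59751 = N58916 := ded_41_1 L779872 (flp_e L775849) L787732
theorem L787742 : sm gh N59751 = N58588 := ded_50_2 L776324 (flp_h L775847) L787732
theorem L787744 : sm gj N59751 = N58929 := ded_49_2 L780002 L776203 (flp_g L776189) (flp_j L775845) L787732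
theorem L787746 : sm gc N58549 = N59752 := rfl
theorem L787748 : sm ga N59752 = N58740 := ded_11_1 (flp_c L778110) (flp_a L775865) L787746
theorem L787750 : sm gg N59752 = N58577 := ded_30_2 (flp_c L776205) (flp_g L775869) L787746
theorem L787752 : sm gj N59752 = N58550 := ded_31_2 (flp_c L775877) (flp_j L775871) L787746
theorem L787754 : sm gh N59752 = N58671 := ded_32_2 (flp_c L777396) (flp_h L775875) L787746
theorem L787756 : sm gi N59752 = N59445 := ded_33_2 (flp_c L784121) (flp_i L775873) L787746
theorem L787758 : sm gd N59752 = N58881 := ded_27_2 (flp_c L779520) (flp_d L768087) (flp_c L764351) L775863 L787746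
theorem L787760 : sm ge N58549 = N59753 := rfl
theorem L787762 : sm ga N59753 = N58741 := ded_13_1 (flp_e L778118) (flp_a L775865) L787760
theorem L787764 : sm gb N59753 = N59021 := ded_21_1 (flp_e L780853) (flp_b L775867) L787760
theorem L787766 : sm gg N59753 = N58578 := ded_41_2 (flp_e L776211) (flp_g L775869) L787760
theorem L787768 : sm gj N59753 = N58551 := ded_42_2 (flp_e L775887) (flp_j L775871) L787760
theorem L787770 : sm gh N59753 = N58641 := ded_43_2 L777023 (flp_h L775875) L787760
theorem L787772 : sm gi N59753 = N59446 := ded_44_2 (flp_e L784125) (flp_i L775873) L787760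
theorem L787774 : sm gd N59753 = N58584 := ded_34_1 (flp_e L776257) (flp_d L764716) (flp_e L764353) L775863 L787760
theorem L787776 : sm gf N58785 = N59753 := ded_47_3 L787770 L777017 L778492
theorem L787778 : sm gb N58550 = N59754 := rfl
theorem L787780 : sm gd N59754 = N58898 := ded_20_2 (flp_b L779697) (flp_d L775885) L787778
theorem L787782 : sm gg N59754 = N58552 := ded_23_2 (flp_b L775899) (flp_g L775881) L787778
theorem L787784 : sm gh N59754 = N58681 := ded_25_2 (flp_b L777508) (flp_h L775883) L787778
theorem L787786 : sm gc N59754 = N59022 := ded_19_2 (flp_b L780863) (flp_c L769342) (flp_b L764365) L775877 L787778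
theorem L787788 : sm ge N58550 = N59755 := rfl
theorem L787790 : sm ga N59755 = N58766 := ded_13_1 (flp_e L778351) (flp_a L775879) L787788
theorem L787792 : sm gc N59755 = N58551 := ded_28_1 (flp_e L775887) L775877 L787788
theorem L787794 : sm gg N59755 = N58553 := ded_41_2 (flp_e L775911) (flp_g L775881) L787788
theorem L787796 : sm gh N59755 = N58682 := ded_43_2 (flp_e L777514) (flp_h L775883) L787788
theorem L787798 : sm gd N59755 = N59432 := ded_34_1 (flp_e L784040) L772418 (flp_e L768246) (flp_d L775885) L787788
theorem L787800 : sm gf N58551 = N59756 := rfl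
theorem L787802 : sm ga N59756 = N58767 := ded_14_1 (flp_f L778359) (flp_a L775889) L787800
theorem L787804 : sm gb N59756 = N59024 := ded_22_1 (flp_f L780873) (flp_b L775891) L787800
theorem L787806 : sm gd N59756 = N58585 := ded_35_1 (flp_f L776275) (flp_d L775897) L787800
theorem L787808 : sm gj N59756 = N58785 := ded_46_2 L787776 L787768 L787800
theorem L787810 : sm gh N59756 = N58683 := ded_47_2 (flp_f L777522) (flp_h L775895) L787800
theorem L787812 : sm ga N58552 = N59757 := rfl
theorem L787814 : sm gc N59757 = N59025 := ded_11_2 (flp_a L780877) (flp_c L775909) L787812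
theorem L787816 : sm gd N59757 = N59421 := ded_12_2 (flp_a L783978) (flp_d L775901) L787812
theorem L787818 : sm gf N59757 = N58554 := ded_14_2 (flp_a L775921) (flp_f L775903) L787812
theorem L787820 : sm gj N59757 = N58581 := ded_16_2 (flp_a L776237) (flp_j L775905) L787812
theorem L787822 : sm gh N59757 = N59329 := ded_17_2 (flp_a L783416) (flp_h L775907) L787812
theorem L787824 : sm gb N59757 = N59360 := ded_10_2 (flp_a L783593) (flp_b L771974) (flp_a L764373) L775899 L787812
theorem L787826 : sm ge N58552 = N59758 := rfl
theorem L787828 : sm gb N59758 = N58553 := ded_21_1 (flp_e L775911) L775899 L787826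
theorem L787830 : sm gc N59758 = N59026 := ded_28_1 (flp_e L780883) (flp_c L775909) L787826
theorem L787832 : sm gj N59758 = N58582 := ded_42_2 (flp_e L776243) (flp_j L775905) L787826
theorem L787834 : sm gh N59758 = N59330 := ded_43_2 (flp_e L783422) (flp_h L775907) L787826
theorem L787836 : sm gd N58553 = N59759 := rfl
theorem L787838 : sm ga N59759 = N59236 := ded_12_1 L782781 (flp_a L775913) L787836
theorem L787840 : sm gg N59759 = N59432 := ded_36_2 (flp_d L787798) L787794 L787836
theorem L787842 : sm gj N59759 = N58583 := ded_37_2 (flp_d L776249) (flp_j L775917) L787836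
theorem L787844 : sm gc N59759 = N58587 := ded_27_1 (flp_d L776306) L764767 (flp_d L764393) (flp_c L775915) L787836
theorem L787846 : sm ge N59759 = N58934 := ded_34_2 L780059 L768877 (flp_d L764381) L775911 L787836
theorem L787848 : sm gh N58939 = N59759 := ded_50_0 L787840 L784044 (flp_g L780088)
theorem L787850 : sm gc N58555 = N59760 := rfl
theorem L787852 : sm ga N59760 = N58559 := ded_11_1 (flp_c L775985) (flp_a L775929) L787850
theorem L787854 : sm gf N59760 = N58962 := ded_29_2 (flp_c L780291) (flp_f L775933) L787850
theorem L787856 : sm gg N59760 = N58918 := ded_30_2 (flp_c L779892) (flp_g L775935) L787850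
theorem L787858 : sm gj N59760 = N59134 := ded_31_2 (flp_c L781899) (flp_j L775937) L787850
theorem L787860 : sm gh N59760 = N58556 := ded_32_2 (flp_c L775943) (flp_h L775941) L787850
theorem L787862 : sm gi N59760 = N59278 := ded_33_2 (flp_c L783075) (flp_i L775939) L787850
theorem L787864 : sm gd N59760 = N58915 := ded_27_2 (flp_c L779852) (flp_d L768418) (flp_c L764407) L775927 L787850
theorem L787866 : sm gb N58556 = N59761 := rfl
theorem L787868 : sm gd N59761 = N59028 := ded_20_2 (flp_b L780897) (flp_d L775953) L787866
theorem L787870 : sm gf N59761 = N58963 := ded_22_2 (flp_b L780303) (flp_f L775947) L787866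
theorem L787872 : sm gg N59761 = N59254 := ded_23_2 (flp_b L782922) (flp_g L775949) L787866
theorem L787874 : sm gi N59761 = N59034 := ded_26_2 (flp_b L780950) (flp_i L775951) L787866
theorem L787876 : sm gc N59761 = N58969 := ded_19_2 (flp_b L780373) (flp_c L768897) (flp_b L764423) L775943 L787866
theorem L787878 : sm ge N58556 = N59762 := rfl
theorem L787880 : sm ga N59762 = N58563 := ded_13_1 (flp_e L776035) (flp_a L775945) L787878
theorem L787882 : sm gc N59762 = N58557 := ded_28_1 (flp_e L775955) L775943 L787878
theorem L787884 : sm gg N59762 = N58583 := ded_41_2 L776255 (flp_g L775949) L787878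
theorem L787886 : sm gi N59762 = N59035 := ded_44_2 (flp_e L780956) (flp_i L775951) L787878
theorem L787888 : sm gd N59762 = N58580 := ded_34_1 (flp_e L776231) (flp_d L776155) L776145 (flp_d L775953) L787878
theorem L787890 : sm gf N59762 = N59136 := ded_40_2 (flp_e L781919) L770349 (flp_e L768827) (flp_f L775947) L787878
theorem L787892 : sm gc N58558 = N59763 := rfl
theorem L787894 : sm ga N59763 = N59278 := ded_11_1 (flp_c L783075) (flp_a L775971) L787892
theorem L787896 : sm gf N59763 = N58991 := ded_29_2 (flp_c L780594) (flp_f L775975) L787892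
theorem L787898 : sm gg N59763 = N59257 := ded_30_2 (flp_c L782939) (flp_g L775977) L787892
theorem L787900 : sm gj N59763 = N58797 := ded_31_2 (flp_c L778624) (flp_j L775979) L787892
theorem L787902 : sm gh N59763 = N58993 := ded_32_2 (flp_c L780618) (flp_h L775983) L787892
theorem L787904 : sm gi N59763 = N58559 := ded_33_2 (flp_c L775985) (flp_i L775981) L787892
theorem L787906 : sm gd N59763 = N58796 := ded_27_2 (flp_c L778614) (flp_d L767258) (flp_c L764453) L775969 L787892
theorem L787908 : sm ge N58558 = N59764 := rfl
theorem L787910 : sm ga N59764 = N59279 := ded_13_1 (flp_e L783081) (flp_a L775971) L787908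
theorem L787912 : sm gb N59764 = N58566 := ded_21_1 (flp_e L776069) (flp_b L775973) L787908
theorem L787914 : sm gg N59764 = N59258 := ded_41_2 (flp_e L782943) (flp_g L775977) L787908
theorem L787916 : sm gj N59764 = N58798 := ded_42_2 (flp_e L778638) (flp_j L775979) L787908
theorem L787918 : sm gh N59764 = N58994 := ded_43_2 (flp_e L780626) (flp_h L775983) L787908
theorem L787920 : sm gi N59764 = N58560 := ded_44_2 (flp_e L775997) (flp_i L775981) L787908
theorem L787922 : sm gd N59764 = N58591 := ded_34_1 (flp_e L776351) (flp_d L764908) (flp_e L764455) L775969 L787908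
theorem L787924 : sm gf N59764 = N59005 := ded_40_2 (flp_e L780720) L769224 (flp_e L769119) (flp_f L775975) L787908
theorem L787926 : sm gb N58559 = N59765 := rfl
theorem L787928 : sm gd N59765 = N59387 := ded_20_2 (flp_b L783764) (flp_d L775995) L787926
theorem L787930 : sm gf N59765 = N59415 := ded_22_2 (flp_b L783946) (flp_f L775987) L787926
theorem L787932 : sm gg N59765 = N59259 := ded_23_2 (flp_b L782951) (flp_g L775989) L787926
theorem L787934 : sm gj N59765 = N59135 := ded_24_2 (flp_b L781911) (flp_j L775991) L787926
theorem L787936 : sm gh N59765 = N58562 := ded_25_2 (flp_b L776027) (flp_h L775993) L787926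
theorem L787938 : sm gc N59765 = N58567 := ded_19_2 (flp_b L776083) (flp_c L764537) (flp_b L764467) L775985 L787926
theorem L787940 : sm ge N58559 = N59766 := rfl
theorem L787942 : sm gc N59766 = N58560 := ded_28_1 (flp_e L775997) L775985 L787940
theorem L787944 : sm gg N59766 = N59260 := ded_41_2 (flp_e L782957) (flp_g L775989) L787940
theorem L787946 : sm gj N59766 = N59136 := ded_42_2 (flp_e L781919) (flp_j L775991) L787940
theorem L787948 : sm gh N59766 = N58563 := ded_43_2 (flp_e L776035) (flp_h L775993) L787940
theorem L787950 : sm gd N59766 = N59353 := ded_34_1 (flp_e L783555) (flp_d L779126) L779116 (flp_d L775995) L787940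
theorem L787952 : sm gb N58561 = N59767 := rfl
theorem L787954 : sm gd N59767 = N59034 := ded_20_2 (flp_b L780950) (flp_d L776025) L787952
theorem L787956 : sm ge N59767 = N59417 := ded_21_2 (flp_b L783960) (flp_e L776013) L787952
theorem L787958 : sm gf N59767 = N58562 := ded_22_2 (flp_b L776027) (flp_f L776015) L787952
theorem L787960 : sm gg N59767 = N59444 := ded_23_2 (flp_b L784117) (flp_g L776017) L787952
theorem L787962 : sm gj N59767 = N59418 := ded_24_2 (flp_b L783964) (flp_j L776019) L787952
theorem L787964 : sm gh N59767 = N59415 := ded_25_2 (flp_b L783946) (flp_h L776021) L787952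
theorem L787966 : sm gi N59767 = N59028 := ded_26_2 (flp_b L780897) (flp_i L776023) L787952
theorem L787968 : sm gc N59767 = N58572 := ded_19_2 (flp_b L776157) (flp_c L764597) (flp_b L764481) L776009 L787952
theorem L787970 : sm ga N58562 = N59768 := rfl
theorem L787972 : sm gc N59768 = N58573 := ded_11_2 (flp_a L776169) (flp_c L776033) L787970
theorem L787974 : sm gd N59768 = N59036 := ded_12_2 (flp_a L780960) (flp_d L776029) L787970
theorem L787976 : sm gg N59768 = N59264 := ded_15_2 (flp_a L782987) (flp_g L776031) L787970
theorem L787978 : sm ge N58562 = N59769 := rfl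
theorem L787980 : sm gb N59769 = N58563 := ded_21_1 (flp_e L776035) L776027 L787978
theorem L787982 : sm gc N59769 = N58574 := ded_28_1 (flp_e L776175) (flp_c L776033) L787978
theorem L787984 : sm gg N59769 = N59265 := ded_41_2 (flp_e L782993) (flp_g L776031) L787978
theorem L787986 : sm gf N58563 = N59770 := rfl
theorem L787988 : sm ga N59770 = N59136 := ded_14_1 (flp_f L787890) L787880 L787986
theorem L787990 : sm gc N59770 = N58564 := ded_29_1 (flp_f L776041) (flp_c L776037) L787986
theorem L787992 : sm gd N59770 = N58836 := ded_35_1 (flp_f L786693) L786691 L787986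
theorem L787994 : sm gi N59770 = N59281 := ded_48_2 (flp_f L787306) L787302 L787986
theorem L787996 : sm ge N59770 = N59134 := ded_40_1 L781903 (flp_e L776013) L776015 L776035 L787986
theorem L787998 : sm gg N59770 = N58839 := ded_45_2 L779079 (flp_g L781215) L781213 (flp_g L776039) L787986
theorem L788000 : sm gb N58565 = N59771 := rfl
theorem L788002 : sm gd N59771 = N59131 := ded_20_2 (flp_b L781861) (flp_d L776067) L788000
theorem L788004 : sm gf N59771 = N59019 := ded_22_2 L780839 (flp_f L776059) L788000
theorem L788006 : sm gg N59771 = N59272 := ded_23_2 (flp_b L783043) (flp_g L776061) L788000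
theorem L788008 : sm gj N59771 = N59063 := ded_24_2 L781177 (flp_j L776063) L788000
theorem L788010 : sm gi N59771 = N58567 := ded_26_2 (flp_b L776083) (flp_i L776065) L788000
theorem L788012 : sm ge N58565 = N59772 := rfl
theorem L788014 : sm ga N59772 = N59194 := ded_13_1 (flp_e L782441) (flp_a L776057) L788012
theorem L788016 : sm gc N59772 = N58566 := ded_28_1 (flp_e L776069) L776055 L788012
theorem L788018 : sm gg N59772 = N59273 := ded_41_2 (flp_e L783047) (flp_g L776061) L788012
theorem L788020 : sm gj N59772 = N59061 := ded_42_2 L781161 (flp_j L776063) L788012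
theorem L788022 : sm gi N59772 = N58568 := ded_44_2 (flp_e L776095) (flp_i L776065) L788012
theorem L788024 : sm gd N59772 = N59208 := ded_34_1 (flp_e L782568) L770994 (flp_e L770305) (flp_d L776067) L788012
theorem L788026 : sm gf N59772 = N59017 := ded_40_2 (flp_e L780825) L769306 L769324 (flp_f L776059) L788012
theorem L788028 : sm ga N58567 = N59773 := rfl
theorem L788030 : sm gd N59773 = N59133 := ded_12_2 (flp_a L781887) (flp_d L776085) L788028
theorem L788032 : sm gf N59773 = N59416 := ded_14_2 (flp_a L783952) (flp_f L776087) L788028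
theorem L788034 : sm gg N59773 = N59275 := ded_15_2 (flp_a L783059) (flp_g L776089) L788028
theorem L788036 : sm gj N59773 = N59137 := ded_16_2 (flp_a L781923) (flp_j L776091) L788028
theorem L788038 : sm gh N59773 = N58573 := ded_17_2 (flp_a L776169) (flp_h L776093) L788028
theorem L788040 : sm gb N59773 = N59483 := ded_10_2 (flp_a L784369) (flp_b L772735) (flp_a L764539) L776083 L788028
theorem L788042 : sm ge N58567 = N59774 := rfl
theorem L788044 : sm gb N59774 = N58568 := ded_21_1 (flp_e L776095) L776083 L788042
theorem L788046 : sm gg N59774 = N59276 := ded_41_2 (flp_e L783063) (flp_g L776089) L788042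
theorem L788048 : sm gj N59774 = N59138 := ded_42_2 (flp_e L781931) (flp_j L776091) L788042
theorem L788050 : sm gh N59774 = N58574 := ded_43_2 (flp_e L776175) (flp_h L776093) L788042
theorem L788052 : sm gd N59774 = N59248 := ded_34_1 (flp_e L782870) L771244 (flp_e L770327) (flp_d L776085) L788042
theorem L788054 : sm gf N58568 = N59775 := rfl
theorem L788056 : sm ga N59775 = N59485 := ded_14_1 (flp_f L784383) (flp_a L776097) L788054
theorem L788058 : sm gc N59775 = N58569 := ded_29_1 (flp_f L776109) (flp_c L776099) L788054
theorem L788060 : sm gd N59775 = N59249 := ded_35_1 (flp_f L782876) (flp_d L776107) L788054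
theorem L788062 : sm gj N59775 = N58970 := ded_46_2 L780389 (flp_j L776103) L788054
theorem L788064 : sm gh N59775 = N58575 := ded_47_2 (flp_f L776181) (flp_h L776105) L788054
theorem L788066 : sm gi N59775 = N59017 := ded_48_2 (flp_f L788026) L788022 L788054
theorem L788068 : sm ge N59775 = N58954 := ded_40_1 L780223 L768759 (flp_f L764541) L776095 L788054
theorem L788070 : sm gg N58569 = N59776 := rfl
theorem L788072 : sm ga N59776 = N59486 := ded_15_1 (flp_g L784393) (flp_a L776111) L788070
theorem L788074 : sm gb N59776 = N58840 := ded_23_1 (flp_g L787650) L787648 L788070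
theorem L788076 : sm gd N59776 = N58592 := ded_36_1 (flp_g L776368) (flp_d L776113) L788070
theorem L788078 : sm ge N59776 = N58953 := ded_41_1 L780211 (flp_e L776121) L788070
theorem L788080 : sm gh N59776 = N58576 := ded_50_2 (flp_g L776189) (flp_h L776117) L788070
theorem L788082 : sm gi N59776 = N59015 := ded_51_2 L780813 (flp_i L776119) L788070
theorem L788084 : sm gf N59776 = N59089 := ded_45_1 L781396 (flp_f L771409) (flp_g L764555) L776109 L788070
theorem L788086 : sm gj N59425 = N59776 := ded_24_0 L788074 L779095 (flp_b L784006)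
theorem L788088 : sm gc N58570 = N59777 := rfl
theorem L788090 : sm ga N59777 = N58991 := ded_11_1 (flp_c L780594) (flp_a L776125) L788088
theorem L788092 : sm ge N59777 = N59003 := ded_28_2 (flp_c L780700) (flp_e L776137) L788088
theorem L788094 : sm gf N59777 = N59278 := ded_29_2 (flp_c L783075) (flp_f L776129) L788088
theorem L788096 : sm gg N59777 = N58881 := ded_30_2 (flp_c L779520) (flp_g L776131) L788088
theorem L788098 : sm gj N59777 = N58571 := ded_31_2 (flp_c L776141) (flp_j L776133) L788088
theorem L788100 : sm gh N59777 = N58876 := ded_32_2 (flp_c L779471) (flp_h L776139) L788088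
theorem L788102 : sm gi N59777 = N58962 := ded_33_2 (flp_c L780291) (flp_i L776135) L788088
theorem L788104 : sm gd N59777 = N58577 := ded_27_2 (flp_c L776205) (flp_d L764647) (flp_c L764569) L776123 L788088
theorem L788106 : sm gb N58571 = N59778 := rfl
theorem L788108 : sm gd N59778 = N58579 := ded_20_2 (flp_b L776223) (flp_d L776155) L788106
theorem L788110 : sm ge N59778 = N59028 := ded_21_2 (flp_b L780897) (flp_e L776145) L788106
theorem L788112 : sm gf N59778 = N59280 := ded_22_2 (flp_b L783087) (flp_f L776147) L788106
theorem L788114 : sm gg N59778 = N58572 := ded_23_2 (flp_b L776157) (flp_g L776149) L788106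
theorem L788116 : sm gh N59778 = N59411 := ded_25_2 (flp_b L783924) (flp_h L776151) L788106
theorem L788118 : sm gi N59778 = N59417 := ded_26_2 (flp_b L783960) (flp_i L776153) L788106
theorem L788120 : sm gc N59778 = N59444 := ded_19_2 (flp_b L784117) (flp_c L772497) (flp_b L764585) L776141 L788106
theorem L788122 : sm ga N58572 = N59779 := rfl
theorem L788124 : sm gd N59779 = N58581 := ded_12_2 (flp_a L776237) (flp_d L776159) L788122
theorem L788126 : sm ge N59779 = N59493 := ded_13_2 (flp_a L784443) (flp_e L776161) L788122
theorem L788128 : sm gf N59779 = N58573 := ded_14_2 (flp_a L776169) (flp_f L776163) L788122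
theorem L788130 : sm gj N59779 = N59421 := ded_16_2 (flp_a L783978) (flp_j L776165) L788122
theorem L788132 : sm gh N59779 = N59416 := ded_17_2 (flp_a L783952) (flp_h L776167) L788122
theorem L788134 : sm gb N59779 = N59482 := ded_10_2 (flp_a L784359) (flp_b L772725) (flp_a L764599) L776157 L788122
theorem L788136 : sm ge N58573 = N59780 := rfl
theorem L788138 : sm ga N59780 = N58574 := ded_13_1 (flp_e L776175) L776169 L788136
theorem L788140 : sm gg N59780 = N59284 := ded_41_2 (flp_e L783109) (flp_g L776173) L788136
theorem L788142 : sm gf N58574 = N59781 := rfl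
theorem L788144 : sm gb N59781 = N58575 := ded_22_1 (flp_f L776181) (flp_b L776177) L788142
theorem L788146 : sm ge N59781 = N59492 := ded_40_1 L784441 (flp_e L776161) L776163 L776175 L788142
theorem L788148 : sm gg N58575 = N59782 := rfl
theorem L788150 : sm ga N59782 = N59495 := ded_15_1 L784457 (flp_a L776183) L788148
theorem L788152 : sm gc N59782 = N58576 := ded_30_1 (flp_g L776189) (flp_c L776185) L788148
theorem L788154 : sm ge N59782 = N59212 := ded_41_1 L782605 (flp_e L776187) L788148
theorem L788156 : sm gi N59782 = N59263 := ded_51_2 L787430 L787426 L788148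
theorem L788158 : sm gf N59782 = N59088 := ded_45_1 L781390 (flp_f L771449) (flp_g L764621) L776181 L788148
theorem L788160 : sm gj N59427 = N59782 := ded_31_0 L788152 (flp_j L776203) (flp_c L784018)
theorem L788162 : sm gb N58577 = N59783 := rfl
theorem L788164 : sm gf N59783 = N59286 := ded_22_2 (flp_b L783117) (flp_f L776207) L788162
theorem L788166 : sm gj N59783 = N58579 := ded_24_2 (flp_b L776223) (flp_j L776209) L788162
theorem L788168 : sm gc N59783 = N59064 := ded_19_2 (flp_b L781183) (flp_c L769596) (flp_b L764649) L776205 L788162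
theorem L788170 : sm ge N58577 = N59784 := rfl
theorem L788172 : sm gc N59784 = N58578 := ded_28_1 (flp_e L776211) L776205 L788170
theorem L788174 : sm gj N59784 = N58580 := ded_42_2 (flp_e L776231) (flp_j L776209) L788170
theorem L788176 : sm gh N59784 = N59357 := ded_43_2 (flp_e L784918) L784926 L788170
theorem L788178 : sm gf N59784 = N59353 := ded_40_2 (flp_e L783555) (flp_f L774620) L774618 (flp_f L776207) L788170
theorem L788180 : sm ga N58579 = N59785 := rfl
theorem L788182 : sm gc N59785 = N59066 := ded_11_2 (flp_a L781199) (flp_c L776229) L788180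
theorem L788184 : sm gf N59785 = N59287 := ded_14_2 (flp_a L783123) (flp_f L776225) L788180
theorem L788186 : sm gg N59785 = N58581 := ded_15_2 (flp_a L776237) (flp_g L776227) L788180
theorem L788188 : sm ge N58579 = N59786 := rfl
theorem L788190 : sm gb N59786 = N58580 := ded_21_1 (flp_e L776231) L776223 L788188
theorem L788192 : sm gc N59786 = N59067 := ded_28_1 (flp_e L781205) (flp_c L776229) L788188
theorem L788194 : sm gg N59786 = N58582 := ded_41_2 (flp_e L776243) (flp_g L776227) L788188
theorem L788196 : sm ge N58581 = N59787 := rfl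
theorem L788198 : sm ga N59787 = N58582 := ded_13_1 (flp_e L776243) L776237 L788196
theorem L788200 : sm gc N59787 = N59069 := ded_28_1 (flp_e L781219) (flp_c L776239) L788196
theorem L788202 : sm gd N58582 = N59788 := rfl
theorem L788204 : sm gb N59788 = N58583 := ded_20_1 (flp_d L776249) (flp_b L776245) L788202
theorem L788206 : sm ge N59788 = N59254 := ded_34_2 L782924 (flp_e L776161) L776159 L776243 L788202
theorem L788208 : sm gh N58583 = N59789 := rfl
theorem L788210 : sm ga N59789 = N59260 := ded_17_1 L782961 (flp_a L776251) L788208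
theorem L788212 : sm gc N59789 = N58589 := ded_32_1 (flp_h L776330) (flp_c L776253) L788208
theorem L788214 : sm ge N59789 = N58918 := ded_43_1 L779898 (flp_e L776255) L788208
theorem L788216 : sm gj N59789 = N58939 := ded_52_1 L787848 L787842 L788208
theorem L788218 : sm gd N58586 = N59790 := rfl
theorem L788220 : sm ga N59790 = N59155 := ded_12_1 L782086 (flp_a L776290) L788218
theorem L788222 : sm gb N59790 = N58587 := ded_20_1 (flp_d L776306) (flp_b L776292) L788218
theorem L788224 : sm gf N59790 = N59428 := ded_35_2 (flp_d L784020) (flp_f L776304) L788218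
theorem L788226 : sm gg N59790 = N59425 := ded_36_2 L784010 (flp_g L776296) L788218
theorem L788228 : sm gj N59790 = N58588 := ded_37_2 (flp_d L776318) (flp_j L776298) L788218
theorem L788230 : sm gi N59790 = N59054 := ded_39_2 L781109 (flp_i L776302) L788218
theorem L788232 : sm ge N59790 = N58926 := ded_34_2 (flp_d L779968) L768525 (flp_d L764747) L776288 L788218
theorem L788234 : sm gh N59790 = N58929 := ded_38_2 L780004 L768563 (flp_d L764849) (flp_h L776300) L788218
theorem L788236 : sm gc N58588 = N59791 := rfl
theorem L788238 : sm ga N59791 = N59171 := ded_11_1 L782238 (flp_a L776320) L788236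
theorem L788240 : sm ge N59791 = N58968 := ded_28_2 (flp_c L780361) (flp_e L776328) L788236
theorem L788242 : sm gg N59791 = N58970 := ded_30_2 L780385 (flp_g L776324) L788236
theorem L788244 : sm gi N59791 = N59056 := ded_33_2 L781121 (flp_i L776326) L788236
theorem L788246 : sm gd N59791 = N59088 := ded_27_2 (flp_c L781388) (flp_d L769806) (flp_c L764791) L776318 L788236
theorem L788248 : sm gi N58589 = N59792 := rfl
theorem L788250 : sm ga N59792 = N59258 := ded_18_1 L782947 (flp_a L776332) L788248
theorem L788252 : sm gd N59792 = N58590 := ded_39_1 (flp_i L776340) (flp_d L776338) L788248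
theorem L788254 : sm ge N59792 = N58693 := ded_44_1 L777651 (flp_e L776334) L788248
theorem L788256 : sm gg N59792 = N59279 := ded_51_1 (flp_i L787694) L787698 L788248
theorem L788258 : sm gj N59792 = N58703 := ded_53_1 L777745 (flp_j L776336) L788248
theorem L788260 : sm gc N58593 = N59793 := rfl
theorem L788262 : sm ga N59793 = N58708 := ded_11_1 (flp_c L777786) (flp_a L776388) L788260
theorem L788264 : sm ge N59793 = N58643 := ded_28_2 (flp_c L777039) (flp_e L776400) L788260
theorem L788266 : sm gf N59793 = N58629 := ded_29_2 (flp_c L776879) (flp_f L776392) L788260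
theorem L788268 : sm gg N59793 = N58658 := ded_30_2 (flp_c L777241) (flp_g L776394) L788260
theorem L788270 : sm gj N59793 = N58594 := ded_31_2 (flp_c L776404) (flp_j L776396) L788260
theorem L788272 : sm gh N59793 = N58796 := ded_32_2 (flp_c L778614) (flp_h L776402) L788260
theorem L788274 : sm gi N59793 = N58670 := ded_33_2 (flp_c L777386) (flp_i L776398) L788260
theorem L788276 : sm gd N59793 = N58734 := ded_27_2 (flp_c L778041) (flp_d L766702) (flp_c L764989) L776386 L788260
theorem L788278 : sm gb N58594 = N59794 := rfl
theorem L788280 : sm gd N59794 = N59343 := ded_20_2 (flp_b L783499) (flp_d L776418) L788278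
theorem L788282 : sm ge N59794 = N58649 := ded_21_2 (flp_b L777114) (flp_e L776408) L788278
theorem L788284 : sm gf N59794 = N59341 := ded_22_2 (flp_b L783485) (flp_f L776410) L788278
theorem L788286 : sm gg N59794 = N59109 := ded_23_2 (flp_b L781608) (flp_g L776412) L788278
theorem L788288 : sm gh N59794 = N58799 := ded_25_2 (flp_b L778654) (flp_h L776414) L788278
theorem L788290 : sm gi N59794 = N59327 := ded_26_2 (flp_b L783402) (flp_i L776416) L788278
theorem L788292 : sm gc N59794 = N58607 := ded_19_2 (flp_b L776606) (flp_c L765191) (flp_b L765005) L776404 L788278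
theorem L788294 : sm gc N58595 = N59795 := rfl
theorem L788296 : sm ga N59795 = N58614 := ded_11_1 (flp_c L776693) (flp_a L776422) L788294
theorem L788298 : sm ge N59795 = N58658 := ded_28_2 (flp_c L777241) (flp_e L776434) L788294
theorem L788300 : sm gf N59795 = N58618 := ded_29_2 (flp_c L776750) (flp_f L776426) L788294
theorem L788302 : sm gg N59795 = N58643 := ded_30_2 (flp_c L777039) (flp_g L776428) L788294
theorem L788304 : sm gj N59795 = N58599 := ded_31_2 (flp_c L776485) (flp_j L776430) L788294
theorem L788306 : sm gh N59795 = N58844 := ded_32_2 (flp_c L779138) (flp_h L776436) L788294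
theorem L788308 : sm gi N59795 = N58602 := ded_33_2 (flp_c L776532) (flp_i L776432) L788294
theorem L788310 : sm gd N59795 = N58622 := ded_27_2 (flp_c L776799) (flp_d L765395) (flp_c L765023) L776420 L788294
theorem L788312 : sm gc N58596 = N59796 := rfl
theorem L788314 : sm ga N59796 = N58618 := ded_11_1 (flp_c L776750) (flp_a L776440) L788312
theorem L788316 : sm gf N59796 = N58614 := ded_29_2 (flp_c L776693) (flp_f L776444) L788312
theorem L788318 : sm gg N59796 = N58755 := ded_30_2 (flp_c L778254) (flp_g L776446) L788312
theorem L788320 : sm gj N59796 = N58622 := ded_31_2 (flp_c L776799) (flp_j L776448) L788312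
theorem L788322 : sm gi N59796 = N58603 := ded_33_2 (flp_c L776546) (flp_i L776450) L788312
theorem L788324 : sm gd N59796 = N58599 := ded_27_2 (flp_c L776485) (flp_d L765088) (flp_c L765041) L776438 L788312
theorem L788326 : sm ge N58596 = N59797 := rfl
theorem L788328 : sm ga N59797 = N58619 := ded_13_1 (flp_e L776758) (flp_a L776440) L788326
theorem L788330 : sm gb N59797 = N58769 := ded_21_1 (flp_e L778373) (flp_b L776442) L788326
theorem L788332 : sm gg N59797 = N58756 := ded_41_2 (flp_e L778266) (flp_g L776446) L788326
theorem L788334 : sm gj N59797 = N58623 := ded_42_2 (flp_e L776805) (flp_j L776448) L788326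
theorem L788336 : sm gi N59797 = N58604 := ded_44_2 (flp_e L776560) (flp_i L776450) L788326
theorem L788338 : sm gd N59797 = N58597 := ded_34_1 (flp_e L776452) (flp_d L765053) (flp_e L765043) L776438 L788326
theorem L788340 : sm gf N59797 = N58714 := ded_40_2 (flp_e L777855) L766516 (flp_e L765312) (flp_f L776444) L788326
theorem L788342 : sm gc N58598 = N59798 := rfl
theorem L788344 : sm ga N59798 = N58622 := ded_11_1 (flp_c L776799) (flp_a L776471) L788342
theorem L788346 : sm gf N59798 = N58599 := ded_29_2 (flp_c L776485) (flp_f L776475) L788342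
theorem L788348 : sm gg N59798 = N59115 := ded_30_2 (flp_c L781676) (flp_g L776477) L788342
theorem L788350 : sm gj N59798 = N58618 := ded_31_2 (flp_c L776750) (flp_j L776479) L788342
theorem L788352 : sm gh N59798 = N59380 := ded_32_2 (flp_c L783715) (flp_h L776483) L788342
theorem L788354 : sm gi N59798 = N58605 := ded_33_2 (flp_c L776576) (flp_i L776481) L788342
theorem L788356 : sm gd N59798 = N58614 := ded_27_2 (flp_c L776693) (flp_d L765302) (flp_c L765076) L776469 L788342
theorem L788358 : sm ge N58598 = N59799 := rfl
theorem L788360 : sm ga N59799 = N58623 := ded_13_1 (flp_e L776805) (flp_a L776471) L788358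
theorem L788362 : sm gb N59799 = N59122 := ded_21_1 (flp_e L781769) (flp_b L776473) L788358
theorem L788364 : sm gg N59799 = N59116 := ded_41_2 (flp_e L781688) (flp_g L776477) L788358
theorem L788366 : sm gj N59799 = N58619 := ded_42_2 (flp_e L776758) (flp_j L776479) L788358
theorem L788368 : sm gh N59799 = N59381 := ded_43_2 (flp_e L783723) (flp_h L776483) L788358
theorem L788370 : sm gi N59799 = N58606 := ded_44_2 (flp_e L776590) (flp_i L776481) L788358
theorem L788372 : sm gd N59799 = N58600 := ded_34_1 (flp_e L776497) (flp_d L765102) (flp_e L765078) L776469 L788358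
theorem L788374 : sm gf N59799 = N58667 := ded_40_2 (flp_e L777355) L765958 (flp_e L765098) (flp_f L776475) L788358
theorem L788376 : sm gb N58599 = N59800 := rfl
theorem L788378 : sm ge N59800 = N58668 := ded_21_2 (flp_b L777363) (flp_e L776489) L788376
theorem L788380 : sm gg N59800 = N59291 := ded_23_2 (flp_b L783153) (flp_g L776491) L788376
theorem L788382 : sm gh N59800 = N59394 := ded_25_2 (flp_b L783811) (flp_h L776493) L788376
theorem L788384 : sm gi N59800 = N58607 := ded_26_2 (flp_b L776606) (flp_i L776495) L788376
theorem L788386 : sm gc N59800 = N59327 := ded_19_2 (flp_b L783402) (flp_c L771770) (flp_b L765092) L776485 L788376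
theorem L788388 : sm gc N58601 = N59801 := rfl
theorem L788390 : sm ga N59801 = N58627 := ded_11_1 (flp_c L776855) (flp_a L776516) L788388
theorem L788392 : sm ge N59801 = N58670 := ded_28_2 (flp_c L777386) (flp_e L776528) L788388
theorem L788394 : sm gf N59801 = N58647 := ded_29_2 (flp_c L777094) (flp_f L776520) L788388
theorem L788396 : sm gg N59801 = N58602 := ded_30_2 (flp_c L776532) (flp_g L776522) L788388
theorem L788398 : sm gj N59801 = N58642 := ded_31_2 (flp_c L777025) (flp_j L776524) L788388
theorem L788400 : sm gh N59801 = N58800 := ded_32_2 (flp_c L778664) (flp_h L776530) L788388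
theorem L788402 : sm gi N59801 = N58643 := ded_33_2 (flp_c L777039) (flp_i L776526) L788388
theorem L788404 : sm gd N59801 = N58636 := ded_27_2 (flp_c L776961) (flp_d L765555) (flp_c L765125) L776514 L788388
theorem L788406 : sm gb N58602 = N59802 := rfl
theorem L788408 : sm gd N59802 = N58638 := ded_20_2 (flp_b L776989) (flp_d L776544) L788406
theorem L788410 : sm ge N59802 = N58674 := ded_21_2 (flp_b L777430) (flp_e L776536) L788406
theorem L788412 : sm gf N59802 = N58633 := ded_22_2 (flp_b L776933) (flp_f L776538) L788406
theorem L788414 : sm gj N59802 = N58607 := ded_24_2 (flp_b L776606) (flp_j L776540) L788406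
theorem L788416 : sm gh N59802 = N58801 := ded_25_2 (flp_b L778678) (flp_h L776542) L788406
theorem L788418 : sm gb N58603 = N59803 := rfl
theorem L788420 : sm gd N59803 = N58607 := ded_20_2 (flp_b L776606) (flp_d L776558) L788418
theorem L788422 : sm gf N59803 = N58628 := ded_22_2 (flp_b L776871) (flp_f L776550) L788418
theorem L788424 : sm gg N59803 = N59293 := ded_23_2 (flp_b L783181) (flp_g L776552) L788418
theorem L788426 : sm gj N59803 = N58638 := ded_24_2 (flp_b L776989) (flp_j L776554) L788418
theorem L788428 : sm gh N59803 = N58826 := ded_25_2 (flp_b L778947) (flp_h L776556) L788418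
theorem L788430 : sm ge N58603 = N59804 := rfl
theorem L788432 : sm ga N59804 = N58634 := ded_13_1 (flp_e L776939) (flp_a L776548) L788430
theorem L788434 : sm gc N59804 = N58604 := ded_28_1 (flp_e L776560) L776546 L788430
theorem L788436 : sm gg N59804 = N59294 := ded_41_2 (flp_e L783185) (flp_g L776552) L788430
theorem L788438 : sm gj N59804 = N58639 := ded_42_2 (flp_e L776995) (flp_j L776554) L788430
theorem L788440 : sm gh N59804 = N58827 := ded_43_2 (flp_e L778955) (flp_h L776556) L788430
theorem L788442 : sm gd N59804 = N58682 := ded_34_1 (flp_e L777514) L766113 (flp_e L765195) (flp_d L776558) L788430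
theorem L788444 : sm gf N59804 = N58747 := ded_40_2 (flp_e L778168) L766794 (flp_e L765485) (flp_f L776550) L788430
theorem L788446 : sm gb N58605 = N59805 := rfl
theorem L788448 : sm gd N59805 = N58628 := ded_20_2 (flp_b L776871) (flp_d L776588) L788446
theorem L788450 : sm gf N59805 = N58607 := ded_22_2 (flp_b L776606) (flp_f L776580) L788446
theorem L788452 : sm gg N59805 = N59346 := ded_23_2 (flp_b L783517) (flp_g L776582) L788446
theorem L788454 : sm gj N59805 = N58633 := ded_24_2 (flp_b L776933) (flp_j L776584) L788446
theorem L788456 : sm gh N59805 = N58802 := ded_25_2 (flp_b L778688) (flp_h L776586) L788446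
theorem L788458 : sm gc N59805 = N59341 := ded_19_2 (flp_b L783485) (flp_c L771864) (flp_b L765181) L776576 L788446
theorem L788460 : sm ge N58605 = N59806 := rfl
theorem L788462 : sm ga N59806 = N58639 := ded_13_1 (flp_e L776995) (flp_a L776578) L788460
theorem L788464 : sm gc N59806 = N58606 := ded_28_1 (flp_e L776590) L776576 L788460
theorem L788466 : sm gg N59806 = N59347 := ded_41_2 (flp_e L783523) (flp_g L776582) L788460
theorem L788468 : sm gj N59806 = N58634 := ded_42_2 (flp_e L776939) (flp_j L776584) L788460
theorem L788470 : sm gh N59806 = N58803 := ded_43_2 (flp_e L778696) (flp_h L776586) L788460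
theorem L788472 : sm gd N59806 = N58745 := ded_34_1 (flp_e L778152) L766782 (flp_e L765485) (flp_d L776588) L788460
theorem L788474 : sm gf N59806 = N58685 := ded_40_2 (flp_e L777536) L766139 (flp_e L765195) (flp_f L776580) L788460
theorem L788476 : sm ga N58607 = N59807 := rfl
theorem L788478 : sm ge N59807 = N58686 := ded_13_2 (flp_a L777544) (flp_e L776608) L788476
theorem L788480 : sm gg N59807 = N59296 := ded_15_2 (flp_a L783199) (flp_g L776610) L788476
theorem L788482 : sm gh N59807 = N58804 := ded_17_2 (flp_a L778706) (flp_h L776612) L788476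
theorem L788484 : sm gb N59807 = N58640 := ded_10_2 (flp_a L777003) (flp_b L765583) (flp_a L765193) L776606 L788476
theorem L788486 : sm gd N58608 = N59808 := rfl
theorem L788488 : sm ga N59808 = N59297 := ded_12_1 (flp_d L783207) (flp_a L776616) L788486
theorem L788490 : sm gb N59808 = N58760 := ded_20_1 (flp_d L778308) (flp_b L776618) L788486
theorem L788492 : sm gf N59808 = N58752 := ded_35_2 (flp_d L778222) (flp_f L776623) L788486
theorem L788494 : sm gg N59808 = N58805 := ded_36_2 (flp_d L778718) (flp_g L776625) L788486
theorem L788496 : sm gj N59808 = N59305 := ded_37_2 (flp_d L783258) (flp_j L776627) L788486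
theorem L788498 : sm gi N59808 = N58751 := ded_39_2 (flp_d L778210) (flp_i L776629) L788486
theorem L788500 : sm gh N59808 = N58610 := ded_38_2 (flp_d L776648) (flp_h L765251) (flp_d L765225) L776614 L788486
theorem L788502 : sm gd N58609 = N59809 := rfl
theorem L788504 : sm ga N59809 = N59305 := ded_12_1 (flp_d L783258) (flp_a L776633) L788502
theorem L788506 : sm gb N59809 = N58720 := ded_20_1 (flp_d L777930) (flp_b L776635) L788502
theorem L788508 : sm gf N59809 = N58610 := ded_35_2 (flp_d L776648) (flp_f L776640) L788502
theorem L788510 : sm gg N59809 = N58813 := ded_36_2 (flp_d L778794) (flp_g L776642) L788502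
theorem L788512 : sm gj N59809 = N59297 := ded_37_2 (flp_d L783207) (flp_j L776644) L788502
theorem L788514 : sm gi N59809 = N58716 := ded_39_2 (flp_d L777871) (flp_i L776646) L788502
theorem L788516 : sm gh N59809 = N58752 := ded_38_2 (flp_d L778222) (flp_h L766857) (flp_d L765242) L776631 L788502
theorem L788518 : sm gc N58610 = N59810 := rfl
theorem L788520 : sm ga N59810 = N59308 := ded_11_1 (flp_c L783279) (flp_a L776650) L788518
theorem L788522 : sm gg N59810 = N58815 := ded_30_2 (flp_c L778822) (flp_g L776652) L788518
theorem L788524 : sm gi N59810 = N58807 := ded_33_2 (flp_c L778738) (flp_i L776654) L788518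
theorem L788526 : sm gd N59810 = N58613 := ded_27_2 (flp_c L776681) (flp_d L765288) (flp_c L765255) L776648 L788518
theorem L788528 : sm ge N58610 = N59811 := rfl
theorem L788530 : sm ga N59811 = N59309 := ded_13_1 (flp_e L783287) (flp_a L776650) L788528
theorem L788532 : sm gg N59811 = N58816 := ded_41_2 (flp_e L778834) (flp_g L776652) L788528
theorem L788534 : sm gi N59811 = N58808 := ded_44_2 (flp_e L778748) (flp_i L776654) L788528
theorem L788536 : sm gd N59811 = N58611 := ded_34_1 (flp_e L776656) (flp_d L765263) (flp_e L765257) L776648 L788528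
theorem L788538 : sm gf N58611 = N59812 := rfl
theorem L788540 : sm ga N59812 = N59321 := ded_14_1 (flp_f L783357) (flp_a L776658) L788538
theorem L788542 : sm gc N59812 = N58704 := ded_29_1 (flp_f L777749) (flp_c L776660) L788538
theorem L788544 : sm gh N59812 = N59812 := ded_47_2 (flp_f L788538) L776664 L788538
theorem L788545 : sm gi N59812 = N58809 := ded_48_2 (flp_f L778758) (flp_i L776665) L788538
theorem L788547 : sm ge N59812 = N59812 := ded_40_1 (flp_f L788538) (flp_e L776656) L765267 L776656 L788538
theorem L788548 : sm gg N59812 = N58983 := ded_45_2 (flp_f L780509) L769010 (flp_f L767510) (flp_g L776662) L788538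
theorem L788550 : sm gc N58612 = N59813 := rfl
theorem L788552 : sm ga N59813 = N59380 := ded_11_1 (flp_c L783715) (flp_a L776669) L788550
theorem L788554 : sm gf N59813 = N58613 := ded_29_2 (flp_c L776681) (flp_f L776673) L788550
theorem L788556 : sm gg N59813 = N59369 := ded_30_2 (flp_c L783643) (flp_g L776675) L788550
theorem L788558 : sm gh N59813 = N58622 := ded_32_2 (flp_c L776799) (flp_h L776679) L788550
theorem L788560 : sm gi N59813 = N58810 := ded_33_2 (flp_c L778769) (flp_i L776677) L788550
theorem L788562 : sm ge N58612 = N59814 := rfl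
theorem L788564 : sm ga N59814 = N59381 := ded_13_1 (flp_e L783723) (flp_a L776669) L788562
theorem L788566 : sm gb N59814 = N59152 := ded_21_1 (flp_e L782063) (flp_b L776671) L788562
theorem L788568 : sm gg N59814 = N59370 := ded_41_2 (flp_e L783649) (flp_g L776675) L788562
theorem L788570 : sm gh N59814 = N58623 := ded_43_2 (flp_e L776805) (flp_h L776679) L788562
theorem L788572 : sm gi N59814 = N58811 := ded_44_2 (flp_e L778777) (flp_i L776677) L788562
theorem L788574 : sm gd N59814 = N59814 := ded_34_1 (flp_e L788562) (flp_d L776667) L765281 L776667 L788562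
theorem L788575 : sm gf N59814 = N58706 := ded_40_2 (flp_e L777765) L766435 (flp_e L765298) (flp_f L776673) L788562
theorem L788577 : sm gb N58613 = N59815 := rfl
theorem L788579 : sm ge N59815 = N58707 := ded_21_2 (flp_b L777776) (flp_e L776685) L788577
theorem L788581 : sm gg N59815 = N59139 := ded_23_2 (flp_b L781937) (flp_g L776687) L788577
theorem L788583 : sm gh N59815 = N58624 := ded_25_2 (flp_b L776813) (flp_h L776689) L788577
theorem L788585 : sm gi N59815 = N58812 := ded_26_2 (flp_b L778786) (flp_i L776691) L788577
theorem L788587 : sm gc N59815 = N59153 := ded_19_2 (flp_b L782070) (flp_c L770486) (flp_b L765292) L776681 L788577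
theorem L788589 : sm gb N58614 = N59816 := rfl
theorem L788591 : sm ge N59816 = N58715 := ded_21_2 (flp_b L777865) (flp_e L776695) L788589
theorem L788593 : sm gg N59816 = N59354 := ded_23_2 (flp_b L783561) (flp_g L776697) L788589
theorem L788595 : sm gj N59816 = N58624 := ded_24_2 (flp_b L776813) (flp_j L776699) L788589
theorem L788597 : sm gi N59816 = N58628 := ded_26_2 (flp_b L776871) (flp_i L776701) L788589
theorem L788599 : sm gc N59816 = N59362 := ded_19_2 (flp_b L783605) (flp_c L771986) (flp_b L765304) L776693 L788589
theorem L788601 : sm gc N58615 = N59817 := rfl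
theorem L788603 : sm ga N59817 = N58734 := ded_11_1 (flp_c L778041) (flp_a L776705) L788601
theorem L788605 : sm gf N59817 = N58670 := ded_29_2 (flp_c L777386) (flp_f L776709) L788601
theorem L788607 : sm gg N59817 = N58711 := ded_30_2 (flp_c L777829) (flp_g L776711) L788601
theorem L788609 : sm gj N59817 = N59121 := ded_31_2 (flp_c L781755) (flp_j L776713) L788601
theorem L788611 : sm gh N59817 = N58877 := ded_32_2 (flp_c L779485) (flp_h L776717) L788601
theorem L788613 : sm gi N59817 = N58629 := ded_33_2 (flp_c L776879) (flp_i L776715) L788601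
theorem L788615 : sm gd N59817 = N58708 := ded_27_2 (flp_c L777786) (flp_d L766451) (flp_c L765320) L776703 L788601
theorem L788617 : sm ge N58615 = N59818 := rfl
theorem L788619 : sm ga N59818 = N58735 := ded_13_1 (flp_e L778049) (flp_a L776705) L788617
theorem L788621 : sm gb N59818 = N58619 := ded_21_1 (flp_e L776758) (flp_b L776707) L788617
theorem L788623 : sm gg N59818 = N58712 := ded_41_2 (flp_e L777837) (flp_g L776711) L788617
theorem L788625 : sm gj N59818 = N59122 := ded_42_2 (flp_e L781769) (flp_j L776713) L788617
theorem L788627 : sm gh N59818 = N58878 := ded_43_2 (flp_e L779493) (flp_h L776717) L788617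
theorem L788629 : sm gi N59818 = N58630 := ded_44_2 (flp_e L776887) (flp_i L776715) L788617
theorem L788631 : sm gd N59818 = N58616 := ded_34_1 (flp_e L776719) (flp_d L765332) (flp_e L765322) L776703 L788617
theorem L788633 : sm gf N59818 = N58648 := ded_40_2 (flp_e L777104) (flp_f L776520) L776528 (flp_f L776709) L788617
theorem L788635 : sm gc N58617 = N59819 := rfl
theorem L788637 : sm gf N59819 = N58844 := ded_29_2 (flp_c L779138) (flp_f L776740) L788635
theorem L788639 : sm gg N59819 = N59298 := ded_30_2 (flp_c L783215) (flp_g L776742) L788635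
theorem L788641 : sm gj N59819 = N59380 := ded_31_2 (flp_c L783715) (flp_j L776744) L788635
theorem L788643 : sm gh N59819 = N58618 := ded_32_2 (flp_c L776750) (flp_h L776748) L788635
theorem L788645 : sm gi N59819 = N59388 := ded_33_2 (flp_c L783770) (flp_i L776746) L788635
theorem L788647 : sm ge N58617 = N59820 := rfl
theorem L788649 : sm gb N59820 = N58878 := ded_21_1 (flp_e L779493) (flp_b L776738) L788647
theorem L788651 : sm gg N59820 = N59299 := ded_41_2 (flp_e L783219) (flp_g L776742) L788647
theorem L788653 : sm gj N59820 = N59381 := ded_42_2 (flp_e L783723) (flp_j L776744) L788647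
theorem L788655 : sm gh N59820 = N58619 := ded_43_2 (flp_e L776758) (flp_h L776748) L788647
theorem L788657 : sm gi N59820 = N59389 := ded_44_2 (flp_e L783778) (flp_i L776746) L788647
theorem L788659 : sm gd N59820 = N59820 := ded_34_1 (flp_e L788647) (flp_d L776736) L765353 L776736 L788647
theorem L788660 : sm gb N58618 = N59821 := rfl
theorem L788662 : sm gd N59821 = N58624 := ded_20_2 (flp_b L776813) (flp_d L776756) L788660
theorem L788664 : sm gg N59821 = N59300 := ded_23_2 (flp_b L783224) (flp_g L776752) L788660
theorem L788666 : sm gi N59821 = N58633 := ded_26_2 (flp_b L776933) (flp_i L776754) L788660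
theorem L788668 : sm ge N58618 = N59822 := rfl
theorem L788670 : sm gc N59822 = N58619 := ded_28_1 (flp_e L776758) L776750 L788668
theorem L788672 : sm gg N59822 = N59301 := ded_41_2 (flp_e L783230) (flp_g L776752) L788668
theorem L788674 : sm gi N59822 = N58634 := ded_44_2 (flp_e L776939) (flp_i L776754) L788668
theorem L788676 : sm gd N59822 = N58726 := ded_34_1 (flp_e L777979) L766599 (flp_e L765403) (flp_d L776756) L788668
theorem L788678 : sm gf N58619 = N59823 := rfl
theorem L788680 : sm ga N59823 = N58714 := ded_14_1 (flp_f L788340) L788328 L788678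
theorem L788682 : sm gb N59823 = N58648 := ded_22_1 (flp_f L788633) L788621 L788678
theorem L788684 : sm gd N59823 = N58620 := ded_35_1 (flp_f L776766) (flp_d L776764) L788678
theorem L788686 : sm gj N59823 = N58667 := ded_46_2 (flp_f L788374) L788366 L788678
theorem L788688 : sm gi N59823 = N58635 := ded_48_2 (flp_f L776947) (flp_i L776762) L788678
theorem L788690 : sm ge N59823 = N58645 := ded_40_1 L777072 (flp_e L776434) L776426 L776758 L788678
theorem L788692 : sm gg N58743 = N59823 := ded_23_0 L788682 L777108 (flp_b L778138)
theorem L788694 : sm gc N58621 = N59824 := rfl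
theorem L788696 : sm ga N59824 = N59115 := ded_11_1 (flp_c L781676) (flp_a L776785) L788694
theorem L788698 : sm gf N59824 = N58642 := ded_29_2 (flp_c L777025) (flp_f L776789) L788694
theorem L788700 : sm gg N59824 = N58622 := ded_30_2 (flp_c L776799) (flp_g L776791) L788694
theorem L788702 : sm gj N59824 = N58647 := ded_31_2 (flp_c L777094) (flp_j L776793) L788694
theorem L788704 : sm gh N59824 = N59369 := ded_32_2 (flp_c L783643) (flp_h L776797) L788694
theorem L788706 : sm gi N59824 = N58636 := ded_33_2 (flp_c L776961) (flp_i L776795) L788694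
theorem L788708 : sm gd N59824 = N58643 := ded_27_2 (flp_c L777039) (flp_d L765653) (flp_c L765383) L776783 L788694
theorem L788710 : sm ge N58621 = N59825 := rfl
theorem L788712 : sm ga N59825 = N59116 := ded_13_1 (flp_e L781688) (flp_a L776785) L788710
theorem L788714 : sm gb N59825 = N58667 := ded_21_1 (flp_e L777355) (flp_b L776787) L788710
theorem L788716 : sm gg N59825 = N58623 := ded_41_2 (flp_e L776805) (flp_g L776791) L788710
theorem L788718 : sm gj N59825 = N58648 := ded_42_2 (flp_e L777104) (flp_j L776793) L788710
theorem L788720 : sm gh N59825 = N59370 := ded_43_2 (flp_e L783649) (flp_h L776797) L788710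
theorem L788722 : sm gi N59825 = N58637 := ded_44_2 (flp_e L776973) (flp_i L776795) L788710
theorem L788724 : sm gd N59825 = N58625 := ded_34_1 (flp_e L776821) (flp_d L765426) (flp_e L765385) L776783 L788710
theorem L788726 : sm gf N59825 = N59122 := ded_40_2 (flp_e L781769) L770192 (flp_e L765649) (flp_f L776789) L788710
theorem L788728 : sm gb N58622 = N59826 := rfl
theorem L788730 : sm gf N59826 = N58624 := ded_22_2 (flp_b L776813) (flp_f L776801) L788728
theorem L788732 : sm gi N59826 = N58638 := ded_26_2 (flp_b L776989) (flp_i L776803) L788728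
theorem L788734 : sm ge N58622 = N59827 := rfl
theorem L788736 : sm gc N59827 = N58623 := ded_28_1 (flp_e L776805) L776799 L788734
theorem L788738 : sm gi N59827 = N58639 := ded_44_2 (flp_e L776995) (flp_i L776803) L788734
theorem L788740 : sm gf N59827 = N58731 := ded_40_2 (flp_e L778025) L766630 (flp_e L765403) (flp_f L776801) L788734
theorem L788742 : sm ga N58624 = N59828 := rfl
theorem L788744 : sm ge N59828 = N58732 := ded_13_2 (flp_a L778031) (flp_e L776815) L788742
theorem L788746 : sm gg N59828 = N59303 := ded_15_2 (flp_a L783244) (flp_g L776817) L788742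
theorem L788748 : sm gi N59828 = N58640 := ded_18_2 (flp_a L777003) (flp_i L776819) L788742
theorem L788750 : sm gd N58626 = N59829 := rfl
theorem L788752 : sm ga N59829 = N58712 := ded_12_1 L777845 (flp_a L776840) L788750
theorem L788754 : sm gb N59829 = N58680 := ded_20_1 L777506 (flp_b L776842) L788750
theorem L788756 : sm gf N59829 = N58733 := ded_35_2 (flp_d L778037) (flp_f L776853) L788750
theorem L788758 : sm gg N59829 = N58735 := ded_36_2 L778059 (flp_g L776846) L788750
theorem L788760 : sm gj N59829 = N58664 := ded_37_2 L777328 (flp_j L776848) L788750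
theorem L788762 : sm gi N59829 = N58641 := ded_39_2 (flp_d L777011) (flp_i L776851) L788750
theorem L788764 : sm ge N59829 = N58657 := ded_34_2 (flp_d L777225) L765855 (flp_d L765456) L776838 L788750
theorem L788766 : sm gh N58999 = N59829 := ded_25_0 L788754 (flp_h L787599) L787595
theorem L788768 : sm gb N58627 = N59830 := rfl
theorem L788770 : sm gd N59830 = N59346 := ded_20_2 (flp_b L783517) (flp_d L776869) L788768
theorem L788772 : sm ge N59830 = N58736 := ded_21_2 (flp_b L778063) (flp_e L776857) L788768
theorem L788774 : sm gf N59830 = N59332 := ded_22_2 (flp_b L783432) (flp_f L776859) L788768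
theorem L788776 : sm gg N59830 = N58628 := ded_23_2 (flp_b L776871) (flp_g L776861) L788768
theorem L788778 : sm gj N59830 = N59117 := ded_24_2 (flp_b L781702) (flp_j L776863) L788768
theorem L788780 : sm gh N59830 = N58824 := ded_25_2 (flp_b L778923) (flp_h L776865) L788768
theorem L788782 : sm gi N59830 = N59354 := ded_26_2 (flp_b L783561) (flp_i L776867) L788768
theorem L788784 : sm gc N59830 = N59113 := ded_19_2 (flp_b L781654) (flp_c L770118) (flp_b L765469) L776855 L788768
theorem L788786 : sm ga N58628 = N59831 := rfl
theorem L788788 : sm ge N59831 = N58748 := ded_13_2 (flp_a L778176) (flp_e L776873) L788786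
theorem L788790 : sm gj N59831 = N58640 := ded_16_2 (flp_a L777003) (flp_j L776875) L788786
theorem L788792 : sm gh N59831 = N58828 := ded_17_2 (flp_a L778965) (flp_h L776877) L788786
theorem L788794 : sm gb N58629 = N59832 := rfl
theorem L788796 : sm gd N59832 = N58736 := ded_20_2 (flp_b L778063) (flp_d L776885) L788794
theorem L788798 : sm gg N59832 = N58744 := ded_23_2 (flp_b L778144) (flp_g L776881) L788794
theorem L788800 : sm gj N59832 = N59341 := ded_24_2 (flp_b L783485) (flp_j L776883) L788794
theorem L788802 : sm gc N59832 = N58633 := ded_19_2 (flp_b L776933) (flp_c L765529) (flp_b L765493) L776879 L788794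
theorem L788804 : sm ge N58629 = N59833 := rfl
theorem L788806 : sm ga N59833 = N59357 := ded_13_1 (flp_e L784918) L784916 L788804
theorem L788808 : sm gc N59833 = N58630 := ded_28_1 (flp_e L776887) L776879 L788804
theorem L788810 : sm gg N59833 = N58745 := ded_41_2 (flp_e L778152) (flp_g L776881) L788804
theorem L788812 : sm gj N59833 = N59342 := ded_42_2 (flp_e L783491) (flp_j L776883) L788804
theorem L788814 : sm gd N59833 = N59347 := ded_34_1 (flp_e L783523) (flp_d L776869) L776857 (flp_d L776885) L788804
theorem L788816 : sm gf N59833 = N59351 := ded_40_2 (flp_e L783543) (flp_f L777043) (flp_e L788264) L788266 L788804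
theorem L788818 : sm gb N58631 = N59834 := rfl
theorem L788820 : sm gd N59834 = N58830 := ded_20_2 (flp_b L778987) (flp_d L776915) L788818
theorem L788822 : sm gf N59834 = N58801 := ded_22_2 (flp_b L778678) (flp_f L776905) L788818
theorem L788824 : sm gg N59834 = N59310 := ded_23_2 (flp_b L783295) (flp_g L776907) L788818
theorem L788826 : sm gj N59834 = N58802 := ded_24_2 (flp_b L778688) (flp_j L776909) L788818
theorem L788828 : sm gh N59834 = N58633 := ded_25_2 (flp_b L776933) (flp_h L776911) L788818
theorem L788830 : sm gi N59834 = N59391 := ded_26_2 (flp_b L783791) (flp_i L776913) L788818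
theorem L788832 : sm ge N58631 = N59835 := rfl
theorem L788834 : sm ga N59835 = N58827 := ded_13_1 (flp_e L778955) (flp_a L776903) L788832
theorem L788836 : sm gc N59835 = N58632 := ded_28_1 (flp_e L776917) L776901 L788832
theorem L788838 : sm gg N59835 = N59311 := ded_41_2 (flp_e L783301) (flp_g L776907) L788832
theorem L788840 : sm gj N59835 = N58803 := ded_42_2 (flp_e L778696) (flp_j L776909) L788832
theorem L788842 : sm gh N59835 = N58634 := ded_43_2 (flp_e L776939) (flp_h L776911) L788832
theorem L788844 : sm gi N59835 = N59392 := ded_44_2 (flp_e L783799) (flp_i L776913) L788832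
theorem L788846 : sm gd N59835 = N59408 := ded_34_1 (flp_e L783904) L772281 (flp_e L767604) (flp_d L776915) L788832
theorem L788848 : sm gf N59835 = N58889 := ded_40_2 (flp_e L779600) L768149 (flp_e L767325) (flp_f L776905) L788832
theorem L788850 : sm ga N58633 = N59836 := rfl
theorem L788852 : sm gd N59836 = N58640 := ded_12_2 (flp_a L777003) (flp_d L776935) L788850
theorem L788854 : sm gg N59836 = N59316 := ded_15_2 (flp_a L783329) (flp_g L776937) L788850
theorem L788856 : sm ge N58633 = N59837 := rfl
theorem L788858 : sm gb N59837 = N58634 := ded_21_1 (flp_e L776939) L776933 L788856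
theorem L788860 : sm gg N59837 = N59317 := ded_41_2 (flp_e L783333) (flp_g L776937) L788856
theorem L788862 : sm gd N59837 = N58774 := ded_34_1 (flp_e L778407) L766980 (flp_e L765585) (flp_d L776935) L788856
theorem L788864 : sm gf N58634 = N59838 := rfl
theorem L788866 : sm ga N59838 = N58747 := ded_14_1 (flp_f L788444) L788432 L788864
theorem L788868 : sm gc N59838 = N58635 := ded_29_1 (flp_f L776947) (flp_c L776941) L788864
theorem L788870 : sm gd N59838 = N58775 := ded_35_1 (flp_f L778413) (flp_d L776945) L788864
theorem L788872 : sm gj N59838 = N58685 := ded_46_2 (flp_f L788474) L788468 L788864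
theorem L788874 : sm gh N59838 = N58889 := ded_47_2 (flp_f L788848) L788842 L788864
theorem L788876 : sm ge N59838 = N58673 := ded_40_1 L777424 (flp_e L776536) L776538 L776939 L788864
theorem L788878 : sm gb N58636 = N59839 := rfl
theorem L788880 : sm gf N59839 = N58649 := ded_22_2 (flp_b L777114) (flp_f L776965) L788878
theorem L788882 : sm gg N59839 = N58638 := ded_23_2 (flp_b L776989) (flp_g L776967) L788878
theorem L788884 : sm gj N59839 = N59350 := ded_24_2 (flp_b L783541) (flp_j L776969) L788878
theorem L788886 : sm gh N59839 = N58835 := ded_25_2 (flp_b L779053) (flp_h L776971) L788878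
theorem L788888 : sm gc N59839 = N58684 := ded_19_2 (flp_b L777530) (flp_c L766135) (flp_b L765559) L776961 L788878
theorem L788890 : sm ge N58636 = N59840 := rfl
theorem L788892 : sm ga N59840 = N59347 := ded_13_1 (flp_e L783523) (flp_a L776963) L788890
theorem L788894 : sm gc N59840 = N58637 := ded_28_1 (flp_e L776973) L776961 L788890
theorem L788896 : sm gg N59840 = N58639 := ded_41_2 (flp_e L776995) (flp_g L776967) L788890
theorem L788898 : sm gj N59840 = N59351 := ded_42_2 (flp_e L783543) (flp_j L776969) L788890
theorem L788900 : sm gh N59840 = N58836 := ded_43_2 (flp_e L779061) (flp_h L776971) L788890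
theorem L788902 : sm gd N59840 = N59357 := ded_34_1 (flp_e L784918) L784930 (flp_e L788392) L788404 L788890
theorem L788904 : sm gf N59840 = N59342 := ded_40_2 (flp_e L783491) (flp_f L776410) L776408 (flp_f L776965) L788890
theorem L788906 : sm ga N58638 = N59841 := rfl
theorem L788908 : sm gf N59841 = N58640 := ded_14_2 (flp_a L777003) (flp_f L776991) L788906
theorem L788910 : sm gh N59841 = N58837 := ded_17_2 (flp_a L779067) (flp_h L776993) L788906
theorem L788912 : sm ge N58638 = N59842 := rfl
theorem L788914 : sm gb N59842 = N58639 := ded_21_1 (flp_e L776995) L776989 L788912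
theorem L788916 : sm gh N59842 = N58838 := ded_43_2 (flp_e L779071) (flp_h L776993) L788912
theorem L788918 : sm gf N59842 = N58781 := ded_40_2 (flp_e L778461) L767036 (flp_e L765585) (flp_f L776991) L788912
theorem L788920 : sm gd N58639 = N59843 := rfl
theorem L788922 : sm ga N59843 = N58745 := ded_12_1 (flp_d L788472) L788462 L788920
theorem L788924 : sm gf N59843 = N58782 := ded_35_2 (flp_d L778467) (flp_f L777001) L788920
theorem L788926 : sm gg N59843 = N59357 := ded_36_2 (flp_d L788902) L788896 L788920
theorem L788928 : sm gj N59843 = N58682 := ded_37_2 (flp_d L788442) L788438 L788920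
theorem L788930 : sm gc N59843 = N58641 := ded_27_1 (flp_d L777011) L765613 (flp_d L765579) (flp_c L776997) L788920
theorem L788932 : sm ge N59843 = N58671 := ded_34_2 L777402 (flp_e L776536) L776544 L776995 L788920
theorem L788934 : sm gb N58642 = N59844 := rfl
theorem L788936 : sm gd N59844 = N59350 := ded_20_2 (flp_b L783541) (flp_d L777037) L788934
theorem L788938 : sm ge N59844 = N59327 := ded_21_2 (flp_b L783402) (flp_e L777029) L788934
theorem L788940 : sm gg N59844 = N59292 := ded_23_2 (flp_b L783167) (flp_g L777031) L788934
theorem L788942 : sm gh N59844 = N59371 := ded_25_2 (flp_b L783656) (flp_h L777033) L788934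
theorem L788944 : sm gi N59844 = N58649 := ded_26_2 (flp_b L777114) (flp_i L777035) L788934
theorem L788946 : sm gc N59844 = N58668 := ded_19_2 (flp_b L777363) (flp_c L765962) (flp_b L765643) L777025 L788934
theorem L788948 : sm gb N58643 = N59845 := rfl
theorem L788950 : sm gf N59845 = N59350 := ded_22_2 (flp_b L783541) (flp_f L777043) L788948
theorem L788952 : sm gj N59845 = N58649 := ded_24_2 (flp_b L777114) (flp_j L777045) L788948
theorem L788954 : sm gh N59845 = N58847 := ded_25_2 (flp_b L779164) (flp_h L777047) L788948
theorem L788956 : sm gc N59845 = N58674 := ded_19_2 (flp_b L777430) (flp_c L766057) (flp_b L765657) L777039 L788948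
theorem L788958 : sm gd N58644 = N59846 := rfl
theorem L788960 : sm ga N59846 = N58694 := ded_12_1 (flp_d L777653) (flp_a L777051) L788958
theorem L788962 : sm gb N59846 = N58646 := ded_20_1 (flp_d L777080) (flp_b L777053) L788958
theorem L788964 : sm gf N59846 = N58650 := ded_35_2 (flp_d L777122) (flp_f L777058) L788958
theorem L788966 : sm gg N59846 = N58738 := ded_36_2 (flp_d L778088) (flp_g L777060) L788958
theorem L788968 : sm gj N59846 = N58655 := ded_37_2 (flp_d L777199) (flp_j L777062) L788958
theorem L788970 : sm gi N59846 = N58853 := ded_39_2 (flp_d L779209) (flp_i L777064) L788958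
theorem L788972 : sm gh N59846 = N58645 := ded_38_2 (flp_d L777066) (flp_h L765682) (flp_d L765673) L777049 L788958
theorem L788974 : sm gc N58645 = N59847 := rfl
theorem L788976 : sm ga N59847 = N58713 := ded_11_1 (flp_c L777847) (flp_a L777068) L788974
theorem L788978 : sm gf N59847 = N58658 := ded_29_2 (flp_c L777241) (flp_f L777072) L788974
theorem L788980 : sm gg N59847 = N58742 := ded_30_2 (flp_c L778128) (flp_g L777074) L788974
theorem L788982 : sm gj N59847 = N58666 := ded_31_2 (flp_c L777347) (flp_j L777076) L788974
theorem L788984 : sm gi N59847 = N58673 := ded_33_2 (flp_c L777420) (flp_i L777078) L788974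
theorem L788986 : sm gd N59847 = N58675 := ded_27_2 (flp_c L777436) (flp_d L766065) (flp_c L765688) L777066 L788974
theorem L788988 : sm gc N58646 = N59848 := rfl
theorem L788990 : sm ga N59848 = N58822 := ded_11_1 (flp_c L778904) (flp_a L777082) L788988
theorem L788992 : sm gf N59848 = N58800 := ded_29_2 (flp_c L778664) (flp_f L777084) L788988
theorem L788994 : sm gg N59848 = N59306 := ded_30_2 (flp_c L783266) (flp_g L777086) L788988
theorem L788996 : sm gj N59848 = N59369 := ded_31_2 (flp_c L783643) (flp_j L777088) L788988
theorem L788998 : sm gh N59848 = N58647 := ded_32_2 (flp_c L777094) (flp_h L777092) L788988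
theorem L789000 : sm gi N59848 = N59377 := ded_33_2 (flp_c L783700) (flp_i L777090) L788988
theorem L789002 : sm gd N59848 = N58848 := ded_27_2 (flp_c L779170) (flp_d L767777) (flp_c L765704) L777080 L788988
theorem L789004 : sm ge N58646 = N59849 := rfl
theorem L789006 : sm ga N59849 = N58823 := ded_13_1 (flp_e L778912) (flp_a L777082) L789004
theorem L789008 : sm gg N59849 = N59307 := ded_41_2 (flp_e L783274) (flp_g L777086) L789004
theorem L789010 : sm gj N59849 = N59370 := ded_42_2 (flp_e L783649) (flp_j L777088) L789004
theorem L789012 : sm gh N59849 = N58648 := ded_43_2 (flp_e L777104) (flp_h L777092) L789004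
theorem L789014 : sm gi N59849 = N59378 := ded_44_2 (flp_e L783706) (flp_i L777090) L789004
theorem L789016 : sm gd N59849 = N59849 := ded_34_1 (flp_e L789004) (flp_d L777080) L765706 L777080 L789004
theorem L789017 : sm gf N59849 = N58878 := ded_40_2 (flp_e L779493) L768062 (flp_e L767319) (flp_f L777084) L789004
theorem L789019 : sm gb N58647 = N59850 := rfl
theorem L789021 : sm gd N59850 = N58649 := ded_20_2 (flp_b L777114) (flp_d L777102) L789019
theorem L789023 : sm gg N59850 = N59313 := ded_23_2 (flp_b L783313) (flp_g L777098) L789019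
theorem L789025 : sm gi N59850 = N59350 := ded_26_2 (flp_b L783541) (flp_i L777100) L789019
theorem L789027 : sm ge N58647 = N59851 := rfl
theorem L789029 : sm ga N59851 = N59333 := ded_13_1 (flp_e L783438) (flp_a L777096) L789027
theorem L789031 : sm gc N59851 = N58648 := ded_28_1 (flp_e L777104) L777094 L789027
theorem L789033 : sm gg N59851 = N59314 := ded_41_2 (flp_e L783319) (flp_g L777098) L789027
theorem L789035 : sm gi N59851 = N59351 := ded_44_2 (flp_e L783543) (flp_i L777100) L789027
theorem L789037 : sm gd N59851 = N59344 := ded_34_1 (flp_e L783505) (flp_d L776418) L776408 (flp_d L777102) L789027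
theorem L789039 : sm ga N58649 = N59852 := rfl
theorem L789041 : sm gc N59852 = N58686 := ded_11_2 (flp_a L777544) (flp_c L777120) L789039
theorem L789043 : sm gg N59852 = N59320 := ded_15_2 (flp_a L783349) (flp_g L777116) L789039
theorem L789045 : sm gh N59852 = N58852 := ded_17_2 (flp_a L779203) (flp_h L777118) L789039
theorem L789047 : sm gc N58650 = N59853 := rfl
theorem L789049 : sm ga N59853 = N58695 := ded_11_1 (flp_c L777665) (flp_a L777124) L789047
theorem L789051 : sm ge N59853 = N58844 := ded_28_2 (flp_c L779138) (flp_e L777134) L789047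
theorem L789053 : sm gg N59853 = N58796 := ded_30_2 (flp_c L778614) (flp_g L777128) L789047
theorem L789055 : sm gj N59853 = N58656 := ded_31_2 (flp_c L777213) (flp_j L777130) L789047
theorem L789057 : sm gh N59853 = N58658 := ded_32_2 (flp_c L777241) (flp_h L777136) L789047
theorem L789059 : sm gi N59853 = N58854 := ded_33_2 (flp_c L779221) (flp_i L777132) L789047
theorem L789061 : sm gd N59853 = N59257 := ded_27_2 (flp_c L782939) (flp_d L771310) (flp_c L765744) L777122 L789047
theorem L789063 : sm gd N58651 = N59854 := rfl
theorem L789065 : sm ga N59854 = N58700 := ded_12_1 (flp_d L777719) (flp_a L777140) L789063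
theorem L789067 : sm gb N59854 = N59204 := ded_20_1 (flp_d L782531) (flp_b L777142) L789063
theorem L789069 : sm gf N59854 = N59013 := ded_35_2 (flp_d L780795) (flp_f L777147) L789063
theorem L789071 : sm gg N59854 = N59157 := ded_36_2 (flp_d L782102) (flp_g L777149) L789063
theorem L789073 : sm gj N59854 = N58992 := ded_37_2 (flp_d L780606) (flp_j L777151) L789063
theorem L789075 : sm gi N59854 = N59201 := ded_39_2 (flp_d L782501) (flp_i L777153) L789063
theorem L789077 : sm gh N59854 = N58653 := ded_38_2 (flp_d L777172) (flp_h L765788) (flp_d L765762) L777138 L789063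
theorem L789079 : sm gd N58652 = N59855 := rfl
theorem L789081 : sm ga N59855 = N58701 := ded_12_1 (flp_d L777725) (flp_a L777157) L789079
theorem L789083 : sm gb N59855 = N59237 := ded_20_1 (flp_d L782783) (flp_b L777159) L789079
theorem L789085 : sm gf N59855 = N58653 := ded_35_2 (flp_d L777172) (flp_f L777164) L789079
theorem L789087 : sm gg N59855 = N59038 := ded_36_2 (flp_d L780978) (flp_g L777166) L789079
theorem L789089 : sm gj N59855 = N59007 := ded_37_2 (flp_d L780734) (flp_j L777168) L789079
theorem L789091 : sm gi N59855 = N58855 := ded_39_2 (flp_d L779235) (flp_i L777170) L789079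
theorem L789093 : sm gh N59855 = N59013 := ded_38_2 (flp_d L780795) (flp_h L769286) (flp_d L765779) L777155 L789079
theorem L789095 : sm gc N58653 = N59856 := rfl
theorem L789097 : sm ga N59856 = N58702 := ded_11_1 (flp_c L777733) (flp_a L777174) L789095
theorem L789099 : sm gg N59856 = N59160 := ded_30_2 (flp_c L782136) (flp_g L777178) L789095
theorem L789101 : sm gj N59856 = N59257 := ded_31_2 (flp_c L782939) (flp_j L777180) L789095
theorem L789103 : sm gi N59856 = N58856 := ded_33_2 (flp_c L779247) (flp_i L777182) L789095
theorem L789105 : sm gd N59856 = N58656 := ded_27_2 (flp_c L777213) (flp_d L765833) (flp_c L765794) L777172 L789095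
theorem L789107 : sm ge N58653 = N59857 := rfl
theorem L789109 : sm ga N59857 = N58703 := ded_13_1 (flp_e L777741) (flp_a L777174) L789107
theorem L789111 : sm gb N59857 = N59241 := ded_21_1 (flp_e L782816) (flp_b L777176) L789107
theorem L789113 : sm gg N59857 = N59161 := ded_41_2 (flp_e L782148) (flp_g L777178) L789107
theorem L789115 : sm gj N59857 = N59258 := ded_42_2 (flp_e L782943) (flp_j L777180) L789107
theorem L789117 : sm gi N59857 = N58857 := ded_44_2 (flp_e L779259) (flp_i L777182) L789107
theorem L789119 : sm gd N59857 = N58654 := ded_34_1 (flp_e L777184) (flp_d L765804) (flp_e L765796) L777172 L789107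
theorem L789121 : sm gf N58654 = N59858 := rfl
theorem L789123 : sm ga N59858 = N58704 := ded_14_1 (flp_f L777749) (flp_a L777186) L789121
theorem L789125 : sm gb N59858 = N59289 := ded_22_1 (flp_f L783140) (flp_b L777188) L789121
theorem L789127 : sm gc N59858 = N59321 := ded_29_1 (flp_f L783357) (flp_c L777190) L789121
theorem L789129 : sm gj N59858 = N59098 := ded_46_2 L781484 (flp_j L777194) L789121
theorem L789131 : sm gh N59858 = N59858 := ded_47_2 (flp_f L789121) L777196 L789121
theorem L789132 : sm gi N59858 = N58858 := ded_48_2 (flp_f L779273) (flp_i L777197) L789121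
theorem L789134 : sm ge N59858 = N59858 := ded_40_1 (flp_f L789121) (flp_e L777184) L765810 L777184 L789121
theorem L789135 : sm gc N58655 = N59859 := rfl
theorem L789137 : sm ga N59859 = N58705 := ded_11_1 (flp_c L777755) (flp_a L777201) L789135
theorem L789139 : sm gf N59859 = N58656 := ded_29_2 (flp_c L777213) (flp_f L777205) L789135
theorem L789141 : sm gg N59859 = N59151 := ded_30_2 (flp_c L782057) (flp_g L777207) L789135
theorem L789143 : sm gh N59859 = N58666 := ded_32_2 (flp_c L777347) (flp_h L777211) L789135
theorem L789145 : sm gi N59859 = N58859 := ded_33_2 (flp_c L779286) (flp_i L777209) L789135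
theorem L789147 : sm ge N58655 = N59860 := rfl
theorem L789149 : sm ga N59860 = N58706 := ded_13_1 (flp_e L777765) (flp_a L777201) L789147
theorem L789151 : sm gb N59860 = N59370 := ded_21_1 (flp_e L783649) (flp_b L777203) L789147
theorem L789153 : sm gg N59860 = N59152 := ded_41_2 (flp_e L782063) (flp_g L777207) L789147
theorem L789155 : sm gh N59860 = N58667 := ded_43_2 (flp_e L777355) (flp_h L777211) L789147
theorem L789157 : sm gi N59860 = N58860 := ded_44_2 (flp_e L779294) (flp_i L777209) L789147
theorem L789159 : sm gd N59860 = N59860 := ded_34_1 (flp_e L789147) (flp_d L777199) L765826 L777199 L789147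
theorem L789160 : sm gf N59860 = N59381 := ded_40_2 (flp_e L783723) L772110 (flp_e L765843) (flp_f L777205) L789147
theorem L789162 : sm gb N58656 = N59861 := rfl
theorem L789164 : sm ge N59861 = N59394 := ded_21_2 (flp_b L783811) (flp_e L777217) L789162
theorem L789166 : sm gg N59861 = N59166 := ded_23_2 (flp_b L782192) (flp_g L777219) L789162
theorem L789168 : sm gh N59861 = N58668 := ded_25_2 (flp_b L777363) (flp_h L777221) L789162
theorem L789170 : sm gi N59861 = N58861 := ded_26_2 (flp_b L779303) (flp_i L777223) L789162
theorem L789172 : sm gc N59861 = N59371 := ded_19_2 (flp_b L783656) (flp_c L772040) (flp_b L765837) L777213 L789162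
theorem L789174 : sm gc N58657 = N59862 := rfl
theorem L789176 : sm ga N59862 = N58711 := ded_11_1 (flp_c L777829) (flp_a L777227) L789174
theorem L789178 : sm gf N59862 = N58675 := ded_29_2 (flp_c L777436) (flp_f L777231) L789174
theorem L789180 : sm gg N59862 = N58734 := ded_30_2 (flp_c L778041) (flp_g L777233) L789174
theorem L789182 : sm gj N59862 = N58663 := ded_31_2 (flp_c L777310) (flp_j L777235) L789174
theorem L789184 : sm gh N59862 = N58998 := ded_32_2 (flp_c L780671) (flp_h L777239) L789174
theorem L789186 : sm gi N59862 = N58671 := ded_33_2 (flp_c L777396) (flp_i L777237) L789174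
theorem L789188 : sm gd N59862 = N58658 := ded_27_2 (flp_c L777241) (flp_d L765865) (flp_c L765853) L777225 L789174
theorem L789190 : sm gb N58658 = N59863 := rfl
theorem L789192 : sm gj N59863 = N58668 := ded_24_2 (flp_b L777363) (flp_j L777245) L789190
theorem L789194 : sm gi N59863 = N58674 := ded_26_2 (flp_b L777430) (flp_i L777247) L789190
theorem L789196 : sm gc N58659 = N59864 := rfl
theorem L789198 : sm ga N59864 = N58742 := ded_11_1 (flp_c L778128) (flp_a L777251) L789196
theorem L789200 : sm gf N59864 = N58671 := ded_29_2 (flp_c L777396) (flp_f L777255) L789196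
theorem L789202 : sm gg N59864 = N58713 := ded_30_2 (flp_c L777847) (flp_g L777257) L789196
theorem L789204 : sm gj N59864 = N58679 := ded_31_2 (flp_c L777490) (flp_j L777259) L789196
theorem L789206 : sm gi N59864 = N58675 := ded_33_2 (flp_c L777436) (flp_i L777261) L789196
theorem L789208 : sm gd N59864 = N58673 := ded_27_2 (flp_c L777420) (flp_d L766045) (flp_c L765879) L777249 L789196
theorem L789210 : sm ge N58659 = N59865 := rfl
theorem L789212 : sm ga N59865 = N58743 := ded_13_1 (flp_e L778136) (flp_a L777251) L789210
theorem L789214 : sm gb N59865 = N58664 := ded_21_1 (flp_e L777320) (flp_b L777253) L789210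
theorem L789216 : sm gg N59865 = N58714 := ded_41_2 (flp_e L777855) (flp_g L777257) L789210
theorem L789218 : sm gj N59865 = N58680 := ded_42_2 (flp_e L777498) (flp_j L777259) L789210
theorem L789220 : sm gi N59865 = N58676 := ded_44_2 (flp_e L777442) (flp_i L777261) L789210
theorem L789222 : sm gd N59865 = N58660 := ded_34_1 (flp_e L777263) (flp_d L765891) (flp_e L765881) L777249 L789210
theorem L789224 : sm gf N59865 = N58784 := ded_40_2 L778490 (flp_f L777017) L777023 (flp_f L777255) L789210
theorem L789226 : sm gc N58661 = N59866 := rfl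
theorem L789228 : sm ga N59866 = N58721 := ded_11_1 (flp_c L777938) (flp_a L777282) L789226
theorem L789230 : sm gf N59866 = N59020 := ded_29_2 (flp_c L780847) (flp_f L777284) L789226
theorem L789232 : sm gg N59866 = N59322 := ded_30_2 (flp_c L783363) (flp_g L777286) L789226
theorem L789234 : sm gj N59866 = N58998 := ded_31_2 (flp_c L780671) (flp_j L777288) L789226
theorem L789236 : sm gh N59866 = N58663 := ded_32_2 (flp_c L777310) (flp_h L777290) L789226
theorem L789238 : sm ge N58661 = N59867 := rfl
theorem L789240 : sm ga N59867 = N58722 := ded_13_1 (flp_e L777944) (flp_a L777282) L789238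
theorem L789242 : sm gg N59867 = N59323 := ded_41_2 (flp_e L783373) (flp_g L777286) L789238
theorem L789244 : sm gj N59867 = N58999 := ded_42_2 (flp_e L780677) (flp_j L777288) L789238
theorem L789246 : sm gh N59867 = N58664 := ded_43_2 (flp_e L777320) (flp_h L777290) L789238
theorem L789248 : sm gd N59867 = N59867 := ded_34_1 (flp_e L789238) (flp_d L777280) L765912 L777280 L789238
theorem L789249 : sm gc N58662 = N59868 := rfl
theorem L789251 : sm ga N59868 = N58723 := ded_11_1 (flp_c L777951) (flp_a L777294) L789249
theorem L789253 : sm ge N59868 = N59367 := ded_28_2 L783635 (flp_e L777306) L789249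
theorem L789255 : sm gf N59868 = N58663 := ded_29_2 (flp_c L777310) (flp_f L777298) L789249
theorem L789257 : sm gg N59868 = N58777 := ded_30_2 (flp_c L778425) (flp_g L777300) L789249
theorem L789259 : sm gj N59868 = N58675 := ded_31_2 (flp_c L777436) (flp_j L777302) L789249
theorem L789261 : sm gh N59868 = N59020 := ded_32_2 (flp_c L780847) (flp_h L777308) L789249
theorem L789263 : sm gi N59868 = N58679 := ded_33_2 (flp_c L777490) (flp_i L777304) L789249
theorem L789265 : sm gd N59868 = N58666 := ded_27_2 (flp_c L777347) (flp_d L765954) (flp_c L765925) L777292 L789249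
theorem L789267 : sm gb N58663 = N59869 := rfl
theorem L789269 : sm gd N59869 = N58668 := ded_20_2 (flp_b L777363) (flp_d L777318) L789267
theorem L789271 : sm gg N59869 = N59324 := ded_23_2 (flp_b L783382) (flp_g L777314) L789267
theorem L789273 : sm gi N59869 = N58681 := ded_26_2 (flp_b L777508) (flp_i L777316) L789267
theorem L789275 : sm ge N58663 = N59870 := rfl
theorem L789277 : sm ga N59870 = N58726 := ded_13_1 (flp_e L777979) (flp_a L777312) L789275
theorem L789279 : sm gc N59870 = N58664 := ded_28_1 (flp_e L777320) L777310 L789275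
theorem L789281 : sm gg N59870 = N59325 := ded_41_2 (flp_e L783388) (flp_g L777314) L789275
theorem L789283 : sm gi N59870 = N58682 := ded_44_2 (flp_e L777514) (flp_i L777316) L789275
theorem L789285 : sm gf N58664 = N59871 := rfl
theorem L789287 : sm ga N59871 = N58727 := ded_14_1 (flp_f L777987) (flp_a L777322) L789285
theorem L789289 : sm gb N59871 = N58784 := ded_22_1 (flp_f L789224) L789214 L789285
theorem L789291 : sm gd N59871 = N58665 := ded_35_1 (flp_f L777330) (flp_d L777328) L789285
theorem L789293 : sm gj N59871 = N58733 := ded_46_2 (flp_f L788756) L788760 L789285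
theorem L789295 : sm gi N59871 = N58683 := ded_48_2 (flp_f L777522) (flp_i L777326) L789285
theorem L789297 : sm ge N59871 = N58776 := ded_40_1 L778423 (flp_e L777306) L777298 L777320 L789285
theorem L789299 : sm gg N59871 = N58772 := ded_45_2 (flp_f L778395) (flp_g L778377) L778383 (flp_g L777324) L789285
theorem L789301 : sm gb N58666 = N59872 := rfl
theorem L789303 : sm gf N59872 = N58668 := ded_22_2 (flp_b L777363) (flp_f L777351) L789301
theorem L789305 : sm gi N59872 = N58684 := ded_26_2 (flp_b L777530) (flp_i L777353) L789301
theorem L789307 : sm ge N58666 = N59873 := rfl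
theorem L789309 : sm ga N59873 = N58731 := ded_13_1 (flp_e L778025) (flp_a L777349) L789307
theorem L789311 : sm gc N59873 = N58667 := ded_28_1 (flp_e L777355) L777347 L789307
theorem L789313 : sm gi N59873 = N58685 := ded_44_2 (flp_e L777536) (flp_i L777353) L789307
theorem L789315 : sm ga N58668 = N59874 := rfl
theorem L789317 : sm gg N59874 = N59326 := ded_15_2 (flp_a L783396) (flp_g L777365) L789315
theorem L789319 : sm gi N59874 = N58686 := ded_18_2 (flp_a L777544) (flp_i L777367) L789315
theorem L789321 : sm gb N59874 = N58732 := ded_10_2 (flp_a L778031) (flp_b L766640) (flp_a L765964) L777363 L789315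
theorem L789323 : sm gd N58669 = N59875 := rfl
theorem L789325 : sm ga N59875 = N58733 := ded_12_1 (flp_d L778037) (flp_a L777371) L789323
theorem L789327 : sm gb N59875 = N59302 := ded_20_1 L783240 (flp_b L777373) L789323
theorem L789329 : sm gf N59875 = N58712 := ded_35_2 L777845 (flp_f L777384) L789323
theorem L789331 : sm gg N59875 = N59315 := ded_36_2 L783325 (flp_g L777377) L789323
theorem L789333 : sm gj N59875 = N58727 := ded_37_2 L777989 (flp_j L777379) L789323
theorem L789335 : sm gi N59875 = N58689 := ded_39_2 (flp_d L777586) (flp_i L777382) L789323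
theorem L789337 : sm ge N59875 = N59319 := ded_34_2 L783347 L771705 (flp_d L766002) L777369 L789323
theorem L789339 : sm gb N58670 = N59876 := rfl
theorem L789341 : sm gg N59876 = N58674 := ded_23_2 (flp_b L777430) (flp_g L777390) L789339
theorem L789343 : sm gj N59876 = N59327 := ded_24_2 (flp_b L783402) (flp_j L777392) L789339
theorem L789345 : sm gh N59876 = N58879 := ded_25_2 (flp_b L779500) (flp_h L777394) L789339
theorem L789347 : sm gb N58671 = N59877 := rfl
theorem L789349 : sm gd N59877 = N58674 := ded_20_2 (flp_b L777430) (flp_d L777402) L789347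
theorem L789351 : sm gj N59877 = N58681 := ded_24_2 (flp_b L777508) (flp_j L777400) L789347
theorem L789353 : sm gc N58672 = N59878 := rfl
theorem L789355 : sm ga N59878 = N58675 := ded_11_1 (flp_c L777436) (flp_a L777406) L789353
theorem L789357 : sm gf N59878 = N58711 := ded_29_2 (flp_c L777829) (flp_f L777410) L789353
theorem L789359 : sm gg N59878 = N58673 := ded_30_2 (flp_c L777420) (flp_g L777412) L789353
theorem L789361 : sm gj N59878 = N58723 := ded_31_2 (flp_c L777951) (flp_j L777414) L789353
theorem L789363 : sm gh N59878 = N58886 := ded_32_2 (flp_c L779580) (flp_h L777418) L789353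
theorem L789365 : sm gi N59878 = N58742 := ded_33_2 (flp_c L778128) (flp_i L777416) L789353
theorem L789367 : sm gd N59878 = N58713 := ded_27_2 (flp_c L777847) (flp_d L766512) (flp_c L766033) L777404 L789353
theorem L789369 : sm gb N58673 = N59879 := rfl
theorem L789371 : sm gf N59879 = N58674 := ded_22_2 (flp_b L777430) (flp_f L777424) L789369
theorem L789373 : sm gj N59879 = N58684 := ded_24_2 (flp_b L777530) (flp_j L777426) L789369
theorem L789375 : sm gh N59879 = N58888 := ded_25_2 (flp_b L779594) (flp_h L777428) L789369
theorem L789377 : sm gc N59879 = N59350 := ded_19_2 (flp_b L783541) (flp_c L771922) (flp_b L766049) L777420 L789369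
theorem L789379 : sm ga N58674 = N59880 := rfl
theorem L789381 : sm gj N59880 = N58686 := ded_16_2 (flp_a L777544) (flp_j L777432) L789379
theorem L789383 : sm gh N59880 = N58890 := ded_17_2 (flp_a L779608) (flp_h L777434) L789379
theorem L789385 : sm gb N59880 = N58748 := ded_10_2 (flp_a L778176) (flp_b L766810) (flp_a L766059) L777430 L789379
theorem L789387 : sm gb N58675 = N59881 := rfl
theorem L789389 : sm gg N59881 = N58746 := ded_23_2 (flp_b L778158) (flp_g L777438) L789387
theorem L789391 : sm gh N59881 = N59022 := ded_25_2 (flp_b L780863) (flp_h L777440) L789387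
theorem L789393 : sm gc N59881 = N58681 := ded_19_2 (flp_b L777508) (flp_c L766107) (flp_b L766067) L777436 L789387
theorem L789395 : sm ge N58675 = N59882 := rfl
theorem L789397 : sm gc N59882 = N58676 := ded_28_1 (flp_e L777442) L777436 L789395
theorem L789399 : sm gg N59882 = N58747 := ded_41_2 (flp_e L778168) (flp_g L777438) L789395
theorem L789401 : sm gj N59882 = N59367 := ded_42_2 (flp_e L789253) L789259 L789395
theorem L789403 : sm gh N59882 = N59023 := ded_43_2 (flp_e L780867) (flp_h L777440) L789395
theorem L789405 : sm gf N58676 = N59883 := rfl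
theorem L789407 : sm ga N59883 = N59319 := ded_14_1 (flp_f L785008) L785004 L789405
theorem L789409 : sm gb N59883 = N58683 := ded_22_1 (flp_f L777522) (flp_b L777444) L789405
theorem L789411 : sm gd N59883 = N58678 := ded_35_1 (flp_f L777472) (flp_d L777452) L789405
theorem L789413 : sm gj N59883 = N58776 := ded_46_2 L778423 (flp_j L777448) L789405
theorem L789415 : sm gh N59883 = N59024 := ded_47_2 (flp_f L780873) (flp_h L777450) L789405
theorem L789417 : sm gi N59883 = N58784 := ded_48_2 (flp_f L789224) L789220 L789405
theorem L789419 : sm ge N59883 = N58733 := ded_40_1 (flp_f L788756) L788764 L777231 L777442 L789405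
theorem L789421 : sm gg N59883 = N59295 := ded_45_2 (flp_f L783193) (flp_g L776566) L776574 (flp_g L777446) L789405
theorem L789423 : sm gd N58677 = N59884 := rfl
theorem L789425 : sm ga N59884 = N58776 := ded_12_1 L778421 (flp_a L777456) L789423
theorem L789427 : sm gb N59884 = N59295 := ded_20_1 L783197 (flp_b L777458) L789423
theorem L789429 : sm gf N59884 = N58724 := ded_35_2 L777969 (flp_f L777470) L789423
theorem L789431 : sm gg N59884 = N58683 := ded_36_2 L777526 (flp_g L777462) L789423
theorem L789433 : sm gj N59884 = N59319 := ded_37_2 L783347 (flp_j L777464) L789423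
theorem L789435 : sm gi N59884 = N58772 := ded_39_2 L778397 (flp_i L777468) L789423
theorem L789437 : sm ge N59884 = N58727 := ded_34_2 L777989 L766614 (flp_d L766089) L777454 L789423
theorem L789439 : sm gb N58679 = N59885 := rfl
theorem L789441 : sm gd N59885 = N58684 := ded_20_2 (flp_b L777530) (flp_d L777496) L789439
theorem L789443 : sm gf N59885 = N58681 := ded_22_2 (flp_b L777508) (flp_f L777494) L789439
theorem L789445 : sm ge N58679 = N59886 := rfl
theorem L789447 : sm ga N59886 = N58771 := ded_13_1 (flp_e L778391) (flp_a L777492) L789445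
theorem L789449 : sm gc N59886 = N58680 := ded_28_1 (flp_e L777498) L777490 L789445
theorem L789451 : sm gg N59886 = N59340 := ded_41_2 (flp_e L784683) L784687 L789445
theorem L789453 : sm gi N59886 = N59367 := ded_44_2 (flp_e L789253) L789263 L789445
theorem L789455 : sm gf N58680 = N59887 := rfl
theorem L789457 : sm ga N59887 = N58772 := ded_14_1 (flp_f L778395) (flp_a L777500) L789455
theorem L789459 : sm gb N59887 = N58733 := ded_22_1 (flp_f L788756) L788754 L789455
theorem L789461 : sm gd N59887 = N58688 := ded_35_1 (flp_f L777569) (flp_d L777506) L789455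
theorem L789463 : sm gj N59887 = N58784 := ded_46_2 (flp_f L789224) L789218 L789455
theorem L789465 : sm gi N59887 = N58776 := ded_48_2 L778423 (flp_i L777504) L789455
theorem L789467 : sm ge N59887 = N58683 := ded_40_1 (flp_f L777522) (flp_e L766115) (flp_f L766105) L777498 L789455
theorem L789469 : sm gg N59887 = N58727 := ded_45_2 (flp_f L777987) L766603 L771854 (flp_g L777502) L789455
theorem L789471 : sm ga N58681 = N59888 := rfl
theorem L789473 : sm gd N59888 = N58686 := ded_12_2 (flp_a L777544) (flp_d L777510) L789471
theorem L789475 : sm gg N59888 = N59329 := ded_15_2 (flp_a L783416) (flp_g L777512) L789471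
theorem L789477 : sm gb N59888 = N58773 := ded_10_2 (flp_a L778401) (flp_b L766978) (flp_a L766109) L777508 L789471
theorem L789479 : sm ge N58681 = N59889 := rfl
theorem L789481 : sm gb N59889 = N58682 := ded_21_1 (flp_e L777514) L777508 L789479
theorem L789483 : sm gg N59889 = N59330 := ded_41_2 (flp_e L783422) (flp_g L777512) L789479
theorem L789485 : sm gf N58682 = N59890 := rfl
theorem L789487 : sm ga N59890 = N58775 := ded_14_1 (flp_f L778413) (flp_a L777516) L789485
theorem L789489 : sm gc N59890 = N58683 := ded_29_1 (flp_f L777522) (flp_c L777518) L789485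
theorem L789491 : sm gd N59890 = N58747 := ded_35_1 (flp_f L788444) L788442 L789485
theorem L789493 : sm gj N59890 = N58782 := ded_46_2 (flp_f L788924) L788928 L789485
theorem L789495 : sm ga N58684 = N59891 := rfl
theorem L789497 : sm gf N59891 = N58686 := ded_14_2 (flp_a L777544) (flp_f L777532) L789495
theorem L789499 : sm gh N59891 = N58902 := ded_17_2 (flp_a L779735) (flp_h L777534) L789495
theorem L789501 : sm gb N59891 = N58780 := ded_10_2 (flp_a L778455) (flp_b L767034) (flp_a L766137) L777530 L789495
theorem L789503 : sm ge N58684 = N59892 := rfl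
theorem L789505 : sm gb N59892 = N58685 := ded_21_1 (flp_e L777536) L777530 L789503
theorem L789507 : sm gh N59892 = N58903 := ded_43_2 (flp_e L779741) (flp_h L777534) L789503
theorem L789509 : sm gd N58685 = N59893 := rfl
theorem L789511 : sm ga N59893 = N58782 := ded_12_1 (flp_d L778467) (flp_a L777538) L789509
theorem L789513 : sm gf N59893 = N58745 := ded_35_2 (flp_d L788472) L788474 L789509
theorem L789515 : sm gj N59893 = N58775 := ded_37_2 (flp_d L788870) L788872 L789509
theorem L789517 : sm gc N59893 = N58689 := ded_27_1 (flp_d L777586) L766224 (flp_d L766149) (flp_c L777540) L789509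
theorem L789519 : sm gd N58687 = N59894 := rfl
theorem L789521 : sm ga N59894 = N58784 := ded_12_1 (flp_d L778488) (flp_a L777554) L789519
theorem L789523 : sm gb N59894 = N59315 := ded_20_1 L783325 (flp_b L777556) L789519
theorem L789525 : sm gf N59894 = N58743 := ded_35_2 L778142 (flp_f L777567) L789519
theorem L789527 : sm gg N59894 = N59302 := ded_36_2 L783240 (flp_g L777560) L789519
theorem L789529 : sm gj N59894 = N58772 := ded_37_2 L778397 (flp_j L777562) L789519
theorem L789531 : sm gi N59894 = N59319 := ded_39_2 L783347 (flp_i L777565) L789519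
theorem L789533 : sm ge N59894 = N58689 := ded_34_2 (flp_d L777586) (flp_e L766218) (flp_d L766190) L777552 L789519
theorem L789535 : sm gh N58689 = N59895 := rfl
theorem L789537 : sm ga N59895 = N58785 := ded_17_1 (flp_h L778492) (flp_a L777588) L789535
theorem L789539 : sm gb N59895 = N59312 := ded_25_1 L783311 (flp_b L777590) L789535
theorem L789541 : sm gf N59895 = N58741 := ded_47_1 L778124 (flp_f L777592) L789535
theorem L789543 : sm gj N59895 = N58767 := ded_52_1 L778363 (flp_j L777594) L789535
theorem L789545 : sm gd N59895 = N58690 := ded_38_1 (flp_h L777596) (flp_d L766232) (flp_h L766228) L777586 L789535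
theorem L789547 : sm gi N58690 = N59896 := rfl
theorem L789549 : sm ga N59896 = N58789 := ded_18_1 (flp_i L778536) (flp_a L777598) L789547
theorem L789551 : sm gb N59896 = N59321 := ded_26_1 L783360 (flp_b L777600) L789547
theorem L789553 : sm gc N59896 = N58914 := ded_33_1 (flp_i L779846) (flp_c L777602) L789547
theorem L789555 : sm ge N59896 = N59896 := ded_44_1 (flp_i L789547) L777604 L789547
theorem L789556 : sm gf N59896 = N58790 := ded_48_1 L778555 (flp_f L777605) L789547
theorem L789558 : sm gj N59896 = N58793 := ded_53_1 L778586 (flp_j L777607) L789547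
theorem L789560 : sm gh N59896 = N59896 := ded_54_1 (flp_i L789547) (flp_h L777596) L766242 L777596 L789547
theorem L789561 : sm gd N58691 = N59897 := rfl
theorem L789563 : sm ga N59897 = N58992 := ded_12_1 (flp_d L780606) (flp_a L777611) L789561
theorem L789565 : sm gb N59897 = N59039 := ded_20_1 (flp_d L780988) (flp_b L777613) L789561
theorem L789567 : sm gf N59897 = N58882 := ded_35_2 (flp_d L779532) (flp_f L777618) L789561
theorem L789569 : sm gg N59897 = N58875 := ded_36_2 (flp_d L779457) (flp_g L777620) L789561
theorem L789571 : sm gj N59897 = N58700 := ded_37_2 (flp_d L777719) (flp_j L777622) L789561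
theorem L789573 : sm gi N59897 = N59029 := ded_39_2 (flp_d L780901) (flp_i L777624) L789561
theorem L789575 : sm gh N59897 = N58693 := ded_38_2 (flp_d L777643) (flp_h L766312) (flp_d L766286) L777609 L789561
theorem L789577 : sm gd N58692 = N59898 := rfl
theorem L789579 : sm ga N59898 = N59007 := ded_12_1 (flp_d L780734) (flp_a L777628) L789577
theorem L789581 : sm gb N59898 = N59453 := ded_20_1 (flp_d L784168) (flp_b L777630) L789577
theorem L789583 : sm gf N59898 = N58693 := ded_35_2 (flp_d L777643) (flp_f L777635) L789577
theorem L789585 : sm gg N59898 = N58880 := ded_36_2 (flp_d L779506) (flp_g L777637) L789577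
theorem L789587 : sm gj N59898 = N58701 := ded_37_2 (flp_d L777725) (flp_j L777639) L789577
theorem L789589 : sm gi N59898 = N58917 := ded_39_2 (flp_d L779878) (flp_i L777641) L789577
theorem L789591 : sm gh N59898 = N58882 := ded_38_2 (flp_d L779532) (flp_h L768101) (flp_d L766303) L777626 L789577
theorem L789593 : sm gc N58693 = N59899 := rfl
theorem L789595 : sm ga N59899 = N59257 := ded_11_1 (flp_c L782939) (flp_a L777645) L789593
theorem L789597 : sm gg N59899 = N59278 := ded_30_2 (flp_c L783075) (flp_g L777647) L789593
theorem L789599 : sm gj N59899 = N58702 := ded_31_2 (flp_c L777733) (flp_j L777649) L789593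
theorem L789601 : sm gi N59899 = N58918 := ded_33_2 (flp_c L779892) (flp_i L777651) L789593
theorem L789603 : sm gd N59899 = N58695 := ded_27_2 (flp_c L777665) (flp_d L766349) (flp_c L766316) L777643 L789593
theorem L789605 : sm gc N58694 = N59900 := rfl
theorem L789607 : sm gf N59900 = N58695 := ded_29_2 (flp_c L777665) (flp_f L777657) L789605
theorem L789609 : sm gj N59900 = N58705 := ded_31_2 (flp_c L777755) (flp_j L777659) L789605
theorem L789611 : sm gh N59900 = N58713 := ded_32_2 (flp_c L777847) (flp_h L777663) L789605
theorem L789613 : sm gi N59900 = N58920 := ded_33_2 (flp_c L779910) (flp_i L777661) L789605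
theorem L789615 : sm ge N58694 = N59901 := rfl
theorem L789617 : sm gb N59901 = N59323 := ded_21_1 (flp_e L783373) (flp_b L777655) L789615
theorem L789619 : sm gj N59901 = N58706 := ded_42_2 (flp_e L777765) (flp_j L777659) L789615
theorem L789621 : sm gh N59901 = N58714 := ded_43_2 (flp_e L777855) (flp_h L777663) L789615
theorem L789623 : sm gi N59901 = N58921 := ded_44_2 (flp_e L779918) (flp_i L777661) L789615
theorem L789625 : sm gd N59901 = N59901 := ded_34_1 (flp_e L789615) (flp_d L777653) L766342 L777653 L789615
theorem L789626 : sm gb N58695 = N59902 := rfl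
theorem L789628 : sm gg N59902 = N59286 := ded_23_2 (flp_b L783117) (flp_g L777667) L789626
theorem L789630 : sm gj N59902 = N58707 := ded_24_2 (flp_b L777776) (flp_j L777669) L789626
theorem L789632 : sm gh N59902 = N58715 := ded_25_2 (flp_b L777865) (flp_h L777671) L789626
theorem L789634 : sm gi N59902 = N58922 := ded_26_2 (flp_b L779925) (flp_i L777673) L789626
theorem L789636 : sm gc N59902 = N59490 := ded_19_2 (flp_b L784429) (flp_c L772793) (flp_b L766351) L777665 L789626
theorem L789638 : sm gc N58696 = N59903 := rfl
theorem L789640 : sm gg N59903 = N59233 := ded_30_2 (flp_c L782747) (flp_g L777679) L789638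
theorem L789642 : sm gi N59903 = N58928 := ded_33_2 (flp_c L779994) (flp_i L777681) L789638
theorem L789644 : sm gd N59903 = N59168 := ded_27_2 (flp_c L782214) (flp_d L770587) (flp_c L766365) L777675 L789638
theorem L789646 : sm ge N58696 = N59904 := rfl
theorem L789648 : sm gb N59904 = N58703 := ded_21_1 (flp_e L777741) (flp_b L777677) L789646
theorem L789650 : sm gg N59904 = N59234 := ded_41_2 (flp_e L782757) (flp_g L777679) L789646
theorem L789652 : sm gi N59904 = N58929 := ded_44_2 (flp_e L779998) (flp_i L777681) L789646
theorem L789654 : sm gd N59904 = N58698 := ded_34_1 (flp_e L777693) (flp_d L766373) (flp_e L766367) L777675 L789646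
theorem L789656 : sm ge N58697 = N59905 := rfl
theorem L789658 : sm gc N59905 = N58698 := ded_28_1 (flp_e L777693) L777683 L789656
theorem L789660 : sm gg N59905 = N59083 := ded_41_2 L781351 (flp_g L777686) L789656
theorem L789662 : sm gh N59905 = N59905 := ded_43_2 (flp_e L789656) L777688 L789656
theorem L789663 : sm gi N59905 = N58930 := ded_44_2 (flp_e L780006) (flp_i L777689) L789656
theorem L789665 : sm gf N58698 = N59906 := rfl
theorem L789667 : sm gb N59906 = N58704 := ded_22_1 (flp_f L777749) (flp_b L777695) L789665
theorem L789669 : sm gh N59906 = N59906 := ded_47_2 (flp_f L789665) L777699 L789665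
theorem L789670 : sm gi N59906 = N58931 := ded_48_2 (flp_f L780014) (flp_i L777700) L789665
theorem L789672 : sm ge N59906 = N59906 := ded_40_1 (flp_f L789665) (flp_e L777693) L766377 L777693 L789665
theorem L789673 : sm gd N58699 = N59907 := rfl
theorem L789675 : sm ga N59907 = N59201 := ded_12_1 (flp_d L782501) (flp_a L777704) L789673
theorem L789677 : sm gb N59907 = N59038 := ded_20_1 (flp_d L780978) (flp_b L777706) L789673
theorem L789679 : sm gf N59907 = N59146 := ded_35_2 (flp_d L781998) (flp_f L777711) L789673
theorem L789681 : sm gg N59907 = N59237 := ded_36_2 (flp_d L782783) (flp_g L777713) L789673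
theorem L789683 : sm gj N59907 = N59029 := ded_37_2 (flp_d L780901) (flp_j L777715) L789673
theorem L789685 : sm gi N59907 = N58700 := ded_39_2 (flp_d L777719) (flp_i L777717) L789673
theorem L789687 : sm gh N59907 = N58933 := ded_38_2 (flp_d L780035) (flp_h L768581) (flp_d L766391) L777702 L789673
theorem L789689 : sm gc N58700 = N59908 := rfl
theorem L789691 : sm gg N59908 = N59238 := ded_30_2 (flp_c L782793) (flp_g L777721) L789689
theorem L789693 : sm gh N59908 = N58702 := ded_32_2 (flp_c L777733) (flp_h L777723) L789689
theorem L789695 : sm gd N59908 = N58721 := ded_27_2 (flp_c L777938) (flp_d L766579) (flp_c L766402) L777719 L789689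
theorem L789697 : sm ge N58700 = N59909 := rfl
theorem L789699 : sm gg N59909 = N59239 := ded_41_2 (flp_e L782803) (flp_g L777721) L789697
theorem L789701 : sm gh N59909 = N58703 := ded_43_2 (flp_e L777741) (flp_h L777723) L789697
theorem L789703 : sm gd N59909 = N59909 := ded_34_1 (flp_e L789697) (flp_d L777719) L766404 L777719 L789697
theorem L789704 : sm gc N58701 = N59910 := rfl
theorem L789706 : sm gf N59910 = N58702 := ded_29_2 (flp_c L777733) (flp_f L777727) L789704
theorem L789708 : sm gg N59910 = N59225 := ded_30_2 (flp_c L782704) (flp_g L777729) L789704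
theorem L789710 : sm gi N59910 = N58936 := ded_33_2 (flp_c L780069) (flp_i L777731) L789704
theorem L789712 : sm gd N59910 = N58705 := ded_27_2 (flp_c L777755) (flp_d L766431) (flp_c L766409) L777725 L789704
theorem L789714 : sm ge N58701 = N59911 := rfl
theorem L789716 : sm gg N59911 = N59226 := ded_41_2 (flp_e L782710) (flp_g L777729) L789714
theorem L789718 : sm gi N59911 = N58937 := ded_44_2 (flp_e L780075) (flp_i L777731) L789714
theorem L789720 : sm gd N59911 = N59911 := ded_34_1 (flp_e L789714) (flp_d L777725) L766411 L777725 L789714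
theorem L789721 : sm gb N58702 = N59912 := rfl
theorem L789723 : sm gd N59912 = N58707 := ded_20_2 (flp_b L777776) (flp_d L777739) L789721
theorem L789725 : sm gg N59912 = N59245 := ded_23_2 (flp_b L782846) (flp_g L777735) L789721
theorem L789727 : sm gi N59912 = N58938 := ded_26_2 (flp_b L780078) (flp_i L777737) L789721
theorem L789729 : sm ge N58702 = N59913 := rfl
theorem L789731 : sm gc N59913 = N58703 := ded_28_1 (flp_e L777741) L777733 L789729
theorem L789733 : sm gg N59913 = N59246 := ded_41_2 (flp_e L782856) (flp_g L777735) L789729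
theorem L789735 : sm gi N59913 = N58939 := ded_44_2 (flp_e L780084) (flp_i L777737) L789729
theorem L789737 : sm gf N58703 = N59914 := rfl
theorem L789739 : sm gd N59914 = N58704 := ded_35_1 (flp_f L777749) (flp_d L777747) L789737
theorem L789741 : sm gi N59914 = N58940 := ded_48_2 (flp_f L780090) (flp_i L777745) L789737
theorem L789743 : sm gg N58704 = N59915 := rfl
theorem L789745 : sm gc N59915 = N58983 := ded_30_1 (flp_g L788548) L788542 L789743
theorem L789747 : sm ge N59915 = N59915 := ded_41_1 (flp_g L789743) L777754 L789743
theorem L789748 : sm gh N59915 = N59915 := ded_50_2 (flp_g L789743) L777751 L789743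
theorem L789749 : sm gi N59915 = N58941 := ded_51_2 (flp_g L780094) (flp_i L777752) L789743
theorem L789751 : sm gf N59915 = N58982 := ded_45_1 L780504 L769037 (flp_g L766426) L777749 L789743
theorem L789753 : sm gb N58705 = N59916 := rfl
theorem L789755 : sm gf N59916 = N58707 := ded_22_2 (flp_b L777776) (flp_f L777757) L789753
theorem L789757 : sm gg N59916 = N59230 := ded_23_2 (flp_b L782731) (flp_g L777759) L789753
theorem L789759 : sm gh N59916 = N58730 := ded_25_2 (flp_b L778019) (flp_h L777761) L789753
theorem L789761 : sm gi N59916 = N58944 := ded_26_2 (flp_b L780124) (flp_i L777763) L789753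
theorem L789763 : sm gc N59916 = N59474 := ded_19_2 (flp_b L784306) (flp_c L772672) (flp_b L766433) L777755 L789753
theorem L789765 : sm ge N58705 = N59917 := rfl
theorem L789767 : sm gc N59917 = N58706 := ded_28_1 (flp_e L777765) L777755 L789765
theorem L789769 : sm gg N59917 = N59231 := ded_41_2 (flp_e L782737) (flp_g L777759) L789765
theorem L789771 : sm gh N59917 = N58731 := ded_43_2 (flp_e L778025) (flp_h L777761) L789765
theorem L789773 : sm gi N59917 = N58945 := ded_44_2 (flp_e L780130) (flp_i L777763) L789765
theorem L789775 : sm ga N58707 = N59918 := rfl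
theorem L789777 : sm gc N59918 = N59491 := ded_11_2 (flp_a L784435) (flp_c L777784) L789775
theorem L789779 : sm gg N59918 = N59251 := ded_15_2 (flp_a L782886) (flp_g L777778) L789775
theorem L789781 : sm gh N59918 = N58732 := ded_17_2 (flp_a L778031) (flp_h L777780) L789775
theorem L789783 : sm gi N59918 = N58946 := ded_18_2 (flp_a L780136) (flp_i L777782) L789775
theorem L789785 : sm gb N58708 = N59919 := rfl
theorem L789787 : sm ge N59919 = N59354 := ded_21_2 (flp_b L783561) (flp_e L777788) L789785
theorem L789789 : sm gg N59919 = N58715 := ded_23_2 (flp_b L777865) (flp_g L777790) L789785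
theorem L789791 : sm gj N59919 = N59126 := ded_24_2 (flp_b L781803) (flp_j L777792) L789785
theorem L789793 : sm gh N59919 = N59286 := ded_25_2 (flp_b L783117) (flp_h L777794) L789785
theorem L789795 : sm gi N59919 = N58736 := ded_26_2 (flp_b L778063) (flp_i L777796) L789785
theorem L789797 : sm gc N59919 = N59364 := ded_19_2 L783619 L772000 (flp_b L766453) L777786 L789785
theorem L789799 : sm gd N58709 = N59920 := rfl
theorem L789801 : sm ga N59920 = N58948 := ded_12_1 (flp_d L780158) (flp_a L777800) L789799
theorem L789803 : sm gb N59920 = N59297 := ded_20_1 (flp_d L783207) (flp_b L777802) L789799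
theorem L789805 : sm gf N59920 = N58864 := ded_35_2 (flp_d L779341) (flp_f L777807) L789799
theorem L789807 : sm gg N59920 = N58862 := ded_36_2 (flp_d L779311) (flp_g L777809) L789799
theorem L789809 : sm gj N59920 = N58720 := ded_37_2 (flp_d L777930) (flp_j L777811) L789799
theorem L789811 : sm gi N59920 = N58710 := ded_39_2 (flp_d L777815) (flp_i L777813) L789799
theorem L789813 : sm gh N59920 = N58739 := ded_38_2 (flp_d L778098) (flp_h L766746) (flp_d L766473) L777798 L789799
theorem L789815 : sm gc N58710 = N59921 := rfl
theorem L789817 : sm ga N59921 = N58998 := ded_11_1 (flp_c L780671) (flp_a L777817) L789815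
theorem L789819 : sm gf N59921 = N58886 := ded_29_2 (flp_c L779580) (flp_f L777821) L789815
theorem L789821 : sm gg N59921 = N58877 := ded_30_2 (flp_c L779485) (flp_g L777823) L789815
theorem L789823 : sm gj N59921 = N58721 := ded_31_2 (flp_c L777938) (flp_j L777825) L789815
theorem L789825 : sm gh N59921 = N58711 := ded_32_2 (flp_c L777829) (flp_h L777827) L789815
theorem L789827 : sm ge N58710 = N59922 := rfl
theorem L789829 : sm ga N59922 = N58999 := ded_13_1 (flp_e L780677) (flp_a L777817) L789827
theorem L789831 : sm gb N59922 = N59299 := ded_21_1 (flp_e L783219) (flp_b L777819) L789827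
theorem L789833 : sm gg N59922 = N58878 := ded_41_2 (flp_e L779493) (flp_g L777823) L789827
theorem L789835 : sm gj N59922 = N58722 := ded_42_2 (flp_e L777944) (flp_j L777825) L789827
theorem L789837 : sm gh N59922 = N58712 := ded_43_2 (flp_e L777837) (flp_h L777827) L789827
theorem L789839 : sm gd N59922 = N59922 := ded_34_1 (flp_e L789827) (flp_d L777815) L766488 L777815 L789827
theorem L789840 : sm gb N58711 = N59923 := rfl
theorem L789842 : sm gd N59923 = N58715 := ded_20_2 (flp_b L777865) (flp_d L777835) L789840
theorem L789844 : sm gj N59923 = N58725 := ded_24_2 (flp_b L777971) (flp_j L777831) L789840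
theorem L789846 : sm gi N59923 = N58744 := ded_26_2 (flp_b L778144) (flp_i L777833) L789840
theorem L789848 : sm gc N59923 = N59300 := ded_19_2 (flp_b L783224) (flp_c L771607) (flp_b L766497) L777829 L789840
theorem L789850 : sm ge N58711 = N59924 := rfl
theorem L789852 : sm gc N59924 = N58712 := ded_28_1 (flp_e L777837) L777829 L789850
theorem L789854 : sm gj N59924 = N58726 := ded_42_2 (flp_e L777979) (flp_j L777831) L789850
theorem L789856 : sm gi N59924 = N58745 := ded_44_2 (flp_e L778152) (flp_i L777833) L789850
theorem L789858 : sm gb N58713 = N59925 := rfl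
theorem L789860 : sm gf N59925 = N58715 := ded_22_2 (flp_b L777865) (flp_f L777849) L789858
theorem L789862 : sm gj N59925 = N58730 := ded_24_2 (flp_b L778019) (flp_j L777851) L789858
theorem L789864 : sm gi N59925 = N58746 := ded_26_2 (flp_b L778158) (flp_i L777853) L789858
theorem L789866 : sm gc N59925 = N59324 := ded_19_2 (flp_b L783382) (flp_c L771750) (flp_b L766514) L777847 L789858
theorem L789868 : sm ge N58713 = N59926 := rfl
theorem L789870 : sm gc N59926 = N58714 := ded_28_1 (flp_e L777855) L777847 L789868
theorem L789872 : sm gj N59926 = N58731 := ded_42_2 (flp_e L778025) (flp_j L777851) L789868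
theorem L789874 : sm gi N59926 = N58747 := ded_44_2 (flp_e L778168) (flp_i L777853) L789868
theorem L789876 : sm ga N58715 = N59927 := rfl
theorem L789878 : sm gj N59927 = N58732 := ded_16_2 (flp_a L778031) (flp_j L777867) L789876
theorem L789880 : sm gi N59927 = N58748 := ded_18_2 (flp_a L778176) (flp_i L777869) L789876
theorem L789882 : sm gc N58716 = N59928 := rfl
theorem L789884 : sm ga N59928 = N59306 := ded_11_1 (flp_c L783266) (flp_a L777873) L789882
theorem L789886 : sm gf N59928 = N58807 := ded_29_2 (flp_c L778738) (flp_f L777877) L789882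
theorem L789888 : sm gg N59928 = N58822 := ded_30_2 (flp_c L778904) (flp_g L777879) L789882
theorem L789890 : sm gj N59928 = N59298 := ded_31_2 (flp_c L783215) (flp_j L777881) L789882
theorem L789892 : sm gh N59928 = N58717 := ded_32_2 (flp_c L777885) (flp_h L777883) L789882
theorem L789894 : sm gd N59928 = N58810 := ded_27_2 (flp_c L778769) (flp_d L767402) (flp_c L766534) L777871 L789882
theorem L789896 : sm ge N58716 = N59929 := rfl
theorem L789898 : sm ga N59929 = N59307 := ded_13_1 (flp_e L783274) (flp_a L777873) L789896
theorem L789900 : sm gb N59929 = N58722 := ded_21_1 (flp_e L777944) (flp_b L777875) L789896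
theorem L789902 : sm gg N59929 = N58823 := ded_41_2 (flp_e L778912) (flp_g L777879) L789896
theorem L789904 : sm gj N59929 = N59299 := ded_42_2 (flp_e L783219) (flp_j L777881) L789896
theorem L789906 : sm gh N59929 = N58718 := ded_43_2 (flp_e L777899) (flp_h L777883) L789896
theorem L789908 : sm gd N59929 = N59929 := ded_34_1 (flp_e L789896) (flp_d L777871) L766536 L777871 L789896
theorem L789909 : sm gb N58717 = N59930 := rfl
theorem L789911 : sm gd N59930 = N59108 := ded_20_2 (flp_b L781594) (flp_d L777897) L789909
theorem L789913 : sm gf N59930 = N59293 := ded_22_2 (flp_b L783181) (flp_f L777889) L789909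
theorem L789915 : sm gg N59930 = N59332 := ded_23_2 (flp_b L783432) (flp_g L777891) L789909
theorem L789917 : sm gj N59930 = N59300 := ded_24_2 (flp_b L783224) (flp_j L777893) L789909
theorem L789919 : sm gi N59930 = N58757 := ded_26_2 (flp_b L778278) (flp_i L777895) L789909
theorem L789921 : sm gc N59930 = N58725 := ded_19_2 (flp_b L777971) (flp_c L766593) (flp_b L766547) L777885 L789909
theorem L789923 : sm ge N58717 = N59931 := rfl
theorem L789925 : sm ga N59931 = N59314 := ded_13_1 (flp_e L783319) (flp_a L777887) L789923
theorem L789927 : sm gc N59931 = N58718 := ded_28_1 (flp_e L777899) L777885 L789923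
theorem L789929 : sm gg N59931 = N59333 := ded_41_2 (flp_e L783438) (flp_g L777891) L789923
theorem L789931 : sm gj N59931 = N59301 := ded_42_2 (flp_e L783230) (flp_j L777893) L789923
theorem L789933 : sm gi N59931 = N58758 := ded_44_2 (flp_e L778288) (flp_i L777895) L789923
theorem L789935 : sm gd N59931 = N59124 := ded_34_1 (flp_e L781791) L770208 (flp_e L770066) (flp_d L777897) L789923
theorem L789937 : sm gf N58718 = N59932 := rfl
theorem L789939 : sm ga N59932 = N59315 := ded_14_1 (flp_f L783323) (flp_a L777901) L789937
theorem L789941 : sm gb N59932 = N58727 := ded_22_1 (flp_f L777987) (flp_b L777903) L789937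
theorem L789943 : sm gd N59932 = N58719 := ded_35_1 (flp_f L777913) (flp_d L777911) L789937
theorem L789945 : sm gj N59932 = N59302 := ded_46_2 (flp_f L783238) (flp_j L777907) L789937
theorem L789947 : sm gi N59932 = N58759 := ded_48_2 (flp_f L778298) (flp_i L777909) L789937
theorem L789949 : sm ge N59932 = N59295 := ded_40_1 (flp_f L783193) (flp_e L771574) (flp_f L766549) L777899 L789937
theorem L789951 : sm gg N59932 = N58733 := ded_45_2 (flp_f L788756) L788758 L778061 (flp_g L777905) L789937
theorem L789953 : sm gc N58720 = N59933 := rfl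
theorem L789955 : sm gg N59933 = N59334 := ded_30_2 (flp_c L783444) (flp_g L777932) L789953
theorem L789957 : sm gh N59933 = N58763 := ded_32_2 (flp_c L778327) (flp_h L777936) L789953
theorem L789959 : sm gi N59933 = N58721 := ded_33_2 (flp_c L777938) (flp_i L777934) L789953
theorem L789961 : sm ge N58720 = N59934 := rfl
theorem L789963 : sm gg N59934 = N59335 := ded_41_2 (flp_e L783450) (flp_g L777932) L789961
theorem L789965 : sm gh N59934 = N58764 := ded_43_2 (flp_e L778335) (flp_h L777936) L789961
theorem L789967 : sm gi N59934 = N58722 := ded_44_2 (flp_e L777944) (flp_i L777934) L789961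
theorem L789969 : sm gd N59934 = N59934 := ded_34_1 (flp_e L789961) (flp_d L777930) L766574 L777930 L789961
theorem L789970 : sm gb N58721 = N59935 := rfl
theorem L789972 : sm gg N59935 = N59336 := ded_23_2 (flp_b L783457) (flp_g L777940) L789970
theorem L789974 : sm gh N59935 = N58725 := ded_25_2 (flp_b L777971) (flp_h L777942) L789970
theorem L789976 : sm ge N58721 = N59936 := rfl
theorem L789978 : sm gc N59936 = N58722 := ded_28_1 (flp_e L777944) L777938 L789976
theorem L789980 : sm gg N59936 = N59337 := ded_41_2 (flp_e L783461) (flp_g L777940) L789976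
theorem L789982 : sm gh N59936 = N58726 := ded_43_2 (flp_e L777979) (flp_h L777942) L789976
theorem L789984 : sm gf N58722 = N59937 := rfl
theorem L789986 : sm gd N59937 = N59937 := ded_35_1 (flp_f L789984) L777950 L789984
theorem L789987 : sm gh N59937 = N58727 := ded_47_2 (flp_f L777987) (flp_h L777948) L789984
theorem L789989 : sm gb N58723 = N59938 := rfl
theorem L789991 : sm gd N59938 = N58730 := ded_20_2 (flp_b L778019) (flp_d L777957) L789989
theorem L789993 : sm gf N59938 = N58725 := ded_22_2 (flp_b L777971) (flp_f L777953) L789989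
theorem L789995 : sm gi N59938 = N58770 := ded_26_2 (flp_b L778385) (flp_i L777955) L789989
theorem L789997 : sm gc N59938 = N59293 := ded_19_2 (flp_b L783181) (flp_c L771568) (flp_b L766587) L777951 L789989
theorem L789999 : sm ge N58723 = N59939 := rfl
theorem L790001 : sm ga N59939 = N59367 := ded_13_1 (flp_e L789253) L789251 L789999
theorem L790003 : sm gc N59939 = N58724 := ded_28_1 (flp_e L777959) L777951 L789999
theorem L790005 : sm gg N59939 = N59331 := ded_41_2 (flp_e L784649) L784653 L789999
theorem L790007 : sm gi N59939 = N58771 := ded_44_2 (flp_e L778391) (flp_i L777955) L789999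
theorem L790009 : sm ga N58725 = N59940 := rfl
theorem L790011 : sm gd N59940 = N58732 := ded_12_2 (flp_a L778031) (flp_d L777973) L790009
theorem L790013 : sm gg N59940 = N59338 := ded_15_2 (flp_a L783467) (flp_g L777975) L790009
theorem L790015 : sm gi N59940 = N58773 := ded_18_2 (flp_a L778401) (flp_i L777977) L790009
theorem L790017 : sm ge N58725 = N59941 := rfl
theorem L790019 : sm gb N59941 = N58726 := ded_21_1 (flp_e L777979) L777971 L790017
theorem L790021 : sm gg N59941 = N59339 := ded_41_2 (flp_e L783473) (flp_g L777975) L790017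
theorem L790023 : sm gi N59941 = N58774 := ded_44_2 (flp_e L778407) (flp_i L777977) L790017
theorem L790025 : sm gf N58726 = N59942 := rfl
theorem L790027 : sm gc N59942 = N58727 := ded_29_1 (flp_f L777987) (flp_c L777981) L790025
theorem L790029 : sm gi N59942 = N58775 := ded_48_2 (flp_f L778413) (flp_i L777985) L790025
theorem L790031 : sm gb N58728 = N59943 := rfl
theorem L790033 : sm gf N59943 = N59112 := ded_22_2 (flp_b L781642) (flp_f L777995) L790031
theorem L790035 : sm gg N59943 = N58730 := ded_23_2 (flp_b L778019) (flp_g L777997) L790031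
theorem L790037 : sm gh N59943 = N59230 := ded_25_2 (flp_b L782731) (flp_h L777999) L790031
theorem L790039 : sm gi N59943 = N58778 := ded_26_2 (flp_b L778435) (flp_i L778001) L790031
theorem L790041 : sm gc N59943 = N59343 := ded_19_2 (flp_b L783499) (flp_c L771876) (flp_b L766618) L777993 L790031
theorem L790043 : sm ge N58728 = N59944 := rfl
theorem L790045 : sm gc N59944 = N58729 := ded_28_1 (flp_e L778003) L777993 L790043
theorem L790047 : sm gg N59944 = N58731 := ded_41_2 (flp_e L778025) (flp_g L777997) L790043
theorem L790049 : sm gj N59944 = N59340 := ded_42_2 (flp_e L784683) L784689 L790043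
theorem L790051 : sm gh N59944 = N59231 := ded_43_2 (flp_e L782737) (flp_h L777999) L790043
theorem L790053 : sm gi N59944 = N58779 := ded_44_2 (flp_e L778443) (flp_i L778001) L790043
theorem L790055 : sm gf N59944 = N59124 := ded_40_2 (flp_e L781791) L770202 (flp_e L770110) (flp_f L777995) L790043
theorem L790057 : sm ga N58730 = N59945 := rfl
theorem L790059 : sm gf N59945 = N58732 := ded_14_2 (flp_a L778031) (flp_f L778021) L790057
theorem L790061 : sm gi N59945 = N58780 := ded_18_2 (flp_a L778455) (flp_i L778023) L790057
theorem L790063 : sm ge N58730 = N59946 := rfl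
theorem L790065 : sm gb N59946 = N58731 := ded_21_1 (flp_e L778025) L778019 L790063
theorem L790067 : sm gi N59946 = N58781 := ded_44_2 (flp_e L778461) (flp_i L778023) L790063
theorem L790069 : sm gd N58731 = N59947 := rfl
theorem L790071 : sm gi N59947 = N58782 := ded_39_2 (flp_d L778467) (flp_i L778029) L790069
theorem L790073 : sm gc N59947 = N58733 := ded_27_1 (flp_d L778037) L766697 (flp_d L766638) (flp_c L778027) L790069
theorem L790075 : sm gh N58733 = N59948 := rfl
theorem L790077 : sm ge N59948 = N59024 := ded_43_1 (flp_h L789415) L789419 L790075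
theorem L790079 : sm gf N59948 = N58999 := ded_47_1 L788766 L788756 L790075
theorem L790081 : sm gd N59948 = N59948 := ded_38_1 (flp_h L790075) (flp_d L778037) L766699 L778037 L790075
theorem L790082 : sm gb N58734 = N59949 := rfl
theorem L790084 : sm gf N59949 = N58736 := ded_22_2 (flp_b L778063) (flp_f L778043) L790082
theorem L790086 : sm gj N59949 = N59343 := ded_24_2 (flp_b L783499) (flp_j L778045) L790082
theorem L790088 : sm gh N59949 = N59000 := ded_25_2 (flp_b L780682) (flp_h L778047) L790082
theorem L790090 : sm ge N58734 = N59950 := rfl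
theorem L790092 : sm gc N59950 = N58735 := ded_28_1 (flp_e L778049) L778041 L790090
theorem L790094 : sm gj N59950 = N59344 := ded_42_2 (flp_e L783505) (flp_j L778045) L790090
theorem L790096 : sm gh N59950 = N59001 := ded_43_2 (flp_e L780688) (flp_h L778047) L790090
theorem L790098 : sm gi N59950 = N59357 := ded_44_2 (flp_e L784918) L784928 L790090
theorem L790100 : sm gf N59950 = N59333 := ded_40_2 (flp_e L783438) (flp_f L776859) L776857 (flp_f L778043) L790090
theorem L790102 : sm ga N58736 = N59951 := rfl
theorem L790104 : sm gg N59951 = N58748 := ded_15_2 (flp_a L778176) (flp_g L778065) L790102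
theorem L790106 : sm gj N59951 = N59345 := ded_16_2 (flp_a L783511) (flp_j L778067) L790102
theorem L790108 : sm gh N59951 = N59002 := ded_17_2 (flp_a L780694) (flp_h L778069) L790102
theorem L790110 : sm gd N58737 = N59952 := rfl
theorem L790112 : sm ga N59952 = N58919 := ded_12_1 (flp_d L779902) (flp_a L778073) L790110
theorem L790114 : sm gb N59952 = N59305 := ded_20_1 (flp_d L783258) (flp_b L778075) L790110
theorem L790116 : sm gf N59952 = N58739 := ded_35_2 (flp_d L778098) (flp_f L778080) L790110
theorem L790118 : sm gg N59952 = N58853 := ded_36_2 (flp_d L779209) (flp_g L778082) L790110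
theorem L790120 : sm gj N59952 = N58760 := ded_37_2 (flp_d L778308) (flp_j L778084) L790110
theorem L790122 : sm gi N59952 = N58738 := ded_39_2 (flp_d L778088) (flp_i L778086) L790110
theorem L790124 : sm gh N59952 = N58864 := ded_38_2 (flp_d L779341) (flp_h L767920) (flp_d L766726) L778071 L790110
theorem L790126 : sm gc N58738 = N59953 := rfl
theorem L790128 : sm gf N59953 = N58740 := ded_29_2 (flp_c L778110) (flp_f L778092) L790126
theorem L790130 : sm gj N59953 = N58761 := ded_31_2 (flp_c L778314) (flp_j L778094) L790126
theorem L790132 : sm gh N59953 = N58742 := ded_32_2 (flp_c L778128) (flp_h L778096) L790126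
theorem L790134 : sm gd N59953 = N59009 := ded_27_2 (flp_c L780762) (flp_d L769258) (flp_c L766739) L778088 L790126
theorem L790136 : sm ge N58738 = N59954 := rfl
theorem L790138 : sm gb N59954 = N59307 := ded_21_1 (flp_e L783274) (flp_b L778090) L790136
theorem L790140 : sm gj N59954 = N58762 := ded_42_2 (flp_e L778322) (flp_j L778094) L790136
theorem L790142 : sm gh N59954 = N58743 := ded_43_2 (flp_e L778136) (flp_h L778096) L790136
theorem L790144 : sm gd N59954 = N59954 := ded_34_1 (flp_e L790136) (flp_d L778088) L766741 L778088 L790136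
theorem L790145 : sm gc N58739 = N59955 := rfl
theorem L790147 : sm ga N59955 = N59445 := ded_11_1 (flp_c L784121) (flp_a L778100) L790145
theorem L790149 : sm gg N59955 = N59385 := ded_30_2 (flp_c L783748) (flp_g L778104) L790145
theorem L790151 : sm gj N59955 = N58763 := ded_31_2 (flp_c L778327) (flp_j L778106) L790145
theorem L790153 : sm gi N59955 = N58740 := ded_33_2 (flp_c L778110) (flp_i L778108) L790145
theorem L790155 : sm gd N59955 = N59011 := ded_27_2 (flp_c L780777) (flp_d L769266) (flp_c L766752) L778098 L790145
theorem L790157 : sm ge N58739 = N59956 := rfl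
theorem L790159 : sm ga N59956 = N59446 := ded_13_1 (flp_e L784125) (flp_a L778100) L790157
theorem L790161 : sm gb N59956 = N59309 := ded_21_1 (flp_e L783287) (flp_b L778102) L790157
theorem L790163 : sm gg N59956 = N59386 := ded_41_2 (flp_e L783756) (flp_g L778104) L790157
theorem L790165 : sm gj N59956 = N58764 := ded_42_2 (flp_e L778335) (flp_j L778106) L790157
theorem L790167 : sm gi N59956 = N58741 := ded_44_2 (flp_e L778118) (flp_i L778108) L790157
theorem L790169 : sm gd N59956 = N58790 := ded_34_1 (flp_e L778544) (flp_d L767143) (flp_e L766754) L778098 L790157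
theorem L790171 : sm gb N58740 = N59957 := rfl
theorem L790173 : sm gd N59957 = N59012 := ded_20_2 (flp_b L780789) (flp_d L778116) L790171
theorem L790175 : sm gj N59957 = N58765 := ded_24_2 (flp_b L778343) (flp_j L778112) L790171
theorem L790177 : sm gh N59957 = N58744 := ded_25_2 (flp_b L778144) (flp_h L778114) L790171
theorem L790179 : sm gc N59957 = N59310 := ded_19_2 (flp_b L783295) (flp_c L771665) (flp_b L766764) L778110 L790171
theorem L790181 : sm ge N58740 = N59958 := rfl
theorem L790183 : sm gc N59958 = N58741 := ded_28_1 (flp_e L778118) L778110 L790181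
theorem L790185 : sm gj N59958 = N58766 := ded_42_2 (flp_e L778351) (flp_j L778112) L790181
theorem L790187 : sm gh N59958 = N58745 := ded_43_2 (flp_e L778152) (flp_h L778114) L790181
theorem L790189 : sm gb N58742 = N59959 := rfl
theorem L790191 : sm gd N59959 = N58746 := ded_20_2 (flp_b L778158) (flp_d L778134) L790189
theorem L790193 : sm gf N59959 = N58744 := ded_22_2 (flp_b L778144) (flp_f L778130) L790189
theorem L790195 : sm gj N59959 = N58770 := ded_24_2 (flp_b L778385) (flp_j L778132) L790189
theorem L790197 : sm gc N59959 = N59313 := ded_19_2 (flp_b L783313) (flp_c L771677) (flp_b L766772) L778128 L790189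
theorem L790199 : sm ge N58742 = N59960 := rfl
theorem L790201 : sm gc N59960 = N58743 := ded_28_1 (flp_e L778136) L778128 L790199
theorem L790203 : sm gj N59960 = N58771 := ded_42_2 (flp_e L778391) (flp_j L778132) L790199
theorem L790205 : sm ga N58744 = N59961 := rfl
theorem L790207 : sm gc N59961 = N59316 := ded_11_2 (flp_a L783329) (flp_c L778150) L790205
theorem L790209 : sm gd N59961 = N58748 := ded_12_2 (flp_a L778176) (flp_d L778146) L790205
theorem L790211 : sm gj N59961 = N58773 := ded_16_2 (flp_a L778401) (flp_j L778148) L790205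
theorem L790213 : sm ge N58744 = N59962 := rfl
theorem L790215 : sm gb N59962 = N58745 := ded_21_1 (flp_e L778152) L778144 L790213
theorem L790217 : sm gc N59962 = N59317 := ded_28_1 (flp_e L783333) (flp_c L778150) L790213
theorem L790219 : sm gj N59962 = N58774 := ded_42_2 (flp_e L778407) (flp_j L778148) L790213
theorem L790221 : sm ga N58746 = N59963 := rfl
theorem L790223 : sm gc N59963 = N59329 := ded_11_2 (flp_a L783416) (flp_c L778166) L790221
theorem L790225 : sm gf N59963 = N58748 := ded_14_2 (flp_a L778176) (flp_f L778160) L790221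
theorem L790227 : sm gj N59963 = N58780 := ded_16_2 (flp_a L778455) (flp_j L778162) L790221
theorem L790229 : sm gh N59963 = N59025 := ded_17_2 (flp_a L780877) (flp_h L778164) L790221
theorem L790231 : sm ge N58746 = N59964 := rfl
theorem L790233 : sm gb N59964 = N58747 := ded_21_1 (flp_e L778168) L778158 L790231
theorem L790235 : sm gc N59964 = N59330 := ded_28_1 (flp_e L783422) (flp_c L778166) L790231
theorem L790237 : sm gj N59964 = N58781 := ded_42_2 (flp_e L778461) (flp_j L778162) L790231
theorem L790239 : sm gh N59964 = N59026 := ded_43_2 (flp_e L780883) (flp_h L778164) L790231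
theorem L790241 : sm gc N58749 = N59965 := rfl
theorem L790243 : sm ga N59965 = N58753 := ded_11_1 (flp_c L778232) (flp_a L778184) L790241
theorem L790245 : sm gf N59965 = N59298 := ded_29_2 (flp_c L783215) (flp_f L778188) L790241
theorem L790247 : sm gg N59965 = N58833 := ded_30_2 (flp_c L779031) (flp_g L778190) L790241
theorem L790249 : sm gj N59965 = N58807 := ded_31_2 (flp_c L778738) (flp_j L778192) L790241
theorem L790251 : sm gh N59965 = N58750 := ded_32_2 (flp_c L778196) (flp_h L778194) L790241
theorem L790253 : sm gd N59965 = N58806 := ded_27_2 (flp_c L778728) (flp_d L767374) (flp_c L766822) L778182 L790241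
theorem L790255 : sm gb N58750 = N59966 := rfl
theorem L790257 : sm gd N59966 = N59292 := ded_20_2 (flp_b L783167) (flp_d L778208) L790255
theorem L790259 : sm gf N59966 = N59300 := ded_22_2 (flp_b L783224) (flp_f L778200) L790255
theorem L790261 : sm gg N59966 = N59350 := ded_23_2 (flp_b L783541) (flp_g L778202) L790255
theorem L790263 : sm gj N59966 = N59293 := ded_24_2 (flp_b L783181) (flp_j L778204) L790255
theorem L790265 : sm gi N59966 = N59313 := ded_26_2 (flp_b L783313) (flp_i L778206) L790255
theorem L790267 : sm gc N58751 = N59967 := rfl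
theorem L790269 : sm ga N59967 = N59298 := ded_11_1 (flp_c L783215) (flp_a L778212) L790267
theorem L790271 : sm gf N59967 = N58753 := ded_29_2 (flp_c L778232) (flp_f L778216) L790267
theorem L790273 : sm gj N59967 = N59306 := ded_31_2 (flp_c L783266) (flp_j L778218) L790267
theorem L790275 : sm gh N59967 = N58755 := ded_32_2 (flp_c L778254) (flp_h L778220) L790267
theorem L790277 : sm gd N59967 = N59388 := ded_27_2 (flp_c L783770) (flp_d L772143) (flp_c L766850) L778210 L790267
theorem L790279 : sm ge N58751 = N59968 := rfl
theorem L790281 : sm ga N59968 = N59299 := ded_13_1 (flp_e L783219) (flp_a L778212) L790279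
theorem L790283 : sm gb N59968 = N58762 := ded_21_1 (flp_e L778322) (flp_b L778214) L790279
theorem L790285 : sm gj N59968 = N59307 := ded_42_2 (flp_e L783274) (flp_j L778218) L790279
theorem L790287 : sm gh N59968 = N58756 := ded_43_2 (flp_e L778266) (flp_h L778220) L790279
theorem L790289 : sm gd N59968 = N59968 := ded_34_1 (flp_e L790279) (flp_d L778210) L766852 L778210 L790279
theorem L790290 : sm gc N58752 = N59969 := rfl
theorem L790292 : sm gg N59969 = N58845 := ded_30_2 (flp_c L779146) (flp_g L778226) L790290
theorem L790294 : sm gj N59969 = N59308 := ded_31_2 (flp_c L783279) (flp_j L778228) L790290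
theorem L790296 : sm gi N59969 = N58753 := ded_33_2 (flp_c L778232) (flp_i L778230) L790290
theorem L790298 : sm gd N59969 = N58844 := ded_27_2 (flp_c L779138) (flp_d L767746) (flp_c L766861) L778222 L790290
theorem L790300 : sm ge N58752 = N59970 := rfl
theorem L790302 : sm gb N59970 = N58764 := ded_21_1 (flp_e L778335) (flp_b L778224) L790300
theorem L790304 : sm gg N59970 = N58846 := ded_41_2 (flp_e L779154) (flp_g L778226) L790300
theorem L790306 : sm gj N59970 = N59309 := ded_42_2 (flp_e L783287) (flp_j L778228) L790300
theorem L790308 : sm gi N59970 = N58754 := ded_44_2 (flp_e L778242) (flp_i L778230) L790300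
theorem L790310 : sm gd N59970 = N58791 := ded_34_1 (flp_e L778557) (flp_d L767180) (flp_e L766863) L778222 L790300
theorem L790312 : sm gb N58753 = N59971 := rfl
theorem L790314 : sm gd N59971 = N59390 := ded_20_2 (flp_b L783785) (flp_d L778240) L790312
theorem L790316 : sm gg N59971 = N59352 := ded_23_2 (flp_b L783549) (flp_g L778234) L790312
theorem L790318 : sm gj N59971 = N59310 := ded_24_2 (flp_b L783295) (flp_j L778236) L790312
theorem L790320 : sm gh N59971 = N58757 := ded_25_2 (flp_b L778278) (flp_h L778238) L790312
theorem L790322 : sm gc N59971 = N58765 := ded_19_2 (flp_b L778343) (flp_c L766946) (flp_b L766873) L778232 L790312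
theorem L790324 : sm ge N58753 = N59972 := rfl
theorem L790326 : sm gc N59972 = N58754 := ded_28_1 (flp_e L778242) L778232 L790324
theorem L790328 : sm gg N59972 = N59353 := ded_41_2 (flp_e L783555) (flp_g L778234) L790324
theorem L790330 : sm gj N59972 = N59311 := ded_42_2 (flp_e L783301) (flp_j L778236) L790324
theorem L790332 : sm gh N59972 = N58758 := ded_43_2 (flp_e L778288) (flp_h L778238) L790324
theorem L790334 : sm gd N59972 = N59260 := ded_34_1 (flp_e L782957) (flp_d L779233) L779225 (flp_d L778240) L790324
theorem L790336 : sm gf N58754 = N59973 := rfl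
theorem L790338 : sm gb N59973 = N58767 := ded_22_1 (flp_f L778359) (flp_b L778244) L790336
theorem L790340 : sm gd N59973 = N58786 := ded_35_1 L778503 (flp_d L778252) L790336
theorem L790342 : sm gj N59973 = N59312 := ded_46_2 (flp_f L783307) (flp_j L778248) L790336
theorem L790344 : sm gh N59973 = N58759 := ded_47_2 (flp_f L778298) (flp_h L778250) L790336
theorem L790346 : sm gg N59973 = N58785 := ded_45_2 L787776 L787766 L776221 (flp_g L778246) L790336
theorem L790348 : sm gb N58755 = N59974 := rfl
theorem L790350 : sm gd N59974 = N59291 := ded_20_2 (flp_b L783153) (flp_d L778264) L790348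
theorem L790352 : sm gf N59974 = N58757 := ded_22_2 (flp_b L778278) (flp_f L778258) L790348
theorem L790354 : sm gj N59974 = N59313 := ded_24_2 (flp_b L783313) (flp_j L778260) L790348
theorem L790356 : sm gi N59974 = N59293 := ded_26_2 (flp_b L783181) (flp_i L778262) L790348
theorem L790358 : sm gc N59974 = N58770 := ded_19_2 (flp_b L778385) (flp_c L766968) (flp_b L766885) L778254 L790348
theorem L790360 : sm ge N58755 = N59975 := rfl
theorem L790362 : sm ga N59975 = N59301 := ded_13_1 (flp_e L783230) (flp_a L778256) L790360
theorem L790364 : sm gc N59975 = N58756 := ded_28_1 (flp_e L778266) L778254 L790360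
theorem L790366 : sm gj N59975 = N59314 := ded_42_2 (flp_e L783319) (flp_j L778260) L790360
theorem L790368 : sm gi N59975 = N59294 := ded_44_2 (flp_e L783185) (flp_i L778262) L790360
theorem L790370 : sm gd N59975 = N59325 := ded_34_1 (flp_e L783388) L771756 (flp_e L771544) (flp_d L778264) L790360
theorem L790372 : sm gf N58756 = N59976 := rfl
theorem L790374 : sm ga N59976 = N59302 := ded_14_1 (flp_f L783238) (flp_a L778268) L790372
theorem L790376 : sm gb N59976 = N58772 := ded_22_1 (flp_f L778395) (flp_b L778270) L790372
theorem L790378 : sm gd N59976 = N58783 := ded_35_1 (flp_f L778471) (flp_d L778276) L790372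
theorem L790380 : sm gj N59976 = N59315 := ded_46_2 (flp_f L783323) (flp_j L778272) L790372
theorem L790382 : sm gi N59976 = N59295 := ded_48_2 (flp_f L783193) (flp_i L778274) L790372
theorem L790384 : sm ge N59976 = N58759 := ded_40_1 (flp_f L778298) (flp_e L766901) (flp_f L766887) L778266 L790372
theorem L790386 : sm gg N59976 = N58784 := ded_45_2 (flp_f L789224) L789216 (flp_f L788340) L788332 L790372
theorem L790388 : sm ga N58757 = N59977 := rfl
theorem L790390 : sm gc N59977 = N58773 := ded_11_2 (flp_a L778401) (flp_c L778286) L790388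
theorem L790392 : sm gd N59977 = N59304 := ded_12_2 (flp_a L783250) (flp_d L778280) L790388
theorem L790394 : sm gg N59977 = N59355 := ded_15_2 (flp_a L783567) (flp_g L778282) L790388
theorem L790396 : sm gj N59977 = N59316 := ded_16_2 (flp_a L783329) (flp_j L778284) L790388
theorem L790398 : sm ge N58757 = N59978 := rfl
theorem L790400 : sm gb N59978 = N58758 := ded_21_1 (flp_e L778288) L778278 L790398
theorem L790402 : sm gc N59978 = N58774 := ded_28_1 (flp_e L778407) (flp_c L778286) L790398
theorem L790404 : sm gg N59978 = N59356 := ded_41_2 (flp_e L783571) (flp_g L778282) L790398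
theorem L790406 : sm gj N59978 = N59317 := ded_42_2 (flp_e L783333) (flp_j L778284) L790398
theorem L790408 : sm gd N59978 = N59349 := ded_34_1 (flp_e L783535) L771906 (flp_e L771636) (flp_d L778280) L790398
theorem L790410 : sm gf N58758 = N59979 := rfl
theorem L790412 : sm gc N59979 = N58759 := ded_29_1 (flp_f L778298) (flp_c L778290) L790410
theorem L790414 : sm gd N59979 = N58779 := ded_35_1 L778453 (flp_d L778296) L790410
theorem L790416 : sm gj N59979 = N59318 := ded_46_2 (flp_f L783339) (flp_j L778294) L790410
theorem L790418 : sm gg N59979 = N58782 := ded_45_2 (flp_f L788924) L788926 (flp_f L783577) (flp_g L778292) L790410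
theorem L790420 : sm gc N58760 = N59980 := rfl
theorem L790422 : sm gf N59980 = N58763 := ded_29_2 (flp_c L778327) (flp_f L778310) L790420
theorem L790424 : sm gi N59980 = N58761 := ded_33_2 (flp_c L778314) (flp_i L778312) L790420
theorem L790426 : sm gd N59980 = N59042 := ded_27_2 (flp_c L781011) (flp_d L769467) (flp_c L766927) L778308 L790420
theorem L790428 : sm ge N58760 = N59981 := rfl
theorem L790430 : sm gi N59981 = N58762 := ded_44_2 (flp_e L778322) (flp_i L778312) L790428
theorem L790432 : sm gd N59981 = N59981 := ded_34_1 (flp_e L790428) (flp_d L778308) L766929 L778308 L790428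
theorem L790433 : sm gb N58761 = N59982 := rfl
theorem L790435 : sm gd N59982 = N59044 := ded_20_2 (flp_b L781022) (flp_d L778320) L790433
theorem L790437 : sm gf N59982 = N58765 := ded_22_2 (flp_b L778343) (flp_f L778316) L790433
theorem L790439 : sm gh N59982 = N58770 := ded_25_2 (flp_b L778385) (flp_h L778318) L790433
theorem L790441 : sm ge N58761 = N59983 := rfl
theorem L790443 : sm gc N59983 = N58762 := ded_28_1 (flp_e L778322) L778314 L790441
theorem L790445 : sm gh N59983 = N58771 := ded_43_2 (flp_e L778391) (flp_h L778318) L790441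
theorem L790447 : sm gf N58762 = N59984 := rfl
theorem L790449 : sm gd N59984 = N59984 := ded_35_1 (flp_f L790447) L778326 L790447
theorem L790450 : sm gh N59984 = N58772 := ded_47_2 (flp_f L778395) (flp_h L778324) L790447
theorem L790452 : sm ge N59984 = N58767 := ded_40_1 (flp_f L778359) (flp_e L766954) (flp_f L766936) L778322 L790447
theorem L790454 : sm gb N58763 = N59985 := rfl
theorem L790456 : sm gd N59985 = N59047 := ded_20_2 (flp_b L781045) (flp_d L778333) L790454
theorem L790458 : sm gg N59985 = N59358 := ded_23_2 (flp_b L783581) (flp_g L778329) L790454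
theorem L790460 : sm gi N59985 = N58765 := ded_26_2 (flp_b L778343) (flp_i L778331) L790454
theorem L790462 : sm ge N58763 = N59986 := rfl
theorem L790464 : sm gc N59986 = N58764 := ded_28_1 (flp_e L778335) L778327 L790462
theorem L790466 : sm gg N59986 = N59359 := ded_41_2 (flp_e L783587) (flp_g L778329) L790462
theorem L790468 : sm gi N59986 = N58766 := ded_44_2 (flp_e L778351) (flp_i L778331) L790462
theorem L790470 : sm gf N58764 = N59987 := rfl
theorem L790472 : sm gd N59987 = N58793 := ded_35_1 (flp_f L778583) (flp_d L778341) L790470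
theorem L790474 : sm gi N59987 = N58767 := ded_48_2 (flp_f L778359) (flp_i L778339) L790470
theorem L790476 : sm ga N58765 = N59988 := rfl
theorem L790478 : sm gd N59988 = N59049 := ded_12_2 (flp_a L781063) (flp_d L778345) L790476
theorem L790480 : sm gg N59988 = N59360 := ded_15_2 (flp_a L783593) (flp_g L778347) L790476
theorem L790482 : sm gh N59988 = N58773 := ded_17_2 (flp_a L778401) (flp_h L778349) L790476
theorem L790484 : sm ge N58765 = N59989 := rfl
theorem L790486 : sm gb N59989 = N58766 := ded_21_1 (flp_e L778351) L778343 L790484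
theorem L790488 : sm gg N59989 = N59361 := ded_41_2 (flp_e L783599) (flp_g L778347) L790484
theorem L790490 : sm gh N59989 = N58774 := ded_43_2 (flp_e L778407) (flp_h L778349) L790484
theorem L790492 : sm gd N58766 = N59990 := rfl
theorem L790494 : sm ga N59990 = N59432 := ded_12_1 (flp_d L787798) L787790 L790492
theorem L790496 : sm gg N59990 = N59236 := ded_36_2 L782781 (flp_g L778355) L790492
theorem L790498 : sm gc N59990 = N58794 := ded_27_1 (flp_d L778589) L767233 (flp_d L766960) (flp_c L778353) L790492
theorem L790500 : sm ge N59990 = N59051 := ded_34_2 (flp_d L781079) (flp_e L769510) (flp_d L766952) L778351 L790492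
theorem L790502 : sm gh N59990 = N59408 := ded_38_2 (flp_d L788846) L788842 L776945 (flp_h L778357) L790492
theorem L790504 : sm gf N58766 = N59991 := rfl
theorem L790506 : sm gc N59991 = N58767 := ded_29_1 (flp_f L778359) (flp_c L778353) L790504
theorem L790508 : sm gh N59991 = N58775 := ded_47_2 (flp_f L778413) (flp_h L778357) L790504
theorem L790510 : sm gg N58767 = N59992 := rfl
theorem L790512 : sm gb N59992 = N58785 := ded_23_1 (flp_g L790346) L790338 L790510
theorem L790514 : sm gd N59992 = N58788 := ded_36_1 L778532 (flp_d L778361) L790510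
theorem L790516 : sm gh N59992 = N58776 := ded_50_2 (flp_g L778417) (flp_h L778363) L790510
theorem L790518 : sm gf N59992 = N59021 := ded_45_1 L780855 L769610 (flp_g L766956) L778359 L790510
theorem L790520 : sm gj N59024 = N59992 := ded_24_0 L790512 (flp_j L787808) L787804
theorem L790522 : sm gb N58768 = N59993 := rfl
theorem L790524 : sm gd N59993 = N58778 := ded_20_2 (flp_b L778435) (flp_d L778371) L790522
theorem L790526 : sm gf N59993 = N59362 := ded_22_2 (flp_b L783605) (flp_f L778367) L790522
theorem L790528 : sm gg N59993 = N58770 := ded_23_2 (flp_b L778385) (flp_g L778369) L790522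
theorem L790530 : sm ge N58768 = N59994 := rfl
theorem L790532 : sm ga N59994 = N59340 := ded_13_1 (flp_e L784683) L784681 L790530
theorem L790534 : sm gc N59994 = N58769 := ded_28_1 (flp_e L778373) L778365 L790530
theorem L790536 : sm gg N59994 = N58771 := ded_41_2 (flp_e L778391) (flp_g L778369) L790530
theorem L790538 : sm gi N59994 = N59331 := ded_44_2 (flp_e L784649) L784659 L790530
theorem L790540 : sm gf N59994 = N59325 := ded_40_2 (flp_e L783388) (flp_f L773226) L773224 (flp_f L778367) L790530
theorem L790542 : sm ga N58770 = N59995 := rfl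
theorem L790544 : sm gd N59995 = N58780 := ded_12_2 (flp_a L778455) (flp_d L778387) L790542
theorem L790546 : sm gf N59995 = N58773 := ded_14_2 (flp_a L778401) (flp_f L778389) L790542
theorem L790548 : sm ge N58770 = N59996 := rfl
theorem L790550 : sm gb N59996 = N58771 := ded_21_1 (flp_e L778391) L778385 L790548
theorem L790552 : sm gd N58771 = N59997 := rfl
theorem L790554 : sm gc N59997 = N58784 := ded_27_1 (flp_d L778488) L767102 (flp_d L766976) (flp_c L778393) L790552
theorem L790556 : sm ge N59997 = N58782 := ded_34_2 (flp_d L778467) (flp_e L767040) (flp_d L766972) L778391 L790552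
theorem L790558 : sm gf N58771 = N59998 := rfl
theorem L790560 : sm gc N59998 = N58772 := ded_29_1 (flp_f L778395) (flp_c L778393) L790558
theorem L790562 : sm ge N59998 = N58775 := ded_40_1 (flp_f L778413) (flp_e L766984) (flp_f L766970) L778391 L790558
theorem L790564 : sm ge N58773 = N59999 := rfl
theorem L790566 : sm ga N59999 = N58774 := ded_13_1 (flp_e L778407) L778401 L790564
theorem L790568 : sm gg N59999 = N59365 := ded_41_2 (flp_e L783625) (flp_g L778405) L790564
theorem L790570 : sm gf N58774 = N60000 := rfl
theorem L790572 : sm gb N60000 = N58775 := ded_22_1 (flp_f L778413) (flp_b L778409) L790570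
theorem L790574 : sm gg N58775 = N60001 := rfl
theorem L790576 : sm gc N60001 = N58776 := ded_30_1 (flp_g L778417) (flp_c L778415) L790574
theorem L790578 : sm gf N60001 = N59367 := ded_45_1 (flp_g L783633) (flp_f L772014) (flp_g L766988) L778413 L790574
theorem L790580 : sm gb N58777 = N60002 := rfl
theorem L790582 : sm ge N60002 = N59366 := ded_21_2 L783631 (flp_e L778427) L790580
theorem L790584 : sm gf N60002 = N59364 := ded_22_2 L783619 (flp_f L778429) L790580
theorem L790586 : sm gj N60002 = N58778 := ded_24_2 (flp_b L778435) (flp_j L778431) L790580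
theorem L790588 : sm gh N60002 = N59064 := ded_25_2 (flp_b L781183) (flp_h L778433) L790580
theorem L790590 : sm ga N58778 = N60003 := rfl
theorem L790592 : sm gf N60003 = N59368 := ded_14_2 (flp_a L783637) (flp_f L778437) L790590
theorem L790594 : sm gg N60003 = N58780 := ded_15_2 (flp_a L778455) (flp_g L778439) L790590
theorem L790596 : sm gh N60003 = N59066 := ded_17_2 (flp_a L781199) (flp_h L778441) L790590
theorem L790598 : sm ge N58778 = N60004 := rfl
theorem L790600 : sm gb N60004 = N58779 := ded_21_1 (flp_e L778443) L778435 L790598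
theorem L790602 : sm gg N60004 = N58781 := ded_41_2 (flp_e L778461) (flp_g L778439) L790598
theorem L790604 : sm gj N60004 = N59366 := ded_42_2 (flp_e L790582) L790586 L790598
theorem L790606 : sm gh N60004 = N59067 := ded_43_2 (flp_e L781205) (flp_h L778441) L790598
theorem L790608 : sm gf N60004 = N59349 := ded_40_2 (flp_e L783535) (flp_f L773210) L773208 (flp_f L778437) L790598
theorem L790610 : sm ge N58780 = N60005 := rfl
theorem L790612 : sm ga N60005 = N58781 := ded_13_1 (flp_e L778461) L778455 L790610
theorem L790614 : sm gh N60005 = N59069 := ded_43_2 (flp_e L781219) (flp_h L778459) L790610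
theorem L790616 : sm gd N58781 = N60006 := rfl
theorem L790618 : sm gb N60006 = N58782 := ded_20_1 (flp_d L778467) (flp_b L778463) L790616
theorem L790620 : sm gh N58782 = N60007 := rfl
theorem L790622 : sm gc N60007 = N58785 := ded_32_1 (flp_h L778492) (flp_c L778469) L790620
theorem L790624 : sm gd N60007 = N59071 := ded_38_1 (flp_h L781227) (flp_d L769632) (flp_h L767044) L778467 L790620
theorem L790626 : sm gh N58784 = N60008 := rfl
theorem L790628 : sm ge N60008 = N58785 := ded_43_1 (flp_h L778492) (flp_e L778490) L790626
theorem L790630 : sm gd N60008 = N60008 := ded_38_1 (flp_h L790626) (flp_d L778488) L767104 L778488 L790626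
theorem L790631 : sm gi N58785 = N60009 := rfl
theorem L790633 : sm gd N60009 = N58789 := ded_39_1 (flp_i L778536) (flp_d L778494) L790631
theorem L790635 : sm gf N60009 = N59446 := ded_48_1 (flp_i L787772) (flp_f L787776) L790631
theorem L790637 : sm gi N58786 = N60010 := rfl
theorem L790639 : sm gb N60010 = N58793 := ded_26_1 L778586 (flp_b L778498) L790637
theorem L790641 : sm gc N60010 = N59098 := ded_33_1 (flp_i L781479) (flp_c L778500) L790637
theorem L790643 : sm ge N60010 = N60010 := ded_44_1 (flp_i L790637) L778502 L790637
theorem L790644 : sm gf N60010 = N58791 := ded_48_1 L778568 (flp_f L778503) L790637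
theorem L790646 : sm gg N60010 = N58789 := ded_51_1 (flp_i L778536) (flp_g L778505) L790637
theorem L790648 : sm gj N60010 = N59321 := ded_53_1 L783360 (flp_j L778507) L790637
theorem L790650 : sm gh N60010 = N60010 := ded_54_1 (flp_i L790637) (flp_h L778496) L767122 L778496 L790637
theorem L790651 : sm gh N58787 = N60011 := rfl
theorem L790653 : sm ga N60011 = N59094 := ded_17_1 (flp_h L781445) (flp_a L778511) L790651
theorem L790655 : sm gb N60011 = N59101 := ded_25_1 (flp_h L781512) (flp_b L778521) L790651
theorem L790657 : sm gc N60011 = N58788 := ded_32_1 (flp_h L778525) L778509 L790651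
theorem L790659 : sm ge N60011 = N60011 := ded_43_1 (flp_h L790651) L778513 L790651
theorem L790660 : sm gf N60011 = N59076 := ded_47_1 L781281 (flp_f L778514) L790651
theorem L790662 : sm gg N60011 = N58795 := ded_50_1 L778611 (flp_g L778516) L790651
theorem L790664 : sm gj N60011 = N58941 := ded_52_1 L780099 (flp_j L778518) L790651
theorem L790666 : sm gi N58788 = N60012 := rfl
theorem L790668 : sm gb N60012 = N58789 := ded_26_1 (flp_i L778536) (flp_b L778527) L790666
theorem L790670 : sm ge N60012 = N60012 := ded_44_1 (flp_i L790666) L778529 L790666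
theorem L790671 : sm gf N60012 = N58980 := ded_48_1 L780484 (flp_f L778530) L790666
theorem L790673 : sm gg N60012 = N58793 := ded_51_1 L778586 (flp_g L778532) L790666
theorem L790675 : sm gj N60012 = N58983 := ded_53_1 L780512 (flp_j L778534) L790666
theorem L790677 : sm gh N60012 = N60012 := ded_54_1 (flp_i L790666) (flp_h L778525) L767136 L778525 L790666
theorem L790678 : sm gd N58792 = N60013 := rfl
theorem L790680 : sm ga N60013 = N59430 := ded_12_1 L784032 (flp_a L778572) L790678
theorem L790682 : sm gb N60013 = N59198 := ded_20_1 L782481 (flp_b L778574) L790678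
theorem L790684 : sm gg N60013 = N59203 := ded_36_2 L782529 (flp_g L778578) L790678
theorem L790686 : sm gi N60013 = N58794 := ded_39_2 (flp_d L778589) (flp_i L778581) L790678
theorem L790688 : sm ge N60013 = N59102 := ded_34_2 (flp_d L781521) (flp_e L769960) (flp_d L767218) L778570 L790678
theorem L790690 : sm gf N58792 = N60014 := rfl
theorem L790692 : sm ga N60014 = N59097 := ded_14_1 L781474 (flp_a L778572) L790690
theorem L790694 : sm gb N60014 = N59199 := ded_22_1 (flp_f L782483) (flp_b L778574) L790690
theorem L790696 : sm gc N60014 = N58793 := ded_29_1 (flp_f L778583) (flp_c L778576) L790690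
theorem L790698 : sm gj N60014 = N58914 := ded_46_2 L786143 L786138 L790690
theorem L790700 : sm gh N60014 = N60014 := ded_47_2 (flp_f L790690) L778580 L790690
theorem L790701 : sm gi N60014 = N58795 := ded_48_2 (flp_f L778601) (flp_i L778581) L790690
theorem L790703 : sm ge N60014 = N60014 := ded_40_1 (flp_f L790690) (flp_e L778570) L767210 L778570 L790690
theorem L790704 : sm gf N58794 = N60015 := rfl
theorem L790706 : sm ga N60015 = N59082 := ded_14_1 L781336 (flp_a L778591) L790704
theorem L790708 : sm gb N60015 = N59229 := ded_22_1 (flp_f L782727) (flp_b L778593) L790704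
theorem L790710 : sm gd N60015 = N58795 := ded_35_1 (flp_f L778601) L778589 L790704
theorem L790712 : sm gj N60015 = N58912 := ded_46_2 L785745 L785739 L790704
theorem L790714 : sm gh N60015 = N58910 := ded_47_2 L779810 (flp_h L778599) L790704
theorem L790716 : sm gb N58796 = N60016 := rfl
theorem L790718 : sm ge N60016 = N58847 := ded_21_2 (flp_b L779164) (flp_e L778618) L790716
theorem L790720 : sm gj N60016 = N58799 := ded_24_2 (flp_b L778654) (flp_j L778620) L790716
theorem L790722 : sm gi N60016 = N59387 := ded_26_2 (flp_b L783764) (flp_i L778622) L790716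
theorem L790724 : sm gc N60016 = N58801 := ded_19_2 (flp_b L778678) (flp_c L767321) (flp_b L767262) L778614 L790716
theorem L790726 : sm gb N58797 = N60017 := rfl
theorem L790728 : sm gd N60017 = N58799 := ded_20_2 (flp_b L778654) (flp_d L778636) L790726
theorem L790730 : sm gf N60017 = N59037 := ded_22_2 L780968 (flp_f L778628) L790726
theorem L790732 : sm gg N60017 = N59178 := ded_23_2 (flp_b L782297) (flp_g L778630) L790726
theorem L790734 : sm gh N60017 = N59471 := ded_25_2 (flp_b L784290) (flp_h L778632) L790726
theorem L790736 : sm gi N60017 = N59135 := ded_26_2 (flp_b L781911) (flp_i L778634) L790726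
theorem L790738 : sm gc N60017 = N59063 := ded_19_2 L781177 L769590 (flp_b L767274) L778624 L790726
theorem L790740 : sm ge N58797 = N60018 := rfl
theorem L790742 : sm ga N60018 = N59281 := ded_13_1 (flp_e L783093) (flp_a L778626) L790740
theorem L790744 : sm gc N60018 = N58798 := ded_28_1 (flp_e L778638) L778624 L790740
theorem L790746 : sm gg N60018 = N59179 := ded_41_2 (flp_e L782303) (flp_g L778630) L790740
theorem L790748 : sm gh N60018 = N59472 := ded_43_2 (flp_e L784296) (flp_h L778632) L790740
theorem L790750 : sm gi N60018 = N59136 := ded_44_2 (flp_e L781919) (flp_i L778634) L790740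
theorem L790752 : sm gd N60018 = N58851 := ded_34_1 (flp_e L779197) L767791 (flp_e L767303) (flp_d L778636) L790740
theorem L790754 : sm gf N60018 = N59035 := ded_40_2 (flp_e L780956) L769415 L769429 (flp_f L778628) L790740
theorem L790756 : sm ga N58799 = N60019 := rfl
theorem L790758 : sm gc N60019 = N58804 := ded_11_2 (flp_a L778706) (flp_c L778662) L790756
theorem L790760 : sm ge N60019 = N58852 := ded_13_2 (flp_a L779203) (flp_e L778656) L790756
theorem L790762 : sm gg N60019 = N59183 := ded_15_2 (flp_a L782331) (flp_g L778658) L790756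
theorem L790764 : sm gi N60019 = N59401 := ded_18_2 (flp_a L783870) (flp_i L778660) L790756
theorem L790766 : sm gb N60019 = N59287 := ded_10_2 (flp_a L783123) (flp_b L771457) (flp_a L767301) L778654 L790756
theorem L790768 : sm gb N58800 = N60020 := rfl
theorem L790770 : sm gd N60020 = N59374 := ded_20_2 (flp_b L783676) (flp_d L778676) L790768
theorem L790772 : sm ge N60020 = N58879 := ded_21_2 (flp_b L779500) (flp_e L778668) L790768
theorem L790774 : sm gg N60020 = N58801 := ded_23_2 (flp_b L778678) (flp_g L778670) L790768
theorem L790776 : sm gj N60020 = N59371 := ded_24_2 (flp_b L783656) (flp_j L778672) L790768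
theorem L790778 : sm gi N60020 = N59379 := ded_26_2 (flp_b L783709) (flp_i L778674) L790768
theorem L790780 : sm ga N58801 = N60021 := rfl
theorem L790782 : sm gd N60021 = N59375 := ded_12_2 (flp_a L783684) (flp_d L778680) L790780
theorem L790784 : sm ge N60021 = N58890 := ded_13_2 (flp_a L779608) (flp_e L778682) L790780
theorem L790786 : sm gj N60021 = N58804 := ded_16_2 (flp_a L778706) (flp_j L778684) L790780
theorem L790788 : sm gi N60021 = N59393 := ded_18_2 (flp_a L783805) (flp_i L778686) L790780
theorem L790790 : sm gb N60021 = N58828 := ded_10_2 (flp_a L778965) (flp_b L767578) (flp_a L767323) L778678 L790780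
theorem L790792 : sm ga N58802 = N60022 := rfl
theorem L790794 : sm gd N60022 = N59376 := ded_12_2 (flp_a L783692) (flp_d L778690) L790792
theorem L790796 : sm gf N60022 = N58804 := ded_14_2 (flp_a L778706) (flp_f L778692) L790792
theorem L790798 : sm gi N60022 = N59405 := ded_18_2 (flp_a L783890) (flp_i L778694) L790792
theorem L790800 : sm gb N60022 = N58837 := ded_10_2 (flp_a L779067) (flp_b L767668) (flp_a L767335) L778688 L790792
theorem L790802 : sm ge N58802 = N60023 := rfl
theorem L790804 : sm gb N60023 = N58803 := ded_21_1 (flp_e L778696) L778688 L790802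
theorem L790806 : sm gi N60023 = N59406 := ded_44_2 (flp_e L783896) (flp_i L778694) L790802
theorem L790808 : sm gf N60023 = N58903 := ded_40_2 (flp_e L779741) L768284 (flp_e L767357) (flp_f L778692) L790802
theorem L790810 : sm gc N58805 = N60024 := rfl
theorem L790812 : sm ga N60024 = N59388 := ded_11_1 (flp_c L783770) (flp_a L778720) L790810
theorem L790814 : sm gf N60024 = N58806 := ded_29_2 (flp_c L778728) (flp_f L778722) L790810
theorem L790816 : sm gj N60024 = N58810 := ded_31_2 (flp_c L778769) (flp_j L778724) L790810
theorem L790818 : sm gh N60024 = N58815 := ded_32_2 (flp_c L778822) (flp_h L778726) L790810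
theorem L790820 : sm gd N60024 = N59298 := ded_27_2 (flp_c L783215) (flp_d L771603) (flp_c L767367) L778718 L790810
theorem L790822 : sm ge N58805 = N60025 := rfl
theorem L790824 : sm ga N60025 = N59389 := ded_13_1 (flp_e L783778) (flp_a L778720) L790822
theorem L790826 : sm gj N60025 = N58811 := ded_42_2 (flp_e L778777) (flp_j L778724) L790822
theorem L790828 : sm gh N60025 = N58816 := ded_43_2 (flp_e L778834) (flp_h L778726) L790822
theorem L790830 : sm gd N60025 = N60025 := ded_34_1 (flp_e L790822) (flp_d L778718) L767369 L778718 L790822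
theorem L790831 : sm gf N60025 = N58921 := ded_40_2 (flp_e L779918) L768480 (flp_e L767380) (flp_f L778722) L790822
theorem L790833 : sm gb N58806 = N60026 := rfl
theorem L790835 : sm ge N60026 = N58922 := ded_21_2 (flp_b L779925) (flp_e L778732) L790833
theorem L790837 : sm gj N60026 = N58812 := ded_24_2 (flp_b L778786) (flp_j L778734) L790833
theorem L790839 : sm gh N60026 = N58817 := ded_25_2 (flp_b L778846) (flp_h L778736) L790833
theorem L790841 : sm gb N58807 = N60027 := rfl
theorem L790843 : sm gd N60027 = N58812 := ded_20_2 (flp_b L778786) (flp_d L778746) L790841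
theorem L790845 : sm gg N60027 = N58826 := ded_23_2 (flp_b L778947) (flp_g L778742) L790841
theorem L790847 : sm gh N60027 = N59293 := ded_25_2 (flp_b L783181) (flp_h L778744) L790841
theorem L790849 : sm ge N58807 = N60028 := rfl
theorem L790851 : sm ga N60028 = N59311 := ded_13_1 (flp_e L783301) (flp_a L778740) L790849
theorem L790853 : sm gc N60028 = N58808 := ded_28_1 (flp_e L778748) L778738 L790849
theorem L790855 : sm gg N60028 = N58827 := ded_41_2 (flp_e L778955) (flp_g L778742) L790849
theorem L790857 : sm gh N60028 = N59294 := ded_43_2 (flp_e L783185) (flp_h L778744) L790849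
theorem L790859 : sm gd N60028 = N58939 := ded_34_1 (flp_e L780084) L768628 (flp_e L767414) (flp_d L778746) L790849
theorem L790861 : sm gf N58808 = N60029 := rfl
theorem L790863 : sm ga N60029 = N59312 := ded_14_1 (flp_f L783307) (flp_a L778750) L790861
theorem L790865 : sm gd N60029 = N58809 := ded_35_1 (flp_f L778758) (flp_d L778756) L790861
theorem L790867 : sm gh N60029 = N59295 := ded_47_2 (flp_f L783193) (flp_h L778754) L790861
theorem L790869 : sm gg N60029 = N59024 := ded_45_2 (flp_f L780873) L769348 (flp_f L767576) (flp_g L778752) L790861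
theorem L790871 : sm gb N58810 = N60030 := rfl
theorem L790873 : sm gf N60030 = N58812 := ded_22_2 (flp_b L778786) (flp_f L778773) L790871
theorem L790875 : sm gh N60030 = N58818 := ded_25_2 (flp_b L778856) (flp_h L778775) L790871
theorem L790877 : sm ge N58810 = N60031 := rfl
theorem L790879 : sm ga N60031 = N59403 := ded_13_1 (flp_e L783880) (flp_a L778771) L790877
theorem L790881 : sm gc N60031 = N58811 := ded_28_1 (flp_e L778777) L778769 L790877
theorem L790883 : sm gh N60031 = N58819 := ded_43_2 (flp_e L778864) (flp_h L778775) L790877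
theorem L790885 : sm gf N60031 = N58945 := ded_40_2 (flp_e L780130) L768655 (flp_e L767414) (flp_f L778773) L790877
theorem L790887 : sm ga N58812 = N60032 := rfl
theorem L790889 : sm ge N60032 = N58946 := ded_13_2 (flp_a L780136) (flp_e L778788) L790887
theorem L790891 : sm gg N60032 = N59373 := ded_15_2 (flp_a L783670) (flp_g L778790) L790887
theorem L790893 : sm gh N60032 = N58820 := ded_17_2 (flp_a L778876) (flp_h L778792) L790887
theorem L790895 : sm gb N60032 = N59404 := ded_10_2 (flp_a L783886) (flp_b L772246) (flp_a L767412) L778786 L790887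
theorem L790897 : sm gc N58813 = N60033 := rfl
theorem L790899 : sm ga N60033 = N59377 := ded_11_1 (flp_c L783700) (flp_a L778796) L790897
theorem L790901 : sm gf N60033 = N58814 := ded_29_2 (flp_c L778808) (flp_f L778800) L790897
theorem L790903 : sm gj N60033 = N58848 := ded_31_2 (flp_c L779170) (flp_j L778802) L790897
theorem L790905 : sm gh N60033 = N58845 := ded_32_2 (flp_c L779146) (flp_h L778806) L790897
theorem L790907 : sm gi N60033 = N58822 := ded_33_2 (flp_c L778904) (flp_i L778804) L790897
theorem L790909 : sm gd N60033 = N59369 := ded_27_2 (flp_c L783643) (flp_d L772034) (flp_c L767426) L778794 L790897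
theorem L790911 : sm ge N58813 = N60034 := rfl
theorem L790913 : sm ga N60034 = N59378 := ded_13_1 (flp_e L783706) (flp_a L778796) L790911
theorem L790915 : sm gb N60034 = N59335 := ded_21_1 (flp_e L783450) (flp_b L778798) L790911
theorem L790917 : sm gj N60034 = N58849 := ded_42_2 (flp_e L779180) (flp_j L778802) L790911
theorem L790919 : sm gh N60034 = N58846 := ded_43_2 (flp_e L779154) (flp_h L778806) L790911
theorem L790921 : sm gi N60034 = N58823 := ded_44_2 (flp_e L778912) (flp_i L778804) L790911
theorem L790923 : sm gd N60034 = N60034 := ded_34_1 (flp_e L790911) (flp_d L778794) L767428 L778794 L790911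
theorem L790924 : sm gf N60034 = N58950 := ded_40_2 (flp_e L780176) L768697 (flp_e L767445) (flp_f L778800) L790911
theorem L790926 : sm gb N58814 = N60035 := rfl
theorem L790928 : sm gd N60035 = N59371 := ded_20_2 (flp_b L783656) (flp_d L778820) L790926
theorem L790930 : sm ge N60035 = N58951 := ded_21_2 (flp_b L780183) (flp_e L778812) L790926
theorem L790932 : sm gg N60035 = N58817 := ded_23_2 (flp_b L778846) (flp_g L778814) L790926
theorem L790934 : sm gj N60035 = N59374 := ded_24_2 (flp_b L783676) (flp_j L778816) L790926
theorem L790936 : sm gi N60035 = N58824 := ded_26_2 (flp_b L778923) (flp_i L778818) L790926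
theorem L790938 : sm gb N58815 = N60036 := rfl
theorem L790940 : sm gd N60036 = N59139 := ded_20_2 (flp_b L781937) (flp_d L778832) L790938
theorem L790942 : sm gf N60036 = N58817 := ded_22_2 (flp_b L778846) (flp_f L778826) L790938
theorem L790944 : sm gj N60036 = N58818 := ded_24_2 (flp_b L778856) (flp_j L778828) L790938
theorem L790946 : sm gi N60036 = N58826 := ded_26_2 (flp_b L778947) (flp_i L778830) L790938
theorem L790948 : sm ge N58815 = N60037 := rfl
theorem L790950 : sm ga N60037 = N59392 := ded_13_1 (flp_e L783799) (flp_a L778824) L790948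
theorem L790952 : sm gc N60037 = N58816 := ded_28_1 (flp_e L778834) L778822 L790948
theorem L790954 : sm gj N60037 = N58819 := ded_42_2 (flp_e L778864) (flp_j L778828) L790948
theorem L790956 : sm gi N60037 = N58827 := ded_44_2 (flp_e L778955) (flp_i L778830) L790948
theorem L790958 : sm gd N60037 = N59246 := ded_34_1 (flp_e L782856) L771232 (flp_e L770387) (flp_d L778832) L790948
theorem L790960 : sm gf N60037 = N58960 := ded_40_2 (flp_e L780277) L768791 (flp_e L767461) (flp_f L778826) L790948
theorem L790962 : sm ga N58817 = N60038 := rfl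
theorem L790964 : sm gd N60038 = N59372 := ded_12_2 (flp_a L783662) (flp_d L778848) L790962
theorem L790966 : sm ge N60038 = N58961 := ded_13_2 (flp_a L780285) (flp_e L778850) L790962
theorem L790968 : sm gj N60038 = N58820 := ded_16_2 (flp_a L778876) (flp_j L778852) L790962
theorem L790970 : sm gi N60038 = N58828 := ded_18_2 (flp_a L778965) (flp_i L778854) L790962
theorem L790972 : sm gb N60038 = N59393 := ded_10_2 (flp_a L783805) (flp_b L772171) (flp_a L767459) L778846 L790962
theorem L790974 : sm ga N58818 = N60039 := rfl
theorem L790976 : sm gd N60039 = N59140 := ded_12_2 (flp_a L781951) (flp_d L778858) L790974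
theorem L790978 : sm gf N60039 = N58820 := ded_14_2 (flp_a L778876) (flp_f L778860) L790974
theorem L790980 : sm gi N60039 = N58837 := ded_18_2 (flp_a L779067) (flp_i L778862) L790974
theorem L790982 : sm gb N60039 = N59405 := ded_10_2 (flp_a L783890) (flp_b L772250) (flp_a L767471) L778856 L790974
theorem L790984 : sm ge N58818 = N60040 := rfl
theorem L790986 : sm gb N60040 = N58819 := ded_21_1 (flp_e L778864) L778856 L790984
theorem L790988 : sm gi N60040 = N58838 := ded_44_2 (flp_e L779071) (flp_i L778862) L790984
theorem L790990 : sm gd N60040 = N59283 := ded_34_1 (flp_e L783105) L771433 (flp_e L770399) (flp_d L778858) L790984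
theorem L790992 : sm gf N60040 = N58977 := ded_40_2 (flp_e L780445) L768953 (flp_e L767493) (flp_f L778860) L790984
theorem L790994 : sm gb N58821 = N60041 := rfl
theorem L790996 : sm gd N60041 = N58824 := ded_20_2 (flp_b L778923) (flp_d L778902) L790994
theorem L790998 : sm ge N60041 = N59398 := ded_21_2 (flp_b L783848) (flp_e L778892) L790994
theorem L791000 : sm gg N60041 = N58825 := ded_23_2 (flp_b L778931) (flp_g L778894) L790994
theorem L791002 : sm gj N60041 = N59379 := ded_24_2 (flp_b L783709) (flp_j L778896) L790994
theorem L791004 : sm gh N60041 = N58843 := ded_25_2 (flp_b L779128) (flp_h L778898) L790994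
theorem L791006 : sm gi N60041 = N59371 := ded_26_2 (flp_b L783656) (flp_i L778900) L790994
theorem L791008 : sm gc N60041 = N58861 := ded_19_2 (flp_b L779303) (flp_c L767879) (flp_b L767516) L778888 L790994
theorem L791010 : sm gb N58822 = N60042 := rfl
theorem L791012 : sm gf N60042 = N58824 := ded_22_2 (flp_b L778923) (flp_f L778906) L791010
theorem L791014 : sm gj N60042 = N59382 := ded_24_2 (flp_b L783732) (flp_j L778908) L791010
theorem L791016 : sm gh N60042 = N59332 := ded_25_2 (flp_b L783432) (flp_h L778910) L791010
theorem L791018 : sm gc N60042 = N59336 := ded_19_2 (flp_b L783457) (flp_c L771833) (flp_b L767530) L778904 L791010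
theorem L791020 : sm ge N58822 = N60043 := rfl
theorem L791022 : sm gc N60043 = N58823 := ded_28_1 (flp_e L778912) L778904 L791020
theorem L791024 : sm gj N60043 = N59383 := ded_42_2 (flp_e L783736) (flp_j L778908) L791020
theorem L791026 : sm gh N60043 = N59333 := ded_43_2 (flp_e L783438) (flp_h L778910) L791020
theorem L791028 : sm gf N60043 = N59001 := ded_40_2 (flp_e L780688) L769191 (flp_e L767540) (flp_f L778906) L791020
theorem L791030 : sm ga N58824 = N60044 := rfl
theorem L791032 : sm ge N60044 = N59002 := ded_13_2 (flp_a L780694) (flp_e L778925) L791030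
theorem L791034 : sm gg N60044 = N58828 := ded_15_2 (flp_a L778965) (flp_g L778927) L791030
theorem L791036 : sm gj N60044 = N59384 := ded_16_2 (flp_a L783742) (flp_j L778929) L791030
theorem L791038 : sm ga N58825 = N60045 := rfl
theorem L791040 : sm gc N60045 = N59409 := ded_11_2 (flp_a L783910) (flp_c L778945) L791038
theorem L791042 : sm gd N60045 = N58828 := ded_12_2 (flp_a L778965) (flp_d L778933) L791038
theorem L791044 : sm ge N60045 = N59410 := ded_13_2 (flp_a L783916) (flp_e L778935) L791038
theorem L791046 : sm gf N60045 = N59373 := ded_14_2 (flp_a L783670) (flp_f L778937) L791038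
theorem L791048 : sm gj N60045 = N58832 := ded_16_2 (flp_a L779019) (flp_j L778939) L791038
theorem L791050 : sm gh N60045 = N59376 := ded_17_2 (flp_a L783692) (flp_h L778941) L791038
theorem L791052 : sm gi N60045 = N59372 := ded_18_2 (flp_a L783662) (flp_i L778943) L791038
theorem L791054 : sm gb N60045 = N59375 := ded_10_2 (flp_a L783684) (flp_b L772074) (flp_a L767548) L778931 L791038
theorem L791056 : sm ga N58826 = N60046 := rfl
theorem L791058 : sm gd N60046 = N59373 := ded_12_2 (flp_a L783670) (flp_d L778949) L791056
theorem L791060 : sm gf N60046 = N58828 := ded_14_2 (flp_a L778965) (flp_f L778951) L791056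
theorem L791062 : sm gj N60046 = N58837 := ded_16_2 (flp_a L779067) (flp_j L778953) L791056
theorem L791064 : sm ge N58826 = N60047 := rfl
theorem L791066 : sm gb N60047 = N58827 := ded_21_1 (flp_e L778955) L778947 L791064
theorem L791068 : sm gj N60047 = N58838 := ded_42_2 (flp_e L779071) (flp_j L778953) L791064
theorem L791070 : sm gd N60047 = N59434 := ded_34_1 (flp_e L784050) L772428 (flp_e L772062) (flp_d L778949) L791064
theorem L791072 : sm gf N60047 = N59026 := ded_40_2 (flp_e L780883) L769354 (flp_e L767580) (flp_f L778951) L791064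
theorem L791074 : sm ga N58829 = N60048 := rfl
theorem L791076 : sm gc N60048 = N58832 := ded_11_2 (flp_a L779019) (flp_c L778985) L791074
theorem L791078 : sm ge N60048 = N59376 := ded_13_2 (flp_a L783692) (flp_e L778973) L791074
theorem L791080 : sm gf N60048 = N59145 := ded_14_2 (flp_a L781990) (flp_f L778975) L791074
theorem L791082 : sm gg N60048 = N59401 := ded_15_2 (flp_a L783870) (flp_g L778977) L791074
theorem L791084 : sm gj N60048 = N59409 := ded_16_2 (flp_a L783910) (flp_j L778979) L791074
theorem L791086 : sm gh N60048 = N59410 := ded_17_2 (flp_a L783916) (flp_h L778981) L791074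
theorem L791088 : sm gi N60048 = N59183 := ded_18_2 (flp_a L782331) (flp_i L778983) L791074
theorem L791090 : sm gb N60048 = N59224 := ded_10_2 (flp_a L782692) (flp_b L771105) (flp_a L767586) L778971 L791074
theorem L791092 : sm ga N58830 = N60049 := rfl
theorem L791094 : sm gc N60049 = N59410 := ded_11_2 (flp_a L783916) (flp_c L779001) L791092
theorem L791096 : sm ge N60049 = N59409 := ded_13_2 (flp_a L783910) (flp_e L778989) L791092
theorem L791098 : sm gf N60049 = N59375 := ded_14_2 (flp_a L783684) (flp_f L778991) L791092
theorem L791100 : sm gg N60049 = N59404 := ded_15_2 (flp_a L783886) (flp_g L778993) L791092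
theorem L791102 : sm gj N60049 = N59376 := ded_16_2 (flp_a L783692) (flp_j L778995) L791092
theorem L791104 : sm gh N60049 = N58832 := ded_17_2 (flp_a L779019) (flp_h L778997) L791092
theorem L791106 : sm gi N60049 = N59395 := ded_18_2 (flp_a L783819) (flp_i L778999) L791092
theorem L791108 : sm gb N60049 = N59373 := ded_10_2 (flp_a L783670) (flp_b L772060) (flp_a L767602) L778987 L791092
theorem L791110 : sm ga N58831 = N60050 := rfl
theorem L791112 : sm gc N60050 = N59145 := ded_11_2 (flp_a L781990) (flp_c L779017) L791110
theorem L791114 : sm gd N60050 = N58837 := ded_12_2 (flp_a L779067) (flp_d L779005) L791110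
theorem L791116 : sm ge N60050 = N59224 := ded_13_2 (flp_a L782692) (flp_e L779007) L791110
theorem L791118 : sm gf N60050 = N58832 := ded_14_2 (flp_a L779019) (flp_f L779009) L791110
theorem L791120 : sm gj N60050 = N59373 := ded_16_2 (flp_a L783670) (flp_j L779011) L791110
theorem L791122 : sm gh N60050 = N59375 := ded_17_2 (flp_a L783684) (flp_h L779013) L791110
theorem L791124 : sm gi N60050 = N59140 := ded_18_2 (flp_a L781951) (flp_i L779015) L791110
theorem L791126 : sm gb N60050 = N59376 := ded_10_2 (flp_a L783692) (flp_b L772082) (flp_a L767618) L779003 L791110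
theorem L791128 : sm gb N58833 = N60051 := rfl
theorem L791130 : sm gf N60051 = N58847 := ded_22_2 (flp_b L779164) (flp_f L779035) L791128
theorem L791132 : sm gj N60051 = N58835 := ded_24_2 (flp_b L779053) (flp_j L779037) L791128
theorem L791134 : sm gh N60051 = N59350 := ded_25_2 (flp_b L783541) (flp_h L779039) L791128
theorem L791136 : sm gc N60051 = N58888 := ded_19_2 (flp_b L779594) (flp_c L768145) (flp_b L767646) L779031 L791128
theorem L791138 : sm ge N58833 = N60052 := rfl
theorem L791140 : sm ga N60052 = N59353 := ded_13_1 (flp_e L783555) (flp_a L779033) L791138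
theorem L791142 : sm gc N60052 = N58834 := ded_28_1 (flp_e L779041) L779031 L791138
theorem L791144 : sm gj N60052 = N58836 := ded_42_2 (flp_e L779061) (flp_j L779037) L791138
theorem L791146 : sm gh N60052 = N59351 := ded_43_2 (flp_e L783543) (flp_h L779039) L791138
theorem L791148 : sm ga N58835 = N60053 := rfl
theorem L791150 : sm gc N60053 = N58902 := ded_11_2 (flp_a L779735) (flp_c L779059) L791148
theorem L791152 : sm gf N60053 = N58852 := ded_14_2 (flp_a L779203) (flp_f L779055) L791148
theorem L791154 : sm gg N60053 = N58837 := ded_15_2 (flp_a L779067) (flp_g L779057) L791148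
theorem L791156 : sm ge N58835 = N60054 := rfl
theorem L791158 : sm gb N60054 = N58836 := ded_21_1 (flp_e L779061) L779053 L791156
theorem L791160 : sm gc N60054 = N58903 := ded_28_1 (flp_e L779741) (flp_c L779059) L791156
theorem L791162 : sm gg N60054 = N58838 := ded_41_2 (flp_e L779071) (flp_g L779057) L791156
theorem L791164 : sm ge N58837 = N60055 := rfl
theorem L791166 : sm ga N60055 = N58838 := ded_13_1 (flp_e L779071) L779067 L791164
theorem L791168 : sm gf N60055 = N59069 := ded_40_2 (flp_e L781219) L769626 (flp_e L767680) (flp_f L779069) L791164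
theorem L791170 : sm gd N58838 = N60056 := rfl
theorem L791172 : sm gb N60056 = N58839 := ded_20_1 (flp_d L779077) (flp_b L779073) L791170
theorem L791174 : sm gf N60056 = N59070 := ded_35_2 (flp_d L781223) (flp_f L779075) L791170
theorem L791176 : sm gj N60056 = N59434 := ded_37_2 (flp_d L791070) L791068 L791170
theorem L791178 : sm gi N60056 = N59283 := ded_39_2 (flp_d L790990) L790988 L791170
theorem L791180 : sm ge N60056 = N59220 := ded_34_2 L782662 (flp_e L779007) L779005 L779071 L791170
theorem L791182 : sm gh N58839 = N60057 := rfl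
theorem L791184 : sm gc N60057 = N58840 := ded_32_1 (flp_h L779089) (flp_c L779085) L791182
theorem L791186 : sm ge N60057 = N59215 := ded_43_1 L782633 (flp_e L779087) L791182
theorem L791188 : sm gf N60057 = N59071 := ded_47_1 (flp_h L781227) (flp_f L779079) L791182
theorem L791190 : sm gj N60057 = N59432 := ded_52_1 L784044 (flp_j L779081) L791182
theorem L791192 : sm gi N58840 = N60058 := rfl
theorem L791194 : sm gb N60058 = N59015 := ded_26_1 (flp_i L788082) L788074 L791192
theorem L791196 : sm gd N60058 = N58841 := ded_39_1 (flp_i L779099) (flp_d L779097) L791192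
theorem L791198 : sm ge N60058 = N58891 := ded_44_1 L779624 (flp_e L779091) L791192
theorem L791200 : sm gf N60058 = N59090 := ded_48_1 (flp_i L781400) (flp_f L779093) L791192
theorem L791202 : sm gg N60058 = N59005 := ded_51_1 (flp_i L787656) L787650 L791192
theorem L791204 : sm gj N60058 = N59430 := ded_53_1 L784030 (flp_j L779095) L791192
theorem L791206 : sm gh N60058 = N59269 := ded_54_1 L783028 L771386 (flp_i L767700) L779089 L791192
theorem L791208 : sm gb N58842 = N60059 := rfl
theorem L791210 : sm gd N60059 = N59352 := ded_20_2 (flp_b L783549) (flp_d L779126) L791208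
theorem L791212 : sm ge N60059 = N59387 := ded_21_2 (flp_b L783764) (flp_e L779116) L791208
theorem L791214 : sm gg N60059 = N59390 := ded_23_2 (flp_b L783785) (flp_g L779118) L791208
theorem L791216 : sm gj N60059 = N58843 := ded_24_2 (flp_b L779128) (flp_j L779120) L791208
theorem L791218 : sm gh N60059 = N59379 := ded_25_2 (flp_b L783709) (flp_h L779122) L791208
theorem L791220 : sm gi N60059 = N58847 := ded_26_2 (flp_b L779164) (flp_i L779124) L791208
theorem L791222 : sm gc N60059 = N58867 := ded_19_2 (flp_b L779373) (flp_c L767942) (flp_b L767726) L779114 L791208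
theorem L791224 : sm ga N58843 = N60060 := rfl
theorem L791226 : sm gc N60060 = N58870 := ded_11_2 (flp_a L779401) (flp_c L779136) L791224
theorem L791228 : sm ge N60060 = N59401 := ded_13_2 (flp_a L783870) (flp_e L779130) L791224
theorem L791230 : sm gg N60060 = N59376 := ded_15_2 (flp_a L783692) (flp_g L779132) L791224
theorem L791232 : sm gi N60060 = N58852 := ded_18_2 (flp_a L779203) (flp_i L779134) L791224
theorem L791234 : sm gb N58844 = N60061 := rfl
theorem L791236 : sm gg N60061 = N58847 := ded_23_2 (flp_b L779164) (flp_g L779140) L791234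
theorem L791238 : sm gj N60061 = N59394 := ded_24_2 (flp_b L783811) (flp_j L779142) L791234
theorem L791240 : sm gi N60061 = N59390 := ded_26_2 (flp_b L783785) (flp_i L779144) L791234
theorem L791242 : sm gc N60061 = N58879 := ded_19_2 (flp_b L779500) (flp_c L768066) (flp_b L767748) L779138 L791234
theorem L791244 : sm gb N58845 = N60062 := rfl
theorem L791246 : sm gd N60062 = N58847 := ded_20_2 (flp_b L779164) (flp_d L779152) L791244
theorem L791248 : sm gj N60062 = N58850 := ded_24_2 (flp_b L779191) (flp_j L779148) L791244
theorem L791250 : sm gi N60062 = N59352 := ded_26_2 (flp_b L783549) (flp_i L779150) L791244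
theorem L791252 : sm gc N60062 = N59358 := ded_19_2 (flp_b L783581) (flp_c L771962) (flp_b L767758) L779146 L791244
theorem L791254 : sm ge N58845 = N60063 := rfl
theorem L791256 : sm gc N60063 = N58846 := ded_28_1 (flp_e L779154) L779146 L791254
theorem L791258 : sm gj N60063 = N58851 := ded_42_2 (flp_e L779197) (flp_j L779148) L791254
theorem L791260 : sm gi N60063 = N59353 := ded_44_2 (flp_e L783555) (flp_i L779150) L791254
theorem L791262 : sm ga N58847 = N60064 := rfl
theorem L791264 : sm gc N60064 = N58890 := ded_11_2 (flp_a L779608) (flp_c L779168) L791262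
theorem L791266 : sm gj N60064 = N58852 := ded_16_2 (flp_a L779203) (flp_j L779166) L791262
theorem L791268 : sm gb N58848 = N60065 := rfl
theorem L791270 : sm gf N60065 = N59374 := ded_22_2 (flp_b L783676) (flp_f L779172) L791268
theorem L791272 : sm gg N60065 = N59402 := ded_23_2 (flp_b L783874) (flp_g L779174) L791268
theorem L791274 : sm gh N60065 = N58850 := ded_25_2 (flp_b L779191) (flp_h L779176) L791268
theorem L791276 : sm gi N60065 = N59382 := ded_26_2 (flp_b L783732) (flp_i L779178) L791268
theorem L791278 : sm ge N58848 = N60066 := rfl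
theorem L791280 : sm gc N60066 = N58849 := ded_28_1 (flp_e L779180) L779170 L791278
theorem L791282 : sm gg N60066 = N59403 := ded_41_2 (flp_e L783880) (flp_g L779174) L791278
theorem L791284 : sm gh N60066 = N58851 := ded_43_2 (flp_e L779197) (flp_h L779176) L791278
theorem L791286 : sm gi N60066 = N59383 := ded_44_2 (flp_e L783736) (flp_i L779178) L791278
theorem L791288 : sm gf N60066 = N59439 := ded_40_2 (flp_e L784081) L772454 (flp_e L772068) (flp_f L779172) L791278
theorem L791290 : sm ga N58850 = N60067 := rfl
theorem L791292 : sm gd N60067 = N58852 := ded_12_2 (flp_a L779203) (flp_d L779193) L791290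
theorem L791294 : sm gg N60067 = N59405 := ded_15_2 (flp_a L783890) (flp_g L779195) L791290
theorem L791296 : sm ge N58850 = N60068 := rfl
theorem L791298 : sm gb N60068 = N58851 := ded_21_1 (flp_e L779197) L779191 L791296
theorem L791300 : sm gg N60068 = N59406 := ded_41_2 (flp_e L783896) (flp_g L779195) L791296
theorem L791302 : sm gc N58853 = N60069 := rfl
theorem L791304 : sm ga N60069 = N58920 := ded_11_1 (flp_c L779910) (flp_a L779211) L791302
theorem L791306 : sm gf N60069 = N58854 := ded_29_2 (flp_c L779221) (flp_f L779215) L791302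
theorem L791308 : sm gj N60069 = N58859 := ded_31_2 (flp_c L779286) (flp_j L779217) L791302
theorem L791310 : sm gh N60069 = N58865 := ded_32_2 (flp_c L779349) (flp_h L779219) L791302
theorem L791312 : sm gd N60069 = N59255 := ded_27_2 (flp_c L782926) (flp_d L771302) (flp_c L767811) L779209 L791302
theorem L791314 : sm ge N58853 = N60070 := rfl
theorem L791316 : sm ga N60070 = N58921 := ded_13_1 (flp_e L779918) (flp_a L779211) L791314
theorem L791318 : sm gb N60070 = N59378 := ded_21_1 (flp_e L783706) (flp_b L779213) L791314
theorem L791320 : sm gj N60070 = N58860 := ded_42_2 (flp_e L779294) (flp_j L779217) L791314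
theorem L791322 : sm gh N60070 = N58866 := ded_43_2 (flp_e L779361) (flp_h L779219) L791314
theorem L791324 : sm gd N60070 = N60070 := ded_34_1 (flp_e L791314) (flp_d L779209) L767813 L779209 L791314
theorem L791325 : sm gf N60070 = N59389 := ded_40_2 (flp_e L783778) L772145 (flp_e L767828) (flp_f L779215) L791314
theorem L791327 : sm gb N58854 = N60071 := rfl
theorem L791329 : sm gd N60071 = N59259 := ded_20_2 (flp_b L782951) (flp_d L779233) L791327
theorem L791331 : sm ge N60071 = N59390 := ded_21_2 (flp_b L783785) (flp_e L779225) L791327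
theorem L791333 : sm gg N60071 = N59387 := ded_23_2 (flp_b L783764) (flp_g L779227) L791327
theorem L791335 : sm gj N60071 = N58861 := ded_24_2 (flp_b L779303) (flp_j L779229) L791327
theorem L791337 : sm gh N60071 = N58867 := ded_25_2 (flp_b L779373) (flp_h L779231) L791327
theorem L791339 : sm gc N60071 = N59379 := ded_19_2 (flp_b L783709) (flp_c L772100) (flp_b L767822) L779221 L791327
theorem L791341 : sm gc N58855 = N60072 := rfl
theorem L791343 : sm ga N60072 = N58936 := ded_11_1 (flp_c L780069) (flp_a L779237) L791341
theorem L791345 : sm gf N60072 = N58856 := ded_29_2 (flp_c L779247) (flp_f L779241) L791341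
theorem L791347 : sm gj N60072 = N59255 := ded_31_2 (flp_c L782926) (flp_j L779243) L791341
theorem L791349 : sm gh N60072 = N59233 := ded_32_2 (flp_c L782747) (flp_h L779245) L791341
theorem L791351 : sm gd N60072 = N58859 := ded_27_2 (flp_c L779286) (flp_d L767871) (flp_c L767838) L779235 L791341
theorem L791353 : sm ge N58855 = N60073 := rfl
theorem L791355 : sm ga N60073 = N58937 := ded_13_1 (flp_e L780075) (flp_a L779237) L791353
theorem L791357 : sm gb N60073 = N59239 := ded_21_1 (flp_e L782803) (flp_b L779239) L791353
theorem L791359 : sm gj N60073 = N59256 := ded_42_2 (flp_e L782932) (flp_j L779243) L791353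
theorem L791361 : sm gh N60073 = N59234 := ded_43_2 (flp_e L782757) (flp_h L779245) L791353
theorem L791363 : sm gd N60073 = N60073 := ded_34_1 (flp_e L791353) (flp_d L779235) L767840 L779235 L791353
theorem L791364 : sm gb N58856 = N60074 := rfl
theorem L791366 : sm gd N60074 = N58861 := ded_20_2 (flp_b L779303) (flp_d L779257) L791364
theorem L791368 : sm gg N60074 = N59407 := ded_23_2 (flp_b L783900) (flp_g L779251) L791364
theorem L791370 : sm gj N60074 = N59259 := ded_24_2 (flp_b L782951) (flp_j L779253) L791364
theorem L791372 : sm gh N60074 = N59235 := ded_25_2 (flp_b L782767) (flp_h L779255) L791364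
theorem L791374 : sm gc N60074 = N59242 := ded_19_2 (flp_b L782824) (flp_c L771210) (flp_b L767849) L779247 L791364
theorem L791376 : sm ge N58856 = N60075 := rfl
theorem L791378 : sm ga N60075 = N58939 := ded_13_1 (flp_e L780084) (flp_a L779249) L791376
theorem L791380 : sm gc N60075 = N58857 := ded_28_1 (flp_e L779259) L779247 L791376
theorem L791382 : sm gg N60075 = N59408 := ded_41_2 (flp_e L783904) (flp_g L779251) L791376
theorem L791384 : sm gj N60075 = N59260 := ded_42_2 (flp_e L782957) (flp_j L779253) L791376
theorem L791386 : sm gh N60075 = N59236 := ded_43_2 (flp_e L782775) (flp_h L779255) L791376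
theorem L791388 : sm gd N60075 = N59311 := ded_34_1 (flp_e L783301) L771669 (flp_e L767883) (flp_d L779257) L791376
theorem L791390 : sm gf N58857 = N60076 := rfl
theorem L791392 : sm ga N60076 = N58940 := ded_14_1 (flp_f L780090) (flp_a L779261) L791390
theorem L791394 : sm gb N60076 = N59244 := ded_22_1 (flp_f L782838) (flp_b L779263) L791390
theorem L791396 : sm gd N60076 = N58858 := ded_35_1 (flp_f L779273) (flp_d L779271) L791390
theorem L791398 : sm gj N60076 = N59086 := ded_46_2 L781372 (flp_j L779267) L791390
theorem L791400 : sm gh N60076 = N59085 := ded_47_2 L781364 (flp_h L779269) L791390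
theorem L791402 : sm gg N58858 = N60077 := rfl
theorem L791404 : sm ga N60077 = N58941 := ded_15_1 (flp_g L780094) (flp_a L779275) L791402
theorem L791406 : sm gb N60077 = N59290 := ded_23_1 (flp_g L783148) (flp_b L779277) L791402
theorem L791408 : sm gc N60077 = N58909 := ded_30_1 L779804 (flp_c L779279) L791402
theorem L791410 : sm ge N60077 = N60077 := ded_41_1 (flp_g L791402) L779285 L791402
theorem L791411 : sm gh N60077 = N58913 := ded_50_2 L779844 (flp_h L779283) L791402
theorem L791413 : sm gf N60077 = N58908 := ded_45_1 L779793 L768363 (flp_g L767865) L779273 L791402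
theorem L791415 : sm gj N60077 = N59094 := ded_49_2 L781448 L769904 (flp_g L769927) (flp_j L779281) L791402
theorem L791417 : sm gb N58859 = N60078 := rfl
theorem L791419 : sm gf N60078 = N58861 := ded_22_2 (flp_b L779303) (flp_f L779290) L791417
theorem L791421 : sm gh N60078 = N58868 := ded_25_2 (flp_b L779383) (flp_h L779292) L791417
theorem L791423 : sm ge N58859 = N60079 := rfl
theorem L791425 : sm ga N60079 = N58945 := ded_13_1 (flp_e L780130) (flp_a L779288) L791423
theorem L791427 : sm gc N60079 = N58860 := ded_28_1 (flp_e L779294) L779286 L791423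
theorem L791429 : sm gh N60079 = N58869 := ded_43_2 (flp_e L779391) (flp_h L779292) L791423
theorem L791431 : sm gf N60079 = N59403 := ded_40_2 (flp_e L783880) L772237 (flp_e L767883) (flp_f L779290) L791423
theorem L791433 : sm ga N58861 = N60080 := rfl
theorem L791435 : sm ge N60080 = N59404 := ded_13_2 (flp_a L783886) (flp_e L779305) L791433
theorem L791437 : sm gg N60080 = N59409 := ded_15_2 (flp_a L783910) (flp_g L779307) L791433
theorem L791439 : sm gh N60080 = N58870 := ded_17_2 (flp_a L779401) (flp_h L779309) L791433
theorem L791441 : sm gb N60080 = N58946 := ded_10_2 (flp_a L780136) (flp_b L768664) (flp_a L767881) L779303 L791433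
theorem L791443 : sm gc N58862 = N60081 := rfl
theorem L791445 : sm ga N60081 = N58949 := ded_11_1 (flp_c L780168) (flp_a L779313) L791443
theorem L791447 : sm gf N60081 = N58863 := ded_29_2 (flp_c L779325) (flp_f L779317) L791443
theorem L791449 : sm gj N60081 = N59396 := ded_31_2 (flp_c L783827) (flp_j L779319) L791443
theorem L791451 : sm gh N60081 = N59385 := ded_32_2 (flp_c L783748) (flp_h L779323) L791443
theorem L791453 : sm gi N60081 = N58877 := ded_33_2 (flp_c L779485) (flp_i L779321) L791443
theorem L791455 : sm gd N60081 = N59030 := ded_27_2 (flp_c L780913) (flp_d L769385) (flp_c L767895) L779311 L791443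
theorem L791457 : sm ge N58862 = N60082 := rfl
theorem L791459 : sm ga N60082 = N58950 := ded_13_1 (flp_e L780176) (flp_a L779313) L791457
theorem L791461 : sm gb N60082 = N59389 := ded_21_1 (flp_e L783778) (flp_b L779315) L791457
theorem L791463 : sm gj N60082 = N59397 := ded_42_2 (flp_e L783837) (flp_j L779319) L791457
theorem L791465 : sm gh N60082 = N59386 := ded_43_2 (flp_e L783756) (flp_h L779323) L791457
theorem L791467 : sm gi N60082 = N58878 := ded_44_2 (flp_e L779493) (flp_i L779321) L791457
theorem L791469 : sm gd N60082 = N60082 := ded_34_1 (flp_e L791457) (flp_d L779311) L767897 L779311 L791457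
theorem L791470 : sm gf N60082 = N59378 := ded_40_2 (flp_e L783706) L772098 (flp_e L767916) (flp_f L779317) L791457
theorem L791472 : sm gb N58863 = N60083 := rfl
theorem L791474 : sm gd N60083 = N59032 := ded_20_2 (flp_b L780928) (flp_d L779339) L791472
theorem L791476 : sm ge N60083 = N59379 := ded_21_2 (flp_b L783709) (flp_e L779329) L791472
theorem L791478 : sm gg N60083 = N58867 := ded_23_2 (flp_b L779373) (flp_g L779331) L791472
theorem L791480 : sm gj N60083 = N59398 := ded_24_2 (flp_b L783848) (flp_j L779333) L791472
theorem L791482 : sm gh N60083 = N59387 := ded_25_2 (flp_b L783764) (flp_h L779335) L791472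
theorem L791484 : sm gi N60083 = N58879 := ded_26_2 (flp_b L779500) (flp_i L779337) L791472
theorem L791486 : sm gc N60083 = N59390 := ded_19_2 (flp_b L783785) (flp_c L772151) (flp_b L767908) L779325 L791472
theorem L791488 : sm gc N58864 = N60084 := rfl
theorem L791490 : sm ga N60084 = N58957 := ded_11_1 (flp_c L780255) (flp_a L779343) L791488
theorem L791492 : sm gg N60084 = N58865 := ded_30_2 (flp_c L779349) (flp_g L779345) L791488
theorem L791494 : sm gi N60084 = N58886 := ded_33_2 (flp_c L779580) (flp_i L779347) L791488
theorem L791496 : sm gd N60084 = N59489 := ded_27_2 L784425 L772789 (flp_c L767924) L779341 L791488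
theorem L791498 : sm ge N58864 = N60085 := rfl
theorem L791500 : sm ga N60085 = N58958 := ded_13_1 (flp_e L780261) (flp_a L779343) L791498
theorem L791502 : sm gg N60085 = N58866 := ded_41_2 (flp_e L779361) (flp_g L779345) L791498
theorem L791504 : sm gi N60085 = N58887 := ded_44_2 (flp_e L779586) (flp_i L779347) L791498
theorem L791506 : sm gd N60085 = N58872 := ded_34_1 (flp_e L779425) (flp_d L767984) (flp_e L767926) L779341 L791498
theorem L791508 : sm gb N58865 = N60086 := rfl
theorem L791510 : sm gd N60086 = N59488 := ded_20_2 L784415 (flp_d L779359) L791508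
theorem L791512 : sm gf N60086 = N58867 := ded_22_2 (flp_b L779373) (flp_f L779353) L791508
theorem L791514 : sm gj N60086 = N58868 := ded_24_2 (flp_b L779383) (flp_j L779355) L791508
theorem L791516 : sm gi N60086 = N58888 := ded_26_2 (flp_b L779594) (flp_i L779357) L791508
theorem L791518 : sm ge N58865 = N60087 := rfl
theorem L791520 : sm ga N60087 = N58960 := ded_13_1 (flp_e L780277) (flp_a L779351) L791518
theorem L791522 : sm gc N60087 = N58866 := ded_28_1 (flp_e L779361) L779349 L791518
theorem L791524 : sm gj N60087 = N58869 := ded_42_2 (flp_e L779391) (flp_j L779355) L791518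
theorem L791526 : sm gi N60087 = N58889 := ded_44_2 (flp_e L779600) (flp_i L779357) L791518
theorem L791528 : sm gf N60087 = N59392 := ded_40_2 (flp_e L783799) L772159 (flp_e L767946) (flp_f L779353) L791518
theorem L791530 : sm ga N58867 = N60088 := rfl
theorem L791532 : sm gd N60088 = N59487 := ded_12_2 L784405 (flp_d L779375) L791530
theorem L791534 : sm ge N60088 = N59393 := ded_13_2 (flp_a L783805) (flp_e L779377) L791530
theorem L791536 : sm gj N60088 = N58870 := ded_16_2 (flp_a L779401) (flp_j L779379) L791530
theorem L791538 : sm gi N60088 = N58890 := ded_18_2 (flp_a L779608) (flp_i L779381) L791530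
theorem L791540 : sm gb N60088 = N58961 := ded_10_2 (flp_a L780285) (flp_b L768805) (flp_a L767944) L779373 L791530
theorem L791542 : sm ga N58868 = N60089 := rfl
theorem L791544 : sm gd N60089 = N59516 := ded_12_2 L784583 (flp_d L779385) L791542
theorem L791546 : sm gf N60089 = N58870 := ded_14_2 (flp_a L779401) (flp_f L779387) L791542
theorem L791548 : sm gi N60089 = N58902 := ded_18_2 (flp_a L779735) (flp_i L779389) L791542
theorem L791550 : sm gb N60089 = N58976 := ded_10_2 (flp_a L780439) (flp_b L768951) (flp_a L767956) L779383 L791542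
theorem L791552 : sm ge N58868 = N60090 := rfl
theorem L791554 : sm gb N60090 = N58869 := ded_21_1 (flp_e L779391) L779383 L791552
theorem L791556 : sm gi N60090 = N58903 := ded_44_2 (flp_e L779741) (flp_i L779389) L791552
theorem L791558 : sm gf N60090 = N59406 := ded_40_2 (flp_e L783896) L772254 (flp_e L767978) (flp_f L779387) L791552
theorem L791560 : sm gd N58869 = N60091 := rfl
theorem L791562 : sm ga N60091 = N58978 := ded_12_1 (flp_d L780451) (flp_a L779393) L791560
theorem L791564 : sm gf N60091 = N59179 := ded_35_2 L782309 (flp_f L779399) L791560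
theorem L791566 : sm gi N60091 = N58904 := ded_39_2 (flp_d L779745) (flp_i L779397) L791560
theorem L791568 : sm gc N60091 = N58874 := ded_27_1 (flp_d L779447) L768022 (flp_d L767970) (flp_c L779395) L791560
theorem L791570 : sm ge N60091 = N59182 := ded_34_2 L782329 L772937 (flp_d L767962) L779391 L791560
theorem L791572 : sm ge N58871 = N60092 := rfl
theorem L791574 : sm ga N60092 = N58982 := ded_13_1 (flp_e L780500) (flp_a L779415) L791572
theorem L791576 : sm gc N60092 = N58872 := ded_28_1 (flp_e L779425) L779413 L791572
theorem L791578 : sm gg N60092 = N58873 := ded_41_2 (flp_e L779434) (flp_g L779418) L791572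
theorem L791580 : sm gh N60092 = N60092 := ded_43_2 (flp_e L791572) L779420 L791572
theorem L791581 : sm gi N60092 = N58908 := ded_44_2 (flp_e L779787) (flp_i L779421) L791572
theorem L791583 : sm gf N58872 = N60093 := rfl
theorem L791585 : sm ga N60093 = N58983 := ded_14_1 (flp_f L780509) (flp_a L779427) L791583
theorem L791587 : sm gh N60093 = N60093 := ded_47_2 (flp_f L791583) L779431 L791583
theorem L791588 : sm gi N60093 = N58909 := ded_48_2 (flp_f L779797) (flp_i L779432) L791583
theorem L791590 : sm ge N60093 = N60093 := ded_40_1 (flp_f L791583) (flp_e L779425) L767988 L779425 L791583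
theorem L791591 : sm gg N60093 = N59321 := ded_45_2 (flp_f L783357) L771730 (flp_f L768016) (flp_g L779429) L791583
theorem L791593 : sm gd N58873 = N60094 := rfl
theorem L791595 : sm ga N60094 = N58985 := ded_12_1 (flp_d L780528) (flp_a L779436) L791593
theorem L791597 : sm gf N60094 = N59161 := ded_35_2 L782156 (flp_f L779445) L791593
theorem L791599 : sm gj N60094 = N58874 := ded_37_2 (flp_d L779447) (flp_j L779440) L791593
theorem L791601 : sm gi N60094 = N58910 := ded_39_2 (flp_d L779806) (flp_i L779443) L791593
theorem L791603 : sm ge N60094 = N59164 := ded_34_2 L782178 L770565 (flp_d L768005) L779434 L791593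
theorem L791605 : sm gh N58874 = N60095 := rfl
theorem L791607 : sm ga N60095 = N58989 := ded_17_1 (flp_h L780575) (flp_a L779449) L791605
theorem L791609 : sm ge N60095 = N59177 := ded_43_1 L782295 (flp_e L779455) L791605
theorem L791611 : sm gf N60095 = N59174 := ded_47_1 L782268 (flp_f L779451) L791605
theorem L791613 : sm gd N60095 = N60095 := ded_38_1 (flp_h L791605) (flp_d L779447) L768024 L779447 L791605
theorem L791614 : sm gc N58875 = N60096 := rfl
theorem L791616 : sm ga N60096 = N58993 := ded_11_1 (flp_c L780618) (flp_a L779459) L791614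
theorem L791618 : sm gf N60096 = N58876 := ded_29_2 (flp_c L779471) (flp_f L779463) L791614
theorem L791620 : sm gj N60096 = N59266 := ded_31_2 (flp_c L782999) (flp_j L779465) L791614
theorem L791622 : sm gh N60096 = N59278 := ded_32_2 (flp_c L783075) (flp_h L779469) L791614
theorem L791624 : sm gi N60096 = N59030 := ded_33_2 (flp_c L780913) (flp_i L779467) L791614
theorem L791626 : sm gd N60096 = N58877 := ded_27_2 (flp_c L779485) (flp_d L768058) (flp_c L768035) L779457 L791614
theorem L791628 : sm ge N58875 = N60097 := rfl
theorem L791630 : sm ga N60097 = N58994 := ded_13_1 (flp_e L780626) (flp_a L779459) L791628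
theorem L791632 : sm gb N60097 = N59043 := ded_21_1 (flp_e L781017) (flp_b L779461) L791628
theorem L791634 : sm gj N60097 = N59267 := ded_42_2 (flp_e L783011) (flp_j L779465) L791628
theorem L791636 : sm gh N60097 = N59279 := ded_43_2 (flp_e L783081) (flp_h L779469) L791628
theorem L791638 : sm gi N60097 = N59031 := ded_44_2 (flp_e L780919) (flp_i L779467) L791628
theorem L791640 : sm gd N60097 = N60097 := ded_34_1 (flp_e L791628) (flp_d L779457) L768037 L779457 L791628
theorem L791641 : sm gf N60097 = N59436 := ded_40_2 (flp_e L784062) L772440 (flp_e L768056) (flp_f L779463) L791628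
theorem L791643 : sm gb N58876 = N60098 := rfl
theorem L791645 : sm gd N60098 = N58879 := ded_20_2 (flp_b L779500) (flp_d L779483) L791643
theorem L791647 : sm ge N60098 = N59437 := ded_21_2 (flp_b L784067) (flp_e L779475) L791643
theorem L791649 : sm gg N60098 = N58885 := ded_23_2 (flp_b L779568) (flp_g L779477) L791643
theorem L791651 : sm gj N60098 = N59411 := ded_24_2 (flp_b L783924) (flp_j L779479) L791643
theorem L791653 : sm gi N60098 = N59032 := ded_26_2 (flp_b L780928) (flp_i L779481) L791643
theorem L791655 : sm gc N60098 = N59047 := ded_19_2 (flp_b L781045) (flp_c L769484) (flp_b L768048) L779471 L791643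
theorem L791657 : sm gb N58877 = N60099 := rfl
theorem L791659 : sm gf N60099 = N58879 := ded_22_2 (flp_b L779500) (flp_f L779489) L791657
theorem L791661 : sm gj N60099 = N59412 := ded_24_2 (flp_b L783930) (flp_j L779491) L791657
theorem L791663 : sm ge N58877 = N60100 := rfl
theorem L791665 : sm ga N60100 = N59001 := ded_13_1 (flp_e L780688) (flp_a L779487) L791663
theorem L791667 : sm gc N60100 = N58878 := ded_28_1 (flp_e L779493) L779485 L791663
theorem L791669 : sm gj N60100 = N59413 := ded_42_2 (flp_e L783934) (flp_j L779491) L791663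
theorem L791671 : sm ga N58879 = N60101 := rfl
theorem L791673 : sm gg N60101 = N58890 := ded_15_2 (flp_a L779608) (flp_g L779502) L791671
theorem L791675 : sm gj N60101 = N59414 := ded_16_2 (flp_a L783940) (flp_j L779504) L791671
theorem L791677 : sm gb N60101 = N59002 := ded_10_2 (flp_a L780694) (flp_b L769200) (flp_a L768068) L779500 L791671
theorem L791679 : sm gc N58880 = N60102 := rfl
theorem L791681 : sm ga N60102 = N59009 := ded_11_1 (flp_c L780762) (flp_a L779508) L791679
theorem L791683 : sm gf N60102 = N58881 := ded_29_2 (flp_c L779520) (flp_f L779512) L791679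
theorem L791685 : sm gj N60102 = N58895 := ded_31_2 (flp_c L779666) (flp_j L779514) L791679
theorem L791687 : sm gh N60102 = N58883 := ded_32_2 (flp_c L779542) (flp_h L779518) L791679
theorem L791689 : sm gi N60102 = N59447 := ded_33_2 (flp_c L784129) (flp_i L779516) L791679
theorem L791691 : sm ge N58880 = N60103 := rfl
theorem L791693 : sm ga N60103 = N59010 := ded_13_1 (flp_e L780770) (flp_a L779508) L791691
theorem L791695 : sm gb N60103 = N59457 := ded_21_1 (flp_e L784197) (flp_b L779510) L791691
theorem L791697 : sm gj N60103 = N58896 := ded_42_2 (flp_e L779674) (flp_j L779514) L791691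
theorem L791699 : sm gh N60103 = N58884 := ded_43_2 (flp_e L779554) (flp_h L779518) L791691
theorem L791701 : sm gi N60103 = N59448 := ded_44_2 (flp_e L784135) (flp_i L779516) L791691
theorem L791703 : sm gd N60103 = N60103 := ded_34_1 (flp_e L791691) (flp_d L779506) L768080 L779506 L791691
theorem L791704 : sm gf N60103 = N59192 := ded_40_2 (flp_e L782424) L770871 (flp_e L768097) (flp_f L779512) L791691
theorem L791706 : sm gb N58881 = N60104 := rfl
theorem L791708 : sm ge N60104 = N59442 := ded_21_2 (flp_b L784103) (flp_e L779524) L791706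
theorem L791710 : sm gj N60104 = N58898 := ded_24_2 (flp_b L779697) (flp_j L779526) L791706
theorem L791712 : sm gh N60104 = N58885 := ded_25_2 (flp_b L779568) (flp_h L779528) L791706
theorem L791714 : sm gi N60104 = N59449 := ded_26_2 (flp_b L784142) (flp_i L779530) L791706
theorem L791716 : sm gc N60104 = N59460 := ded_19_2 (flp_b L784216) (flp_c L772569) (flp_b L768091) L779520 L791706
theorem L791718 : sm gc N58882 = N60105 := rfl
theorem L791720 : sm ga N60105 = N59014 := ded_11_1 (flp_c L780805) (flp_a L779534) L791718
theorem L791722 : sm gg N60105 = N58883 := ded_30_2 (flp_c L779542) (flp_g L779538) L791718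
theorem L791724 : sm gi N60105 = N59489 := ded_33_2 L784425 (flp_i L779540) L791718
theorem L791726 : sm gd N60105 = N58886 := ded_27_2 (flp_c L779580) (flp_d L768139) (flp_c L768107) L779532 L791718
theorem L791728 : sm ge N58882 = N60106 := rfl
theorem L791730 : sm ga N60106 = N59015 := ded_13_1 (flp_e L780811) (flp_a L779534) L791728
theorem L791732 : sm gb N60106 = N59500 := ded_21_1 (flp_e L784483) (flp_b L779536) L791728
theorem L791734 : sm gg N60106 = N58884 := ded_41_2 (flp_e L779554) (flp_g L779538) L791728
theorem L791736 : sm gi N60106 = N59486 := ded_44_2 L784399 (flp_i L779540) L791728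
theorem L791738 : sm gd N60106 = N58906 := ded_34_1 (flp_e L779763) (flp_d L768298) (flp_e L768109) L779532 L791728
theorem L791740 : sm gb N58883 = N60107 := rfl
theorem L791742 : sm gd N60107 = N58888 := ded_20_2 (flp_b L779594) (flp_d L779552) L791740
theorem L791744 : sm gf N60107 = N58885 := ded_22_2 (flp_b L779568) (flp_f L779546) L791740
theorem L791746 : sm gj N60107 = N58899 := ded_24_2 (flp_b L779705) (flp_j L779548) L791740
theorem L791748 : sm gi N60107 = N59488 := ded_26_2 L784415 (flp_i L779550) L791740
theorem L791750 : sm gc N60107 = N59504 := ded_19_2 (flp_b L784511) (flp_c L772863) (flp_b L768119) L779542 L791740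
theorem L791752 : sm ge N58883 = N60108 := rfl

end Cfsg.Agent.Helper28.FicA
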