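import Cfsg.Agent.Helper28.FicB45

/-! # The Fi₂₃ presentation, cosets of the subgroup generated by a, …, i: the coset enumeration, part 46 (helper28; generated) -/

set_option autoImplicit false

noncomputable section

namespace Cfsg.Agent.Helper28.FicA

open Cfsg.Agent.Helper28.CosetTable

theorem L791754 : sm ga N60108 = N59017 := ded_13_1 (flp_e L780825) (flp_a L779544) L791752
theorem L791756 : sm gc N60108 = N58884 := ded_28_1 (flp_e L779554) L779542 L791752
theorem L791758 : sm gj N60108 = N58900 := ded_42_2 (flp_e L779713) (flp_j L779548) L791752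
theorem L791760 : sm gi N60108 = N59485 := ded_44_2 L784391 (flp_i L779550) L791752
theorem L791762 : sm gf N60108 = N59194 := ded_40_2 (flp_e L782441) L770879 (flp_e L768131) (flp_f L779546) L791752
theorem L791764 : sm ga N58885 = N60109 := rfl
theorem L791766 : sm gc N60109 = N59509 := ded_11_2 (flp_a L784543) (flp_c L779578) L791764
theorem L791768 : sm gd N60109 = N58890 := ded_12_2 (flp_a L779608) (flp_d L779570) L791764
theorem L791770 : sm ge N60109 = N59443 := ded_13_2 (flp_a L784109) (flp_e L779572) L791764
theorem L791772 : sm gj N60109 = N58901 := ded_16_2 (flp_a L779723) (flp_j L779574) L791764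
theorem L791774 : sm gi N60109 = N59487 := ded_18_2 L784405 (flp_i L779576) L791764
theorem L791776 : sm gb N60109 = N59018 := ded_10_2 (flp_a L780831) (flp_b L769318) (flp_a L768129) L779568 L791764
theorem L791778 : sm gb N58886 = N60110 := rfl
theorem L791780 : sm gg N60110 = N58888 := ded_23_2 (flp_b L779594) (flp_g L779584) L791778
theorem L791782 : sm ge N58886 = N60111 := rfl
theorem L791784 : sm ga N60111 = N59023 := ded_13_1 (flp_e L780867) (flp_a L779582) L791782
theorem L791786 : sm gc N60111 = N58887 := ded_28_1 (flp_e L779586) L779580 L791782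
theorem L791788 : sm gg N60111 = N58889 := ded_41_2 (flp_e L779600) (flp_g L779584) L791782
theorem L791790 : sm gf N58887 = N60112 := rfl
theorem L791792 : sm ga N60112 = N59024 := ded_14_1 (flp_f L780873) (flp_a L779588) L791790
theorem L791794 : sm gd N60112 = N58909 := ded_35_1 (flp_f L779797) (flp_d L779592) L791790
theorem L791796 : sm gh N60112 = N59319 := ded_47_2 (flp_f L785008) L785018 L791790
theorem L791798 : sm gg N60112 = N59312 := ded_45_2 (flp_f L783307) (flp_g L776921) L776931 (flp_g L779590) L791790
theorem L791800 : sm ga N58888 = N60113 := rfl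
theorem L791802 : sm gf N60113 = N58890 := ded_14_2 (flp_a L779608) (flp_f L779596) L791800
theorem L791804 : sm gj N60113 = N58902 := ded_16_2 (flp_a L779735) (flp_j L779598) L791800
theorem L791806 : sm gb N60113 = N59025 := ded_10_2 (flp_a L780877) (flp_b L769352) (flp_a L768147) L779594 L791800
theorem L791808 : sm ge N58888 = N60114 := rfl
theorem L791810 : sm gb N60114 = N58889 := ded_21_1 (flp_e L779600) L779594 L791808
theorem L791812 : sm gj N60114 = N58903 := ded_42_2 (flp_e L779741) (flp_j L779598) L791808
theorem L791814 : sm gd N58889 = N60115 := rfl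
theorem L791816 : sm ga N60115 = N59027 := ded_12_1 (flp_d L780889) (flp_a L779602) L791814
theorem L791818 : sm gf N60115 = N59408 := ded_35_2 (flp_d L788846) L788848 L791814
theorem L791820 : sm gj N60115 = N58904 := ded_37_2 (flp_d L779745) (flp_j L779606) L791814
theorem L791822 : sm gc N60115 = N58910 := ded_27_1 (flp_d L779806) L768357 (flp_d L768159) (flp_c L779604) L791814
theorem L791824 : sm gc N58891 = N60116 := rfl
theorem L791826 : sm gf N60116 = N59216 := ded_29_2 (flp_c L782637) (flp_f L779618) L791824
theorem L791828 : sm gg N60116 = N59004 := ded_30_2 (flp_c L780712) (flp_g L779620) L791824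
theorem L791830 : sm gj N60116 = N59429 := ded_31_2 (flp_c L784022) (flp_j L779622) L791824
theorem L791832 : sm gh N60116 = N59268 := ded_32_2 (flp_c L783020) (flp_h L779626) L791824
theorem L791834 : sm gi N60116 = N59215 := ded_33_2 (flp_c L782627) (flp_i L779624) L791824
theorem L791836 : sm gd N60116 = N58892 := ded_27_2 (flp_c L779628) (flp_d L768181) (flp_c L768169) L779614 L791824
theorem L791838 : sm gb N58892 = N60117 := rfl
theorem L791840 : sm ge N60117 = N59449 := ded_21_2 (flp_b L784142) (flp_e L779630) L791838
theorem L791842 : sm gg N60117 = N59418 := ded_23_2 (flp_b L783964) (flp_g L779632) L791838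
theorem L791844 : sm gj N60117 = N59460 := ded_24_2 (flp_b L784216) (flp_j L779634) L791838
theorem L791846 : sm gh N60117 = N58893 := ded_25_2 (flp_b L779640) (flp_h L779636) L791838
theorem L791848 : sm gi N60117 = N59442 := ded_26_2 (flp_b L784103) (flp_i L779638) L791838
theorem L791850 : sm gc N60117 = N58898 := ded_19_2 (flp_b L779697) (flp_c L768242) (flp_b L768183) L779628 L791838
theorem L791852 : sm ga N58893 = N60118 := rfl
theorem L791854 : sm gc N60118 = N58901 := ded_11_2 (flp_a L779723) (flp_c L779650) L791852
theorem L791856 : sm ge N60118 = N59452 := ded_13_2 (flp_a L784162) (flp_e L779642) L791852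
theorem L791858 : sm gg N60118 = N59419 := ded_15_2 (flp_a L783970) (flp_g L779644) L791852
theorem L791860 : sm gj N60118 = N59509 := ded_16_2 (flp_a L784543) (flp_j L779646) L791852
theorem L791862 : sm gi N60118 = N59482 := ded_18_2 (flp_a L784359) (flp_i L779648) L791852
theorem L791864 : sm gc N58894 = N60119 := rfl
theorem L791866 : sm ga N60119 = N59042 := ded_11_1 (flp_c L781011) (flp_a L779654) L791864
theorem L791868 : sm gf N60119 = N58897 := ded_29_2 (flp_c L779683) (flp_f L779658) L791864
theorem L791870 : sm gj N60119 = N59447 := ded_31_2 (flp_c L784129) (flp_j L779660) L791864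
theorem L791872 : sm gh N60119 = N59188 := ded_32_2 (flp_c L782381) (flp_h L779664) L791864
theorem L791874 : sm gi N60119 = N58895 := ded_33_2 (flp_c L779666) (flp_i L779662) L791864
theorem L791876 : sm ge N58894 = N60120 := rfl
theorem L791878 : sm ga N60120 = N59043 := ded_13_1 (flp_e L781017) (flp_a L779654) L791876
theorem L791880 : sm gb N60120 = N59192 := ded_21_1 (flp_e L782424) (flp_b L779656) L791876
theorem L791882 : sm gj N60120 = N59448 := ded_42_2 (flp_e L784135) (flp_j L779660) L791876
theorem L791884 : sm gh N60120 = N59189 := ded_43_2 (flp_e L782391) (flp_h L779664) L791876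
theorem L791886 : sm gi N60120 = N58896 := ded_44_2 (flp_e L779674) (flp_i L779662) L791876
theorem L791888 : sm gd N60120 = N60120 := ded_34_1 (flp_e L791876) (flp_d L779652) L768211 L779652 L791876
theorem L791889 : sm gf N60120 = N59457 := ded_40_2 (flp_e L784197) L772552 (flp_e L768238) (flp_f L779658) L791876
theorem L791891 : sm gb N58895 = N60121 := rfl
theorem L791893 : sm gf N60121 = N58898 := ded_22_2 (flp_b L779697) (flp_f L779670) L791891
theorem L791895 : sm gh N60121 = N58899 := ded_25_2 (flp_b L779705) (flp_h L779672) L791891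
theorem L791897 : sm ge N58895 = N60122 := rfl
theorem L791899 : sm ga N60122 = N59045 := ded_13_1 (flp_e L781028) (flp_a L779668) L791897
theorem L791901 : sm gc N60122 = N58896 := ded_28_1 (flp_e L779674) L779666 L791897
theorem L791903 : sm gh N60122 = N58900 := ded_43_2 (flp_e L779713) (flp_h L779672) L791897
theorem L791905 : sm gf N60122 = N59459 := ded_40_2 (flp_e L784210) L772560 (flp_e L768246) (flp_f L779670) L791897
theorem L791907 : sm gb N58897 = N60123 := rfl
theorem L791909 : sm ge N60123 = N59460 := ded_21_2 (flp_b L784216) (flp_e L779687) L791907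
theorem L791911 : sm gg N60123 = N59420 := ded_23_2 (flp_b L783974) (flp_g L779689) L791907
theorem L791913 : sm gj N60123 = N59449 := ded_24_2 (flp_b L784142) (flp_j L779691) L791907
theorem L791915 : sm gh N60123 = N59441 := ded_25_2 (flp_b L784093) (flp_h L779693) L791907
theorem L791917 : sm gi N60123 = N58898 := ded_26_2 (flp_b L779697) (flp_i L779695) L791907
theorem L791919 : sm gc N60123 = N59442 := ded_19_2 (flp_b L784103) (flp_c L772477) (flp_b L768230) L779683 L791907
theorem L791921 : sm ga N58898 = N60124 := rfl
theorem L791923 : sm ge N60124 = N59461 := ded_13_2 (flp_a L784222) (flp_e L779699) L791921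
theorem L791925 : sm gg N60124 = N59421 := ded_15_2 (flp_a L783978) (flp_g L779701) L791921
theorem L791927 : sm gh N60124 = N58901 := ded_17_2 (flp_a L779723) (flp_h L779703) L791921
theorem L791929 : sm gb N60124 = N59049 := ded_10_2 (flp_a L781063) (flp_b L769504) (flp_a L768244) L779697 L791921
theorem L791931 : sm ga N58899 = N60125 := rfl
theorem L791933 : sm gd N60125 = N58902 := ded_12_2 (flp_a L779735) (flp_d L779707) L791931
theorem L791935 : sm gf N60125 = N58901 := ded_14_2 (flp_a L779723) (flp_f L779709) L791931
theorem L791937 : sm gi N60125 = N59516 := ded_18_2 L784583 (flp_i L779711) L791931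
theorem L791939 : sm gb N60125 = N59058 := ded_10_2 (flp_a L781131) (flp_b L769550) (flp_a L768254) L779705 L791931
theorem L791941 : sm ge N58899 = N60126 := rfl
theorem L791943 : sm gb N60126 = N58900 := ded_21_1 (flp_e L779713) L779705 L791941
theorem L791945 : sm gi N60126 = N59515 := ded_44_2 L784579 (flp_i L779711) L791941
theorem L791947 : sm gf N60126 = N59468 := ded_40_2 (flp_e L784272) L772605 (flp_e L768276) (flp_f L779709) L791941
theorem L791949 : sm gd N58900 = N60127 := rfl
theorem L791951 : sm ga N60127 = N59060 := ded_12_1 (flp_d L781141) (flp_a L779715) L791949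
theorem L791953 : sm gf N60127 = N59144 := ded_35_2 L781988 (flp_f L779721) L791949
theorem L791955 : sm gi N60127 = N59182 := ded_39_2 L782329 (flp_i L779719) L791949
theorem L791957 : sm gc N60127 = N58911 := ded_27_1 (flp_d L779814) L768369 (flp_d L768268) (flp_c L779717) L791949
theorem L791959 : sm ge N60127 = N58904 := ded_34_2 (flp_d L779745) (flp_e L768286) (flp_d L768260) L779713 L791949
theorem L791961 : sm ge N58902 = N60128 := rfl
theorem L791963 : sm ga N60128 = N58903 := ded_13_1 (flp_e L779741) L779735 L791961
theorem L791965 : sm gb N60128 = N59069 := ded_21_1 (flp_e L781219) (flp_b L779739) L791961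
theorem L791967 : sm gd N58903 = N60129 := rfl
theorem L791969 : sm gb N60129 = N58904 := ded_20_1 (flp_d L779745) (flp_b L779743) L791967
theorem L791971 : sm gh N58904 = N60130 := rfl
theorem L791973 : sm ga N60130 = N59071 := ded_17_1 (flp_h L781227) (flp_a L779747) L791971
theorem L791975 : sm gc N60130 = N58912 := ded_32_1 (flp_h L779824) (flp_c L779749) L791971
theorem L791977 : sm ge N58905 = N60131 := rfl
theorem L791979 : sm ga N60131 = N59073 := ded_13_1 (flp_e L781242) (flp_a L779753) L791977
theorem L791981 : sm gc N60131 = N58906 := ded_28_1 (flp_e L779763) L779751 L791977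
theorem L791983 : sm gg N60131 = N58907 := ded_41_2 (flp_e L779774) (flp_g L779756) L791977
theorem L791985 : sm gh N60131 = N60131 := ded_43_2 (flp_e L791977) L779758 L791977
theorem L791986 : sm gi N60131 = N59165 := ded_44_2 L782188 (flp_i L779759) L791977
theorem L791988 : sm gd N58907 = N60132 := rfl
theorem L791990 : sm ga N60132 = N59075 := ded_12_1 (flp_d L781261) (flp_a L779776) L791988
theorem L791992 : sm gf N60132 = N59129 := ded_35_2 L781845 (flp_f L779785) L791988
theorem L791994 : sm gj N60132 = N58911 := ded_37_2 (flp_d L779814) (flp_j L779780) L791988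
theorem L791996 : sm gi N60132 = N59164 := ded_39_2 L782178 (flp_i L779783) L791988
theorem L791998 : sm ge N60132 = N58910 := ded_34_2 (flp_d L779806) (flp_e L768353) (flp_d L768321) L779774 L791988
theorem L792000 : sm gd N58908 = N60133 := rfl
theorem L792002 : sm ga N60133 = N59079 := ded_12_1 (flp_d L781308) (flp_a L779789) L792000
theorem L792004 : sm gg N60133 = N58910 := ded_36_2 (flp_d L779806) (flp_g L779793) L792000
theorem L792006 : sm gh N58911 = N60134 := rfl
theorem L792008 : sm ga N60134 = N59084 := ded_17_1 (flp_h L781353) (flp_a L779816) L792006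
theorem L792010 : sm ge N60134 = N58912 := ded_43_1 (flp_h L779824) (flp_e L779822) L792006
theorem L792012 : sm gf N60134 = N59142 := ded_47_1 L781971 (flp_f L779818) L792006
theorem L792014 : sm gd N60134 = N60134 := ded_38_1 (flp_h L792006) (flp_d L779814) L768371 L779814 L792006
theorem L792015 : sm gi N58912 = N60135 := rfl
theorem L792017 : sm ga N60135 = N59090 := ded_18_1 (flp_i L781400) (flp_a L779826) L792015
theorem L792019 : sm gd N60135 = N58914 := ded_39_1 (flp_i L779846) (flp_d L779828) L792015
theorem L792021 : sm gb N58915 = N60136 := rfl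
theorem L792023 : sm gg N60136 = N58922 := ded_23_2 (flp_b L779925) (flp_g L779856) L792021
theorem L792025 : sm gj N60136 = N59223 := ded_24_2 (flp_b L782682) (flp_j L779858) L792021
theorem L792027 : sm gh N60136 = N58951 := ded_25_2 (flp_b L780183) (flp_h L779860) L792021
theorem L792029 : sm gi N60136 = N59286 := ded_26_2 (flp_b L783117) (flp_i L779862) L792021
theorem L792031 : sm gc N60136 = N59469 := ded_19_2 (flp_b L784278) (flp_c L772621) (flp_b L768422) L779852 L792021
theorem L792033 : sm gc N58916 = N60137 := rfl
theorem L792035 : sm ga N60137 = N59168 := ded_11_1 (flp_c L782214) (flp_a L779866) L792033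
theorem L792037 : sm gf N60137 = N59454 := ded_29_2 (flp_c L784176) (flp_f L779870) L792033
theorem L792039 : sm gg N60137 = N58965 := ded_30_2 (flp_c L780327) (flp_g L779872) L792033
theorem L792041 : sm gj N60137 = N58928 := ded_31_2 (flp_c L779994) (flp_j L779874) L792033
theorem L792043 : sm gh N60137 = N58968 := ded_32_2 (flp_c L780361) (flp_h L779876) L792033
theorem L792045 : sm gc N58917 = N60138 := rfl
theorem L792047 : sm ga N60138 = N59255 := ded_11_1 (flp_c L782926) (flp_a L779880) L792045
theorem L792049 : sm gf N60138 = N58918 := ded_29_2 (flp_c L779892) (flp_f L779884) L792045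
theorem L792051 : sm gg N60138 = N59447 := ded_30_2 (flp_c L784129) (flp_g L779886) L792045
theorem L792053 : sm gj N60138 = N58936 := ded_31_2 (flp_c L780069) (flp_j L779888) L792045
theorem L792055 : sm gh N60138 = N59252 := ded_32_2 (flp_c L782898) (flp_h L779890) L792045
theorem L792057 : sm gd N60138 = N58920 := ded_27_2 (flp_c L779910) (flp_d L768478) (flp_c L768452) L779878 L792045
theorem L792059 : sm ge N58917 = N60139 := rfl
theorem L792061 : sm ga N60139 = N59256 := ded_13_1 (flp_e L782932) (flp_a L779880) L792059
theorem L792063 : sm gb N60139 = N59455 := ded_21_1 (flp_e L784182) (flp_b L779882) L792059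
theorem L792065 : sm gg N60139 = N59448 := ded_41_2 (flp_e L784135) (flp_g L779886) L792059
theorem L792067 : sm gj N60139 = N58937 := ded_42_2 (flp_e L780075) (flp_j L779888) L792059
theorem L792069 : sm gh N60139 = N59253 := ded_43_2 (flp_e L782910) (flp_h L779890) L792059
theorem L792071 : sm gd N60139 = N60139 := ded_34_1 (flp_e L792059) (flp_d L779878) L768454 L779878 L792059
theorem L792072 : sm gb N58918 = N60140 := rfl
theorem L792074 : sm gd N60140 = N58922 := ded_20_2 (flp_b L779925) (flp_d L779900) L792072
theorem L792076 : sm gj N60140 = N58938 := ded_24_2 (flp_b L780078) (flp_j L779896) L792072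
theorem L792078 : sm gh N60140 = N59254 := ded_25_2 (flp_b L782922) (flp_h L779898) L792072
theorem L792080 : sm gc N58919 = N60141 := rfl
theorem L792082 : sm gf N60141 = N59445 := ded_29_2 (flp_c L784121) (flp_f L779904) L792080
theorem L792084 : sm gg N60141 = N58920 := ded_30_2 (flp_c L779910) (flp_g L779906) L792080
theorem L792086 : sm gh N60141 = N58957 := ded_32_2 (flp_c L780255) (flp_h L779908) L792080
theorem L792088 : sm gd N60141 = N59447 := ded_27_2 (flp_c L784129) (flp_d L772505) (flp_c L768471) L779902 L792080
theorem L792090 : sm ge N58919 = N60142 := rfl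
theorem L792092 : sm gg N60142 = N58921 := ded_41_2 (flp_e L779918) (flp_g L779906) L792090
theorem L792094 : sm gh N60142 = N58958 := ded_43_2 (flp_e L780261) (flp_h L779908) L792090
theorem L792096 : sm gd N60142 = N60142 := ded_34_1 (flp_e L792090) (flp_d L779902) L768473 L779902 L792090
theorem L792097 : sm gb N58920 = N60143 := rfl
theorem L792099 : sm gf N60143 = N58922 := ded_22_2 (flp_b L779925) (flp_f L779912) L792097
theorem L792101 : sm gj N60143 = N58944 := ded_24_2 (flp_b L780124) (flp_j L779914) L792097
theorem L792103 : sm gh N60143 = N58959 := ded_25_2 (flp_b L780269) (flp_h L779916) L792097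
theorem L792105 : sm ge N58920 = N60144 := rfl
theorem L792107 : sm gc N60144 = N58921 := ded_28_1 (flp_e L779918) L779910 L792105
theorem L792109 : sm gj N60144 = N58945 := ded_42_2 (flp_e L780130) (flp_j L779914) L792105
theorem L792111 : sm gh N60144 = N58960 := ded_43_2 (flp_e L780277) (flp_h L779916) L792105
theorem L792113 : sm ga N58922 = N60145 := rfl
theorem L792115 : sm gj N60145 = N58946 := ded_16_2 (flp_a L780136) (flp_j L779927) L792113
theorem L792117 : sm gh N60145 = N58961 := ded_17_2 (flp_a L780285) (flp_h L779929) L792113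
theorem L792119 : sm gc N58923 = N60146 := rfl
theorem L792121 : sm ga N60146 = N58928 := ded_11_1 (flp_c L779994) (flp_a L779933) L792119
theorem L792123 : sm gg N60146 = N59422 := ded_30_2 (flp_c L783984) (flp_g L779937) L792119
theorem L792125 : sm gj N60146 = N59168 := ded_31_2 (flp_c L782214) (flp_j L779939) L792119
theorem L792127 : sm gh N60146 = N59154 := ded_32_2 (flp_c L782076) (flp_h L779941) L792119
theorem L792129 : sm ge N58923 = N60147 := rfl
theorem L792131 : sm ga N60147 = N58929 := ded_13_1 (flp_e L779998) (flp_a L779933) L792129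
theorem L792133 : sm gb N60147 = N59159 := ded_21_1 (flp_e L782124) (flp_b L779935) L792129
theorem L792135 : sm gg N60147 = N59423 := ded_41_2 (flp_e L783990) (flp_g L779937) L792129
theorem L792137 : sm gj N60147 = N59169 := ded_42_2 (flp_e L782220) (flp_j L779939) L792129
theorem L792139 : sm gh N60147 = N59155 := ded_43_2 (flp_e L782080) (flp_h L779941) L792129
theorem L792141 : sm gd N60147 = N58925 := ded_34_1 (flp_e L779956) (flp_d L768504) (flp_e L768498) L779931 L792129
theorem L792143 : sm ge N58924 = N60148 := rfl
theorem L792145 : sm ga N60148 = N58930 := ded_13_1 (flp_e L780006) (flp_a L779945) L792143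
theorem L792147 : sm gb N60148 = N59165 := ded_21_1 L782188 (flp_b L779954) L792143
theorem L792149 : sm gc N60148 = N58925 := ded_28_1 (flp_e L779956) L779943 L792143
theorem L792151 : sm gg N60148 = N59156 := ded_41_2 L782100 (flp_g L779948) L792143
theorem L792153 : sm gj N60148 = N59186 := ded_42_2 (flp_e L782364) (flp_j L779950) L792143
theorem L792155 : sm gh N60148 = N59104 := ded_43_2 (flp_e L781543) (flp_h L779952) L792143
theorem L792157 : sm gf N58925 = N60149 := rfl
theorem L792159 : sm ga N60149 = N58931 := ded_14_1 (flp_f L780014) (flp_a L779958) L792157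
theorem L792161 : sm gb N60149 = N59184 := ded_22_1 (flp_f L782341) (flp_b L779960) L792157
theorem L792163 : sm gj N60149 = N59187 := ded_46_2 (flp_f L782372) (flp_j L779964) L792157
theorem L792165 : sm gh N60149 = N59105 := ded_47_2 (flp_f L781556) (flp_h L779966) L792157
theorem L792167 : sm ge N60149 = N60149 := ded_40_1 (flp_f L792157) (flp_e L779956) L768510 L779956 L792157
theorem L792168 : sm gc N58926 = N60150 := rfl
theorem L792170 : sm ga N60150 = N59154 := ded_11_1 (flp_c L782076) (flp_a L779970) L792168
theorem L792172 : sm gf N60150 = N59462 := ded_29_2 (flp_c L784226) (flp_f L779974) L792168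
theorem L792174 : sm gg N60150 = N59424 := ded_30_2 (flp_c L784000) (flp_g L779976) L792168
theorem L792176 : sm gj N60150 = N58968 := ded_31_2 (flp_c L780361) (flp_j L779978) L792168
theorem L792178 : sm gh N60150 = N58928 := ded_32_2 (flp_c L779994) (flp_h L779982) L792168
theorem L792180 : sm gi N60150 = N59053 := ded_33_2 (flp_c L781097) (flp_i L779980) L792168
theorem L792182 : sm gd N60150 = N58972 := ded_27_2 (flp_c L780405) (flp_d L768927) (flp_c L768523) L779968 L792168
theorem L792184 : sm gc N58927 = N60151 := rfl
theorem L792186 : sm gf N60151 = N58928 := ded_29_2 (flp_c L779994) (flp_f L779988) L792184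
theorem L792188 : sm gj N60151 = N59454 := ded_31_2 (flp_c L784176) (flp_j L779990) L792184
theorem L792190 : sm gh N60151 = N59462 := ded_32_2 (flp_c L784226) (flp_h L779992) L792184
theorem L792192 : sm ge N58927 = N60152 := rfl
theorem L792194 : sm gb N60152 = N58937 := ded_21_1 (flp_e L780075) (flp_b L779986) L792192
theorem L792196 : sm gj N60152 = N59455 := ded_42_2 (flp_e L784182) (flp_j L779990) L792192
theorem L792198 : sm gh N60152 = N59463 := ded_43_2 (flp_e L784234) (flp_h L779992) L792192
theorem L792200 : sm gd N60152 = N60152 := ded_34_1 (flp_e L792192) (flp_d L779984) L768539 L779984 L792192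
theorem L792201 : sm gb N58928 = N60153 := rfl
theorem L792203 : sm gg N60153 = N59426 := ded_23_2 (flp_b L784012) (flp_g L779996) L792201
theorem L792205 : sm gc N60153 = N58938 := ded_19_2 (flp_b L780078) (flp_c L768624) (flp_b L768546) L779994 L792201
theorem L792207 : sm ge N58928 = N60154 := rfl
theorem L792209 : sm gc N60154 = N58929 := ded_28_1 (flp_e L779998) L779994 L792207
theorem L792211 : sm gg N60154 = N59427 := ded_41_2 (flp_e L784016) (flp_g L779996) L792207
theorem L792213 : sm gf N58929 = N60155 := rfl
theorem L792215 : sm gb N60155 = N58940 := ded_22_1 (flp_f L780090) (flp_b L780000) L792213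
theorem L792217 : sm gd N60155 = N58931 := ded_35_1 (flp_f L780014) (flp_d L780004) L792213
theorem L792219 : sm gh N60155 = N59428 := ded_47_2 (flp_f L788224) L788234 L792213
theorem L792221 : sm gd N58930 = N60156 := rfl
theorem L792223 : sm gg N60156 = N59428 := ded_36_2 (flp_d L784020) (flp_g L780010) L792221
theorem L792225 : sm gf N58930 = N60157 := rfl
theorem L792227 : sm gb N60157 = N59094 := ded_22_1 L786046 L786036 L792225
theorem L792229 : sm gc N60157 = N58931 := ded_29_1 (flp_f L780014) (flp_c L780008) L792225
theorem L792231 : sm gj N60157 = N59290 := ded_46_2 (flp_f L785641) L785643 L792225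
theorem L792233 : sm gh N60157 = N59092 := ded_47_2 (flp_f L781429) (flp_h L780012) L792225
theorem L792235 : sm ge N60157 = N60157 := ded_40_1 (flp_f L792225) (flp_e L780006) L768552 L780006 L792225
theorem L792236 : sm gg N60157 = N59096 := ded_45_2 L781467 (flp_g L776296) L776304 (flp_g L780010) L792225
theorem L792238 : sm gg N58931 = N60158 := rfl
theorem L792240 : sm gb N60158 = N58941 := ded_23_1 (flp_g L780094) (flp_b L780016) L792238
theorem L792242 : sm gc N60158 = N59096 := ded_30_1 (flp_g L792236) L792229 L792238
theorem L792244 : sm ge N60158 = N60158 := ded_41_1 (flp_g L792238) L780020 L792238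
theorem L792245 : sm gh N60158 = N59093 := ded_50_2 L781443 (flp_h L780018) L792238
theorem L792247 : sm gf N60158 = N59078 := ded_45_1 L781302 L769744 (flp_g L768561) L780014 L792238
theorem L792249 : sm gj N60158 = N59101 := ded_49_2 L781519 (flp_j L774479) (flp_g L786112) L786114 L792238
theorem L792251 : sm gc N58932 = N60159 := rfl
theorem L792253 : sm ga N60159 = N59233 := ded_11_1 (flp_c L782747) (flp_a L780023) L792251
theorem L792255 : sm gf N60159 = N58934 := ded_29_2 (flp_c L780049) (flp_f L780027) L792251
theorem L792257 : sm gj N60159 = N59252 := ded_31_2 (flp_c L782898) (flp_j L780029) L792251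
theorem L792259 : sm gh N60159 = N58936 := ded_32_2 (flp_c L780069) (flp_h L780033) L792251
theorem L792261 : sm gi N60159 = N59422 := ded_33_2 (flp_c L783984) (flp_i L780031) L792251
theorem L792263 : sm gd N60159 = N58965 := ded_27_2 (flp_c L780327) (flp_d L768849) (flp_c L768571) L780021 L792251
theorem L792265 : sm ge N58932 = N60160 := rfl
theorem L792267 : sm ga N60160 = N59234 := ded_13_1 (flp_e L782757) (flp_a L780023) L792265
theorem L792269 : sm gb N60160 = N59463 := ded_21_1 (flp_e L784234) (flp_b L780025) L792265
theorem L792271 : sm gj N60160 = N59253 := ded_42_2 (flp_e L782910) (flp_j L780029) L792265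
theorem L792273 : sm gh N60160 = N58937 := ded_43_2 (flp_e L780075) (flp_h L780033) L792265
theorem L792275 : sm gi N60160 = N59423 := ded_44_2 (flp_e L783990) (flp_i L780031) L792265
theorem L792277 : sm gd N60160 = N59288 := ded_34_1 (flp_e L783129) (flp_d L771469) (flp_e L768573) L780021 L792265
theorem L792279 : sm gc N58933 = N60161 := rfl
theorem L792281 : sm ga N60161 = N59202 := ded_11_1 (flp_c L782511) (flp_a L780037) L792279
theorem L792283 : sm gf N60161 = N59422 := ded_29_2 (flp_c L783984) (flp_f L780041) L792279
theorem L792285 : sm gg N60161 = N59429 := ded_30_2 (flp_c L784022) (flp_g L780043) L792279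
theorem L792287 : sm gj N60161 = N59033 := ded_31_2 (flp_c L780938) (flp_j L780045) L792279
theorem L792289 : sm gi N60161 = N58934 := ded_33_2 (flp_c L780049) (flp_i L780047) L792279
theorem L792291 : sm gd N60161 = N58966 := ded_27_2 (flp_c L780337) (flp_d L768859) (flp_c L768587) L780035 L792279
theorem L792293 : sm gb N58934 = N60162 := rfl
theorem L792295 : sm gd N60162 = N58967 := ded_20_2 (flp_b L780351) (flp_d L780059) L792293
theorem L792297 : sm gg N60162 = N59431 := ded_23_2 (flp_b L784034) (flp_g L780053) L792293
theorem L792299 : sm gj N60162 = N59254 := ded_24_2 (flp_b L782922) (flp_j L780055) L792293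
theorem L792301 : sm gh N60162 = N58938 := ded_25_2 (flp_b L780078) (flp_h L780057) L792293
theorem L792303 : sm gc N58935 = N60163 := rfl
theorem L792305 : sm gf N60163 = N59197 := ded_29_2 (flp_c L782467) (flp_f L780063) L792303
theorem L792307 : sm gg N60163 = N58936 := ded_30_2 (flp_c L780069) (flp_g L780065) L792303
theorem L792309 : sm gi N60163 = N59225 := ded_33_2 (flp_c L782704) (flp_i L780067) L792303
theorem L792311 : sm gd N60163 = N58942 := ded_27_2 (flp_c L780103) (flp_d L768641) (flp_c L768611) L780061 L792303
theorem L792313 : sm ge N58935 = N60164 := rfl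
theorem L792315 : sm gg N60164 = N58937 := ded_41_2 (flp_e L780075) (flp_g L780065) L792313
theorem L792317 : sm gi N60164 = N59226 := ded_44_2 (flp_e L782710) (flp_i L780067) L792313
theorem L792319 : sm gd N60164 = N60164 := ded_34_1 (flp_e L792313) (flp_d L780061) L768613 L780061 L792313
theorem L792320 : sm gb N58936 = N60165 := rfl
theorem L792322 : sm gd N60165 = N58944 := ded_20_2 (flp_b L780124) (flp_d L780073) L792320
theorem L792324 : sm gf N60165 = N58938 := ded_22_2 (flp_b L780078) (flp_f L780071) L792320
theorem L792326 : sm ge N58936 = N60166 := rfl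
theorem L792328 : sm gc N60166 = N58937 := ded_28_1 (flp_e L780075) L780069 L792326
theorem L792330 : sm gf N58937 = N60167 := rfl
theorem L792332 : sm gd N60167 = N60167 := ded_35_1 (flp_f L792330) L780077 L792330
theorem L792333 : sm ge N60167 = N58940 := ded_40_1 (flp_f L780090) (flp_e L768630) (flp_f L768622) L780075 L792330
theorem L792335 : sm ga N58938 = N60168 := rfl
theorem L792337 : sm gd N60168 = N58946 := ded_12_2 (flp_a L780136) (flp_d L780080) L792335
theorem L792339 : sm gg N60168 = N59433 := ded_15_2 (flp_a L784046) (flp_g L780082) L792335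
theorem L792341 : sm ge N58938 = N60169 := rfl
theorem L792343 : sm gb N60169 = N58939 := ded_21_1 (flp_e L780084) L780078 L792341
theorem L792345 : sm gg N60169 = N59434 := ded_41_2 (flp_e L784050) (flp_g L780082) L792341
theorem L792347 : sm gf N58939 = N60170 := rfl
theorem L792349 : sm gc N60170 = N58940 := ded_29_1 (flp_f L780090) (flp_c L780086) L792347
theorem L792351 : sm gg N58940 = N60171 := rfl
theorem L792353 : sm gd N60171 = N58941 := ded_36_1 (flp_g L780094) (flp_d L780092) L792351
theorem L792355 : sm gf N60171 = N59079 := ded_45_1 L781310 L769748 (flp_g L768632) L780090 L792351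
theorem L792357 : sm gb N58942 = N60172 := rfl
theorem L792359 : sm gf N60172 = N59200 := ded_22_2 (flp_b L782491) (flp_f L780105) L792357
theorem L792361 : sm gg N60172 = N58944 := ded_23_2 (flp_b L780124) (flp_g L780107) L792357
theorem L792363 : sm gh N60172 = N58974 := ded_25_2 (flp_b L780423) (flp_h L780109) L792357
theorem L792365 : sm gi N60172 = N59230 := ded_26_2 (flp_b L782731) (flp_i L780111) L792357
theorem L792367 : sm gc N60172 = N59438 := ded_19_2 (flp_b L784075) (flp_c L772452) (flp_b L768643) L780103 L792357
theorem L792369 : sm ge N58942 = N60173 := rfl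
theorem L792371 : sm gc N60173 = N58943 := ded_28_1 (flp_e L780113) L780103 L792369
theorem L792373 : sm gg N60173 = N58945 := ded_41_2 (flp_e L780130) (flp_g L780107) L792369
theorem L792375 : sm gh N60173 = N58975 := ded_43_2 (flp_e L780431) (flp_h L780109) L792369
theorem L792377 : sm gi N60173 = N59231 := ded_44_2 (flp_e L782737) (flp_i L780111) L792369
theorem L792379 : sm ga N58944 = N60174 := rfl
theorem L792381 : sm gf N60174 = N58946 := ded_14_2 (flp_a L780136) (flp_f L780126) L792379
theorem L792383 : sm gh N60174 = N58976 := ded_17_2 (flp_a L780439) (flp_h L780128) L792379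
theorem L792385 : sm ge N58944 = N60175 := rfl
theorem L792387 : sm gb N60175 = N58945 := ded_21_1 (flp_e L780130) L780124 L792385
theorem L792389 : sm gh N60175 = N58977 := ded_43_2 (flp_e L780445) (flp_h L780128) L792385
theorem L792391 : sm gd N58945 = N60176 := rfl
theorem L792393 : sm gc N60176 = N60176 := ded_27_1 (flp_d L792391) L780132 L768663 (flp_c L780132) L792391
theorem L792394 : sm gb N58947 = N60177 := rfl
theorem L792396 : sm gd N60177 = N58951 := ded_20_2 (flp_b L780183) (flp_d L780156) L792394
theorem L792398 : sm ge N60177 = N59411 := ded_21_2 (flp_b L783924) (flp_e L780146) L792394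
theorem L792400 : sm gg N60177 = N58955 := ded_23_2 (flp_b L780233) (flp_g L780148) L792394
theorem L792402 : sm gj N60177 = N59437 := ded_24_2 (flp_b L784067) (flp_j L780150) L792394
theorem L792404 : sm gh N60177 = N59028 := ded_25_2 (flp_b L780897) (flp_h L780152) L792394
theorem L792406 : sm gi N60177 = N58995 := ded_26_2 (flp_b L780631) (flp_i L780154) L792394
theorem L792408 : sm gc N58948 = N60178 := rfl
theorem L792410 : sm gf N60178 = N58957 := ded_29_2 (flp_c L780255) (flp_f L780160) L792408
theorem L792412 : sm gg N60178 = N58949 := ded_30_2 (flp_c L780168) (flp_g L780162) L792408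
theorem L792414 : sm gh N60178 = N59445 := ded_32_2 (flp_c L784121) (flp_h L780166) L792408
theorem L792416 : sm gi N60178 = N58998 := ded_33_2 (flp_c L780671) (flp_i L780164) L792408
theorem L792418 : sm gd N60178 = N59210 := ded_27_2 (flp_c L782588) (flp_d L771016) (flp_c L768686) L780158 L792408
theorem L792420 : sm ge N58948 = N60179 := rfl
theorem L792422 : sm gg N60179 = N58950 := ded_41_2 (flp_e L780176) (flp_g L780162) L792420
theorem L792424 : sm gh N60179 = N59446 := ded_43_2 (flp_e L784125) (flp_h L780166) L792420
theorem L792426 : sm gi N60179 = N58999 := ded_44_2 (flp_e L780677) (flp_i L780164) L792420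
theorem L792428 : sm gd N60179 = N60179 := ded_34_1 (flp_e L792420) (flp_d L780158) L768688 L780158 L792420
theorem L792429 : sm gb N58949 = N60180 := rfl
theorem L792431 : sm gf N60180 = N58951 := ded_22_2 (flp_b L780183) (flp_f L780170) L792429
theorem L792433 : sm gj N60180 = N59438 := ded_24_2 (flp_b L784075) (flp_j L780172) L792429
theorem L792435 : sm gi N60180 = N59000 := ded_26_2 (flp_b L780682) (flp_i L780174) L792429
theorem L792437 : sm ge N58949 = N60181 := rfl
theorem L792439 : sm gc N60181 = N58950 := ded_28_1 (flp_e L780176) L780168 L792437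
theorem L792441 : sm gj N60181 = N59439 := ded_42_2 (flp_e L784081) (flp_j L780172) L792437
theorem L792443 : sm gi N60181 = N59001 := ded_44_2 (flp_e L780688) (flp_i L780174) L792437
theorem L792445 : sm ga N58951 = N60182 := rfl
theorem L792447 : sm gg N60182 = N58961 := ded_15_2 (flp_a L780285) (flp_g L780185) L792445
theorem L792449 : sm gj N60182 = N59440 := ded_16_2 (flp_a L784087) (flp_j L780187) L792445
theorem L792451 : sm gi N60182 = N59002 := ded_18_2 (flp_a L780694) (flp_i L780189) L792445
theorem L792453 : sm gb N58952 = N60183 := rfl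
theorem L792455 : sm ge N60183 = N59415 := ded_21_2 (flp_b L783946) (flp_e L780195) L792453
theorem L792457 : sm gj N60183 = N58963 := ded_24_2 (flp_b L780303) (flp_j L780197) L792453
theorem L792459 : sm gh N60183 = N59417 := ded_25_2 (flp_b L783960) (flp_h L780199) L792453
theorem L792461 : sm gi N60183 = N59006 := ded_26_2 (flp_b L780728) (flp_i L780201) L792453
theorem L792463 : sm gc N60183 = N58955 := ded_19_2 (flp_b L780233) (flp_c L768755) (flp_b L768715) L780191 L792453
theorem L792465 : sm gc N58953 = N60184 := rfl
theorem L792467 : sm ga N60184 = N59489 := ded_11_1 L784425 (flp_a L780205) L792465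
theorem L792469 : sm gf N60184 = N59210 := ded_29_2 (flp_c L782588) (flp_f L780209) L792465
theorem L792471 : sm gg N60184 = N58954 := ded_30_2 (flp_c L780219) (flp_g L780211) L792465
theorem L792473 : sm gj N60184 = N59424 := ded_31_2 (flp_c L784000) (flp_j L780213) L792465
theorem L792475 : sm gh N60184 = N59212 := ded_32_2 (flp_c L782599) (flp_h L780217) L792465
theorem L792477 : sm gi N60184 = N59014 := ded_33_2 (flp_c L780805) (flp_i L780215) L792465
theorem L792479 : sm gd N60184 = N58957 := ded_27_2 (flp_c L780255) (flp_d L768783) (flp_c L768731) L780203 L792465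
theorem L792481 : sm gb N58954 = N60185 := rfl
theorem L792483 : sm gd N60185 = N58959 := ded_20_2 (flp_b L780269) (flp_d L780231) L792481
theorem L792485 : sm gf N60185 = N58955 := ded_22_2 (flp_b L780233) (flp_f L780223) L792481
theorem L792487 : sm gj N60185 = N58969 := ded_24_2 (flp_b L780373) (flp_j L780225) L792481
theorem L792489 : sm gh N60185 = N59492 := ded_25_2 (flp_b L784439) (flp_h L780227) L792481
theorem L792491 : sm gi N60185 = N59016 := ded_26_2 (flp_b L780817) (flp_i L780229) L792481
theorem L792493 : sm ga N58955 = N60186 := rfl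
theorem L792495 : sm gd N60186 = N58961 := ded_12_2 (flp_a L780285) (flp_d L780235) L792493
theorem L792497 : sm ge N60186 = N59416 := ded_13_2 (flp_a L783952) (flp_e L780237) L792493
theorem L792499 : sm gj N60186 = N58971 := ded_16_2 (flp_a L780393) (flp_j L780239) L792493
theorem L792501 : sm gh N60186 = N59493 := ded_17_2 (flp_a L784443) (flp_h L780241) L792493
theorem L792503 : sm gi N60186 = N59018 := ded_18_2 (flp_a L780831) (flp_i L780243) L792493
theorem L792505 : sm gb N60186 = N59487 := ded_10_2 L784405 L772769 (flp_a L768757) L780233 L792493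
theorem L792507 : sm gc N58956 = N60187 := rfl
theorem L792509 : sm gg N60187 = N58972 := ded_30_2 (flp_c L780405) (flp_g L780249) L792507
theorem L792511 : sm gj N60187 = N58957 := ded_31_2 (flp_c L780255) (flp_j L780251) L792507
theorem L792513 : sm gi N60187 = N59020 := ded_33_2 (flp_c L780847) (flp_i L780253) L792507
theorem L792515 : sm gd N60187 = N59424 := ded_27_2 (flp_c L784000) (flp_d L772390) (flp_c L768773) L780245 L792507
theorem L792517 : sm ge N58956 = N60188 := rfl
theorem L792519 : sm gb N60188 = N59446 := ded_21_1 (flp_e L784125) (flp_b L780247) L792517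
theorem L792521 : sm gg N60188 = N58973 := ded_41_2 (flp_e L780413) (flp_g L780249) L792517
theorem L792523 : sm gj N60188 = N58958 := ded_42_2 (flp_e L780261) (flp_j L780251) L792517
theorem L792525 : sm gi N60188 = N59021 := ded_44_2 (flp_e L780853) (flp_i L780253) L792517
theorem L792527 : sm gd N60188 = N58980 := ded_34_1 (flp_e L780475) (flp_d L768986) (flp_e L768775) L780245 L792517
theorem L792529 : sm gb N58957 = N60189 := rfl
theorem L792531 : sm gg N60189 = N58959 := ded_23_2 (flp_b L780269) (flp_g L780257) L792529
theorem L792533 : sm gi N60189 = N59022 := ded_26_2 (flp_b L780863) (flp_i L780259) L792529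
theorem L792535 : sm ge N58957 = N60190 := rfl
theorem L792537 : sm gc N60190 = N58958 := ded_28_1 (flp_e L780261) L780255 L792535
theorem L792539 : sm gg N60190 = N58960 := ded_41_2 (flp_e L780277) (flp_g L780257) L792535
theorem L792541 : sm gi N60190 = N59023 := ded_44_2 (flp_e L780867) (flp_i L780259) L792535
theorem L792543 : sm gf N58958 = N60191 := rfl
theorem L792545 : sm gd N60191 = N58983 := ded_35_1 (flp_f L780509) (flp_d L780267) L792543
theorem L792547 : sm gi N60191 = N59024 := ded_48_2 (flp_f L780873) (flp_i L780265) L792543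
theorem L792549 : sm ga N58959 = N60192 := rfl
theorem L792551 : sm gf N60192 = N58961 := ded_14_2 (flp_a L780285) (flp_f L780271) L792549
theorem L792553 : sm gj N60192 = N58976 := ded_16_2 (flp_a L780439) (flp_j L780273) L792549
theorem L792555 : sm gi N60192 = N59025 := ded_18_2 (flp_a L780877) (flp_i L780275) L792549
theorem L792557 : sm ge N58959 = N60193 := rfl
theorem L792559 : sm gb N60193 = N58960 := ded_21_1 (flp_e L780277) L780269 L792557
theorem L792561 : sm gj N60193 = N58977 := ded_42_2 (flp_e L780445) (flp_j L780273) L792557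
theorem L792563 : sm gi N60193 = N59026 := ded_44_2 (flp_e L780883) (flp_i L780275) L792557
theorem L792565 : sm gd N58960 = N60194 := rfl
theorem L792567 : sm gf N60194 = N59246 := ded_35_2 (flp_d L790958) L790960 L792565
theorem L792569 : sm gj N60194 = N58978 := ded_37_2 (flp_d L780451) (flp_j L780281) L792565
theorem L792571 : sm gi N60194 = N59027 := ded_39_2 (flp_d L780889) (flp_i L780283) L792565
theorem L792573 : sm gc N60194 = N58985 := ded_27_1 (flp_d L780528) L769030 (flp_d L768803) (flp_c L780279) L792565
theorem L792575 : sm ge N60194 = N59249 := ded_34_2 (flp_d L788060) L788068 L780231 L780277 L792565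
theorem L792577 : sm gb N58962 = N60195 := rfl
theorem L792579 : sm ge N60195 = N59418 := ded_21_2 (flp_b L783964) (flp_e L780295) L792577
theorem L792581 : sm gg N60195 = N59449 := ded_23_2 (flp_b L784142) (flp_g L780297) L792577
theorem L792583 : sm gj N60195 = N59417 := ded_24_2 (flp_b L783960) (flp_j L780299) L792577
theorem L792585 : sm gh N60195 = N58963 := ded_25_2 (flp_b L780303) (flp_h L780301) L792577
theorem L792587 : sm gc N60195 = N58967 := ded_19_2 (flp_b L780351) (flp_c L768873) (flp_b L768815) L780291 L792577
theorem L792589 : sm ga N58963 = N60196 := rfl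
theorem L792591 : sm gc N60196 = N58971 := ded_11_2 (flp_a L780393) (flp_c L780311) L792589
theorem L792593 : sm ge N60196 = N59419 := ded_13_2 (flp_a L783970) (flp_e L780305) L792589
theorem L792595 : sm gg N60196 = N59452 := ded_15_2 (flp_a L784162) (flp_g L780307) L792589
theorem L792597 : sm gi N60196 = N59036 := ded_18_2 (flp_a L780960) (flp_i L780309) L792589
theorem L792599 : sm gc N58964 = N60197 := rfl
theorem L792601 : sm ga N60197 = N59188 := ded_11_1 (flp_c L782381) (flp_a L780315) L792599
theorem L792603 : sm gf N60197 = N58966 := ded_29_2 (flp_c L780337) (flp_f L780319) L792599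
theorem L792605 : sm gj N60197 = N59261 := ded_31_2 (flp_c L782963) (flp_j L780321) L792599
theorem L792607 : sm gh N60197 = N59042 := ded_32_2 (flp_c L781011) (flp_h L780325) L792599
theorem L792609 : sm gi N60197 = N58965 := ded_33_2 (flp_c L780327) (flp_i L780323) L792599
theorem L792611 : sm gd N60197 = N59422 := ded_27_2 (flp_c L783984) (flp_d L772372) (flp_c L768839) L780313 L792599
theorem L792613 : sm gb N58965 = N60198 := rfl
theorem L792615 : sm gf N60198 = N58967 := ded_22_2 (flp_b L780351) (flp_f L780331) L792613
theorem L792617 : sm gj N60198 = N59492 := ded_24_2 (flp_b L784439) (flp_j L780333) L792613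
theorem L792619 : sm gh N60198 = N58969 := ded_25_2 (flp_b L780373) (flp_h L780335) L792613
theorem L792621 : sm gb N58966 = N60199 := rfl
theorem L792623 : sm ge N60199 = N59420 := ded_21_2 (flp_b L783974) (flp_e L780341) L792621
theorem L792625 : sm gg N60199 = N59460 := ded_23_2 (flp_b L784216) (flp_g L780343) L792621
theorem L792627 : sm gj N60199 = N59444 := ded_24_2 (flp_b L784117) (flp_j L780345) L792621
theorem L792629 : sm gh N60199 = N59047 := ded_25_2 (flp_b L781045) (flp_h L780347) L792621
theorem L792631 : sm gi N60199 = N58967 := ded_26_2 (flp_b L780351) (flp_i L780349) L792621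
theorem L792633 : sm ga N58967 = N60200 := rfl
theorem L792635 : sm ge N60200 = N59421 := ded_13_2 (flp_a L783978) (flp_e L780353) L792633
theorem L792637 : sm gg N60200 = N59461 := ded_15_2 (flp_a L784222) (flp_g L780355) L792633
theorem L792639 : sm gj N60200 = N59493 := ded_16_2 (flp_a L784443) (flp_j L780357) L792633
theorem L792641 : sm gh N60200 = N58971 := ded_17_2 (flp_a L780393) (flp_h L780359) L792633
theorem L792643 : sm gb N60200 = N59481 := ded_10_2 (flp_a L784349) (flp_b L772715) (flp_a L768875) L780351 L792633
theorem L792645 : sm gb N58968 = N60201 := rfl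
theorem L792647 : sm gd N60201 = N58974 := ded_20_2 (flp_b L780423) (flp_d L780371) L792645
theorem L792649 : sm gf N60201 = N59464 := ded_22_2 (flp_b L784242) (flp_f L780365) L792645
theorem L792651 : sm gg N60201 = N58969 := ded_23_2 (flp_b L780373) (flp_g L780367) L792645
theorem L792653 : sm gi N60201 = N59055 := ded_26_2 (flp_b L781111) (flp_i L780369) L792645
theorem L792655 : sm gc N60201 = N59254 := ded_19_2 (flp_b L782922) (flp_c L771296) (flp_b L768889) L780361 L792645
theorem L792657 : sm ga N58969 = N60202 := rfl
theorem L792659 : sm gd N60202 = N58976 := ded_12_2 (flp_a L780439) (flp_d L780375) L792657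
theorem L792661 : sm gf N60202 = N58971 := ded_14_2 (flp_a L780393) (flp_f L780377) L792657
theorem L792663 : sm gi N60202 = N59058 := ded_18_2 (flp_a L781131) (flp_i L780379) L792657
theorem L792665 : sm gb N60202 = N59516 := ded_10_2 L784583 L772945 (flp_a L768899) L780373 L792657
theorem L792667 : sm ge N58969 = N60203 := rfl
theorem L792669 : sm gb N60203 = N58970 := ded_21_1 (flp_e L780381) L780373 L792667
theorem L792671 : sm gi N60203 = N59059 := ded_44_2 (flp_e L781137) (flp_i L780379) L792667
theorem L792673 : sm gf N60203 = N59138 := ded_40_2 (flp_e L781931) L770363 (flp_e L768921) (flp_f L780377) L792667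
theorem L792675 : sm gd N59285 = N60203 := ded_20_0 L792669 (flp_d L780391) (flp_b L783115)
theorem L792677 : sm gb N58972 = N60204 := rfl
theorem L792679 : sm gf N60204 = N59469 := ded_22_2 (flp_b L784278) (flp_f L780407) L792677
theorem L792681 : sm gj N60204 = N58974 := ded_24_2 (flp_b L780423) (flp_j L780409) L792677
theorem L792683 : sm gi N60204 = N59064 := ded_26_2 (flp_b L781183) (flp_i L780411) L792677
theorem L792685 : sm ge N58972 = N60205 := rfl
theorem L792687 : sm gc N60205 = N58973 := ded_28_1 (flp_e L780413) L780405 L792685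
theorem L792689 : sm gj N60205 = N58975 := ded_42_2 (flp_e L780431) (flp_j L780409) L792685
theorem L792691 : sm gi N60205 = N59065 := ded_44_2 (flp_e L781189) (flp_i L780411) L792685
theorem L792693 : sm gf N60205 = N59359 := ded_40_2 (flp_e L783587) (flp_f L774746) L774744 (flp_f L780407) L792685
theorem L792695 : sm ga N58974 = N60206 := rfl
theorem L792697 : sm gf N60206 = N59470 := ded_14_2 (flp_a L784284) (flp_f L780425) L792695
theorem L792699 : sm gg N60206 = N58976 := ded_15_2 (flp_a L780439) (flp_g L780427) L792695
theorem L792701 : sm gi N60206 = N59066 := ded_18_2 (flp_a L781199) (flp_i L780429) L792695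
theorem L792703 : sm ge N58974 = N60207 := rfl
theorem L792705 : sm gb N60207 = N58975 := ded_21_1 (flp_e L780431) L780423 L792703
theorem L792707 : sm gg N60207 = N58977 := ded_41_2 (flp_e L780445) (flp_g L780427) L792703
theorem L792709 : sm gi N60207 = N59067 := ded_44_2 (flp_e L781205) (flp_i L780429) L792703
theorem L792711 : sm gd N58975 = N60208 := rfl
theorem L792713 : sm gf N60208 = N59214 := ded_35_2 (flp_d L786532) L786534 L792711
theorem L792715 : sm gg N60208 = N58978 := ded_36_2 (flp_d L780451) (flp_g L780435) L792711
theorem L792717 : sm gi N60208 = N59068 := ded_39_2 (flp_d L781211) (flp_i L780437) L792711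
theorem L792719 : sm gc N60208 = N58987 := ded_27_1 (flp_d L780551) L769065 (flp_d L768949) (flp_c L780433) L792711
theorem L792721 : sm ge N60208 = N59088 := ded_34_2 (flp_d L788246) L788240 L780371 L780431 L792711
theorem L792723 : sm ge N58976 = N60209 := rfl
theorem L792725 : sm ga N60209 = N58977 := ded_13_1 (flp_e L780445) L780439 L792723
theorem L792727 : sm gi N60209 = N59069 := ded_44_2 (flp_e L781219) (flp_i L780443) L792723
theorem L792729 : sm gd N58977 = N60210 := rfl
theorem L792731 : sm gb N60210 = N58978 := ded_20_1 (flp_d L780451) (flp_b L780447) L792729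
theorem L792733 : sm gf N60210 = N59283 := ded_35_2 (flp_d L790990) L790992 L792729
theorem L792735 : sm gi N60210 = N59070 := ded_39_2 (flp_d L781223) (flp_i L780449) L792729
theorem L792737 : sm ge N60210 = N59285 := ded_34_2 L792675 (flp_e L792667) L780375 L780445 L792729
theorem L792739 : sm gh N58978 = N60211 := rfl
theorem L792741 : sm gc N60211 = N58989 := ded_32_1 (flp_h L780575) (flp_c L780457) L792739
theorem L792743 : sm ge N60211 = N59277 := ded_43_1 L783073 (flp_e L780459) L792739
theorem L792745 : sm gf N60211 = N59271 := ded_47_1 L783041 (flp_f L780453) L792739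
theorem L792747 : sm ge N58979 = N60212 := rfl
theorem L792749 : sm gb N60212 = N59073 := ded_21_1 (flp_e L781242) (flp_b L780471) L792747
theorem L792751 : sm gc N60212 = N58980 := ded_28_1 (flp_e L780475) L780461 L792747
theorem L792753 : sm gg N60212 = N58986 := ded_41_2 (flp_e L780538) (flp_g L780464) L792747
theorem L792755 : sm gj N60212 = N58982 := ded_42_2 (flp_e L780500) (flp_j L780466) L792747
theorem L792757 : sm gh N60212 = N60212 := ded_43_2 (flp_e L792747) L780468 L792747
theorem L792758 : sm gi N60212 = N59076 := ded_44_2 (flp_e L781271) (flp_i L780469) L792747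
theorem L792760 : sm ge N58981 = N60213 := rfl
theorem L792762 : sm gb N60213 = N58982 := ded_21_1 (flp_e L780500) L780486 L792760
theorem L792764 : sm gc N60213 = N59072 := ded_28_1 (flp_e L781231) (flp_c L780498) L792760
theorem L792766 : sm gg N60213 = N58984 := ded_41_2 (flp_e L780515) (flp_g L780491) L792760
theorem L792768 : sm gj N60213 = N59073 := ded_42_2 (flp_e L781242) (flp_j L780493) L792760
theorem L792770 : sm gh N60213 = N60213 := ded_43_2 (flp_e L792760) L780495 L792760
theorem L792771 : sm gi N60213 = N59078 := ded_44_2 (flp_e L781296) (flp_i L780496) L792760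
theorem L792773 : sm gd N58982 = N60214 := rfl
theorem L792775 : sm gg N60214 = N58985 := ded_36_2 (flp_d L780528) (flp_g L780504) L792773
theorem L792777 : sm gi N60214 = N59079 := ded_39_2 (flp_d L781308) (flp_i L780507) L792773
theorem L792779 : sm ge N60214 = N59250 := ded_34_2 L782884 L771262 (flp_d L769006) L780500 L792773
theorem L792781 : sm gd N58984 = N60215 := rfl
theorem L792783 : sm gb N60215 = N58985 := ded_20_1 (flp_d L780528) (flp_b L780517) L792781
theorem L792785 : sm gf N60215 = N59234 := ded_35_2 L782765 (flp_f L780526) L792781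
theorem L792787 : sm gj N60215 = N58988 := ded_37_2 (flp_d L780563) (flp_j L780521) L792781
theorem L792789 : sm gi N60215 = N59081 := ded_39_2 (flp_d L781326) (flp_i L780524) L792781
theorem L792791 : sm ge N60215 = N59085 := ded_34_2 (flp_d L781360) (flp_e L769772) (flp_d L769017) L780515 L792781
theorem L792793 : sm gh N58985 = N60216 := rfl
theorem L792795 : sm ge N60216 = N59244 := ded_43_1 L782844 (flp_e L780536) L792793
theorem L792797 : sm gf N60216 = N59239 := ded_47_1 L782807 (flp_f L780530) L792793
theorem L792799 : sm gj N60216 = N58989 := ded_52_1 (flp_h L780575) (flp_j L780532) L792793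
theorem L792801 : sm gd N60216 = N60216 := ded_38_1 (flp_h L792793) (flp_d L780528) L769034 L780528 L792793
theorem L792802 : sm gd N58986 = N60217 := rfl
theorem L792804 : sm gb N60217 = N59075 := ded_20_1 (flp_d L781261) (flp_b L780540) L792802
theorem L792806 : sm gf N60217 = N59203 := ded_35_2 L782529 (flp_f L780549) L792802
theorem L792808 : sm gj N60217 = N58987 := ded_37_2 (flp_d L780551) (flp_j L780544) L792802
theorem L792810 : sm gi N60217 = N59085 := ded_39_2 (flp_d L781360) (flp_i L780547) L792802
theorem L792812 : sm ge N60217 = N59081 := ded_34_2 (flp_d L781326) (flp_e L769736) (flp_d L769050) L780538 L792802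
theorem L792814 : sm gh N58987 = N60218 := rfl
theorem L792816 : sm gb N60218 = N59084 := ded_25_1 (flp_h L781353) (flp_b L780553) L792814
theorem L792818 : sm ge N60218 = N59089 := ded_43_1 (flp_h L781392) (flp_e L780561) L792814
theorem L792820 : sm gf N60218 = N59211 := ded_47_1 L782596 (flp_f L780555) L792814
theorem L792822 : sm gg N60218 = N58989 := ded_50_1 (flp_h L780575) (flp_g L780557) L792814
theorem L792824 : sm gd N60218 = N60218 := ded_38_1 (flp_h L792814) (flp_d L780551) L769069 L780551 L792814
theorem L792825 : sm gc N58988 = N60219 := rfl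
theorem L792827 : sm ge N60219 = N59068 := ded_28_2 L781217 (flp_e L780573) L792825
theorem L792829 : sm gf N60219 = N59263 := ded_29_2 L782985 (flp_f L780567) L792825
theorem L792831 : sm gg N60219 = N59060 := ded_30_2 L781145 (flp_g L780569) L792825
theorem L792833 : sm gi N60219 = N59088 := ded_33_2 (flp_c L781388) (flp_i L780571) L792825
theorem L792835 : sm gd N60219 = N59056 := ded_27_2 L781121 L769548 (flp_c L769078) L780563 L792825
theorem L792837 : sm gh N58988 = N60220 := rfl
theorem L792839 : sm gb N60220 = N58989 := ded_25_1 (flp_h L780575) (flp_b L780565) L792837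
theorem L792841 : sm ge N60220 = N59086 := ded_43_1 (flp_h L781368) (flp_e L780573) L792837
theorem L792843 : sm gf N60220 = N59256 := ded_47_1 L782936 (flp_f L780567) L792837
theorem L792845 : sm gg N60220 = N59084 := ded_50_1 (flp_h L781353) (flp_g L780569) L792837
theorem L792847 : sm gd N60220 = N60220 := ded_38_1 (flp_h L792837) (flp_d L780563) L769082 L780563 L792837
theorem L792848 : sm gi N58989 = N60221 := rfl
theorem L792850 : sm gd N60221 = N60221 := ded_39_1 (flp_i L792848) L780581 L792848
theorem L792851 : sm ge N60221 = N59274 := ded_44_1 L783057 (flp_e L780577) L792848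
theorem L792853 : sm gf N60221 = N59269 := ded_48_1 L783028 (flp_f L780579) L792848
theorem L792855 : sm gh N60221 = N59090 := ded_54_1 (flp_i L781400) (flp_h L769812) (flp_i L769091) L780575 L792848
theorem L792857 : sm gb N58990 = N60222 := rfl
theorem L792859 : sm ge N60222 = N59012 := ded_21_2 (flp_b L780789) (flp_e L780586) L792857
theorem L792861 : sm gg N60222 = N59006 := ded_23_2 (flp_b L780728) (flp_g L780588) L792857
theorem L792863 : sm gj N60222 = N59050 := ded_24_2 L781071 (flp_j L780590) L792857
theorem L792865 : sm gh N60222 = N59019 := ded_25_2 L780839 (flp_h L780592) L792857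
theorem L792867 : sm gc N60222 = N58995 := ded_19_2 (flp_b L780631) (flp_c L769142) (flp_b L769099) L780582 L792857
theorem L792869 : sm gb N58991 = N60223 := rfl
theorem L792871 : sm ge N60223 = N59006 := ded_21_2 (flp_b L780728) (flp_e L780596) L792869
theorem L792873 : sm gg N60223 = N59012 := ded_23_2 (flp_b L780789) (flp_g L780598) L792869
theorem L792875 : sm gj N60223 = N59037 := ded_24_2 L780968 (flp_j L780600) L792869
theorem L792877 : sm gh N60223 = N58995 := ded_25_2 (flp_b L780631) (flp_h L780602) L792869
theorem L792879 : sm gi N60223 = N59415 := ded_26_2 (flp_b L783946) (flp_i L780604) L792869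
theorem L792881 : sm gc N60223 = N59019 := ded_19_2 L780839 L769328 (flp_b L769111) L780594 L792869
theorem L792883 : sm gc N58992 = N60224 := rfl
theorem L792885 : sm gf N60224 = N59014 := ded_29_2 (flp_c L780805) (flp_f L780610) L792883
theorem L792887 : sm gg N60224 = N58993 := ded_30_2 (flp_c L780618) (flp_g L780612) L792883
theorem L792889 : sm gh N60224 = N59257 := ded_32_2 (flp_c L782939) (flp_h L780616) L792883
theorem L792891 : sm gi N60224 = N59210 := ded_33_2 (flp_c L782588) (flp_i L780614) L792883
theorem L792893 : sm gd N60224 = N58998 := ded_27_2 (flp_c L780671) (flp_d L769183) (flp_c L769127) L780606 L792883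
theorem L792895 : sm ge N58992 = N60225 := rfl
theorem L792897 : sm gb N60225 = N59217 := ded_21_1 (flp_e L782643) (flp_b L780608) L792895
theorem L792899 : sm gg N60225 = N58994 := ded_41_2 (flp_e L780626) (flp_g L780612) L792895
theorem L792901 : sm gh N60225 = N59258 := ded_43_2 (flp_e L782943) (flp_h L780616) L792895
theorem L792903 : sm gi N60225 = N59211 := ded_44_2 (flp_e L782592) (flp_i L780614) L792895
theorem L792905 : sm gd N60225 = N60225 := ded_34_1 (flp_e L792895) (flp_d L780606) L769129 L780606 L792895
theorem L792906 : sm gb N58993 = N60226 := rfl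
theorem L792908 : sm gd N60226 = N59000 := ded_20_2 (flp_b L780682) (flp_d L780624) L792906
theorem L792910 : sm gf N60226 = N58995 := ded_22_2 (flp_b L780631) (flp_f L780620) L792906
theorem L792912 : sm gj N60226 = N59471 := ded_24_2 (flp_b L784290) (flp_j L780622) L792906
theorem L792914 : sm ge N58993 = N60227 := rfl
theorem L792916 : sm gc N60227 = N58994 := ded_28_1 (flp_e L780626) L780618 L792914
theorem L792918 : sm gj N60227 = N59472 := ded_42_2 (flp_e L784296) (flp_j L780622) L792914
theorem L792920 : sm gf N58994 = N60228 := rfl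
theorem L792922 : sm ga N60228 = N59436 := ded_14_1 (flp_f L791641) L791630 L792920
theorem L792924 : sm gb N60228 = N59010 := ded_22_1 (flp_f L787355) L787344 L792920
theorem L792926 : sm gd N60228 = N60228 := ded_35_1 (flp_f L792920) L780630 L792920
theorem L792927 : sm gj N60228 = N59031 := ded_46_2 L780926 (flp_j L780628) L792920
theorem L792929 : sm gh N60228 = N59005 := ded_47_2 (flp_f L787924) L787918 L792920
theorem L792931 : sm gi N60228 = N59267 := ded_48_2 (flp_f L787280) L787277 L792920
theorem L792933 : sm ge N60228 = N58997 := ded_40_1 (flp_f L780655) (flp_e L769150) (flp_f L769138) L780626 L792920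
theorem L792935 : sm gg N59269 = N60228 := ded_15_0 L792922 (flp_g L786974) L786972
theorem L792937 : sm ga N58995 = N60229 := rfl
theorem L792939 : sm gd N60229 = N59002 := ded_12_2 (flp_a L780694) (flp_d L780633) L792937
theorem L792941 : sm gg N60229 = N59018 := ded_15_2 (flp_a L780831) (flp_g L780635) L792937
theorem L792943 : sm gj N60229 = N59473 := ded_16_2 (flp_a L784300) (flp_j L780637) L792937
theorem L792945 : sm ge N58995 = N60230 := rfl
theorem L792947 : sm gb N60230 = N58996 := ded_21_1 (flp_e L780639) L780631 L792945
theorem L792949 : sm gc N60230 = N59012 := ded_28_1 (flp_e L792859) L792867 L792945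
theorem L792951 : sm gg N60230 = N59019 := ded_41_2 (flp_e L780837) (flp_g L780635) L792945
theorem L792953 : sm gj N60230 = N59032 := ded_42_2 L780930 (flp_j L780637) L792945
theorem L792955 : sm gh N60230 = N59006 := ded_43_2 (flp_e L792871) L792877 L792945
theorem L792957 : sm gi N60230 = N59411 := ded_44_2 (flp_e L792398) L792406 L792945
theorem L792959 : sm gd N60230 = N59398 := ded_34_1 (flp_e L790998) L790996 L778925 (flp_d L780633) L792945
theorem L792961 : sm gf N58996 = N60231 := rfl
theorem L792963 : sm ga N60231 = N59435 := ded_14_1 L784056 (flp_a L780641) L792961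
theorem L792965 : sm gc N60231 = N58997 := ded_29_1 (flp_f L780655) (flp_c L780643) L792961
theorem L792967 : sm gd N60231 = N59396 := ded_35_1 L783831 (flp_d L780653) L792961
theorem L792969 : sm gj N60231 = N59030 := ded_46_2 L780915 (flp_j L780647) L792961
theorem L792971 : sm gh N60231 = N59004 := ded_47_2 L780714 (flp_h L780649) L792961
theorem L792973 : sm gi N60231 = N59266 := ded_48_2 L783003 (flp_i L780651) L792961
theorem L792975 : sm gg N60231 = N59268 := ded_45_2 L783022 (flp_g L776061) L776059 (flp_g L780645) L792961
theorem L792977 : sm gb N58998 = N60232 := rfl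
theorem L792979 : sm gf N60232 = N59022 := ded_22_2 (flp_b L780863) (flp_f L780673) L792977
theorem L792981 : sm gg N60232 = N59000 := ded_23_2 (flp_b L780682) (flp_g L780675) L792977
theorem L792983 : sm ge N58998 = N60233 := rfl
theorem L792985 : sm gc N60233 = N58999 := ded_28_1 (flp_e L780677) L780671 L792983
theorem L792987 : sm gg N60233 = N59001 := ded_41_2 (flp_e L780688) (flp_g L780675) L792983
theorem L792989 : sm ga N59000 = N60234 := rfl
theorem L792991 : sm gf N60234 = N59002 := ded_14_2 (flp_a L780694) (flp_f L780684) L792989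
theorem L792993 : sm gj N60234 = N59476 := ded_16_2 (flp_a L784318) (flp_j L780686) L792989
theorem L792995 : sm ge N59000 = N60235 := rfl
theorem L792997 : sm gb N60235 = N59001 := ded_21_1 (flp_e L780688) L780682 L792995
theorem L792999 : sm gj N60235 = N59477 := ded_42_2 (flp_e L784322) (flp_j L780686) L792995
theorem L793001 : sm gd N59001 = N60236 := rfl
theorem L793003 : sm gj N60236 = N59478 := ded_37_2 (flp_d L784326) (flp_j L780692) L793001
theorem L793005 : sm gc N60236 = N60236 := ded_27_1 (flp_d L793001) L780690 L769199 (flp_c L780690) L793001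
theorem L793006 : sm gb N59003 = N60237 := rfl
theorem L793008 : sm gg N60237 = N59442 := ded_23_2 (flp_b L784103) (flp_g L780704) L793006
theorem L793010 : sm gj N60237 = N59028 := ded_24_2 (flp_b L780897) (flp_j L780706) L793006
theorem L793012 : sm gh N60237 = N59437 := ded_25_2 (flp_b L784067) (flp_h L780708) L793006
theorem L793014 : sm gi N60237 = N59418 := ded_26_2 (flp_b L783964) (flp_i L780710) L793006
theorem L793016 : sm gc N60237 = N59420 := ded_19_2 (flp_b L783974) (flp_c L772356) (flp_b L769210) L780700 L793006
theorem L793018 : sm gb N59004 = N60238 := rfl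
theorem L793020 : sm gd N60238 = N59418 := ded_20_2 (flp_b L783964) (flp_d L780718) L793018
theorem L793022 : sm gf N60238 = N59006 := ded_22_2 (flp_b L780728) (flp_f L780714) L793018
theorem L793024 : sm gj N60238 = N59034 := ded_24_2 (flp_b L780950) (flp_j L780716) L793018
theorem L793026 : sm gc N60238 = N59016 := ded_19_2 (flp_b L780817) (flp_c L769304) (flp_b L769222) L780712 L793018
theorem L793028 : sm ge N59004 = N60239 := rfl
theorem L793030 : sm gc N60239 = N59005 := ded_28_1 (flp_e L780720) L780712 L793028
theorem L793032 : sm gj N60239 = N59035 := ded_42_2 (flp_e L780956) (flp_j L780716) L793028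
theorem L793034 : sm ga N59006 = N60240 := rfl
theorem L793036 : sm gc N60240 = N59018 := ded_11_2 (flp_a L780831) (flp_c L780732) L793034
theorem L793038 : sm gj N60240 = N59036 := ded_16_2 (flp_a L780960) (flp_j L780730) L793034
theorem L793040 : sm gc N59007 = N60241 := rfl
theorem L793042 : sm gf N60241 = N59257 := ded_29_2 (flp_c L782939) (flp_f L780738) L793040
theorem L793044 : sm gg N60241 = N59009 := ded_30_2 (flp_c L780762) (flp_g L780740) L793040
theorem L793046 : sm gh N60241 = N59014 := ded_32_2 (flp_c L780805) (flp_h L780744) L793040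
theorem L793048 : sm gi N60241 = N59255 := ded_33_2 (flp_c L782926) (flp_i L780742) L793040
theorem L793050 : sm ge N59007 = N60242 := rfl
theorem L793052 : sm gb N60242 = N59269 := ded_21_1 (flp_e L783026) (flp_b L780736) L793050
theorem L793054 : sm gg N60242 = N59010 := ded_41_2 (flp_e L780770) (flp_g L780740) L793050
theorem L793056 : sm gh N60242 = N59015 := ded_43_2 (flp_e L780811) (flp_h L780744) L793050
theorem L793058 : sm gi N60242 = N59256 := ded_44_2 (flp_e L782932) (flp_i L780742) L793050
theorem L793060 : sm gd N60242 = N60242 := ded_34_1 (flp_e L793050) (flp_d L780734) L769236 L780734 L793050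
theorem L793061 : sm gc N59008 = N60243 := rfl
theorem L793063 : sm ga N60243 = N59447 := ded_11_1 (flp_c L784129) (flp_a L780748) L793061
theorem L793065 : sm gf N60243 = N59011 := ded_29_2 (flp_c L780777) (flp_f L780752) L793061
theorem L793067 : sm gg N60243 = N59255 := ded_30_2 (flp_c L782926) (flp_g L780754) L793061
theorem L793069 : sm gj N60243 = N59042 := ded_31_2 (flp_c L781011) (flp_j L780756) L793061
theorem L793071 : sm gh N60243 = N59261 := ded_32_2 (flp_c L782963) (flp_h L780760) L793061
theorem L793073 : sm gi N60243 = N59009 := ded_33_2 (flp_c L780762) (flp_i L780758) L793061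
theorem L793075 : sm gb N59009 = N60244 := rfl
theorem L793077 : sm gf N60244 = N59012 := ded_22_2 (flp_b L780789) (flp_f L780764) L793075
theorem L793079 : sm gj N60244 = N59044 := ded_24_2 (flp_b L781022) (flp_j L780766) L793075
theorem L793081 : sm gh N60244 = N59016 := ded_25_2 (flp_b L780817) (flp_h L780768) L793075
theorem L793083 : sm ge N59009 = N60245 := rfl
theorem L793085 : sm gc N60245 = N59010 := ded_28_1 (flp_e L780770) L780762 L793083
theorem L793087 : sm gj N60245 = N59045 := ded_42_2 (flp_e L781028) (flp_j L780766) L793083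
theorem L793089 : sm gh N60245 = N59017 := ded_43_2 (flp_e L780825) (flp_h L780768) L793083
theorem L793091 : sm gb N59011 = N60246 := rfl
theorem L793093 : sm gg N60246 = N59415 := ded_23_2 (flp_b L783946) (flp_g L780781) L793091
theorem L793095 : sm gj N60246 = N59047 := ded_24_2 (flp_b L781045) (flp_j L780783) L793091
theorem L793097 : sm gh N60246 = N59444 := ded_25_2 (flp_b L784117) (flp_h L780785) L793091
theorem L793099 : sm gi N60246 = N59012 := ded_26_2 (flp_b L780789) (flp_i L780787) L793091
theorem L793101 : sm gc N60246 = N59411 := ded_19_2 (flp_b L783924) (flp_c L772305) (flp_b L769270) L780777 L793091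
theorem L793103 : sm ga N59012 = N60247 := rfl
theorem L793105 : sm gj N60247 = N59049 := ded_16_2 (flp_a L781063) (flp_j L780791) L793103
theorem L793107 : sm gh N60247 = N59018 := ded_17_2 (flp_a L780831) (flp_h L780793) L793103
theorem L793109 : sm gc N59013 = N60248 := rfl
theorem L793111 : sm gg N60248 = N59053 := ded_30_2 (flp_c L781097) (flp_g L780799) L793109
theorem L793113 : sm gj N60248 = N59014 := ded_31_2 (flp_c L780805) (flp_j L780801) L793109
theorem L793115 : sm gi N60248 = N59424 := ded_33_2 (flp_c L784000) (flp_i L780803) L793109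
theorem L793117 : sm gd N60248 = N59020 := ded_27_2 (flp_c L780847) (flp_d L769336) (flp_c L769290) L780795 L793109
theorem L793119 : sm ge N59013 = N60249 := rfl
theorem L793121 : sm gb N60249 = N59430 := ded_21_1 (flp_e L784028) (flp_b L780797) L793119
theorem L793123 : sm gg N60249 = N59054 := ded_41_2 (flp_e L781105) (flp_g L780799) L793119
theorem L793125 : sm gj N60249 = N59015 := ded_42_2 (flp_e L780811) (flp_j L780801) L793119
theorem L793127 : sm gi N60249 = N59425 := ded_44_2 (flp_e L784004) (flp_i L780803) L793119
theorem L793129 : sm gd N60249 = N59072 := ded_34_1 (flp_e L781231) (flp_d L769643) (flp_e L769292) L780795 L793119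
theorem L793131 : sm gb N59014 = N60250 := rfl
theorem L793133 : sm gd N60250 = N59022 := ded_20_2 (flp_b L780863) (flp_d L780809) L793131
theorem L793135 : sm gg N60250 = N59016 := ded_23_2 (flp_b L780817) (flp_g L780807) L793131
theorem L793137 : sm ge N59014 = N60251 := rfl
theorem L793139 : sm gc N60251 = N59015 := ded_28_1 (flp_e L780811) L780805 L793137
theorem L793141 : sm gg N60251 = N59017 := ded_41_2 (flp_e L780825) (flp_g L780807) L793137
theorem L793143 : sm gf N59015 = N60252 := rfl
theorem L793145 : sm gb N60252 = N59090 := ded_22_1 (flp_f L791200) L791194 L793143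
theorem L793147 : sm gd N60252 = N59074 := ded_35_1 (flp_f L781251) (flp_d L780815) L793143
theorem L793149 : sm gi N60252 = N59089 := ded_48_2 (flp_f L788084) L788082 L793143
theorem L793151 : sm gg N60252 = N59274 := ded_45_2 (flp_f L783053) (flp_g L776073) L776081 (flp_g L780813) L793143
theorem L793153 : sm ga N59016 = N60253 := rfl
theorem L793155 : sm gd N60253 = N59025 := ded_12_2 (flp_a L780877) (flp_d L780819) L793153
theorem L793157 : sm gf N60253 = N59018 := ded_14_2 (flp_a L780831) (flp_f L780821) L793153
theorem L793159 : sm gj N60253 = N59058 := ded_16_2 (flp_a L781131) (flp_j L780823) L793153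
theorem L793161 : sm ge N59016 = N60254 := rfl
theorem L793163 : sm gb N60254 = N59017 := ded_21_1 (flp_e L780825) L780817 L793161
theorem L793165 : sm gj N60254 = N59059 := ded_42_2 (flp_e L781137) (flp_j L780823) L793161
theorem L793167 : sm gd N59017 = N60255 := rfl
theorem L793169 : sm gf N60255 = N59208 := ded_35_2 (flp_d L788024) L788026 L793167
theorem L793171 : sm gj N60255 = N59060 := ded_37_2 (flp_d L781141) (flp_j L780829) L793167
theorem L793173 : sm gi N60255 = N59249 := ded_39_2 (flp_d L788060) L788066 L793167
theorem L793175 : sm gc N60255 = N59075 := ded_27_1 (flp_d L781261) L769672 (flp_d L769316) (flp_c L780827) L793167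
theorem L793177 : sm ge N60255 = N59027 := ded_34_2 (flp_d L780889) (flp_e L769358) (flp_d L769310) L780825 L793167
theorem L793179 : sm ge N59018 = N60256 := rfl
theorem L793181 : sm ga N60256 = N59019 := ded_13_1 (flp_e L780837) L780831 L793179
theorem L793183 : sm gb N60256 = N59443 := ded_21_1 (flp_e L791770) L791776 L793179
theorem L793185 : sm gj N60256 = N59062 := ded_42_2 (flp_e L781163) (flp_j L780835) L793179
theorem L793187 : sm gi N60256 = N59416 := ded_44_2 (flp_e L792497) L792503 L793179
theorem L793189 : sm gd N60256 = N59410 := ded_34_1 (flp_e L791044) L791042 L778967 (flp_d L780833) L793179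
theorem L793191 : sm gb N59020 = N60257 := rfl
theorem L793193 : sm gg N60257 = N59064 := ded_23_2 (flp_b L781183) (flp_g L780849) L793191
theorem L793195 : sm gj N60257 = N59022 := ded_24_2 (flp_b L780863) (flp_j L780851) L793191
theorem L793197 : sm ge N59020 = N60258 := rfl
theorem L793199 : sm gc N60258 = N59021 := ded_28_1 (flp_e L780853) L780847 L793197
theorem L793201 : sm gg N60258 = N59065 := ded_41_2 (flp_e L781189) (flp_g L780849) L793197
theorem L793203 : sm gj N60258 = N59023 := ded_42_2 (flp_e L780867) (flp_j L780851) L793197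
theorem L793205 : sm gh N60258 = N59367 := ded_43_2 (flp_e L789253) L789261 L793197
theorem L793207 : sm ga N59022 = N60259 := rfl
theorem L793209 : sm gg N60259 = N59025 := ded_15_2 (flp_a L780877) (flp_g L780865) L793207
theorem L793211 : sm ge N59022 = N60260 := rfl
theorem L793213 : sm gb N60260 = N59023 := ded_21_1 (flp_e L780867) L780863 L793211
theorem L793215 : sm gg N60260 = N59026 := ded_41_2 (flp_e L780883) (flp_g L780865) L793211
theorem L793217 : sm gd N59023 = N60261 := rfl
theorem L793219 : sm gg N60261 = N59027 := ded_36_2 (flp_d L780889) (flp_g L780871) L793217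
theorem L793221 : sm gc N60261 = N59079 := ded_27_1 (flp_d L781308) L769713 (flp_d L769350) (flp_c L780869) L793217
theorem L793223 : sm gf N59023 = N60262 := rfl
theorem L793225 : sm gc N60262 = N59024 := ded_29_1 (flp_f L780873) (flp_c L780869) L793223
theorem L793227 : sm ge N59025 = N60263 := rfl
theorem L793229 : sm ga N60263 = N59026 := ded_13_1 (flp_e L780883) L780877 L793227
theorem L793231 : sm gj N60263 = N59069 := ded_42_2 (flp_e L781219) (flp_j L780881) L793227
theorem L793233 : sm gd N59026 = N60264 := rfl
theorem L793235 : sm gb N60264 = N59027 := ded_20_1 (flp_d L780889) (flp_b L780885) L793233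
theorem L793237 : sm gf N60264 = N59434 := ded_35_2 (flp_d L791070) L791072 L793233
theorem L793239 : sm gj N60264 = N59070 := ded_37_2 (flp_d L781223) (flp_j L780887) L793233
theorem L793241 : sm gh N59027 = N60265 := rfl
theorem L793243 : sm gc N60265 = N59082 := ded_32_1 (flp_h L781334) (flp_c L780895) L793241
theorem L793245 : sm gf N60265 = N59432 := ded_47_1 L784044 (flp_f L780891) L793241
theorem L793247 : sm gj N60265 = N59071 := ded_52_1 (flp_h L781227) (flp_j L780893) L793241
theorem L793249 : sm ga N59028 = N60266 := rfl
theorem L793251 : sm gg N60266 = N59493 := ded_15_2 (flp_a L784443) (flp_g L780899) L793249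
theorem L793253 : sm gb N60266 = N59036 := ded_10_2 (flp_a L780960) (flp_b L769423) (flp_a L769370) L780897 L793249
theorem L793255 : sm gc N59029 = N60267 := rfl
theorem L793257 : sm ga N60267 = N59210 := ded_11_1 (flp_c L782588) (flp_a L780903) L793255
theorem L793259 : sm gf N60267 = N59489 := ded_29_2 L784425 (flp_f L780907) L793255
theorem L793261 : sm gg N60267 = N59030 := ded_30_2 (flp_c L780913) (flp_g L780909) L793255
theorem L793263 : sm gh N60267 = N59033 := ded_32_2 (flp_c L780938) (flp_h L780911) L793255
theorem L793265 : sm gb N59030 = N60268 := rfl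
theorem L793267 : sm gf N60268 = N59032 := ded_22_2 (flp_b L780928) (flp_f L780915) L793265
theorem L793269 : sm gh N60268 = N59034 := ded_25_2 (flp_b L780950) (flp_h L780917) L793265
theorem L793271 : sm gc N60268 = N59044 := ded_19_2 (flp_b L781022) (flp_c L769473) (flp_b L769387) L780913 L793265
theorem L793273 : sm ge N59030 = N60269 := rfl
theorem L793275 : sm gc N60269 = N59031 := ded_28_1 (flp_e L780919) L780913 L793273
theorem L793277 : sm gh N60269 = N59035 := ded_43_2 (flp_e L780956) (flp_h L780917) L793273
theorem L793279 : sm gf N60269 = N59472 := ded_40_2 (flp_e L784296) L772659 (flp_e L769395) (flp_f L780915) L793273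
theorem L793281 : sm ga N59032 = N60270 := rfl
theorem L793283 : sm gc N60270 = N59049 := ded_11_2 (flp_a L781063) (flp_c L780936) L793281
theorem L793285 : sm ge N60270 = N59473 := ded_13_2 (flp_a L784300) (flp_e L780930) L793281
theorem L793287 : sm gg N60270 = N59487 := ded_15_2 L784405 (flp_g L780932) L793281
theorem L793289 : sm gh N60270 = N59036 := ded_17_2 (flp_a L780960) (flp_h L780934) L793281
theorem L793291 : sm gb N59033 = N60271 := rfl
theorem L793293 : sm gd N60271 = N59444 := ded_20_2 (flp_b L784117) (flp_d L780948) L793291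
theorem L793295 : sm gf N60271 = N59494 := ded_22_2 (flp_b L784447) (flp_f L780942) L793291
theorem L793297 : sm gg N60271 = N59034 := ded_23_2 (flp_b L780950) (flp_g L780944) L793291
theorem L793299 : sm gi N60271 = N59254 := ded_26_2 (flp_b L782922) (flp_i L780946) L793291
theorem L793301 : sm gc N60271 = N59055 := ded_19_2 (flp_b L781111) (flp_c L769536) (flp_b L769405) L780938 L793291
theorem L793303 : sm ga N59034 = N60272 := rfl
theorem L793305 : sm gc N60272 = N59058 := ded_11_2 (flp_a L781131) (flp_c L780954) L793303
theorem L793307 : sm gf N60272 = N59036 := ded_14_2 (flp_a L780960) (flp_f L780952) L793303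
theorem L793309 : sm ge N59034 = N60273 := rfl
theorem L793311 : sm gb N60273 = N59035 := ded_21_1 (flp_e L780956) L780950 L793309
theorem L793313 : sm gc N60273 = N59059 := ded_28_1 (flp_e L781137) (flp_c L780954) L793309
theorem L793315 : sm ge N59036 = N60274 := rfl
theorem L793317 : sm ga N60274 = N59037 := ded_13_1 (flp_e L780966) L780960 L793315
theorem L793319 : sm gc N60274 = N59062 := ded_28_1 (flp_e L781163) (flp_c L780962) L793315
theorem L793321 : sm gg N60274 = N59482 := ded_41_2 L784363 (flp_g L780964) L793315
theorem L793323 : sm gh N60274 = N59473 := ded_43_2 (flp_e L793285) L793289 L793315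
theorem L793325 : sm gi N60274 = N59419 := ded_44_2 (flp_e L792593) L792597 L793315
theorem L793327 : sm gc N59038 = N60275 := rfl
theorem L793329 : sm ga N60275 = N59225 := ded_11_1 (flp_c L782704) (flp_a L780980) L793327
theorem L793331 : sm gf N60275 = N59148 := ded_29_2 (flp_c L782022) (flp_f L780982) L793327
theorem L793333 : sm gj N60275 = N59040 := ded_31_2 (flp_c L780996) (flp_j L780984) L793327
theorem L793335 : sm gh N60275 = N59053 := ded_32_2 (flp_c L781097) (flp_h L780986) L793327
theorem L793337 : sm gd N60275 = N59151 := ded_27_2 (flp_c L782057) (flp_d L770480) (flp_c L769443) L780978 L793327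
theorem L793339 : sm ge N59038 = N60276 := rfl
theorem L793341 : sm ga N60276 = N59226 := ded_13_1 (flp_e L782710) (flp_a L780980) L793339
theorem L793343 : sm gj N60276 = N59041 := ded_42_2 (flp_e L781004) (flp_j L780984) L793339
theorem L793345 : sm gh N60276 = N59054 := ded_43_2 (flp_e L781105) (flp_h L780986) L793339
theorem L793347 : sm gd N60276 = N60276 := ded_34_1 (flp_e L793339) (flp_d L780978) L769445 L780978 L793339
theorem L793348 : sm gc N59039 = N60277 := rfl
theorem L793350 : sm gf N60277 = N59499 := ded_29_2 (flp_c L784477) (flp_f L780990) L793348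
theorem L793352 : sm gg N60277 = N59042 := ded_30_2 (flp_c L781011) (flp_g L780992) L793348
theorem L793354 : sm gi N60277 = N59040 := ded_33_2 (flp_c L780996) (flp_i L780994) L793348
theorem L793356 : sm ge N59039 = N60278 := rfl
theorem L793358 : sm gg N60278 = N59043 := ded_41_2 (flp_e L781017) (flp_g L780992) L793356
theorem L793360 : sm gi N60278 = N59041 := ded_44_2 (flp_e L781004) (flp_i L780994) L793356
theorem L793362 : sm gd N60278 = N60278 := ded_34_1 (flp_e L793356) (flp_d L780988) L769452 L780988 L793356
theorem L793363 : sm gb N59040 = N60279 := rfl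
theorem L793365 : sm gf N60279 = N59501 := ded_22_2 (flp_b L784491) (flp_f L780998) L793363
theorem L793367 : sm gg N60279 = N59044 := ded_23_2 (flp_b L781022) (flp_g L781000) L793363
theorem L793369 : sm gh N60279 = N59055 := ded_25_2 (flp_b L781111) (flp_h L781002) L793363
theorem L793371 : sm ge N59040 = N60280 := rfl
theorem L793373 : sm gc N60280 = N59041 := ded_28_1 (flp_e L781004) L780996 L793371
theorem L793375 : sm gg N60280 = N59045 := ded_41_2 (flp_e L781028) (flp_g L781000) L793371
theorem L793377 : sm gh N60280 = N59056 := ded_43_2 (flp_e L781119) (flp_h L781002) L793371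
theorem L793379 : sm gf N59041 = N60281 := rfl
theorem L793381 : sm gd N60281 = N60281 := ded_35_1 (flp_f L793379) L781010 L793379
theorem L793382 : sm gh N60281 = N59057 := ded_47_2 (flp_f L781125) (flp_h L781008) L793379
theorem L793384 : sm ge N60281 = N59503 := ded_40_1 (flp_f L784505) (flp_e L772855) (flp_f L769461) L781004 L793379
theorem L793386 : sm gb N59042 = N60282 := rfl
theorem L793388 : sm gf N60282 = N59047 := ded_22_2 (flp_b L781045) (flp_f L781013) L793386
theorem L793390 : sm gi N60282 = N59044 := ded_26_2 (flp_b L781022) (flp_i L781015) L793386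
theorem L793392 : sm ge N59042 = N60283 := rfl
theorem L793394 : sm gc N60283 = N59043 := ded_28_1 (flp_e L781017) L781011 L793392
theorem L793396 : sm gi N60283 = N59045 := ded_44_2 (flp_e L781028) (flp_i L781015) L793392
theorem L793398 : sm ga N59044 = N60284 := rfl
theorem L793400 : sm gf N60284 = N59049 := ded_14_2 (flp_a L781063) (flp_f L781024) L793398
theorem L793402 : sm gh N60284 = N59058 := ded_17_2 (flp_a L781131) (flp_h L781026) L793398
theorem L793404 : sm ge N59044 = N60285 := rfl
theorem L793406 : sm gb N60285 = N59045 := ded_21_1 (flp_e L781028) L781022 L793404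
theorem L793408 : sm gh N60285 = N59059 := ded_43_2 (flp_e L781137) (flp_h L781026) L793404
theorem L793410 : sm gd N59045 = N60286 := rfl
theorem L793412 : sm gc N60286 = N60286 := ded_27_1 (flp_d L793410) L781030 L769483 (flp_c L781030) L793410
theorem L793413 : sm gf N59045 = N60287 := rfl
theorem L793415 : sm ga N60287 = N59459 := ded_14_1 (flp_f L791905) L791899 L793413
theorem L793417 : sm gc N60287 = N59046 := ded_29_1 (flp_f L781034) (flp_c L781030) L793413
theorem L793419 : sm gh N60287 = N59061 := ded_47_2 (flp_f L781151) (flp_h L781032) L793413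
theorem L793421 : sm ge N60287 = N59052 := ded_40_1 (flp_f L781089) (flp_e L769510) (flp_f L769475) L781028 L793413
theorem L793423 : sm ga N59047 = N60288 := rfl
theorem L793425 : sm gg N60288 = N59509 := ded_15_2 (flp_a L784543) (flp_g L781047) L793423
theorem L793427 : sm gi N60288 = N59049 := ded_18_2 (flp_a L781063) (flp_i L781049) L793423
theorem L793429 : sm ge N59047 = N60289 := rfl
theorem L793431 : sm gb N60289 = N59048 := ded_21_1 (flp_e L781051) L781045 L793429
theorem L793433 : sm gc N60289 = N59437 := ded_28_1 (flp_e L791647) L791655 L793429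
theorem L793435 : sm gg N60289 = N59441 := ded_41_2 L784095 (flp_g L781047) L793429
theorem L793437 : sm gh N60289 = N59420 := ded_43_2 (flp_e L792623) L792629 L793429
theorem L793439 : sm gi N60289 = N59050 := ded_44_2 (flp_e L781069) (flp_i L781049) L793429
theorem L793441 : sm gd N59048 = N60290 := rfl
theorem L793443 : sm ga N60290 = N59429 := ded_12_1 L784026 (flp_a L781053) L793441
theorem L793445 : sm gg N60290 = N59202 := ded_36_2 L782519 (flp_g L781057) L793441
theorem L793447 : sm gi N60290 = N59051 := ded_39_2 (flp_d L781079) (flp_i L781061) L793441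
theorem L793449 : sm gc N60290 = N59102 := ded_27_1 (flp_d L781521) L769966 (flp_d L769502) (flp_c L781055) L793441
theorem L793451 : sm ge N59049 = N60291 := rfl
theorem L793453 : sm ga N60291 = N59050 := ded_13_1 (flp_e L781069) L781063 L793451
theorem L793455 : sm gb N60291 = N59461 := ded_21_1 (flp_e L791923) L791929 L793451
theorem L793457 : sm gc N60291 = N59473 := ded_28_1 (flp_e L793285) L793283 L793451
theorem L793459 : sm gg N60291 = N59481 := ded_41_2 L784353 (flp_g L781065) L793451
theorem L793461 : sm gh N60291 = N59062 := ded_43_2 (flp_e L781163) (flp_h L781067) L793451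
theorem L793463 : sm gd N59050 = N60292 := rfl
theorem L793465 : sm gb N60292 = N59051 := ded_20_1 (flp_d L781079) (flp_b L781071) L793463
theorem L793467 : sm gg N60292 = N59235 := ded_36_2 L782769 (flp_g L781075) L793463
theorem L793469 : sm gc N60292 = N59227 := ded_27_1 L782715 L771159 (flp_d L772668) (flp_c L781073) L793463
theorem L793471 : sm gh N60292 = N59407 := ded_38_2 L783902 L772291 (flp_d L769584) (flp_h L781077) L793463
theorem L793473 : sm gf N59050 = N60293 := rfl
theorem L793475 : sm gb N60293 = N59052 := ded_22_1 (flp_f L781089) (flp_b L781071) L793473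
theorem L793477 : sm gc N60293 = N59471 := ded_29_1 L784294 (flp_c L781073) L793473
theorem L793479 : sm gh N60293 = N59063 := ded_47_2 (flp_f L781175) (flp_h L781077) L793473
theorem L793481 : sm gf N59051 = N60294 := rfl
theorem L793483 : sm ga N60294 = N59205 := ded_14_1 L782543 (flp_a L781081) L793481
theorem L793485 : sm gc N60294 = N59103 := ded_29_1 (flp_f L781531) (flp_c L781085) L793481
theorem L793487 : sm gd N60294 = N59052 := ded_35_1 (flp_f L781089) L781079 L793481
theorem L793489 : sm gj N60294 = N59141 := ded_46_2 (flp_f L785721) L785725 L793481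
theorem L793491 : sm gh N60294 = N59128 := ded_47_2 L781829 (flp_h L781087) L793481
theorem L793493 : sm gb N59053 = N60295 := rfl
theorem L793495 : sm gd N60295 = N59064 := ded_20_2 (flp_b L781183) (flp_d L781103) L793493
theorem L793497 : sm gf N60295 = N59510 := ded_22_2 (flp_b L784547) (flp_f L781099) L793493
theorem L793499 : sm gj N60295 = N59055 := ded_24_2 (flp_b L781111) (flp_j L781101) L793493
theorem L793501 : sm ge N59053 = N60296 := rfl
theorem L793503 : sm gc N60296 = N59054 := ded_28_1 (flp_e L781105) L781097 L793501
theorem L793505 : sm gj N60296 = N59056 := ded_42_2 (flp_e L781119) (flp_j L781101) L793501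
theorem L793507 : sm gf N59054 = N60297 := rfl
theorem L793509 : sm gd N60297 = N59083 := ded_35_1 (flp_f L781342) (flp_d L781109) L793507
theorem L793511 : sm gj N60297 = N59057 := ded_46_2 (flp_f L781125) (flp_j L781107) L793507
theorem L793513 : sm gi N60297 = N59428 := ded_48_2 (flp_f L788224) L788230 L793507
theorem L793515 : sm ge N60297 = N59511 := ded_40_1 (flp_f L784553) (flp_e L772901) (flp_f L769532) L781105 L793507
theorem L793517 : sm ga N59055 = N60298 := rfl
theorem L793519 : sm gd N60298 = N59066 := ded_12_2 (flp_a L781199) (flp_d L781113) L793517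
theorem L793521 : sm gf N60298 = N59512 := ded_14_2 (flp_a L784559) (flp_f L781115) L793517
theorem L793523 : sm gg N60298 = N59058 := ded_15_2 (flp_a L781131) (flp_g L781117) L793517
theorem L793525 : sm ge N59055 = N60299 := rfl
theorem L793527 : sm gb N60299 = N59056 := ded_21_1 (flp_e L781119) L781111 L793525
theorem L793529 : sm gg N60299 = N59059 := ded_41_2 (flp_e L781137) (flp_g L781117) L793525
theorem L793531 : sm gf N59056 = N60300 := rfl
theorem L793533 : sm gc N60300 = N59057 := ded_29_1 (flp_f L781125) (flp_c L781121) L793531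
theorem L793535 : sm gd N60300 = N59263 := ded_35_1 (flp_f L792829) L792835 L793531
theorem L793537 : sm ge N60300 = N59498 := ded_40_1 L784473 (flp_e L772913) (flp_f L769538) L781119 L793531
theorem L793539 : sm ge N59058 = N60301 := rfl
theorem L793541 : sm ga N60301 = N59059 := ded_13_1 (flp_e L781137) L781131 L793539
theorem L793543 : sm gd N59059 = N60302 := rfl
theorem L793545 : sm gb N60302 = N59060 := ded_20_1 (flp_d L781141) (flp_b L781139) L793543
theorem L793547 : sm gi N60302 = N59285 := ded_39_2 L792675 L792671 L793543
theorem L793549 : sm ge N60302 = N59070 := ded_34_2 (flp_d L781223) (flp_e L769628) (flp_d L769552) L781137 L793543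
theorem L793551 : sm gf N59222 = N60302 := ded_22_0 L793545 (flp_f L781149) (flp_b L782678)
theorem L793553 : sm gf N59059 = N60303 := rfl
theorem L793555 : sm gb N60303 = N59061 := ded_22_1 (flp_f L781151) (flp_b L781139) L793553
theorem L793557 : sm gd N60303 = N59222 := ded_35_1 L793551 (flp_d L793543) L793553
theorem L793559 : sm gi N60303 = N59138 := ded_48_2 (flp_f L792673) L792671 L793553
theorem L793561 : sm ge N60303 = N59063 := ded_40_1 (flp_f L781175) (flp_e L769576) (flp_f L769554) L781137 L793553
theorem L793563 : sm gh N59060 = N60304 := rfl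
theorem L793565 : sm gc N60304 = N59084 := ded_32_1 (flp_h L781353) (flp_c L781145) L793563
theorem L793567 : sm ge N60304 = N59071 := ded_43_1 (flp_h L781227) (flp_e L781147) L793563
theorem L793569 : sm gf N60304 = N59219 := ded_47_1 L782658 L781149 L793563
theorem L793571 : sm gf N59062 = N60305 := rfl
theorem L793573 : sm ga N60305 = N59063 := ded_14_1 (flp_f L781175) (flp_a L781165) L793571
theorem L793575 : sm gb N60305 = N59467 := ded_22_1 L784268 (flp_b L781167) L793571
theorem L793577 : sm gd N60305 = N59132 := ded_35_1 L781881 (flp_d L781173) L793571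
theorem L793579 : sm gi N60305 = N59137 := ded_48_2 L781927 (flp_i L781171) L793571
theorem L793581 : sm ga N59064 = N60306 := rfl
theorem L793583 : sm gf N60306 = N59517 := ded_14_2 (flp_a L784585) (flp_f L781185) L793581
theorem L793585 : sm gj N60306 = N59066 := ded_16_2 (flp_a L781199) (flp_j L781187) L793581
theorem L793587 : sm ge N59064 = N60307 := rfl
theorem L793589 : sm gb N60307 = N59065 := ded_21_1 (flp_e L781189) L781183 L793587
theorem L793591 : sm gj N60307 = N59067 := ded_42_2 (flp_e L781205) (flp_j L781187) L793587
theorem L793593 : sm gh N60307 = N59366 := ded_43_2 (flp_e L790582) L790588 L793587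
theorem L793595 : sm gf N60307 = N59361 := ded_40_2 (flp_e L783599) (flp_f L774870) L774868 (flp_f L781185) L793587
theorem L793597 : sm gd N59065 = N60308 := rfl
theorem L793599 : sm gf N60308 = N59236 := ded_35_2 L782781 (flp_f L781197) L793597
theorem L793601 : sm gj N60308 = N59068 := ded_37_2 (flp_d L781211) (flp_j L781193) L793597
theorem L793603 : sm gc N60308 = N59085 := ded_27_1 (flp_d L781360) L769776 (flp_d L769608) (flp_c L781191) L793597
theorem L793605 : sm ge N59066 = N60309 := rfl
theorem L793607 : sm ga N60309 = N59067 := ded_13_1 (flp_e L781205) L781199 L793605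
theorem L793609 : sm gg N60309 = N59069 := ded_41_2 (flp_e L781219) (flp_g L781203) L793605
theorem L793611 : sm gd N59067 = N60310 := rfl
theorem L793613 : sm gb N60310 = N59068 := ded_20_1 (flp_d L781211) (flp_b L781207) L793611
theorem L793615 : sm gf N60310 = N59265 := ded_35_2 (flp_d L786715) L786717 L793611
theorem L793617 : sm gg N60310 = N59070 := ded_36_2 (flp_d L781223) (flp_g L781209) L793611
theorem L793619 : sm gc N59285 = N60310 := ded_19_0 L793613 L781217 L769786 (flp_c L771451) (flp_b L783115)
theorem L793621 : sm gh N59068 = N60311 := rfl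
theorem L793623 : sm gc N60311 = N59086 := ded_32_1 (flp_h L781368) (flp_c L781217) L793621
theorem L793625 : sm gf N60311 = N59260 := ded_47_1 L782961 (flp_f L781213) L793621
theorem L793627 : sm gg N60311 = N59071 := ded_50_1 (flp_h L781227) (flp_g L781215) L793621
theorem L793629 : sm gd N59069 = N60312 := rfl
theorem L793631 : sm ga N60312 = N59070 := ded_12_1 (flp_d L781223) (flp_a L781221) L793629
theorem L793633 : sm gc N59070 = N60313 := rfl
theorem L793635 : sm gg N60313 = N59285 := ded_30_2 L793619 L793617 L793633
theorem L793637 : sm gb N60313 = N59088 := ded_19_1 (flp_c L781388) L769808 (flp_c L769634) (flp_b L781225) L793633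
theorem L793639 : sm gh N59070 = N60314 := rfl
theorem L793641 : sm gb N60314 = N59071 := ded_25_1 (flp_h L781227) (flp_b L781225) L793639
theorem L793643 : sm gi N59071 = N60315 := rfl
theorem L793645 : sm gc N60315 = N59090 := ded_33_1 (flp_i L781400) (flp_c L781229) L793643
theorem L793647 : sm gf N59072 = N60316 := rfl
theorem L793649 : sm gb N60316 = N59097 := ded_22_1 L781474 (flp_b L781233) L793647
theorem L793651 : sm gj N60316 = N59074 := ded_46_2 (flp_f L781251) (flp_j L781237) L793647
theorem L793653 : sm gh N60316 = N60316 := ded_47_2 (flp_f L793647) L781239 L793647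
theorem L793654 : sm gi N60316 = N59096 := ded_48_2 L781467 (flp_i L781240) L793647
theorem L793656 : sm ge N60316 = N60316 := ded_40_1 (flp_f L793647) (flp_e L781231) L769647 L781231 L793647
theorem L793657 : sm gd N59073 = N60317 := rfl
theorem L793659 : sm gg N60317 = N59075 := ded_36_2 (flp_d L781261) (flp_g L781246) L793657
theorem L793661 : sm gi N60317 = N59250 := ded_39_2 L782884 (flp_i L781249) L793657
theorem L793663 : sm ge N60317 = N59079 := ded_34_2 (flp_d L781308) (flp_e L769711) (flp_d L769663) L781242 L793657
theorem L793665 : sm gf N59073 = N60318 := rfl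
theorem L793667 : sm gc N60318 = N59074 := ded_29_1 (flp_f L781251) (flp_c L781244) L793665
theorem L793669 : sm gh N60318 = N60318 := ded_47_2 (flp_f L793665) L781248 L793665
theorem L793670 : sm gi N60318 = N59101 := ded_48_2 L781517 (flp_i L781249) L793665
theorem L793672 : sm ge N60318 = N60318 := ded_40_1 (flp_f L793665) (flp_e L781242) L769657 L781242 L793665
theorem L793673 : sm gg N60318 = N59199 := ded_45_2 (flp_f L782483) L770924 (flp_f L769679) (flp_g L781246) L793665
theorem L793675 : sm gh N59075 = N60319 := rfl
theorem L793677 : sm ge N60319 = N59082 := ded_43_1 (flp_h L781334) (flp_e L781269) L793675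
theorem L793679 : sm gf N60319 = N59206 := ded_47_1 L782555 (flp_f L781263) L793675
theorem L793681 : sm gj N60319 = N59084 := ded_52_1 (flp_h L781353) (flp_j L781265) L793675
theorem L793683 : sm gd N60319 = N60319 := ded_38_1 (flp_h L793675) (flp_d L781261) L769676 L781261 L793675
theorem L793684 : sm gd N59076 = N60320 := rfl
theorem L793686 : sm gb N60320 = N59250 := ded_20_1 L782884 (flp_b L781273) L793684
theorem L793688 : sm gg N60320 = N59085 := ded_36_2 (flp_d L781360) (flp_g L781277) L793684
theorem L793690 : sm gj N60320 = N59079 := ded_37_2 (flp_d L781308) (flp_j L781279) L793684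
theorem L793692 : sm ge N59077 = N60321 := rfl
theorem L793694 : sm ga N60321 = N59078 := ded_13_1 (flp_e L781296) L781283 L793692
theorem L793696 : sm gb N60321 = N59186 := ded_21_1 (flp_e L782364) (flp_b L781294) L793692
theorem L793698 : sm gc N60321 = N59147 := ded_28_1 (flp_e L782010) (flp_c L781285) L793692
theorem L793700 : sm gg N60321 = N59080 := ded_41_2 (flp_e L781312) (flp_g L781288) L793692
theorem L793702 : sm gj N60321 = N59165 := ded_42_2 L782188 (flp_j L781290) L793692
theorem L793704 : sm gh N60321 = N59091 := ded_43_2 (flp_e L781404) (flp_h L781292) L793692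
theorem L793706 : sm gd N59078 = N60322 := rfl
theorem L793708 : sm gb N60322 = N59079 := ded_20_1 (flp_d L781308) (flp_b L781298) L793706
theorem L793710 : sm gg N60322 = N59081 := ded_36_2 (flp_d L781326) (flp_g L781302) L793706
theorem L793712 : sm gj N60322 = N59250 := ded_37_2 L782884 (flp_j L781304) L793706
theorem L793714 : sm gh N59079 = N60323 := rfl
theorem L793716 : sm gg N60323 = N59082 := ded_50_1 (flp_h L781334) (flp_g L781310) L793714
theorem L793718 : sm gd N60323 = N59094 := ded_38_1 (flp_h L781445) (flp_d L769862) (flp_h L769717) L781308 L793714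
theorem L793720 : sm gd N59080 = N60324 := rfl
theorem L793722 : sm ga N60324 = N59081 := ded_12_1 (flp_d L781326) (flp_a L781314) L793720
theorem L793724 : sm gb N60324 = N59511 := ded_20_1 L784555 (flp_b L781316) L793720
theorem L793726 : sm gf N60324 = N59423 := ded_35_2 L783998 (flp_f L781324) L793720
theorem L793728 : sm gj N60324 = N59087 := ded_37_2 (flp_d L781378) (flp_j L781320) L793720
theorem L793730 : sm gc N59081 = N60325 := rfl
theorem L793732 : sm gf N60325 = N59427 := ded_29_2 L784018 (flp_f L781330) L793730
theorem L793734 : sm gj N60325 = N59088 := ded_31_2 (flp_c L781388) (flp_j L781332) L793730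
theorem L793736 : sm gh N59081 = N60326 := rfl
theorem L793738 : sm gb N60326 = N59082 := ded_25_1 (flp_h L781334) (flp_b L781328) L793736
theorem L793740 : sm gf N60326 = N59425 := ded_47_1 L784008 (flp_f L781330) L793736
theorem L793742 : sm gj N60326 = N59089 := ded_52_1 (flp_h L781392) (flp_j L781332) L793736
theorem L793744 : sm gd N60326 = N59096 := ded_38_1 (flp_h L781462) (flp_d L769889) (flp_h L769742) L781326 L793736
theorem L793746 : sm gi N59082 = N60327 := rfl
theorem L793748 : sm gd N60327 = N59097 := ded_39_1 (flp_i L781471) (flp_d L781340) L793746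
theorem L793750 : sm gf N60327 = N59430 := ded_48_1 L784030 (flp_f L781336) L793746
theorem L793752 : sm gj N60327 = N59090 := ded_53_1 (flp_i L781400) (flp_j L781338) L793746
theorem L793754 : sm gi N59084 = N60328 := rfl
theorem L793756 : sm gd N60328 = N60328 := ded_39_1 (flp_i L793754) L781359 L793754
theorem L793757 : sm ge N60328 = N59090 := ded_44_1 (flp_i L781400) (flp_e L781355) L793754
theorem L793759 : sm gf N60328 = N59217 := ded_48_1 L782647 (flp_f L781357) L793754
theorem L793761 : sm gh N60328 = N59274 := ded_54_1 L783057 L771413 (flp_i L769768) L781353 L793754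
theorem L793763 : sm gi N59086 = N60329 := rfl
theorem L793765 : sm gb N60329 = N59274 := ded_26_1 L783057 (flp_b L781370) L793763
theorem L793767 : sm gd N60329 = N59098 := ded_39_1 (flp_i L781479) (flp_d L781376) L793763
theorem L793769 : sm gf N60329 = N59258 := ded_48_1 L782947 (flp_f L781372) L793763
theorem L793771 : sm gg N60329 = N59090 := ded_51_1 (flp_i L781400) (flp_g L781374) L793763
theorem L793773 : sm gc N59087 = N60330 := rfl
theorem L793775 : sm ga N60330 = N59088 := ded_11_1 (flp_c L781388) (flp_a L781380) L793773
theorem L793777 : sm gf N60330 = N59495 := ded_29_2 L784455 (flp_f L781384) L793773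
theorem L793779 : sm gg N60330 = N59182 := ded_30_2 L782327 (flp_g L781386) L793773
theorem L793781 : sm gd N60330 = N59171 := ded_27_2 L782238 L770605 (flp_c L769798) L781378 L793773
theorem L793783 : sm gh N59087 = N60331 := rfl
theorem L793785 : sm ga N60331 = N59089 := ded_17_1 (flp_h L781392) (flp_a L781380) L793783
theorem L793787 : sm gb N60331 = N59503 := ded_25_1 L784509 (flp_b L781382) L793783
theorem L793789 : sm gf N60331 = N59486 := ded_47_1 L784401 (flp_f L781384) L793783
theorem L793791 : sm gg N60331 = N59177 := ded_50_1 L782295 (flp_g L781386) L793783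
theorem L793793 : sm gd N60331 = N59100 := ded_38_1 (flp_h L781501) (flp_d L769929) (flp_h L769802) L781378 L793783
theorem L793795 : sm gh N59088 = N60332 := rfl
theorem L793797 : sm gc N60332 = N59089 := ded_32_1 (flp_h L781392) L781388 L793795
theorem L793799 : sm gg N60332 = N59277 := ded_50_1 L783073 (flp_g L781390) L793795
theorem L793801 : sm gd N59091 = N60333 := rfl
theorem L793803 : sm ga N60333 = N59092 := ded_12_1 (flp_d L781417) (flp_a L781406) L793801
theorem L793805 : sm gb N60333 = N59099 := ded_20_1 L781499 (flp_b L781408) L793801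
theorem L793807 : sm gg N60333 = N59095 := ded_36_2 (flp_d L781450) (flp_g L781412) L793801
theorem L793809 : sm gj N60333 = N59185 := ded_37_2 L782358 (flp_j L781414) L793801
theorem L793811 : sm gi N60333 = N60333 := ded_39_2 (flp_d L793801) L781416 L793801
theorem L793812 : sm gc N60333 = N59105 := ded_27_1 L781562 L770758 (flp_d L770738) (flp_c L781410) L793801
theorem L793814 : sm ge N60333 = N60333 := ded_34_2 (flp_d L793801) (flp_e L781404) L769842 L781404 L793801
theorem L793815 : sm gf N59104 = N60333 := ded_14_0 L793803 (flp_f L781429) (flp_a L781545)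
theorem L793817 : sm gf N59091 = N60334 := rfl
theorem L793819 : sm ga N60334 = N59093 := ded_14_1 (flp_f L781431) (flp_a L781406) L793817
theorem L793821 : sm gb N60334 = N59185 := ded_22_1 L782362 (flp_b L781408) L793817
theorem L793823 : sm gc N60334 = N59095 := ded_29_1 L781456 (flp_c L781410) L793817
theorem L793825 : sm gd N60334 = N59104 := ded_35_1 L793815 (flp_d L793801) L793817
theorem L793827 : sm gj N60334 = N59099 := ded_46_2 L781494 (flp_j L781414) L793817
theorem L793829 : sm gi N60334 = N60334 := ded_48_2 (flp_f L793817) L781416 L793817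
theorem L793830 : sm ge N60334 = N60334 := ded_40_1 (flp_f L793817) (flp_e L781404) L769843 L781404 L793817
theorem L793831 : sm gg N60334 = N59105 := ded_45_2 (flp_f L781556) L770016 (flp_f L769887) (flp_g L781412) L793817
theorem L793833 : sm gi N59094 = N60335 := rfl
theorem L793835 : sm ge N60335 = N60335 := ded_44_1 (flp_i L793833) L781447 L793833
theorem L793836 : sm gg N60335 = N59097 := ded_51_1 (flp_i L781471) (flp_g L781448) L793833
theorem L793838 : sm gh N60335 = N60335 := ded_54_1 (flp_i L793833) (flp_h L781445) L769866 L781445 L793833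
theorem L793839 : sm gh N59095 = N60336 := rfl
theorem L793841 : sm ga N60336 = N59096 := ded_17_1 (flp_h L781462) (flp_a L781452) L793839
theorem L793843 : sm gb N60336 = N59150 := ded_25_1 L782054 (flp_b L781454) L793839
theorem L793845 : sm ge N60336 = N60336 := ded_43_1 (flp_h L793839) L781461 L793839
theorem L793846 : sm gf N60336 = N59147 := ded_47_1 L782020 (flp_f L781456) L793839
theorem L793848 : sm gj N60336 = N59100 := ded_52_1 (flp_h L781501) (flp_j L781458) L793839
theorem L793850 : sm gh N59099 = N60337 := rfl
theorem L793852 : sm ga N60337 = N59101 := ded_17_1 (flp_h L781512) (flp_a L781491) L793850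
theorem L793854 : sm gc N60337 = N59100 := ded_32_1 (flp_h L781501) L781489 L793850
theorem L793856 : sm ge N60337 = N60337 := ded_43_1 (flp_h L793850) L781493 L793850
theorem L793857 : sm gf N60337 = N59165 := ded_47_1 L782190 (flp_f L781494) L793850
theorem L793859 : sm gg N60337 = N59150 := ded_50_1 L782054 (flp_g L781496) L793850
theorem L793861 : sm gd N59101 = N60338 := rfl
theorem L793863 : sm gf N60338 = N59250 := ded_35_2 L782884 (flp_f L781517) L793861
theorem L793865 : sm gg N60338 = N59229 := ded_36_2 L782729 (flp_g L781519) L793861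
theorem L793867 : sm ge N59103 = N60339 := rfl
theorem L793869 : sm ga N60339 = N59206 := ded_13_1 (flp_e L782551) (flp_a L781533) L793867
theorem L793871 : sm gb N60339 = N59226 := ded_21_1 (flp_e L782710) (flp_b L781535) L793867
theorem L793873 : sm gj N60339 = N59142 := ded_42_2 (flp_e L781967) (flp_j L781539) L793867
theorem L793875 : sm gh N60339 = N59129 := ded_43_2 (flp_e L781837) (flp_h L781541) L793867
theorem L793877 : sm gd N60339 = N60339 := ded_34_1 (flp_e L793867) L781537 L769996 (flp_d L781537) L793867
theorem L793878 : sm ga N59106 = N60340 := rfl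
theorem L793880 : sm gc N60340 = N59303 := ded_11_2 (flp_a L783244) (flp_c L781580) L793878
theorem L793882 : sm ge N60340 = N59111 := ded_13_2 (flp_a L781630) (flp_e L781570) L793878
theorem L793884 : sm gf N60340 = N59326 := ded_14_2 (flp_a L783396) (flp_f L781572) L793878
theorem L793886 : sm gj N60340 = N59110 := ded_16_2 (flp_a L781622) (flp_j L781574) L793878
theorem L793888 : sm gh N60340 = N59167 := ded_17_2 (flp_a L782206) (flp_h L781576) L793878
theorem L793890 : sm gi N60340 = N59107 := ded_18_2 (flp_a L781582) (flp_i L781578) L793878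
theorem L793892 : sm gb N60340 = N59114 := ded_10_2 (flp_a L781664) (flp_b L770128) (flp_a L770040) L781568 L793878
theorem L793894 : sm ga N59108 = N60341 := rfl
theorem L793896 : sm gc N60341 = N59110 := ded_11_2 (flp_a L781622) (flp_c L781606) L793894
theorem L793898 : sm ge N60341 = N59127 := ded_13_2 (flp_a L781813) (flp_e L781596) L793894
theorem L793900 : sm gf N60341 = N59296 := ded_14_2 (flp_a L783199) (flp_f L781598) L793894
theorem L793902 : sm gj N60341 = N59303 := ded_16_2 (flp_a L783244) (flp_j L781600) L793894
theorem L793904 : sm gh N60341 = N59140 := ded_17_2 (flp_a L781951) (flp_h L781602) L793894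
theorem L793906 : sm gi N60341 = N59304 := ded_18_2 (flp_a L783250) (flp_i L781604) L793894
theorem L793908 : sm gb N60341 = N59320 := ded_10_2 (flp_a L783349) (flp_b L771709) (flp_a L770064) L781594 L793894
theorem L793910 : sm ga N59109 = N60342 := rfl
theorem L793912 : sm gc N60342 = N59296 := ded_11_2 (flp_a L783199) (flp_c L781620) L793910
theorem L793914 : sm ge N60342 = N59320 := ded_13_2 (flp_a L783349) (flp_e L781610) L793910
theorem L793916 : sm gf N60342 = N59110 := ded_14_2 (flp_a L781622) (flp_f L781612) L793910
theorem L793918 : sm gj N60342 = N59326 := ded_16_2 (flp_a L783396) (flp_j L781614) L793910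
theorem L793920 : sm gh N60342 = N59183 := ded_17_2 (flp_a L782331) (flp_h L781616) L793910
theorem L793922 : sm gi N60342 = N59328 := ded_18_2 (flp_a L783408) (flp_i L781618) L793910
theorem L793924 : sm gb N60342 = N59127 := ded_10_2 (flp_a L781813) (flp_b L770230) (flp_a L770078) L781608 L793910
theorem L793926 : sm ga N59112 = N60343 := rfl
theorem L793928 : sm gc N60343 = N59345 := ded_11_2 (flp_a L783511) (flp_c L781652) L793926
theorem L793930 : sm ge N60343 = N59125 := ded_13_2 (flp_a L781799) (flp_e L781644) L793926
theorem L793932 : sm gg N60343 = N59114 := ded_15_2 (flp_a L781664) (flp_g L781646) L793926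
theorem L793934 : sm gh N60343 = N59232 := ded_17_2 (flp_a L782741) (flp_h L781648) L793926
theorem L793936 : sm gi N60343 = N59368 := ded_18_2 (flp_a L783637) (flp_i L781650) L793926
theorem L793938 : sm ga N59113 = N60344 := rfl
theorem L793940 : sm gd N60344 = N59114 := ded_12_2 (flp_a L781664) (flp_d L781656) L793938
theorem L793942 : sm gf N60344 = N59338 := ded_14_2 (flp_a L783467) (flp_f L781658) L793938
theorem L793944 : sm gj N60344 = N59125 := ded_16_2 (flp_a L781799) (flp_j L781660) L793938
theorem L793946 : sm gi N60344 = N59363 := ded_18_2 (flp_a L783611) (flp_i L781662) L793938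
theorem L793948 : sm gb N59115 = N60345 := rfl
theorem L793950 : sm gd N60345 = N59354 := ded_20_2 (flp_b L783561) (flp_d L781686) L793948
theorem L793952 : sm gf N60345 = N59117 := ded_22_2 (flp_b L781702) (flp_f L781678) L793948
theorem L793954 : sm gj N60345 = N59332 := ded_24_2 (flp_b L783432) (flp_j L781680) L793948
theorem L793956 : sm gh N60345 = N59382 := ded_25_2 (flp_b L783732) (flp_h L781682) L793948
theorem L793958 : sm gi N60345 = N59346 := ded_26_2 (flp_b L783517) (flp_i L781684) L793948
theorem L793960 : sm gc N60345 = N59123 := ded_19_2 (flp_b L781781) (flp_c L770200) (flp_b L770142) L781676 L793948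
theorem L793962 : sm ge N59115 = N60346 := rfl
theorem L793964 : sm gc N60346 = N59116 := ded_28_1 (flp_e L781688) L781676 L793962
theorem L793966 : sm gj N60346 = N59333 := ded_42_2 (flp_e L783438) (flp_j L781680) L793962
theorem L793968 : sm gh N60346 = N59383 := ded_43_2 (flp_e L783736) (flp_h L781682) L793962
theorem L793970 : sm gi N60346 = N59347 := ded_44_2 (flp_e L783523) (flp_i L781684) L793962
theorem L793972 : sm gf N60346 = N59344 := ded_40_2 (flp_e L783505) L771878 (flp_e L770154) (flp_f L781678) L793962
theorem L793974 : sm ga N59117 = N60347 := rfl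
theorem L793976 : sm gc N60347 = N59125 := ded_11_2 (flp_a L781799) (flp_c L781712) L793974
theorem L793978 : sm gd N60347 = N59355 := ded_12_2 (flp_a L783567) (flp_d L781704) L793974
theorem L793980 : sm ge N60347 = N59345 := ded_13_2 (flp_a L783511) (flp_e L781706) L793974
theorem L793982 : sm gg N60347 = N59304 := ded_15_2 (flp_a L783250) (flp_g L781708) L793974
theorem L793984 : sm gh N60347 = N59384 := ded_17_2 (flp_a L783742) (flp_h L781710) L793974
theorem L793986 : sm gb N59118 = N60348 := rfl
theorem L793988 : sm gd N60348 = N59270 := ded_20_2 (flp_b L783031) (flp_d L781726) L793986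
theorem L793990 : sm gf N60348 = N59120 := ded_22_2 (flp_b L781743) (flp_f L781718) L793986
theorem L793992 : sm gg N60348 = N59412 := ded_23_2 (flp_b L783930) (flp_g L781720) L793986
theorem L793994 : sm gj N60348 = N59336 := ded_24_2 (flp_b L783457) (flp_j L781722) L793986
theorem L793996 : sm gh N60348 = N59123 := ded_25_2 (flp_b L781781) (flp_h L781724) L793986
theorem L793998 : sm gc N60348 = N59382 := ded_19_2 (flp_b L783732) (flp_c L772116) (flp_b L770166) L781714 L793986
theorem L794000 : sm ge N59118 = N60349 := rfl
theorem L794002 : sm ga N60349 = N59475 := ded_13_1 (flp_e L784312) (flp_a L781716) L794000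
theorem L794004 : sm gc N60349 = N59119 := ded_28_1 (flp_e L781728) L781714 L794000
theorem L794006 : sm gg N60349 = N59413 := ded_41_2 (flp_e L783934) (flp_g L781720) L794000
theorem L794008 : sm gj N60349 = N59337 := ded_42_2 (flp_e L783461) (flp_j L781722) L794000
theorem L794010 : sm gh N60349 = N59124 := ded_43_2 (flp_e L781791) (flp_h L781724) L794000
theorem L794012 : sm gf N60349 = N59231 := ded_40_2 (flp_e L782737) L771148 (flp_e L770180) (flp_f L781718) L794000
theorem L794014 : sm ga N59120 = N60350 := rfl
theorem L794016 : sm gc N60350 = N59384 := ded_11_2 (flp_a L783742) (flp_c L781753) L794014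
theorem L794018 : sm gd N60350 = N59275 := ded_12_2 (flp_a L783059) (flp_d L781745) L794014
theorem L794020 : sm ge N60350 = N59232 := ded_13_2 (flp_a L782741) (flp_e L781747) L794014
theorem L794022 : sm gg N60350 = N59133 := ded_15_2 (flp_a L781887) (flp_g L781749) L794014
theorem L794024 : sm gh N60350 = N59125 := ded_17_2 (flp_a L781799) (flp_h L781751) L794014
theorem L794026 : sm gb N60350 = N59491 := ded_10_2 (flp_a L784435) (flp_b L772799) (flp_a L770178) L781743 L794014
theorem L794028 : sm gb N59121 = N60351 := rfl
theorem L794030 : sm gd N60351 = N59126 := ded_20_2 (flp_b L781803) (flp_d L781767) L794028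
theorem L794032 : sm gf N60351 = N59327 := ded_22_2 (flp_b L783402) (flp_f L781759) L794028
theorem L794034 : sm gg N60351 = N59123 := ded_23_2 (flp_b L781781) (flp_g L781761) L794028
theorem L794036 : sm gh N60351 = N59412 := ded_25_2 (flp_b L783930) (flp_h L781763) L794028
theorem L794038 : sm gi N60351 = N59341 := ded_26_2 (flp_b L783485) (flp_i L781765) L794028
theorem L794040 : sm ge N59121 = N60352 := rfl
theorem L794042 : sm ga N60352 = N59344 := ded_13_1 (flp_e L783505) (flp_a L781757) L794040
theorem L794044 : sm gc N60352 = N59122 := ded_28_1 (flp_e L781769) L781755 L794040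
theorem L794046 : sm gg N60352 = N59124 := ded_41_2 (flp_e L781791) (flp_g L781761) L794040
theorem L794048 : sm gh N60352 = N59413 := ded_43_2 (flp_e L783934) (flp_h L781763) L794040
theorem L794050 : sm gi N60352 = N59342 := ded_44_2 (flp_e L783491) (flp_i L781765) L794040
theorem L794052 : sm gd N60352 = N59333 := ded_34_1 (flp_e L783438) (flp_d L773202) L773190 (flp_d L781767) L794040
theorem L794054 : sm ga N59123 = N60353 := rfl
theorem L794056 : sm gd N60353 = N59127 := ded_12_2 (flp_a L781813) (flp_d L781783) L794054
theorem L794058 : sm gf N60353 = N59125 := ded_14_2 (flp_a L781799) (flp_f L781785) L794054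
theorem L794060 : sm gj N60353 = N59338 := ded_16_2 (flp_a L783467) (flp_j L781787) L794054
theorem L794062 : sm gi N60353 = N59348 := ded_18_2 (flp_a L783529) (flp_i L781789) L794054
theorem L794064 : sm ge N59123 = N60354 := rfl
theorem L794066 : sm gb N60354 = N59124 := ded_21_1 (flp_e L781791) L781781 L794064
theorem L794068 : sm gj N60354 = N59339 := ded_42_2 (flp_e L783473) (flp_j L781787) L794064
theorem L794070 : sm gi N60354 = N59349 := ded_44_2 (flp_e L783535) (flp_i L781789) L794064
theorem L794072 : sm ga N59126 = N60355 := rfl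
theorem L794074 : sm gc N60355 = N59368 := ded_11_2 (flp_a L783637) (flp_c L781811) L794072
theorem L794076 : sm gg N60355 = N59127 := ded_15_2 (flp_a L781813) (flp_g L781805) L794072
theorem L794078 : sm gh N60355 = N59287 := ded_17_2 (flp_a L783123) (flp_h L781807) L794072
theorem L794080 : sm gi N60355 = N59345 := ded_18_2 (flp_a L783511) (flp_i L781809) L794072
theorem L794082 : sm gb N59128 = N60356 := rfl
theorem L794084 : sm gd N60356 = N59130 := ded_20_2 (flp_b L781847) (flp_d L781835) L794082
theorem L794086 : sm gf N60356 = N59407 := ded_22_2 (flp_b L783900) (flp_f L781829) L794082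
theorem L794088 : sm gj N60356 = N59143 := ded_24_2 (flp_b L781974) (flp_j L781831) L794082
theorem L794090 : sm gi N60356 = N59162 := ded_26_2 (flp_b L782158) (flp_i L781833) L794082
theorem L794092 : sm ge N59128 = N60357 := rfl
theorem L794094 : sm ga N60357 = N59208 := ded_13_1 (flp_e L782568) (flp_a L781827) L794092
theorem L794096 : sm gc N60357 = N59129 := ded_28_1 (flp_e L781837) L781825 L794092
theorem L794098 : sm gj N60357 = N59144 := ded_42_2 (flp_e L781980) (flp_j L781831) L794092
theorem L794100 : sm gi N60357 = N59163 := ded_44_2 (flp_e L782164) (flp_i L781833) L794092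
theorem L794102 : sm gd N60357 = N59194 := ded_34_1 (flp_e L782441) L770885 (flp_e L770291) (flp_d L781835) L794092
theorem L794104 : sm ga N59130 = N60358 := rfl
theorem L794106 : sm gc N60358 = N59373 := ded_11_2 (flp_a L783670) (flp_c L781859) L794104
theorem L794108 : sm ge N60358 = N59195 := ded_13_2 (flp_a L782449) (flp_e L781849) L794104
theorem L794110 : sm gf N60358 = N59409 := ded_14_2 (flp_a L783910) (flp_f L781851) L794104
theorem L794112 : sm gj N60358 = N59145 := ded_16_2 (flp_a L781990) (flp_j L781853) L794104
theorem L794114 : sm gh N60358 = N59132 := ded_17_2 (flp_a L781875) (flp_h L781855) L794104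
theorem L794116 : sm gi N60358 = N59167 := ded_18_2 (flp_a L782206) (flp_i L781857) L794104
theorem L794118 : sm gb N60358 = N59209 := ded_10_2 (flp_a L782576) (flp_b L771004) (flp_a L770289) L781847 L794104
theorem L794120 : sm ga N59131 = N60359 := rfl
theorem L794122 : sm gc N60359 = N59375 := ded_11_2 (flp_a L783684) (flp_c L781873) L794120
theorem L794124 : sm ge N60359 = N59209 := ded_13_2 (flp_a L782576) (flp_e L781863) L794120
theorem L794126 : sm gf N60359 = N59410 := ded_14_2 (flp_a L783916) (flp_f L781865) L794120
theorem L794128 : sm gj N60359 = N59132 := ded_16_2 (flp_a L781875) (flp_j L781867) L794120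
theorem L794130 : sm gh N60359 = N59145 := ded_17_2 (flp_a L781990) (flp_h L781869) L794120
theorem L794132 : sm gi N60359 = N59133 := ded_18_2 (flp_a L781887) (flp_i L781871) L794120
theorem L794134 : sm gb N60359 = N59195 := ded_10_2 (flp_a L782449) (flp_b L770895) (flp_a L770303) L781861 L794120
theorem L794136 : sm gb N59134 = N60360 := rfl
theorem L794138 : sm gd N60360 = N59223 := ded_20_2 (flp_b L782682) (flp_d L781909) L794136
theorem L794140 : sm gf N60360 = N59417 := ded_22_2 (flp_b L783960) (flp_f L781903) L794136
theorem L794142 : sm gg N60360 = N59220 := ded_23_2 (flp_b L782660) (flp_g L781905) L794136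
theorem L794144 : sm gi N60360 = N59280 := ded_26_2 (flp_b L783087) (flp_i L781907) L794136
theorem L794146 : sm gc N60360 = N59492 := ded_19_2 (flp_b L784439) (flp_c L772809) (flp_b L770339) L781899 L794136
theorem L794148 : sm ga N59135 = N60361 := rfl
theorem L794150 : sm gc N60361 = N59137 := ded_11_2 (flp_a L781923) (flp_c L781917) L794148
theorem L794152 : sm gd N60361 = N59401 := ded_12_2 (flp_a L783870) (flp_d L781913) L794148
theorem L794154 : sm gf N60361 = N59419 := ded_14_2 (flp_a L783970) (flp_f L781915) L794148
theorem L794156 : sm ge N59135 = N60362 := rfl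
theorem L794158 : sm gb N60362 = N59136 := ded_21_1 (flp_e L781919) L781911 L794156
theorem L794160 : sm gc N60362 = N59138 := ded_28_1 (flp_e L781931) (flp_c L781917) L794156
theorem L794162 : sm ge N59137 = N60363 := rfl
theorem L794164 : sm ga N60363 = N59138 := ded_13_1 (flp_e L781931) L781923 L794162
theorem L794166 : sm gb N60363 = N59514 := ded_21_1 (flp_e L784571) (flp_b L781929) L794162
theorem L794168 : sm gd N60363 = N59284 := ded_34_1 (flp_e L783109) L771443 (flp_e L770377) (flp_d L781925) L794162
theorem L794170 : sm ga N59139 = N60364 := rfl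
theorem L794172 : sm gc N60364 = N59167 := ded_11_2 (flp_a L782206) (flp_c L781949) L794170
theorem L794174 : sm ge N60364 = N59251 := ded_13_2 (flp_a L782886) (flp_e L781939) L794170
theorem L794176 : sm gf N60364 = N59372 := ded_14_2 (flp_a L783662) (flp_f L781941) L794170
theorem L794178 : sm gj N60364 = N59140 := ded_16_2 (flp_a L781951) (flp_j L781943) L794170
theorem L794180 : sm gh N60364 = N59303 := ded_17_2 (flp_a L783244) (flp_h L781945) L794170
theorem L794182 : sm gi N60364 = N59373 := ded_18_2 (flp_a L783670) (flp_i L781947) L794170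
theorem L794184 : sm gb N60364 = N59395 := ded_10_2 (flp_a L783819) (flp_b L772183) (flp_a L770385) L781937 L794170
theorem L794186 : sm gb N59141 = N60365 := rfl
theorem L794188 : sm gh N60365 = N59143 := ded_25_2 (flp_b L781974) (flp_h L781965) L794186
theorem L794190 : sm ge N59141 = N60366 := rfl
theorem L794192 : sm ga N60366 = N59219 := ded_13_1 (flp_e L782654) (flp_a L781963) L794190
theorem L794194 : sm gc N60366 = N59142 := ded_28_1 (flp_e L781967) L781961 L794190
theorem L794196 : sm gh N60366 = N59144 := ded_43_2 (flp_e L781980) (flp_h L781965) L794190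
theorem L794198 : sm ga N59143 = N60367 := rfl
theorem L794200 : sm gd N60367 = N59145 := ded_12_2 (flp_a L781990) (flp_d L781976) L794198
theorem L794202 : sm gi N60367 = N59180 := ded_18_2 (flp_a L782311) (flp_i L781978) L794198
theorem L794204 : sm gb N60367 = N59221 := ded_10_2 (flp_a L782670) (flp_b L771083) (flp_a L770413) L781974 L794198
theorem L794206 : sm ge N59143 = N60368 := rfl
theorem L794208 : sm gb N60368 = N59144 := ded_21_1 (flp_e L781980) L781974 L794206
theorem L794210 : sm gi N60368 = N59181 := ded_44_2 (flp_e L782317) (flp_i L781978) L794206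
theorem L794212 : sm gd N60368 = N59468 := ded_34_1 (flp_e L784272) L772603 (flp_e L770429) (flp_d L781976) L794206
theorem L794214 : sm gc N59146 = N60369 := rfl
theorem L794216 : sm ga N60369 = N59424 := ded_11_1 (flp_c L784000) (flp_a L782000) L794214
theorem L794218 : sm gg N60369 = N59154 := ded_30_2 (flp_c L782076) (flp_g L782004) L794214
theorem L794220 : sm gj N60369 = N59489 := ded_31_2 L784425 (flp_j L782006) L794214
theorem L794222 : sm gh N60369 = N59422 := ded_32_2 (flp_c L783984) (flp_h L782008) L794214
theorem L794224 : sm ge N59146 = N60370 := rfl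
theorem L794226 : sm ga N60370 = N59425 := ded_13_1 (flp_e L784004) (flp_a L782000) L794224
theorem L794228 : sm gb N60370 = N59149 := ded_21_1 (flp_e L782034) (flp_b L782002) L794224
theorem L794230 : sm gg N60370 = N59155 := ded_41_2 (flp_e L782080) (flp_g L782004) L794224
theorem L794232 : sm gj N60370 = N59486 := ded_42_2 L784399 (flp_j L782006) L794224
theorem L794234 : sm gh N60370 = N59423 := ded_43_2 (flp_e L783990) (flp_h L782008) L794224
theorem L794236 : sm gd N60370 = N59147 := ded_34_1 (flp_e L782010) (flp_d L770445) (flp_e L770439) L781998 L794224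
theorem L794238 : sm gb N59148 = N60371 := rfl
theorem L794240 : sm gd N60371 = N59153 := ded_20_2 (flp_b L782070) (flp_d L782032) L794238
theorem L794242 : sm gg N60371 = N59162 := ded_23_2 (flp_b L782158) (flp_g L782026) L794238
theorem L794244 : sm gj N60371 = N59501 := ded_24_2 (flp_b L784491) (flp_j L782028) L794238
theorem L794246 : sm gh N60371 = N59510 := ded_25_2 (flp_b L784547) (flp_h L782030) L794238
theorem L794248 : sm ge N59148 = N60372 := rfl
theorem L794250 : sm ga N60372 = N59228 := ded_13_1 (flp_e L782719) (flp_a L782024) L794248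
theorem L794252 : sm gc N60372 = N59149 := ded_28_1 (flp_e L782034) L782022 L794248
theorem L794254 : sm gg N60372 = N59163 := ded_41_2 (flp_e L782164) (flp_g L782026) L794248
theorem L794256 : sm gj N60372 = N59502 := ded_42_2 (flp_e L784497) (flp_j L782028) L794248
theorem L794258 : sm gh N60372 = N59508 := ded_43_2 L784541 (flp_h L782030) L794248
theorem L794260 : sm gd N60372 = N59176 := ded_34_1 (flp_e L782279) L770637 (flp_e L770490) (flp_d L782032) L794248
theorem L794262 : sm gf N59149 = N60373 := rfl
theorem L794264 : sm ga N60373 = N59229 := ded_14_1 (flp_f L782727) (flp_a L782036) L794262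
theorem L794266 : sm gd N60373 = N59150 := ded_35_1 (flp_f L782046) (flp_d L782044) L794262
theorem L794268 : sm gj N60373 = N59503 := ded_46_2 (flp_f L784505) (flp_j L782040) L794262
theorem L794270 : sm gh N60373 = N59511 := ded_47_2 (flp_f L784553) (flp_h L782042) L794262
theorem L794272 : sm gb N59151 = N60374 := rfl
theorem L794274 : sm gf N60374 = N59153 := ded_22_2 (flp_b L782070) (flp_f L782061) L794272
theorem L794276 : sm ge N59151 = N60375 := rfl
theorem L794278 : sm ga N60375 = N59231 := ded_13_1 (flp_e L782737) (flp_a L782059) L794276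
theorem L794280 : sm gc N60375 = N59152 := ded_28_1 (flp_e L782063) L782057 L794276
theorem L794282 : sm gf N60375 = N59475 := ded_40_2 (flp_e L784312) L772674 (flp_e L770490) (flp_f L782061) L794276
theorem L794284 : sm ga N59153 = N60376 := rfl
theorem L794286 : sm ge N60376 = N59491 := ded_13_2 (flp_a L784435) (flp_e L782072) L794284
theorem L794288 : sm gg N60376 = N59167 := ded_15_2 (flp_a L782206) (flp_g L782074) L794284
theorem L794290 : sm gb N60376 = N59232 := ded_10_2 (flp_a L782741) (flp_b L771155) (flp_a L770488) L782070 L794284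
theorem L794292 : sm gb N59154 = N60377 := rfl
theorem L794294 : sm gj N60377 = N59170 := ded_24_2 (flp_b L782230) (flp_j L782078) L794292
theorem L794296 : sm gc N60377 = N59162 := ded_19_2 (flp_b L782158) (flp_c L770539) (flp_b L770496) L782076 L794292
theorem L794298 : sm ge N59154 = N60378 := rfl
theorem L794300 : sm gc N60378 = N59155 := ded_28_1 (flp_e L782080) L782076 L794298
theorem L794302 : sm gj N60378 = N59171 := ded_42_2 (flp_e L782236) (flp_j L782078) L794298
theorem L794304 : sm gf N59155 = N60379 := rfl
theorem L794306 : sm ga N60379 = N59428 := ded_14_1 (flp_f L788224) L788220 L794304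
theorem L794308 : sm gb N60379 = N59164 := ded_22_1 (flp_f L782174) (flp_b L782082) L794304
theorem L794310 : sm gd N60379 = N59156 := ded_35_1 (flp_f L782088) (flp_d L782086) L794304
theorem L794312 : sm gj N60379 = N59172 := ded_46_2 (flp_f L782242) (flp_j L782084) L794304
theorem L794314 : sm gc N59157 = N60380 := rfl
theorem L794316 : sm ga N60380 = N59238 := ded_11_1 (flp_c L782793) (flp_a L782104) L794314
theorem L794318 : sm gf N60380 = N59158 := ded_29_2 (flp_c L782112) (flp_f L782106) L794314
theorem L794320 : sm gj N60380 = N59173 := ded_31_2 (flp_c L782250) (flp_j L782108) L794314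
theorem L794322 : sm gh N60380 = N59160 := ded_32_2 (flp_c L782136) (flp_h L782110) L794314
theorem L794324 : sm gd N60380 = N59322 := ded_27_2 (flp_c L783363) (flp_d L771740) (flp_c L770512) L782102 L794314
theorem L794326 : sm ge N59157 = N60381 := rfl
theorem L794328 : sm ga N60381 = N59239 := ded_13_1 (flp_e L782803) (flp_a L782104) L794326
theorem L794330 : sm gj N60381 = N59174 := ded_42_2 (flp_e L782262) (flp_j L782108) L794326
theorem L794332 : sm gh N60381 = N59161 := ded_43_2 (flp_e L782148) (flp_h L782110) L794326
theorem L794334 : sm gd N60381 = N60381 := ded_34_1 (flp_e L794326) (flp_d L782102) L770514 L782102 L794326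
theorem L794335 : sm gb N59158 = N60382 := rfl
theorem L794337 : sm gd N60382 = N59490 := ded_20_2 (flp_b L784429) (flp_d L782122) L794335
theorem L794339 : sm gg N60382 = N59510 := ded_23_2 (flp_b L784547) (flp_g L782116) L794335
theorem L794341 : sm gj N60382 = N59175 := ded_24_2 (flp_b L782271) (flp_j L782118) L794335
theorem L794343 : sm gh N60382 = N59162 := ded_25_2 (flp_b L782158) (flp_h L782120) L794335
theorem L794345 : sm ge N59158 = N60383 := rfl
theorem L794347 : sm ga N60383 = N59243 := ded_13_1 (flp_e L782830) (flp_a L782114) L794345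
theorem L794349 : sm gc N60383 = N59159 := ded_28_1 (flp_e L782124) L782112 L794345
theorem L794351 : sm gg N60383 = N59508 := ded_41_2 L784541 (flp_g L782116) L794345
theorem L794353 : sm gj N60383 = N59176 := ded_42_2 (flp_e L782279) (flp_j L782118) L794345
theorem L794355 : sm gh N60383 = N59163 := ded_43_2 (flp_e L782164) (flp_h L782120) L794345
theorem L794357 : sm gd N60383 = N59502 := ded_34_1 (flp_e L784497) (flp_d L774862) L774854 (flp_d L782122) L794345
theorem L794359 : sm gf N59159 = N60384 := rfl
theorem L794361 : sm ga N60384 = N59244 := ded_14_1 (flp_f L782838) (flp_a L782126) L794359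
theorem L794363 : sm gd N60384 = N59184 := ded_35_1 (flp_f L782341) (flp_d L782134) L794359
theorem L794365 : sm gj N60384 = N59177 := ded_46_2 (flp_f L782289) (flp_j L782130) L794359
theorem L794367 : sm gh N60384 = N59164 := ded_47_2 (flp_f L782174) (flp_h L782132) L794359
theorem L794369 : sm gb N59160 = N60385 := rfl
theorem L794371 : sm gd N60385 = N59166 := ded_20_2 (flp_b L782192) (flp_d L782146) L794369
theorem L794373 : sm gf N60385 = N59162 := ded_22_2 (flp_b L782158) (flp_f L782140) L794369
theorem L794375 : sm gj N60385 = N59178 := ded_24_2 (flp_b L782297) (flp_j L782142) L794369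
theorem L794377 : sm gi N60385 = N59407 := ded_26_2 (flp_b L783900) (flp_i L782144) L794369
theorem L794379 : sm ge N59160 = N60386 := rfl
theorem L794381 : sm ga N60386 = N59246 := ded_13_1 (flp_e L782856) (flp_a L782138) L794379
theorem L794383 : sm gc N60386 = N59161 := ded_28_1 (flp_e L782148) L782136 L794379
theorem L794385 : sm gj N60386 = N59179 := ded_42_2 (flp_e L782303) (flp_j L782142) L794379
theorem L794387 : sm gi N60386 = N59408 := ded_44_2 (flp_e L783904) (flp_i L782144) L794379
theorem L794389 : sm gd N60386 = N59392 := ded_34_1 (flp_e L783799) L772163 (flp_e L770571) (flp_d L782146) L794379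
theorem L794391 : sm ga N59162 = N60387 := rfl
theorem L794393 : sm gd N60387 = N59167 := ded_12_2 (flp_a L782206) (flp_d L782160) L794391
theorem L794395 : sm gj N60387 = N59180 := ded_16_2 (flp_a L782311) (flp_j L782162) L794391
theorem L794397 : sm gb N60387 = N59247 := ded_10_2 (flp_a L782864) (flp_b L771242) (flp_a L770541) L782158 L794391
theorem L794399 : sm ge N59162 = N60388 := rfl
theorem L794401 : sm gb N60388 = N59163 := ded_21_1 (flp_e L782164) L782158 L794399
theorem L794403 : sm gj N60388 = N59181 := ded_42_2 (flp_e L782317) (flp_j L782162) L794399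
theorem L794405 : sm gd N60388 = N59484 := ded_34_1 (flp_e L784377) L772737 (flp_e L770583) (flp_d L782160) L794399
theorem L794407 : sm gf N59163 = N60389 := rfl
theorem L794409 : sm ga N60389 = N59249 := ded_14_1 (flp_f L782876) (flp_a L782166) L794407
theorem L794411 : sm gc N60389 = N59164 := ded_29_1 (flp_f L782174) (flp_c L782168) L794407
theorem L794413 : sm gd N60389 = N59485 := ded_35_1 (flp_f L784383) (flp_d L782172) L794407
theorem L794415 : sm gj N60389 = N59182 := ded_46_2 (flp_f L782323) (flp_j L782170) L794407
theorem L794417 : sm gg N59164 = N60390 := rfl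
theorem L794419 : sm ga N60390 = N59250 := ded_15_1 (flp_g L782882) (flp_a L782176) L794417
theorem L794421 : sm gd N60390 = N59165 := ded_36_1 (flp_g L782182) (flp_d L782178) L794417
theorem L794423 : sm ga N59166 = N60391 := rfl
theorem L794425 : sm gc N60391 = N59372 := ded_11_2 (flp_a L783662) (flp_c L782204) L794423
theorem L794427 : sm ge N60391 = N59395 := ded_13_2 (flp_a L783819) (flp_e L782194) L794423
theorem L794429 : sm gf N60391 = N59167 := ded_14_2 (flp_a L782206) (flp_f L782196) L794423
theorem L794431 : sm gj N60391 = N59183 := ded_16_2 (flp_a L782331) (flp_j L782198) L794423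
theorem L794433 : sm gh N60391 = N59326 := ded_17_2 (flp_a L783396) (flp_h L782200) L794423
theorem L794435 : sm gi N60391 = N59409 := ded_18_2 (flp_a L783910) (flp_i L782202) L794423
theorem L794437 : sm gb N60391 = N59251 := ded_10_2 (flp_a L782886) (flp_b L771266) (flp_a L770569) L782192 L794423
theorem L794439 : sm gb N59168 = N60392 := rfl
theorem L794441 : sm gg N60392 = N59479 := ded_23_2 (flp_b L784329) (flp_g L782216) L794439
theorem L794443 : sm gh N60392 = N59170 := ded_25_2 (flp_b L782230) (flp_h L782218) L794439
theorem L794445 : sm gc N60392 = N59175 := ded_19_2 (flp_b L782271) (flp_c L770629) (flp_b L770589) L782214 L794439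
theorem L794447 : sm ge N59168 = N60393 := rfl
theorem L794449 : sm gc N60393 = N59169 := ded_28_1 (flp_e L782220) L782214 L794447
theorem L794451 : sm gg N60393 = N59480 := ded_41_2 (flp_e L784339) (flp_g L782216) L794447
theorem L794453 : sm gh N60393 = N59171 := ded_43_2 (flp_e L782236) (flp_h L782218) L794447
theorem L794455 : sm gf N59169 = N60394 := rfl
theorem L794457 : sm gb N60394 = N59177 := ded_22_1 (flp_f L782289) (flp_b L782222) L794455
theorem L794459 : sm gd N60394 = N59187 := ded_35_1 (flp_f L782372) (flp_d L782228) L794455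
theorem L794461 : sm gh N60394 = N59172 := ded_47_2 (flp_f L782242) (flp_h L782226) L794455
theorem L794463 : sm gg N60394 = N59503 := ded_45_2 (flp_f L784505) L772857 (flp_f L772713) (flp_g L782224) L794455
theorem L794465 : sm ga N59170 = N60395 := rfl
theorem L794467 : sm gc N60395 = N59180 := ded_11_2 (flp_a L782311) (flp_c L782234) L794465
theorem L794469 : sm gg N60395 = N59516 := ded_15_2 L784583 (flp_g L782232) L794465
theorem L794471 : sm ge N59170 = N60396 := rfl
theorem L794473 : sm gb N60396 = N59171 := ded_21_1 (flp_e L782236) L782230 L794471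
theorem L794475 : sm gc N60396 = N59181 := ded_28_1 (flp_e L782317) (flp_c L782234) L794471
theorem L794477 : sm gg N60396 = N59515 := ded_41_2 L784579 (flp_g L782232) L794471
theorem L794479 : sm gf N59171 = N60397 := rfl
theorem L794481 : sm gc N60397 = N59172 := ded_29_1 (flp_f L782242) (flp_c L782238) L794479
theorem L794483 : sm gd N60397 = N59495 := ded_35_1 (flp_f L793777) L793781 L794479
theorem L794485 : sm gg N60397 = N59498 := ded_45_2 L784473 L772917 L772933 (flp_g L782240) L794479
theorem L794487 : sm gb N59173 = N60398 := rfl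
theorem L794489 : sm gd N60398 = N59474 := ded_20_2 (flp_b L784306) (flp_d L782260) L794487
theorem L794491 : sm gf N60398 = N59175 := ded_22_2 (flp_b L782271) (flp_f L782254) L794487
theorem L794493 : sm gg N60398 = N59471 := ded_23_2 (flp_b L784290) (flp_g L782256) L794487
theorem L794495 : sm gh N60398 = N59178 := ded_25_2 (flp_b L782297) (flp_h L782258) L794487
theorem L794497 : sm ge N59173 = N60399 := rfl
theorem L794499 : sm ga N60399 = N59271 := ded_13_1 (flp_e L783037) (flp_a L782252) L794497
theorem L794501 : sm gc N60399 = N59174 := ded_28_1 (flp_e L782262) L782250 L794497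
theorem L794503 : sm gg N60399 = N59472 := ded_41_2 (flp_e L784296) (flp_g L782256) L794497
theorem L794505 : sm gh N60399 = N59179 := ded_43_2 (flp_e L782303) (flp_h L782258) L794497
theorem L794507 : sm ga N59175 = N60400 := rfl
theorem L794509 : sm gd N60400 = N59491 := ded_12_2 (flp_a L784435) (flp_d L782273) L794507
theorem L794511 : sm gg N60400 = N59483 := ded_15_2 (flp_a L784369) (flp_g L782275) L794507
theorem L794513 : sm gh N60400 = N59180 := ded_17_2 (flp_a L782311) (flp_h L782277) L794507
theorem L794515 : sm gb N60400 = N59275 := ded_10_2 (flp_a L783059) (flp_b L771399) (flp_a L770631) L782271 L794507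
theorem L794517 : sm ge N59175 = N60401 := rfl
theorem L794519 : sm gb N60401 = N59176 := ded_21_1 (flp_e L782279) L782271 L794517
theorem L794521 : sm gg N60401 = N59484 := ded_41_2 (flp_e L784377) (flp_g L782275) L794517
theorem L794523 : sm gh N60401 = N59181 := ded_43_2 (flp_e L782317) (flp_h L782277) L794517
theorem L794525 : sm gf N59176 = N60402 := rfl
theorem L794527 : sm ga N60402 = N59277 := ded_14_1 (flp_f L783069) (flp_a L782281) L794525
theorem L794529 : sm gc N60402 = N59177 := ded_29_1 (flp_f L782289) (flp_c L782283) L794525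
theorem L794531 : sm gh N60402 = N59182 := ded_47_2 (flp_f L782323) (flp_h L782287) L794525
theorem L794533 : sm ga N59178 = N60403 := rfl
theorem L794535 : sm gd N60403 = N59183 := ded_12_2 (flp_a L782331) (flp_d L782299) L794533
theorem L794537 : sm gf N60403 = N59180 := ded_14_2 (flp_a L782311) (flp_f L782301) L794533
theorem L794539 : sm gb N60403 = N59282 := ded_10_2 (flp_a L783099) (flp_b L771431) (flp_a L770651) L782297 L794533
theorem L794541 : sm ge N59178 = N60404 := rfl
theorem L794543 : sm gb N60404 = N59179 := ded_21_1 (flp_e L782303) L782297 L794541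
theorem L794545 : sm gd N60404 = N59406 := ded_34_1 (flp_e L783896) L772252 (flp_e L770683) (flp_d L782299) L794541
theorem L794547 : sm ge N59180 = N60405 := rfl
theorem L794549 : sm ga N60405 = N59181 := ded_13_1 (flp_e L782317) L782311 L794547
theorem L794551 : sm gb N60405 = N59284 := ded_21_1 (flp_e L783109) (flp_b L782315) L794547
theorem L794553 : sm gd N60405 = N59514 := ded_34_1 (flp_e L784571) L772925 (flp_e L770691) (flp_d L782313) L794547
theorem L794555 : sm gf N59181 = N60406 := rfl
theorem L794557 : sm gb N60406 = N59182 := ded_22_1 (flp_f L782323) (flp_b L782319) L794555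
theorem L794559 : sm gd N60406 = N59515 := ded_35_1 (flp_f L784575) (flp_d L782321) L794555
theorem L794561 : sm gg N59184 = N60407 := rfl
theorem L794563 : sm ga N60407 = N59290 := ded_15_1 (flp_g L783148) (flp_a L782343) L794561
theorem L794565 : sm gc N60407 = N59187 := ded_30_1 L782379 (flp_c L782345) L794561
theorem L794567 : sm ge N60407 = N60407 := ded_41_1 (flp_g L794561) L782351 L794561
theorem L794568 : sm gh N60407 = N59185 := ded_50_2 (flp_g L782352) (flp_h L782349) L794561
theorem L794570 : sm gf N60407 = N59186 := ded_45_1 L782368 L772963 (flp_g L770771) L782341 L794561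
theorem L794572 : sm gd N59186 = N60408 := rfl
theorem L794574 : sm gg N60408 = N59511 := ded_36_2 L784555 (flp_g L782368) L794572
theorem L794576 : sm gb N59188 = N60409 := rfl
theorem L794578 : sm gd N60409 = N59426 := ded_20_2 (flp_b L784012) (flp_d L782389) L794576
theorem L794580 : sm gf N60409 = N59441 := ded_22_2 (flp_b L784093) (flp_f L782383) L794576
theorem L794582 : sm gj N60409 = N59450 := ded_24_2 (flp_b L784148) (flp_j L782385) L794576
theorem L794584 : sm gi N60409 = N59479 := ded_26_2 (flp_b L784329) (flp_i L782387) L794576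
theorem L794586 : sm gc N60409 = N59193 := ded_19_2 (flp_b L782431) (flp_c L770877) (flp_b L770839) L782381 L794576
theorem L794588 : sm ge N59188 = N60410 := rfl
theorem L794590 : sm gc N60410 = N59189 := ded_28_1 (flp_e L782391) L782381 L794588
theorem L794592 : sm gj N60410 = N59451 := ded_42_2 (flp_e L784156) (flp_j L782385) L794588
theorem L794594 : sm gi N60410 = N59480 := ded_44_2 (flp_e L784339) (flp_i L782387) L794588
theorem L794596 : sm gf N60410 = N59505 := ded_40_2 (flp_e L784517) L772865 (flp_e L772471) (flp_f L782383) L794588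
theorem L794598 : sm gd N59190 = N60411 := rfl
theorem L794600 : sm gf N60411 = N59463 := ded_35_2 L784240 (flp_f L782412) L794598
theorem L794602 : sm gj N60411 = N59466 := ded_37_2 L784260 (flp_j L782407) L794598
theorem L794604 : sm gi N60411 = N59511 := ded_39_2 L784555 (flp_i L782410) L794598
theorem L794606 : sm ge N60411 = N59428 := ded_34_2 (flp_d L784020) (flp_e L772404) (flp_d L770856) L782403 L794598
theorem L794608 : sm gb N59191 = N60412 := rfl
theorem L794610 : sm gd N60412 = N59218 := ded_20_2 (flp_b L782650) (flp_d L782422) L794608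
theorem L794612 : sm gf N60412 = N59442 := ded_22_2 (flp_b L784103) (flp_f L782416) L794608
theorem L794614 : sm gj N60412 = N59458 := ded_24_2 (flp_b L784204) (flp_j L782418) L794608
theorem L794616 : sm gh N60412 = N59193 := ded_25_2 (flp_b L782431) (flp_h L782420) L794608
theorem L794618 : sm ge N59191 = N60413 := rfl
theorem L794620 : sm gc N60413 = N59192 := ded_28_1 (flp_e L782424) L782414 L794618
theorem L794622 : sm gj N60413 = N59459 := ded_42_2 (flp_e L784210) (flp_j L782418) L794618
theorem L794624 : sm gh N60413 = N59194 := ded_43_2 (flp_e L782441) (flp_h L782420) L794618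
theorem L794626 : sm ga N59193 = N60414 := rfl
theorem L794628 : sm gd N60414 = N59195 := ded_12_2 (flp_a L782449) (flp_d L782433) L794626
theorem L794630 : sm gf N60414 = N59443 := ded_14_2 (flp_a L784109) (flp_f L782435) L794626
theorem L794632 : sm gj N60414 = N59467 := ded_16_2 (flp_a L784264) (flp_j L782437) L794626
theorem L794634 : sm gi N60414 = N59483 := ded_18_2 (flp_a L784369) (flp_i L782439) L794626
theorem L794636 : sm ge N59193 = N60415 := rfl
theorem L794638 : sm gb N60415 = N59194 := ded_21_1 (flp_e L782441) L782431 L794636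
theorem L794640 : sm gj N60415 = N59468 := ded_42_2 (flp_e L784272) (flp_j L782437) L794636
theorem L794642 : sm gi N60415 = N59484 := ded_44_2 (flp_e L784377) (flp_i L782439) L794636
theorem L794644 : sm gc N59196 = N60416 := rfl
theorem L794646 : sm gg N60416 = N59205 := ded_30_2 (flp_c L782541) (flp_g L782463) L794644
theorem L794648 : sm gh N60416 = N59197 := ded_32_2 (flp_c L782467) (flp_h L782465) L794644
theorem L794650 : sm gd N60416 = N59454 := ded_27_2 (flp_c L784176) (flp_d L772544) (flp_c L770909) L782461 L794644
theorem L794652 : sm ge N59196 = N60417 := rfl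
theorem L794654 : sm gg N60417 = N59206 := ded_41_2 (flp_e L782551) (flp_g L782463) L794652
theorem L794656 : sm gh N60417 = N59198 := ded_43_2 (flp_e L782475) (flp_h L782465) L794652
theorem L794658 : sm gd N60417 = N60417 := ded_34_1 (flp_e L794652) (flp_d L782461) L770911 L782461 L794652
theorem L794659 : sm gb N59197 = N60418 := rfl
theorem L794661 : sm gd N60418 = N59200 := ded_20_2 (flp_b L782491) (flp_d L782473) L794659
theorem L794663 : sm gg N60418 = N59207 := ded_23_2 (flp_b L782558) (flp_g L782469) L794659
theorem L794665 : sm gi N60418 = N59227 := ded_26_2 (flp_b L782713) (flp_i L782471) L794659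
theorem L794667 : sm ge N59197 = N60419 := rfl
theorem L794669 : sm gc N60419 = N59198 := ded_28_1 (flp_e L782475) L782467 L794667
theorem L794671 : sm gg N60419 = N59208 := ded_41_2 (flp_e L782568) (flp_g L782469) L794667
theorem L794673 : sm gi N60419 = N59228 := ded_44_2 (flp_e L782719) (flp_i L782471) L794667
theorem L794675 : sm gd N60419 = N59273 := ded_34_1 (flp_e L783047) (flp_d L774738) L774730 (flp_d L782473) L794667
theorem L794677 : sm gf N59198 = N60420 := rfl
theorem L794679 : sm gd N60420 = N59199 := ded_35_1 (flp_f L782483) (flp_d L782481) L794677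
theorem L794681 : sm gi N60420 = N59229 := ded_48_2 (flp_f L782727) (flp_i L782479) L794677
theorem L794683 : sm ga N59200 = N60421 := rfl
theorem L794685 : sm gc N60421 = N59440 := ded_11_2 (flp_a L784087) (flp_c L782499) L794683
theorem L794687 : sm gg N60421 = N59209 := ded_15_2 (flp_a L782576) (flp_g L782493) L794683
theorem L794689 : sm gh N60421 = N59470 := ded_17_2 (flp_a L784284) (flp_h L782495) L794683
theorem L794691 : sm gi N60421 = N59232 := ded_18_2 (flp_a L782741) (flp_i L782497) L794683
theorem L794693 : sm gc N59201 = N60422 := rfl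
theorem L794695 : sm gf N60422 = N59424 := ded_29_2 (flp_c L784000) (flp_f L782505) L794693
theorem L794697 : sm gj N60422 = N59210 := ded_31_2 (flp_c L782588) (flp_j L782507) L794693
theorem L794699 : sm gh N60422 = N59202 := ded_32_2 (flp_c L782511) (flp_h L782509) L794693
theorem L794701 : sm ge N59201 = N60423 := rfl
theorem L794703 : sm gb N60423 = N59206 := ded_21_1 (flp_e L782551) (flp_b L782503) L794701
theorem L794705 : sm gj N60423 = N59211 := ded_42_2 (flp_e L782592) (flp_j L782507) L794701
theorem L794707 : sm gh N60423 = N59203 := ded_43_2 (flp_e L782521) (flp_h L782509) L794701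
theorem L794709 : sm gd N60423 = N60423 := ded_34_1 (flp_e L794701) (flp_d L782501) L770941 L782501 L794701
theorem L794710 : sm gb N59202 = N60424 := rfl
theorem L794712 : sm gd N60424 = N59441 := ded_20_2 (flp_b L784093) (flp_d L782519) L794710
theorem L794714 : sm gf N60424 = N59426 := ded_22_2 (flp_b L784012) (flp_f L782513) L794710
theorem L794716 : sm gj N60424 = N59213 := ded_24_2 (flp_b L782613) (flp_j L782515) L794710
theorem L794718 : sm gi N60424 = N59235 := ded_26_2 (flp_b L782767) (flp_i L782517) L794710
theorem L794720 : sm gc N60424 = N59207 := ded_19_2 (flp_b L782558) (flp_c L770986) (flp_b L770948) L782511 L794710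
theorem L794722 : sm ge N59202 = N60425 := rfl
theorem L794724 : sm gc N60425 = N59203 := ded_28_1 (flp_e L782521) L782511 L794722
theorem L794726 : sm gj N60425 = N59214 := ded_42_2 (flp_e L782621) (flp_j L782515) L794722
theorem L794728 : sm gi N60425 = N59236 := ded_44_2 (flp_e L782775) (flp_i L782517) L794722
theorem L794730 : sm gd N60425 = N59359 := ded_34_1 (flp_e L783587) L771966 (flp_e L772471) (flp_d L782519) L794722
theorem L794732 : sm gc N59204 = N60426 := rfl
theorem L794734 : sm gf N60426 = N59429 := ded_29_2 (flp_c L784022) (flp_f L782533) L794732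
theorem L794736 : sm gj N60426 = N59216 := ded_31_2 (flp_c L782637) (flp_j L782535) L794732
theorem L794738 : sm gh N60426 = N59240 := ded_32_2 (flp_c L782810) (flp_h L782539) L794732
theorem L794740 : sm gi N60426 = N59205 := ded_33_2 (flp_c L782541) (flp_i L782537) L794732
theorem L794742 : sm gd N60426 = N59456 := ded_27_2 (flp_c L784189) (flp_d L772550) (flp_c L770969) L782531 L794732
theorem L794744 : sm ge N59204 = N60427 := rfl
theorem L794746 : sm gj N60427 = N59217 := ded_42_2 (flp_e L782643) (flp_j L782535) L794744
theorem L794748 : sm gh N60427 = N59241 := ded_43_2 (flp_e L782816) (flp_h L782539) L794744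
theorem L794750 : sm gi N60427 = N59206 := ded_44_2 (flp_e L782551) (flp_i L782537) L794744
theorem L794752 : sm gd N60427 = N60427 := ded_34_1 (flp_e L794744) (flp_d L782531) L770971 L782531 L794744
theorem L794753 : sm gb N59205 = N60428 := rfl
theorem L794755 : sm gd N60428 = N59458 := ded_20_2 (flp_b L784204) (flp_d L782549) L794753
theorem L794757 : sm gf N60428 = N59431 := ded_22_2 (flp_b L784034) (flp_f L782543) L794753
theorem L794759 : sm gj N60428 = N59218 := ded_24_2 (flp_b L782650) (flp_j L782545) L794753
theorem L794761 : sm gh N60428 = N59207 := ded_25_2 (flp_b L782558) (flp_h L782547) L794753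
theorem L794763 : sm ge N59205 = N60429 := rfl
theorem L794765 : sm gc N60429 = N59206 := ded_28_1 (flp_e L782551) L782541 L794763
theorem L794767 : sm gj N60429 = N59219 := ded_42_2 (flp_e L782654) (flp_j L782545) L794763
theorem L794769 : sm gh N60429 = N59208 := ded_43_2 (flp_e L782568) (flp_h L782547) L794763
theorem L794771 : sm ga N59207 = N60430 := rfl
theorem L794773 : sm gd N60430 = N59209 := ded_12_2 (flp_a L782576) (flp_d L782560) L794771
theorem L794775 : sm gf N60430 = N59433 := ded_14_2 (flp_a L784046) (flp_f L782562) L794771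
theorem L794777 : sm gj N60430 = N59221 := ded_16_2 (flp_a L782670) (flp_j L782564) L794771
theorem L794779 : sm gi N60430 = N59247 := ded_18_2 (flp_a L782864) (flp_i L782566) L794771
theorem L794781 : sm ge N59207 = N60431 := rfl
theorem L794783 : sm gb N60431 = N59208 := ded_21_1 (flp_e L782568) L782558 L794781
theorem L794785 : sm gj N60431 = N59222 := ded_42_2 (flp_e L782676) (flp_j L782564) L794781
theorem L794787 : sm gi N60431 = N59248 := ded_44_2 (flp_e L782870) (flp_i L782566) L794781
theorem L794789 : sm gb N59210 = N60432 := rfl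
theorem L794791 : sm gh N60432 = N59213 := ded_25_2 (flp_b L782613) (flp_h L782590) L794789
theorem L794793 : sm gc N60432 = N59218 := ded_19_2 (flp_b L782650) (flp_c L771064) (flp_b L771018) L782588 L794789
theorem L794795 : sm ge N59210 = N60433 := rfl
theorem L794797 : sm gc N60433 = N59211 := ded_28_1 (flp_e L782592) L782588 L794795
theorem L794799 : sm gh N60433 = N59214 := ded_43_2 (flp_e L782621) (flp_h L782590) L794795
theorem L794801 : sm gb N59212 = N60434 := rfl
theorem L794803 : sm gd N60434 = N59450 := ded_20_2 (flp_b L784148) (flp_d L782611) L794801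
theorem L794805 : sm gf N60434 = N59213 := ded_22_2 (flp_b L782613) (flp_f L782603) L794801
theorem L794807 : sm gg N60434 = N59492 := ded_23_2 (flp_b L784439) (flp_g L782605) L794801
theorem L794809 : sm gj N60434 = N59426 := ded_24_2 (flp_b L784012) (flp_j L782607) L794801
theorem L794811 : sm gi N60434 = N59262 := ded_26_2 (flp_b L782975) (flp_i L782609) L794801
theorem L794813 : sm gc N60434 = N59220 := ded_19_2 (flp_b L782660) (flp_c L771073) (flp_b L771026) L782599 L794801
theorem L794815 : sm ga N59213 = N60435 := rfl
theorem L794817 : sm gc N60435 = N59221 := ded_11_2 (flp_a L782670) (flp_c L782619) L794815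
theorem L794819 : sm gd N60435 = N59452 := ded_12_2 (flp_a L784162) (flp_d L782615) L794815
theorem L794821 : sm gi N60435 = N59264 := ded_18_2 (flp_a L782987) (flp_i L782617) L794815
theorem L794823 : sm ge N59213 = N60436 := rfl
theorem L794825 : sm gb N60436 = N59214 := ded_21_1 (flp_e L782621) L782613 L794823
theorem L794827 : sm gc N60436 = N59222 := ded_28_1 (flp_e L782676) (flp_c L782619) L794823
theorem L794829 : sm gi N60436 = N59265 := ded_44_2 (flp_e L782993) (flp_i L782617) L794823
theorem L794831 : sm gb N59215 = N60437 := rfl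
theorem L794833 : sm gd N60437 = N59442 := ded_20_2 (flp_b L784103) (flp_d L782635) L794831
theorem L794835 : sm gf N60437 = N59218 := ded_22_2 (flp_b L782650) (flp_f L782629) L794831
theorem L794837 : sm gj N60437 = N59431 := ded_24_2 (flp_b L784034) (flp_j L782631) L794831
theorem L794839 : sm gh N60437 = N59220 := ded_25_2 (flp_b L782660) (flp_h L782633) L794831
theorem L794841 : sm gb N59216 = N60438 := rfl
theorem L794843 : sm gh N60438 = N59272 := ded_25_2 (flp_b L783043) (flp_h L782639) L794841
theorem L794845 : sm gi N60438 = N59218 := ded_26_2 (flp_b L782650) (flp_i L782641) L794841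
theorem L794847 : sm ge N59216 = N60439 := rfl
theorem L794849 : sm gc N60439 = N59217 := ded_28_1 (flp_e L782643) L782637 L794847
theorem L794851 : sm gh N60439 = N59273 := ded_43_2 (flp_e L783047) (flp_h L782639) L794847
theorem L794853 : sm gi N60439 = N59219 := ded_44_2 (flp_e L782654) (flp_i L782641) L794847
theorem L794855 : sm ga N59218 = N60440 := rfl
theorem L794857 : sm gh N60440 = N59221 := ded_17_2 (flp_a L782670) (flp_h L782652) L794855
theorem L794859 : sm ge N59218 = N60441 := rfl
theorem L794861 : sm gb N60441 = N59219 := ded_21_1 (flp_e L782654) L782650 L794859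
theorem L794863 : sm gh N60441 = N59222 := ded_43_2 (flp_e L782676) (flp_h L782652) L794859
theorem L794865 : sm gd N59219 = N60442 := rfl
theorem L794867 : sm gc N60442 = N60442 := ded_27_1 (flp_d L794865) L782656 L771072 (flp_c L782656) L794865
theorem L794868 : sm ga N59220 = N60443 := rfl
theorem L794870 : sm gd N60443 = N59224 := ded_12_2 (flp_a L782692) (flp_d L782662) L794868
theorem L794872 : sm gf N60443 = N59221 := ded_14_2 (flp_a L782670) (flp_f L782664) L794868
theorem L794874 : sm gj N60443 = N59433 := ded_16_2 (flp_a L784046) (flp_j L782666) L794868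
theorem L794876 : sm gi N60443 = N59282 := ded_18_2 (flp_a L783099) (flp_i L782668) L794868
theorem L794878 : sm ge N59221 = N60444 := rfl
theorem L794880 : sm ga N60444 = N59222 := ded_13_1 (flp_e L782676) L782670 L794878
theorem L794882 : sm gi N60444 = N59284 := ded_44_2 (flp_e L783109) (flp_i L782674) L794878
theorem L794884 : sm ga N59223 = N60445 := rfl
theorem L794886 : sm gc N60445 = N59470 := ded_11_2 (flp_a L784284) (flp_c L782690) L794884
theorem L794888 : sm gg N60445 = N59224 := ded_15_2 (flp_a L782692) (flp_g L782684) L794884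
theorem L794890 : sm gh N60445 = N59440 := ded_17_2 (flp_a L784087) (flp_h L782686) L794884
theorem L794892 : sm gi N60445 = N59287 := ded_18_2 (flp_a L783123) (flp_i L782688) L794884
theorem L794894 : sm gb N60445 = N59401 := ded_10_2 (flp_a L783870) (flp_b L772231) (flp_a L771097) L782682 L794884
theorem L794896 : sm gb N59225 = N60446 := rfl
theorem L794898 : sm gd N60446 = N59230 := ded_20_2 (flp_b L782731) (flp_d L782708) L794896
theorem L794900 : sm gf N60446 = N59227 := ded_22_2 (flp_b L782713) (flp_f L782706) L794896
theorem L794902 : sm ge N59225 = N60447 := rfl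
theorem L794904 : sm gc N60447 = N59226 := ded_28_1 (flp_e L782710) L782704 L794902
theorem L794906 : sm gf N59226 = N60448 := rfl
theorem L794908 : sm gd N60448 = N60448 := ded_35_1 (flp_f L794906) L782712 L794906
theorem L794909 : sm ge N60448 = N59229 := ded_40_1 (flp_f L782727) (flp_e L771133) (flp_f L771125) L782710 L794906
theorem L794911 : sm ga N59227 = N60449 := rfl
theorem L794913 : sm gd N60449 = N59232 := ded_12_2 (flp_a L782741) (flp_d L782715) L794911
theorem L794915 : sm gg N60449 = N59247 := ded_15_2 (flp_a L782864) (flp_g L782717) L794911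
theorem L794917 : sm ge N59227 = N60450 := rfl
theorem L794919 : sm gb N60450 = N59228 := ded_21_1 (flp_e L782719) L782713 L794917
theorem L794921 : sm gg N60450 = N59248 := ded_41_2 (flp_e L782870) (flp_g L782717) L794917
theorem L794923 : sm gd N60450 = N59276 := ded_34_1 (flp_e L783063) (flp_d L781745) L781747 (flp_d L782715) L794917
theorem L794925 : sm gf N59228 = N60451 := rfl
theorem L794927 : sm gc N60451 = N59229 := ded_29_1 (flp_f L782727) (flp_c L782721) L794925
theorem L794929 : sm gd N60451 = N59277 := ded_35_1 (flp_f L783069) (flp_d L782725) L794925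
theorem L794931 : sm ga N59230 = N60452 := rfl
theorem L794933 : sm gc N60452 = N59476 := ded_11_2 (flp_a L784318) (flp_c L782735) L794931
theorem L794935 : sm gf N60452 = N59232 := ded_14_2 (flp_a L782741) (flp_f L782733) L794931
theorem L794937 : sm ge N59230 = N60453 := rfl
theorem L794939 : sm gb N60453 = N59231 := ded_21_1 (flp_e L782737) L782731 L794937
theorem L794941 : sm gc N60453 = N59477 := ded_28_1 (flp_e L784322) (flp_c L782735) L794937
theorem L794943 : sm gd N59231 = N60454 := rfl
theorem L794945 : sm gc N60454 = N60454 := ded_27_1 (flp_d L794943) L782739 L771154 (flp_c L782739) L794943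
theorem L794946 : sm gb N59233 = N60455 := rfl
theorem L794948 : sm gd N60455 = N59479 := ded_20_2 (flp_b L784329) (flp_d L782755) L794946
theorem L794950 : sm gf N60455 = N59235 := ded_22_2 (flp_b L782767) (flp_f L782749) L794946
theorem L794952 : sm gj N60455 = N59262 := ded_24_2 (flp_b L782975) (flp_j L782751) L794946
theorem L794954 : sm gi N60455 = N59426 := ded_26_2 (flp_b L784012) (flp_i L782753) L794946
theorem L794956 : sm gc N60455 = N59245 := ded_19_2 (flp_b L782846) (flp_c L771224) (flp_b L771163) L782747 L794946
theorem L794958 : sm ge N59233 = N60456 := rfl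
theorem L794960 : sm gc N60456 = N59234 := ded_28_1 (flp_e L782757) L782747 L794958
theorem L794962 : sm gj N60456 = N59263 := ded_42_2 (flp_e L782983) (flp_j L782751) L794958
theorem L794964 : sm gi N60456 = N59427 := ded_44_2 (flp_e L784016) (flp_i L782753) L794958
theorem L794966 : sm ga N59235 = N60457 := rfl
theorem L794968 : sm gc N60457 = N59247 := ded_11_2 (flp_a L782864) (flp_c L782773) L794966
theorem L794970 : sm gd N60457 = N59481 := ded_12_2 (flp_a L784349) (flp_d L782769) L794966
theorem L794972 : sm gj N60457 = N59264 := ded_16_2 (flp_a L782987) (flp_j L782771) L794966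
theorem L794974 : sm ge N59235 = N60458 := rfl
theorem L794976 : sm gb N60458 = N59236 := ded_21_1 (flp_e L782775) L782767 L794974
theorem L794978 : sm gc N60458 = N59248 := ded_28_1 (flp_e L782870) (flp_c L782773) L794974
theorem L794980 : sm gj N60458 = N59265 := ded_42_2 (flp_e L782993) (flp_j L782771) L794974
theorem L794982 : sm gd N60458 = N59361 := ded_34_1 (flp_e L783599) L771976 (flp_e L772717) (flp_d L782769) L794974
theorem L794984 : sm gc N59237 = N60459 := rfl
theorem L794986 : sm gf N60459 = N59240 := ded_29_2 (flp_c L782810) (flp_f L782785) L794984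
theorem L794988 : sm gj N60459 = N59268 := ded_31_2 (flp_c L783020) (flp_j L782787) L794984
theorem L794990 : sm gh N60459 = N59429 := ded_32_2 (flp_c L784022) (flp_h L782791) L794984
theorem L794992 : sm gi N60459 = N59238 := ded_33_2 (flp_c L782793) (flp_i L782789) L794984
theorem L794994 : sm gd N60459 = N59334 := ded_27_2 (flp_c L783444) (flp_d L771827) (flp_c L771187) L782783 L794984
theorem L794996 : sm ge N59237 = N60460 := rfl
theorem L794998 : sm gj N60460 = N59269 := ded_42_2 (flp_e L783026) (flp_j L782787) L794996
theorem L795000 : sm gh N60460 = N59430 := ded_43_2 (flp_e L784028) (flp_h L782791) L794996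
theorem L795002 : sm gi N60460 = N59239 := ded_44_2 (flp_e L782803) (flp_i L782789) L794996
theorem L795004 : sm gd N60460 = N60460 := ded_34_1 (flp_e L794996) (flp_d L782783) L771189 L782783 L794996
theorem L795005 : sm gb N59238 = N60461 := rfl
theorem L795007 : sm gd N60461 = N59336 := ded_20_2 (flp_b L783457) (flp_d L782801) L795005
theorem L795009 : sm gf N60461 = N59242 := ded_22_2 (flp_b L782824) (flp_f L782795) L795005
theorem L795011 : sm gj N60461 = N59270 := ded_24_2 (flp_b L783031) (flp_j L782797) L795005
theorem L795013 : sm gh N60461 = N59245 := ded_25_2 (flp_b L782846) (flp_h L782799) L795005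
theorem L795015 : sm ge N59238 = N60462 := rfl
theorem L795017 : sm gc N60462 = N59239 := ded_28_1 (flp_e L782803) L782793 L795015
theorem L795019 : sm gj N60462 = N59271 := ded_42_2 (flp_e L783037) (flp_j L782797) L795015
theorem L795021 : sm gh N60462 = N59246 := ded_43_2 (flp_e L782856) (flp_h L782799) L795015
theorem L795023 : sm gb N59240 = N60463 := rfl
theorem L795025 : sm gj N60463 = N59272 := ded_24_2 (flp_b L783043) (flp_j L782812) L795023
theorem L795027 : sm gi N60463 = N59242 := ded_26_2 (flp_b L782824) (flp_i L782814) L795023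
theorem L795029 : sm ge N59240 = N60464 := rfl
theorem L795031 : sm gc N60464 = N59241 := ded_28_1 (flp_e L782816) L782810 L795029
theorem L795033 : sm gj N60464 = N59273 := ded_42_2 (flp_e L783047) (flp_j L782812) L795029
theorem L795035 : sm gi N60464 = N59243 := ded_44_2 (flp_e L782830) (flp_i L782814) L795029
theorem L795037 : sm gf N59241 = N60465 := rfl
theorem L795039 : sm gd N60465 = N59289 := ded_35_1 (flp_f L783140) (flp_d L782822) L795037
theorem L795041 : sm gj N60465 = N59274 := ded_46_2 (flp_f L783053) (flp_j L782818) L795037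
theorem L795043 : sm gi N60465 = N59244 := ded_48_2 (flp_f L782838) (flp_i L782820) L795037
theorem L795045 : sm ga N59242 = N60466 := rfl
theorem L795047 : sm gj N60466 = N59275 := ded_16_2 (flp_a L783059) (flp_j L782826) L795045
theorem L795049 : sm gh N60466 = N59247 := ded_17_2 (flp_a L782864) (flp_h L782828) L795045
theorem L795051 : sm ge N59242 = N60467 := rfl
theorem L795053 : sm gb N60467 = N59243 := ded_21_1 (flp_e L782830) L782824 L795051
theorem L795055 : sm gj N60467 = N59276 := ded_42_2 (flp_e L783063) (flp_j L782826) L795051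
theorem L795057 : sm gh N60467 = N59248 := ded_43_2 (flp_e L782870) (flp_h L782828) L795051
theorem L795059 : sm gf N59243 = N60468 := rfl
theorem L795061 : sm gc N60468 = N59244 := ded_29_1 (flp_f L782838) (flp_c L782832) L795059
theorem L795063 : sm gj N60468 = N59277 := ded_46_2 (flp_f L783069) (flp_j L782834) L795059
theorem L795065 : sm gh N60468 = N59249 := ded_47_2 (flp_f L782876) (flp_h L782836) L795059
theorem L795067 : sm gg N59244 = N60469 := rfl
theorem L795069 : sm gd N60469 = N59290 := ded_36_1 (flp_g L783148) (flp_d L782840) L795067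
theorem L795071 : sm gh N60469 = N59250 := ded_50_2 (flp_g L782882) (flp_h L782844) L795067
theorem L795073 : sm ga N59245 = N60470 := rfl
theorem L795075 : sm gd N60470 = N59251 := ded_12_2 (flp_a L782886) (flp_d L782848) L795073
theorem L795077 : sm gf N60470 = N59247 := ded_14_2 (flp_a L782864) (flp_f L782850) L795073
theorem L795079 : sm gj N60470 = N59282 := ded_16_2 (flp_a L783099) (flp_j L782852) L795073
theorem L795081 : sm gi N60470 = N59433 := ded_18_2 (flp_a L784046) (flp_i L782854) L795073
theorem L795083 : sm ge N59245 = N60471 := rfl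
theorem L795085 : sm gb N60471 = N59246 := ded_21_1 (flp_e L782856) L782846 L795083
theorem L795087 : sm gj N60471 = N59283 := ded_42_2 (flp_e L783105) (flp_j L782852) L795083
theorem L795089 : sm gi N60471 = N59434 := ded_44_2 (flp_e L784050) (flp_i L782854) L795083
theorem L795091 : sm ge N59247 = N60472 := rfl
theorem L795093 : sm ga N60472 = N59248 := ded_13_1 (flp_e L782870) L782864 L795091
theorem L795095 : sm gj N60472 = N59284 := ded_42_2 (flp_e L783109) (flp_j L782868) L795091
theorem L795097 : sm gf N59248 = N60473 := rfl
theorem L795099 : sm gb N60473 = N59249 := ded_22_1 (flp_f L782876) (flp_b L782872) L795097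
theorem L795101 : sm gj N60473 = N59285 := ded_46_2 (flp_f L783113) (flp_j L782874) L795097
theorem L795103 : sm gg N59249 = N60474 := rfl
theorem L795105 : sm gc N60474 = N59250 := ded_30_1 (flp_g L782882) (flp_c L782878) L795103
theorem L795107 : sm gb N59252 = N60475 := rfl
theorem L795109 : sm gd N60475 = N59492 := ded_20_2 (flp_b L784439) (flp_d L782908) L795107
theorem L795111 : sm gf N60475 = N59254 := ded_22_2 (flp_b L782922) (flp_f L782902) L795107
theorem L795113 : sm gg N60475 = N59450 := ded_23_2 (flp_b L784148) (flp_g L782904) L795107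
theorem L795115 : sm gi N60475 = N59494 := ded_26_2 (flp_b L784447) (flp_i L782906) L795107
theorem L795117 : sm gc N60475 = N59464 := ded_19_2 (flp_b L784242) (flp_c L772585) (flp_b L771288) L782898 L795107
theorem L795119 : sm ge N59252 = N60476 := rfl
theorem L795121 : sm ga N60476 = N59263 := ded_13_1 (flp_e L782983) (flp_a L782900) L795119
theorem L795123 : sm gc N60476 = N59253 := ded_28_1 (flp_e L782910) L782898 L795119
theorem L795125 : sm gg N60476 = N59451 := ded_41_2 (flp_e L784156) (flp_g L782904) L795119
theorem L795127 : sm gi N60476 = N59495 := ded_44_2 (flp_e L784453) (flp_i L782906) L795119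
theorem L795129 : sm ga N59254 = N60477 := rfl
theorem L795131 : sm gd N60477 = N59493 := ded_12_2 (flp_a L784443) (flp_d L782924) L795129
theorem L795133 : sm gb N60477 = N59264 := ded_10_2 (flp_a L782987) (flp_b L771352) (flp_a L771298) L782922 L795129
theorem L795135 : sm gb N59255 = N60478 := rfl
theorem L795137 : sm gf N60478 = N59259 := ded_22_2 (flp_b L782951) (flp_f L782928) L795135
theorem L795139 : sm gh N60478 = N59262 := ded_25_2 (flp_b L782975) (flp_h L782930) L795135
theorem L795141 : sm gc N60478 = N59270 := ded_19_2 (flp_b L783031) (flp_c L771378) (flp_b L771304) L782926 L795135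
theorem L795143 : sm ge N59255 = N60479 := rfl
theorem L795145 : sm gc N60479 = N59256 := ded_28_1 (flp_e L782932) L782926 L795143
theorem L795147 : sm gh N60479 = N59263 := ded_43_2 (flp_e L782983) (flp_h L782930) L795143
theorem L795149 : sm gb N59257 = N60480 := rfl
theorem L795151 : sm gi N60480 = N59259 := ded_26_2 (flp_b L782951) (flp_i L782941) L795149
theorem L795153 : sm gc N60480 = N59272 := ded_19_2 (flp_b L783043) (flp_c L771389) (flp_b L771312) L782939 L795149
theorem L795155 : sm ge N59257 = N60481 := rfl
theorem L795157 : sm gc N60481 = N59258 := ded_28_1 (flp_e L782943) L782939 L795155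
theorem L795159 : sm gi N60481 = N59260 := ded_44_2 (flp_e L782957) (flp_i L782941) L795155
theorem L795161 : sm ga N59259 = N60482 := rfl
theorem L795163 : sm gc N60482 = N59275 := ded_11_2 (flp_a L783059) (flp_c L782955) L795161
theorem L795165 : sm gh N60482 = N59264 := ded_17_2 (flp_a L782987) (flp_h L782953) L795161
theorem L795167 : sm ge N59259 = N60483 := rfl
theorem L795169 : sm gb N60483 = N59260 := ded_21_1 (flp_e L782957) L782951 L795167
theorem L795171 : sm gc N60483 = N59276 := ded_28_1 (flp_e L783063) (flp_c L782955) L795167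
theorem L795173 : sm gh N60483 = N59265 := ded_43_2 (flp_e L782993) (flp_h L782953) L795167
theorem L795175 : sm gb N59261 = N60484 := rfl
theorem L795177 : sm gd N60484 = N59494 := ded_20_2 (flp_b L784447) (flp_d L782973) L795175
theorem L795179 : sm gf N60484 = N59444 := ded_22_2 (flp_b L784117) (flp_f L782967) L795175
theorem L795181 : sm gg N60484 = N59262 := ded_23_2 (flp_b L782975) (flp_g L782969) L795175
theorem L795183 : sm gi N60484 = N59492 := ded_26_2 (flp_b L784439) (flp_i L782971) L795175
theorem L795185 : sm gc N60484 = N59280 := ded_19_2 (flp_b L783087) (flp_c L771419) (flp_b L771332) L782963 L795175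
theorem L795187 : sm ga N59262 = N60485 := rfl
theorem L795189 : sm gc N60485 = N59282 := ded_11_2 (flp_a L783099) (flp_c L782981) L795187
theorem L795191 : sm gd N60485 = N59496 := ded_12_2 (flp_a L784459) (flp_d L782977) L795187
theorem L795193 : sm gf N60485 = N59264 := ded_14_2 (flp_a L782987) (flp_f L782979) L795187
theorem L795195 : sm ge N59262 = N60486 := rfl
theorem L795197 : sm gb N60486 = N59263 := ded_21_1 (flp_e L782983) L782975 L795195
theorem L795199 : sm gc N60486 = N59283 := ded_28_1 (flp_e L783105) (flp_c L782981) L795195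
theorem L795201 : sm ge N59264 = N60487 := rfl
theorem L795203 : sm ga N60487 = N59265 := ded_13_1 (flp_e L782993) L782987 L795201
theorem L795205 : sm gc N60487 = N59284 := ded_28_1 (flp_e L783109) (flp_c L782989) L795201
theorem L795207 : sm gb N59266 = N60488 := rfl
theorem L795209 : sm gd N60488 = N59412 := ded_20_2 (flp_b L783930) (flp_d L783009) L795207
theorem L795211 : sm gf N60488 = N59411 := ded_22_2 (flp_b L783924) (flp_f L783003) L795207
theorem L795213 : sm gg N60488 = N59270 := ded_23_2 (flp_b L783031) (flp_g L783005) L795207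
theorem L795215 : sm gh N60488 = N59280 := ded_25_2 (flp_b L783087) (flp_h L783007) L795207
theorem L795217 : sm ge N59266 = N60489 := rfl
theorem L795219 : sm ga N60489 = N59472 := ded_13_1 (flp_e L784296) (flp_a L783001) L795217
theorem L795221 : sm gc N60489 = N59267 := ded_28_1 (flp_e L783011) L782999 L795217
theorem L795223 : sm gg N60489 = N59271 := ded_41_2 (flp_e L783037) (flp_g L783005) L795217
theorem L795225 : sm gh N60489 = N59281 := ded_43_2 (flp_e L783093) (flp_h L783007) L795217
theorem L795227 : sm gb N59268 = N60490 := rfl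
theorem L795229 : sm gf N60490 = N59272 := ded_22_2 (flp_b L783043) (flp_f L783022) L795227
theorem L795231 : sm gi N60490 = N59270 := ded_26_2 (flp_b L783031) (flp_i L783024) L795227
theorem L795233 : sm ge N59268 = N60491 := rfl
theorem L795235 : sm gc N60491 = N59269 := ded_28_1 (flp_e L783026) L783020 L795233
theorem L795237 : sm gi N60491 = N59271 := ded_44_2 (flp_e L783037) (flp_i L783024) L795233
theorem L795239 : sm ga N59270 = N60492 := rfl
theorem L795241 : sm gf N60492 = N59275 := ded_14_2 (flp_a L783059) (flp_f L783033) L795239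
theorem L795243 : sm gh N60492 = N59282 := ded_17_2 (flp_a L783099) (flp_h L783035) L795239
theorem L795245 : sm ge N59270 = N60493 := rfl
theorem L795247 : sm gb N60493 = N59271 := ded_21_1 (flp_e L783037) L783031 L795245
theorem L795249 : sm gh N60493 = N59283 := ded_43_2 (flp_e L783105) (flp_h L783035) L795245
theorem L795251 : sm gd N59271 = N60494 := rfl
theorem L795253 : sm gc N60494 = N60494 := ded_27_1 (flp_d L795251) L783039 L771388 (flp_c L783039) L795251
theorem L795254 : sm ga N59272 = N60495 := rfl
theorem L795256 : sm gi N60495 = N59275 := ded_18_2 (flp_a L783059) (flp_i L783045) L795254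
theorem L795258 : sm ge N59272 = N60496 := rfl
theorem L795260 : sm gb N60496 = N59273 := ded_21_1 (flp_e L783047) L783043 L795258
theorem L795262 : sm gi N60496 = N59276 := ded_44_2 (flp_e L783063) (flp_i L783045) L795258
theorem L795264 : sm gf N59273 = N60497 := rfl
theorem L795266 : sm gc N60497 = N59274 := ded_29_1 (flp_f L783053) (flp_c L783049) L795264
theorem L795268 : sm gi N60497 = N59277 := ded_48_2 (flp_f L783069) (flp_i L783051) L795264
theorem L795270 : sm ge N59275 = N60498 := rfl
theorem L795272 : sm ga N60498 = N59276 := ded_13_1 (flp_e L783063) L783059 L795270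
theorem L795274 : sm gh N60498 = N59284 := ded_43_2 (flp_e L783109) (flp_h L783061) L795270
theorem L795276 : sm gf N59276 = N60499 := rfl
theorem L795278 : sm gb N60499 = N59277 := ded_22_1 (flp_f L783069) (flp_b L783065) L795276
theorem L795280 : sm gh N60499 = N59285 := ded_47_2 (flp_f L783113) (flp_h L783067) L795276
theorem L795282 : sm gb N59278 = N60500 := rfl
theorem L795284 : sm gd N60500 = N59286 := ded_20_2 (flp_b L783117) (flp_d L783079) L795282
theorem L795286 : sm gj N60500 = N59280 := ded_24_2 (flp_b L783087) (flp_j L783077) L795282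
theorem L795288 : sm ge N59278 = N60501 := rfl
theorem L795290 : sm gc N60501 = N59279 := ded_28_1 (flp_e L783081) L783075 L795288
theorem L795292 : sm gj N60501 = N59281 := ded_42_2 (flp_e L783093) (flp_j L783077) L795288
theorem L795294 : sm ga N59280 = N60502 := rfl
theorem L795296 : sm gd N60502 = N59287 := ded_12_2 (flp_a L783123) (flp_d L783089) L795294
theorem L795298 : sm gg N60502 = N59282 := ded_15_2 (flp_a L783099) (flp_g L783091) L795294
theorem L795300 : sm ge N59280 = N60503 := rfl
theorem L795302 : sm gb N60503 = N59281 := ded_21_1 (flp_e L783093) L783087 L795300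
theorem L795304 : sm gg N60503 = N59283 := ded_41_2 (flp_e L783105) (flp_g L783091) L795300
theorem L795306 : sm ge N59282 = N60504 := rfl
theorem L795308 : sm ga N60504 = N59283 := ded_13_1 (flp_e L783105) L783099 L795306
theorem L795310 : sm gf N59284 = N60505 := rfl
theorem L795312 : sm ga N60505 = N59285 := ded_14_1 (flp_f L783113) (flp_a L783111) L795310
theorem L795314 : sm ga N59286 = N60506 := rfl
theorem L795316 : sm gc N60506 = N59517 := ded_11_2 (flp_a L784585) (flp_c L783121) L795314
theorem L795318 : sm gj N60506 = N59287 := ded_16_2 (flp_a L783123) (flp_j L783119) L795314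
theorem L795320 : sm gg N59289 = N60507 := rfl
theorem L795322 : sm ge N60507 = N60507 := ded_41_1 (flp_g L795320) L783147 L795320
theorem L795323 : sm gh N60507 = N60507 := ded_50_2 (flp_g L795320) L783144 L795320
theorem L795324 : sm gi N60507 = N59290 := ded_51_2 (flp_g L783148) (flp_i L783145) L795320
theorem L795326 : sm ga N59291 = N60508 := rfl
theorem L795328 : sm gc N60508 = N59328 := ded_11_2 (flp_a L783408) (flp_c L783165) L795326
theorem L795330 : sm ge N60508 = N59326 := ded_13_2 (flp_a L783396) (flp_e L783155) L795326
theorem L795332 : sm gf N60508 = N59304 := ded_14_2 (flp_a L783250) (flp_f L783157) L795326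
theorem L795334 : sm gj N60508 = N59320 := ded_16_2 (flp_a L783349) (flp_j L783159) L795326
theorem L795336 : sm gh N60508 = N59395 := ded_17_2 (flp_a L783819) (flp_h L783161) L795326
theorem L795338 : sm gi N60508 = N59296 := ded_18_2 (flp_a L783199) (flp_i L783163) L795326
theorem L795340 : sm gb N60508 = N59303 := ded_10_2 (flp_a L783244) (flp_b L771628) (flp_a L771542) L783153 L795326
theorem L795342 : sm ga N59292 = N60509 := rfl
theorem L795344 : sm gc N60509 = N59326 := ded_11_2 (flp_a L783396) (flp_c L783179) L795342
theorem L795346 : sm ge N60509 = N59328 := ded_13_2 (flp_a L783408) (flp_e L783169) L795342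
theorem L795348 : sm gf N60509 = N59303 := ded_14_2 (flp_a L783244) (flp_f L783171) L795342
theorem L795350 : sm gj N60509 = N59296 := ded_16_2 (flp_a L783199) (flp_j L783173) L795342
theorem L795352 : sm gh N60509 = N59372 := ded_17_2 (flp_a L783662) (flp_h L783175) L795342
theorem L795354 : sm gi N60509 = N59320 := ded_18_2 (flp_a L783349) (flp_i L783177) L795342
theorem L795356 : sm gb N60509 = N59304 := ded_10_2 (flp_a L783250) (flp_b L771634) (flp_a L771556) L783167 L795342
theorem L795358 : sm ga N59293 = N60510 := rfl
theorem L795360 : sm gd N60510 = N59296 := ded_12_2 (flp_a L783199) (flp_d L783183) L795358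
theorem L795362 : sm gb N60510 = N59316 := ded_10_2 (flp_a L783329) (flp_b L771687) (flp_a L771570) L783181 L795358
theorem L795364 : sm ge N59293 = N60511 := rfl
theorem L795366 : sm gb N60511 = N59294 := ded_21_1 (flp_e L783185) L783181 L795364
theorem L795368 : sm gd N60511 = N59330 := ded_34_1 (flp_e L783422) L771786 (flp_e L771592) (flp_d L783183) L795364
theorem L795370 : sm gf N59294 = N60512 := rfl
theorem L795372 : sm ga N60512 = N59318 := ded_14_1 (flp_f L783339) (flp_a L783187) L795370
theorem L795374 : sm gc N60512 = N59295 := ded_29_1 (flp_f L783193) (flp_c L783189) L795370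
theorem L795376 : sm gd N60512 = N59331 := ded_35_1 (flp_f L783426) (flp_d L783191) L795370
theorem L795378 : sm gc N59297 = N60513 := rfl
theorem L795380 : sm gg N60513 = N59388 := ded_30_2 (flp_c L783770) (flp_g L783209) L795378
theorem L795382 : sm gh N60513 = N59308 := ded_32_2 (flp_c L783279) (flp_h L783213) L795378
theorem L795384 : sm gi N60513 = N59298 := ded_33_2 (flp_c L783215) (flp_i L783211) L795378
theorem L795386 : sm ge N59297 = N60514 := rfl
theorem L795388 : sm gg N60514 = N59389 := ded_41_2 (flp_e L783778) (flp_g L783209) L795386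
theorem L795390 : sm gh N60514 = N59309 := ded_43_2 (flp_e L783287) (flp_h L783213) L795386
theorem L795392 : sm gi N60514 = N59299 := ded_44_2 (flp_e L783219) (flp_i L783211) L795386
theorem L795394 : sm gd N60514 = N60514 := ded_34_1 (flp_e L795386) (flp_d L783207) L771598 L783207 L795386
theorem L795395 : sm gb N59298 = N60515 := rfl
theorem L795397 : sm gh N60515 = N59300 := ded_25_2 (flp_b L783224) (flp_h L783217) L795395
theorem L795399 : sm ge N59298 = N60516 := rfl
theorem L795401 : sm gc N60516 = N59299 := ded_28_1 (flp_e L783219) L783215 L795399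
theorem L795403 : sm gh N60516 = N59301 := ded_43_2 (flp_e L783230) (flp_h L783217) L795399
theorem L795405 : sm gf N59299 = N60517 := rfl
theorem L795407 : sm gd N60517 = N60517 := ded_35_1 (flp_f L795405) L783223 L795405
theorem L795408 : sm gh N60517 = N59302 := ded_47_2 (flp_f L783238) (flp_h L783221) L795405
theorem L795410 : sm ga N59300 = N60518 := rfl
theorem L795412 : sm gd N60518 = N59303 := ded_12_2 (flp_a L783244) (flp_d L783226) L795410
theorem L795414 : sm gi N60518 = N59316 := ded_18_2 (flp_a L783329) (flp_i L783228) L795410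
theorem L795416 : sm ge N59300 = N60519 := rfl
theorem L795418 : sm gb N60519 = N59301 := ded_21_1 (flp_e L783230) L783224 L795416
theorem L795420 : sm gi N60519 = N59317 := ded_44_2 (flp_e L783333) (flp_i L783228) L795416
theorem L795422 : sm gd N60519 = N59339 := ded_34_1 (flp_e L783473) L771844 (flp_e L771630) (flp_d L783226) L795416
theorem L795424 : sm gf N59301 = N60520 := rfl
theorem L795426 : sm gc N60520 = N59302 := ded_29_1 (flp_f L783238) (flp_c L783232) L795424
theorem L795428 : sm gd N60520 = N59340 := ded_35_1 (flp_f L783479) (flp_d L783236) L795424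
theorem L795430 : sm gi N60520 = N59318 := ded_48_2 (flp_f L783339) (flp_i L783234) L795424
theorem L795432 : sm gc N59305 = N60521 := rfl
theorem L795434 : sm gf N60521 = N59308 := ded_29_2 (flp_c L783279) (flp_f L783260) L795432
theorem L795436 : sm gg N60521 = N59377 := ded_30_2 (flp_c L783700) (flp_g L783262) L795432
theorem L795438 : sm gi N60521 = N59306 := ded_33_2 (flp_c L783266) (flp_i L783264) L795432
theorem L795440 : sm gd N60521 = N59380 := ded_27_2 (flp_c L783715) (flp_d L772106) (flp_c L771644) L783258 L795432
theorem L795442 : sm ge N59305 = N60522 := rfl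
theorem L795444 : sm gg N60522 = N59378 := ded_41_2 (flp_e L783706) (flp_g L783262) L795442
theorem L795446 : sm gi N60522 = N59307 := ded_44_2 (flp_e L783274) (flp_i L783264) L795442
theorem L795448 : sm gd N60522 = N60522 := ded_34_1 (flp_e L795442) (flp_d L783258) L771646 L783258 L795442
theorem L795449 : sm gb N59306 = N60523 := rfl
theorem L795451 : sm gd N60523 = N59402 := ded_20_2 (flp_b L783874) (flp_d L783272) L795449
theorem L795453 : sm gf N60523 = N59310 := ded_22_2 (flp_b L783295) (flp_f L783268) L795449
theorem L795455 : sm gh N60523 = N59313 := ded_25_2 (flp_b L783313) (flp_h L783270) L795449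
theorem L795457 : sm ge N59306 = N60524 := rfl
theorem L795459 : sm gc N60524 = N59307 := ded_28_1 (flp_e L783274) L783266 L795457
theorem L795461 : sm gh N60524 = N59314 := ded_43_2 (flp_e L783319) (flp_h L783270) L795457
theorem L795463 : sm gf N59307 = N60525 := rfl
theorem L795465 : sm gd N60525 = N60525 := ded_35_1 (flp_f L795463) L783278 L795463
theorem L795466 : sm gh N60525 = N59315 := ded_47_2 (flp_f L783323) (flp_h L783276) L795463
theorem L795468 : sm ge N60525 = N59312 := ded_40_1 (flp_f L783307) (flp_e L771671) (flp_f L771655) L783274 L795463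
theorem L795470 : sm gb N59308 = N60526 := rfl
theorem L795472 : sm gd N60526 = N59394 := ded_20_2 (flp_b L783811) (flp_d L783285) L795470
theorem L795474 : sm gg N60526 = N59391 := ded_23_2 (flp_b L783791) (flp_g L783281) L795470
theorem L795476 : sm gi N60526 = N59310 := ded_26_2 (flp_b L783295) (flp_i L783283) L795470
theorem L795478 : sm ge N59308 = N60527 := rfl
theorem L795480 : sm gc N60527 = N59309 := ded_28_1 (flp_e L783287) L783279 L795478
theorem L795482 : sm gg N60527 = N59392 := ded_41_2 (flp_e L783799) (flp_g L783281) L795478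
theorem L795484 : sm gi N60527 = N59311 := ded_44_2 (flp_e L783301) (flp_i L783283) L795478
theorem L795486 : sm gf N59309 = N60528 := rfl
theorem L795488 : sm gd N60528 = N59321 := ded_35_1 (flp_f L783357) (flp_d L783293) L795486
theorem L795490 : sm gi N60528 = N59312 := ded_48_2 (flp_f L783307) (flp_i L783291) L795486
theorem L795492 : sm ga N59310 = N60529 := rfl
theorem L795494 : sm gd N60529 = N59404 := ded_12_2 (flp_a L783886) (flp_d L783297) L795492
theorem L795496 : sm gh N60529 = N59316 := ded_17_2 (flp_a L783329) (flp_h L783299) L795492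
theorem L795498 : sm ge N59310 = N60530 := rfl
theorem L795500 : sm gb N60530 = N59311 := ded_21_1 (flp_e L783301) L783295 L795498
theorem L795502 : sm gh N60530 = N59317 := ded_43_2 (flp_e L783333) (flp_h L783299) L795498
theorem L795504 : sm gf N59311 = N60531 := rfl
theorem L795506 : sm gc N60531 = N59312 := ded_29_1 (flp_f L783307) (flp_c L783303) L795504
theorem L795508 : sm gh N60531 = N59318 := ded_47_2 (flp_f L783339) (flp_h L783305) L795504
theorem L795510 : sm ga N59313 = N60532 := rfl
theorem L795512 : sm gd N60532 = N59320 := ded_12_2 (flp_a L783349) (flp_d L783315) L795510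
theorem L795514 : sm gf N60532 = N59316 := ded_14_2 (flp_a L783329) (flp_f L783317) L795510
theorem L795516 : sm ge N59313 = N60533 := rfl
theorem L795518 : sm gb N60533 = N59314 := ded_21_1 (flp_e L783319) L783313 L795516
theorem L795520 : sm gf N59314 = N60534 := rfl
theorem L795522 : sm gc N60534 = N59315 := ded_29_1 (flp_f L783323) (flp_c L783321) L795520
theorem L795524 : sm ge N60534 = N59318 := ded_40_1 (flp_f L783339) (flp_e L771691) (flp_f L771679) L783319 L795520
theorem L795526 : sm ge N59316 = N60535 := rfl
theorem L795528 : sm ga N60535 = N59317 := ded_13_1 (flp_e L783333) L783329 L795526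
theorem L795530 : sm gd N60535 = N59365 := ded_34_1 (flp_e L783625) L772008 (flp_e L771719) (flp_d L783331) L795526
theorem L795532 : sm gf N59317 = N60536 := rfl
theorem L795534 : sm gb N60536 = N59318 := ded_22_1 (flp_f L783339) (flp_b L783335) L795532
theorem L795536 : sm gd N60536 = N59366 := ded_35_1 (flp_f L783629) (flp_d L783337) L795532
theorem L795538 : sm gg N59318 = N60537 := rfl
theorem L795540 : sm gc N60537 = N59319 := ded_30_1 (flp_g L783345) (flp_c L783341) L795538
theorem L795542 : sm gd N60537 = N59367 := ded_36_1 (flp_g L783633) (flp_d L783343) L795538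
theorem L795544 : sm gb N59322 = N60538 := rfl
theorem L795546 : sm gf N60538 = N59490 := ded_22_2 (flp_b L784429) (flp_f L783367) L795544
theorem L795548 : sm gj N60538 = N59474 := ded_24_2 (flp_b L784306) (flp_j L783369) L795544
theorem L795550 : sm gh N60538 = N59324 := ded_25_2 (flp_b L783382) (flp_h L783371) L795544
theorem L795552 : sm ge N59322 = N60539 := rfl
theorem L795554 : sm ga N60539 = N59337 := ded_13_1 (flp_e L783461) (flp_a L783365) L795552
theorem L795556 : sm gc N60539 = N59323 := ded_28_1 (flp_e L783373) L783363 L795552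
theorem L795558 : sm gj N60539 = N59475 := ded_42_2 (flp_e L784312) (flp_j L783369) L795552
theorem L795560 : sm gh N60539 = N59325 := ded_43_2 (flp_e L783388) (flp_h L783371) L795552
theorem L795562 : sm ga N59324 = N60540 := rfl
theorem L795564 : sm gd N60540 = N59326 := ded_12_2 (flp_a L783396) (flp_d L783384) L795562
theorem L795566 : sm gi N60540 = N59329 := ded_18_2 (flp_a L783416) (flp_i L783386) L795562
theorem L795568 : sm gb N60540 = N59338 := ded_10_2 (flp_a L783467) (flp_b L771842) (flp_a L771752) L783382 L795562
theorem L795570 : sm ge N59324 = N60541 := rfl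
theorem L795572 : sm gb N60541 = N59325 := ded_21_1 (flp_e L783388) L783382 L795570
theorem L795574 : sm gi N60541 = N59330 := ded_44_2 (flp_e L783422) (flp_i L783386) L795570
theorem L795576 : sm ga N59327 = N60542 := rfl
theorem L795578 : sm gg N60542 = N59328 := ded_15_2 (flp_a L783408) (flp_g L783404) L795576
theorem L795580 : sm gh N60542 = N59414 := ded_17_2 (flp_a L783940) (flp_h L783406) L795576
theorem L795582 : sm gb N60542 = N59345 := ded_10_2 (flp_a L783511) (flp_b L771886) (flp_a L771772) L783402 L795576
theorem L795584 : sm ge N59329 = N60543 := rfl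
theorem L795586 : sm ga N60543 = N59330 := ded_13_1 (flp_e L783422) L783416 L795584
theorem L795588 : sm gb N60543 = N59365 := ded_21_1 (flp_e L783625) (flp_b L783420) L795584
theorem L795590 : sm gf N59330 = N60544 := rfl
theorem L795592 : sm gb N60544 = N59331 := ded_22_1 (flp_f L783426) (flp_b L783424) L795590
theorem L795594 : sm ga N59332 = N60545 := rfl
theorem L795596 : sm gc N60545 = N59338 := ded_11_2 (flp_a L783467) (flp_c L783436) L795594
theorem L795598 : sm gi N60545 = N59355 := ded_18_2 (flp_a L783567) (flp_i L783434) L795594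
theorem L795600 : sm ge N59332 = N60546 := rfl
theorem L795602 : sm gb N60546 = N59333 := ded_21_1 (flp_e L783438) L783432 L795600
theorem L795604 : sm gc N60546 = N59339 := ded_28_1 (flp_e L783473) (flp_c L783436) L795600
theorem L795606 : sm gi N60546 = N59356 := ded_44_2 (flp_e L783571) (flp_i L783434) L795600
theorem L795608 : sm gb N59334 = N60547 := rfl
theorem L795610 : sm gh N60547 = N59358 := ded_25_2 (flp_b L783581) (flp_h L783446) L795608
theorem L795612 : sm gi N60547 = N59336 := ded_26_2 (flp_b L783457) (flp_i L783448) L795608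
theorem L795614 : sm ge N59334 = N60548 := rfl
theorem L795616 : sm gc N60548 = N59335 := ded_28_1 (flp_e L783450) L783444 L795614
theorem L795618 : sm gh N60548 = N59359 := ded_43_2 (flp_e L783587) (flp_h L783446) L795614
theorem L795620 : sm gi N60548 = N59337 := ded_44_2 (flp_e L783461) (flp_i L783448) L795614
theorem L795622 : sm ga N59336 = N60549 := rfl
theorem L795624 : sm gh N60549 = N59338 := ded_17_2 (flp_a L783467) (flp_h L783459) L795622
theorem L795626 : sm ge N59336 = N60550 := rfl
theorem L795628 : sm gb N60550 = N59337 := ded_21_1 (flp_e L783461) L783457 L795626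
theorem L795630 : sm gh N60550 = N59339 := ded_43_2 (flp_e L783473) (flp_h L783459) L795626
theorem L795632 : sm gd N59337 = N60551 := rfl
theorem L795634 : sm gc N60551 = N60551 := ded_27_1 (flp_d L795632) L783463 L771841 (flp_c L783463) L795632
theorem L795635 : sm ge N59338 = N60552 := rfl
theorem L795637 : sm ga N60552 = N59339 := ded_13_1 (flp_e L783473) L783467 L795635
theorem L795639 : sm gi N60552 = N59365 := ded_44_2 (flp_e L783625) (flp_i L783471) L795635
theorem L795641 : sm gf N59339 = N60553 := rfl
theorem L795643 : sm gb N60553 = N59340 := ded_22_1 (flp_f L783479) (flp_b L783475) L795641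
theorem L795645 : sm gi N60553 = N59366 := ded_48_2 (flp_f L783629) (flp_i L783477) L795641
theorem L795647 : sm ga N59341 = N60554 := rfl
theorem L795649 : sm gd N60554 = N59345 := ded_12_2 (flp_a L783511) (flp_d L783487) L795647
theorem L795651 : sm gg N60554 = N59348 := ded_15_2 (flp_a L783529) (flp_g L783489) L795647
theorem L795653 : sm ge N59341 = N60555 := rfl
theorem L795655 : sm gb N60555 = N59342 := ded_21_1 (flp_e L783491) L783485 L795653
theorem L795657 : sm gg N60555 = N59349 := ded_41_2 (flp_e L783535) (flp_g L783489) L795653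
theorem L795659 : sm gd N60555 = N59356 := ded_34_1 (flp_e L783571) (flp_d L781704) L781706 (flp_d L783487) L795653
theorem L795661 : sm ga N59343 = N60556 := rfl
theorem L795663 : sm gf N60556 = N59345 := ded_14_2 (flp_a L783511) (flp_f L783501) L795661
theorem L795665 : sm gh N60556 = N59476 := ded_17_2 (flp_a L784318) (flp_h L783503) L795661
theorem L795667 : sm ge N59343 = N60557 := rfl
theorem L795669 : sm gb N60557 = N59344 := ded_21_1 (flp_e L783505) L783499 L795667
theorem L795671 : sm gh N60557 = N59477 := ded_43_2 (flp_e L784322) (flp_h L783503) L795667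
theorem L795673 : sm ga N59346 = N60558 := rfl
theorem L795675 : sm gc N60558 = N59348 := ded_11_2 (flp_a L783529) (flp_c L783521) L795673
theorem L795677 : sm gj N60558 = N59355 := ded_16_2 (flp_a L783567) (flp_j L783519) L795673
theorem L795679 : sm ge N59346 = N60559 := rfl
theorem L795681 : sm gb N60559 = N59347 := ded_21_1 (flp_e L783523) L783517 L795679
theorem L795683 : sm gc N60559 = N59349 := ded_28_1 (flp_e L783535) (flp_c L783521) L795679
theorem L795685 : sm gj N60559 = N59356 := ded_42_2 (flp_e L783571) (flp_j L783519) L795679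
theorem L795687 : sm ge N59348 = N60560 := rfl
theorem L795689 : sm ga N60560 = N59349 := ded_13_1 (flp_e L783535) L783529 L795687
theorem L795691 : sm gj N60560 = N59365 := ded_42_2 (flp_e L783625) (flp_j L783533) L795687
theorem L795693 : sm ga N59350 = N60561 := rfl
theorem L795695 : sm gb N60561 = N59355 := ded_10_2 (flp_a L783567) (flp_b L771948) (flp_a L771924) L783541 L795693
theorem L795697 : sm ge N59350 = N60562 := rfl
theorem L795699 : sm gb N60562 = N59351 := ded_21_1 (flp_e L783543) L783541 L795697
theorem L795701 : sm ga N59352 = N60563 := rfl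
theorem L795703 : sm gc N60563 = N59360 := ded_11_2 (flp_a L783593) (flp_c L783553) L795701
theorem L795705 : sm gh N60563 = N59355 := ded_17_2 (flp_a L783567) (flp_h L783551) L795701
theorem L795707 : sm ge N59352 = N60564 := rfl
theorem L795709 : sm gb N60564 = N59353 := ded_21_1 (flp_e L783555) L783549 L795707
theorem L795711 : sm gc N60564 = N59361 := ded_28_1 (flp_e L783599) (flp_c L783553) L795707
theorem L795713 : sm gh N60564 = N59356 := ded_43_2 (flp_e L783571) (flp_h L783551) L795707
theorem L795715 : sm ga N59354 = N60565 := rfl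
theorem L795717 : sm gc N60565 = N59363 := ded_11_2 (flp_a L783611) (flp_c L783565) L795715
theorem L795719 : sm gf N60565 = N59355 := ded_14_2 (flp_a L783567) (flp_f L783563) L795715
theorem L795721 : sm ge N59355 = N60566 := rfl
theorem L795723 : sm ga N60566 = N59356 := ded_13_1 (flp_e L783571) L783567 L795721
theorem L795725 : sm gc N60566 = N59365 := ded_28_1 (flp_e L783625) (flp_c L783569) L795721
theorem L795727 : sm gf N59356 = N60567 := rfl
theorem L795729 : sm gb N60567 = N59357 := ded_22_1 (flp_f L783577) (flp_b L783573) L795727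
theorem L795731 : sm gc N60567 = N59366 := ded_29_1 (flp_f L783629) (flp_c L783575) L795727
theorem L795733 : sm ga N59358 = N60568 := rfl
theorem L795735 : sm gd N60568 = N59509 := ded_12_2 (flp_a L784543) (flp_d L783583) L795733
theorem L795737 : sm gi N60568 = N59360 := ded_18_2 (flp_a L783593) (flp_i L783585) L795733
theorem L795739 : sm ge N59358 = N60569 := rfl
theorem L795741 : sm gb N60569 = N59359 := ded_21_1 (flp_e L783587) L783581 L795739
theorem L795743 : sm gi N60569 = N59361 := ded_44_2 (flp_e L783599) (flp_i L783585) L795739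
theorem L795745 : sm ge N59360 = N60570 := rfl
theorem L795747 : sm ga N60570 = N59361 := ded_13_1 (flp_e L783599) L783593 L795745
theorem L795749 : sm gh N60570 = N59365 := ded_43_2 (flp_e L783625) (flp_h L783597) L795745
theorem L795751 : sm ga N59362 = N60571 := rfl
theorem L795753 : sm gd N60571 = N59368 := ded_12_2 (flp_a L783637) (flp_d L783607) L795751
theorem L795755 : sm gg N60571 = N59363 := ded_15_2 (flp_a L783611) (flp_g L783609) L795751
theorem L795757 : sm ge N59363 = N60572 := rfl
theorem L795759 : sm ga N60572 = N59364 := ded_13_1 (flp_e L783617) L783611 L795757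
theorem L795761 : sm gj N60572 = N59368 := ded_42_2 (flp_e L784802) L784808 L795757
theorem L795763 : sm gh N60572 = N59517 := ded_43_2 (flp_e L786589) L786595 L795757
theorem L795765 : sm gf N59365 = N60573 := rfl
theorem L795767 : sm ga N60573 = N59366 := ded_14_1 (flp_f L783629) (flp_a L783627) L795765
theorem L795769 : sm gg N59366 = N60574 := rfl
theorem L795771 : sm gb N60574 = N59367 := ded_23_1 (flp_g L783633) (flp_b L783631) L795769
theorem L795773 : sm gb N59369 = N60575 := rfl
theorem L795775 : sm gf N60575 = N59371 := ded_22_2 (flp_b L783656) (flp_f L783647) L795773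
theorem L795777 : sm ge N59369 = N60576 := rfl
theorem L795779 : sm ga N60576 = N59383 := ded_13_1 (flp_e L783736) (flp_a L783645) L795777
theorem L795781 : sm gc N60576 = N59370 := ded_28_1 (flp_e L783649) L783643 L795777
theorem L795783 : sm gf N60576 = N59413 := ded_40_2 (flp_e L783934) L772317 (flp_e L772044) (flp_f L783647) L795777
theorem L795785 : sm ga N59371 = N60577 := rfl
theorem L795787 : sm ge N60577 = N59414 := ded_13_2 (flp_a L783940) (flp_e L783658) L795785
theorem L795789 : sm gg N60577 = N59372 := ded_15_2 (flp_a L783662) (flp_g L783660) L795785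
theorem L795791 : sm gb N60577 = N59384 := ded_10_2 (flp_a L783742) (flp_b L772125) (flp_a L772042) L783656 L795785
theorem L795793 : sm ga N59374 = N60578 := rfl
theorem L795795 : sm ge N60578 = N59440 := ded_13_2 (flp_a L784087) (flp_e L783678) L795793
theorem L795797 : sm gg N60578 = N59375 := ded_15_2 (flp_a L783684) (flp_g L783680) L795793
theorem L795799 : sm gi N60578 = N59384 := ded_18_2 (flp_a L783742) (flp_i L783682) L795793
theorem L795801 : sm gb N59377 = N60579 := rfl
theorem L795803 : sm gd N60579 = N59382 := ded_20_2 (flp_b L783732) (flp_d L783704) L795801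
theorem L795805 : sm gf N60579 = N59379 := ded_22_2 (flp_b L783709) (flp_f L783702) L795801
theorem L795807 : sm ge N59377 = N60580 := rfl
theorem L795809 : sm gc N60580 = N59378 := ded_28_1 (flp_e L783706) L783700 L795807
theorem L795811 : sm ga N59379 = N60581 := rfl
theorem L795813 : sm gd N60581 = N59384 := ded_12_2 (flp_a L783742) (flp_d L783711) L795811
theorem L795815 : sm gg N60581 = N59393 := ded_15_2 (flp_a L783805) (flp_g L783713) L795811
theorem L795817 : sm gb N59380 = N60582 := rfl
theorem L795819 : sm gf N60582 = N59394 := ded_22_2 (flp_b L783811) (flp_f L783717) L795817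
theorem L795821 : sm gg N60582 = N59382 := ded_23_2 (flp_b L783732) (flp_g L783719) L795817
theorem L795823 : sm gi N60582 = N59402 := ded_26_2 (flp_b L783874) (flp_i L783721) L795817
theorem L795825 : sm gc N60582 = N59412 := ded_19_2 (flp_b L783930) (flp_c L772313) (flp_b L772108) L783715 L795817
theorem L795827 : sm ge N59380 = N60583 := rfl
theorem L795829 : sm gc N60583 = N59381 := ded_28_1 (flp_e L783723) L783715 L795827
theorem L795831 : sm gg N60583 = N59383 := ded_41_2 (flp_e L783736) (flp_g L783719) L795827
theorem L795833 : sm gi N60583 = N59403 := ded_44_2 (flp_e L783880) (flp_i L783721) L795827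
theorem L795835 : sm ga N59382 = N60584 := rfl
theorem L795837 : sm gf N60584 = N59384 := ded_14_2 (flp_a L783742) (flp_f L783734) L795835
theorem L795839 : sm ge N59382 = N60585 := rfl
theorem L795841 : sm gb N60585 = N59383 := ded_21_1 (flp_e L783736) L783732 L795839
theorem L795843 : sm gf N60585 = N59477 := ded_40_2 (flp_e L784322) L772685 (flp_e L772127) (flp_f L783734) L795839
theorem L795845 : sm gd N59383 = N60586 := rfl
theorem L795847 : sm gf N60586 = N59478 := ded_35_2 (flp_d L784326) (flp_f L783740) L795845
theorem L795849 : sm gc N60586 = N60586 := ded_27_1 (flp_d L795845) L783738 L772122 (flp_c L783738) L795845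
theorem L795850 : sm gb N59385 = N60587 := rfl
theorem L795852 : sm gd N60587 = N59415 := ded_20_2 (flp_b L783946) (flp_d L783754) L795850
theorem L795854 : sm gf N60587 = N59387 := ded_22_2 (flp_b L783764) (flp_f L783750) L795850
theorem L795856 : sm gj N60587 = N59399 := ded_24_2 (flp_b L783858) (flp_j L783752) L795850
theorem L795858 : sm gc N60587 = N59391 := ded_19_2 (flp_b L783791) (flp_c L772157) (flp_b L772133) L783748 L795850
theorem L795860 : sm ge N59385 = N60588 := rfl
theorem L795862 : sm gc N60588 = N59386 := ded_28_1 (flp_e L783756) L783748 L795860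
theorem L795864 : sm gj N60588 = N59400 := ded_42_2 (flp_e L783866) (flp_j L783752) L795860
theorem L795866 : sm ga N59387 = N60589 := rfl
theorem L795868 : sm gc N60589 = N59393 := ded_11_2 (flp_a L783805) (flp_c L783768) L795866
theorem L795870 : sm gj N60589 = N59401 := ded_16_2 (flp_a L783870) (flp_j L783766) L795866
theorem L795872 : sm gb N59388 = N60590 := rfl
theorem L795874 : sm gf N60590 = N59390 := ded_22_2 (flp_b L783785) (flp_f L783772) L795872
theorem L795876 : sm gj N60590 = N59402 := ded_24_2 (flp_b L783874) (flp_j L783774) L795872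
theorem L795878 : sm gh N60590 = N59391 := ded_25_2 (flp_b L783791) (flp_h L783776) L795872
theorem L795880 : sm ge N59388 = N60591 := rfl
theorem L795882 : sm gc N60591 = N59389 := ded_28_1 (flp_e L783778) L783770 L795880
theorem L795884 : sm gj N60591 = N59403 := ded_42_2 (flp_e L783880) (flp_j L783774) L795880
theorem L795886 : sm gh N60591 = N59392 := ded_43_2 (flp_e L783799) (flp_h L783776) L795880
theorem L795888 : sm ga N59390 = N60592 := rfl
theorem L795890 : sm gj N60592 = N59404 := ded_16_2 (flp_a L783886) (flp_j L783787) L795888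
theorem L795892 : sm gh N60592 = N59393 := ded_17_2 (flp_a L783805) (flp_h L783789) L795888
theorem L795894 : sm ga N59391 = N60593 := rfl
theorem L795896 : sm gd N60593 = N59395 := ded_12_2 (flp_a L783819) (flp_d L783793) L795894
theorem L795898 : sm gf N60593 = N59393 := ded_14_2 (flp_a L783805) (flp_f L783795) L795894
theorem L795900 : sm gj N60593 = N59405 := ded_16_2 (flp_a L783890) (flp_j L783797) L795894
theorem L795902 : sm ge N59391 = N60594 := rfl
theorem L795904 : sm gb N60594 = N59392 := ded_21_1 (flp_e L783799) L783791 L795902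
theorem L795906 : sm gj N60594 = N59406 := ded_42_2 (flp_e L783896) (flp_j L783797) L795902
theorem L795908 : sm ga N59394 = N60595 := rfl
theorem L795910 : sm gc N60595 = N59414 := ded_11_2 (flp_a L783940) (flp_c L783817) L795908
theorem L795912 : sm gg N60595 = N59395 := ded_15_2 (flp_a L783819) (flp_g L783813) L795908
theorem L795914 : sm gi N60595 = N59404 := ded_18_2 (flp_a L783886) (flp_i L783815) L795908
theorem L795916 : sm gb N59396 = N60596 := rfl
theorem L795918 : sm gf N60596 = N59398 := ded_22_2 (flp_b L783848) (flp_f L783831) L795916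
theorem L795920 : sm gh N60596 = N59399 := ded_25_2 (flp_b L783858) (flp_h L783833) L795916
theorem L795922 : sm gi N60596 = N59412 := ded_26_2 (flp_b L783930) (flp_i L783835) L795916
theorem L795924 : sm gc N60596 = N59402 := ded_19_2 (flp_b L783874) (flp_c L772235) (flp_b L772201) L783827 L795916
theorem L795926 : sm ge N59396 = N60597 := rfl
theorem L795928 : sm ga N60597 = N59439 := ded_13_1 (flp_e L784081) (flp_a L783829) L795926
theorem L795930 : sm gc N60597 = N59397 := ded_28_1 (flp_e L783837) L783827 L795926
theorem L795932 : sm gh N60597 = N59400 := ded_43_2 (flp_e L783866) (flp_h L783833) L795926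
theorem L795934 : sm gi N60597 = N59413 := ded_44_2 (flp_e L783934) (flp_i L783835) L795926
theorem L795936 : sm ga N59398 = N60598 := rfl
theorem L795938 : sm gc N60598 = N59404 := ded_11_2 (flp_a L783886) (flp_c L783856) L795936
theorem L795940 : sm gg N60598 = N59410 := ded_15_2 (flp_a L783916) (flp_g L783850) L795936
theorem L795942 : sm gh N60598 = N59401 := ded_17_2 (flp_a L783870) (flp_h L783852) L795936
theorem L795944 : sm gi N60598 = N59414 := ded_18_2 (flp_a L783940) (flp_i L783854) L795936
theorem L795946 : sm gb N60598 = N59440 := ded_10_2 (flp_a L784087) (flp_b L772463) (flp_a L772211) L783848 L795936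
theorem L795948 : sm ga N59399 = N60599 := rfl
theorem L795950 : sm gc N60599 = N59405 := ded_11_2 (flp_a L783890) (flp_c L783864) L795948
theorem L795952 : sm gd N60599 = N59419 := ded_12_2 (flp_a L783970) (flp_d L783860) L795948
theorem L795954 : sm gf N60599 = N59401 := ded_14_2 (flp_a L783870) (flp_f L783862) L795948
theorem L795956 : sm ge N59399 = N60600 := rfl
theorem L795958 : sm gb N60600 = N59400 := ded_21_1 (flp_e L783866) L783858 L795956
theorem L795960 : sm gc N60600 = N59406 := ded_28_1 (flp_e L783896) (flp_c L783864) L795956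
theorem L795962 : sm ga N59402 = N60601 := rfl
theorem L795964 : sm gf N60601 = N59404 := ded_14_2 (flp_a L783886) (flp_f L783876) L795962
theorem L795966 : sm gh N60601 = N59405 := ded_17_2 (flp_a L783890) (flp_h L783878) L795962
theorem L795968 : sm ge N59402 = N60602 := rfl
theorem L795970 : sm gb N60602 = N59403 := ded_21_1 (flp_e L783880) L783874 L795968
theorem L795972 : sm gh N60602 = N59406 := ded_43_2 (flp_e L783896) (flp_h L783878) L795968
theorem L795974 : sm gd N59403 = N60603 := rfl
theorem L795976 : sm gc N60603 = N60603 := ded_27_1 (flp_d L795974) L783882 L772245 (flp_c L783882) L795974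
theorem L795977 : sm ge N59405 = N60604 := rfl
theorem L795979 : sm ga N60604 = N59406 := ded_13_1 (flp_e L783896) L783890 L795977
theorem L795981 : sm ga N59407 = N60605 := rfl
theorem L795983 : sm gd N60605 = N59409 := ded_12_2 (flp_a L783910) (flp_d L783902) L795981
theorem L795985 : sm gb N60605 = N59433 := ded_10_2 (flp_a L784046) (flp_b L772426) (flp_a L772279) L783900 L795981
theorem L795987 : sm ge N59407 = N60606 := rfl
theorem L795989 : sm gb N60606 = N59408 := ded_21_1 (flp_e L783904) L783900 L795987
theorem L795991 : sm ga N59411 = N60607 := rfl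
theorem L795993 : sm gd N60607 = N59414 := ded_12_2 (flp_a L783940) (flp_d L783926) L795991
theorem L795995 : sm gg N60607 = N59416 := ded_15_2 (flp_a L783952) (flp_g L783928) L795991
theorem L795997 : sm gb N60607 = N59473 := ded_10_2 (flp_a L784300) (flp_b L772666) (flp_a L772307) L783924 L795991
theorem L795999 : sm ga N59412 = N60608 := rfl
theorem L796001 : sm gf N60608 = N59414 := ded_14_2 (flp_a L783940) (flp_f L783932) L795999
theorem L796003 : sm gb N60608 = N59476 := ded_10_2 (flp_a L784318) (flp_b L772683) (flp_a L772315) L783930 L795999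
theorem L796005 : sm ge N59412 = N60609 := rfl
theorem L796007 : sm gb N60609 = N59413 := ded_21_1 (flp_e L783934) L783930 L796005
theorem L796009 : sm gd N59413 = N60610 := rfl
theorem L796011 : sm ga N60610 = N59478 := ded_12_1 (flp_d L784326) (flp_a L783936) L796009
theorem L796013 : sm gc N60610 = N60610 := ded_27_1 (flp_d L796009) L783938 L772323 (flp_c L783938) L796009
theorem L796014 : sm ga N59415 = N60611 := rfl
theorem L796016 : sm gc N60611 = N59416 := ded_11_2 (flp_a L783952) (flp_c L783950) L796014
theorem L796018 : sm gj N60611 = N59419 := ded_16_2 (flp_a L783970) (flp_j L783948) L796014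
theorem L796020 : sm ga N59417 = N60612 := rfl
theorem L796022 : sm gc N60612 = N59493 := ded_11_2 (flp_a L784443) (flp_c L783962) L796020
theorem L796024 : sm gb N60612 = N59419 := ded_10_2 (flp_a L783970) (flp_b L772352) (flp_a L772346) L783960 L796020
theorem L796026 : sm ga N59418 = N60613 := rfl
theorem L796028 : sm gc N60613 = N59421 := ded_11_2 (flp_a L783978) (flp_c L783968) L796026
theorem L796030 : sm gh N60613 = N59419 := ded_17_2 (flp_a L783970) (flp_h L783966) L796026
theorem L796032 : sm ga N59420 = N60614 := rfl
theorem L796034 : sm gi N60614 = N59421 := ded_18_2 (flp_a L783978) (flp_i L783976) L796032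
theorem L796036 : sm gb N60614 = N59509 := ded_10_2 (flp_a L784543) (flp_b L772887) (flp_a L772358) L783974 L796032
theorem L796038 : sm gb N59422 = N60615 := rfl
theorem L796040 : sm gj N60615 = N59494 := ded_24_2 (flp_b L784447) (flp_j L783988) L796038
theorem L796042 : sm gc N60615 = N59510 := ded_19_2 (flp_b L784547) (flp_c L772895) (flp_b L772376) L783984 L796038
theorem L796044 : sm ge N59422 = N60616 := rfl
theorem L796046 : sm ga N60616 = N59427 := ded_13_1 (flp_e L784016) (flp_a L783986) L796044
theorem L796048 : sm gc N60616 = N59423 := ded_28_1 (flp_e L783990) L783984 L796044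
theorem L796050 : sm gj N60616 = N59495 := ded_42_2 (flp_e L784453) (flp_j L783988) L796044
theorem L796052 : sm gb N59424 = N60617 := rfl
theorem L796054 : sm gh N60617 = N59426 := ded_25_2 (flp_b L784012) (flp_h L784002) L796052
theorem L796056 : sm gc N60617 = N59431 := ded_19_2 (flp_b L784034) (flp_c L772414) (flp_b L772392) L784000 L796052
theorem L796058 : sm ge N59424 = N60618 := rfl
theorem L796060 : sm gc N60618 = N59425 := ded_28_1 (flp_e L784004) L784000 L796058
theorem L796062 : sm gh N60618 = N59427 := ded_43_2 (flp_e L784016) (flp_h L784002) L796058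
theorem L796064 : sm ga N59426 = N60619 := rfl
theorem L796066 : sm gc N60619 = N59433 := ded_11_2 (flp_a L784046) (flp_c L784014) L796064
theorem L796068 : sm ge N59426 = N60620 := rfl
theorem L796070 : sm gb N60620 = N59427 := ded_21_1 (flp_e L784016) L784012 L796068
theorem L796072 : sm gc N60620 = N59434 := ded_28_1 (flp_e L784050) (flp_c L784014) L796068
theorem L796074 : sm gd N59427 = N60621 := rfl
theorem L796076 : sm gc N60621 = N59428 := ded_27_1 (flp_d L784020) L772406 (flp_d L772402) (flp_c L784018) L796074
theorem L796078 : sm gb N59429 = N60622 := rfl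
theorem L796080 : sm gd N60622 = N59460 := ded_20_2 (flp_b L784216) (flp_d L784026) L796078
theorem L796082 : sm gi N60622 = N59431 := ded_26_2 (flp_b L784034) (flp_i L784024) L796078
theorem L796084 : sm ge N59429 = N60623 := rfl
theorem L796086 : sm gc N60623 = N59430 := ded_28_1 (flp_e L784028) L784022 L796084
theorem L796088 : sm gi N60623 = N59432 := ded_44_2 (flp_e L784040) (flp_i L784024) L796084
theorem L796090 : sm ga N59431 = N60624 := rfl
theorem L796092 : sm gd N60624 = N59461 := ded_12_2 (flp_a L784222) (flp_d L784036) L796090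
theorem L796094 : sm gh N60624 = N59433 := ded_17_2 (flp_a L784046) (flp_h L784038) L796090
theorem L796096 : sm ge N59431 = N60625 := rfl
theorem L796098 : sm gb N60625 = N59432 := ded_21_1 (flp_e L784040) L784034 L796096
theorem L796100 : sm gh N60625 = N59434 := ded_43_2 (flp_e L784050) (flp_h L784038) L796096
theorem L796102 : sm ge N59433 = N60626 := rfl
theorem L796104 : sm ga N60626 = N59434 := ded_13_1 (flp_e L784050) L784046 L796102
theorem L796106 : sm gb N59435 = N60627 := rfl
theorem L796108 : sm gd N60627 = N59438 := ded_20_2 (flp_b L784075) (flp_d L784060) L796106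
theorem L796110 : sm gf N60627 = N59437 := ded_22_2 (flp_b L784067) (flp_f L784056) L796106
theorem L796112 : sm gi N60627 = N59471 := ded_26_2 (flp_b L784290) (flp_i L784058) L796106
theorem L796114 : sm ge N59435 = N60628 := rfl
theorem L796116 : sm gc N60628 = N59436 := ded_28_1 (flp_e L784062) L784054 L796114
theorem L796118 : sm gi N60628 = N59472 := ded_44_2 (flp_e L784296) (flp_i L784058) L796114
theorem L796120 : sm ga N59437 = N60629 := rfl
theorem L796122 : sm gd N60629 = N59440 := ded_12_2 (flp_a L784087) (flp_d L784069) L796120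
theorem L796124 : sm gg N60629 = N59443 := ded_15_2 (flp_a L784109) (flp_g L784071) L796120
theorem L796126 : sm gi N60629 = N59473 := ded_18_2 (flp_a L784300) (flp_i L784073) L796120
theorem L796128 : sm ga N59438 = N60630 := rfl
theorem L796130 : sm gf N60630 = N59440 := ded_14_2 (flp_a L784087) (flp_f L784077) L796128
theorem L796132 : sm gi N60630 = N59476 := ded_18_2 (flp_a L784318) (flp_i L784079) L796128
theorem L796134 : sm ge N59438 = N60631 := rfl
theorem L796136 : sm gb N60631 = N59439 := ded_21_1 (flp_e L784081) L784075 L796134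
theorem L796138 : sm gi N60631 = N59477 := ded_44_2 (flp_e L784322) (flp_i L784079) L796134
theorem L796140 : sm gd N59439 = N60632 := rfl
theorem L796142 : sm gi N60632 = N59478 := ded_39_2 (flp_d L784326) (flp_i L784085) L796140
theorem L796144 : sm gc N60632 = N60632 := ded_27_1 (flp_d L796140) L784083 L772462 (flp_c L784083) L796140
theorem L796145 : sm ga N59441 = N60633 := rfl
theorem L796147 : sm gc N60633 = N59443 := ded_11_2 (flp_a L784109) (flp_c L784101) L796145
theorem L796149 : sm ge N60633 = N59509 := ded_13_2 (flp_a L784543) (flp_e L784095) L796145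
theorem L796151 : sm gj N60633 = N59452 := ded_16_2 (flp_a L784162) (flp_j L784097) L796145
theorem L796153 : sm gi N60633 = N59481 := ded_18_2 (flp_a L784349) (flp_i L784099) L796145
theorem L796155 : sm ga N59442 = N60634 := rfl
theorem L796157 : sm gj N60634 = N59461 := ded_16_2 (flp_a L784222) (flp_j L784105) L796155
theorem L796159 : sm gh N60634 = N59443 := ded_17_2 (flp_a L784109) (flp_h L784107) L796155
theorem L796161 : sm ga N59444 = N60635 := rfl
theorem L796163 : sm gi N60635 = N59493 := ded_18_2 (flp_a L784443) (flp_i L784119) L796161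
theorem L796165 : sm gb N60635 = N59452 := ded_10_2 (flp_a L784162) (flp_b L772531) (flp_a L772499) L784117 L796161
theorem L796167 : sm gb N59445 = N60636 := rfl
theorem L796169 : sm gd N60636 = N59449 := ded_20_2 (flp_b L784142) (flp_d L784123) L796167
theorem L796171 : sm ge N59445 = N60637 := rfl
theorem L796173 : sm gc N60637 = N59446 := ded_28_1 (flp_e L784125) L784121 L796171
theorem L796175 : sm gb N59447 = N60638 := rfl
theorem L796177 : sm gf N60638 = N59449 := ded_22_2 (flp_b L784142) (flp_f L784131) L796175
theorem L796179 : sm gh N60638 = N59450 := ded_25_2 (flp_b L784148) (flp_h L784133) L796175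
theorem L796181 : sm gc N60638 = N59458 := ded_19_2 (flp_b L784204) (flp_c L772558) (flp_b L772507) L784129 L796175
theorem L796183 : sm ge N59447 = N60639 := rfl
theorem L796185 : sm gc N60639 = N59448 := ded_28_1 (flp_e L784135) L784129 L796183
theorem L796187 : sm gh N60639 = N59451 := ded_43_2 (flp_e L784156) (flp_h L784133) L796183
theorem L796189 : sm ga N59449 = N60640 := rfl
theorem L796191 : sm gc N60640 = N59461 := ded_11_2 (flp_a L784222) (flp_c L784146) L796189
theorem L796193 : sm gh N60640 = N59452 := ded_17_2 (flp_a L784162) (flp_h L784144) L796189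
theorem L796195 : sm ga N59450 = N60641 := rfl
theorem L796197 : sm gc N60641 = N59467 := ded_11_2 (flp_a L784264) (flp_c L784154) L796195
theorem L796199 : sm gf N60641 = N59452 := ded_14_2 (flp_a L784162) (flp_f L784150) L796195
theorem L796201 : sm gi N60641 = N59496 := ded_18_2 (flp_a L784459) (flp_i L784152) L796195
theorem L796203 : sm ge N59450 = N60642 := rfl
theorem L796205 : sm gb N60642 = N59451 := ded_21_1 (flp_e L784156) L784148 L796203
theorem L796207 : sm gc N60642 = N59468 := ded_28_1 (flp_e L784272) (flp_c L784154) L796203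
theorem L796209 : sm gi N60642 = N59497 := ded_44_2 (flp_e L784465) (flp_i L784152) L796203
theorem L796211 : sm gd N59451 = N60643 := rfl
theorem L796213 : sm gf N60643 = N59465 := ded_35_2 (flp_d L786502) L786504 L796211
theorem L796215 : sm gi N60643 = N59498 := ded_39_2 (flp_d L784471) (flp_i L784160) L796211
theorem L796217 : sm gc N60643 = N59466 := ded_27_1 L784260 L772641 (flp_d L772529) (flp_c L784158) L796211
theorem L796219 : sm gc N59453 = N60644 := rfl
theorem L796221 : sm gg N60644 = N59456 := ded_30_2 (flp_c L784189) (flp_g L784170) L796219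
theorem L796223 : sm gh N60644 = N59499 := ded_32_2 (flp_c L784477) (flp_h L784174) L796219
theorem L796225 : sm gi N60644 = N59454 := ded_33_2 (flp_c L784176) (flp_i L784172) L796219
theorem L796227 : sm ge N59453 = N60645 := rfl
theorem L796229 : sm gg N60645 = N59457 := ded_41_2 (flp_e L784197) (flp_g L784170) L796227
theorem L796231 : sm gh N60645 = N59500 := ded_43_2 (flp_e L784483) (flp_h L784174) L796227
theorem L796233 : sm gi N60645 = N59455 := ded_44_2 (flp_e L784182) (flp_i L784172) L796227
theorem L796235 : sm gd N60645 = N60645 := ded_34_1 (flp_e L796227) (flp_d L784168) L772539 L784168 L796227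
theorem L796236 : sm gb N59454 = N60646 := rfl
theorem L796238 : sm gg N60646 = N59458 := ded_23_2 (flp_b L784204) (flp_g L784178) L796236
theorem L796240 : sm gh N60646 = N59464 := ded_25_2 (flp_b L784242) (flp_h L784180) L796236
theorem L796242 : sm ge N59454 = N60647 := rfl
theorem L796244 : sm gc N60647 = N59455 := ded_28_1 (flp_e L784182) L784176 L796242
theorem L796246 : sm gg N60647 = N59459 := ded_41_2 (flp_e L784210) (flp_g L784178) L796242
theorem L796248 : sm gh N60647 = N59465 := ded_43_2 (flp_e L784250) (flp_h L784180) L796242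
theorem L796250 : sm gf N59455 = N60648 := rfl
theorem L796252 : sm gd N60648 = N60648 := ded_35_1 (flp_f L796250) L784188 L796250
theorem L796253 : sm gh N60648 = N59466 := ded_47_2 (flp_f L784258) (flp_h L784186) L796250
theorem L796255 : sm gb N59456 = N60649 := rfl
theorem L796257 : sm gf N60649 = N59460 := ded_22_2 (flp_b L784216) (flp_f L784191) L796255
theorem L796259 : sm gh N60649 = N59504 := ded_25_2 (flp_b L784511) (flp_h L784193) L796255
theorem L796261 : sm gi N60649 = N59458 := ded_26_2 (flp_b L784204) (flp_i L784195) L796255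
theorem L796263 : sm ge N59456 = N60650 := rfl
theorem L796265 : sm gc N60650 = N59457 := ded_28_1 (flp_e L784197) L784189 L796263
theorem L796267 : sm gh N60650 = N59505 := ded_43_2 (flp_e L784517) (flp_h L784193) L796263
theorem L796269 : sm gi N60650 = N59459 := ded_44_2 (flp_e L784210) (flp_i L784195) L796263
theorem L796271 : sm ga N59458 = N60651 := rfl
theorem L796273 : sm gf N60651 = N59461 := ded_14_2 (flp_a L784222) (flp_f L784206) L796271
theorem L796275 : sm gh N60651 = N59467 := ded_17_2 (flp_a L784264) (flp_h L784208) L796271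
theorem L796277 : sm ge N59458 = N60652 := rfl
theorem L796279 : sm gb N60652 = N59459 := ded_21_1 (flp_e L784210) L784204 L796277
theorem L796281 : sm gh N60652 = N59468 := ded_43_2 (flp_e L784272) (flp_h L784208) L796277
theorem L796283 : sm gd N59459 = N60653 := rfl
theorem L796285 : sm gc N60653 = N60653 := ded_27_1 (flp_d L796283) L784212 L772568 (flp_c L784212) L796283
theorem L796286 : sm ga N59460 = N60654 := rfl
theorem L796288 : sm gh N60654 = N59509 := ded_17_2 (flp_a L784543) (flp_h L784218) L796286
theorem L796290 : sm gi N60654 = N59461 := ded_18_2 (flp_a L784222) (flp_i L784220) L796286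
theorem L796292 : sm gb N59462 = N60655 := rfl
theorem L796294 : sm gd N60655 = N59469 := ded_20_2 (flp_b L784278) (flp_d L784232) L796292
theorem L796296 : sm gj N60655 = N59464 := ded_24_2 (flp_b L784242) (flp_j L784228) L796292
theorem L796298 : sm gi N60655 = N59510 := ded_26_2 (flp_b L784547) (flp_i L784230) L796292
theorem L796300 : sm ge N59462 = N60656 := rfl
theorem L796302 : sm gc N60656 = N59463 := ded_28_1 (flp_e L784234) L784226 L796300
theorem L796304 : sm gj N60656 = N59465 := ded_42_2 (flp_e L784250) (flp_j L784228) L796300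
theorem L796306 : sm gi N60656 = N59508 := ded_44_2 L784541 (flp_i L784230) L796300
theorem L796308 : sm gd N60656 = N59505 := ded_34_1 (flp_e L784517) (flp_d L774752) L774744 (flp_d L784232) L796300
theorem L796310 : sm ga N59464 = N60657 := rfl
theorem L796312 : sm gd N60657 = N59470 := ded_12_2 (flp_a L784284) (flp_d L784244) L796310
theorem L796314 : sm gg N60657 = N59467 := ded_15_2 (flp_a L784264) (flp_g L784246) L796310
theorem L796316 : sm gi N60657 = N59512 := ded_18_2 (flp_a L784559) (flp_i L784248) L796310
theorem L796318 : sm ge N59464 = N60658 := rfl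
theorem L796320 : sm gb N60658 = N59465 := ded_21_1 (flp_e L784250) L784242 L796318
theorem L796322 : sm gg N60658 = N59468 := ded_41_2 (flp_e L784272) (flp_g L784246) L796318
theorem L796324 : sm gi N60658 = N59513 := ded_44_2 (flp_e L784565) (flp_i L784248) L796318
theorem L796326 : sm ge N59467 = N60659 := rfl
theorem L796328 : sm ga N60659 = N59468 := ded_13_1 (flp_e L784272) L784264 L796326
theorem L796330 : sm gi N60659 = N59514 := ded_44_2 (flp_e L784571) (flp_i L784270) L796326
theorem L796332 : sm ga N59469 = N60660 := rfl
theorem L796334 : sm gj N60660 = N59470 := ded_16_2 (flp_a L784284) (flp_j L784280) L796332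
theorem L796336 : sm gi N60660 = N59517 := ded_18_2 (flp_a L784585) (flp_i L784282) L796332
theorem L796338 : sm ga N59471 = N60661 := rfl
theorem L796340 : sm gd N60661 = N59476 := ded_12_2 (flp_a L784318) (flp_d L784292) L796338
theorem L796342 : sm gf N60661 = N59473 := ded_14_2 (flp_a L784300) (flp_f L784294) L796338
theorem L796344 : sm ge N59471 = N60662 := rfl
theorem L796346 : sm gb N60662 = N59472 := ded_21_1 (flp_e L784296) L784290 L796344
theorem L796348 : sm gd N59472 = N60663 := rfl
theorem L796350 : sm gc N60663 = N60663 := ded_27_1 (flp_d L796348) L784298 L772665 (flp_c L784298) L796348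
theorem L796351 : sm ge N60663 = N59478 := ded_34_2 (flp_d L784326) (flp_e L772687) (flp_d L772661) L784296 L796348
theorem L796353 : sm ga N59474 = N60664 := rfl
theorem L796355 : sm gf N60664 = N59491 := ded_14_2 (flp_a L784435) (flp_f L784308) L796353
theorem L796357 : sm gg N60664 = N59476 := ded_15_2 (flp_a L784318) (flp_g L784310) L796353
theorem L796359 : sm ge N59474 = N60665 := rfl
theorem L796361 : sm gb N60665 = N59475 := ded_21_1 (flp_e L784312) L784306 L796359
theorem L796363 : sm gg N60665 = N59477 := ded_41_2 (flp_e L784322) (flp_g L784310) L796359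
theorem L796365 : sm gd N59475 = N60666 := rfl
theorem L796367 : sm gg N60666 = N59478 := ded_36_2 (flp_d L784326) (flp_g L784316) L796365
theorem L796369 : sm gc N60666 = N60666 := ded_27_1 (flp_d L796365) L784314 L772682 (flp_c L784314) L796365
theorem L796370 : sm ge N59476 = N60667 := rfl
theorem L796372 : sm ga N60667 = N59477 := ded_13_1 (flp_e L784322) L784318 L796370
theorem L796374 : sm gd N59477 = N60668 := rfl
theorem L796376 : sm gb N60668 = N59478 := ded_20_1 (flp_d L784326) (flp_b L784324) L796374
theorem L796378 : sm gh N59478 = N60669 := rfl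
theorem L796380 : sm gc N60669 = N60669 := ded_32_1 (flp_h L796378) L784328 L796378
theorem L796381 : sm ga N59479 = N60670 := rfl
theorem L796383 : sm gc N60670 = N59483 := ded_11_2 (flp_a L784369) (flp_c L784337) L796381
theorem L796385 : sm gf N60670 = N59481 := ded_14_2 (flp_a L784349) (flp_f L784331) L796381
theorem L796387 : sm gj N60670 = N59496 := ded_16_2 (flp_a L784459) (flp_j L784333) L796381
theorem L796389 : sm gh N60670 = N59516 := ded_17_2 L784583 (flp_h L784335) L796381
theorem L796391 : sm ge N59479 = N60671 := rfl
theorem L796393 : sm gb N60671 = N59480 := ded_21_1 (flp_e L784339) L784329 L796391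
theorem L796395 : sm gc N60671 = N59484 := ded_28_1 (flp_e L784377) (flp_c L784337) L796391
theorem L796397 : sm gj N60671 = N59497 := ded_42_2 (flp_e L784465) (flp_j L784333) L796391
theorem L796399 : sm gh N60671 = N59515 := ded_43_2 L784579 (flp_h L784335) L796391
theorem L796401 : sm gf N60671 = N59507 := ded_40_2 (flp_e L784529) L772877 (flp_e L772717) (flp_f L784331) L796391
theorem L796403 : sm gd N59480 = N60672 := rfl
theorem L796405 : sm gf N60672 = N59508 := ded_35_2 (flp_d L784535) (flp_f L784347) L796403
theorem L796407 : sm gj N60672 = N59498 := ded_37_2 (flp_d L784471) (flp_j L784343) L796403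
theorem L796409 : sm gc N60672 = N59511 := ded_27_1 L784555 L772957 (flp_d L772711) (flp_c L784341) L796403
theorem L796411 : sm ge N59483 = N60673 := rfl
theorem L796413 : sm ga N60673 = N59484 := ded_13_1 (flp_e L784377) L784369 L796411
theorem L796415 : sm gj N60673 = N59514 := ded_42_2 (flp_e L784571) (flp_j L784375) L796411
theorem L796417 : sm gf N59484 = N60674 := rfl
theorem L796419 : sm gb N60674 = N59485 := ded_22_1 (flp_f L784383) (flp_b L784379) L796417
theorem L796421 : sm gc N60674 = N59507 := ded_29_1 (flp_f L796401) L796395 L796417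
theorem L796423 : sm gj N60674 = N59515 := ded_46_2 (flp_f L784575) (flp_j L784381) L796417
theorem L796425 : sm gh N60674 = N59497 := ded_47_2 (flp_f L786629) L786625 L796417
theorem L796427 : sm ge N60674 = N59488 := ded_40_1 (flp_f L784413) (flp_e L772767) (flp_f L772739) L784377 L796417
theorem L796429 : sm gg N59485 = N60675 := rfl
theorem L796431 : sm gc N60675 = N59486 := ded_30_1 (flp_g L784393) (flp_c L784385) L796429
theorem L796433 : sm ge N60675 = N59489 := ded_41_1 (flp_g L784423) (flp_e L784391) L796429
theorem L796435 : sm gh N60675 = N59495 := ded_50_2 L784457 (flp_h L784389) L796429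
theorem L796437 : sm gf N59487 = N60676 := rfl
theorem L796439 : sm ga N60676 = N59488 := ded_14_1 (flp_f L784413) (flp_a L784405) L796437
theorem L796441 : sm gc N60676 = N59506 := ded_29_1 L784525 (flp_c L784407) L796437
theorem L796443 : sm gj N60676 = N59516 := ded_46_2 (flp_f L784581) (flp_j L784409) L796437
theorem L796445 : sm gh N60676 = N59496 := ded_47_2 L784463 (flp_h L784411) L796437
theorem L796447 : sm gg N59488 = N60677 := rfl
theorem L796449 : sm gb N60677 = N59489 := ded_23_1 (flp_g L784423) (flp_b L784415) L796447
theorem L796451 : sm gc N60677 = N59501 := ded_30_1 L784493 (flp_c L784417) L796447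
theorem L796453 : sm gh N60677 = N59494 := ded_50_2 L784449 (flp_h L784421) L796447
theorem L796455 : sm ga N59490 = N60678 := rfl
theorem L796457 : sm gg N60678 = N59517 := ded_15_2 (flp_a L784585) (flp_g L784431) L796455
theorem L796459 : sm gj N60678 = N59491 := ded_16_2 (flp_a L784435) (flp_j L784433) L796455
theorem L796461 : sm ga N59492 = N60679 := rfl
theorem L796463 : sm gf N60679 = N59493 := ded_14_2 (flp_a L784443) (flp_f L784441) L796461
theorem L796465 : sm gb N60679 = N59496 := ded_10_2 (flp_a L784459) (flp_b L772829) (flp_a L772811) L784439 L796461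
theorem L796467 : sm ga N59494 = N60680 := rfl
theorem L796469 : sm gc N60680 = N59512 := ded_11_2 (flp_a L784559) (flp_c L784451) L796467
theorem L796471 : sm gg N60680 = N59496 := ded_15_2 (flp_a L784459) (flp_g L784449) L796467
theorem L796473 : sm ge N59494 = N60681 := rfl
theorem L796475 : sm gb N60681 = N59495 := ded_21_1 (flp_e L784453) L784447 L796473
theorem L796477 : sm gc N60681 = N59513 := ded_28_1 (flp_e L784565) (flp_c L784451) L796473
theorem L796479 : sm gg N60681 = N59497 := ded_41_2 (flp_e L784465) (flp_g L784449) L796473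
theorem L796481 : sm ge N59496 = N60682 := rfl
theorem L796483 : sm ga N60682 = N59497 := ded_13_1 (flp_e L784465) L784459 L796481
theorem L796485 : sm gc N60682 = N59514 := ded_28_1 (flp_e L784571) (flp_c L784461) L796481
theorem L796487 : sm gd N59497 = N60683 := rfl
theorem L796489 : sm gb N60683 = N59498 := ded_20_1 (flp_d L784471) (flp_b L784467) L796487
theorem L796491 : sm gf N60683 = N59513 := ded_35_2 (flp_d L786627) L786629 L796487
theorem L796493 : sm gh N59498 = N60684 := rfl
theorem L796495 : sm gc N60684 = N59503 := ded_32_1 L784509 (flp_c L784475) L796493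
theorem L796497 : sm gf N60684 = N59502 := ded_47_1 L784503 (flp_f L784473) L796493
theorem L796499 : sm gb N59499 = N60685 := rfl
theorem L796501 : sm gg N60685 = N59504 := ded_23_2 (flp_b L784511) (flp_g L784479) L796499
theorem L796503 : sm gi N60685 = N59501 := ded_26_2 (flp_b L784491) (flp_i L784481) L796499
theorem L796505 : sm ge N59499 = N60686 := rfl
theorem L796507 : sm gc N60686 = N59500 := ded_28_1 (flp_e L784483) L784477 L796505
theorem L796509 : sm gg N60686 = N59505 := ded_41_2 (flp_e L784517) (flp_g L784479) L796505
theorem L796511 : sm gi N60686 = N59502 := ded_44_2 (flp_e L784497) (flp_i L784481) L796505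
theorem L796513 : sm gf N59500 = N60687 := rfl
theorem L796515 : sm gd N60687 = N59518 := ded_35_1 (flp_f L784589) (flp_d L784489) L796513
theorem L796517 : sm gi N60687 = N59503 := ded_48_2 (flp_f L784505) (flp_i L784487) L796513
theorem L796519 : sm ga N59501 = N60688 := rfl
theorem L796521 : sm gg N60688 = N59506 := ded_15_2 (flp_a L784523) (flp_g L784493) L796519
theorem L796523 : sm gh N60688 = N59512 := ded_17_2 (flp_a L784559) (flp_h L784495) L796519
theorem L796525 : sm ge N59501 = N60689 := rfl
theorem L796527 : sm gb N60689 = N59502 := ded_21_1 (flp_e L784497) L784491 L796525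
theorem L796529 : sm gg N60689 = N59507 := ded_41_2 (flp_e L784529) (flp_g L784493) L796525
theorem L796531 : sm gh N60689 = N59513 := ded_43_2 (flp_e L784565) (flp_h L784495) L796525
theorem L796533 : sm ga N59504 = N60690 := rfl
theorem L796535 : sm gf N60690 = N59509 := ded_14_2 (flp_a L784543) (flp_f L784513) L796533
theorem L796537 : sm gi N60690 = N59506 := ded_18_2 (flp_a L784523) (flp_i L784515) L796533
theorem L796539 : sm ge N59504 = N60691 := rfl
theorem L796541 : sm gb N60691 = N59505 := ded_21_1 (flp_e L784517) L784511 L796539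
theorem L796543 : sm gi N60691 = N59507 := ded_44_2 (flp_e L784529) (flp_i L784515) L796539
theorem L796545 : sm ge N59506 = N60692 := rfl
theorem L796547 : sm ga N60692 = N59507 := ded_13_1 (flp_e L784529) L784523 L796545
theorem L796549 : sm gh N60692 = N59514 := ded_43_2 (flp_e L784571) (flp_h L784527) L796545
theorem L796551 : sm gd N59507 = N60693 := rfl
theorem L796553 : sm gb N60693 = N59508 := ded_20_1 (flp_d L784535) (flp_b L784531) L796551
theorem L796555 : sm gj N60693 = N59513 := ded_37_2 (flp_d L786627) L786623 L796551
theorem L796557 : sm ge N60693 = N59510 := ded_34_2 L784549 (flp_e L774868) L774866 L784529 L796551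
theorem L796559 : sm ga N59510 = N60694 := rfl
theorem L796561 : sm gd N60694 = N59517 := ded_12_2 (flp_a L784585) (flp_d L784549) L796559
theorem L796563 : sm gj N60694 = N59512 := ded_16_2 (flp_a L784559) (flp_j L784551) L796559
theorem L796565 : sm ge N59512 = N60695 := rfl
theorem L796567 : sm ga N60695 = N59513 := ded_13_1 (flp_e L784565) L784559 L796565
theorem L796569 : sm gg N60695 = N59514 := ded_41_2 (flp_e L784571) (flp_g L784563) L796565
theorem L796571 : sm gf N59514 = N60696 := rfl
theorem L796573 : sm ga N60696 = N59515 := ded_14_1 (flp_f L784575) (flp_a L784573) L796571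
theorem L796575 : sm ge N60696 = N59516 := ded_40_1 (flp_f L784581) (flp_e L772939) (flp_f L772927) L784571 L796571
theorem L796577 : sm gb N59519 = N60697 := rfl
theorem L796579 : sm gd N60697 = N60002 := ded_20_2 (flp_b L790580) (flp_d L784609) L796577
theorem L796581 : sm gf N60697 = N59521 := ded_22_2 (flp_b L784629) (flp_f L784599) L796577
theorem L796583 : sm gg N60697 = N59872 := ded_23_2 (flp_b L789301) (flp_g L784601) L796577
theorem L796585 : sm gj N60697 = N59993 := ded_24_2 (flp_b L790522) (flp_j L784603) L796577
theorem L796587 : sm gh N60697 = N60374 := ded_25_2 (flp_b L794272) (flp_h L784605) L796577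
theorem L796589 : sm gi N60697 = N59526 := ded_26_2 (flp_b L784713) (flp_i L784607) L796577
theorem L796591 : sm gc N60697 = N59826 := ded_19_2 (flp_b L788728) (flp_c L776799) (flp_b L773003) L784595 L796577
theorem L796593 : sm ge N59519 = N60698 := rfl
theorem L796595 : sm ga N60698 = N59944 := ded_13_1 (flp_e L790043) (flp_a L784597) L796593
theorem L796597 : sm gc N60698 = N59520 := ded_28_1 (flp_e L784611) L784595 L796593
theorem L796599 : sm gg N60698 = N59873 := ded_41_2 (flp_e L789307) (flp_g L784601) L796593
theorem L796601 : sm gj N60698 = N59994 := ded_42_2 (flp_e L790530) (flp_j L784603) L796593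
theorem L796603 : sm gh N60698 = N60375 := ded_43_2 (flp_e L794276) (flp_h L784605) L796593
theorem L796605 : sm gi N60698 = N59527 := ded_44_2 (flp_e L784723) (flp_i L784607) L796593
theorem L796607 : sm gd N60698 = N60534 := ded_34_1 L795524 L783343 (flp_e L778427) (flp_d L784609) L796593
theorem L796609 : sm gf N60698 = N59535 := ded_40_2 (flp_e L784850) L773242 (flp_e L773019) (flp_f L784599) L796593
theorem L796611 : sm ga N59521 = N60699 := rfl
theorem L796613 : sm gc N60699 = N59828 := ded_11_2 (flp_a L788742) (flp_c L784643) L796611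
theorem L796615 : sm gd N60699 = N60572 := ded_12_2 L795759 (flp_d L784631) L796611
theorem L796617 : sm ge N60699 = N59536 := ded_13_2 (flp_a L784866) (flp_e L784633) L796611
theorem L796619 : sm gg N60699 = N60340 := ded_15_2 (flp_a L793878) (flp_g L784635) L796611
theorem L796621 : sm gj N60699 = N60571 := ded_16_2 (flp_a L795751) (flp_j L784637) L796611
theorem L796623 : sm gh N60699 = N60376 := ded_17_2 (flp_a L794284) (flp_h L784639) L796611
theorem L796625 : sm gi N60699 = N59528 := ded_18_2 (flp_a L784737) (flp_i L784641) L796611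
theorem L796627 : sm gb N60699 = N60343 := ded_10_2 (flp_a L793926) (flp_b L781642) (flp_a L773017) L784629 L796611
theorem L796629 : sm gb N59522 = N60700 := rfl
theorem L796631 : sm gd N60700 = N59943 := ded_20_2 (flp_b L790031) (flp_d L784661) L796629
theorem L796633 : sm ge N60700 = N60544 := ded_21_2 L795592 (flp_e L784649) L796629
theorem L796635 : sm gf N60700 = N59523 := ded_22_2 (flp_b L784663) (flp_f L784651) L796629
theorem L796637 : sm gg N60700 = N59938 := ded_23_2 (flp_b L789989) (flp_g L784653) L796629
theorem L796639 : sm gj N60700 = N59526 := ded_24_2 (flp_b L784713) (flp_j L784655) L796629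
theorem L796641 : sm gh N60700 = N59593 := ded_25_2 (flp_b L785671) (flp_h L784657) L796629
theorem L796643 : sm gi N60700 = N59993 := ded_26_2 (flp_b L790522) (flp_i L784659) L796629
theorem L796645 : sm gc N60700 = N59803 := ded_19_2 (flp_b L788418) (flp_c L776546) (flp_b L773052) L784645 L796629
theorem L796647 : sm ga N59523 = N60701 := rfl
theorem L796649 : sm gc N60701 = N59831 := ded_11_2 (flp_a L788786) (flp_c L784677) L796647
theorem L796651 : sm gd N60701 = N60343 := ded_12_2 (flp_a L793926) (flp_d L784665) L796647
theorem L796653 : sm ge N60701 = N59537 := ded_13_2 (flp_a L784880) (flp_e L784667) L796647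
theorem L796655 : sm gg N60701 = N60344 := ded_15_2 (flp_a L793938) (flp_g L784669) L796647
theorem L796657 : sm gj N60701 = N59528 := ded_16_2 (flp_a L784737) (flp_j L784671) L796647
theorem L796659 : sm gh N60701 = N59595 := ded_17_2 (flp_a L785691) (flp_h L784673) L796647
theorem L796661 : sm gi N60701 = N60571 := ded_18_2 (flp_a L795751) (flp_i L784675) L796647
theorem L796663 : sm gb N60701 = N60572 := ded_10_2 L795759 L783619 (flp_a L773068) L784663 L796647
theorem L796665 : sm gb N59524 = N60702 := rfl
theorem L796667 : sm gd N60702 = N59526 := ded_20_2 (flp_b L784713) (flp_d L784695) L796665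
theorem L796669 : sm ge N60702 = N60553 := ded_21_2 L795643 (flp_e L784683) L796665
theorem L796671 : sm gf N60702 = N59525 := ded_22_2 (flp_b L784697) (flp_f L784685) L796665
theorem L796673 : sm gg N60702 = N59885 := ded_23_2 (flp_b L789439) (flp_g L784687) L796665
theorem L796675 : sm gj N60702 = N59943 := ded_24_2 (flp_b L790031) (flp_j L784689) L796665
theorem L796677 : sm gh N60702 = N59740 := ded_25_2 (flp_b L787602) (flp_h L784691) L796665
theorem L796679 : sm gi N60702 = N60002 := ded_26_2 (flp_b L790580) (flp_i L784693) L796665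
theorem L796681 : sm gc N60702 = N59949 := ded_19_2 (flp_b L790082) (flp_c L778041) (flp_b L773086) L784679 L796665
theorem L796683 : sm ga N59525 = N60703 := rfl
theorem L796685 : sm gc N60703 = N59951 := ded_11_2 (flp_a L790102) (flp_c L784711) L796683
theorem L796687 : sm gd N60703 = N59528 := ded_12_2 (flp_a L784737) (flp_d L784699) L796683
theorem L796689 : sm ge N60703 = N60344 := ded_13_2 (flp_a L793938) (flp_e L784701) L796683
theorem L796691 : sm gg N60703 = N59537 := ded_15_2 (flp_a L784880) (flp_g L784703) L796683
theorem L796693 : sm gj N60703 = N60343 := ded_16_2 (flp_a L793926) (flp_j L784705) L796683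
theorem L796695 : sm gh N60703 = N59742 := ded_17_2 (flp_a L787620) (flp_h L784707) L796683
theorem L796697 : sm gi N60703 = N60572 := ded_18_2 L795759 (flp_i L784709) L796683
theorem L796699 : sm gb N60703 = N60571 := ded_10_2 (flp_a L795751) (flp_b L783605) (flp_a L773102) L784697 L796683
theorem L796701 : sm ga N59526 = N60704 := rfl
theorem L796703 : sm gc N60704 = N59841 := ded_11_2 (flp_a L788906) (flp_c L784721) L796701
theorem L796705 : sm gf N60704 = N59528 := ded_14_2 (flp_a L784737) (flp_f L784715) L796701
theorem L796707 : sm gg N60704 = N59891 := ded_15_2 (flp_a L789495) (flp_g L784717) L796701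
theorem L796709 : sm gh N60704 = N59616 := ded_17_2 (flp_a L785956) (flp_h L784719) L796701
theorem L796711 : sm gb N60704 = N60003 := ded_10_2 (flp_a L790590) (flp_b L778435) (flp_a L773118) L784713 L796701
theorem L796713 : sm ge N59526 = N60705 := rfl
theorem L796715 : sm gb N60705 = N59527 := ded_21_1 (flp_e L784723) L784713 L796713
theorem L796717 : sm gc N60705 = N59842 := ded_28_1 (flp_e L788912) (flp_c L784721) L796713
theorem L796719 : sm gg N60705 = N59892 := ded_41_2 (flp_e L789503) (flp_g L784717) L796713
theorem L796721 : sm gj N60705 = N60544 := ded_42_2 (flp_e L796633) L796639 L796713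
theorem L796723 : sm gh N60705 = N59617 := ded_43_2 (flp_e L785966) (flp_h L784719) L796713
theorem L796725 : sm gf N60705 = N59543 := ded_40_2 (flp_e L784978) L773385 (flp_e L773144) (flp_f L784715) L796713
theorem L796727 : sm gd N59527 = N60706 := rfl
theorem L796729 : sm ga N60706 = N59979 := ded_12_1 L790414 (flp_a L784725) L796727
theorem L796731 : sm gf N60706 = N59544 := ded_35_2 (flp_d L784988) (flp_f L784735) L796727
theorem L796733 : sm gg N60706 = N59893 := ded_36_2 (flp_d L789509) (flp_g L784729) L796727
theorem L796735 : sm gj N60706 = N60512 := ded_37_2 L795376 (flp_j L784731) L796727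
theorem L796737 : sm gi N60706 = N60534 := ded_39_2 (flp_d L796607) L796605 L796727
theorem L796739 : sm gc N60706 = N59529 := ded_27_1 (flp_d L784749) L773158 (flp_d L773138) (flp_c L784727) L796727
theorem L796741 : sm ge N60706 = N60520 := ded_34_2 L795428 (flp_e L784683) L784695 L784723 L796727
theorem L796743 : sm gh N59529 = N60707 := rfl
theorem L796745 : sm ga N60707 = N59973 := ded_17_1 L790344 (flp_a L784751) L796743
theorem L796747 : sm gb N60707 = N60112 := ded_25_1 L791796 (flp_b L784753) L796743
theorem L796749 : sm ge N60707 = N60517 := ded_43_1 L795408 (flp_e L784763) L796743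
theorem L796751 : sm gf N60707 = N59546 := ded_47_1 (flp_h L785020) (flp_f L784755) L796743
theorem L796753 : sm gg N60707 = N59895 := ded_50_1 (flp_h L789535) (flp_g L784757) L796743
theorem L796755 : sm gj N60707 = N60029 := ded_52_1 L790867 (flp_j L784759) L796743
theorem L796757 : sm gd N60707 = N59530 := ded_38_1 (flp_h L784765) (flp_d L773170) (flp_h L773164) L784749 L796743
theorem L796759 : sm gi N59530 = N60708 := rfl
theorem L796761 : sm ga N60708 = N60010 := ded_18_1 (flp_i L790637) (flp_a L784767) L796759
theorem L796763 : sm gb N60708 = N60093 := ded_26_1 L791588 (flp_b L784769) L796759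
theorem L796765 : sm gc N60708 = N59628 := ded_33_1 (flp_i L786116) (flp_c L784771) L796759
theorem L796767 : sm ge N60708 = N60708 := ded_44_1 (flp_i L796759) L784773 L796759
theorem L796768 : sm gf N60708 = N59547 := ded_48_1 (flp_i L785034) (flp_f L784774) L796759
theorem L796770 : sm gg N60708 = N59896 := ded_51_1 (flp_i L789547) (flp_g L784776) L796759
theorem L796772 : sm gj N60708 = N59812 := ded_53_1 L788545 (flp_j L784778) L796759
theorem L796774 : sm gh N60708 = N60708 := ded_54_1 (flp_i L796759) (flp_h L784765) L773182 L784765 L796759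
theorem L796775 : sm ga N59531 = N60709 := rfl
theorem L796777 : sm gc N60709 = N59532 := ded_11_2 (flp_a L784798) (flp_c L784796) L796775
theorem L796779 : sm gd N60709 = N60545 := ded_12_2 (flp_a L795594) (flp_d L784782) L796775
theorem L796781 : sm ge N60709 = N60355 := ded_13_2 (flp_a L794072) (flp_e L784784) L796775
theorem L796783 : sm gf N60709 = N60558 := ded_14_2 (flp_a L795673) (flp_f L784786) L796775
theorem L796785 : sm gg N60709 = N60341 := ded_15_2 (flp_a L793894) (flp_g L784788) L796775
theorem L796787 : sm gj N60709 = N60565 := ded_16_2 (flp_a L795715) (flp_j L784790) L796775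
theorem L796789 : sm gh N60709 = N59645 := ded_17_2 (flp_a L786374) (flp_h L784792) L796775
theorem L796791 : sm gi N60709 = N60347 := ded_18_2 (flp_a L793974) (flp_i L784794) L796775
theorem L796793 : sm gb N60709 = N59852 := ded_10_2 (flp_a L789039) (flp_b L777114) (flp_a L773188) L784780 L796775
theorem L796795 : sm ga N59533 = N60710 := rfl
theorem L796797 : sm gc N60710 = N59927 := ded_11_2 (flp_a L789876) (flp_c L784832) L796795
theorem L796799 : sm gd N60710 = N60340 := ded_12_2 (flp_a L793878) (flp_d L784818) L796795
theorem L796801 : sm ge N60710 = N60571 := ded_13_2 (flp_a L795751) (flp_e L784820) L796795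
theorem L796803 : sm gf N60710 = N60540 := ded_14_2 (flp_a L795562) (flp_f L784822) L796795
theorem L796805 : sm gg N60710 = N60572 := ded_15_2 L795759 (flp_g L784824) L796795
theorem L796807 : sm gj N60710 = N59536 := ded_16_2 (flp_a L784866) (flp_j L784826) L796795
theorem L796809 : sm gh N60710 = N60678 := ded_17_2 (flp_a L796455) (flp_h L784828) L796795
theorem L796811 : sm gi N60710 = N59537 := ded_18_2 (flp_a L784880) (flp_i L784830) L796795
theorem L796813 : sm gb N60710 = N60344 := ded_10_2 (flp_a L793938) (flp_b L781654) (flp_a L773222) L784816 L796795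
theorem L796815 : sm ga N59534 = N60711 := rfl
theorem L796817 : sm gc N60711 = N59945 := ded_11_2 (flp_a L790057) (flp_c L784848) L796815
theorem L796819 : sm gd N60711 = N60342 := ded_12_2 (flp_a L793910) (flp_d L784836) L796815
theorem L796821 : sm gf N60711 = N59536 := ded_14_2 (flp_a L784866) (flp_f L784838) L796815
theorem L796823 : sm gg N60711 = N60556 := ded_15_2 (flp_a L795661) (flp_g L784840) L796815
theorem L796825 : sm gj N60711 = N60540 := ded_16_2 (flp_a L795562) (flp_j L784842) L796815
theorem L796827 : sm gh N60711 = N60664 := ded_17_2 (flp_a L796353) (flp_h L784844) L796815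
theorem L796829 : sm gi N60711 = N59542 := ded_18_2 (flp_a L784964) (flp_i L784846) L796815
theorem L796831 : sm gb N60711 = N60353 := ded_10_2 (flp_a L794054) (flp_b L781781) (flp_a L773240) L784834 L796815
theorem L796833 : sm ge N59534 = N60712 := rfl
theorem L796835 : sm gb N60712 = N59535 := ded_21_1 (flp_e L784850) L784834 L796833
theorem L796837 : sm gc N60712 = N59946 := ded_28_1 (flp_e L790063) (flp_c L784848) L796833
theorem L796839 : sm gg N60712 = N60557 := ded_41_2 (flp_e L795667) (flp_g L784840) L796833
theorem L796841 : sm gj N60712 = N60541 := ded_42_2 (flp_e L795570) (flp_j L784842) L796833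
theorem L796843 : sm gh N60712 = N60665 := ded_43_2 (flp_e L796359) (flp_h L784844) L796833
theorem L796845 : sm gi N60712 = N59543 := ded_44_2 (flp_e L784978) (flp_i L784846) L796833
theorem L796847 : sm gd N60712 = N60533 := ded_34_1 (flp_e L795516) L783315 (flp_e L781610) (flp_d L784836) L796833
theorem L796849 : sm gb N59539 = N60713 := rfl
theorem L796851 : sm gd N60713 = N59876 := ded_20_2 (flp_b L789339) (flp_d L784930) L796849
theorem L796853 : sm ge N60713 = N60567 := ded_21_2 L795729 (flp_e L784918) L796849
theorem L796855 : sm gf N60713 = N59919 := ded_22_2 (flp_b L789785) (flp_f L784920) L796849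
theorem L796857 : sm gg N60713 = N59877 := ded_23_2 (flp_b L789347) (flp_g L784922) L796849
theorem L796859 : sm gj N60713 = N59540 := ded_24_2 (flp_b L784932) (flp_j L784924) L796849
theorem L796861 : sm gh N60713 = N59783 := ded_25_2 (flp_b L788162) (flp_h L784926) L796849
theorem L796863 : sm gi N60713 = N59949 := ded_26_2 (flp_b L790082) (flp_i L784928) L796849
theorem L796865 : sm gc N60713 = N60002 := ded_19_2 (flp_b L790580) (flp_c L778425) (flp_b L773335) L784914 L796849
theorem L796867 : sm ga N59540 = N60714 := rfl
theorem L796869 : sm gc N60714 = N60003 := ded_11_2 (flp_a L790590) (flp_c L784944) L796867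
theorem L796871 : sm gd N60714 = N60542 := ded_12_2 (flp_a L795576) (flp_d L784934) L796867
theorem L796873 : sm gf N60714 = N60355 := ded_14_2 (flp_a L794072) (flp_f L784936) L796867
theorem L796875 : sm gg N60714 = N59542 := ded_15_2 (flp_a L784964) (flp_g L784938) L796867
theorem L796877 : sm gh N60714 = N59785 := ded_17_2 (flp_a L788180) (flp_h L784940) L796867
theorem L796879 : sm gi N60714 = N60556 := ded_18_2 (flp_a L795661) (flp_i L784942) L796867
theorem L796881 : sm gb N60714 = N60554 := ded_10_2 (flp_a L795647) (flp_b L783485) (flp_a L773351) L784932 L796867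
theorem L796883 : sm ge N59540 = N60715 := rfl
theorem L796885 : sm gb N60715 = N59541 := ded_21_1 (flp_e L784946) L784932 L796883
theorem L796887 : sm gc N60715 = N60004 := ded_28_1 (flp_e L790598) (flp_c L784944) L796883
theorem L796889 : sm gg N60715 = N59543 := ded_41_2 (flp_e L784978) (flp_g L784938) L796883
theorem L796891 : sm gj N60715 = N60567 := ded_42_2 (flp_e L796853) L796859 L796883
theorem L796893 : sm gh N60715 = N59786 := ded_43_2 (flp_e L788188) (flp_h L784940) L796883
theorem L796895 : sm gi N60715 = N60557 := ded_44_2 (flp_e L795667) (flp_i L784942) L796883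
theorem L796897 : sm gd N60715 = N60562 := ded_34_1 (flp_e L795697) (flp_d L788936) L788938 (flp_d L784934) L796883
theorem L796899 : sm gf N60715 = N60559 := ded_40_2 (flp_e L795679) (flp_f L784786) L784784 (flp_f L784936) L796883
theorem L796901 : sm ge N59542 = N60716 := rfl
theorem L796903 : sm ga N60716 = N59543 := ded_13_1 (flp_e L784978) L784964 L796901
theorem L796905 : sm gb N60716 = N60560 := ded_21_1 (flp_e L795687) (flp_b L784976) L796901
theorem L796907 : sm gc N60716 = N60005 := ded_28_1 (flp_e L790610) (flp_c L784966) L796901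
theorem L796909 : sm gj N60716 = N60543 := ded_42_2 (flp_e L795584) (flp_j L784972) L796901
theorem L796911 : sm gh N60716 = N59787 := ded_43_2 (flp_e L788196) (flp_h L784974) L796901
theorem L796913 : sm gd N59543 = N60717 := rfl
theorem L796915 : sm gb N60717 = N59544 := ded_20_1 (flp_d L784988) (flp_b L784980) L796913
theorem L796917 : sm gg N60717 = N60562 := ded_36_2 (flp_d L796897) L796889 L796913
theorem L796919 : sm gj N60717 = N60511 := ded_37_2 L795368 (flp_j L784984) L796913
theorem L796921 : sm gi N60717 = N60533 := ded_39_2 (flp_d L796847) L796845 L796913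
theorem L796923 : sm ge N60717 = N59966 := ded_34_2 L790257 L783169 (flp_d L773383) L784978 L796913
theorem L796925 : sm gh N59544 = N60718 := rfl
theorem L796927 : sm ga N60718 = N59972 := ded_17_1 L790332 (flp_a L784990) L796925
theorem L796929 : sm gc N60718 = N59546 := ded_32_1 (flp_h L785020) (flp_c L784998) L796925
theorem L796931 : sm ge N60718 = N59965 := ded_43_1 L790251 (flp_e L785000) L796925
theorem L796933 : sm gg N60718 = N60052 := ded_50_1 L791146 (flp_g L784992) L796925
theorem L796935 : sm gj N60718 = N60028 := ded_52_1 L790857 (flp_j L784994) L796925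
theorem L796937 : sm gd N60718 = N59789 := ded_38_1 (flp_h L788208) (flp_d L776249) (flp_h L773401) L784988 L796925
theorem L796939 : sm gc N59545 = N60719 := rfl
theorem L796941 : sm ga N60719 = N59882 := ded_11_1 L789397 (flp_a L785004) L796939
theorem L796943 : sm ge N60719 = N59878 := ded_28_2 (flp_c L789353) (flp_e L785016) L796939
theorem L796945 : sm gf N60719 = N60537 := ded_29_2 L795540 (flp_f L785008) L796939
theorem L796947 : sm gg N60719 = N59838 := ded_30_2 L788868 (flp_g L785010) L796939
theorem L796949 : sm gj N60719 = N59939 := ded_31_2 L790003 (flp_j L785012) L796939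
theorem L796951 : sm gh N60719 = N60111 := ded_32_2 L791786 (flp_h L785018) L796939
theorem L796953 : sm gi N60719 = N59960 := ded_33_2 L790201 (flp_i L785014) L796939
theorem L796955 : sm gd N60719 = N60001 := ded_27_2 L790576 L778421 (flp_c L773417) L785002 L796939
theorem L796957 : sm gi N59546 = N60720 := rfl
theorem L796959 : sm ga N60720 = N59970 := ded_18_1 L790308 (flp_a L785022) L796957
theorem L796961 : sm gb N60720 = N60085 := ded_26_1 L791504 (flp_b L785024) L796957
theorem L796963 : sm gd N60720 = N59547 := ded_39_1 (flp_i L785034) (flp_d L785032) L796957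
theorem L796965 : sm ge N60720 = N59633 := ded_44_1 L786205 (flp_e L785026) L796957
theorem L796967 : sm gg N60720 = N59637 := ded_51_1 L786263 (flp_g L785028) L796957
theorem L796969 : sm gj N60720 = N59811 := ded_53_1 L788534 (flp_j L785030) L796957
theorem L796971 : sm gh N60720 = N60522 := ded_54_1 L795446 L783276 (flp_i L773437) L785020 L796957
theorem L796973 : sm gc N59548 = N60721 := rfl
theorem L796975 : sm ga N60721 = N59698 := ded_11_1 (flp_c L787065) (flp_a L785051) L796973
theorem L796977 : sm gf N60721 = N59549 := ded_29_2 (flp_c L785065) (flp_f L785055) L796973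
theorem L796979 : sm gg N60721 = N59980 := ded_30_2 (flp_c L790420) (flp_g L785057) L796973
theorem L796981 : sm gj N60721 = N59558 := ded_31_2 (flp_c L785194) (flp_j L785059) L796973
theorem L796983 : sm gh N60721 = N59567 := ded_32_2 (flp_c L785326) (flp_h L785063) L796973
theorem L796985 : sm gi N60721 = N59657 := ded_33_2 (flp_c L786546) (flp_i L785061) L796973
theorem L796987 : sm gd N60721 = N60277 := ded_27_2 (flp_c L793348) (flp_d L780988) (flp_c L773461) L785049 L796973
theorem L796989 : sm ge N59548 = N60722 := rfl
theorem L796991 : sm ga N60722 = N59699 := ded_13_1 (flp_e L787075) (flp_a L785051) L796989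
theorem L796993 : sm gb N60722 = N60025 := ded_21_1 (flp_e L790822) (flp_b L785053) L796989
theorem L796995 : sm gg N60722 = N59981 := ded_41_2 (flp_e L790428) (flp_g L785057) L796989
theorem L796997 : sm gj N60722 = N59559 := ded_42_2 (flp_e L785206) (flp_j L785059) L796989
theorem L796999 : sm gh N60722 = N59568 := ded_43_2 (flp_e L785338) (flp_h L785063) L796989
theorem L797001 : sm gi N60722 = N59658 := ded_44_2 (flp_e L786560) (flp_i L785061) L796989
theorem L797003 : sm gd N60722 = N60722 := ded_34_1 (flp_e L796989) (flp_d L785049) L773463 L785049 L796989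
theorem L797004 : sm gf N60722 = N59678 := ded_40_2 (flp_e L786844) L775114 (flp_e L773484) (flp_f L785055) L796989
theorem L797006 : sm gb N59549 = N60723 := rfl
theorem L797008 : sm gd N60723 = N60685 := ded_20_2 (flp_b L796499) (flp_d L785079) L797006
theorem L797010 : sm ge N60723 = N59679 := ded_21_2 (flp_b L786857) (flp_e L785069) L797006
theorem L797012 : sm gg N60723 = N59649 := ded_23_2 (flp_b L786431) (flp_g L785071) L797006
theorem L797014 : sm gj N60723 = N59560 := ded_24_2 (flp_b L785221) (flp_j L785073) L797006
theorem L797016 : sm gh N60723 = N59569 := ded_25_2 (flp_b L785352) (flp_h L785075) L797006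
theorem L797018 : sm gi N60723 = N59659 := ded_26_2 (flp_b L786573) (flp_i L785077) L797006
theorem L797020 : sm gc N60723 = N60026 := ded_19_2 (flp_b L790833) (flp_c L778728) (flp_b L773476) L785065 L797006
theorem L797022 : sm gc N59550 = N60724 := rfl
theorem L797024 : sm ga N60724 = N60248 := ded_11_1 (flp_c L793109) (flp_a L785083) L797022
theorem L797026 : sm gf N60724 = N59908 := ded_29_2 (flp_c L789689) (flp_f L785087) L797022
theorem L797028 : sm gg N60724 = N59585 := ded_30_2 (flp_c L785563) (flp_g L785089) L797022
theorem L797030 : sm gj N60724 = N60105 := ded_31_2 (flp_c L791718) (flp_j L785091) L797022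
theorem L797032 : sm gh N60724 = N59910 := ded_32_2 (flp_c L789704) (flp_h L785095) L797022
theorem L797034 : sm gi N60724 = N60369 := ded_33_2 (flp_c L794214) (flp_i L785093) L797022
theorem L797036 : sm gd N60724 = N59591 := ded_27_2 (flp_c L785645) (flp_d L773953) (flp_c L773494) L785081 L797022
theorem L797038 : sm ge N59550 = N60725 := rfl
theorem L797040 : sm ga N60725 = N60249 := ded_13_1 (flp_e L793119) (flp_a L785083) L797038
theorem L797042 : sm gb N60725 = N59556 := ded_21_1 (flp_e L785170) (flp_b L785085) L797038
theorem L797044 : sm gg N60725 = N59586 := ded_41_2 (flp_e L785577) (flp_g L785089) L797038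
theorem L797046 : sm gj N60725 = N60106 := ded_42_2 (flp_e L791728) (flp_j L785091) L797038
theorem L797048 : sm gh N60725 = N59911 := ded_43_2 (flp_e L789714) (flp_h L785095) L797038
theorem L797050 : sm gi N60725 = N60370 := ded_44_2 (flp_e L794224) (flp_i L785093) L797038
theorem L797052 : sm gd N60725 = N59552 := ded_34_1 (flp_e L785113) (flp_d L773506) (flp_e L773496) L785081 L797038
theorem L797054 : sm ge N59551 = N60726 := rfl
theorem L797056 : sm ga N60726 = N60213 := ded_13_1 (flp_e L792760) (flp_a L785099) L797054
theorem L797058 : sm gb N60726 = N59684 := ded_21_1 (flp_e L786916) (flp_b L785109) L797054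
theorem L797060 : sm gc N60726 = N59552 := ded_28_1 (flp_e L785113) L785097 L797054
theorem L797062 : sm gg N60726 = N59619 := ded_41_2 (flp_e L785986) (flp_g L785102) L797054
theorem L797064 : sm gj N60726 = N60131 := ded_42_2 (flp_e L791977) (flp_j L785104) L797054
theorem L797066 : sm gh N60726 = N60726 := ded_43_2 (flp_e L797054) L785106 L797054
theorem L797067 : sm gi N60726 = N60321 := ded_44_2 (flp_e L793692) (flp_i L785107) L797054
theorem L797069 : sm gf N59552 = N60727 := rfl
theorem L797071 : sm ga N60727 = N60316 := ded_14_1 (flp_f L793647) (flp_a L785115) L797069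
theorem L797073 : sm gb N60727 = N59557 := ded_22_1 (flp_f L785182) (flp_b L785117) L797069
theorem L797075 : sm gj N60727 = N59693 := ded_46_2 L787015 (flp_j L785121) L797069
theorem L797077 : sm gh N60727 = N60727 := ded_47_2 (flp_f L797069) L785123 L797069
theorem L797078 : sm gi N60727 = N60336 := ded_48_2 L793846 (flp_i L785124) L797069
theorem L797080 : sm ge N60727 = N60727 := ded_40_1 (flp_f L797069) (flp_e L785113) L773512 L785113 L797069
theorem L797081 : sm gc N59553 = N60728 := rfl
theorem L797083 : sm ga N60728 = N60416 := ded_11_1 (flp_c L794644) (flp_a L785128) L797081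
theorem L797085 : sm gf N60728 = N59903 := ded_29_2 (flp_c L789638) (flp_f L785132) L797081
theorem L797087 : sm gg N60728 = N60294 := ded_30_2 L793485 (flp_g L785134) L797081
theorem L797089 : sm gj N60728 = N60644 := ded_31_2 (flp_c L796219) (flp_j L785136) L797081
theorem L797091 : sm gh N60728 = N59555 := ded_32_2 (flp_c L785158) (flp_h L785140) L797081
theorem L797093 : sm gi N60728 = N60151 := ded_33_2 (flp_c L792184) (flp_i L785138) L797081
theorem L797095 : sm gd N60728 = N59571 := ded_27_2 (flp_c L785378) (flp_d L773724) (flp_c L773526) L785126 L797081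
theorem L797097 : sm ge N59553 = N60729 := rfl
theorem L797099 : sm ga N60729 = N60417 := ded_13_1 (flp_e L794652) (flp_a L785128) L797097
theorem L797101 : sm gb N60729 = N59911 := ded_21_1 (flp_e L789714) (flp_b L785130) L797097
theorem L797103 : sm gg N60729 = N60339 := ded_41_2 (flp_e L793867) (flp_g L785134) L797097
theorem L797105 : sm gj N60729 = N60645 := ded_42_2 (flp_e L796227) (flp_j L785136) L797097
theorem L797107 : sm gh N60729 = N59556 := ded_43_2 (flp_e L785170) (flp_h L785140) L797097
theorem L797109 : sm gi N60729 = N60152 := ded_44_2 (flp_e L792192) (flp_i L785138) L797097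
theorem L797111 : sm gd N60729 = N60729 := ded_34_1 (flp_e L797097) (flp_d L785126) L773528 L785126 L797097
theorem L797112 : sm gc N59554 = N60730 := rfl
theorem L797114 : sm ga N60730 = N60163 := ded_11_1 (flp_c L792303) (flp_a L785144) L797112
theorem L797116 : sm gf N60730 = N59555 := ded_29_2 (flp_c L785158) (flp_f L785148) L797112
theorem L797118 : sm gg N60730 = N60072 := ded_30_2 (flp_c L791341) (flp_g L785150) L797112
theorem L797120 : sm gj N60730 = N60277 := ded_31_2 (flp_c L793348) (flp_j L785152) L797112
theorem L797122 : sm gh N60730 = N59903 := ded_32_2 (flp_c L789638) (flp_h L785156) L797112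
theorem L797124 : sm gi N60730 = N60275 := ded_33_2 (flp_c L793327) (flp_i L785154) L797112
theorem L797126 : sm gd N60730 = N59558 := ded_27_2 (flp_c L785194) (flp_d L773577) (flp_c L773543) L785142 L797112
theorem L797128 : sm ge N59554 = N60731 := rfl
theorem L797130 : sm ga N60731 = N60164 := ded_13_1 (flp_e L792313) (flp_a L785144) L797128
theorem L797132 : sm gb N60731 = N59909 := ded_21_1 (flp_e L789697) (flp_b L785146) L797128
theorem L797134 : sm gg N60731 = N60073 := ded_41_2 (flp_e L791353) (flp_g L785150) L797128
theorem L797136 : sm gj N60731 = N60278 := ded_42_2 (flp_e L793356) (flp_j L785152) L797128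
theorem L797138 : sm gh N60731 = N59904 := ded_43_2 (flp_e L789646) (flp_h L785156) L797128
theorem L797140 : sm gi N60731 = N60276 := ded_44_2 (flp_e L793339) (flp_i L785154) L797128
theorem L797142 : sm gd N60731 = N60731 := ded_34_1 (flp_e L797128) (flp_d L785142) L773545 L785142 L797128
theorem L797143 : sm gb N59555 = N60732 := rfl
theorem L797145 : sm gd N60732 = N59560 := ded_20_2 (flp_b L785221) (flp_d L785168) L797143
theorem L797147 : sm gg N60732 = N60356 := ded_23_2 (flp_b L794082) (flp_g L785162) L797143
theorem L797149 : sm gj N60732 = N60685 := ded_24_2 (flp_b L796499) (flp_j L785164) L797143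
theorem L797151 : sm gi N60732 = N60371 := ded_26_2 (flp_b L794238) (flp_i L785166) L797143
theorem L797153 : sm ge N59555 = N60733 := rfl
theorem L797155 : sm ga N60733 = N60419 := ded_13_1 (flp_e L794667) (flp_a L785160) L797153
theorem L797157 : sm gc N60733 = N59556 := ded_28_1 (flp_e L785170) L785158 L797153
theorem L797159 : sm gg N60733 = N60357 := ded_41_2 (flp_e L794092) (flp_g L785162) L797153
theorem L797161 : sm gj N60733 = N60686 := ded_42_2 (flp_e L796505) (flp_j L785164) L797153
theorem L797163 : sm gi N60733 = N60372 := ded_44_2 (flp_e L794248) (flp_i L785166) L797153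
theorem L797165 : sm gd N60733 = N59691 := ded_34_1 (flp_e L786987) L775219 (flp_e L773595) (flp_d L785168) L797153
theorem L797167 : sm gf N59556 = N60734 := rfl
theorem L797169 : sm ga N60734 = N60420 := ded_14_1 (flp_f L794677) (flp_a L785172) L797167
theorem L797171 : sm gd N60734 = N59557 := ded_35_1 (flp_f L785182) (flp_d L785180) L797167
theorem L797173 : sm gj N60734 = N60687 := ded_46_2 (flp_f L796513) (flp_j L785176) L797167
theorem L797175 : sm gi N60734 = N60373 := ded_48_2 (flp_f L794262) (flp_i L785178) L797167
theorem L797177 : sm gg N59557 = N60735 := rfl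
theorem L797179 : sm ga N60735 = N60318 := ded_15_1 L793673 (flp_a L785184) L797177
theorem L797181 : sm gc N60735 = N59693 := ded_30_1 (flp_g L787005) (flp_c L785186) L797177
theorem L797183 : sm ge N60735 = N60735 := ded_41_1 (flp_g L797177) L785193 L797177
theorem L797184 : sm gh N60735 = N60735 := ded_50_2 (flp_g L797177) L785190 L797177
theorem L797185 : sm gi N60735 = N60337 := ded_51_2 L793859 (flp_i L785191) L797177
theorem L797187 : sm gf N60735 = N60131 := ded_45_1 L791983 L779785 (flp_g L773570) L785182 L797177
theorem L797189 : sm gb N59558 = N60736 := rfl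
theorem L797191 : sm gf N60736 = N59560 := ded_22_2 (flp_b L785221) (flp_f L785198) L797189
theorem L797193 : sm gg N60736 = N60078 := ded_23_2 (flp_b L791417) (flp_g L785200) L797189
theorem L797195 : sm gh N60736 = N59576 := ded_25_2 (flp_b L785437) (flp_h L785202) L797189
theorem L797197 : sm gi N60736 = N60374 := ded_26_2 (flp_b L794272) (flp_i L785204) L797189
theorem L797199 : sm gc N60736 = N60030 := ded_19_2 (flp_b L790871) (flp_c L778769) (flp_b L773581) L785194 L797189
theorem L797201 : sm ge N59558 = N60737 := rfl
theorem L797203 : sm ga N60737 = N60173 := ded_13_1 (flp_e L792369) (flp_a L785196) L797201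
theorem L797205 : sm gc N60737 = N59559 := ded_28_1 (flp_e L785206) L785194 L797201
theorem L797207 : sm gg N60737 = N60079 := ded_41_2 (flp_e L791423) (flp_g L785200) L797201
theorem L797209 : sm gh N60737 = N59577 := ded_43_2 (flp_e L785449) (flp_h L785202) L797201
theorem L797211 : sm gi N60737 = N60375 := ded_44_2 (flp_e L794276) (flp_i L785204) L797201
theorem L797213 : sm gf N60737 = N59695 := ded_40_2 (flp_e L787029) L775241 (flp_e L773595) (flp_f L785198) L797201
theorem L797215 : sm ga N59560 = N60738 := rfl
theorem L797217 : sm gc N60738 = N60032 := ded_11_2 (flp_a L790887) (flp_c L785231) L797215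
theorem L797219 : sm ge N60738 = N59696 := ded_13_2 (flp_a L787039) (flp_e L785223) L797215
theorem L797221 : sm gg N60738 = N60358 := ded_15_2 (flp_a L794104) (flp_g L785225) L797215
theorem L797223 : sm gh N60738 = N59578 := ded_17_2 (flp_a L785461) (flp_h L785227) L797215
theorem L797225 : sm gi N60738 = N60376 := ded_18_2 (flp_a L794284) (flp_i L785229) L797215
theorem L797227 : sm gb N60738 = N60421 := ded_10_2 (flp_a L794683) (flp_b L782491) (flp_a L773593) L785221 L797215
theorem L797229 : sm gb N59561 = N60739 := rfl
theorem L797231 : sm gd N60739 = N60463 := ded_20_2 (flp_b L795023) (flp_d L785249) L797229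
theorem L797233 : sm ge N60739 = N59700 := ded_21_2 (flp_b L787088) (flp_e L785237) L797229
theorem L797235 : sm gf N60739 = N60547 := ded_22_2 (flp_b L795608) (flp_f L785239) L797229
theorem L797237 : sm gg N60739 = N59569 := ded_23_2 (flp_b L785352) (flp_g L785241) L797229
theorem L797239 : sm gj N60739 = N59648 := ded_24_2 (flp_b L786417) (flp_j L785243) L797229
theorem L797241 : sm gh N60739 = N59649 := ded_25_2 (flp_b L786431) (flp_h L785245) L797229
theorem L797243 : sm gi N60739 = N59584 := ded_26_2 (flp_b L785547) (flp_i L785247) L797229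
theorem L797245 : sm gc N60739 = N60035 := ded_19_2 (flp_b L790926) (flp_c L778808) (flp_b L773607) L785233 L797229
theorem L797247 : sm gc N59562 = N60740 := rfl
theorem L797249 : sm ga N60740 = N60151 := ded_11_1 (flp_c L792184) (flp_a L785253) L797247
theorem L797251 : sm gf N60740 = N60146 := ded_29_2 (flp_c L792119) (flp_f L785257) L797247
theorem L797253 : sm gg N60740 = N60426 := ded_30_2 (flp_c L794732) (flp_g L785259) L797247
theorem L797255 : sm gj N60740 = N59571 := ded_31_2 (flp_c L785378) (flp_j L785261) L797247
theorem L797257 : sm gh N60740 = N59563 := ded_32_2 (flp_c L785267) (flp_h L785265) L797247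
theorem L797259 : sm gi N60740 = N60416 := ded_33_2 (flp_c L794644) (flp_i L785263) L797247
theorem L797261 : sm gd N60740 = N60644 := ded_27_2 (flp_c L796219) (flp_d L784168) (flp_c L773627) L785251 L797247
theorem L797263 : sm ge N59562 = N60741 := rfl
theorem L797265 : sm ga N60741 = N60152 := ded_13_1 (flp_e L792192) (flp_a L785253) L797263
theorem L797267 : sm gb N60741 = N60381 := ded_21_1 (flp_e L794326) (flp_b L785255) L797263
theorem L797269 : sm gg N60741 = N60427 := ded_41_2 (flp_e L794744) (flp_g L785259) L797263
theorem L797271 : sm gj N60741 = N59572 := ded_42_2 (flp_e L785388) (flp_j L785261) L797263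
theorem L797273 : sm gh N60741 = N59564 := ded_43_2 (flp_e L785281) (flp_h L785265) L797263
theorem L797275 : sm gi N60741 = N60417 := ded_44_2 (flp_e L794652) (flp_i L785263) L797263
theorem L797277 : sm gd N60741 = N60741 := ded_34_1 (flp_e L797263) (flp_d L785251) L773629 L785251 L797263
theorem L797278 : sm gb N59563 = N60742 := rfl
theorem L797280 : sm gd N60742 = N59569 := ded_20_2 (flp_b L785352) (flp_d L785279) L797278
theorem L797282 : sm gf N60742 = N60377 := ded_22_2 (flp_b L794292) (flp_f L785271) L797278
theorem L797284 : sm gg N60742 = N60463 := ded_23_2 (flp_b L795023) (flp_g L785273) L797278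
theorem L797286 : sm gj N60742 = N59573 := ded_24_2 (flp_b L785399) (flp_j L785275) L797278
theorem L797288 : sm gi N60742 = N59587 := ded_26_2 (flp_b L785591) (flp_i L785277) L797278
theorem L797290 : sm gc N60742 = N60385 := ded_19_2 (flp_b L794369) (flp_c L782136) (flp_b L773642) L785267 L797278
theorem L797292 : sm ge N59563 = N60743 := rfl
theorem L797294 : sm ga N60743 = N60656 := ded_13_1 (flp_e L796300) (flp_a L785269) L797292
theorem L797296 : sm gc N60743 = N59564 := ded_28_1 (flp_e L785281) L785267 L797292
theorem L797298 : sm gg N60743 = N60464 := ded_41_2 (flp_e L795029) (flp_g L785273) L797292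
theorem L797300 : sm gj N60743 = N59574 := ded_42_2 (flp_e L785411) (flp_j L785275) L797292
theorem L797302 : sm gi N60743 = N59588 := ded_44_2 (flp_e L785603) (flp_i L785277) L797292
theorem L797304 : sm gd N60743 = N59706 := ded_34_1 (flp_e L787167) L775362 (flp_e L773701) (flp_d L785279) L797292
theorem L797306 : sm gf N59564 = N60744 := rfl
theorem L797308 : sm ga N60744 = N60411 := ded_14_1 L794600 (flp_a L785283) L797306
theorem L797310 : sm gb N60744 = N60094 := ded_22_1 L791597 (flp_b L785285) L797306
theorem L797312 : sm gd N60744 = N59565 := ded_35_1 (flp_f L785295) (flp_d L785293) L797306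
theorem L797314 : sm gj N60744 = N59575 := ded_46_2 (flp_f L785423) (flp_j L785289) L797306
theorem L797316 : sm gi N60744 = N59589 := ded_48_2 (flp_f L785617) (flp_i L785291) L797306
theorem L797318 : sm ge N60744 = N60379 := ded_40_1 (flp_f L794304) (flp_e L782080) (flp_f L773644) L785281 L797306
theorem L797320 : sm gg N59565 = N60745 := rfl
theorem L797322 : sm ga N60745 = N59684 := ded_15_1 L786920 (flp_a L785297) L797320
theorem L797324 : sm gb N60745 = N60092 := ded_23_1 L791578 (flp_b L785299) L797320
theorem L797326 : sm gc N60745 = N59681 := ded_30_1 L786891 (flp_c L785301) L797320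
theorem L797328 : sm ge N60745 = N59579 := ded_41_1 (flp_g L785473) (flp_e L785308) L797320
theorem L797330 : sm gh N60745 = N60745 := ded_50_2 (flp_g L797320) L785305 L797320
theorem L797331 : sm gi N60745 = N59590 := ded_51_2 (flp_g L785629) (flp_i L785306) L797320
theorem L797333 : sm gf N60745 = N60507 := ded_45_1 (flp_g L795320) (flp_f L783140) (flp_g L773660) L785295 L797320
theorem L797335 : sm gj N60745 = N59905 := ded_49_2 L789660 L781346 (flp_g L773773) (flp_j L785303) L797320
theorem L797337 : sm gc N59566 = N60746 := rfl
theorem L797339 : sm ga N60746 = N60187 := ded_11_1 (flp_c L792507) (flp_a L785312) L797337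
theorem L797341 : sm gf N60746 = N59933 := ded_29_2 (flp_c L789953) (flp_f L785316) L797337
theorem L797343 : sm gg N60746 = N59567 := ded_30_2 (flp_c L785326) (flp_g L785318) L797337
theorem L797345 : sm gj N60746 = N60084 := ded_31_2 (flp_c L791488) (flp_j L785320) L797337
theorem L797347 : sm gh N60746 = N59980 := ded_32_2 (flp_c L790420) (flp_h L785324) L797337
theorem L797349 : sm gi N60746 = N59591 := ded_33_2 (flp_c L785645) (flp_i L785322) L797337
theorem L797351 : sm gd N60746 = N60369 := ded_27_2 (flp_c L794214) (flp_d L781998) (flp_c L773673) L785310 L797337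
theorem L797353 : sm ge N59566 = N60747 := rfl
theorem L797355 : sm ga N60747 = N60188 := ded_13_1 (flp_e L792517) (flp_a L785312) L797353
theorem L797357 : sm gb N60747 = N59811 := ded_21_1 (flp_e L788528) (flp_b L785314) L797353
theorem L797359 : sm gg N60747 = N59568 := ded_41_2 (flp_e L785338) (flp_g L785318) L797353
theorem L797361 : sm gj N60747 = N60085 := ded_42_2 (flp_e L791498) (flp_j L785320) L797353
theorem L797363 : sm gh N60747 = N59981 := ded_43_2 (flp_e L790428) (flp_h L785324) L797353
theorem L797365 : sm gi N60747 = N59592 := ded_44_2 (flp_e L785657) (flp_i L785322) L797353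
theorem L797367 : sm gd N60747 = N59581 := ded_34_1 (flp_e L785505) (flp_d L773826) (flp_e L773675) L785310 L797353
theorem L797369 : sm gb N59567 = N60748 := rfl
theorem L797371 : sm gd N60748 = N60377 := ded_20_2 (flp_b L794292) (flp_d L785336) L797369
theorem L797373 : sm gf N60748 = N59569 := ded_22_2 (flp_b L785352) (flp_f L785330) L797369
theorem L797375 : sm gj N60748 = N59576 := ded_24_2 (flp_b L785437) (flp_j L785332) L797369
theorem L797377 : sm gi N60748 = N59593 := ded_26_2 (flp_b L785671) (flp_i L785334) L797369
theorem L797379 : sm gc N60748 = N60036 := ded_19_2 (flp_b L790938) (flp_c L778822) (flp_b L773689) L785326 L797369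
theorem L797381 : sm ge N59567 = N60749 := rfl
theorem L797383 : sm ga N60749 = N60205 := ded_13_1 (flp_e L792685) (flp_a L785328) L797381
theorem L797385 : sm gc N60749 = N59568 := ded_28_1 (flp_e L785338) L785326 L797381
theorem L797387 : sm gj N60749 = N59577 := ded_42_2 (flp_e L785449) (flp_j L785332) L797381
theorem L797389 : sm gi N60749 = N59594 := ded_44_2 (flp_e L785679) (flp_i L785334) L797381
theorem L797391 : sm gf N60749 = N59711 := ded_40_2 (flp_e L787231) L775403 (flp_e L773701) (flp_f L785330) L797381
theorem L797393 : sm ga N59569 = N60750 := rfl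
theorem L797395 : sm gc N60750 = N60038 := ded_11_2 (flp_a L790962) (flp_c L785360) L797393
theorem L797397 : sm ge N60750 = N59712 := ded_13_2 (flp_a L787241) (flp_e L785354) L797393
theorem L797399 : sm gj N60750 = N59578 := ded_16_2 (flp_a L785461) (flp_j L785356) L797393
theorem L797401 : sm gi N60750 = N59595 := ded_18_2 (flp_a L785691) (flp_i L785358) L797393
theorem L797403 : sm gb N60750 = N60660 := ded_10_2 (flp_a L796332) (flp_b L784278) (flp_a L773699) L785352 L797393
theorem L797405 : sm gc N59570 = N60751 := rfl
theorem L797407 : sm ga N60751 = N60644 := ded_11_1 (flp_c L796219) (flp_a L785364) L797405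
theorem L797409 : sm gf N60751 = N59682 := ded_29_2 (flp_c L786898) (flp_f L785368) L797405
theorem L797411 : sm gg N60751 = N59703 := ded_30_2 (flp_c L787130) (flp_g L785370) L797405
theorem L797413 : sm gj N60751 = N60416 := ded_31_2 (flp_c L794644) (flp_j L785372) L797405
theorem L797415 : sm gh N60751 = N59604 := ded_32_2 (flp_c L785820) (flp_h L785376) L797405
theorem L797417 : sm gi N60751 = N59571 := ded_33_2 (flp_c L785378) (flp_i L785374) L797405
theorem L797419 : sm gd N60751 = N60151 := ded_27_2 (flp_c L792184) (flp_d L779984) (flp_c L773713) L785362 L797405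
theorem L797421 : sm ge N59570 = N60752 := rfl
theorem L797423 : sm ga N60752 = N60645 := ded_13_1 (flp_e L796227) (flp_a L785364) L797421
theorem L797425 : sm gb N60752 = N59689 := ded_21_1 (flp_e L786970) (flp_b L785366) L797421
theorem L797427 : sm gg N60752 = N59704 := ded_41_2 (flp_e L787142) (flp_g L785370) L797421
theorem L797429 : sm gj N60752 = N60417 := ded_42_2 (flp_e L794652) (flp_j L785372) L797421
theorem L797431 : sm gh N60752 = N59605 := ded_43_2 (flp_e L785832) (flp_h L785376) L797421
theorem L797433 : sm gi N60752 = N59572 := ded_44_2 (flp_e L785388) (flp_i L785374) L797421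
theorem L797435 : sm gd N60752 = N60752 := ded_34_1 (flp_e L797421) (flp_d L785362) L773715 L785362 L797421
theorem L797436 : sm gb N59571 = N60753 := rfl
theorem L797438 : sm gf N60753 = N60392 := ded_22_2 (flp_b L794439) (flp_f L785382) L797436
theorem L797440 : sm gg N60753 = N60293 := ded_23_2 L793475 (flp_g L785384) L797436
theorem L797442 : sm gh N60753 = N59573 := ded_25_2 (flp_b L785399) (flp_h L785386) L797436
theorem L797444 : sm gc N60753 = N60398 := ded_19_2 (flp_b L794487) (flp_c L782250) (flp_b L773728) L785378 L797436
theorem L797446 : sm ge N59571 = N60754 := rfl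
theorem L797448 : sm ga N60754 = N60647 := ded_13_1 (flp_e L796242) (flp_a L785380) L797446
theorem L797450 : sm gc N60754 = N59572 := ded_28_1 (flp_e L785388) L785378 L797446
theorem L797452 : sm gg N60754 = N60287 := ded_41_2 L793421 (flp_g L785384) L797446
theorem L797454 : sm gh N60754 = N59574 := ded_43_2 (flp_e L785411) (flp_h L785386) L797446
theorem L797456 : sm gf N59572 = N60755 := rfl
theorem L797458 : sm ga N60755 = N60648 := ded_14_1 (flp_f L796250) (flp_a L785390) L797456
theorem L797460 : sm gb N60755 = N60095 := ded_22_1 L791611 (flp_b L785392) L797456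
theorem L797462 : sm gd N60755 = N60755 := ded_35_1 (flp_f L797456) L785398 L797456
theorem L797463 : sm gh N60755 = N59575 := ded_47_2 (flp_f L785423) (flp_h L785396) L797456
theorem L797465 : sm ge N60755 = N60394 := ded_40_1 (flp_f L794455) (flp_e L782220) (flp_f L773730) L785388 L797456
theorem L797467 : sm gg N60755 = N60281 := ded_45_2 (flp_f L793379) L781006 L781034 (flp_g L785394) L797456
theorem L797469 : sm ga N59573 = N60756 := rfl
theorem L797471 : sm gc N60756 = N60403 := ded_11_2 (flp_a L794533) (flp_c L785409) L797469
theorem L797473 : sm gd N60756 = N59578 := ded_12_2 (flp_a L785461) (flp_d L785401) L797469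
theorem L797475 : sm gf N60756 = N60395 := ded_14_2 (flp_a L794465) (flp_f L785403) L797469
theorem L797477 : sm gg N60756 = N60305 := ded_15_2 L793573 (flp_g L785405) L797469
theorem L797479 : sm gi N60756 = N59612 := ded_18_2 (flp_a L785916) (flp_i L785407) L797469
theorem L797481 : sm gb N60756 = N60657 := ded_10_2 (flp_a L796310) (flp_b L784242) (flp_a L773738) L785399 L797469
theorem L797483 : sm ge N59573 = N60757 := rfl
theorem L797485 : sm gb N60757 = N59574 := ded_21_1 (flp_e L785411) L785399 L797483
theorem L797487 : sm gc N60757 = N60404 := ded_28_1 (flp_e L794541) (flp_c L785409) L797483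
theorem L797489 : sm gg N60757 = N60303 := ded_41_2 L793561 (flp_g L785405) L797483
theorem L797491 : sm gi N60757 = N59613 := ded_44_2 (flp_e L785924) (flp_i L785407) L797483
theorem L797493 : sm gd N60757 = N59725 := ded_34_1 (flp_e L787412) L775538 (flp_e L773803) (flp_d L785401) L797483
theorem L797495 : sm gf N59574 = N60758 := rfl
theorem L797497 : sm ga N60758 = N60643 := ded_14_1 L796213 (flp_a L785413) L797495
theorem L797499 : sm gc N60758 = N59575 := ded_29_1 (flp_f L785423) (flp_c L785415) L797495
theorem L797501 : sm gd N60758 = N59726 := ded_35_1 (flp_f L787420) (flp_d L785421) L797495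
theorem L797503 : sm gi N60758 = N59614 := ded_48_2 (flp_f L785932) (flp_i L785419) L797495
theorem L797505 : sm ge N60758 = N60397 := ded_40_1 (flp_f L794479) (flp_e L782236) (flp_f L773740) L785411 L797495
theorem L797507 : sm gg N60758 = N60300 := ded_45_2 (flp_f L793531) L781123 L781151 (flp_g L785417) L797495
theorem L797509 : sm ga N59576 = N60759 := rfl
theorem L797511 : sm gc N60759 = N60039 := ded_11_2 (flp_a L790974) (flp_c L785447) L797509
theorem L797513 : sm gd N60759 = N60395 := ded_12_2 (flp_a L794465) (flp_d L785439) L797509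
theorem L797515 : sm gf N60759 = N59578 := ded_14_2 (flp_a L785461) (flp_f L785441) L797509
theorem L797517 : sm gg N60759 = N60089 := ded_15_2 (flp_a L791542) (flp_g L785443) L797509
theorem L797519 : sm gi N60759 = N59616 := ded_18_2 (flp_a L785956) (flp_i L785445) L797509
theorem L797521 : sm gb N60759 = N60206 := ded_10_2 (flp_a L792695) (flp_b L780423) (flp_a L773777) L785437 L797509
theorem L797523 : sm ge N59576 = N60760 := rfl
theorem L797525 : sm gb N60760 = N59577 := ded_21_1 (flp_e L785449) L785437 L797523
theorem L797527 : sm gc N60760 = N60040 := ded_28_1 (flp_e L790984) (flp_c L785447) L797523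
theorem L797529 : sm gg N60760 = N60090 := ded_41_2 (flp_e L791552) (flp_g L785443) L797523
theorem L797531 : sm gi N60760 = N59617 := ded_44_2 (flp_e L785966) (flp_i L785445) L797523
theorem L797533 : sm gf N60760 = N59732 := ded_40_2 (flp_e L787504) L775614 (flp_e L773803) (flp_f L785441) L797523
theorem L797535 : sm gd N59577 = N60761 := rfl
theorem L797537 : sm ga N60761 = N60208 := ded_12_1 (flp_d L792711) (flp_a L785451) L797535
theorem L797539 : sm gf N60761 = N59733 := ded_35_2 (flp_d L787512) (flp_f L785459) L797535
theorem L797541 : sm gg N60761 = N60091 := ded_36_2 (flp_d L791560) (flp_g L785455) L797535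
theorem L797543 : sm gi N60761 = N59618 := ded_39_2 (flp_d L785976) (flp_i L785457) L797535
theorem L797545 : sm gc N60761 = N59583 := ded_27_1 (flp_d L785533) L773874 (flp_d L773797) (flp_c L785453) L797535
theorem L797547 : sm ge N60761 = N60330 := ded_34_2 L793781 (flp_e L782236) (flp_d L773785) L785449 L797535
theorem L797549 : sm ge N59580 = N60762 := rfl
theorem L797551 : sm ga N60762 = N60212 := ded_13_1 (flp_e L792747) (flp_a L785491) L797549
theorem L797553 : sm gb N60762 = N59905 := ded_21_1 (flp_e L789656) (flp_b L785501) L797549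
theorem L797555 : sm gc N60762 = N59581 := ded_28_1 (flp_e L785505) L785489 L797549
theorem L797557 : sm gg N60762 = N59582 := ded_41_2 (flp_e L785518) (flp_g L785494) L797549
theorem L797559 : sm gj N60762 = N60092 := ded_42_2 (flp_e L791572) (flp_j L785496) L797549
theorem L797561 : sm gh N60762 = N60762 := ded_43_2 (flp_e L797549) L785498 L797549
theorem L797562 : sm gi N60762 = N59622 := ded_44_2 (flp_e L786032) (flp_i L785499) L797549
theorem L797564 : sm gf N60335 = N60762 := ded_45_5 L797557 L785531 L775657 (flp_f L781474) (flp_g L793836)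
theorem L797566 : sm gf N59581 = N60763 := rfl
theorem L797568 : sm ga N60763 = N60012 := ded_14_1 L790671 (flp_a L785507) L797566
theorem L797570 : sm gb N60763 = N59812 := ded_22_1 (flp_f L788538) (flp_b L785509) L797566
theorem L797572 : sm gc N60763 = N60335 := ded_29_1 L797564 L797555 L797566
theorem L797574 : sm gj N60763 = N60093 := ded_46_2 (flp_f L791583) (flp_j L785513) L797566
theorem L797576 : sm gh N60763 = N60763 := ded_47_2 (flp_f L797566) L785515 L797566
theorem L797577 : sm gi N60763 = N59623 := ded_48_2 (flp_f L786048) (flp_i L785516) L797566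
theorem L797579 : sm ge N60763 = N60763 := ded_40_1 (flp_f L797566) (flp_e L785505) L773832 L785505 L797566
theorem L797580 : sm gg N60763 = N59734 := ded_45_2 (flp_f L787524) L775642 (flp_f L773866) (flp_g L785511) L797566
theorem L797582 : sm gd N59582 = N60764 := rfl
theorem L797584 : sm ga N60764 = N60217 := ded_12_1 (flp_d L792802) (flp_a L785520) L797582
theorem L797586 : sm gb N60764 = N60297 := ded_20_1 L793509 (flp_b L785522) L797582
theorem L797588 : sm gf N60764 = N59735 := ded_35_2 (flp_d L787538) (flp_f L785531) L797582
theorem L797590 : sm gj N60764 = N59583 := ded_37_2 (flp_d L785533) (flp_j L785526) L797582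
theorem L797592 : sm gi N60764 = N59624 := ded_39_2 (flp_d L786063) (flp_i L785529) L797582
theorem L797594 : sm ge N60764 = N60324 := ded_34_2 (flp_d L793720) (flp_e L781312) (flp_d L773853) L785518 L797582
theorem L797596 : sm gh N59583 = N60765 := rfl
theorem L797598 : sm ga N60765 = N60218 := ded_17_1 (flp_h L792814) (flp_a L785535) L797596
theorem L797600 : sm gb N60765 = N60281 := ded_25_1 L793382 (flp_b L785537) L797596
theorem L797602 : sm ge N60765 = N60331 := ded_43_1 (flp_h L793783) (flp_e L785545) L797596
theorem L797604 : sm gf N60765 = N59736 := ded_47_1 (flp_h L787552) (flp_f L785539) L797596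
theorem L797606 : sm gg N60765 = N60095 := ded_50_1 (flp_h L791605) (flp_g L785541) L797596
theorem L797608 : sm gd N60765 = N60765 := ded_38_1 (flp_h L797596) (flp_d L785533) L773878 L785533 L797596
theorem L797609 : sm ga N59584 = N60766 := rfl
theorem L797611 : sm gc N60766 = N60044 := ded_11_2 (flp_a L791030) (flp_c L785561) L797609
theorem L797613 : sm gd N60766 = N60466 := ded_12_2 (flp_a L795045) (flp_d L785549) L797609
theorem L797615 : sm ge N60766 = N59742 := ded_13_2 (flp_a L787620) (flp_e L785551) L797609
theorem L797617 : sm gf N60766 = N60549 := ded_14_2 (flp_a L795622) (flp_f L785553) L797609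
theorem L797619 : sm gg N60766 = N59595 := ded_15_2 (flp_a L785691) (flp_g L785555) L797609
theorem L797621 : sm gj N60766 = N60350 := ded_16_2 (flp_a L794014) (flp_j L785557) L797609
theorem L797623 : sm gh N60766 = N60344 := ded_17_2 (flp_a L793938) (flp_h L785559) L797609
theorem L797625 : sm gb N60766 = N60678 := ded_10_2 (flp_a L796455) (flp_b L784429) (flp_a L773885) L785547 L797609
theorem L797627 : sm gb N59585 = N60767 := rfl
theorem L797629 : sm gd N60767 = N59593 := ded_20_2 (flp_b L785671) (flp_d L785575) L797627
theorem L797631 : sm gf N60767 = N59587 := ded_22_2 (flp_b L785591) (flp_f L785567) L797627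
theorem L797633 : sm gj N60767 = N59609 := ded_24_2 (flp_b L785880) (flp_j L785569) L797627
theorem L797635 : sm gh N60767 = N60446 := ded_25_2 (flp_b L794896) (flp_h L785571) L797627
theorem L797637 : sm gi N60767 = N60377 := ded_26_2 (flp_b L794292) (flp_i L785573) L797627
theorem L797639 : sm gc N60767 = N60356 := ded_19_2 (flp_b L794082) (flp_c L781825) (flp_b L773903) L785563 L797627
theorem L797641 : sm ge N59585 = N60768 := rfl
theorem L797643 : sm ga N60768 = N60296 := ded_13_1 (flp_e L793501) (flp_a L785565) L797641
theorem L797645 : sm gc N60768 = N59586 := ded_28_1 (flp_e L785577) L785563 L797641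
theorem L797647 : sm gj N60768 = N59610 := ded_42_2 (flp_e L785892) (flp_j L785569) L797641
theorem L797649 : sm gh N60768 = N60447 := ded_43_2 (flp_e L794902) (flp_h L785571) L797641
theorem L797651 : sm gi N60768 = N60378 := ded_44_2 (flp_e L794298) (flp_i L785573) L797641
theorem L797653 : sm gf N59586 = N60769 := rfl
theorem L797655 : sm ga N60769 = N60297 := ded_14_1 (flp_f L793507) (flp_a L785579) L797653
theorem L797657 : sm gb N60769 = N60132 := ded_22_1 L791992 (flp_b L785581) L797653
theorem L797659 : sm gd N60769 = N59620 := ded_35_1 (flp_f L786001) (flp_d L785589) L797653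
theorem L797661 : sm gj N60769 = N59611 := ded_46_2 (flp_f L785902) (flp_j L785583) L797653
theorem L797663 : sm gh N60769 = N60448 := ded_47_2 (flp_f L794906) (flp_h L785585) L797653
theorem L797665 : sm gi N60769 = N60379 := ded_48_2 (flp_f L794304) (flp_i L785587) L797653
theorem L797667 : sm ge N60769 = N59589 := ded_40_1 (flp_f L785617) (flp_e L773925) (flp_f L773905) L785577 L797653
theorem L797669 : sm ga N59587 = N60770 := rfl
theorem L797671 : sm gc N60770 = N60605 := ded_11_2 (flp_a L795981) (flp_c L785601) L797669
theorem L797673 : sm gd N60770 = N59595 := ded_12_2 (flp_a L785691) (flp_d L785593) L797669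
theorem L797675 : sm gg N60770 = N60466 := ded_15_2 (flp_a L795045) (flp_g L785595) L797669
theorem L797677 : sm gj N60770 = N59612 := ded_16_2 (flp_a L785916) (flp_j L785597) L797669
theorem L797679 : sm gh N60770 = N60449 := ded_17_2 (flp_a L794911) (flp_h L785599) L797669
theorem L797681 : sm gb N60770 = N60694 := ded_10_2 (flp_a L796559) (flp_b L784547) (flp_a L773915) L785591 L797669
theorem L797683 : sm ge N59587 = N60771 := rfl
theorem L797685 : sm gb N60771 = N59588 := ded_21_1 (flp_e L785603) L785591 L797683
theorem L797687 : sm gc N60771 = N60606 := ded_28_1 (flp_e L795987) (flp_c L785601) L797683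
theorem L797689 : sm gg N60771 = N60467 := ded_41_2 (flp_e L795051) (flp_g L785595) L797683
theorem L797691 : sm gj N60771 = N59613 := ded_42_2 (flp_e L785924) (flp_j L785597) L797683
theorem L797693 : sm gh N60771 = N60450 := ded_43_2 (flp_e L794917) (flp_h L785599) L797683
theorem L797695 : sm gd N60771 = N59749 := ded_34_1 (flp_e L787712) L775821 (flp_e L773991) (flp_d L785593) L797683
theorem L797697 : sm gf N59588 = N60772 := rfl
theorem L797699 : sm ga N60772 = N60672 := ded_14_1 L796405 (flp_a L785605) L797697
theorem L797701 : sm gc N60772 = N59589 := ded_29_1 (flp_f L785617) (flp_c L785607) L797697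
theorem L797703 : sm gd N60772 = N59750 := ded_35_1 (flp_f L787720) (flp_d L785615) L797697
theorem L797705 : sm gj N60772 = N59614 := ded_46_2 (flp_f L785932) (flp_j L785611) L797697
theorem L797707 : sm gh N60772 = N60451 := ded_47_2 (flp_f L794925) (flp_h L785613) L797697
theorem L797709 : sm gg N59589 = N60773 := rfl
theorem L797711 : sm ga N60773 = N60408 := ded_15_1 L794574 (flp_a L785619) L797709
theorem L797713 : sm gb N60773 = N60133 := ded_23_1 L792004 (flp_b L785621) L797709
theorem L797715 : sm gd N60773 = N59590 := ded_36_1 (flp_g L785629) (flp_d L785623) L797709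
theorem L797717 : sm gh N60773 = N60338 := ded_50_2 L793865 (flp_h L785627) L797709
theorem L797719 : sm gf N60773 = N60469 := ded_45_1 (flp_g L795067) (flp_f L782838) (flp_g L773931) L785617 L797709
theorem L797721 : sm gj N60773 = N60156 := ded_49_2 L792223 L785954 (flp_g L785940) (flp_j L785625) L797709
theorem L797723 : sm gb N59591 = N60774 := rfl
theorem L797725 : sm gf N60774 = N59935 := ded_22_2 (flp_b L789970) (flp_f L785649) L797723
theorem L797727 : sm gg N60774 = N59593 := ded_23_2 (flp_b L785671) (flp_g L785651) L797723
theorem L797729 : sm gj N60774 = N60110 := ded_24_2 (flp_b L791778) (flp_j L785653) L797723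
theorem L797731 : sm gh N60774 = N59938 := ded_25_2 (flp_b L789989) (flp_h L785655) L797723
theorem L797733 : sm gc N60774 = N60027 := ded_19_2 (flp_b L790841) (flp_c L778738) (flp_b L773957) L785645 L797723
theorem L797735 : sm ge N59591 = N60775 := rfl
theorem L797737 : sm ga N60775 = N60258 := ded_13_1 (flp_e L793197) (flp_a L785647) L797735
theorem L797739 : sm gc N60775 = N59592 := ded_28_1 (flp_e L785657) L785645 L797735
theorem L797741 : sm gg N60775 = N59594 := ded_41_2 (flp_e L785679) (flp_g L785651) L797735
theorem L797743 : sm gj N60775 = N60111 := ded_42_2 (flp_e L791782) (flp_j L785653) L797735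
theorem L797745 : sm gh N60775 = N59939 := ded_43_2 (flp_e L789999) (flp_h L785655) L797735
theorem L797747 : sm gf N59592 = N60776 := rfl
theorem L797749 : sm ga N60776 = N59992 := ded_14_1 L790518 (flp_a L785659) L797747
theorem L797751 : sm gb N60776 = N60029 := ded_22_1 (flp_f L790861) (flp_b L785661) L797747
theorem L797753 : sm gd N60776 = N59623 := ded_35_1 (flp_f L786048) (flp_d L785669) L797747
theorem L797755 : sm gj N60776 = N60112 := ded_46_2 (flp_f L791790) (flp_j L785665) L797747
theorem L797757 : sm gh N60776 = N59884 := ded_47_2 L789429 (flp_h L785667) L797747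
theorem L797759 : sm ge N60776 = N59937 := ded_40_1 (flp_f L789984) (flp_e L777944) (flp_f L773959) L785657 L797747
theorem L797761 : sm gg N60776 = N59756 := ded_45_2 (flp_f L787800) L775893 (flp_f L773987) (flp_g L785663) L797747
theorem L797763 : sm ga N59593 = N60777 := rfl
theorem L797765 : sm gc N60777 = N60046 := ded_11_2 (flp_a L791056) (flp_c L785677) L797763
theorem L797767 : sm gf N60777 = N59595 := ded_14_2 (flp_a L785691) (flp_f L785673) L797763
theorem L797769 : sm gj N60777 = N59616 := ded_16_2 (flp_a L785956) (flp_j L785675) L797763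
theorem L797771 : sm gb N60777 = N60306 := ded_10_2 (flp_a L793581) (flp_b L781183) (flp_a L773969) L785671 L797763
theorem L797773 : sm ge N59593 = N60778 := rfl
theorem L797775 : sm gb N60778 = N59594 := ded_21_1 (flp_e L785679) L785671 L797773
theorem L797777 : sm gc N60778 = N60047 := ded_28_1 (flp_e L791064) (flp_c L785677) L797773
theorem L797779 : sm gj N60778 = N59617 := ded_42_2 (flp_e L785966) (flp_j L785675) L797773
theorem L797781 : sm gh N60778 = N60544 := ded_43_2 (flp_e L796633) L796641 L797773
theorem L797783 : sm gf N60778 = N59758 := ded_40_2 (flp_e L787826) L775903 (flp_e L773991) (flp_f L785673) L797773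
theorem L797785 : sm gd N59594 = N60779 := rfl
theorem L797787 : sm ga N60779 = N60308 := ded_12_1 (flp_d L793597) (flp_a L785681) L797785
theorem L797789 : sm gf N60779 = N59759 := ded_35_2 (flp_d L787836) (flp_f L785689) L797785
theorem L797791 : sm gj N60779 = N59618 := ded_37_2 (flp_d L785976) (flp_j L785685) L797785
theorem L797793 : sm gc N60779 = N59624 := ded_27_1 (flp_d L786063) L774303 (flp_d L773985) (flp_c L785683) L797785
theorem L797795 : sm gh N60170 = N60779 := ded_47_0 L797789 (flp_h L787848) L792347
theorem L797797 : sm gc N59596 = N60780 := rfl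
theorem L797799 : sm ga N60780 = N60116 := ded_11_1 (flp_c L791824) (flp_a L785703) L797797
theorem L797801 : sm gf N60780 = N59686 := ded_29_2 (flp_c L786935) (flp_f L785707) L797797
theorem L797803 : sm gg N60780 = N59701 := ded_30_2 (flp_c L787100) (flp_g L785709) L797797
theorem L797805 : sm gj N60780 = N60290 := ded_31_2 L793449 (flp_j L785711) L797797
theorem L797807 : sm gh N60780 = N59688 := ded_32_2 (flp_c L786958) (flp_h L785715) L797797
theorem L797809 : sm gi N60780 = N59597 := ded_33_2 (flp_c L785717) (flp_i L785713) L797797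
theorem L797811 : sm gd N60780 = N59717 := ded_27_2 (flp_c L787308) (flp_d L775473) (flp_c L774003) L785701 L797797
theorem L797813 : sm ge N59596 = N60781 := rfl
theorem L797815 : sm ga N60781 = N60058 := ded_13_1 L791198 (flp_a L785703) L797813
theorem L797817 : sm gb N60781 = N59605 := ded_21_1 (flp_e L785832) (flp_b L785705) L797813
theorem L797819 : sm gg N60781 = N59702 := ded_41_2 (flp_e L787114) (flp_g L785709) L797813
theorem L797821 : sm gj N60781 = N60013 := ded_42_2 L790688 (flp_j L785711) L797813
theorem L797823 : sm gh N60781 = N59689 := ded_43_2 (flp_e L786970) (flp_h L785715) L797813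
theorem L797825 : sm gi N60781 = N59598 := ded_44_2 (flp_e L785731) (flp_i L785713) L797813
theorem L797827 : sm gd N60781 = N59629 := ded_34_1 (flp_e L786128) (flp_d L774426) (flp_e L774005) L785701 L797813
theorem L797829 : sm gf N60135 = N60781 := ded_14_0 L797815 L791200 (flp_a L792017)
theorem L797831 : sm gb N59597 = N60782 := rfl
theorem L797833 : sm gd N60782 = N60222 := ded_20_2 (flp_b L792857) (flp_d L785729) L797831
theorem L797835 : sm gf N60782 = N60365 := ded_22_2 (flp_b L794186) (flp_f L785721) L797831
theorem L797837 : sm gg N60782 = N59745 := ded_23_2 (flp_b L787662) (flp_g L785723) L797831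
theorem L797839 : sm gj N60782 = N60292 := ded_24_2 L793465 (flp_j L785725) L797831
theorem L797841 : sm gh N60782 = N59599 := ded_25_2 (flp_b L785747) (flp_h L785727) L797831
theorem L797843 : sm gc N60782 = N59606 := ded_19_2 (flp_b L785844) (flp_c L774100) (flp_b L774019) L785717 L797831
theorem L797845 : sm ge N59597 = N60783 := rfl
theorem L797847 : sm ga N60783 = N60057 := ded_13_1 L791186 (flp_a L785719) L797845
theorem L797849 : sm gc N60783 = N59598 := ded_28_1 (flp_e L785731) L785717 L797845
theorem L797851 : sm gg N60783 = N59746 := ded_41_2 (flp_e L787674) (flp_g L785723) L797845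
theorem L797853 : sm gj N60783 = N59990 := ded_42_2 L790500 (flp_j L785725) L797845
theorem L797855 : sm gh N60783 = N59600 := ded_43_2 (flp_e L785761) (flp_h L785727) L797845
theorem L797857 : sm gd N60783 = N59958 := ded_34_1 (flp_e L790181) L778116 (flp_e L780586) (flp_d L785729) L797845
theorem L797859 : sm gf N60130 = N60783 := ded_14_0 L797847 L791188 (flp_a L791973)
theorem L797861 : sm ga N59599 = N60784 := rfl
theorem L797863 : sm gc N60784 = N59612 := ded_11_2 (flp_a L785916) (flp_c L785759) L797861
theorem L797865 : sm gd N60784 = N60048 := ded_12_2 (flp_a L791074) (flp_d L785749) L797861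
theorem L797867 : sm gf N60784 = N60367 := ded_14_2 (flp_a L794198) (flp_f L785751) L797861
theorem L797869 : sm gg N60784 = N60361 := ded_15_2 (flp_a L794148) (flp_g L785753) L797861
theorem L797871 : sm gj N60784 = N60605 := ded_16_2 (flp_a L795981) (flp_j L785755) L797861
theorem L797873 : sm gi N60784 = N60403 := ded_18_2 (flp_a L794533) (flp_i L785757) L797861
theorem L797875 : sm gb N60784 = N60443 := ded_10_2 (flp_a L794868) (flp_b L782660) (flp_a L774031) L785747 L797861
theorem L797877 : sm ge N59599 = N60785 := rfl
theorem L797879 : sm gb N60785 = N59600 := ded_21_1 (flp_e L785761) L785747 L797877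
theorem L797881 : sm gc N60785 = N59613 := ded_28_1 (flp_e L785924) (flp_c L785759) L797877
theorem L797883 : sm gg N60785 = N60362 := ded_41_2 (flp_e L794156) (flp_g L785753) L797877
theorem L797885 : sm gj N60785 = N60606 := ded_42_2 (flp_e L795987) (flp_j L785755) L797877
theorem L797887 : sm gi N60785 = N60404 := ded_44_2 (flp_e L794541) (flp_i L785757) L797877
theorem L797889 : sm gd N60785 = N60023 := ded_34_1 (flp_e L790802) L778690 (flp_e L778973) (flp_d L785749) L797877
theorem L797891 : sm gf N60129 = N60785 := ded_22_0 L797879 (flp_f L785775) (flp_b L791969)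
theorem L797893 : sm gc N59601 = N60786 := rfl
theorem L797895 : sm ga N60786 = N60277 := ded_11_1 (flp_c L793348) (flp_a L785779) L797893
theorem L797897 : sm gf N60786 = N59604 := ded_29_2 (flp_c L785820) (flp_f L785783) L797893
theorem L797899 : sm gg N60786 = N60119 := ded_30_2 (flp_c L791864) (flp_g L785785) L797893
theorem L797901 : sm gj N60786 = N60163 := ded_31_2 (flp_c L792303) (flp_j L785787) L797893
theorem L797903 : sm gh N60786 = N59682 := ded_32_2 (flp_c L786898) (flp_h L785791) L797893
theorem L797905 : sm gi N60786 = N59602 := ded_33_2 (flp_c L785793) (flp_i L785789) L797893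
theorem L797907 : sm gd N60786 = N59698 := ded_27_2 (flp_c L787065) (flp_d L775287) (flp_c L774065) L785777 L797893
theorem L797909 : sm ge N59601 = N60787 := rfl
theorem L797911 : sm ga N60787 = N60278 := ded_13_1 (flp_e L793356) (flp_a L785779) L797909
theorem L797913 : sm gb N60787 = N59687 := ded_21_1 (flp_e L786947) (flp_b L785781) L797909
theorem L797915 : sm gg N60787 = N60120 := ded_41_2 (flp_e L791876) (flp_g L785785) L797909
theorem L797917 : sm gj N60787 = N60164 := ded_42_2 (flp_e L792313) (flp_j L785787) L797909
theorem L797919 : sm gh N60787 = N59683 := ded_43_2 (flp_e L786906) (flp_h L785791) L797909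
theorem L797921 : sm gi N60787 = N59603 := ded_44_2 (flp_e L785807) (flp_i L785789) L797909
theorem L797923 : sm gd N60787 = N60787 := ded_34_1 (flp_e L797909) (flp_d L785777) L774067 L785777 L797909
theorem L797924 : sm gb N59602 = N60788 := rfl
theorem L797926 : sm gd N60788 = N59740 := ded_20_2 (flp_b L787602) (flp_d L785805) L797924
theorem L797928 : sm gf N60788 = N59606 := ded_22_2 (flp_b L785844) (flp_f L785797) L797924
theorem L797930 : sm gg N60788 = N60121 := ded_23_2 (flp_b L791891) (flp_g L785799) L797924
theorem L797932 : sm gj N60788 = N60446 := ded_24_2 (flp_b L794896) (flp_j L785801) L797924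
theorem L797934 : sm gh N60788 = N59609 := ded_25_2 (flp_b L785880) (flp_h L785803) L797924
theorem L797936 : sm gc N60788 = N60365 := ded_19_2 (flp_b L794186) (flp_c L781961) (flp_b L774080) L785793 L797924
theorem L797938 : sm ge N59602 = N60789 := rfl
theorem L797940 : sm ga N60789 = N60280 := ded_13_1 (flp_e L793371) (flp_a L785795) L797938
theorem L797942 : sm gc N60789 = N59603 := ded_28_1 (flp_e L785807) L785793 L797938
theorem L797944 : sm gg N60789 = N60122 := ded_41_2 (flp_e L791897) (flp_g L785799) L797938
theorem L797946 : sm gj N60789 = N60447 := ded_42_2 (flp_e L794902) (flp_j L785801) L797938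
theorem L797948 : sm gh N60789 = N59610 := ded_43_2 (flp_e L785892) (flp_h L785803) L797938
theorem L797950 : sm gf N59603 = N60790 := rfl
theorem L797952 : sm ga N60790 = N60281 := ded_14_1 (flp_f L793379) (flp_a L785809) L797950
theorem L797954 : sm gb N60790 = N60134 := ded_22_1 L792012 (flp_b L785811) L797950
theorem L797956 : sm gd N60790 = N60790 := ded_35_1 (flp_f L797950) L785819 L797950
theorem L797957 : sm gj N60790 = N60448 := ded_46_2 (flp_f L794906) (flp_j L785815) L797950
theorem L797959 : sm gh N60790 = N59611 := ded_47_2 (flp_f L785902) (flp_h L785817) L797950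
theorem L797961 : sm ge N60790 = N59608 := ded_40_1 (flp_f L785868) (flp_e L774112) (flp_f L774082) L785807 L797950
theorem L797963 : sm gg N60790 = N60648 := ded_45_2 (flp_f L796250) L784184 (flp_f L779681) (flp_g L785813) L797950
theorem L797965 : sm gb N59604 = N60791 := rfl
theorem L797967 : sm gd N60791 = N59700 := ded_20_2 (flp_b L787088) (flp_d L785830) L797965
theorem L797969 : sm gg N60791 = N59705 := ded_23_2 (flp_b L787157) (flp_g L785824) L797965
theorem L797971 : sm gj N60791 = N60418 := ded_24_2 (flp_b L794659) (flp_j L785826) L797965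
theorem L797973 : sm gi N60791 = N59606 := ded_26_2 (flp_b L785844) (flp_i L785828) L797965
theorem L797975 : sm ge N59604 = N60792 := rfl
theorem L797977 : sm ga N60792 = N60686 := ded_13_1 (flp_e L796505) (flp_a L785822) L797975
theorem L797979 : sm gc N60792 = N59605 := ded_28_1 (flp_e L785832) L785820 L797975
theorem L797981 : sm gg N60792 = N59706 := ded_41_2 (flp_e L787167) (flp_g L785824) L797975
theorem L797983 : sm gj N60792 = N60419 := ded_42_2 (flp_e L794667) (flp_j L785826) L797975
theorem L797985 : sm gi N60792 = N59607 := ded_44_2 (flp_e L785854) (flp_i L785828) L797975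
theorem L797987 : sm gd N60792 = N60464 := ded_34_1 (flp_e L795029) (flp_d L785249) L785237 (flp_d L785830) L797975
theorem L797989 : sm gf N59605 = N60793 := rfl
theorem L797991 : sm ga N60793 = N60687 := ded_14_1 (flp_f L796513) (flp_a L785834) L797989
theorem L797993 : sm gb N60793 = N60135 := ded_22_1 L797829 L797817 L797989
theorem L797995 : sm gd N60793 = N59630 := ded_35_1 (flp_f L786145) (flp_d L785842) L797989
theorem L797997 : sm gj N60793 = N60420 := ded_46_2 (flp_f L794677) (flp_j L785838) L797989
theorem L797999 : sm gi N60793 = N59608 := ded_48_2 (flp_f L785868) (flp_i L785840) L797989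
theorem L798001 : sm ga N59606 = N60794 := rfl
theorem L798003 : sm gd N60794 = N59742 := ded_12_2 (flp_a L787620) (flp_d L785846) L798001
theorem L798005 : sm gg N60794 = N59748 := ded_15_2 (flp_a L787700) (flp_g L785848) L798001
theorem L798007 : sm gj N60794 = N60449 := ded_16_2 (flp_a L794911) (flp_j L785850) L798001
theorem L798009 : sm gh N60794 = N59612 := ded_17_2 (flp_a L785916) (flp_h L785852) L798001
theorem L798011 : sm gb N60794 = N60688 := ded_10_2 (flp_a L796519) (flp_b L784491) (flp_a L774102) L785844 L798001
theorem L798013 : sm ge N59606 = N60795 := rfl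
theorem L798015 : sm gb N60795 = N59607 := ded_21_1 (flp_e L785854) L785844 L798013
theorem L798017 : sm gg N60795 = N59749 := ded_41_2 (flp_e L787712) (flp_g L785848) L798013
theorem L798019 : sm gj N60795 = N60450 := ded_42_2 (flp_e L794917) (flp_j L785850) L798013
theorem L798021 : sm gh N60795 = N59613 := ded_43_2 (flp_e L785924) (flp_h L785852) L798013
theorem L798023 : sm gd N60795 = N60467 := ded_34_1 (flp_e L795051) (flp_d L785549) L785551 (flp_d L785846) L798013
theorem L798025 : sm gf N59607 = N60796 := rfl
theorem L798027 : sm ga N60796 = N60684 := ded_14_1 L796497 (flp_a L785856) L798025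
theorem L798029 : sm gc N60796 = N59608 := ded_29_1 (flp_f L785868) (flp_c L785858) L798025
theorem L798031 : sm gd N60796 = N60468 := ded_35_1 (flp_f L795059) (flp_d L785866) L798025
theorem L798033 : sm gj N60796 = N60451 := ded_46_2 (flp_f L794925) (flp_j L785862) L798025
theorem L798035 : sm gh N60796 = N59614 := ded_47_2 (flp_f L785932) (flp_h L785864) L798025
theorem L798037 : sm gg N59608 = N60797 := rfl
theorem L798039 : sm ga N60797 = N60394 := ded_15_1 L794463 (flp_a L785870) L798037
theorem L798041 : sm gb N60797 = N59626 := ded_23_1 L786095 (flp_b L785872) L798037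
theorem L798043 : sm gd N60797 = N59627 := ded_36_1 L786112 (flp_d L785874) L798037
theorem L798045 : sm ge N60797 = N60648 := ded_41_1 (flp_g L797963) L797961 L798037
theorem L798047 : sm gh N60797 = N59615 := ded_50_2 (flp_g L785940) (flp_h L785878) L798037
theorem L798049 : sm gf N60797 = N59751 := ded_45_1 (flp_g L787732) (flp_f L775839) (flp_g L774116) L785868 L798037
theorem L798051 : sm gj N60155 = N60797 := ded_24_0 L798041 L786097 (flp_b L792215)
theorem L798053 : sm ga N59609 = N60798 := rfl
theorem L798055 : sm gc N60798 = N60367 := ded_11_2 (flp_a L794198) (flp_c L785890) L798053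
theorem L798057 : sm gd N60798 = N59616 := ded_12_2 (flp_a L785956) (flp_d L785882) L798053
theorem L798059 : sm gf N60798 = N59612 := ded_14_2 (flp_a L785916) (flp_f L785884) L798053
theorem L798061 : sm gg N60798 = N60125 := ded_15_2 (flp_a L791931) (flp_g L785886) L798053
theorem L798063 : sm gi N60798 = N60395 := ded_18_2 (flp_a L794465) (flp_i L785888) L798053
theorem L798065 : sm gb N60798 = N60298 := ded_10_2 (flp_a L793517) (flp_b L781111) (flp_a L774126) L785880 L798053
theorem L798067 : sm ge N59609 = N60799 := rfl
theorem L798069 : sm gb N60799 = N59610 := ded_21_1 (flp_e L785892) L785880 L798067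
theorem L798071 : sm gc N60799 = N60368 := ded_28_1 (flp_e L794206) (flp_c L785890) L798067
theorem L798073 : sm gg N60799 = N60126 := ded_41_2 (flp_e L791941) (flp_g L785886) L798067
theorem L798075 : sm gi N60799 = N60396 := ded_44_2 (flp_e L794471) (flp_i L785888) L798067
theorem L798077 : sm gd N59610 = N60800 := rfl
theorem L798079 : sm ga N60800 = N60219 := ded_12_1 L792835 (flp_a L785894) L798077
theorem L798081 : sm gg N60800 = N60127 := ded_36_2 (flp_d L791949) (flp_g L785898) L798077
theorem L798083 : sm gi N60800 = N60330 := ded_39_2 L793781 (flp_i L785900) L798077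
theorem L798085 : sm gc N60800 = N59625 := ded_27_1 (flp_d L786075) L774317 (flp_d L774146) (flp_c L785896) L798077
theorem L798087 : sm ge N60800 = N59618 := ded_34_2 (flp_d L785976) (flp_e L774198) (flp_d L774134) L785892 L798077
theorem L798089 : sm gf N60476 = N60800 := ded_14_0 L798079 L792829 (flp_a L795121)
theorem L798091 : sm gf N59610 = N60801 := rfl
theorem L798093 : sm ga N60801 = N60300 := ded_14_1 (flp_f L793531) (flp_a L785894) L798091
theorem L798095 : sm gc N60801 = N59611 := ded_29_1 (flp_f L785902) (flp_c L785896) L798091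
theorem L798097 : sm gd N60801 = N60476 := ded_35_1 L798089 (flp_d L798077) L798091
theorem L798099 : sm gi N60801 = N60397 := ded_48_2 (flp_f L794479) (flp_i L785900) L798091
theorem L798101 : sm ge N60801 = N59614 := ded_40_1 (flp_f L785932) (flp_e L774154) (flp_f L774128) L785892 L798091
theorem L798103 : sm gg N60801 = N60643 := ded_45_2 L796213 L784254 (flp_f L779721) (flp_g L785898) L798091
theorem L798105 : sm ge N59612 = N60802 := rfl
theorem L798107 : sm ga N60802 = N59613 := ded_13_1 (flp_e L785924) L785916 L798105
theorem L798109 : sm gb N60802 = N60695 := ded_21_1 (flp_e L796565) (flp_b L785922) L798105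
theorem L798111 : sm gg N60802 = N60363 := ded_41_2 (flp_e L794162) (flp_g L785920) L798105
theorem L798113 : sm gd N60802 = N59780 := ded_34_1 (flp_e L788136) L776171 (flp_e L774212) (flp_d L785918) L798105
theorem L798115 : sm gf N59613 = N60803 := rfl
theorem L798117 : sm gb N60803 = N59614 := ded_22_1 (flp_f L785932) (flp_b L785926) L798115
theorem L798119 : sm gc N60803 = N60129 := ded_29_1 L797891 L797881 L798115
theorem L798121 : sm gd N60803 = N59781 := ded_35_1 (flp_f L788142) (flp_d L785930) L798115
theorem L798123 : sm gg N59614 = N60804 := rfl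
theorem L798125 : sm ga N60804 = N60397 := ded_15_1 L794485 (flp_a L785934) L798123
theorem L798127 : sm gc N60804 = N59615 := ded_30_1 (flp_g L785940) (flp_c L785936) L798123
theorem L798129 : sm gd N60804 = N59782 := ded_36_1 (flp_g L788148) (flp_d L785938) L798123
theorem L798131 : sm ge N60804 = N60643 := ded_41_1 (flp_g L798103) L798101 L798123
theorem L798133 : sm gi N60804 = N60300 := ded_51_2 (flp_g L797507) L797503 L798123
theorem L798135 : sm gf N60804 = N59791 := ded_45_1 L788242 L780389 (flp_g L774160) L785932 L798123
theorem L798137 : sm gj N60621 = N60804 := ded_31_0 L798127 (flp_j L785954) (flp_c L796076)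
theorem L798139 : sm ge N59616 = N60805 := rfl
theorem L798141 : sm ga N60805 = N59617 := ded_13_1 (flp_e L785966) L785956 L798139
theorem L798143 : sm gb N60805 = N60309 := ded_21_1 (flp_e L793605) (flp_b L785964) L798139
theorem L798145 : sm gc N60805 = N60055 := ded_28_1 (flp_e L791164) (flp_c L785958) L798139
theorem L798147 : sm gg N60805 = N60128 := ded_41_2 (flp_e L791961) (flp_g L785962) L798139
theorem L798149 : sm gf N60805 = N59787 := ded_40_2 (flp_e L788196) L776241 (flp_e L774212) (flp_f L785960) L798139
theorem L798151 : sm gd N59617 = N60806 := rfl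
theorem L798153 : sm gb N60806 = N59618 := ded_20_1 (flp_d L785976) (flp_b L785968) L798151
theorem L798155 : sm gf N60806 = N59788 := ded_35_2 (flp_d L788202) (flp_f L785974) L798151
theorem L798157 : sm gg N60806 = N60129 := ded_36_2 (flp_d L791967) (flp_g L785972) L798151
theorem L798159 : sm gh N59618 = N60807 := rfl
theorem L798161 : sm ga N60807 = N60311 := ded_17_1 (flp_h L793621) (flp_a L785978) L798159
theorem L798163 : sm gc N60807 = N59626 := ded_32_1 (flp_h L786089) (flp_c L785984) L798159
theorem L798165 : sm gf N60807 = N59789 := ded_47_1 (flp_h L788208) (flp_f L785980) L798159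
theorem L798167 : sm gg N60807 = N60130 := ded_50_1 (flp_h L791971) (flp_g L785982) L798159
theorem L798169 : sm gj N60807 = N60170 := ded_52_1 L797795 L797791 L798159
theorem L798171 : sm gd N59619 = N60808 := rfl
theorem L798173 : sm ga N60808 = N60215 := ded_12_1 (flp_d L792781) (flp_a L785988) L798171
theorem L798175 : sm gb N60808 = N60411 := ded_20_1 (flp_d L794598) (flp_b L785990) L798171
theorem L798177 : sm gf N60808 = N60160 := ded_35_2 L792277 (flp_f L785999) L798171
theorem L798179 : sm gj N60808 = N59625 := ded_37_2 (flp_d L786075) (flp_j L785994) L798171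
theorem L798181 : sm gi N60808 = N60324 := ded_39_2 (flp_d L793720) (flp_i L785997) L798171
theorem L798183 : sm ge N60808 = N59624 := ded_34_2 (flp_d L786063) (flp_e L774297) (flp_d L774231) L785986 L798171
theorem L798185 : sm gh N60167 = N60808 := ded_47_0 L798177 L792273 L792330
theorem L798187 : sm gg N59620 = N60809 := rfl
theorem L798189 : sm ga N60809 = N59905 := ded_15_1 L789660 (flp_a L786003) L798187
theorem L798191 : sm gb N60809 = N60131 := ded_23_1 L791983 (flp_b L786005) L798187
theorem L798193 : sm gc N60809 = N59670 := ded_30_1 L786741 (flp_c L786007) L798187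
theorem L798195 : sm ge N60809 = N59621 := ded_41_1 (flp_g L786016) (flp_e L786014) L798187
theorem L798197 : sm gh N60809 = N60809 := ded_50_2 (flp_g L798187) L786011 L798187
theorem L798198 : sm gi N60809 = N60148 := ded_51_2 L792151 (flp_i L786012) L798187
theorem L798200 : sm gj N60809 = N59684 := ded_49_2 L786920 L782407 (flp_g L774339) (flp_j L786009) L798187
theorem L798202 : sm gd N59622 = N60810 := rfl
theorem L798204 : sm ga N60810 = N60320 := ded_12_1 (flp_d L793684) (flp_a L786034) L798202
theorem L798206 : sm gb N60810 = N60156 := ded_20_1 (flp_d L792221) (flp_b L786036) L798202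
theorem L798208 : sm gf N60810 = N60323 := ded_35_2 L793718 L786046 L798202
theorem L798210 : sm gg N60810 = N59624 := ded_36_2 (flp_d L786063) (flp_g L786040) L798202
theorem L798212 : sm gj N60810 = N60133 := ded_37_2 (flp_d L792000) (flp_j L786042) L798202
theorem L798214 : sm gh N60810 = N60171 := ded_38_2 L792353 L780099 (flp_d L774362) (flp_h L786044) L798202
theorem L798216 : sm gh N59625 = N60811 := rfl
theorem L798218 : sm ga N60811 = N60220 := ded_17_1 (flp_h L792837) (flp_a L786077) L798216
theorem L798220 : sm gb N60811 = N60648 := ded_25_1 L796253 (flp_b L786079) L798216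
theorem L798222 : sm ge N60811 = N59626 := ded_43_1 (flp_h L786089) (flp_e L786087) L798216
theorem L798224 : sm gf N60811 = N60139 := ded_47_1 L792069 (flp_f L786081) L798216
theorem L798226 : sm gg N60811 = N60134 := ded_50_1 (flp_h L792006) (flp_g L786083) L798216
theorem L798228 : sm gj N60811 = N60167 := ded_52_1 L798185 L798179 L798216
theorem L798230 : sm gd N60811 = N60811 := ded_38_1 (flp_h L798216) (flp_d L786075) L774321 L786075 L798216
theorem L798231 : sm gi N59626 = N60812 := rfl
theorem L798233 : sm ga N60812 = N60329 := ded_18_1 (flp_i L793763) (flp_a L786091) L798231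
theorem L798235 : sm gd N60812 = N59628 := ded_39_1 (flp_i L786116) (flp_d L786099) L798231
theorem L798237 : sm gf N60812 = N59792 := ded_48_1 (flp_i L788248) (flp_f L786093) L798231
theorem L798239 : sm gg N60812 = N60135 := ded_51_1 (flp_i L792015) (flp_g L786095) L798231
theorem L798241 : sm gj N60812 = N59914 := ded_53_1 L789741 (flp_j L786097) L798231
theorem L798243 : sm gi N59627 = N60813 := rfl
theorem L798245 : sm ga N60813 = N59685 := ded_18_1 L786930 (flp_a L786103) L798243
theorem L798247 : sm gb N60813 = N59628 := ded_26_1 (flp_i L786116) (flp_b L786105) L798243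
theorem L798249 : sm gc N60813 = N60507 := ded_33_1 L795324 (flp_c L786107) L798243
theorem L798251 : sm ge N60813 = N60813 := ded_44_1 (flp_i L798243) L786109 L798243
theorem L798252 : sm gf N60813 = N59681 := ded_48_1 L786896 (flp_f L786110) L798243
theorem L798254 : sm gg N60813 = N59630 := ded_51_1 L786156 (flp_g L786112) L798243
theorem L798256 : sm gj N60813 = N59906 := ded_53_1 L789670 (flp_j L786114) L798243
theorem L798258 : sm gh N60813 = N60813 := ded_54_1 (flp_i L798243) (flp_h L786101) L774394 L786101 L798243
theorem L798259 : sm gb N59631 = N60814 := rfl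
theorem L798261 : sm gd N60814 = N60051 := ded_20_2 (flp_b L791128) (flp_d L786175) L798259
theorem L798263 : sm ge N60814 = N60136 := ded_21_2 (flp_b L792021) (flp_e L786163) L798259
theorem L798265 : sm gf N60814 = N60062 := ded_22_2 (flp_b L791244) (flp_f L786165) L798259
theorem L798267 : sm gg N60814 = N60026 := ded_23_2 (flp_b L790833) (flp_g L786167) L798259
theorem L798269 : sm gj N60814 = N59632 := ded_24_2 (flp_b L786177) (flp_j L786169) L798259
theorem L798271 : sm gh N60814 = N60035 := ded_25_2 (flp_b L790926) (flp_h L786171) L798259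
theorem L798273 : sm gi N60814 = N59638 := ded_26_2 (flp_b L786269) (flp_i L786173) L798259
theorem L798275 : sm gc N60814 = N59649 := ded_19_2 (flp_b L786431) (flp_c L774740) (flp_b L774488) L786159 L798259
theorem L798277 : sm ga N59632 = N60815 := rfl
theorem L798279 : sm gc N60815 = N59656 := ded_11_2 (flp_a L786536) (flp_c L786191) L798277
theorem L798281 : sm gd N60815 = N60053 := ded_12_2 (flp_a L791148) (flp_d L786179) L798277
theorem L798283 : sm ge N60815 = N60445 := ded_13_2 (flp_a L794884) (flp_e L786181) L798277
theorem L798285 : sm gf N60815 = N60067 := ded_14_2 (flp_a L791290) (flp_f L786183) L798277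
theorem L798287 : sm gg N60815 = N60050 := ded_15_2 (flp_a L791110) (flp_g L786185) L798277
theorem L798289 : sm gh N60815 = N60578 := ded_17_2 (flp_a L795793) (flp_h L786187) L798277
theorem L798291 : sm gi N60815 = N59645 := ded_18_2 (flp_a L786374) (flp_i L786189) L798277
theorem L798293 : sm gb N60815 = N60060 := ded_10_2 (flp_a L791224) (flp_b L779128) (flp_a L774504) L786177 L798277
theorem L798295 : sm gc N59633 = N60816 := rfl
theorem L798297 : sm ga N60816 = N59969 := ded_11_1 (flp_c L790290) (flp_a L786195) L798295
theorem L798299 : sm gf N60816 = N60513 := ded_29_2 (flp_c L795378) (flp_f L786199) L798295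
theorem L798301 : sm gg N60816 = N59636 := ded_30_2 (flp_c L786239) (flp_g L786201) L798295
theorem L798303 : sm gj N60816 = N59810 := ded_31_2 (flp_c L788518) (flp_j L786203) L798295
theorem L798305 : sm gh N60816 = N60521 := ded_32_2 (flp_c L795432) (flp_h L786207) L798295
theorem L798307 : sm gi N60816 = N59965 := ded_33_2 (flp_c L790241) (flp_i L786205) L798295
theorem L798309 : sm gd N60816 = N59635 := ded_27_2 (flp_c L786225) (flp_d L774569) (flp_c L774524) L786193 L798295
theorem L798311 : sm gc N59634 = N60817 := rfl
theorem L798313 : sm ga N60817 = N59819 := ded_11_1 (flp_c L788635) (flp_a L786211) L798311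
theorem L798315 : sm gf N60817 = N59635 := ded_29_2 (flp_c L786225) (flp_f L786215) L798311
theorem L798317 : sm gg N60817 = N59967 := ded_30_2 (flp_c L790267) (flp_g L786217) L798311
theorem L798319 : sm gj N60817 = N59813 := ded_31_2 (flp_c L788550) (flp_j L786219) L798311
theorem L798321 : sm gh N60817 = N59796 := ded_32_2 (flp_c L788312) (flp_h L786223) L798311
theorem L798323 : sm gi N60817 = N60024 := ded_33_2 (flp_c L790810) (flp_i L786221) L798311
theorem L798325 : sm gd N60817 = N60513 := ded_27_2 (flp_c L795378) (flp_d L783207) (flp_c L774558) L786209 L798311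
theorem L798327 : sm ge N59634 = N60818 := rfl
theorem L798329 : sm ga N60818 = N59820 := ded_13_1 (flp_e L788647) (flp_a L786211) L798327
theorem L798331 : sm gb N60818 = N59658 := ded_21_1 (flp_e L786560) (flp_b L786213) L798327
theorem L798333 : sm gg N60818 = N59968 := ded_41_2 (flp_e L790279) (flp_g L786217) L798327
theorem L798335 : sm gj N60818 = N59814 := ded_42_2 (flp_e L788562) (flp_j L786219) L798327
theorem L798337 : sm gh N60818 = N59797 := ded_43_2 (flp_e L788326) (flp_h L786223) L798327
theorem L798339 : sm gi N60818 = N60025 := ded_44_2 (flp_e L790822) (flp_i L786221) L798327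
theorem L798341 : sm gd N60818 = N60818 := ded_34_1 (flp_e L798327) (flp_d L786209) L774560 L786209 L798327
theorem L798342 : sm gf N60818 = N59901 := ded_40_2 (flp_e L789615) L777657 (flp_e L774581) (flp_f L786215) L798327
theorem L798344 : sm gb N59635 = N60819 := rfl
theorem L798346 : sm ge N60819 = N59902 := ded_21_2 (flp_b L789626) (flp_e L786229) L798344
theorem L798348 : sm gg N60819 = N59638 := ded_23_2 (flp_b L786269) (flp_g L786231) L798344
theorem L798350 : sm gj N60819 = N59815 := ded_24_2 (flp_b L788577) (flp_j L786233) L798344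
theorem L798352 : sm gh N60819 = N59816 := ded_25_2 (flp_b L788589) (flp_h L786235) L798344
theorem L798354 : sm gi N60819 = N60026 := ded_26_2 (flp_b L790833) (flp_i L786237) L798344
theorem L798356 : sm gc N60819 = N59659 := ded_19_2 (flp_b L786573) (flp_c L774850) (flp_b L774573) L786225 L798344
theorem L798358 : sm gb N59636 = N60820 := rfl
theorem L798360 : sm gd N60820 = N59638 := ded_20_2 (flp_b L786269) (flp_d L786251) L798358
theorem L798362 : sm gf N60820 = N60059 := ded_22_2 (flp_b L791208) (flp_f L786243) L798358
theorem L798364 : sm gj N60820 = N59641 := ded_24_2 (flp_b L786314) (flp_j L786245) L798358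
theorem L798366 : sm gh N60820 = N60579 := ded_25_2 (flp_b L795801) (flp_h L786247) L798358
theorem L798368 : sm gi N60820 = N60051 := ded_26_2 (flp_b L791128) (flp_i L786249) L798358
theorem L798370 : sm gc N60820 = N60086 := ded_19_2 (flp_b L791508) (flp_c L779349) (flp_b L774589) L786239 L798358
theorem L798372 : sm ge N59636 = N60821 := rfl
theorem L798374 : sm ga N60821 = N60063 := ded_13_1 (flp_e L791254) (flp_a L786241) L798372
theorem L798376 : sm gc N60821 = N59637 := ded_28_1 (flp_e L786253) L786239 L798372
theorem L798378 : sm gj N60821 = N59642 := ded_42_2 (flp_e L786326) (flp_j L786245) L798372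
theorem L798380 : sm gh N60821 = N60580 := ded_43_2 (flp_e L795807) (flp_h L786247) L798372
theorem L798382 : sm gi N60821 = N60052 := ded_44_2 (flp_e L791138) (flp_i L786249) L798372
theorem L798384 : sm gd N60821 = N60501 := ded_34_1 (flp_e L795288) L783079 (flp_e L774618) (flp_d L786251) L798372
theorem L798386 : sm gf N60821 = N60588 := ded_40_2 (flp_e L795860) L783750 (flp_e L779116) (flp_f L786243) L798372
theorem L798388 : sm ga N59638 = N60822 := rfl
theorem L798390 : sm gc N60822 = N59660 := ded_11_2 (flp_a L786585) (flp_c L786279) L798388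
theorem L798392 : sm ge N60822 = N60506 := ded_13_2 (flp_a L795314) (flp_e L786271) L798388
theorem L798394 : sm gf N60822 = N60563 := ded_14_2 (flp_a L795701) (flp_f L786273) L798388
theorem L798396 : sm gj N60822 = N59645 := ded_16_2 (flp_a L786374) (flp_j L786275) L798388
theorem L798398 : sm gh N60822 = N60565 := ded_17_2 (flp_a L795715) (flp_h L786277) L798388
theorem L798400 : sm gb N60822 = N60064 := ded_10_2 (flp_a L791262) (flp_b L779164) (flp_a L774616) L786269 L798388
theorem L798402 : sm gb N59639 = N60823 := rfl
theorem L798404 : sm gd N60823 = N60042 := ded_20_2 (flp_b L791010) (flp_d L786295) L798402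
theorem L798406 : sm gf N60823 = N60041 := ded_22_2 (flp_b L790994) (flp_f L786285) L798402
theorem L798408 : sm gg N60823 = N60030 := ded_23_2 (flp_b L790871) (flp_g L786287) L798402
theorem L798410 : sm gj N60823 = N60579 := ded_24_2 (flp_b L795801) (flp_j L786289) L798402
theorem L798412 : sm gh N60823 = N59641 := ded_25_2 (flp_b L786314) (flp_h L786291) L798402
theorem L798414 : sm gi N60823 = N60575 := ded_26_2 (flp_b L795773) (flp_i L786293) L798402
theorem L798416 : sm gc N60823 = N60078 := ded_19_2 (flp_b L791417) (flp_c L779286) (flp_b L774630) L786281 L798402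
theorem L798418 : sm ge N59639 = N60824 := rfl
theorem L798420 : sm ga N60824 = N60066 := ded_13_1 (flp_e L791278) (flp_a L786283) L798418
theorem L798422 : sm gc N60824 = N59640 := ded_28_1 (flp_e L786297) L786281 L798418
theorem L798424 : sm gg N60824 = N60031 := ded_41_2 (flp_e L790877) (flp_g L786287) L798418
theorem L798426 : sm gj N60824 = N60580 := ded_42_2 (flp_e L795807) (flp_j L786289) L798418
theorem L798428 : sm gh N60824 = N59642 := ded_43_2 (flp_e L786326) (flp_h L786291) L798418
theorem L798430 : sm gi N60824 = N60576 := ded_44_2 (flp_e L795777) (flp_i L786293) L798418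
theorem L798432 : sm gf N60824 = N60597 := ded_40_2 (flp_e L795926) L783831 (flp_e L778892) (flp_f L786285) L798418
theorem L798434 : sm ga N59641 = N60825 := rfl
theorem L798436 : sm gc N60825 = N60089 := ded_11_2 (flp_a L791542) (flp_c L786324) L798434
theorem L798438 : sm gd N60825 = N59645 := ded_12_2 (flp_a L786374) (flp_d L786316) L798434
theorem L798440 : sm gf N60825 = N60060 := ded_14_2 (flp_a L791224) (flp_f L786318) L798434
theorem L798442 : sm gg N60825 = N60039 := ded_15_2 (flp_a L790974) (flp_g L786320) L798434
theorem L798444 : sm gi N60825 = N60053 := ded_18_2 (flp_a L791148) (flp_i L786322) L798434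
theorem L798446 : sm gb N60825 = N60067 := ded_10_2 (flp_a L791290) (flp_b L779191) (flp_a L774644) L786314 L798434
theorem L798448 : sm ge N59641 = N60826 := rfl
theorem L798450 : sm gb N60826 = N59642 := ded_21_1 (flp_e L786326) L786314 L798448
theorem L798452 : sm gc N60826 = N60090 := ded_28_1 (flp_e L791552) (flp_c L786324) L798448
theorem L798454 : sm gg N60826 = N60040 := ded_41_2 (flp_e L790984) (flp_g L786320) L798448
theorem L798456 : sm gi N60826 = N60054 := ded_44_2 (flp_e L791156) (flp_i L786322) L798448
theorem L798458 : sm gd N60826 = N60503 := ded_34_1 (flp_e L795300) L783089 (flp_e L774704) (flp_d L786316) L798448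
theorem L798460 : sm gf N60826 = N60600 := ded_40_2 (flp_e L795956) L783862 (flp_e L779130) (flp_f L786318) L798448
theorem L798462 : sm ga N59643 = N60827 := rfl
theorem L798464 : sm gc N60827 = N59667 := ded_11_2 (flp_a L786695) (flp_c L786354) L798462
theorem L798466 : sm gd N60827 = N60060 := ded_12_2 (flp_a L791224) (flp_d L786342) L798462
theorem L798468 : sm gf N60827 = N59645 := ded_14_2 (flp_a L786374) (flp_f L786344) L798462
theorem L798470 : sm gg N60827 = N60022 := ded_15_2 (flp_a L790792) (flp_g L786346) L798462
theorem L798472 : sm gj N60827 = N60563 := ded_16_2 (flp_a L795701) (flp_j L786348) L798462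
theorem L798474 : sm gh N60827 = N60558 := ded_17_2 (flp_a L795673) (flp_h L786350) L798462
theorem L798476 : sm gi N60827 = N60067 := ded_18_2 (flp_a L791290) (flp_i L786352) L798462
theorem L798478 : sm gb N60827 = N60053 := ded_10_2 (flp_a L791148) (flp_b L779053) (flp_a L774670) L786340 L798462
theorem L798480 : sm ge N59643 = N60828 := rfl
theorem L798482 : sm gb N60828 = N59644 := ded_21_1 (flp_e L786356) L786340 L798480
theorem L798484 : sm gc N60828 = N59668 := ded_28_1 (flp_e L786707) (flp_c L786354) L798480
theorem L798486 : sm gg N60828 = N60023 := ded_41_2 (flp_e L790802) (flp_g L786346) L798480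
theorem L798488 : sm gj N60828 = N60564 := ded_42_2 (flp_e L795707) (flp_j L786348) L798480
theorem L798490 : sm gh N60828 = N60559 := ded_43_2 (flp_e L795679) (flp_h L786350) L798480
theorem L798492 : sm gi N60828 = N60068 := ded_44_2 (flp_e L791296) (flp_i L786352) L798480
theorem L798494 : sm gd N60828 = N60362 := ded_34_1 (flp_e L794156) L781913 (flp_e L779130) (flp_d L786342) L798480
theorem L798496 : sm gf N60828 = N59786 := ded_40_2 (flp_e L788188) L776225 (flp_e L774704) (flp_f L786344) L798480
theorem L798498 : sm gb N59646 = N60829 := rfl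
theorem L798500 : sm gd N60829 = N60490 := ded_20_2 (flp_b L795227) (flp_d L786398) L798498
theorem L798502 : sm gf N60829 = N59648 := ded_22_2 (flp_b L786417) (flp_f L786388) L798498
theorem L798504 : sm gg N60829 = N60596 := ded_23_2 (flp_b L795916) (flp_g L786390) L798498
theorem L798506 : sm gj N60829 = N60547 := ded_24_2 (flp_b L795608) (flp_j L786392) L798498
theorem L798508 : sm gh N60829 = N59654 := ded_25_2 (flp_b L786506) (flp_h L786394) L798498
theorem L798510 : sm gi N60829 = N60348 := ded_26_2 (flp_b L793986) (flp_i L786396) L798498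
theorem L798512 : sm gc N60829 = N60065 := ded_19_2 (flp_b L791268) (flp_c L779170) (flp_b L774714) L786384 L798498
theorem L798514 : sm ge N59646 = N60830 := rfl
theorem L798516 : sm ga N60830 = N59695 := ded_13_1 (flp_e L787029) (flp_a L786386) L798514
theorem L798518 : sm gc N60830 = N59647 := ded_28_1 (flp_e L786400) L786384 L798514
theorem L798520 : sm gg N60830 = N60597 := ded_41_2 (flp_e L795926) (flp_g L786390) L798514
theorem L798522 : sm gj N60830 = N60548 := ded_42_2 (flp_e L795614) (flp_j L786392) L798514
theorem L798524 : sm gh N60830 = N59655 := ded_43_2 (flp_e L786520) (flp_h L786394) L798514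
theorem L798526 : sm gi N60830 = N60349 := ded_44_2 (flp_e L794000) (flp_i L786396) L798514
theorem L798528 : sm gf N60830 = N60173 := ded_40_2 (flp_e L792369) L780105 (flp_e L774730) (flp_f L786388) L798514
theorem L798530 : sm ga N59648 = N60831 := rfl
theorem L798532 : sm gc N60831 = N60578 := ded_11_2 (flp_a L795793) (flp_c L786429) L798530
theorem L798534 : sm gd N60831 = N60495 := ded_12_2 (flp_a L795254) (flp_d L786419) L798530
theorem L798536 : sm ge N60831 = N60421 := ded_13_2 (flp_a L794683) (flp_e L786421) L798530
theorem L798538 : sm gg N60831 = N60359 := ded_15_2 (flp_a L794120) (flp_g L786423) L798530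
theorem L798540 : sm gh N60831 = N59656 := ded_17_2 (flp_a L786536) (flp_h L786425) L798530
theorem L798542 : sm gi N60831 = N60350 := ded_18_2 (flp_a L794014) (flp_i L786427) L798530
theorem L798544 : sm gb N60831 = N59696 := ded_10_2 (flp_a L787039) (flp_b L775260) (flp_a L774728) L786417 L798530
theorem L798546 : sm ga N59649 = N60832 := rfl
theorem L798548 : sm gd N60832 = N60690 := ded_12_2 (flp_a L796533) (flp_d L786433) L798546
theorem L798550 : sm ge N60832 = N60660 := ded_13_2 (flp_a L796332) (flp_e L786435) L798546
theorem L798552 : sm gf N60832 = N60568 := ded_14_2 (flp_a L795733) (flp_f L786437) L798546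
theorem L798554 : sm gj N60832 = N59656 := ded_16_2 (flp_a L786536) (flp_j L786439) L798546
theorem L798556 : sm gi N60832 = N59660 := ded_18_2 (flp_a L786585) (flp_i L786441) L798546
theorem L798558 : sm gb N60832 = N59712 := ded_10_2 (flp_a L787241) (flp_b L775423) (flp_a L774742) L786431 L798546
theorem L798560 : sm gb N59650 = N60833 := rfl
theorem L798562 : sm gd N60833 = N60438 := ded_20_2 (flp_b L794841) (flp_d L786457) L798560
theorem L798564 : sm gf N60833 = N60117 := ded_22_2 (flp_b L791838) (flp_f L786447) L798560
theorem L798566 : sm gg N60833 = N60365 := ded_23_2 (flp_b L794186) (flp_g L786449) L798560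
theorem L798568 : sm gj N60833 = N60649 := ded_24_2 (flp_b L796255) (flp_j L786451) L798560
theorem L798570 : sm gh N60833 = N59652 := ded_25_2 (flp_b L786476) (flp_h L786453) L798560
theorem L798572 : sm gi N60833 = N60412 := ded_26_2 (flp_b L794608) (flp_i L786455) L798560
theorem L798574 : sm gc N60833 = N60121 := ded_19_2 (flp_b L791891) (flp_c L779666) (flp_b L774758) L786443 L798560
theorem L798576 : sm ge N59650 = N60834 := rfl
theorem L798578 : sm ga N60834 = N59721 := ded_13_1 (flp_e L787363) (flp_a L786445) L798576
theorem L798580 : sm gc N60834 = N59651 := ded_28_1 (flp_e L786459) L786443 L798576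
theorem L798582 : sm gg N60834 = N60366 := ded_41_2 (flp_e L794190) (flp_g L786449) L798576
theorem L798584 : sm gj N60834 = N60650 := ded_42_2 (flp_e L796263) (flp_j L786451) L798576
theorem L798586 : sm gh N60834 = N59653 := ded_43_2 (flp_e L786490) (flp_h L786453) L798576
theorem L798588 : sm gi N60834 = N60413 := ded_44_2 (flp_e L794618) (flp_i L786455) L798576
theorem L798590 : sm gf N60834 = N60639 := ded_40_2 (flp_e L796183) L784131 (flp_e L779630) (flp_f L786447) L798576
theorem L798592 : sm ga N59652 = N60835 := rfl
theorem L798594 : sm gc N60835 = N60125 := ded_11_2 (flp_a L791931) (flp_c L786488) L798592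
theorem L798596 : sm gd N60835 = N59656 := ded_12_2 (flp_a L786536) (flp_d L786478) L798592
theorem L798598 : sm gf N60835 = N60118 := ded_14_2 (flp_a L791852) (flp_f L786480) L798592
theorem L798600 : sm gg N60835 = N60367 := ded_15_2 (flp_a L794198) (flp_g L786482) L798592
theorem L798602 : sm gj N60835 = N60690 := ded_16_2 (flp_a L796533) (flp_j L786484) L798592
theorem L798604 : sm gi N60835 = N59661 := ded_18_2 (flp_a L786599) (flp_i L786486) L798592
theorem L798606 : sm gb N60835 = N59724 := ded_10_2 (flp_a L787404) (flp_b L775536) (flp_a L774772) L786476 L798592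
theorem L798608 : sm ge N59652 = N60836 := rfl
theorem L798610 : sm gb N60836 = N59653 := ded_21_1 (flp_e L786490) L786476 L798608
theorem L798612 : sm gc N60836 = N60126 := ded_28_1 (flp_e L791941) (flp_c L786488) L798608
theorem L798614 : sm gg N60836 = N60368 := ded_41_2 (flp_e L794206) (flp_g L786482) L798608
theorem L798616 : sm gj N60836 = N60691 := ded_42_2 (flp_e L796539) (flp_j L786484) L798608
theorem L798618 : sm gi N60836 = N59662 := ded_44_2 (flp_e L786615) (flp_i L786486) L798608
theorem L798620 : sm gd N60836 = N60658 := ded_34_1 (flp_e L796318) L784244 (flp_e L774832) (flp_d L786478) L798608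
theorem L798622 : sm gf N60836 = N60642 := ded_40_2 (flp_e L796203) L784150 (flp_e L779642) (flp_f L786480) L798608
theorem L798624 : sm ga N59654 = N60837 := rfl
theorem L798626 : sm gc N60837 = N60067 := ded_11_2 (flp_a L791290) (flp_c L786518) L798624
theorem L798628 : sm gd N60837 = N60118 := ded_12_2 (flp_a L791852) (flp_d L786508) L798624
theorem L798630 : sm gf N60837 = N59656 := ded_14_2 (flp_a L786536) (flp_f L786510) L798624
theorem L798632 : sm gg N60837 = N60599 := ded_15_2 (flp_a L795948) (flp_g L786512) L798624
theorem L798634 : sm gj N60837 = N60568 := ded_16_2 (flp_a L795733) (flp_j L786514) L798624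
theorem L798636 : sm gi N60837 = N59667 := ded_18_2 (flp_a L786695) (flp_i L786516) L798624
theorem L798638 : sm gb N60837 = N59731 := ded_10_2 (flp_a L787496) (flp_b L775612) (flp_a L774802) L786506 L798624
theorem L798640 : sm ge N59654 = N60838 := rfl
theorem L798642 : sm gb N60838 = N59655 := ded_21_1 (flp_e L786520) L786506 L798640
theorem L798644 : sm gc N60838 = N60068 := ded_28_1 (flp_e L791296) (flp_c L786518) L798640
theorem L798646 : sm gg N60838 = N60600 := ded_41_2 (flp_e L795956) (flp_g L786512) L798640
theorem L798648 : sm gj N60838 = N60569 := ded_42_2 (flp_e L795739) (flp_j L786514) L798640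
theorem L798650 : sm gi N60838 = N59668 := ded_44_2 (flp_e L786707) (flp_i L786516) L798640
theorem L798652 : sm gd N60838 = N60436 := ded_34_1 (flp_e L794823) L782615 (flp_e L779642) (flp_d L786508) L798640
theorem L798654 : sm gf N60838 = N60207 := ded_40_2 (flp_e L792703) L780425 (flp_e L774832) (flp_f L786510) L798640
theorem L798656 : sm gb N59657 = N60839 := rfl
theorem L798658 : sm gd N60839 = N60279 := ded_20_2 (flp_b L793363) (flp_d L786558) L798656
theorem L798660 : sm gf N60839 = N59659 := ded_22_2 (flp_b L786573) (flp_f L786550) L798656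
theorem L798662 : sm gg N60839 = N59982 := ded_23_2 (flp_b L790433) (flp_g L786552) L798656
theorem L798664 : sm gj N60839 = N60374 := ded_24_2 (flp_b L794272) (flp_j L786554) L798656
theorem L798666 : sm gh N60839 = N59993 := ded_25_2 (flp_b L790522) (flp_h L786556) L798656
theorem L798668 : sm ge N59657 = N60840 := rfl
theorem L798670 : sm ga N60840 = N59741 := ded_13_1 (flp_e L787610) (flp_a L786548) L798668
theorem L798672 : sm gc N60840 = N59658 := ded_28_1 (flp_e L786560) L786546 L798668
theorem L798674 : sm gg N60840 = N59983 := ded_41_2 (flp_e L790441) (flp_g L786552) L798668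
theorem L798676 : sm gj N60840 = N60375 := ded_42_2 (flp_e L794276) (flp_j L786554) L798668
theorem L798678 : sm gh N60840 = N59994 := ded_43_2 (flp_e L790530) (flp_h L786556) L798668
theorem L798680 : sm gf N60840 = N60539 := ded_40_2 (flp_e L795552) L783367 (flp_e L774854) (flp_f L786550) L798668
theorem L798682 : sm ga N59659 = N60841 := rfl
theorem L798684 : sm gd N60841 = N60688 := ded_12_2 (flp_a L796519) (flp_d L786575) L798682
theorem L798686 : sm ge N60841 = N60678 := ded_13_2 (flp_a L796455) (flp_e L786577) L798682
theorem L798688 : sm gg N60841 = N59660 := ded_15_2 (flp_a L786585) (flp_g L786579) L798682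
theorem L798690 : sm gj N60841 = N60376 := ded_16_2 (flp_a L794284) (flp_j L786581) L798682
theorem L798692 : sm gh N60841 = N60571 := ded_17_2 (flp_a L795751) (flp_h L786583) L798682
theorem L798694 : sm gb N60841 = N59742 := ded_10_2 (flp_a L787620) (flp_b L775739) (flp_a L774852) L786573 L798682
theorem L798696 : sm ge N59661 = N60842 := rfl
theorem L798698 : sm ga N60842 = N59662 := ded_13_1 (flp_e L786615) L786599 L798696
theorem L798700 : sm gb N60842 = N59780 := ded_21_1 (flp_e L788136) (flp_b L786613) L798696
theorem L798702 : sm gc N60842 = N60696 := ded_28_1 L796575 (flp_c L786601) L798696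
theorem L798704 : sm gg N60842 = N60405 := ded_41_2 (flp_e L794547) (flp_g L786607) L798696
theorem L798706 : sm gj N60842 = N60692 := ded_42_2 (flp_e L796545) (flp_j L786609) L798696
theorem L798708 : sm gh N60842 = N60673 := ded_43_2 (flp_e L796411) (flp_h L786611) L798696
theorem L798710 : sm gd N60842 = N60695 := ded_34_1 (flp_e L796565) L784561 (flp_e L774978) (flp_d L786603) L798696
theorem L798712 : sm gf N60842 = N60682 := ded_40_2 (flp_e L796481) L784463 (flp_e L784363) (flp_f L786605) L798696
theorem L798714 : sm gb N59663 = N60843 := rfl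
theorem L798716 : sm gd N60843 = N60223 := ded_20_2 (flp_b L792869) (flp_d L786645) L798714
theorem L798718 : sm gf N60843 = N60016 := ded_22_2 (flp_b L790716) (flp_f L786635) L798714
theorem L798720 : sm gg N60843 = N59957 := ded_23_2 (flp_b L790171) (flp_g L786637) L798714
theorem L798722 : sm gj N60843 = N59665 := ded_24_2 (flp_b L786665) (flp_j L786639) L798714
theorem L798724 : sm gh N60843 = N59832 := ded_25_2 (flp_b L788794) (flp_h L786641) L798714
theorem L798726 : sm gi N60843 = N60587 := ded_26_2 (flp_b L795850) (flp_i L786643) L798714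
theorem L798728 : sm gc N60843 = N59834 := ded_19_2 (flp_b L788818) (flp_c L776901) (flp_b L774910) L786631 L798714
theorem L798730 : sm ge N59663 = N60844 := rfl
theorem L798732 : sm ga N60844 = N59784 := ded_13_1 (flp_e L788170) (flp_a L786633) L798730
theorem L798734 : sm gc N60844 = N59664 := ded_28_1 (flp_e L786647) L786631 L798730
theorem L798736 : sm gg N60844 = N59958 := ded_41_2 (flp_e L790181) (flp_g L786637) L798730
theorem L798738 : sm gj N60844 = N59666 := ded_42_2 (flp_e L786679) (flp_j L786639) L798730
theorem L798740 : sm gh N60844 = N59833 := ded_43_2 (flp_e L788804) (flp_h L786641) L798730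
theorem L798742 : sm gi N60844 = N60588 := ded_44_2 (flp_e L795860) (flp_i L786643) L798730
theorem L798744 : sm gd N60844 = N59746 := ded_34_1 (flp_e L787674) L775789 (flp_e L780596) (flp_d L786645) L798730
theorem L798746 : sm gf N60844 = N60052 := ded_40_2 (flp_e L791138) L779035 (flp_e L778618) (flp_f L786635) L798730
theorem L798748 : sm ga N59665 = N60845 := rfl
theorem L798750 : sm gc N60845 = N60022 := ded_11_2 (flp_a L790792) (flp_c L786677) L798748
theorem L798752 : sm gd N60845 = N60274 := ded_12_2 L793317 (flp_d L786667) L798748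
theorem L798754 : sm gf N60845 = N60019 := ded_14_2 (flp_a L790756) (flp_f L786669) L798748
theorem L798756 : sm gg N60845 = N59667 := ded_15_2 (flp_a L786695) (flp_g L786671) L798748
theorem L798758 : sm gh N60845 = N60554 := ded_17_2 (flp_a L795647) (flp_h L786673) L798748
theorem L798760 : sm gi N60845 = N60599 := ded_18_2 (flp_a L795948) (flp_i L786675) L798748
theorem L798762 : sm gb N60845 = N59785 := ded_10_2 (flp_a L788180) (flp_b L776223) (flp_a L774924) L786665 L798748
theorem L798764 : sm ge N59665 = N60846 := rfl
theorem L798766 : sm gb N60846 = N59666 := ded_21_1 (flp_e L786679) L786665 L798764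
theorem L798768 : sm gc N60846 = N60023 := ded_28_1 (flp_e L790802) (flp_c L786677) L798764
theorem L798770 : sm gg N60846 = N59668 := ded_41_2 (flp_e L786707) (flp_g L786671) L798764
theorem L798772 : sm gh N60846 = N60555 := ded_43_2 (flp_e L795653) (flp_h L786673) L798764
theorem L798774 : sm gi N60846 = N60600 := ded_44_2 (flp_e L795956) (flp_i L786675) L798764
theorem L798776 : sm gd N60846 = N59769 := ded_34_1 (flp_e L787978) L776029 L780966 (flp_d L786667) L798764
theorem L798778 : sm gf N60846 = N60054 := ded_40_2 (flp_e L791156) L779055 (flp_e L778656) (flp_f L786669) L798764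
theorem L798780 : sm ge N59667 = N60847 := rfl
theorem L798782 : sm ga N60847 = N59668 := ded_13_1 (flp_e L786707) L786695 L798780
theorem L798784 : sm gb N60847 = N59787 := ded_21_1 (flp_e L788196) (flp_b L786705) L798780
theorem L798786 : sm gj N60847 = N60570 := ded_42_2 (flp_e L795745) (flp_j L786701) L798780
theorem L798788 : sm gh N60847 = N60560 := ded_43_2 (flp_e L795687) (flp_h L786703) L798780
theorem L798790 : sm gd N60847 = N60487 := ded_34_1 (flp_e L795201) L782991 (flp_e L784363) (flp_d L786697) L798780
theorem L798792 : sm gf N60847 = N60309 := ded_40_2 (flp_e L793605) L781201 (flp_e L774978) (flp_f L786699) L798780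
theorem L798794 : sm gc N59669 = N60848 := rfl
theorem L798796 : sm ga N60848 = N59903 := ded_11_1 (flp_c L789638) (flp_a L786721) L798794
theorem L798798 : sm gf N60848 = N60416 := ded_29_2 (flp_c L794644) (flp_f L786725) L798794
theorem L798800 : sm gg N60848 = N60159 := ded_30_2 (flp_c L792251) (flp_g L786727) L798794
theorem L798802 : sm gj N60848 = N59682 := ded_31_2 (flp_c L786898) (flp_j L786729) L798794
theorem L798804 : sm gh N60848 = N60163 := ded_32_2 (flp_c L792303) (flp_h L786733) L798794
theorem L798806 : sm gi N60848 = N60146 := ded_33_2 (flp_c L792119) (flp_i L786731) L798794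
theorem L798808 : sm gd N60848 = N60137 := ded_27_2 (flp_c L792033) (flp_d L779864) (flp_c L775008) L786719 L798794
theorem L798810 : sm ge N59669 = N60849 := rfl
theorem L798812 : sm ga N60849 = N59904 := ded_13_1 (flp_e L789646) (flp_a L786721) L798810
theorem L798814 : sm gb N60849 = N59674 := ded_21_1 (flp_e L786792) (flp_b L786723) L798810
theorem L798816 : sm gg N60849 = N60160 := ded_41_2 (flp_e L792265) (flp_g L786727) L798810
theorem L798818 : sm gj N60849 = N59683 := ded_42_2 (flp_e L786906) (flp_j L786729) L798810
theorem L798820 : sm gh N60849 = N60164 := ded_43_2 (flp_e L792313) (flp_h L786733) L798810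
theorem L798822 : sm gi N60849 = N60147 := ded_44_2 (flp_e L792129) (flp_i L786731) L798810
theorem L798824 : sm gd N60849 = N59670 := ded_34_1 (flp_e L786735) (flp_d L775020) (flp_e L775010) L786719 L798810
theorem L798826 : sm gf N59670 = N60850 := rfl
theorem L798828 : sm ga N60850 = N59906 := ded_14_1 (flp_f L789665) (flp_a L786737) L798826
theorem L798830 : sm gb N60850 = N59675 := ded_22_1 (flp_f L786804) (flp_b L786739) L798826
theorem L798832 : sm gj N60850 = N59685 := ded_46_2 (flp_f L786925) (flp_j L786743) L798826
theorem L798834 : sm gh N60850 = N60850 := ded_47_2 (flp_f L798826) L786745 L798826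
theorem L798835 : sm gi N60850 = N60149 := ded_48_2 (flp_f L792157) (flp_i L786746) L798826
theorem L798837 : sm ge N60850 = N60850 := ded_40_1 (flp_f L798826) (flp_e L786735) L775026 L786735 L798826
theorem L798838 : sm gc N59671 = N60851 := rfl
theorem L798840 : sm ga N60851 = N60426 := ded_11_1 (flp_c L794732) (flp_a L786750) L798838
theorem L798842 : sm gf N60851 = N60290 := ded_29_2 L793449 (flp_f L786754) L798838
theorem L798844 : sm gg N60851 = N60151 := ded_30_2 (flp_c L792184) (flp_g L786756) L798838
theorem L798846 : sm gj N60851 = N59686 := ded_31_2 (flp_c L786935) (flp_j L786758) L798838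
theorem L798848 : sm gh N60851 = N59673 := ded_32_2 (flp_c L786780) (flp_h L786762) L798838
theorem L798850 : sm gi N60851 = N60294 := ded_33_2 L793485 (flp_i L786760) L798838
theorem L798852 : sm gd N60851 = N59703 := ded_27_2 (flp_c L787130) (flp_d L775338) (flp_c L775040) L786748 L798838
theorem L798854 : sm ge N59671 = N60852 := rfl
theorem L798856 : sm ga N60852 = N60427 := ded_13_1 (flp_e L794744) (flp_a L786750) L798854
theorem L798858 : sm gb N60852 = N60164 := ded_21_1 (flp_e L792313) (flp_b L786752) L798854
theorem L798860 : sm gg N60852 = N60152 := ded_41_2 (flp_e L792192) (flp_g L786756) L798854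
theorem L798862 : sm gj N60852 = N59687 := ded_42_2 (flp_e L786947) (flp_j L786758) L798854
theorem L798864 : sm gh N60852 = N59674 := ded_43_2 (flp_e L786792) (flp_h L786762) L798854
theorem L798866 : sm gi N60852 = N60339 := ded_44_2 (flp_e L793867) (flp_i L786760) L798854
theorem L798868 : sm gd N60852 = N60852 := ded_34_1 (flp_e L798854) (flp_d L786748) L775042 L786748 L798854
theorem L798869 : sm gc N59672 = N60853 := rfl
theorem L798871 : sm ga N60853 = N60459 := ded_11_1 (flp_c L794984) (flp_a L786766) L798869
theorem L798873 : sm gf N60853 = N59673 := ded_29_2 (flp_c L786780) (flp_f L786770) L798869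
theorem L798875 : sm gg N60853 = N60422 := ded_30_2 (flp_c L794693) (flp_g L786772) L798869
theorem L798877 : sm gj N60853 = N59688 := ded_31_2 (flp_c L786958) (flp_j L786774) L798869
theorem L798879 : sm gh N60853 = N60290 := ded_32_2 L793449 (flp_h L786778) L798869
theorem L798881 : sm gi N60853 = N60380 := ded_33_2 (flp_c L794314) (flp_i L786776) L798869
theorem L798883 : sm gd N60853 = N59677 := ded_27_2 (flp_c L786832) (flp_d L775108) (flp_c L775057) L786764 L798869
theorem L798885 : sm ge N59672 = N60854 := rfl
theorem L798887 : sm ga N60854 = N60460 := ded_13_1 (flp_e L794996) (flp_a L786766) L798885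
theorem L798889 : sm gb N60854 = N60417 := ded_21_1 (flp_e L794652) (flp_b L786768) L798885
theorem L798891 : sm gg N60854 = N60423 := ded_41_2 (flp_e L794701) (flp_g L786772) L798885
theorem L798893 : sm gj N60854 = N59689 := ded_42_2 (flp_e L786970) (flp_j L786774) L798885
theorem L798895 : sm gh N60854 = N60013 := ded_43_2 L790688 (flp_h L786778) L798885
theorem L798897 : sm gi N60854 = N60381 := ded_44_2 (flp_e L794326) (flp_i L786776) L798885
theorem L798899 : sm gd N60854 = N60854 := ded_34_1 (flp_e L798885) (flp_d L786764) L775059 L786764 L798885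
theorem L798900 : sm gb N59673 = N60855 := rfl
theorem L798902 : sm gd N60855 = N59679 := ded_20_2 (flp_b L786857) (flp_d L786790) L798900
theorem L798904 : sm gg N60855 = N60655 := ded_23_2 (flp_b L796292) (flp_g L786784) L798900
theorem L798906 : sm gj N60855 = N59690 := ded_24_2 (flp_b L786979) (flp_j L786786) L798900
theorem L798908 : sm gi N60855 = N60382 := ded_26_2 (flp_b L794335) (flp_i L786788) L798900
theorem L798910 : sm ge N59673 = N60856 := rfl
theorem L798912 : sm ga N60856 = N60464 := ded_13_1 (flp_e L795029) (flp_a L786782) L798910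
theorem L798914 : sm gc N60856 = N59674 := ded_28_1 (flp_e L786792) L786780 L798910
theorem L798916 : sm gg N60856 = N60656 := ded_41_2 (flp_e L796300) (flp_g L786784) L798910
theorem L798918 : sm gj N60856 = N59691 := ded_42_2 (flp_e L786987) (flp_j L786786) L798910
theorem L798920 : sm gi N60856 = N60383 := ded_44_2 (flp_e L794345) (flp_i L786788) L798910
theorem L798922 : sm gd N60856 = N60686 := ded_34_1 (flp_e L796505) (flp_d L785079) L785069 (flp_d L786790) L798910
theorem L798924 : sm gf N59674 = N60857 := rfl
theorem L798926 : sm ga N60857 = N60465 := ded_14_1 (flp_f L795037) (flp_a L786794) L798924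
theorem L798928 : sm gd N60857 = N59675 := ded_35_1 (flp_f L786804) (flp_d L786802) L798924
theorem L798930 : sm gj N60857 = N59692 := ded_46_2 (flp_f L786997) (flp_j L786798) L798924
theorem L798932 : sm gi N60857 = N60384 := ded_48_2 (flp_f L794359) (flp_i L786800) L798924
theorem L798934 : sm gg N59675 = N60858 := rfl
theorem L798936 : sm ga N60858 = N60507 := ded_15_1 (flp_g L795320) (flp_a L786806) L798934
theorem L798938 : sm gc N60858 = N59685 := ded_30_1 L786933 (flp_c L786808) L798934
theorem L798940 : sm ge N60858 = N60858 := ded_41_1 (flp_g L798934) L786815 L798934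
theorem L798941 : sm gh N60858 = N60858 := ded_50_2 (flp_g L798934) L786812 L798934
theorem L798942 : sm gi N60858 = N60407 := ded_51_2 (flp_g L794561) (flp_i L786813) L798934
theorem L798944 : sm gf N60858 = N59684 := ded_45_1 L786920 L782412 (flp_g L775084) L786804 L798934
theorem L798946 : sm gc N59676 = N60859 := rfl
theorem L798948 : sm ga N60859 = N59933 := ded_11_1 (flp_c L789953) (flp_a L786818) L798946
theorem L798950 : sm gf N60859 = N60187 := ded_29_2 (flp_c L792507) (flp_f L786822) L798946
theorem L798952 : sm gg N60859 = N59677 := ded_30_2 (flp_c L786832) (flp_g L786824) L798946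
theorem L798954 : sm gj N60859 = N60178 := ded_31_2 (flp_c L792408) (flp_j L786826) L798946
theorem L798956 : sm gh N60859 = N59708 := ded_32_2 (flp_c L787193) (flp_h L786830) L798946
theorem L798958 : sm gi N60859 = N59866 := ded_33_2 (flp_c L789226) (flp_i L786828) L798946
theorem L798960 : sm gd N60859 = N60422 := ded_27_2 (flp_c L794693) (flp_d L782501) (flp_c L775097) L786816 L798946
theorem L798962 : sm ge N59676 = N60860 := rfl
theorem L798964 : sm ga N60860 = N59934 := ded_13_1 (flp_e L789961) (flp_a L786818) L798962
theorem L798966 : sm gb N60860 = N60142 := ded_21_1 (flp_e L792090) (flp_b L786820) L798962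
theorem L798968 : sm gg N60860 = N59678 := ded_41_2 (flp_e L786844) (flp_g L786824) L798962
theorem L798970 : sm gj N60860 = N60179 := ded_42_2 (flp_e L792420) (flp_j L786826) L798962
theorem L798972 : sm gh N60860 = N59709 := ded_43_2 (flp_e L787205) (flp_h L786830) L798962
theorem L798974 : sm gi N60860 = N59867 := ded_44_2 (flp_e L789238) (flp_i L786828) L798962
theorem L798976 : sm gd N60860 = N60860 := ded_34_1 (flp_e L798962) (flp_d L786816) L775099 L786816 L798962
theorem L798977 : sm gb N59677 = N60861 := rfl
theorem L798979 : sm gf N60861 = N59679 := ded_22_2 (flp_b L786857) (flp_f L786836) L798977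
theorem L798981 : sm gj N60861 = N59694 := ded_24_2 (flp_b L787017) (flp_j L786838) L798977
theorem L798983 : sm gh N60861 = N59710 := ded_25_2 (flp_b L787219) (flp_h L786840) L798977
theorem L798985 : sm gi N60861 = N60538 := ded_26_2 (flp_b L795544) (flp_i L786842) L798977
theorem L798987 : sm gc N60861 = N60143 := ded_19_2 (flp_b L792097) (flp_c L779910) (flp_b L775112) L786832 L798977
theorem L798989 : sm ge N59677 = N60862 := rfl
theorem L798991 : sm ga N60862 = N60548 := ded_13_1 (flp_e L795614) (flp_a L786834) L798989
theorem L798993 : sm gc N60862 = N59678 := ded_28_1 (flp_e L786844) L786832 L798989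
theorem L798995 : sm gj N60862 = N59695 := ded_42_2 (flp_e L787029) (flp_j L786838) L798989
theorem L798997 : sm gh N60862 = N59711 := ded_43_2 (flp_e L787231) (flp_h L786840) L798989
theorem L798999 : sm gi N60862 = N60539 := ded_44_2 (flp_e L795552) (flp_i L786842) L798989
theorem L799001 : sm ga N59679 = N60863 := rfl
theorem L799003 : sm gc N60863 = N60145 := ded_11_2 (flp_a L792113) (flp_c L786867) L799001
theorem L799005 : sm gg N60863 = N60660 := ded_15_2 (flp_a L796332) (flp_g L786859) L799001
theorem L799007 : sm gj N60863 = N59696 := ded_16_2 (flp_a L787039) (flp_j L786861) L799001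
theorem L799009 : sm gh N60863 = N59712 := ded_17_2 (flp_a L787241) (flp_h L786863) L799001
theorem L799011 : sm gi N60863 = N60678 := ded_18_2 (flp_a L796455) (flp_i L786865) L799001
theorem L799013 : sm gc N59680 = N60864 := rfl
theorem L799015 : sm ga N60864 = N59682 := ded_11_1 (flp_c L786898) (flp_a L786871) L799013
theorem L799017 : sm gf N60864 = N60644 := ded_29_2 (flp_c L796219) (flp_f L786875) L799013
theorem L799019 : sm gg N60864 = N60197 := ded_30_2 (flp_c L792599) (flp_g L786877) L799013
theorem L799021 : sm gj N60864 = N59903 := ded_31_2 (flp_c L789638) (flp_j L786879) L799013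
theorem L799023 : sm gh N60864 = N60277 := ded_32_2 (flp_c L793348) (flp_h L786883) L799013
theorem L799025 : sm gi N60864 = N60137 := ded_33_2 (flp_c L792033) (flp_i L786881) L799013
theorem L799027 : sm gd N60864 = N60146 := ded_27_2 (flp_c L792119) (flp_d L779931) (flp_c L775138) L786869 L799013
theorem L799029 : sm ge N59680 = N60865 := rfl
theorem L799031 : sm ga N60865 = N59683 := ded_13_1 (flp_e L786906) (flp_a L786871) L799029
theorem L799033 : sm gb N60865 = N59792 := ded_21_1 L788254 (flp_b L786873) L799029
theorem L799035 : sm gg N60865 = N59707 := ded_41_2 L787191 (flp_g L786877) L799029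
theorem L799037 : sm gj N60865 = N59904 := ded_42_2 (flp_e L789646) (flp_j L786879) L799029
theorem L799039 : sm gh N60865 = N60278 := ded_43_2 (flp_e L793356) (flp_h L786883) L799029
theorem L799041 : sm gi N60865 = N59751 := ded_44_2 L787740 (flp_i L786881) L799029
theorem L799043 : sm gd N60865 = N59681 := ded_34_1 (flp_e L786885) (flp_d L775150) (flp_e L775140) L786869 L799029
theorem L799045 : sm gb N59682 = N60866 := rfl
theorem L799047 : sm gd N60866 = N60153 := ded_20_2 (flp_b L792201) (flp_d L786904) L799045
theorem L799049 : sm gg N60866 = N60409 := ded_23_2 (flp_b L794576) (flp_g L786900) L799045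
theorem L799051 : sm gi N60866 = N60392 := ded_26_2 (flp_b L794439) (flp_i L786902) L799045
theorem L799053 : sm gc N60866 = N59690 := ded_19_2 (flp_b L786979) (flp_c L775211) (flp_b L775166) L786898 L799045
theorem L799055 : sm ge N59682 = N60867 := rfl
theorem L799057 : sm gc N60867 = N59683 := ded_28_1 (flp_e L786906) L786898 L799055
theorem L799059 : sm gg N60867 = N60410 := ded_41_2 (flp_e L794588) (flp_g L786900) L799055
theorem L799061 : sm gi N60867 = N60393 := ded_44_2 (flp_e L794447) (flp_i L786902) L799055
theorem L799063 : sm gf N59683 = N60868 := rfl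
theorem L799065 : sm gb N60868 = N59692 := ded_22_1 (flp_f L786997) (flp_b L786908) L799063
theorem L799067 : sm gd N60868 = N59685 := ded_35_1 (flp_f L786925) (flp_d L786914) L799063
theorem L799069 : sm gi N60868 = N60394 := ded_48_2 (flp_f L794455) (flp_i L786912) L799063
theorem L799071 : sm gg N60868 = N60687 := ded_45_2 (flp_f L796513) L784485 (flp_f L782401) (flp_g L786910) L799063
theorem L799073 : sm gd N59684 = N60869 := rfl
theorem L799075 : sm gg N60869 = N60411 := ded_36_2 (flp_d L794598) (flp_g L786920) L799073
theorem L799077 : sm gi N60869 = N60408 := ded_39_2 (flp_d L794572) (flp_i L786923) L799073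
theorem L799079 : sm ge N60869 = N60156 := ded_34_2 (flp_d L792221) (flp_e L780006) (flp_d L775180) L786916 L799073
theorem L799081 : sm gb N59686 = N60870 := rfl
theorem L799083 : sm gd N60870 = N59720 := ded_20_2 (flp_b L787357) (flp_d L786945) L799081
theorem L799085 : sm gg N60870 = N60412 := ded_23_2 (flp_b L794608) (flp_g L786939) L799081
theorem L799087 : sm gh N60870 = N59690 := ded_25_2 (flp_b L786979) (flp_h L786941) L799081
theorem L799089 : sm gi N60870 = N60365 := ded_26_2 (flp_b L794186) (flp_i L786943) L799081
theorem L799091 : sm ge N59686 = N60871 := rfl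
theorem L799093 : sm ga N60871 = N60439 := ded_13_1 (flp_e L794847) (flp_a L786937) L799091
theorem L799095 : sm gc N60871 = N59687 := ded_28_1 (flp_e L786947) L786935 L799091
theorem L799097 : sm gg N60871 = N60413 := ded_41_2 (flp_e L794618) (flp_g L786939) L799091
theorem L799099 : sm gh N60871 = N59691 := ded_43_2 (flp_e L786987) (flp_h L786941) L799091
theorem L799101 : sm gi N60871 = N60366 := ded_44_2 (flp_e L794190) (flp_i L786943) L799091
theorem L799103 : sm gf N59687 = N60872 := rfl
theorem L799105 : sm ga N60872 = N60328 := ded_14_1 L793759 (flp_a L786949) L799103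
theorem L799107 : sm gd N60872 = N60872 := ded_35_1 (flp_f L799103) L786957 L799103
theorem L799108 : sm gh N60872 = N59692 := ded_47_2 (flp_f L786997) (flp_h L786953) L799103
theorem L799110 : sm gi N60872 = N60134 := ded_48_2 L792012 (flp_i L786955) L799103
theorem L799112 : sm ge N60872 = N60135 := ded_40_1 L797829 (flp_e L797813) L785707 L786947 L799103
theorem L799114 : sm gb N59688 = N60873 := rfl
theorem L799116 : sm gd N60873 = N59694 := ded_20_2 (flp_b L787017) (flp_d L786968) L799114
theorem L799118 : sm gf N60873 = N59690 := ded_22_2 (flp_b L786979) (flp_f L786962) L799114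
theorem L799120 : sm gg N60873 = N60627 := ded_23_2 (flp_b L796106) (flp_g L786964) L799114
theorem L799122 : sm gi N60873 = N60398 := ded_26_2 (flp_b L794487) (flp_i L786966) L799114
theorem L799124 : sm ge N59688 = N60874 := rfl
theorem L799126 : sm ga N60874 = N60491 := ded_13_1 (flp_e L795233) (flp_a L786960) L799124
theorem L799128 : sm gc N60874 = N59689 := ded_28_1 (flp_e L786970) L786958 L799124
theorem L799130 : sm gg N60874 = N60628 := ded_41_2 (flp_e L796114) (flp_g L786964) L799124
theorem L799132 : sm gi N60874 = N60399 := ded_44_2 (flp_e L794497) (flp_i L786966) L799124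
theorem L799134 : sm gf N59689 = N60875 := rfl
theorem L799136 : sm ga N60875 = N60221 := ded_14_1 L792853 (flp_a L786972) L799134
theorem L799138 : sm gd N60875 = N60875 := ded_35_1 (flp_f L799134) L786978 L799134
theorem L799139 : sm gh N60875 = N60135 := ded_47_2 L797829 L797823 L799134
theorem L799141 : sm gi N60875 = N60095 := ded_48_2 L791611 (flp_i L786976) L799134
theorem L799143 : sm ge N60875 = N59692 := ded_40_1 (flp_f L786997) (flp_e L775221) (flp_f L775205) L786970 L799134
theorem L799145 : sm ga N59690 = N60876 := rfl
theorem L799147 : sm gd N60876 = N59696 := ded_12_2 (flp_a L787039) (flp_d L786981) L799145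
theorem L799149 : sm gg N60876 = N60414 := ded_15_2 (flp_a L794626) (flp_g L786983) L799145
theorem L799151 : sm gi N60876 = N60400 := ded_18_2 (flp_a L794507) (flp_i L786985) L799145
theorem L799153 : sm gb N60876 = N60495 := ded_10_2 (flp_a L795254) (flp_b L783043) (flp_a L775213) L786979 L799145
theorem L799155 : sm ge N59690 = N60877 := rfl
theorem L799157 : sm gb N60877 = N59691 := ded_21_1 (flp_e L786987) L786979 L799155
theorem L799159 : sm gg N60877 = N60415 := ded_41_2 (flp_e L794636) (flp_g L786983) L799155
theorem L799161 : sm gi N60877 = N60401 := ded_44_2 (flp_e L794517) (flp_i L786985) L799155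
theorem L799163 : sm gf N59691 = N60878 := rfl
theorem L799165 : sm ga N60878 = N60497 := ded_14_1 (flp_f L795264) (flp_a L786989) L799163
theorem L799167 : sm gc N60878 = N59692 := ded_29_1 (flp_f L786997) (flp_c L786991) L799163
theorem L799169 : sm gi N60878 = N60402 := ded_48_2 (flp_f L794525) (flp_i L786995) L799163
theorem L799171 : sm gg N59692 = N60879 := rfl
theorem L799173 : sm ga N60879 = N60252 := ded_15_1 L793151 (flp_a L786999) L799171
theorem L799175 : sm gb N60879 = N60687 := ded_23_1 (flp_g L799071) L799065 L799171
theorem L799177 : sm gd N60879 = N59693 := ded_36_1 (flp_g L787005) (flp_d L787001) L799171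
theorem L799179 : sm gi N60879 = N60331 := ded_51_2 L793791 (flp_i L787003) L799171
theorem L799181 : sm gf N60879 = N60106 := ded_45_1 L791734 L779566 (flp_g L775225) L786997 L799171
theorem L799183 : sm ga N59694 = N60880 := rfl
theorem L799185 : sm gc N60880 = N60174 := ded_11_2 (flp_a L792379) (flp_c L787027) L799183
theorem L799187 : sm gf N60880 = N59696 := ded_14_2 (flp_a L787039) (flp_f L787019) L799183
theorem L799189 : sm gg N60880 = N60630 := ded_15_2 (flp_a L796128) (flp_g L787021) L799183
theorem L799191 : sm gh N60880 = N59731 := ded_17_2 (flp_a L787496) (flp_h L787023) L799183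
theorem L799193 : sm gi N60880 = N60664 := ded_18_2 (flp_a L796353) (flp_i L787025) L799183
theorem L799195 : sm ge N59694 = N60881 := rfl
theorem L799197 : sm gb N60881 = N59695 := ded_21_1 (flp_e L787029) L787017 L799195
theorem L799199 : sm gc N60881 = N60175 := ded_28_1 (flp_e L792385) (flp_c L787027) L799195
theorem L799201 : sm gg N60881 = N60631 := ded_41_2 (flp_e L796134) (flp_g L787021) L799195
theorem L799203 : sm gh N60881 = N59732 := ded_43_2 (flp_e L787504) (flp_h L787023) L799195
theorem L799205 : sm gi N60881 = N60665 := ded_44_2 (flp_e L796359) (flp_i L787025) L799195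
theorem L799207 : sm gd N59695 = N60882 := rfl
theorem L799209 : sm gg N60882 = N60632 := ded_36_2 (flp_d L796140) (flp_g L787033) L799207
theorem L799211 : sm gi N60882 = N60666 := ded_39_2 (flp_d L796365) (flp_i L787037) L799207
theorem L799213 : sm gc N60882 = N60882 := ded_27_1 (flp_d L799207) L787031 L775259 (flp_c L787031) L799207
theorem L799214 : sm gc N59697 = N60883 := rfl
theorem L799216 : sm ga N60883 = N59980 := ded_11_1 (flp_c L790420) (flp_a L787051) L799214
theorem L799218 : sm gf N60883 = N59708 := ded_29_2 (flp_c L787193) (flp_f L787055) L799214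
theorem L799220 : sm gg N60883 = N59698 := ded_30_2 (flp_c L787065) (flp_g L787057) L799214
theorem L799222 : sm gj N60883 = N60141 := ded_31_2 (flp_c L792080) (flp_j L787059) L799214
theorem L799224 : sm gh N60883 = N60187 := ded_32_2 (flp_c L792507) (flp_h L787063) L799214
theorem L799226 : sm gi N60883 = N59738 := ded_33_2 (flp_c L787579) (flp_i L787061) L799214
theorem L799228 : sm gd N60883 = N60119 := ded_27_2 (flp_c L791864) (flp_d L779652) (flp_c L775276) L787049 L799214
theorem L799230 : sm ge N59697 = N60884 := rfl
theorem L799232 : sm ga N60884 = N59981 := ded_13_1 (flp_e L790428) (flp_a L787051) L799230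
theorem L799234 : sm gb N60884 = N60179 := ded_21_1 (flp_e L792420) (flp_b L787053) L799230
theorem L799236 : sm gg N60884 = N59699 := ded_41_2 (flp_e L787075) (flp_g L787057) L799230
theorem L799238 : sm gj N60884 = N60142 := ded_42_2 (flp_e L792090) (flp_j L787059) L799230
theorem L799240 : sm gh N60884 = N60188 := ded_43_2 (flp_e L792517) (flp_h L787063) L799230
theorem L799242 : sm gi N60884 = N59739 := ded_44_2 (flp_e L787591) (flp_i L787061) L799230
theorem L799244 : sm gd N60884 = N60884 := ded_34_1 (flp_e L799230) (flp_d L787049) L775278 L787049 L799230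
theorem L799245 : sm gb N59698 = N60885 := rfl
theorem L799247 : sm gf N60885 = N59700 := ded_22_2 (flp_b L787088) (flp_f L787067) L799245
theorem L799249 : sm gj N60885 = N60172 := ded_24_2 (flp_b L792357) (flp_j L787069) L799245
theorem L799251 : sm gh N60885 = N60204 := ded_25_2 (flp_b L792677) (flp_h L787071) L799245
theorem L799253 : sm gi N60885 = N59740 := ded_26_2 (flp_b L787602) (flp_i L787073) L799245
theorem L799255 : sm gc N60885 = N60180 := ded_19_2 (flp_b L792429) (flp_c L780168) (flp_b L775289) L787065 L799245
theorem L799257 : sm ge N59698 = N60886 := rfl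
theorem L799259 : sm gc N60886 = N59699 := ded_28_1 (flp_e L787075) L787065 L799257
theorem L799261 : sm gj N60886 = N60173 := ded_42_2 (flp_e L792369) (flp_j L787069) L799257
theorem L799263 : sm gh N60886 = N60205 := ded_43_2 (flp_e L792685) (flp_h L787071) L799257
theorem L799265 : sm gi N60886 = N59741 := ded_44_2 (flp_e L787610) (flp_i L787073) L799257
theorem L799267 : sm gf N60886 = N60548 := ded_40_2 (flp_e L795614) (flp_f L785239) L785237 (flp_f L787067) L799257
theorem L799269 : sm ga N59700 = N60887 := rfl
theorem L799271 : sm gc N60887 = N60182 := ded_11_2 (flp_a L792445) (flp_c L787098) L799269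
theorem L799273 : sm gg N60887 = N59712 := ded_15_2 (flp_a L787241) (flp_g L787090) L799269
theorem L799275 : sm gj N60887 = N60421 := ded_16_2 (flp_a L794683) (flp_j L787092) L799269
theorem L799277 : sm gh N60887 = N60660 := ded_17_2 (flp_a L796332) (flp_h L787094) L799269
theorem L799279 : sm gi N60887 = N59742 := ded_18_2 (flp_a L787620) (flp_i L787096) L799269
theorem L799281 : sm gb N59701 = N60888 := rfl
theorem L799283 : sm gd N60888 = N60183 := ded_20_2 (flp_b L792453) (flp_d L787112) L799281
theorem L799285 : sm gf N60888 = N60237 := ded_22_2 (flp_b L793006) (flp_f L787104) L799281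
theorem L799287 : sm gj N60888 = N59715 := ded_24_2 (flp_b L787282) (flp_j L787106) L799281
theorem L799289 : sm gh N60888 = N60627 := ded_25_2 (flp_b L796106) (flp_h L787108) L799281
theorem L799291 : sm gi N60888 = N59745 := ded_26_2 (flp_b L787662) (flp_i L787110) L799281
theorem L799293 : sm gc N60888 = N59705 := ded_19_2 (flp_b L787157) (flp_c L775352) (flp_b L775313) L787100 L799281
theorem L799295 : sm ge N59701 = N60889 := rfl
theorem L799297 : sm ga N60889 = N60239 := ded_13_1 (flp_e L793028) (flp_a L787102) L799295
theorem L799299 : sm gc N60889 = N59702 := ded_28_1 (flp_e L787114) L787100 L799295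
theorem L799301 : sm gj N60889 = N59716 := ded_42_2 (flp_e L787294) (flp_j L787106) L799295
theorem L799303 : sm gh N60889 = N60628 := ded_43_2 (flp_e L796114) (flp_h L787108) L799295
theorem L799305 : sm gi N60889 = N59746 := ded_44_2 (flp_e L787674) (flp_i L787110) L799295
theorem L799307 : sm gd N60889 = N60588 := ded_34_1 (flp_e L795860) L783754 (flp_e L780195) (flp_d L787112) L799295
theorem L799309 : sm gf N60889 = N60501 := ded_40_2 (flp_e L795288) (flp_f L788094) L788092 (flp_f L787104) L799295
theorem L799311 : sm gb N59703 = N60890 := rfl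
theorem L799313 : sm gf N60890 = N60289 := ded_22_2 L793431 (flp_f L787134) L799311
theorem L799315 : sm gj N60890 = N59720 := ded_24_2 (flp_b L787357) (flp_j L787136) L799311
theorem L799317 : sm gh N60890 = N59705 := ded_25_2 (flp_b L787157) (flp_h L787138) L799311
theorem L799319 : sm gi N60890 = N60293 := ded_26_2 L793475 (flp_i L787140) L799311
theorem L799321 : sm gc N60890 = N60627 := ded_19_2 (flp_b L796106) (flp_c L784054) (flp_b L775342) L787130 L799311
theorem L799323 : sm ge N59703 = N60891 := rfl
theorem L799325 : sm ga N60891 = N60650 := ded_13_1 (flp_e L796263) (flp_a L787132) L799323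
theorem L799327 : sm gc N60891 = N59704 := ded_28_1 (flp_e L787142) L787130 L799323
theorem L799329 : sm gj N60891 = N59721 := ded_42_2 (flp_e L787363) (flp_j L787136) L799323
theorem L799331 : sm gh N60891 = N59706 := ded_43_2 (flp_e L787167) (flp_h L787138) L799323
theorem L799333 : sm gi N60891 = N60287 := ded_44_2 L793421 (flp_i L787140) L799323
theorem L799335 : sm gf N60891 = N60283 := ded_40_2 (flp_e L793392) L781013 L781051 (flp_f L787134) L799323
theorem L799337 : sm ga N59705 = N60892 := rfl
theorem L799339 : sm gd N60892 = N59712 := ded_12_2 (flp_a L787241) (flp_d L787159) L799337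
theorem L799341 : sm gf N60892 = N60614 := ded_14_2 (flp_a L796032) (flp_f L787161) L799337
theorem L799343 : sm gj N60892 = N59724 := ded_16_2 (flp_a L787404) (flp_j L787163) L799337
theorem L799345 : sm gi N60892 = N59748 := ded_18_2 (flp_a L787700) (flp_i L787165) L799337
theorem L799347 : sm gb N60892 = N60690 := ded_10_2 (flp_a L796533) (flp_b L784511) (flp_a L775354) L787157 L799337
theorem L799349 : sm ge N59705 = N60893 := rfl
theorem L799351 : sm gb N60893 = N59706 := ded_21_1 (flp_e L787167) L787157 L799349
theorem L799353 : sm gj N60893 = N59725 := ded_42_2 (flp_e L787412) (flp_j L787163) L799349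
theorem L799355 : sm gi N60893 = N59749 := ded_44_2 (flp_e L787712) (flp_i L787165) L799349
theorem L799357 : sm gf N59706 = N60894 := rfl
theorem L799359 : sm ga N60894 = N60410 := ded_14_1 L794596 (flp_a L787169) L799357
theorem L799361 : sm gc N60894 = N59707 := ded_29_1 (flp_f L787177) (flp_c L787171) L799357
theorem L799363 : sm gj N60894 = N59726 := ded_46_2 (flp_f L787420) (flp_j L787173) L799357
theorem L799365 : sm gh N60894 = N60283 := ded_47_2 (flp_f L799335) L799331 L799357
theorem L799367 : sm gi N60894 = N59750 := ded_48_2 (flp_f L787720) (flp_i L787175) L799357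
theorem L799369 : sm ge N60894 = N60197 := ded_40_1 L792603 L780341 (flp_f L775356) L787167 L799357
theorem L799371 : sm gb N59708 = N60895 := rfl
theorem L799373 : sm gd N60895 = N60123 := ded_20_2 (flp_b L791907) (flp_d L787203) L799371
theorem L799375 : sm gg N60895 = N59710 := ded_23_2 (flp_b L787219) (flp_g L787197) L799371
theorem L799377 : sm gj N60895 = N60636 := ded_24_2 (flp_b L796167) (flp_j L787199) L799371
theorem L799379 : sm gi N60895 = N59754 := ded_26_2 (flp_b L787778) (flp_i L787201) L799371
theorem L799381 : sm gc N60895 = N60189 := ded_19_2 (flp_b L792529) (flp_c L780255) (flp_b L775391) L787193 L799371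
theorem L799383 : sm ge N59708 = N60896 := rfl
theorem L799385 : sm ga N60896 = N59986 := ded_13_1 (flp_e L790462) (flp_a L787195) L799383
theorem L799387 : sm gc N60896 = N59709 := ded_28_1 (flp_e L787205) L787193 L799383
theorem L799389 : sm gg N60896 = N59711 := ded_41_2 (flp_e L787231) (flp_g L787197) L799383
theorem L799391 : sm gj N60896 = N60637 := ded_42_2 (flp_e L796171) (flp_j L787199) L799383
theorem L799393 : sm gi N60896 = N59755 := ded_44_2 (flp_e L787788) (flp_i L787201) L799383
theorem L799395 : sm gd N60896 = N60623 := ded_34_1 (flp_e L796084) L784026 (flp_e L779687) (flp_d L787203) L799383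
theorem L799397 : sm gf N59709 = N60897 := rfl
theorem L799399 : sm ga N60897 = N59987 := ded_14_1 (flp_f L790470) (flp_a L787207) L799397
theorem L799401 : sm gb N60897 = N60191 := ded_22_1 (flp_f L792543) (flp_b L787209) L799397
theorem L799403 : sm gd N60897 = N59734 := ded_35_1 (flp_f L787524) (flp_d L787217) L799397
theorem L799405 : sm gj N60897 = N60009 := ded_46_2 L790635 (flp_j L787213) L799397
theorem L799407 : sm gi N60897 = N59756 := ded_48_2 (flp_f L787800) (flp_i L787215) L799397
theorem L799409 : sm ga N59710 = N60898 := rfl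
theorem L799411 : sm gc N60898 = N60192 := ded_11_2 (flp_a L792549) (flp_c L787229) L799409
theorem L799413 : sm gd N60898 = N60614 := ded_12_2 (flp_a L796032) (flp_d L787221) L799409
theorem L799415 : sm gf N60898 = N59712 := ded_14_2 (flp_a L787241) (flp_f L787223) L799409
theorem L799417 : sm gj N60898 = N59731 := ded_16_2 (flp_a L787496) (flp_j L787225) L799409
theorem L799419 : sm gi N60898 = N59757 := ded_18_2 (flp_a L787812) (flp_i L787227) L799409
theorem L799421 : sm gb N60898 = N60568 := ded_10_2 (flp_a L795733) (flp_b L783581) (flp_a L775401) L787219 L799409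
theorem L799423 : sm ge N59710 = N60899 := rfl
theorem L799425 : sm gb N60899 = N59711 := ded_21_1 (flp_e L787231) L787219 L799423
theorem L799427 : sm gc N60899 = N60193 := ded_28_1 (flp_e L792557) (flp_c L787229) L799423
theorem L799429 : sm gj N60899 = N59732 := ded_42_2 (flp_e L787504) (flp_j L787225) L799423
theorem L799431 : sm gi N60899 = N59758 := ded_44_2 (flp_e L787826) (flp_i L787227) L799423
theorem L799433 : sm gd N59711 = N60900 := rfl
theorem L799435 : sm ga N60900 = N60425 := ded_12_1 L794730 (flp_a L787233) L799433
theorem L799437 : sm gg N60900 = N60623 := ded_36_2 (flp_d L799395) L799389 L799433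
theorem L799439 : sm gj N60900 = N59733 := ded_37_2 (flp_d L787512) (flp_j L787237) L799433
theorem L799441 : sm gi N60900 = N59759 := ded_39_2 (flp_d L787836) (flp_i L787239) L799433
theorem L799443 : sm gc N60900 = N59735 := ded_27_1 (flp_d L787538) L775655 (flp_d L775421) (flp_c L787235) L799433
theorem L799445 : sm ge N60900 = N60161 := ded_34_2 L792291 L780341 (flp_d L775409) L787231 L799433
theorem L799447 : sm gb N59713 = N60901 := rfl
theorem L799449 : sm gd N60901 = N60180 := ded_20_2 (flp_b L792429) (flp_d L787263) L799447
theorem L799451 : sm gf N60901 = N60177 := ded_22_2 (flp_b L792394) (flp_f L787253) L799447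
theorem L799453 : sm gg N60901 = N60432 := ded_23_2 (flp_b L794789) (flp_g L787255) L799447
theorem L799455 : sm gj N60901 = N60627 := ded_24_2 (flp_b L796106) (flp_j L787257) L799447
theorem L799457 : sm gh N60901 = N59715 := ded_25_2 (flp_b L787282) (flp_h L787259) L799447
theorem L799459 : sm gi N60901 = N60226 := ded_26_2 (flp_b L792906) (flp_i L787261) L799447
theorem L799461 : sm gc N60901 = N59720 := ded_19_2 (flp_b L787357) (flp_c L775507) (flp_b L775435) L787249 L799447
theorem L799463 : sm ge N59713 = N60902 := rfl
theorem L799465 : sm ga N60902 = N60269 := ded_13_1 (flp_e L793273) (flp_a L787251) L799463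
theorem L799467 : sm gc N60902 = N59714 := ded_28_1 (flp_e L787265) L787249 L799463
theorem L799469 : sm gg N60902 = N60433 := ded_41_2 (flp_e L794795) (flp_g L787255) L799463
theorem L799471 : sm gj N60902 = N60628 := ded_42_2 (flp_e L796114) (flp_j L787257) L799463
theorem L799473 : sm gh N60902 = N59716 := ded_43_2 (flp_e L787294) (flp_h L787259) L799463
theorem L799475 : sm gi N60902 = N60227 := ded_44_2 (flp_e L792914) (flp_i L787261) L799463
theorem L799477 : sm gf N60902 = N60489 := ded_40_2 (flp_e L795217) L783003 (flp_e L780146) (flp_f L787253) L799463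
theorem L799479 : sm ga N59715 = N60903 := rfl
theorem L799481 : sm gc N60903 = N59724 := ded_11_2 (flp_a L787404) (flp_c L787292) L799479
theorem L799483 : sm gd N60903 = N60196 := ded_12_2 (flp_a L792589) (flp_d L787284) L799479
theorem L799485 : sm gf N60903 = N60266 := ded_14_2 (flp_a L793249) (flp_f L787286) L799479
theorem L799487 : sm gg N60903 = N60435 := ded_15_2 (flp_a L794815) (flp_g L787288) L799479
theorem L799489 : sm gi N60903 = N59768 := ded_18_2 (flp_a L787970) (flp_i L787290) L799479
theorem L799491 : sm gb N60903 = N60272 := ded_10_2 (flp_a L793303) (flp_b L780950) (flp_a L775449) L787282 L799479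
theorem L799493 : sm ge N59715 = N60904 := rfl
theorem L799495 : sm gb N60904 = N59716 := ded_21_1 (flp_e L787294) L787282 L799493
theorem L799497 : sm gc N60904 = N59725 := ded_28_1 (flp_e L787412) (flp_c L787292) L799493
theorem L799499 : sm gg N60904 = N60436 := ded_41_2 (flp_e L794823) (flp_g L787288) L799493
theorem L799501 : sm gi N60904 = N59769 := ded_44_2 (flp_e L787978) (flp_i L787290) L799493
theorem L799503 : sm gd N60904 = N60600 := ded_34_1 (flp_e L795956) L783860 (flp_e L780305) (flp_d L787284) L799493
theorem L799505 : sm gf N60904 = N60503 := ded_40_2 (flp_e L795300) (flp_f L788112) L788110 (flp_f L787286) L799493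
theorem L799507 : sm gb N59717 = N60905 := rfl
theorem L799509 : sm ge N60905 = N60246 := ded_21_2 (flp_b L793091) (flp_e L787312) L799507
theorem L799511 : sm gf N60905 = N59720 := ded_22_2 (flp_b L787357) (flp_f L787314) L799507
theorem L799513 : sm gg N60905 = N60183 := ded_23_2 (flp_b L792453) (flp_g L787316) L799507
theorem L799515 : sm gj N60905 = N60289 := ded_24_2 L793431 (flp_j L787318) L799507
theorem L799517 : sm gh N60905 = N59723 := ded_25_2 (flp_b L787388) (flp_h L787320) L799507
theorem L799519 : sm gi N60905 = N60222 := ded_26_2 (flp_b L792857) (flp_i L787322) L799507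
theorem L799521 : sm gc N60905 = N60177 := ded_19_2 (flp_b L792394) (flp_c L780142) (flp_b L775477) L787308 L799507
theorem L799523 : sm gb N59718 = N60906 := rfl
theorem L799525 : sm gd N60906 = N60365 := ded_20_2 (flp_b L794186) (flp_d L787338) L799523
theorem L799527 : sm gf N60906 = N60222 := ded_22_2 (flp_b L792857) (flp_f L787328) L799523
theorem L799529 : sm gg N60906 = N60438 := ded_23_2 (flp_b L794841) (flp_g L787330) L799523
theorem L799531 : sm gj N60906 = N60293 := ded_24_2 L793475 (flp_j L787332) L799523
theorem L799533 : sm gh N60906 = N59771 := ded_25_2 (flp_b L788000) (flp_h L787334) L799523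
theorem L799535 : sm gi N60906 = N59720 := ded_26_2 (flp_b L787357) (flp_i L787336) L799523
theorem L799537 : sm gc N60906 = N60226 := ded_19_2 (flp_b L792906) (flp_c L780618) (flp_b L775495) L787324 L799523
theorem L799539 : sm ge N59718 = N60907 := rfl
theorem L799541 : sm ga N60907 = N60413 := ded_13_1 (flp_e L794618) (flp_a L787326) L799539
theorem L799543 : sm gc N60907 = N59719 := ded_28_1 (flp_e L787340) L787324 L799539
theorem L799545 : sm gg N60907 = N60439 := ded_41_2 (flp_e L794847) (flp_g L787330) L799539
theorem L799547 : sm gj N60907 = N60287 := ded_42_2 L793421 (flp_j L787332) L799539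
theorem L799549 : sm gh N60907 = N59772 := ded_43_2 (flp_e L788012) (flp_h L787334) L799539
theorem L799551 : sm gi N60907 = N59721 := ded_44_2 (flp_e L787363) (flp_i L787336) L799539
theorem L799553 : sm gf N60907 = N60245 := ded_40_2 (flp_e L793083) L780764 (flp_e L780586) (flp_f L787328) L799539
theorem L799555 : sm ga N59720 = N60908 := rfl
theorem L799557 : sm gg N60908 = N60440 := ded_15_2 (flp_a L794855) (flp_g L787359) L799555
theorem L799559 : sm gh N60908 = N59724 := ded_17_2 (flp_a L787404) (flp_h L787361) L799555
theorem L799561 : sm ge N59720 = N60909 := rfl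
theorem L799563 : sm gb N60909 = N59721 := ded_21_1 (flp_e L787363) L787357 L799561
theorem L799565 : sm gg N60909 = N60441 := ded_41_2 (flp_e L794859) (flp_g L787359) L799561
theorem L799567 : sm gh N60909 = N59725 := ded_43_2 (flp_e L787412) (flp_h L787361) L799561
theorem L799569 : sm gd N59721 = N60910 := rfl
theorem L799571 : sm gg N60910 = N60442 := ded_36_2 (flp_d L794865) (flp_g L787367) L799569
theorem L799573 : sm gc N60910 = N60910 := ded_27_1 (flp_d L799569) L787365 L775519 (flp_c L787365) L799569
theorem L799574 : sm gf N59721 = N60911 := rfl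
theorem L799576 : sm ga N60911 = N60639 := ded_14_1 (flp_f L798590) L798578 L799574
theorem L799578 : sm gc N60911 = N59722 := ded_29_1 (flp_f L787371) (flp_c L787365) L799574
theorem L799580 : sm gj N60911 = N60283 := ded_46_2 (flp_f L799335) L799329 L799574
theorem L799582 : sm gh N60911 = N59726 := ded_47_2 (flp_f L787420) (flp_h L787369) L799574
theorem L799584 : sm gi N60911 = N60245 := ded_48_2 (flp_f L799553) L799551 L799574
theorem L799586 : sm ge N60911 = N60243 := ded_40_1 L793065 (flp_e L787312) L787314 L787363 L799574
theorem L799588 : sm gg N60479 = N60911 := ded_30_0 L799578 (flp_g L787386) (flp_c L795145)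
theorem L799590 : sm ga N59723 = N60912 := rfl
theorem L799592 : sm gc N60912 = N60266 := ded_11_2 (flp_a L793249) (flp_c L787402) L799590
theorem L799594 : sm gd N60912 = N59731 := ded_12_2 (flp_a L787496) (flp_d L787390) L799590
theorem L799596 : sm ge N60912 = N60635 := ded_13_2 (flp_a L796161) (flp_e L787392) L799590
theorem L799598 : sm gf N60912 = N59724 := ded_14_2 (flp_a L787404) (flp_f L787394) L799590
theorem L799600 : sm gg N60912 = N60612 := ded_15_2 (flp_a L796020) (flp_g L787396) L799590
theorem L799602 : sm gj N60912 = N60614 := ded_16_2 (flp_a L796032) (flp_j L787398) L799590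
theorem L799604 : sm gi N60912 = N59779 := ded_18_2 (flp_a L788122) (flp_i L787400) L799590
theorem L799606 : sm gb N60912 = N60118 := ded_10_2 (flp_a L791852) (flp_b L779640) (flp_a L775522) L787388 L799590
theorem L799608 : sm ge N59724 = N60913 := rfl
theorem L799610 : sm ga N60913 = N59725 := ded_13_1 (flp_e L787412) L787404 L799608
theorem L799612 : sm gg N60913 = N60444 := ded_41_2 (flp_e L794878) (flp_g L787408) L799608
theorem L799614 : sm gi N60913 = N59780 := ded_44_2 (flp_e L788136) (flp_i L787410) L799608
theorem L799616 : sm gf N59725 = N60914 := rfl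
theorem L799618 : sm gb N60914 = N59726 := ded_22_1 (flp_f L787420) (flp_b L787414) L799616
theorem L799620 : sm gc N60914 = N60503 := ded_29_1 (flp_f L799505) L799497 L799616
theorem L799622 : sm gi N60914 = N59781 := ded_48_2 (flp_f L788142) (flp_i L787418) L799616
theorem L799624 : sm ge N60914 = N60484 := ded_40_1 L795179 (flp_e L787392) L787394 L787412 L799616
theorem L799626 : sm gg N60486 = N60914 := ded_23_0 L799618 (flp_g L787430) (flp_b L795197)
theorem L799628 : sm gb N59727 = N60915 := rfl
theorem L799630 : sm gd N60915 = N60195 := ded_20_2 (flp_b L792577) (flp_d L787446) L799628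
theorem L799632 : sm gf N60915 = N60136 := ded_22_2 (flp_b L792021) (flp_f L787436) L799628
theorem L799634 : sm gg N60915 = N60636 := ded_23_2 (flp_b L796167) (flp_g L787438) L799628
theorem L799636 : sm gj N60915 = N59729 := ded_24_2 (flp_b L787466) (flp_j L787440) L799628
theorem L799638 : sm gh N60915 = N60180 := ded_25_2 (flp_b L792429) (flp_h L787442) L799628
theorem L799640 : sm gi N60915 = N59783 := ded_26_2 (flp_b L788162) (flp_i L787444) L799628
theorem L799642 : sm gc N60915 = N60204 := ded_19_2 (flp_b L792677) (flp_c L780405) (flp_b L775570) L787432 L799628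
theorem L799644 : sm ge N59727 = N60916 := rfl
theorem L799646 : sm ga N60916 = N60588 := ded_13_1 (flp_e L795860) (flp_a L787434) L799644
theorem L799648 : sm gc N60916 = N59728 := ded_28_1 (flp_e L787448) L787432 L799644
theorem L799650 : sm gg N60916 = N60637 := ded_41_2 (flp_e L796171) (flp_g L787438) L799644
theorem L799652 : sm gj N60916 = N59730 := ded_42_2 (flp_e L787480) (flp_j L787440) L799644
theorem L799654 : sm gh N60916 = N60181 := ded_43_2 (flp_e L792437) (flp_h L787442) L799644
theorem L799656 : sm gi N60916 = N59784 := ded_44_2 (flp_e L788170) (flp_i L787444) L799644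
theorem L799658 : sm gd N60916 = N60239 := ded_34_1 (flp_e L793028) L780718 (flp_e L780295) (flp_d L787446) L799644
theorem L799660 : sm gf N60916 = N60063 := ded_40_2 (flp_e L791254) (flp_f L786165) L786163 (flp_f L787436) L799644
theorem L799662 : sm ga N59729 = N60917 := rfl
theorem L799664 : sm gc N60917 = N60206 := ded_11_2 (flp_a L792695) (flp_c L787478) L799662
theorem L799666 : sm gd N60917 = N60612 := ded_12_2 (flp_a L796020) (flp_d L787468) L799662
theorem L799668 : sm gf N60917 = N60445 := ded_14_2 (flp_a L794884) (flp_f L787470) L799662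
theorem L799670 : sm gg N60917 = N59731 := ded_15_2 (flp_a L787496) (flp_g L787472) L799662
theorem L799672 : sm gh N60917 = N60630 := ded_17_2 (flp_a L796128) (flp_h L787474) L799662
theorem L799674 : sm gi N60917 = N59785 := ded_18_2 (flp_a L788180) (flp_i L787476) L799662
theorem L799676 : sm gb N60917 = N60599 := ded_10_2 (flp_a L795948) (flp_b L783858) (flp_a L775584) L787466 L799662
theorem L799678 : sm ge N59729 = N60918 := rfl
theorem L799680 : sm gb N60918 = N59730 := ded_21_1 (flp_e L787480) L787466 L799678
theorem L799682 : sm gc N60918 = N60207 := ded_28_1 (flp_e L792703) (flp_c L787478) L799678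
theorem L799684 : sm gg N60918 = N59732 := ded_41_2 (flp_e L787504) (flp_g L787472) L799678
theorem L799686 : sm gh N60918 = N60631 := ded_43_2 (flp_e L796134) (flp_h L787474) L799678
theorem L799688 : sm gi N60918 = N59786 := ded_44_2 (flp_e L788188) (flp_i L787476) L799678
theorem L799690 : sm gd N60918 = N60273 := ded_34_1 (flp_e L793309) (flp_d L787954) L787956 (flp_d L787468) L799678
theorem L799692 : sm gf N60918 = N60068 := ded_40_2 (flp_e L791296) (flp_f L786183) L786181 (flp_f L787470) L799678
theorem L799694 : sm ge N59731 = N60919 := rfl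
theorem L799696 : sm ga N60919 = N59732 := ded_13_1 (flp_e L787504) L787496 L799694
theorem L799698 : sm gc N60919 = N60209 := ded_28_1 (flp_e L792723) (flp_c L787498) L799694
theorem L799700 : sm gi N60919 = N59787 := ded_44_2 (flp_e L788196) (flp_i L787502) L799694
theorem L799702 : sm gd N59732 = N60920 := rfl
theorem L799704 : sm gb N60920 = N59733 := ded_20_1 (flp_d L787512) (flp_b L787506) L799702
theorem L799706 : sm gg N60920 = N60273 := ded_36_2 (flp_d L799690) L799684 L799702
theorem L799708 : sm gi N60920 = N59788 := ded_39_2 (flp_d L788202) (flp_i L787510) L799702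
theorem L799710 : sm ge N60920 = N60271 := ded_34_2 L793293 (flp_e L787392) L787390 L787504 L799702
theorem L799712 : sm gc N60299 = N60920 := ded_19_0 L799704 L787520 L775685 (flp_c L781121) (flp_b L793527)
theorem L799714 : sm gh N59733 = N60921 := rfl
theorem L799716 : sm ga N60921 = N60433 := ded_17_1 L794799 (flp_a L787514) L799714
theorem L799718 : sm gc N60921 = N59736 := ded_32_1 (flp_h L787552) (flp_c L787520) L799714
theorem L799720 : sm ge N60921 = N60267 := ded_43_1 L793263 (flp_e L787522) L799714
theorem L799722 : sm gg N60921 = N60269 := ded_50_1 L793277 (flp_g L787516) L799714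
theorem L799724 : sm gh N59735 = N60922 := rfl
theorem L799726 : sm ga N60922 = N60423 := ded_17_1 L794707 (flp_a L787540) L799724
theorem L799728 : sm gb N60922 = N60276 := ded_25_1 L793345 (flp_b L787542) L799724
theorem L799730 : sm ge N60922 = N59907 := ded_43_1 L789687 (flp_e L787550) L799724
theorem L799732 : sm gg N60922 = N60460 := ded_50_1 L795000 (flp_g L787544) L799724
theorem L799734 : sm gj N60922 = N59736 := ded_52_1 (flp_h L787552) (flp_j L787546) L799724
theorem L799736 : sm gd N60922 = N60922 := ded_38_1 (flp_h L799724) (flp_d L787538) L775661 L787538 L799724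
theorem L799737 : sm gi N60922 = N59909 := ded_54_2 L789701 L777745 (flp_h L776316) (flp_i L787548) L799724
theorem L799739 : sm gi N59736 = N60923 := rfl
theorem L799741 : sm ga N60923 = N60225 := ded_18_1 L792903 (flp_a L787554) L799739
theorem L799743 : sm gb N60923 = N60278 := ded_26_1 L793360 (flp_b L787556) L799739
theorem L799745 : sm gd N60923 = N60923 := ded_39_1 (flp_i L799739) L787562 L799739
theorem L799746 : sm ge N60923 = N59897 := ded_44_1 L789573 (flp_e L787558) L799739
theorem L799748 : sm gg N60923 = N60097 := ded_51_1 L791638 (flp_g L787560) L799739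
theorem L799750 : sm gj N60923 = N59909 := ded_53_1 (flp_i L799737) L799734 L799739
theorem L799752 : sm gh N60923 = N59792 := ded_54_1 (flp_i L788248) (flp_h L776330) (flp_i L775689) L787552 L799739
theorem L799754 : sm gc N59737 = N60924 := rfl
theorem L799756 : sm ga N60924 = N59953 := ded_11_1 (flp_c L790126) (flp_a L787565) L799754
theorem L799758 : sm gf N60924 = N59752 := ded_29_2 (flp_c L787746) (flp_f L787569) L799754
theorem L799760 : sm gg N60924 = N59900 := ded_30_2 (flp_c L789605) (flp_g L787571) L799754
theorem L799762 : sm gj N60924 = N59738 := ded_31_2 (flp_c L787579) (flp_j L787573) L799754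
theorem L799764 : sm gh N60924 = N59864 := ded_32_2 (flp_c L789196) (flp_h L787577) L799754
theorem L799766 : sm gi N60924 = N60141 := ded_33_2 (flp_c L792080) (flp_i L787575) L799754
theorem L799768 : sm gd N60924 = N60102 := ded_27_2 (flp_c L791679) (flp_d L779506) (flp_c L775699) L787563 L799754
theorem L799770 : sm ge N59737 = N60925 := rfl
theorem L799772 : sm ga N60925 = N59954 := ded_13_1 (flp_e L790136) (flp_a L787565) L799770
theorem L799774 : sm gb N60925 = N59867 := ded_21_1 (flp_e L789238) (flp_b L787567) L799770
theorem L799776 : sm gg N60925 = N59901 := ded_41_2 (flp_e L789615) (flp_g L787571) L799770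
theorem L799778 : sm gj N60925 = N59739 := ded_42_2 (flp_e L787591) (flp_j L787573) L799770
theorem L799780 : sm gh N60925 = N59865 := ded_43_2 (flp_e L789210) (flp_h L787577) L799770
theorem L799782 : sm gi N60925 = N60142 := ded_44_2 (flp_e L792090) (flp_i L787575) L799770
theorem L799784 : sm gd N60925 = N60925 := ded_34_1 (flp_e L799770) (flp_d L787563) L775701 L787563 L799770
theorem L799785 : sm gf N60925 = N60008 := ded_40_2 L790628 L787776 (flp_e L787760) (flp_f L787569) L799770
theorem L799787 : sm gb N59738 = N60926 := rfl
theorem L799789 : sm gd N60926 = N60121 := ded_20_2 (flp_b L791891) (flp_d L787589) L799787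
theorem L799791 : sm gf N60926 = N59754 := ded_22_2 (flp_b L787778) (flp_f L787583) L799787
theorem L799793 : sm gg N60926 = N59740 := ded_23_2 (flp_b L787602) (flp_g L787585) L799787
theorem L799795 : sm gh N60926 = N59885 := ded_25_2 (flp_b L789439) (flp_h L787587) L799787
theorem L799797 : sm gc N60926 = N60232 := ded_19_2 (flp_b L792977) (flp_c L780671) (flp_b L775714) L787579 L799787
theorem L799799 : sm ge N59738 = N60927 := rfl
theorem L799801 : sm ga N60927 = N59983 := ded_13_1 (flp_e L790441) (flp_a L787581) L799799
theorem L799803 : sm gc N60927 = N59739 := ded_28_1 (flp_e L787591) L787579 L799799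
theorem L799805 : sm gg N60927 = N59741 := ded_41_2 (flp_e L787610) (flp_g L787585) L799799
theorem L799807 : sm gh N60927 = N59886 := ded_43_2 (flp_e L789445) (flp_h L787587) L799799
theorem L799809 : sm gf N59739 = N60928 := rfl
theorem L799811 : sm ga N60928 = N59984 := ded_14_1 (flp_f L790447) (flp_a L787593) L799809
theorem L799813 : sm gb N60928 = N59948 := ded_22_1 L790079 (flp_b L787595) L799809
theorem L799815 : sm gd N60928 = N60928 := ded_35_1 (flp_f L799809) L787601 L799809
theorem L799816 : sm gj N60928 = N60008 := ded_46_2 (flp_f L799785) L799778 L799809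
theorem L799818 : sm gh N60928 = N59887 := ded_47_2 (flp_f L789455) (flp_h L787599) L799809
theorem L799820 : sm ge N60928 = N59756 := ded_40_1 (flp_f L787800) (flp_e L775887) (flp_f L775716) L787591 L799809
theorem L799822 : sm gg N60928 = N59937 := ded_45_2 (flp_f L789984) L777946 (flp_f L775737) (flp_g L787597) L799809
theorem L799824 : sm ga N59740 = N60929 := rfl
theorem L799826 : sm gc N60929 = N60234 := ded_11_2 (flp_a L792989) (flp_c L787608) L799824
theorem L799828 : sm gf N60929 = N59742 := ded_14_2 (flp_a L787620) (flp_f L787604) L799824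
theorem L799830 : sm gj N60929 = N60452 := ded_16_2 (flp_a L794931) (flp_j L787606) L799824
theorem L799832 : sm ge N59740 = N60930 := rfl
theorem L799834 : sm gb N60930 = N59741 := ded_21_1 (flp_e L787610) L787602 L799832
theorem L799836 : sm gc N60930 = N60235 := ded_28_1 (flp_e L792995) (flp_c L787608) L799832
theorem L799838 : sm gj N60930 = N60453 := ded_42_2 (flp_e L794937) (flp_j L787606) L799832
theorem L799840 : sm gh N60930 = N60553 := ded_43_2 (flp_e L796669) L796677 L799832
theorem L799842 : sm gf N60930 = N60550 := ded_40_2 (flp_e L795626) (flp_f L785553) L785551 (flp_f L787604) L799832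
theorem L799844 : sm gd N59741 = N60931 := rfl
theorem L799846 : sm gf N60931 = N60551 := ded_35_2 (flp_d L795632) (flp_f L787618) L799844
theorem L799848 : sm gj N60931 = N60454 := ded_37_2 (flp_d L794943) (flp_j L787614) L799844
theorem L799850 : sm gc N60931 = N60931 := ded_27_1 (flp_d L799844) L787612 L775736 (flp_c L787612) L799844
theorem L799851 : sm gb N59743 = N60932 := rfl
theorem L799853 : sm gd N60932 = N60237 := ded_20_2 (flp_b L793006) (flp_d L787642) L799851
theorem L799855 : sm gf N60932 = N60183 := ded_22_2 (flp_b L792453) (flp_f L787632) L799851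
theorem L799857 : sm gg N60932 = N60437 := ded_23_2 (flp_b L794831) (flp_g L787634) L799851
theorem L799859 : sm gj N60932 = N59761 := ded_24_2 (flp_b L787866) (flp_j L787636) L799851
theorem L799861 : sm gh N60932 = N60360 := ded_25_2 (flp_b L794136) (flp_h L787638) L799851
theorem L799863 : sm gi N60932 = N60238 := ded_26_2 (flp_b L793018) (flp_i L787640) L799851
theorem L799865 : sm gc N60932 = N60185 := ded_19_2 (flp_b L792481) (flp_c L780219) (flp_b L775751) L787628 L799851
theorem L799867 : sm ge N59743 = N60933 := rfl
theorem L799869 : sm ga N60933 = N59746 := ded_13_1 (flp_e L787674) (flp_a L787630) L799867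
theorem L799871 : sm gc N60933 = N59744 := ded_28_1 (flp_e L787644) L787628 L799867
theorem L799873 : sm gg N60933 = N60057 := ded_41_2 L791186 (flp_g L787634) L799867
theorem L799875 : sm gj N60933 = N59762 := ded_42_2 (flp_e L787878) (flp_j L787636) L799867
theorem L799877 : sm gh N60933 = N59770 := ded_43_2 L787996 (flp_h L787638) L799867
theorem L799879 : sm gi N60933 = N60239 := ded_44_2 (flp_e L793028) (flp_i L787640) L799867
theorem L799881 : sm gd N60933 = N59784 := ded_34_1 (flp_e L788170) (flp_d L788104) L788092 (flp_d L787642) L799867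
theorem L799883 : sm gf N60933 = N59766 := ded_40_2 (flp_e L787940) L775987 (flp_e L780195) (flp_f L787632) L799867
theorem L799885 : sm ga N59745 = N60934 := rfl
theorem L799887 : sm gc N60934 = N59748 := ded_11_2 (flp_a L787700) (flp_c L787672) L799885
theorem L799889 : sm gd N60934 = N60240 := ded_12_2 (flp_a L793034) (flp_d L787664) L799885
theorem L799891 : sm gf N60934 = N60613 := ded_14_2 (flp_a L796026) (flp_f L787666) L799885
theorem L799893 : sm gj N60934 = N59768 := ded_16_2 (flp_a L787970) (flp_j L787668) L799885
theorem L799895 : sm gh N60934 = N60361 := ded_17_2 (flp_a L794148) (flp_h L787670) L799885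
theorem L799897 : sm ge N59745 = N60935 := rfl
theorem L799899 : sm gb N60935 = N59746 := ded_21_1 (flp_e L787674) L787662 L799897
theorem L799901 : sm gc N60935 = N59749 := ded_28_1 (flp_e L787712) (flp_c L787672) L799897
theorem L799903 : sm gj N60935 = N59769 := ded_42_2 (flp_e L787978) (flp_j L787668) L799897
theorem L799905 : sm gh N60935 = N60362 := ded_43_2 (flp_e L794156) (flp_h L787670) L799897
theorem L799907 : sm gf N59746 = N60936 := rfl
theorem L799909 : sm ga N60936 = N59766 := ded_14_1 (flp_f L799883) L799869 L799907
theorem L799911 : sm gc N60936 = N59747 := ded_29_1 (flp_f L787682) (flp_c L787676) L799907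
theorem L799913 : sm gd N60936 = N60052 := ded_35_1 (flp_f L798746) L798744 L799907
theorem L799915 : sm gj N60936 = N59770 := ded_46_2 (flp_f L787986) (flp_j L787678) L799907
theorem L799917 : sm gh N60936 = N59762 := ded_47_2 L787890 (flp_h L787680) L799907
theorem L799919 : sm gi N60936 = N60501 := ded_48_2 (flp_f L799309) L799305 L799907
theorem L799921 : sm ge N60936 = N59760 := ded_40_1 L787854 L780295 (flp_f L775783) L787674 L799907
theorem L799923 : sm gg N60936 = N59789 := ded_45_2 (flp_f L798165) L798167 L797859 L797851 L799907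
theorem L799925 : sm ge N59748 = N60937 := rfl
theorem L799927 : sm ga N60937 = N59749 := ded_13_1 (flp_e L787712) L787700 L799925
theorem L799929 : sm gb N60937 = N60692 := ded_21_1 (flp_e L796545) (flp_b L787710) L799925
theorem L799931 : sm gj N60937 = N59780 := ded_42_2 (flp_e L788136) (flp_j L787706) L799925
theorem L799933 : sm gh N60937 = N60363 := ded_43_2 (flp_e L794162) (flp_h L787708) L799925
theorem L799935 : sm gf N59749 = N60938 := rfl
theorem L799937 : sm gb N60938 = N59750 := ded_22_1 (flp_f L787720) (flp_b L787714) L799935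
theorem L799939 : sm gj N60938 = N59781 := ded_46_2 (flp_f L788142) (flp_j L787716) L799935
theorem L799941 : sm gh N60938 = N60203 := ded_47_2 L792673 (flp_h L787718) L799935
theorem L799943 : sm ge N60938 = N60198 := ded_40_1 L792615 L780353 (flp_f L775823) L787712 L799935
theorem L799945 : sm gg N59750 = N60939 := rfl
theorem L799947 : sm ga N60939 = N60393 := ded_15_1 L794451 (flp_a L787722) L799945
theorem L799949 : sm gc N60939 = N59751 := ded_30_1 (flp_g L787732) (flp_c L787724) L799945
theorem L799951 : sm ge N60939 = N60137 := ded_41_1 L792039 (flp_e L787730) L799945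
theorem L799953 : sm gh N60939 = N59791 := ded_50_2 L788242 (flp_h L787728) L799945
theorem L799955 : sm gj N60939 = N60154 := ded_49_2 L792211 L788160 (flp_g L788148) (flp_j L787726) L799945
theorem L799957 : sm gb N59752 = N60940 := rfl
theorem L799959 : sm gd N60940 = N60104 := ded_20_2 (flp_b L791706) (flp_d L787758) L799957
theorem L799961 : sm gg N60940 = N59783 := ded_23_2 (flp_b L788162) (flp_g L787750) L799957
theorem L799963 : sm gj N60940 = N59754 := ded_24_2 (flp_b L787778) (flp_j L787752) L799957
theorem L799965 : sm gh N60940 = N59877 := ded_25_2 (flp_b L789347) (flp_h L787754) L799957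
theorem L799967 : sm gi N60940 = N60636 := ded_26_2 (flp_b L796167) (flp_i L787756) L799957
theorem L799969 : sm gc N60940 = N60257 := ded_19_2 (flp_b L793191) (flp_c L780847) (flp_b L775867) L787746 L799957
theorem L799971 : sm ge N59752 = N60941 := rfl
theorem L799973 : sm ga N60941 = N59958 := ded_13_1 (flp_e L790181) (flp_a L787748) L799971
theorem L799975 : sm gc N60941 = N59753 := ded_28_1 (flp_e L787760) L787746 L799971
theorem L799977 : sm gg N60941 = N59784 := ded_41_2 (flp_e L788170) (flp_g L787750) L799971
theorem L799979 : sm gj N60941 = N59755 := ded_42_2 (flp_e L787788) (flp_j L787752) L799971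
theorem L799981 : sm gh N60941 = N59843 := ded_43_2 L788932 (flp_h L787754) L799971
theorem L799983 : sm gi N60941 = N60637 := ded_44_2 (flp_e L796171) (flp_i L787756) L799971
theorem L799985 : sm gd N60941 = N60057 := ded_34_1 L791186 L782635 (flp_e L779524) (flp_d L787758) L799971
theorem L799987 : sm gf N60007 = N60941 := ded_29_0 L799975 (flp_f L787776) (flp_c L790622)
theorem L799989 : sm ga N59754 = N60942 := rfl
theorem L799991 : sm gc N60942 = N60259 := ded_11_2 (flp_a L793207) (flp_c L787786) L799989
theorem L799993 : sm gd N60942 = N60124 := ded_12_2 (flp_a L791921) (flp_d L787780) L799989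
theorem L799995 : sm gg N60942 = N59757 := ded_15_2 (flp_a L787812) (flp_g L787782) L799989
theorem L799997 : sm gh N60942 = N59888 := ded_17_2 (flp_a L789471) (flp_h L787784) L799989
theorem L799999 : sm gb N60942 = N59988 := ded_10_2 (flp_a L790476) (flp_b L778343) (flp_a L775879) L787778 L799989
theorem L800001 : sm ge N59754 = N60943 := rfl
theorem L800003 : sm gb N60943 = N59755 := ded_21_1 (flp_e L787788) L787778 L800001
theorem L800005 : sm gc N60943 = N60260 := ded_28_1 (flp_e L793211) (flp_c L787786) L800001
theorem L800007 : sm gg N60943 = N59758 := ded_41_2 (flp_e L787826) (flp_g L787782) L800001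
theorem L800009 : sm gh N60943 = N59889 := ded_43_2 (flp_e L789479) (flp_h L787784) L800001
theorem L800011 : sm gd N60943 = N60625 := ded_34_1 (flp_e L796096) L784036 (flp_e L779699) (flp_d L787780) L800001
theorem L800013 : sm gf N59755 = N60944 := rfl
theorem L800015 : sm ga N60944 = N59991 := ded_14_1 (flp_f L790504) (flp_a L787790) L800013
theorem L800017 : sm gc N60944 = N59756 := ded_29_1 (flp_f L787800) (flp_c L787792) L800013
theorem L800019 : sm gd N60944 = N60265 := ded_35_1 L793245 (flp_d L787798) L800013
theorem L800021 : sm gj N60944 = N60007 := ded_46_2 L799987 L799979 L800013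
theorem L800023 : sm gh N60944 = N59890 := ded_47_2 (flp_f L789485) (flp_h L787796) L800013
theorem L800025 : sm ge N59757 = N60945 := rfl
theorem L800027 : sm ga N60945 = N59758 := ded_13_1 (flp_e L787826) L787812 L800025
theorem L800029 : sm gb N60945 = N60570 := ded_21_1 (flp_e L795745) (flp_b L787824) L800025
theorem L800031 : sm gc N60945 = N60263 := ded_28_1 (flp_e L793227) (flp_c L787814) L800025
theorem L800033 : sm gj N60945 = N59787 := ded_42_2 (flp_e L788196) (flp_j L787820) L800025
theorem L800035 : sm gh N60945 = N60543 := ded_43_2 (flp_e L795584) (flp_h L787822) L800025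
theorem L800037 : sm gd N59758 = N60946 := rfl
theorem L800039 : sm gb N60946 = N59759 := ded_20_1 (flp_d L787836) (flp_b L787828) L800037
theorem L800041 : sm gg N60946 = N60625 := ded_36_2 (flp_d L800011) L800007 L800037
theorem L800043 : sm gj N60946 = N59788 := ded_37_2 (flp_d L788202) (flp_j L787832) L800037
theorem L800045 : sm ge N60946 = N60162 := ded_34_2 L792295 L780353 (flp_d L775901) L787826 L800037
theorem L800047 : sm gh N60169 = N60946 := ded_25_0 L800039 (flp_h L787848) (flp_b L792343)
theorem L800049 : sm gb N59760 = N60947 := rfl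
theorem L800051 : sm gd N60947 = N60136 := ded_20_2 (flp_b L792021) (flp_d L787864) L800049
theorem L800053 : sm gf N60947 = N60195 := ded_22_2 (flp_b L792577) (flp_f L787854) L800049
theorem L800055 : sm gg N60947 = N60140 := ded_23_2 (flp_b L792072) (flp_g L787856) L800049
theorem L800057 : sm gj N60947 = N60360 := ded_24_2 (flp_b L794136) (flp_j L787858) L800049
theorem L800059 : sm gh N60947 = N59761 := ded_25_2 (flp_b L787866) (flp_h L787860) L800049
theorem L800061 : sm gi N60947 = N60500 := ded_26_2 (flp_b L795282) (flp_i L787862) L800049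
theorem L800063 : sm gc N60947 = N60198 := ded_19_2 (flp_b L792613) (flp_c L780327) (flp_b L775931) L787850 L800049
theorem L800065 : sm ga N59761 = N60948 := rfl
theorem L800067 : sm gc N60948 = N60202 := ded_11_2 (flp_a L792657) (flp_c L787876) L800065
theorem L800069 : sm gd N60948 = N60266 := ded_12_2 (flp_a L793249) (flp_d L787868) L800065
theorem L800071 : sm gf N60948 = N60196 := ded_14_2 (flp_a L792589) (flp_f L787870) L800065
theorem L800073 : sm gg N60948 = N60477 := ded_15_2 (flp_a L795129) (flp_g L787872) L800065
theorem L800075 : sm gi N60948 = N60272 := ded_18_2 (flp_a L793303) (flp_i L787874) L800065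
theorem L800077 : sm gb N60948 = N59768 := ded_10_2 (flp_a L787970) (flp_b L776027) (flp_a L775945) L787866 L800065
theorem L800079 : sm ge N59761 = N60949 := rfl
theorem L800081 : sm gb N60949 = N59762 := ded_21_1 (flp_e L787878) L787866 L800079
theorem L800083 : sm gc N60949 = N60203 := ded_28_1 (flp_e L792667) (flp_c L787876) L800079
theorem L800085 : sm gg N60949 = N59788 := ded_41_2 L788206 (flp_g L787872) L800079
theorem L800087 : sm gi N60949 = N60273 := ded_44_2 (flp_e L793309) (flp_i L787874) L800079
theorem L800089 : sm gd N60949 = N59786 := ded_34_1 (flp_e L788188) (flp_d L788108) L788110 (flp_d L787868) L800079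
theorem L800091 : sm gf N60949 = N60362 := ded_40_2 (flp_e L794156) L781915 (flp_e L780305) (flp_f L787870) L800079
theorem L800093 : sm gb N59763 = N60950 := rfl
theorem L800095 : sm gd N60950 = N60016 := ded_20_2 (flp_b L790716) (flp_d L787906) L800093
theorem L800097 : sm gf N60950 = N60223 := ded_22_2 (flp_b L792869) (flp_f L787896) L800093
theorem L800099 : sm gg N60950 = N60480 := ded_23_2 (flp_b L795149) (flp_g L787898) L800093
theorem L800101 : sm gj N60950 = N60017 := ded_24_2 (flp_b L790726) (flp_j L787900) L800093
theorem L800103 : sm gh N60950 = N60226 := ded_25_2 (flp_b L792906) (flp_h L787902) L800093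
theorem L800105 : sm gi N60950 = N59765 := ded_26_2 (flp_b L787926) (flp_i L787904) L800093
theorem L800107 : sm gc N60950 = N59771 := ded_19_2 (flp_b L788000) (flp_c L776055) (flp_b L775973) L787892 L800093
theorem L800109 : sm ge N59763 = N60951 := rfl
theorem L800111 : sm ga N60951 = N60501 := ded_13_1 (flp_e L795288) (flp_a L787894) L800109
theorem L800113 : sm gc N60951 = N59764 := ded_28_1 (flp_e L787908) L787892 L800109
theorem L800115 : sm gg N60951 = N60481 := ded_41_2 (flp_e L795155) (flp_g L787898) L800109
theorem L800117 : sm gj N60951 = N60018 := ded_42_2 (flp_e L790740) (flp_j L787900) L800109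
theorem L800119 : sm gh N60951 = N60227 := ded_43_2 (flp_e L792914) (flp_h L787902) L800109
theorem L800121 : sm gi N60951 = N59766 := ded_44_2 (flp_e L787940) (flp_i L787904) L800109
theorem L800123 : sm gd N60951 = N60063 := ded_34_1 (flp_e L791254) L779152 (flp_e L778618) (flp_d L787906) L800109
theorem L800125 : sm gf N60951 = N60239 := ded_40_2 (flp_e L793028) L780714 (flp_e L780596) (flp_f L787896) L800109
theorem L800127 : sm ga N59765 = N60952 := rfl
theorem L800129 : sm gc N60952 = N59773 := ded_11_2 (flp_a L788028) (flp_c L787938) L800127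
theorem L800131 : sm gd N60952 = N60589 := ded_12_2 (flp_a L795866) (flp_d L787928) L800127
theorem L800133 : sm gf N60952 = N60611 := ded_14_2 (flp_a L796014) (flp_f L787930) L800127
theorem L800135 : sm gg N60952 = N60482 := ded_15_2 (flp_a L795161) (flp_g L787932) L800127
theorem L800137 : sm gj N60952 = N60361 := ded_16_2 (flp_a L794148) (flp_j L787934) L800127
theorem L800139 : sm gh N60952 = N59768 := ded_17_2 (flp_a L787970) (flp_h L787936) L800127
theorem L800141 : sm ge N59765 = N60953 := rfl
theorem L800143 : sm gb N60953 = N59766 := ded_21_1 (flp_e L787940) L787926 L800141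
theorem L800145 : sm gc N60953 = N59774 := ded_28_1 (flp_e L788042) (flp_c L787938) L800141
theorem L800147 : sm gg N60953 = N60483 := ded_41_2 (flp_e L795167) (flp_g L787932) L800141
theorem L800149 : sm gj N60953 = N60362 := ded_42_2 (flp_e L794156) (flp_j L787934) L800141
theorem L800151 : sm gh N60953 = N59769 := ded_43_2 (flp_e L787978) (flp_h L787936) L800141
theorem L800153 : sm gd N60953 = N60564 := ded_34_1 (flp_e L795707) (flp_d L791210) L791212 (flp_d L787928) L800141
theorem L800155 : sm ga N59767 = N60954 := rfl
theorem L800157 : sm gc N60954 = N59779 := ded_11_2 (flp_a L788122) (flp_c L787968) L800155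
theorem L800159 : sm gd N60954 = N60272 := ded_12_2 (flp_a L793303) (flp_d L787954) L800155
theorem L800161 : sm ge N60954 = N60612 := ded_13_2 (flp_a L796020) (flp_e L787956) L800155
theorem L800163 : sm gf N60954 = N59768 := ded_14_2 (flp_a L787970) (flp_f L787958) L800155
theorem L800165 : sm gg N60954 = N60635 := ded_15_2 (flp_a L796161) (flp_g L787960) L800155
theorem L800167 : sm gj N60954 = N60613 := ded_16_2 (flp_a L796026) (flp_j L787962) L800155
theorem L800169 : sm gh N60954 = N60611 := ded_17_2 (flp_a L796014) (flp_h L787964) L800155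
theorem L800171 : sm gi N60954 = N60266 := ded_18_2 (flp_a L793249) (flp_i L787966) L800155
theorem L800173 : sm gb N60954 = N60196 := ded_10_2 (flp_a L792589) (flp_b L780303) (flp_a L776011) L787952 L800155
theorem L800175 : sm ge N59768 = N60955 := rfl
theorem L800177 : sm ga N60955 = N59769 := ded_13_1 (flp_e L787978) L787970 L800175
theorem L800179 : sm gc N60955 = N59780 := ded_28_1 (flp_e L788136) (flp_c L787972) L800175
theorem L800181 : sm gg N60955 = N60487 := ded_41_2 (flp_e L795201) (flp_g L787976) L800175
theorem L800183 : sm gf N59769 = N60956 := rfl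
theorem L800185 : sm gb N60956 = N59770 := ded_22_1 (flp_f L787986) (flp_b L787980) L800183
theorem L800187 : sm gc N60956 = N59781 := ded_29_1 (flp_f L788142) (flp_c L787982) L800183
theorem L800189 : sm gd N60956 = N60054 := ded_35_1 (flp_f L798778) L798776 L800183
theorem L800191 : sm gi N60956 = N60503 := ded_48_2 (flp_f L799505) L799501 L800183
theorem L800193 : sm ge N60956 = N60360 := ded_40_1 L794140 (flp_e L787956) L787958 L787978 L800183
theorem L800195 : sm gg N60956 = N60056 := ded_45_2 L791174 (flp_g L793617) L793615 (flp_g L787984) L800183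
theorem L800197 : sm ga N59771 = N60957 := rfl
theorem L800199 : sm gd N60957 = N60359 := ded_12_2 (flp_a L794120) (flp_d L788002) L800197
theorem L800201 : sm gf N60957 = N60256 := ded_14_2 L793181 (flp_f L788004) L800197
theorem L800203 : sm gg N60957 = N60495 := ded_15_2 (flp_a L795254) (flp_g L788006) L800197
theorem L800205 : sm gj N60957 = N60305 := ded_16_2 L793573 (flp_j L788008) L800197
theorem L800207 : sm gi N60957 = N59773 := ded_18_2 (flp_a L788028) (flp_i L788010) L800197
theorem L800209 : sm gb N60957 = N60414 := ded_10_2 (flp_a L794626) (flp_b L782431) (flp_a L776057) L788000 L800197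
theorem L800211 : sm ge N59771 = N60958 := rfl
theorem L800213 : sm gb N60958 = N59772 := ded_21_1 (flp_e L788012) L788000 L800211
theorem L800215 : sm gg N60958 = N60496 := ded_41_2 (flp_e L795258) (flp_g L788006) L800211
theorem L800217 : sm gj N60958 = N60303 := ded_42_2 L793561 (flp_j L788008) L800211
theorem L800219 : sm gi N60958 = N59774 := ded_44_2 (flp_e L788042) (flp_i L788010) L800211
theorem L800221 : sm gd N60958 = N60431 := ded_34_1 (flp_e L794781) L782560 (flp_e L781863) (flp_d L788002) L800211
theorem L800223 : sm gf N60958 = N60254 := ded_40_2 (flp_e L793161) L780821 L780837 (flp_f L788004) L800211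
theorem L800225 : sm ge N59773 = N60959 := rfl
theorem L800227 : sm ga N60959 = N59774 := ded_13_1 (flp_e L788042) L788028 L800225
theorem L800229 : sm gb N60959 = N60673 := ded_21_1 (flp_e L796411) (flp_b L788040) L800225
theorem L800231 : sm gg N60959 = N60498 := ded_41_2 (flp_e L795270) (flp_g L788034) L800225
theorem L800233 : sm gj N60959 = N60363 := ded_42_2 (flp_e L794162) (flp_j L788036) L800225
theorem L800235 : sm gh N60959 = N59780 := ded_43_2 (flp_e L788136) (flp_h L788038) L800225
theorem L800237 : sm gd N60959 = N60472 := ded_34_1 (flp_e L795091) L782866 (flp_e L781891) (flp_d L788030) L800225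
theorem L800239 : sm gf N59774 = N60960 := rfl
theorem L800241 : sm gb N60960 = N59775 := ded_22_1 (flp_f L788054) (flp_b L788044) L800239
theorem L800243 : sm gd N60960 = N60473 := ded_35_1 (flp_f L795097) (flp_d L788052) L800239
theorem L800245 : sm gj N60960 = N60203 := ded_46_2 L792673 (flp_j L788048) L800239
theorem L800247 : sm gh N60960 = N59781 := ded_47_2 (flp_f L788142) (flp_h L788050) L800239
theorem L800249 : sm gi N60960 = N60254 := ded_48_2 (flp_f L800223) L800219 L800239
theorem L800251 : sm ge N60960 = N60185 := ded_40_1 L792485 L780237 (flp_f L776087) L788042 L800239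
theorem L800253 : sm gg N59775 = N60961 := rfl
theorem L800255 : sm ga N60961 = N60675 := ded_15_1 (flp_g L796429) (flp_a L788056) L800253
theorem L800257 : sm gc N60961 = N59776 := ded_30_1 (flp_g L788070) (flp_c L788058) L800253
theorem L800259 : sm gd N60961 = N60474 := ded_36_1 (flp_g L795103) (flp_d L788060) L800253
theorem L800261 : sm ge N60961 = N60184 := ded_41_1 L792471 (flp_e L788068) L800253
theorem L800263 : sm gh N60961 = N59782 := ded_50_2 (flp_g L788148) (flp_h L788064) L800253
theorem L800265 : sm gi N60961 = N60251 := ded_51_2 L793141 (flp_i L788066) L800253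
theorem L800267 : sm gf N60961 = N60332 := ded_45_1 L793799 (flp_f L783069) (flp_g L776101) L788054 L800253
theorem L800269 : sm gj N60618 = N60961 := ded_31_0 L800257 (flp_j L788086) (flp_c L796060)
theorem L800271 : sm gb N59777 = N60962 := rfl
theorem L800273 : sm gd N60962 = N59783 := ded_20_2 (flp_b L788162) (flp_d L788104) L800271
theorem L800275 : sm ge N60962 = N60237 := ded_21_2 (flp_b L793006) (flp_e L788092) L800271
theorem L800277 : sm gf N60962 = N60500 := ded_22_2 (flp_b L795282) (flp_f L788094) L800271
theorem L800279 : sm gg N60962 = N60104 := ded_23_2 (flp_b L791706) (flp_g L788096) L800271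
theorem L800281 : sm gj N60962 = N59778 := ded_24_2 (flp_b L788106) (flp_j L788098) L800271
theorem L800283 : sm gh N60962 = N60098 := ded_25_2 (flp_b L791643) (flp_h L788100) L800271
theorem L800285 : sm gi N60962 = N60195 := ded_26_2 (flp_b L792577) (flp_i L788102) L800271
theorem L800287 : sm gc N60962 = N60199 := ded_19_2 (flp_b L792621) (flp_c L780337) (flp_b L776127) L788088 L800271
theorem L800289 : sm ga N59778 = N60963 := rfl
theorem L800291 : sm gc N60963 = N60635 := ded_11_2 (flp_a L796161) (flp_c L788120) L800289
theorem L800293 : sm gd N60963 = N59785 := ded_12_2 (flp_a L788180) (flp_d L788108) L800289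
theorem L800295 : sm ge N60963 = N60266 := ded_13_2 (flp_a L793249) (flp_e L788110) L800289
theorem L800297 : sm gf N60963 = N60502 := ded_14_2 (flp_a L795294) (flp_f L788112) L800289
theorem L800299 : sm gg N60963 = N59779 := ded_15_2 (flp_a L788122) (flp_g L788114) L800289
theorem L800301 : sm gh N60963 = N60607 := ded_17_2 (flp_a L795991) (flp_h L788116) L800289
theorem L800303 : sm gi N60963 = N60612 := ded_18_2 (flp_a L796020) (flp_i L788118) L800289
theorem L800305 : sm gb N60963 = N60274 := ded_10_2 L793317 L780968 (flp_a L776143) L788106 L800289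
theorem L800307 : sm gf N59780 = N60964 := rfl
theorem L800309 : sm ga N60964 = N59781 := ded_14_1 (flp_f L788142) (flp_a L788138) L800307
theorem L800311 : sm gb N60964 = N60682 := ded_22_1 (flp_f L798712) L798700 L800307
theorem L800313 : sm ge N60964 = N60679 := ded_40_1 L796463 (flp_e L788126) L788128 L788136 L800307
theorem L800315 : sm gg N59781 = N60965 := rfl
theorem L800317 : sm gb N60965 = N59782 := ded_23_1 (flp_g L788148) (flp_b L788144) L800315
theorem L800319 : sm gc N60965 = N60056 := ded_30_1 (flp_g L800195) L800187 L800315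
theorem L800321 : sm ge N60965 = N60434 := ded_41_1 L794807 (flp_e L788146) L800315
theorem L800323 : sm gi N60965 = N60486 := ded_51_2 L799626 L799622 L800315
theorem L800325 : sm gf N60965 = N60313 := ded_45_1 L793635 (flp_f L783113) (flp_g L776179) L788142 L800315
theorem L800327 : sm gj N60620 = N60965 := ded_24_0 L800317 (flp_j L788160) (flp_b L796070)
theorem L800329 : sm ga N59783 = N60966 := rfl
theorem L800331 : sm gc N60966 = N60306 := ded_11_2 (flp_a L793581) (flp_c L788168) L800329
theorem L800333 : sm gf N60966 = N60506 := ded_14_2 (flp_a L795314) (flp_f L788164) L800329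
theorem L800335 : sm gj N60966 = N59785 := ded_16_2 (flp_a L788180) (flp_j L788166) L800329
theorem L800337 : sm ge N59783 = N60967 := rfl
theorem L800339 : sm gb N60967 = N59784 := ded_21_1 (flp_e L788170) L788162 L800337
theorem L800341 : sm gc N60967 = N60307 := ded_28_1 (flp_e L793587) (flp_c L788168) L800337
theorem L800343 : sm gj N60967 = N59786 := ded_42_2 (flp_e L788188) (flp_j L788166) L800337
theorem L800345 : sm gh N60967 = N60567 := ded_43_2 (flp_e L796853) L796861 L800337
theorem L800347 : sm gf N60967 = N60564 := ded_40_2 (flp_e L795707) (flp_f L786273) L786271 (flp_f L788164) L800337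
theorem L800349 : sm ge N59785 = N60968 := rfl
theorem L800351 : sm ga N60968 = N59786 := ded_13_1 (flp_e L788188) L788180 L800349
theorem L800353 : sm gc N60968 = N60309 := ded_28_1 (flp_e L793605) (flp_c L788182) L800349
theorem L800355 : sm gg N60968 = N59787 := ded_41_2 (flp_e L788196) (flp_g L788186) L800349
theorem L800357 : sm gd N59787 = N60969 := rfl
theorem L800359 : sm ga N60969 = N59788 := ded_12_1 (flp_d L788202) (flp_a L788198) L800357
theorem L800361 : sm gb N60969 = N60487 := ded_20_1 (flp_d L798790) L798784 L800357
theorem L800363 : sm ge N60969 = N60477 := ded_34_2 L795131 (flp_e L788126) L788124 L788196 L800357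
theorem L800365 : sm gc N59788 = N60970 := rfl
theorem L800367 : sm ge N60970 = N60201 := ded_28_2 L792655 (flp_e L788206) L800365
theorem L800369 : sm gg N60970 = N60203 := ded_30_2 (flp_c L800083) L800085 L800365
theorem L800371 : sm gi N60970 = N60299 := ded_33_2 L799712 L799708 L800365
theorem L800373 : sm gb N60970 = N59791 := ded_19_1 (flp_c L788236) L776322 (flp_c L776253) (flp_b L788204) L800365
theorem L800375 : sm gd N60970 = N60313 := ded_27_2 (flp_c L793633) (flp_d L781223) (flp_c L776247) L788202 L800365
theorem L800377 : sm gh N59788 = N60971 := rfl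
theorem L800379 : sm gb N60971 = N59789 := ded_25_1 (flp_h L788208) (flp_b L788204) L800377
theorem L800381 : sm ge N60971 = N60140 := ded_43_1 L792078 (flp_e L788206) L800377
theorem L800383 : sm gj N60971 = N60169 := ded_52_1 L800047 L800043 L800377
theorem L800385 : sm gi N59789 = N60972 := rfl
theorem L800387 : sm ga N60972 = N60481 := ded_18_1 L795159 (flp_a L788210) L800385
theorem L800389 : sm gc N60972 = N59792 := ded_33_1 (flp_i L788248) (flp_c L788212) L800385
theorem L800391 : sm ge N60972 = N59899 := ded_44_1 L789601 (flp_e L788214) L800385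
theorem L800393 : sm gg N60972 = N60501 := ded_51_1 (flp_i L799919) L799923 L800385
theorem L800395 : sm gj N60972 = N59913 := ded_53_1 L789735 (flp_j L788216) L800385
theorem L800397 : sm gc N59790 = N60973 := rfl
theorem L800399 : sm ga N60973 = N60378 := ded_11_1 L794300 (flp_a L788220) L800397
theorem L800401 : sm ge N60973 = N60150 := ded_28_2 (flp_c L792168) (flp_e L788232) L800397
theorem L800403 : sm gf N60973 = N60621 := ded_29_2 L796076 (flp_f L788224) L800397
theorem L800405 : sm gg N60973 = N60618 := ded_30_2 L796060 (flp_g L788226) L800397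
theorem L800407 : sm gj N60973 = N59791 := ded_31_2 (flp_c L788236) (flp_j L788228) L800397
theorem L800409 : sm gh N60973 = N60154 := ded_32_2 L792209 (flp_h L788234) L800397
theorem L800411 : sm gi N60973 = N60296 := ded_33_2 L793503 (flp_i L788230) L800397
theorem L800413 : sm gd N60973 = N60325 := ded_27_2 (flp_c L793730) (flp_d L781326) (flp_c L776294) L788218 L800397
theorem L800415 : sm gb N59793 = N60974 := rfl
theorem L800417 : sm gd N60974 = N59949 := ded_20_2 (flp_b L790082) (flp_d L788276) L800415
theorem L800419 : sm ge N60974 = N59845 := ded_21_2 (flp_b L788948) (flp_e L788264) L800415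
theorem L800421 : sm gf N60974 = N59832 := ded_22_2 (flp_b L788794) (flp_f L788266) L800415
theorem L800423 : sm gg N60974 = N59863 := ded_23_2 (flp_b L789190) (flp_g L788268) L800415
theorem L800425 : sm gj N60974 = N59794 := ded_24_2 (flp_b L788278) (flp_j L788270) L800415
theorem L800427 : sm gh N60974 = N60016 := ded_25_2 (flp_b L790716) (flp_h L788272) L800415
theorem L800429 : sm gi N60974 = N59876 := ded_26_2 (flp_b L789339) (flp_i L788274) L800415
theorem L800431 : sm gc N60974 = N59802 := ded_19_2 (flp_b L788406) (flp_c L776532) (flp_b L776390) L788260 L800415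
theorem L800433 : sm ga N59794 = N60975 := rfl
theorem L800435 : sm gc N60975 = N59807 := ded_11_2 (flp_a L788476) (flp_c L788292) L800433
theorem L800437 : sm gd N60975 = N60556 := ded_12_2 (flp_a L795661) (flp_d L788280) L800433
theorem L800439 : sm ge N60975 = N59852 := ded_13_2 (flp_a L789039) (flp_e L788282) L800433
theorem L800441 : sm gf N60975 = N60554 := ded_14_2 (flp_a L795647) (flp_f L788284) L800433
theorem L800443 : sm gg N60975 = N60342 := ded_15_2 (flp_a L793910) (flp_g L788286) L800433
theorem L800445 : sm gh N60975 = N60019 := ded_17_2 (flp_a L790756) (flp_h L788288) L800433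
theorem L800447 : sm gi N60975 = N60542 := ded_18_2 (flp_a L795576) (flp_i L788290) L800433
theorem L800449 : sm gb N60975 = N60355 := ded_10_2 (flp_a L794072) (flp_b L781803) (flp_a L776406) L788278 L800433
theorem L800451 : sm gb N59795 = N60976 := rfl
theorem L800453 : sm gd N60976 = N59826 := ded_20_2 (flp_b L788728) (flp_d L788310) L800451
theorem L800455 : sm ge N60976 = N59863 := ded_21_2 (flp_b L789190) (flp_e L788298) L800451
theorem L800457 : sm gf N60976 = N59821 := ded_22_2 (flp_b L788660) (flp_f L788300) L800451
theorem L800459 : sm gg N60976 = N59845 := ded_23_2 (flp_b L788948) (flp_g L788302) L800451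
theorem L800461 : sm gj N60976 = N59800 := ded_24_2 (flp_b L788376) (flp_j L788304) L800451
theorem L800463 : sm gh N60976 = N60061 := ded_25_2 (flp_b L791234) (flp_h L788306) L800451
theorem L800465 : sm gi N60976 = N59802 := ded_26_2 (flp_b L788406) (flp_i L788308) L800451
theorem L800467 : sm gc N60976 = N59876 := ded_19_2 (flp_b L789339) (flp_c L777386) (flp_b L776424) L788294 L800451
theorem L800469 : sm gb N59796 = N60977 := rfl
theorem L800471 : sm gd N60977 = N59800 := ded_20_2 (flp_b L788376) (flp_d L788324) L800469
theorem L800473 : sm gf N60977 = N59816 := ded_22_2 (flp_b L788589) (flp_f L788316) L800469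
theorem L800475 : sm gg N60977 = N59974 := ded_23_2 (flp_b L790348) (flp_g L788318) L800469
theorem L800477 : sm gj N60977 = N59826 := ded_24_2 (flp_b L788728) (flp_j L788320) L800469
theorem L800479 : sm gi N60977 = N59803 := ded_26_2 (flp_b L788418) (flp_i L788322) L800469
theorem L800481 : sm gc N60977 = N59993 := ded_19_2 (flp_b L790522) (flp_c L778365) (flp_b L776442) L788312 L800469
theorem L800483 : sm ge N59796 = N60978 := rfl
theorem L800485 : sm ga N60978 = N59822 := ded_13_1 (flp_e L788668) (flp_a L788314) L800483
theorem L800487 : sm gc N60978 = N59797 := ded_28_1 (flp_e L788326) L788312 L800483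
theorem L800489 : sm gg N60978 = N59975 := ded_41_2 (flp_e L790360) (flp_g L788318) L800483
theorem L800491 : sm gj N60978 = N59827 := ded_42_2 (flp_e L788734) (flp_j L788320) L800483
theorem L800493 : sm gi N60978 = N59804 := ded_44_2 (flp_e L788430) (flp_i L788322) L800483
theorem L800495 : sm gd N60978 = N59870 := ded_34_1 (flp_e L789275) L777318 (flp_e L776489) (flp_d L788324) L800483
theorem L800497 : sm gf N60978 = N59926 := ded_40_2 (flp_e L789868) L777849 (flp_e L776695) (flp_f L788316) L800483
theorem L800499 : sm gb N59798 = N60979 := rfl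
theorem L800501 : sm gd N60979 = N59816 := ded_20_2 (flp_b L788589) (flp_d L788356) L800499
theorem L800503 : sm gf N60979 = N59800 := ded_22_2 (flp_b L788376) (flp_f L788346) L800499
theorem L800505 : sm gg N60979 = N60345 := ded_23_2 (flp_b L793948) (flp_g L788348) L800499
theorem L800507 : sm gj N60979 = N59821 := ded_24_2 (flp_b L788660) (flp_j L788350) L800499
theorem L800509 : sm gh N60979 = N60582 := ded_25_2 (flp_b L795817) (flp_h L788352) L800499
theorem L800511 : sm gi N60979 = N59805 := ded_26_2 (flp_b L788446) (flp_i L788354) L800499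
theorem L800513 : sm gc N60979 = N60351 := ded_19_2 (flp_b L794028) (flp_c L781755) (flp_b L776473) L788342 L800499
theorem L800515 : sm ge N59798 = N60980 := rfl
theorem L800517 : sm ga N60980 = N59827 := ded_13_1 (flp_e L788734) (flp_a L788344) L800515
theorem L800519 : sm gc N60980 = N59799 := ded_28_1 (flp_e L788358) L788342 L800515
theorem L800521 : sm gg N60980 = N60346 := ded_41_2 (flp_e L793962) (flp_g L788348) L800515
theorem L800523 : sm gj N60980 = N59822 := ded_42_2 (flp_e L788668) (flp_j L788350) L800515
theorem L800525 : sm gh N60980 = N60583 := ded_43_2 (flp_e L795827) (flp_h L788352) L800515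
theorem L800527 : sm gi N60980 = N59806 := ded_44_2 (flp_e L788460) (flp_i L788354) L800515
theorem L800529 : sm gd N60980 = N59924 := ded_34_1 (flp_e L789850) L777835 (flp_e L776695) (flp_d L788356) L800515
theorem L800531 : sm gf N60980 = N59873 := ded_40_2 (flp_e L789307) L777351 (flp_e L776489) (flp_f L788346) L800515
theorem L800533 : sm ga N59800 = N60981 := rfl
theorem L800535 : sm gc N60981 = N60542 := ded_11_2 (flp_a L795576) (flp_c L788386) L800533
theorem L800537 : sm ge N60981 = N59874 := ded_13_2 (flp_a L789315) (flp_e L788378) L800533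
theorem L800539 : sm gg N60981 = N60508 := ded_15_2 (flp_a L795326) (flp_g L788380) L800533
theorem L800541 : sm gh N60981 = N60595 := ded_17_2 (flp_a L795908) (flp_h L788382) L800533
theorem L800543 : sm gi N60981 = N59807 := ded_18_2 (flp_a L788476) (flp_i L788384) L800533
theorem L800545 : sm gb N60981 = N59828 := ded_10_2 (flp_a L788742) (flp_b L776813) (flp_a L776487) L788376 L800533
theorem L800547 : sm gb N59801 = N60982 := rfl
theorem L800549 : sm gd N60982 = N59839 := ded_20_2 (flp_b L788878) (flp_d L788404) L800547
theorem L800551 : sm ge N60982 = N59876 := ded_21_2 (flp_b L789339) (flp_e L788392) L800547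
theorem L800553 : sm gf N60982 = N59850 := ded_22_2 (flp_b L789019) (flp_f L788394) L800547
theorem L800555 : sm gg N60982 = N59802 := ded_23_2 (flp_b L788406) (flp_g L788396) L800547
theorem L800557 : sm gj N60982 = N59844 := ded_24_2 (flp_b L788934) (flp_j L788398) L800547
theorem L800559 : sm gh N60982 = N60020 := ded_25_2 (flp_b L790768) (flp_h L788400) L800547
theorem L800561 : sm gi N60982 = N59845 := ded_26_2 (flp_b L788948) (flp_i L788402) L800547
theorem L800563 : sm gc N60982 = N59863 := ded_19_2 (flp_b L789190) (flp_c L777241) (flp_b L776518) L788388 L800547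
theorem L800565 : sm ga N59802 = N60983 := rfl
theorem L800567 : sm gd N60983 = N59841 := ded_12_2 (flp_a L788906) (flp_d L788408) L800565
theorem L800569 : sm ge N60983 = N59880 := ded_13_2 (flp_a L789379) (flp_e L788410) L800565
theorem L800571 : sm gf N60983 = N59836 := ded_14_2 (flp_a L788850) (flp_f L788412) L800565
theorem L800573 : sm gj N60983 = N59807 := ded_16_2 (flp_a L788476) (flp_j L788414) L800565
theorem L800575 : sm gh N60983 = N60021 := ded_17_2 (flp_a L790780) (flp_h L788416) L800565
theorem L800577 : sm gb N60983 = N59831 := ded_10_2 (flp_a L788786) (flp_b L776871) (flp_a L776534) L788406 L800565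
theorem L800579 : sm ga N59803 = N60984 := rfl
theorem L800581 : sm gd N60984 = N59807 := ded_12_2 (flp_a L788476) (flp_d L788420) L800579
theorem L800583 : sm gf N60984 = N59831 := ded_14_2 (flp_a L788786) (flp_f L788422) L800579
theorem L800585 : sm gg N60984 = N60510 := ded_15_2 (flp_a L795358) (flp_g L788424) L800579
theorem L800587 : sm gj N60984 = N59841 := ded_16_2 (flp_a L788906) (flp_j L788426) L800579
theorem L800589 : sm gh N60984 = N60046 := ded_17_2 (flp_a L791056) (flp_h L788428) L800579
theorem L800591 : sm gb N60984 = N59836 := ded_10_2 (flp_a L788850) (flp_b L776933) (flp_a L776548) L788418 L800579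
theorem L800593 : sm ge N59803 = N60985 := rfl
theorem L800595 : sm gb N60985 = N59804 := ded_21_1 (flp_e L788430) L788418 L800593
theorem L800597 : sm gc N60985 = N60544 := ded_28_1 (flp_e L796633) L796645 L800593
theorem L800599 : sm gg N60985 = N60511 := ded_41_2 (flp_e L795364) (flp_g L788424) L800593
theorem L800601 : sm gj N60985 = N59842 := ded_42_2 (flp_e L788912) (flp_j L788426) L800593
theorem L800603 : sm gh N60985 = N60047 := ded_43_2 (flp_e L791064) (flp_h L788428) L800593
theorem L800605 : sm gd N60985 = N59889 := ded_34_1 (flp_e L789479) L777510 (flp_e L776608) (flp_d L788420) L800593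
theorem L800607 : sm gf N60985 = N59964 := ded_40_2 (flp_e L790231) L778160 (flp_e L776873) (flp_f L788422) L800593
theorem L800609 : sm ga N59805 = N60986 := rfl
theorem L800611 : sm gc N60986 = N60554 := ded_11_2 (flp_a L795647) (flp_c L788458) L800609
theorem L800613 : sm gd N60986 = N59831 := ded_12_2 (flp_a L788786) (flp_d L788448) L800609
theorem L800615 : sm gf N60986 = N59807 := ded_14_2 (flp_a L788476) (flp_f L788450) L800609
theorem L800617 : sm gg N60986 = N60558 := ded_15_2 (flp_a L795673) (flp_g L788452) L800609
theorem L800619 : sm gj N60986 = N59836 := ded_16_2 (flp_a L788850) (flp_j L788454) L800609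
theorem L800621 : sm gh N60986 = N60022 := ded_17_2 (flp_a L790792) (flp_h L788456) L800609
theorem L800623 : sm gb N60986 = N59841 := ded_10_2 (flp_a L788906) (flp_b L776989) (flp_a L776578) L788446 L800609
theorem L800625 : sm ge N59805 = N60987 := rfl
theorem L800627 : sm gb N60987 = N59806 := ded_21_1 (flp_e L788460) L788446 L800625
theorem L800629 : sm gc N60987 = N60555 := ded_28_1 (flp_e L795653) (flp_c L788458) L800625
theorem L800631 : sm gg N60987 = N60559 := ded_41_2 (flp_e L795679) (flp_g L788452) L800625
theorem L800633 : sm gj N60987 = N59837 := ded_42_2 (flp_e L788856) (flp_j L788454) L800625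
theorem L800635 : sm gh N60987 = N60023 := ded_43_2 (flp_e L790802) (flp_h L788456) L800625
theorem L800637 : sm gd N60987 = N59962 := ded_34_1 (flp_e L790213) L778146 (flp_e L776873) (flp_d L788448) L800625
theorem L800639 : sm gf N60987 = N59892 := ded_40_2 (flp_e L789503) L777532 (flp_e L776608) (flp_f L788450) L800625
theorem L800641 : sm gc N59808 = N60988 := rfl
theorem L800643 : sm ga N60988 = N60513 := ded_11_1 (flp_c L795378) (flp_a L788488) L800641
theorem L800645 : sm gf N60988 = N59969 := ded_29_2 (flp_c L790290) (flp_f L788492) L800641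
theorem L800647 : sm gg N60988 = N60024 := ded_30_2 (flp_c L790810) (flp_g L788494) L800641
theorem L800649 : sm gj N60988 = N60521 := ded_31_2 (flp_c L795432) (flp_j L788496) L800641
theorem L800651 : sm gh N60988 = N59810 := ded_32_2 (flp_c L788518) (flp_h L788500) L800641
theorem L800653 : sm gi N60988 = N59967 := ded_33_2 (flp_c L790267) (flp_i L788498) L800641
theorem L800655 : sm gd N60988 = N59819 := ded_27_2 (flp_c L788635) (flp_d L776736) (flp_c L776620) L788486 L800641
theorem L800657 : sm ge N59808 = N60989 := rfl
theorem L800659 : sm ga N60989 = N60514 := ded_13_1 (flp_e L795386) (flp_a L788488) L800657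
theorem L800661 : sm gb N60989 = N59981 := ded_21_1 (flp_e L790428) (flp_b L788490) L800657
theorem L800663 : sm gg N60989 = N60025 := ded_41_2 (flp_e L790822) (flp_g L788494) L800657
theorem L800665 : sm gj N60989 = N60522 := ded_42_2 (flp_e L795442) (flp_j L788496) L800657
theorem L800667 : sm gh N60989 = N59811 := ded_43_2 (flp_e L788528) (flp_h L788500) L800657
theorem L800669 : sm gi N60989 = N59968 := ded_44_2 (flp_e L790279) (flp_i L788498) L800657
theorem L800671 : sm gd N60989 = N60989 := ded_34_1 (flp_e L800657) (flp_d L788486) L776622 L788486 L800657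
theorem L800672 : sm gc N59809 = N60990 := rfl
theorem L800674 : sm ga N60990 = N60521 := ded_11_1 (flp_c L795432) (flp_a L788504) L800672
theorem L800676 : sm gf N60990 = N59810 := ded_29_2 (flp_c L788518) (flp_f L788508) L800672
theorem L800678 : sm gg N60990 = N60033 := ded_30_2 (flp_c L790897) (flp_g L788510) L800672
theorem L800680 : sm gj N60990 = N60513 := ded_31_2 (flp_c L795378) (flp_j L788512) L800672
theorem L800682 : sm gh N60990 = N59969 := ded_32_2 (flp_c L790290) (flp_h L788516) L800672
theorem L800684 : sm gi N60990 = N59928 := ded_33_2 (flp_c L789882) (flp_i L788514) L800672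
theorem L800686 : sm gd N60990 = N59813 := ded_27_2 (flp_c L788550) (flp_d L776667) (flp_c L776637) L788502 L800672
theorem L800688 : sm ge N59809 = N60991 := rfl
theorem L800690 : sm ga N60991 = N60522 := ded_13_1 (flp_e L795442) (flp_a L788504) L800688
theorem L800692 : sm gb N60991 = N59934 := ded_21_1 (flp_e L789961) (flp_b L788506) L800688
theorem L800694 : sm gg N60991 = N60034 := ded_41_2 (flp_e L790911) (flp_g L788510) L800688
theorem L800696 : sm gj N60991 = N60514 := ded_42_2 (flp_e L795386) (flp_j L788512) L800688
theorem L800698 : sm gh N60991 = N59970 := ded_43_2 (flp_e L790300) (flp_h L788516) L800688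
theorem L800700 : sm gi N60991 = N59929 := ded_44_2 (flp_e L789896) (flp_i L788514) L800688
theorem L800702 : sm gd N60991 = N60991 := ded_34_1 (flp_e L800688) (flp_d L788502) L776639 L788502 L800688
theorem L800703 : sm gb N59810 = N60992 := rfl
theorem L800705 : sm gd N60992 = N59815 := ded_20_2 (flp_b L788577) (flp_d L788526) L800703
theorem L800707 : sm gg N60992 = N60036 := ded_23_2 (flp_b L790938) (flp_g L788522) L800703
theorem L800709 : sm gi N60992 = N60027 := ded_26_2 (flp_b L790841) (flp_i L788524) L800703
theorem L800711 : sm ge N59810 = N60993 := rfl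
theorem L800713 : sm ga N60993 = N60527 := ded_13_1 (flp_e L795478) (flp_a L788520) L800711
theorem L800715 : sm gc N60993 = N59811 := ded_28_1 (flp_e L788528) L788518 L800711
theorem L800717 : sm gg N60993 = N60037 := ded_41_2 (flp_e L790948) (flp_g L788522) L800711
theorem L800719 : sm gi N60993 = N60028 := ded_44_2 (flp_e L790849) (flp_i L788524) L800711
theorem L800721 : sm gd N60993 = N59913 := ded_34_1 (flp_e L789729) L777739 (flp_e L776685) (flp_d L788526) L800711
theorem L800723 : sm gf N59811 = N60994 := rfl
theorem L800725 : sm ga N60994 = N60528 := ded_14_1 (flp_f L795486) (flp_a L788530) L800723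
theorem L800727 : sm gd N60994 = N59812 := ded_35_1 (flp_f L788538) (flp_d L788536) L800723
theorem L800729 : sm gi N60994 = N60029 := ded_48_2 (flp_f L790861) (flp_i L788534) L800723
theorem L800731 : sm gg N60994 = N60191 := ded_45_2 (flp_f L792543) L780263 (flp_f L778844) (flp_g L788532) L800723
theorem L800733 : sm gb N59813 = N60995 := rfl
theorem L800735 : sm gf N60995 = N59815 := ded_22_2 (flp_b L788577) (flp_f L788554) L800733
theorem L800737 : sm gg N60995 = N60575 := ded_23_2 (flp_b L795773) (flp_g L788556) L800733
theorem L800739 : sm gh N60995 = N59826 := ded_25_2 (flp_b L788728) (flp_h L788558) L800733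
theorem L800741 : sm gi N60995 = N60030 := ded_26_2 (flp_b L790871) (flp_i L788560) L800733
theorem L800743 : sm gc N60995 = N60374 := ded_19_2 (flp_b L794272) (flp_c L782057) (flp_b L776671) L788550 L800733
theorem L800745 : sm ge N59813 = N60996 := rfl
theorem L800747 : sm ga N60996 = N60583 := ded_13_1 (flp_e L795827) (flp_a L788552) L800745
theorem L800749 : sm gc N60996 = N59814 := ded_28_1 (flp_e L788562) L788550 L800745
theorem L800751 : sm gg N60996 = N60576 := ded_41_2 (flp_e L795777) (flp_g L788556) L800745
theorem L800753 : sm gh N60996 = N59827 := ded_43_2 (flp_e L788734) (flp_h L788558) L800745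
theorem L800755 : sm gi N60996 = N60031 := ded_44_2 (flp_e L790877) (flp_i L788560) L800745
theorem L800757 : sm gf N60996 = N59917 := ded_40_2 (flp_e L789765) L777757 (flp_e L776685) (flp_f L788554) L800745
theorem L800759 : sm ga N59815 = N60997 := rfl
theorem L800761 : sm gc N60997 = N60376 := ded_11_2 (flp_a L794284) (flp_c L788587) L800759
theorem L800763 : sm ge N60997 = N59918 := ded_13_2 (flp_a L789775) (flp_e L788579) L800759
theorem L800765 : sm gg N60997 = N60364 := ded_15_2 (flp_a L794170) (flp_g L788581) L800759
theorem L800767 : sm gh N60997 = N59828 := ded_17_2 (flp_a L788742) (flp_h L788583) L800759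
theorem L800769 : sm gi N60997 = N60032 := ded_18_2 (flp_a L790887) (flp_i L788585) L800759
theorem L800771 : sm gb N60997 = N60595 := ded_10_2 (flp_a L795908) (flp_b L783811) (flp_a L776683) L788577 L800759
theorem L800773 : sm ga N59816 = N60998 := rfl
theorem L800775 : sm gc N60998 = N60571 := ded_11_2 (flp_a L795751) (flp_c L788599) L800773
theorem L800777 : sm ge N60998 = N59927 := ded_13_2 (flp_a L789876) (flp_e L788591) L800773
theorem L800779 : sm gg N60998 = N60565 := ded_15_2 (flp_a L795715) (flp_g L788593) L800773
theorem L800781 : sm gj N60998 = N59828 := ded_16_2 (flp_a L788742) (flp_j L788595) L800773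
theorem L800783 : sm gi N60998 = N59831 := ded_18_2 (flp_a L788786) (flp_i L788597) L800773
theorem L800785 : sm gb N59817 = N60999 := rfl
theorem L800787 : sm gd N60999 = N59919 := ded_20_2 (flp_b L789785) (flp_d L788615) L800785
theorem L800789 : sm gf N60999 = N59876 := ded_22_2 (flp_b L789339) (flp_f L788605) L800785
theorem L800791 : sm gg N60999 = N59923 := ded_23_2 (flp_b L789840) (flp_g L788607) L800785
theorem L800793 : sm gj N60999 = N60351 := ded_24_2 (flp_b L794028) (flp_j L788609) L800785
theorem L800795 : sm gh N60999 = N60099 := ded_25_2 (flp_b L791657) (flp_h L788611) L800785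
theorem L800797 : sm gi N60999 = N59832 := ded_26_2 (flp_b L788794) (flp_i L788613) L800785
theorem L800799 : sm gc N60999 = N59821 := ded_19_2 (flp_b L788660) (flp_c L776750) (flp_b L776707) L788601 L800785
theorem L800801 : sm ge N59817 = N61000 := rfl
theorem L800803 : sm ga N61000 = N59950 := ded_13_1 (flp_e L790090) (flp_a L788603) L800801
theorem L800805 : sm gc N61000 = N59818 := ded_28_1 (flp_e L788617) L788601 L800801
theorem L800807 : sm gg N61000 = N59924 := ded_41_2 (flp_e L789850) (flp_g L788607) L800801
theorem L800809 : sm gj N61000 = N60352 := ded_42_2 (flp_e L794040) (flp_j L788609) L800801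
theorem L800811 : sm gh N61000 = N60100 := ded_43_2 (flp_e L791663) (flp_h L788611) L800801
theorem L800813 : sm gi N61000 = N59833 := ded_44_2 (flp_e L788804) (flp_i L788613) L800801
theorem L800815 : sm gd N61000 = N60346 := ded_34_1 (flp_e L793962) L781686 (flp_e L777788) (flp_d L788615) L800801
theorem L800817 : sm gf N61000 = N59851 := ded_40_2 (flp_e L789027) (flp_f L788394) L788392 (flp_f L788605) L800801
theorem L800819 : sm gb N59819 = N61001 := rfl
theorem L800821 : sm gf N61001 = N60061 := ded_22_2 (flp_b L791234) (flp_f L788637) L800819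
theorem L800823 : sm gg N61001 = N60515 := ded_23_2 (flp_b L795395) (flp_g L788639) L800819
theorem L800825 : sm gj N61001 = N60582 := ded_24_2 (flp_b L795817) (flp_j L788641) L800819
theorem L800827 : sm gh N61001 = N59821 := ded_25_2 (flp_b L788660) (flp_h L788643) L800819
theorem L800829 : sm gi N61001 = N60590 := ded_26_2 (flp_b L795872) (flp_i L788645) L800819
theorem L800831 : sm gc N61001 = N60099 := ded_19_2 (flp_b L791657) (flp_c L779485) (flp_b L776738) L788635 L800819
theorem L800833 : sm ge N59819 = N61002 := rfl
theorem L800835 : sm gc N61002 = N59820 := ded_28_1 (flp_e L788647) L788635 L800833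
theorem L800837 : sm gg N61002 = N60516 := ded_41_2 (flp_e L795399) (flp_g L788639) L800833
theorem L800839 : sm gj N61002 = N60583 := ded_42_2 (flp_e L795827) (flp_j L788641) L800833
theorem L800841 : sm gh N61002 = N59822 := ded_43_2 (flp_e L788668) (flp_h L788643) L800833
theorem L800843 : sm gi N61002 = N60591 := ded_44_2 (flp_e L795880) (flp_i L788645) L800833
theorem L800845 : sm gf N59820 = N61003 := rfl
theorem L800847 : sm ga N61003 = N59901 := ded_14_1 (flp_f L798342) L798329 L800845
theorem L800849 : sm gb N61003 = N59849 := ded_22_1 L789017 (flp_b L788649) L800845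
theorem L800851 : sm gd N61003 = N61003 := ded_35_1 (flp_f L800845) L788659 L800845
theorem L800852 : sm gj N61003 = N59860 := ded_46_2 L789160 (flp_j L788653) L800845
theorem L800854 : sm gh N61003 = N59823 := ded_47_2 (flp_f L788678) (flp_h L788655) L800845
theorem L800856 : sm gi N61003 = N60070 := ded_48_2 L791325 (flp_i L788657) L800845
theorem L800858 : sm ge N61003 = N59846 := ded_40_1 L788964 L777134 (flp_f L776740) L788647 L800845
theorem L800860 : sm gg N59954 = N61003 := ded_15_0 L800847 (flp_g L799776) L799772
theorem L800862 : sm ga N59821 = N61004 := rfl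
theorem L800864 : sm gd N61004 = N59828 := ded_12_2 (flp_a L788742) (flp_d L788662) L800862
theorem L800866 : sm gg N61004 = N60518 := ded_15_2 (flp_a L795410) (flp_g L788664) L800862
theorem L800868 : sm gi N61004 = N59836 := ded_18_2 (flp_a L788850) (flp_i L788666) L800862
theorem L800870 : sm ge N59821 = N61005 := rfl
theorem L800872 : sm gb N61005 = N59822 := ded_21_1 (flp_e L788668) L788660 L800870
theorem L800874 : sm gg N61005 = N60519 := ded_41_2 (flp_e L795416) (flp_g L788664) L800870
theorem L800876 : sm gi N61005 = N59837 := ded_44_2 (flp_e L788856) (flp_i L788666) L800870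
theorem L800878 : sm gd N61005 = N59941 := ded_34_1 (flp_e L790017) L777973 (flp_e L776815) (flp_d L788662) L800870
theorem L800880 : sm gf N59822 = N61006 := rfl
theorem L800882 : sm ga N61006 = N59926 := ded_14_1 (flp_f L800497) L800485 L800880
theorem L800884 : sm gc N61006 = N59823 := ded_29_1 (flp_f L788678) (flp_c L788670) L800880
theorem L800886 : sm gd N61006 = N59942 := ded_35_1 (flp_f L790025) (flp_d L788676) L800880
theorem L800888 : sm gj N61006 = N59873 := ded_46_2 (flp_f L800531) L800523 L800880
theorem L800890 : sm gi N61006 = N59838 := ded_48_2 (flp_f L788864) (flp_i L788674) L800880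
theorem L800892 : sm ge N61006 = N59847 := ded_40_1 L788978 (flp_e L788298) L788300 L788668 L800880
theorem L800894 : sm gg N59960 = N61006 := ded_30_0 L800884 (flp_g L788692) (flp_c L790201)
theorem L800896 : sm gb N59824 = N61007 := rfl
theorem L800898 : sm gd N61007 = N59845 := ded_20_2 (flp_b L788948) (flp_d L788708) L800896
theorem L800900 : sm gf N61007 = N59844 := ded_22_2 (flp_b L788934) (flp_f L788698) L800896
theorem L800902 : sm gg N61007 = N59826 := ded_23_2 (flp_b L788728) (flp_g L788700) L800896
theorem L800904 : sm gj N61007 = N59850 := ded_24_2 (flp_b L789019) (flp_j L788702) L800896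
theorem L800906 : sm gh N61007 = N60575 := ded_25_2 (flp_b L795773) (flp_h L788704) L800896
theorem L800908 : sm gi N61007 = N59839 := ded_26_2 (flp_b L788878) (flp_i L788706) L800896
theorem L800910 : sm gc N61007 = N59872 := ded_19_2 (flp_b L789301) (flp_c L777347) (flp_b L776787) L788694 L800896
theorem L800912 : sm ge N59824 = N61008 := rfl
theorem L800914 : sm ga N61008 = N60346 := ded_13_1 (flp_e L793962) (flp_a L788696) L800912
theorem L800916 : sm gc N61008 = N59825 := ded_28_1 (flp_e L788710) L788694 L800912
theorem L800918 : sm gg N61008 = N59827 := ded_41_2 (flp_e L788734) (flp_g L788700) L800912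
theorem L800920 : sm gj N61008 = N59851 := ded_42_2 (flp_e L789027) (flp_j L788702) L800912
theorem L800922 : sm gh N61008 = N60576 := ded_43_2 (flp_e L795777) (flp_h L788704) L800912
theorem L800924 : sm gi N61008 = N59840 := ded_44_2 (flp_e L788890) (flp_i L788706) L800912
theorem L800926 : sm gd N61008 = N59950 := ded_34_1 (flp_e L790090) (flp_d L788276) L788264 (flp_d L788708) L800912
theorem L800928 : sm gf N61008 = N60352 := ded_40_2 (flp_e L794040) L781759 (flp_e L777029) (flp_f L788698) L800912
theorem L800930 : sm ga N59826 = N61009 := rfl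
theorem L800932 : sm gf N61009 = N59828 := ded_14_2 (flp_a L788742) (flp_f L788730) L800930
theorem L800934 : sm gi N61009 = N59841 := ded_18_2 (flp_a L788906) (flp_i L788732) L800930
theorem L800936 : sm ge N59826 = N61010 := rfl
theorem L800938 : sm gb N61010 = N59827 := ded_21_1 (flp_e L788734) L788728 L800936
theorem L800940 : sm gi N61010 = N59842 := ded_44_2 (flp_e L788912) (flp_i L788732) L800936
theorem L800942 : sm gf N61010 = N59946 := ded_40_2 (flp_e L790063) L778021 (flp_e L776815) (flp_f L788730) L800936
theorem L800944 : sm gd N59827 = N61011 := rfl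
theorem L800946 : sm ga N61011 = N59924 := ded_12_1 (flp_d L800529) L800517 L800944
theorem L800948 : sm gf N61011 = N59947 := ded_35_2 (flp_d L790069) (flp_f L788740) L800944
theorem L800950 : sm gg N61011 = N59950 := ded_36_2 (flp_d L800926) L800918 L800944
theorem L800952 : sm gj N61011 = N59870 := ded_37_2 (flp_d L800495) L800491 L800944
theorem L800954 : sm gi N61011 = N59843 := ded_39_2 (flp_d L788920) (flp_i L788738) L800944
theorem L800956 : sm gc N61011 = N59829 := ded_27_1 (flp_d L788750) L776844 (flp_d L776809) (flp_c L788736) L800944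
theorem L800958 : sm ge N61011 = N59862 := ded_34_2 L789188 (flp_e L788298) L788310 L788734 L800944
theorem L800960 : sm gh N60233 = N61011 := ded_50_0 L800950 L790096 (flp_g L792987)
theorem L800962 : sm ga N59830 = N61012 := rfl
theorem L800964 : sm gc N61012 = N60344 := ded_11_2 (flp_a L793938) (flp_c L788784) L800962
theorem L800966 : sm gd N61012 = N60558 := ded_12_2 (flp_a L795673) (flp_d L788770) L800962
theorem L800968 : sm ge N61012 = N59951 := ded_13_2 (flp_a L790102) (flp_e L788772) L800962
theorem L800970 : sm gf N61012 = N60545 := ded_14_2 (flp_a L795594) (flp_f L788774) L800962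
theorem L800972 : sm gg N61012 = N59831 := ded_15_2 (flp_a L788786) (flp_g L788776) L800962
theorem L800974 : sm gj N61012 = N60347 := ded_16_2 (flp_a L793974) (flp_j L788778) L800962
theorem L800976 : sm gh N61012 = N60044 := ded_17_2 (flp_a L791030) (flp_h L788780) L800962
theorem L800978 : sm gi N61012 = N60565 := ded_18_2 (flp_a L795715) (flp_i L788782) L800962
theorem L800980 : sm ga N59832 = N61013 := rfl
theorem L800982 : sm gc N61013 = N59836 := ded_11_2 (flp_a L788850) (flp_c L788802) L800980
theorem L800984 : sm gd N61013 = N59951 := ded_12_2 (flp_a L790102) (flp_d L788796) L800980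
theorem L800986 : sm gg N61013 = N59961 := ded_15_2 (flp_a L790205) (flp_g L788798) L800980
theorem L800988 : sm gj N61013 = N60554 := ded_16_2 (flp_a L795647) (flp_j L788800) L800980
theorem L800990 : sm ge N59832 = N61014 := rfl
theorem L800992 : sm gb N61014 = N59833 := ded_21_1 (flp_e L788804) L788794 L800990
theorem L800994 : sm gc N61014 = N59837 := ded_28_1 (flp_e L788856) (flp_c L788802) L800990
theorem L800996 : sm gg N61014 = N59962 := ded_41_2 (flp_e L790213) (flp_g L788798) L800990
theorem L800998 : sm gj N61014 = N60555 := ded_42_2 (flp_e L795653) (flp_j L788800) L800990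
theorem L801000 : sm gd N61014 = N60559 := ded_34_1 (flp_e L795679) (flp_d L788770) L788772 (flp_d L788796) L800990
theorem L801002 : sm gf N61014 = N60562 := ded_40_2 (flp_e L795697) (flp_f L788950) (flp_e L800419) L800421 L800990
theorem L801004 : sm ga N59834 = N61015 := rfl
theorem L801006 : sm gd N61015 = N60049 := ded_12_2 (flp_a L791092) (flp_d L788820) L801004
theorem L801008 : sm gf N61015 = N60021 := ded_14_2 (flp_a L790780) (flp_f L788822) L801004
theorem L801010 : sm gg N61015 = N60529 := ded_15_2 (flp_a L795492) (flp_g L788824) L801004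
theorem L801012 : sm gj N61015 = N60022 := ded_16_2 (flp_a L790792) (flp_j L788826) L801004
theorem L801014 : sm gh N61015 = N59836 := ded_17_2 (flp_a L788850) (flp_h L788828) L801004
theorem L801016 : sm gi N61015 = N60593 := ded_18_2 (flp_a L795894) (flp_i L788830) L801004
theorem L801018 : sm gb N61015 = N60046 := ded_10_2 (flp_a L791056) (flp_b L778947) (flp_a L776903) L788818 L801004
theorem L801020 : sm ge N59834 = N61016 := rfl
theorem L801022 : sm gb N61016 = N59835 := ded_21_1 (flp_e L788832) L788818 L801020
theorem L801024 : sm gg N61016 = N60530 := ded_41_2 (flp_e L795498) (flp_g L788824) L801020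
theorem L801026 : sm gj N61016 = N60023 := ded_42_2 (flp_e L790802) (flp_j L788826) L801020
theorem L801028 : sm gh N61016 = N59837 := ded_43_2 (flp_e L788856) (flp_h L788828) L801020
theorem L801030 : sm gi N61016 = N60594 := ded_44_2 (flp_e L795902) (flp_i L788830) L801020
theorem L801032 : sm gd N61016 = N60606 := ded_34_1 (flp_e L795987) L783902 (flp_e L778989) (flp_d L788820) L801020
theorem L801034 : sm gf N61016 = N60114 := ded_40_2 (flp_e L791808) L779596 (flp_e L778682) (flp_f L788822) L801020
theorem L801036 : sm ge N59836 = N61017 := rfl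
theorem L801038 : sm ga N61017 = N59837 := ded_13_1 (flp_e L788856) L788850 L801036
theorem L801040 : sm gg N61017 = N60535 := ded_41_2 (flp_e L795526) (flp_g L788854) L801036
theorem L801042 : sm gd N61017 = N59999 := ded_34_1 (flp_e L790564) L778403 (flp_e L777005) (flp_d L788852) L801036
theorem L801044 : sm gf N59837 = N61018 := rfl
theorem L801046 : sm gb N61018 = N59838 := ded_22_1 (flp_f L788864) (flp_b L788858) L801044
theorem L801048 : sm gc N61018 = N60562 := ded_29_1 (flp_f L801002) L800994 L801044
theorem L801050 : sm gd N61018 = N60000 := ded_35_1 (flp_f L790570) (flp_d L788862) L801044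
theorem L801052 : sm gj N61018 = N59892 := ded_46_2 (flp_f L800639) L800633 L801044
theorem L801054 : sm gh N61018 = N60114 := ded_47_2 (flp_f L801034) L801028 L801044
theorem L801056 : sm ge N61018 = N59879 := ded_40_1 L789371 (flp_e L788410) L788412 L788856 L801044
theorem L801058 : sm ga N59839 = N61019 := rfl
theorem L801060 : sm gc N61019 = N59891 := ded_11_2 (flp_a L789495) (flp_c L788888) L801058
theorem L801062 : sm gf N61019 = N59852 := ded_14_2 (flp_a L789039) (flp_f L788880) L801058
theorem L801064 : sm gg N61019 = N59841 := ded_15_2 (flp_a L788906) (flp_g L788882) L801058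
theorem L801066 : sm gj N61019 = N60561 := ded_16_2 (flp_a L795693) (flp_j L788884) L801058
theorem L801068 : sm gh N61019 = N60053 := ded_17_2 (flp_a L791148) (flp_h L788886) L801058
theorem L801070 : sm gb N61019 = N60558 := ded_10_2 (flp_a L795673) (flp_b L783517) (flp_a L776963) L788878 L801058
theorem L801072 : sm ge N59839 = N61020 := rfl
theorem L801074 : sm gb N61020 = N59840 := ded_21_1 (flp_e L788890) L788878 L801072
theorem L801076 : sm gc N61020 = N59892 := ded_28_1 (flp_e L789503) (flp_c L788888) L801072
theorem L801078 : sm gg N61020 = N59842 := ded_41_2 (flp_e L788912) (flp_g L788882) L801072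
theorem L801080 : sm gj N61020 = N60562 := ded_42_2 (flp_e L795697) (flp_j L788884) L801072
theorem L801082 : sm gh N61020 = N60054 := ded_43_2 (flp_e L791156) (flp_h L788886) L801072
theorem L801084 : sm gd N61020 = N60567 := ded_34_1 (flp_e L796853) L796851 (flp_e L800551) L800549 L801072
theorem L801086 : sm gf N61020 = N60555 := ded_40_2 (flp_e L795653) (flp_f L788284) L788282 (flp_f L788880) L801072
theorem L801088 : sm ge N59841 = N61021 := rfl
theorem L801090 : sm ga N61021 = N59842 := ded_13_1 (flp_e L788912) L788906 L801088
theorem L801092 : sm gh N61021 = N60055 := ded_43_2 (flp_e L791164) (flp_h L788910) L801088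
theorem L801094 : sm gf N61021 = N60005 := ded_40_2 (flp_e L790610) L778457 (flp_e L777005) (flp_f L788908) L801088
theorem L801096 : sm gd N59842 = N61022 := rfl
theorem L801098 : sm gb N61022 = N59843 := ded_20_1 (flp_d L788920) (flp_b L788914) L801096
theorem L801100 : sm gf N61022 = N60006 := ded_35_2 (flp_d L790616) (flp_f L788918) L801096
theorem L801102 : sm gg N61022 = N60567 := ded_36_2 (flp_d L801084) L801078 L801096
theorem L801104 : sm gj N61022 = N59889 := ded_37_2 (flp_d L800605) L800601 L801096
theorem L801106 : sm ge N61022 = N59877 := ded_34_2 L789349 (flp_e L788410) L788408 L788912 L801096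
theorem L801108 : sm gc N60574 = N61022 := ded_19_0 L801098 L788930 L777015 (flp_c L783635) (flp_b L795771)
theorem L801110 : sm ga N59844 = N61023 := rfl
theorem L801112 : sm gc N61023 = N59874 := ded_11_2 (flp_a L789315) (flp_c L788946) L801110
theorem L801114 : sm gd N61023 = N60561 := ded_12_2 (flp_a L795693) (flp_d L788936) L801110
theorem L801116 : sm ge N61023 = N60542 := ded_13_2 (flp_a L795576) (flp_e L788938) L801110
theorem L801118 : sm gg N61023 = N60509 := ded_15_2 (flp_a L795342) (flp_g L788940) L801110
theorem L801120 : sm gh N61023 = N60577 := ded_17_2 (flp_a L795785) (flp_h L788942) L801110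
theorem L801122 : sm gi N61023 = N59852 := ded_18_2 (flp_a L789039) (flp_i L788944) L801110
theorem L801124 : sm gb N61023 = N60347 := ded_10_2 (flp_a L793974) (flp_b L781702) (flp_a L777027) L788934 L801110
theorem L801126 : sm ga N59845 = N61024 := rfl
theorem L801128 : sm gc N61024 = N59880 := ded_11_2 (flp_a L789379) (flp_c L788956) L801126
theorem L801130 : sm gf N61024 = N60561 := ded_14_2 (flp_a L795693) (flp_f L788950) L801126
theorem L801132 : sm gj N61024 = N59852 := ded_16_2 (flp_a L789039) (flp_j L788952) L801126
theorem L801134 : sm gh N61024 = N60064 := ded_17_2 (flp_a L791262) (flp_h L788954) L801126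
theorem L801136 : sm gb N61024 = N60565 := ded_10_2 (flp_a L795715) (flp_b L783561) (flp_a L777041) L788948 L801126
theorem L801138 : sm gc N59846 = N61025 := rfl
theorem L801140 : sm ga N61025 = N59900 := ded_11_1 (flp_c L789605) (flp_a L788960) L801138
theorem L801142 : sm gf N61025 = N59853 := ded_29_2 (flp_c L789047) (flp_f L788964) L801138
theorem L801144 : sm gg N61025 = N59953 := ded_30_2 (flp_c L790126) (flp_g L788966) L801138
theorem L801146 : sm gj N61025 = N59859 := ded_31_2 (flp_c L789135) (flp_j L788968) L801138
theorem L801148 : sm gh N61025 = N59847 := ded_32_2 (flp_c L788974) (flp_h L788972) L801138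
theorem L801150 : sm gi N61025 = N60069 := ded_33_2 (flp_c L791302) (flp_i L788970) L801138
theorem L801152 : sm gd N61025 = N60241 := ded_27_2 (flp_c L793040) (flp_d L780734) (flp_c L777055) L788958 L801138
theorem L801154 : sm gb N59847 = N61026 := rfl
theorem L801156 : sm gd N61026 = N59881 := ded_20_2 (flp_b L789387) (flp_d L788986) L801154
theorem L801158 : sm gf N61026 = N59863 := ded_22_2 (flp_b L789190) (flp_f L788978) L801154
theorem L801160 : sm gg N61026 = N59959 := ded_23_2 (flp_b L790189) (flp_g L788980) L801154
theorem L801162 : sm gj N61026 = N59872 := ded_24_2 (flp_b L789301) (flp_j L788982) L801154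
theorem L801164 : sm gi N61026 = N59879 := ded_26_2 (flp_b L789369) (flp_i L788984) L801154
theorem L801166 : sm gc N61026 = N59850 := ded_19_2 (flp_b L789019) (flp_c L777094) (flp_b L777070) L788974 L801154
theorem L801168 : sm gb N59848 = N61027 := rfl
theorem L801170 : sm gd N61027 = N60065 := ded_20_2 (flp_b L791268) (flp_d L789002) L801168
theorem L801172 : sm gf N61027 = N60020 := ded_22_2 (flp_b L790768) (flp_f L788992) L801168
theorem L801174 : sm gg N61027 = N60523 := ded_23_2 (flp_b L795449) (flp_g L788994) L801168
theorem L801176 : sm gj N61027 = N60575 := ded_24_2 (flp_b L795773) (flp_j L788996) L801168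
theorem L801178 : sm gh N61027 = N59850 := ded_25_2 (flp_b L789019) (flp_h L788998) L801168
theorem L801180 : sm gi N61027 = N60579 := ded_26_2 (flp_b L795801) (flp_i L789000) L801168
theorem L801182 : sm ge N59848 = N61028 := rfl
theorem L801184 : sm ga N61028 = N60043 := ded_13_1 (flp_e L791020) (flp_a L788990) L801182
theorem L801186 : sm gc N61028 = N59849 := ded_28_1 (flp_e L789004) L788988 L801182
theorem L801188 : sm gg N61028 = N60524 := ded_41_2 (flp_e L795457) (flp_g L788994) L801182
theorem L801190 : sm gj N61028 = N60576 := ded_42_2 (flp_e L795777) (flp_j L788996) L801182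
theorem L801192 : sm gh N61028 = N59851 := ded_43_2 (flp_e L789027) (flp_h L788998) L801182
theorem L801194 : sm gi N61028 = N60580 := ded_44_2 (flp_e L795807) (flp_i L789000) L801182
theorem L801196 : sm gf N61028 = N60100 := ded_40_2 (flp_e L791663) L779489 (flp_e L778668) (flp_f L788992) L801182
theorem L801198 : sm gd N60669 = N61028 := ded_38_5 L801192 L789037 L783509 L784326 L796378
theorem L801200 : sm ga N59850 = N61029 := rfl
theorem L801202 : sm gd N61029 = N59852 := ded_12_2 (flp_a L789039) (flp_d L789021) L801200
theorem L801204 : sm gg N61029 = N60532 := ded_15_2 (flp_a L795510) (flp_g L789023) L801200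
theorem L801206 : sm gi N61029 = N60561 := ded_18_2 (flp_a L795693) (flp_i L789025) L801200
theorem L801208 : sm gb N61029 = N60545 := ded_10_2 (flp_a L795594) (flp_b L783432) (flp_a L777096) L789019 L801200
theorem L801210 : sm ge N59850 = N61030 := rfl
theorem L801212 : sm gb N61030 = N59851 := ded_21_1 (flp_e L789027) L789019 L801210
theorem L801214 : sm gg N61030 = N60533 := ded_41_2 (flp_e L795516) (flp_g L789023) L801210
theorem L801216 : sm gi N61030 = N60562 := ded_44_2 (flp_e L795697) (flp_i L789025) L801210
theorem L801218 : sm gd N61030 = N60557 := ded_34_1 (flp_e L795667) (flp_d L788280) L788282 (flp_d L789021) L801210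
theorem L801220 : sm gb N59853 = N61031 := rfl
theorem L801222 : sm gd N61031 = N60480 := ded_20_2 (flp_b L795149) (flp_d L789061) L801220
theorem L801224 : sm ge N61031 = N60061 := ded_21_2 (flp_b L791234) (flp_e L789051) L801220
theorem L801226 : sm gg N61031 = N60016 := ded_23_2 (flp_b L790716) (flp_g L789053) L801220
theorem L801228 : sm gj N61031 = N59861 := ded_24_2 (flp_b L789162) (flp_j L789055) L801220
theorem L801230 : sm gh N61031 = N59863 := ded_25_2 (flp_b L789190) (flp_h L789057) L801220
theorem L801232 : sm gi N61031 = N60071 := ded_26_2 (flp_b L791327) (flp_i L789059) L801220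
theorem L801234 : sm gc N61031 = N60020 := ded_19_2 (flp_b L790768) (flp_c L778664) (flp_b L777126) L789047 L801220
theorem L801236 : sm gc N59854 = N61032 := rfl
theorem L801238 : sm ga N61032 = N59908 := ded_11_1 (flp_c L789689) (flp_a L789065) L801236
theorem L801240 : sm gf N61032 = N60248 := ded_29_2 (flp_c L793109) (flp_f L789069) L801236
theorem L801242 : sm gg N61032 = N60380 := ded_30_2 (flp_c L794314) (flp_g L789071) L801236
theorem L801244 : sm gj N61032 = N60224 := ded_31_2 (flp_c L792883) (flp_j L789073) L801236
theorem L801246 : sm gh N61032 = N59856 := ded_32_2 (flp_c L789095) (flp_h L789077) L801236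
theorem L801248 : sm gi N61032 = N60422 := ded_33_2 (flp_c L794693) (flp_i L789075) L801236
theorem L801250 : sm gd N61032 = N59866 := ded_27_2 (flp_c L789226) (flp_d L777280) (flp_c L777144) L789063 L801236
theorem L801252 : sm ge N59854 = N61033 := rfl
theorem L801254 : sm ga N61033 = N59909 := ded_13_1 (flp_e L789697) (flp_a L789065) L801252
theorem L801256 : sm gb N61033 = N60427 := ded_21_1 (flp_e L794744) (flp_b L789067) L801252
theorem L801258 : sm gg N61033 = N60381 := ded_41_2 (flp_e L794326) (flp_g L789071) L801252
theorem L801260 : sm gj N61033 = N60225 := ded_42_2 (flp_e L792895) (flp_j L789073) L801252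
theorem L801262 : sm gh N61033 = N59857 := ded_43_2 (flp_e L789107) (flp_h L789077) L801252
theorem L801264 : sm gi N61033 = N60423 := ded_44_2 (flp_e L794701) (flp_i L789075) L801252
theorem L801266 : sm gd N61033 = N61033 := ded_34_1 (flp_e L801252) (flp_d L789063) L777146 L789063 L801252
theorem L801267 : sm gc N59855 = N61034 := rfl
theorem L801269 : sm ga N61034 = N59910 := ded_11_1 (flp_c L789704) (flp_a L789081) L801267
theorem L801271 : sm gf N61034 = N59856 := ded_29_2 (flp_c L789095) (flp_f L789085) L801267
theorem L801273 : sm gg N61034 = N60275 := ded_30_2 (flp_c L793327) (flp_g L789087) L801267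
theorem L801275 : sm gj N61034 = N60241 := ded_31_2 (flp_c L793040) (flp_j L789089) L801267
theorem L801277 : sm gh N61034 = N60248 := ded_32_2 (flp_c L793109) (flp_h L789093) L801267
theorem L801279 : sm gi N61034 = N60072 := ded_33_2 (flp_c L791341) (flp_i L789091) L801267
theorem L801281 : sm gd N61034 = N59859 := ded_27_2 (flp_c L789135) (flp_d L777199) (flp_c L777161) L789079 L801267
theorem L801283 : sm ge N59855 = N61035 := rfl
theorem L801285 : sm ga N61035 = N59911 := ded_13_1 (flp_e L789714) (flp_a L789081) L801283
theorem L801287 : sm gb N61035 = N60460 := ded_21_1 (flp_e L794996) (flp_b L789083) L801283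
theorem L801289 : sm gg N61035 = N60276 := ded_41_2 (flp_e L793339) (flp_g L789087) L801283
theorem L801291 : sm gj N61035 = N60242 := ded_42_2 (flp_e L793050) (flp_j L789089) L801283
theorem L801293 : sm gh N61035 = N60249 := ded_43_2 (flp_e L793119) (flp_h L789093) L801283
theorem L801295 : sm gi N61035 = N60073 := ded_44_2 (flp_e L791353) (flp_i L789091) L801283
theorem L801297 : sm gd N61035 = N61035 := ded_34_1 (flp_e L801283) (flp_d L789079) L777163 L789079 L801283
theorem L801298 : sm gb N59856 = N61036 := rfl
theorem L801300 : sm gd N61036 = N59861 := ded_20_2 (flp_b L789162) (flp_d L789105) L801298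
theorem L801302 : sm gg N61036 = N60385 := ded_23_2 (flp_b L794369) (flp_g L789099) L801298
theorem L801304 : sm gj N61036 = N60480 := ded_24_2 (flp_b L795149) (flp_j L789101) L801298
theorem L801306 : sm gi N61036 = N60074 := ded_26_2 (flp_b L791364) (flp_i L789103) L801298
theorem L801308 : sm gc N61036 = N60463 := ded_19_2 (flp_b L795023) (flp_c L782810) (flp_b L777176) L789095 L801298
theorem L801310 : sm ge N59856 = N61037 := rfl
theorem L801312 : sm ga N61037 = N59913 := ded_13_1 (flp_e L789729) (flp_a L789097) L801310
theorem L801314 : sm gc N61037 = N59857 := ded_28_1 (flp_e L789107) L789095 L801310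
theorem L801316 : sm gg N61037 = N60386 := ded_41_2 (flp_e L794379) (flp_g L789099) L801310
theorem L801318 : sm gj N61037 = N60481 := ded_42_2 (flp_e L795155) (flp_j L789101) L801310
theorem L801320 : sm gi N61037 = N60075 := ded_44_2 (flp_e L791376) (flp_i L789103) L801310
theorem L801322 : sm gd N61037 = N60527 := ded_34_1 (flp_e L795478) L783285 (flp_e L777217) (flp_d L789105) L801310
theorem L801324 : sm gf N59857 = N61038 := rfl
theorem L801326 : sm ga N61038 = N59914 := ded_14_1 (flp_f L789737) (flp_a L789109) L801324
theorem L801328 : sm gb N61038 = N60465 := ded_22_1 (flp_f L795037) (flp_b L789111) L801324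
theorem L801330 : sm gd N61038 = N59858 := ded_35_1 (flp_f L789121) (flp_d L789119) L801324
theorem L801332 : sm gj N61038 = N60329 := ded_46_2 L793769 (flp_j L789115) L801324
theorem L801334 : sm gi N61038 = N60076 := ded_48_2 (flp_f L791390) (flp_i L789117) L801324
theorem L801336 : sm gg N59858 = N61039 := rfl
theorem L801338 : sm ga N61039 = N59915 := ded_15_1 (flp_g L789743) (flp_a L789123) L801336
theorem L801340 : sm gb N61039 = N60507 := ded_23_1 (flp_g L795320) (flp_b L789125) L801336
theorem L801342 : sm gc N61039 = N60093 := ded_30_1 L791591 (flp_c L789127) L801336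
theorem L801344 : sm ge N61039 = N61039 := ded_41_1 (flp_g L801336) L789134 L801336
theorem L801345 : sm gh N61039 = N61039 := ded_50_2 (flp_g L801336) L789131 L801336
theorem L801346 : sm gi N61039 = N60077 := ded_51_2 (flp_g L791402) (flp_i L789132) L801336
theorem L801348 : sm gf N61039 = N60092 := ded_45_1 L791578 L779445 (flp_g L777192) L789121 L801336
theorem L801350 : sm gj N61039 = N60335 := ded_49_2 L793836 L781476 (flp_g L781486) (flp_j L789129) L801336
theorem L801352 : sm gb N59859 = N61040 := rfl
theorem L801354 : sm gf N61040 = N59861 := ded_22_2 (flp_b L789162) (flp_f L789139) L801352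
theorem L801356 : sm gg N61040 = N60374 := ded_23_2 (flp_b L794272) (flp_g L789141) L801352
theorem L801358 : sm gh N61040 = N59872 := ded_25_2 (flp_b L789301) (flp_h L789143) L801352
theorem L801360 : sm gi N61040 = N60078 := ded_26_2 (flp_b L791417) (flp_i L789145) L801352
theorem L801362 : sm gc N61040 = N60575 := ded_19_2 (flp_b L795773) (flp_c L783643) (flp_b L777203) L789135 L801352
theorem L801364 : sm ge N59859 = N61041 := rfl
theorem L801366 : sm ga N61041 = N59917 := ded_13_1 (flp_e L789765) (flp_a L789137) L801364
theorem L801368 : sm gc N61041 = N59860 := ded_28_1 (flp_e L789147) L789135 L801364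
theorem L801370 : sm gg N61041 = N60375 := ded_41_2 (flp_e L794276) (flp_g L789141) L801364
theorem L801372 : sm gh N61041 = N59873 := ded_43_2 (flp_e L789307) (flp_h L789143) L801364
theorem L801374 : sm gi N61041 = N60079 := ded_44_2 (flp_e L791423) (flp_i L789145) L801364
theorem L801376 : sm gf N61041 = N60583 := ded_40_2 (flp_e L795827) L783717 (flp_e L777217) (flp_f L789139) L801364
theorem L801378 : sm ga N59861 = N61042 := rfl
theorem L801380 : sm gc N61042 = N60577 := ded_11_2 (flp_a L795785) (flp_c L789172) L801378
theorem L801382 : sm ge N61042 = N60595 := ded_13_2 (flp_a L795908) (flp_e L789164) L801378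
theorem L801384 : sm gg N61042 = N60391 := ded_15_2 (flp_a L794423) (flp_g L789166) L801378
theorem L801386 : sm gh N61042 = N59874 := ded_17_2 (flp_a L789315) (flp_h L789168) L801378
theorem L801388 : sm gi N61042 = N60080 := ded_18_2 (flp_a L791433) (flp_i L789170) L801378
theorem L801390 : sm gb N61042 = N59918 := ded_10_2 (flp_a L789775) (flp_b L777776) (flp_a L777215) L789162 L801378
theorem L801392 : sm gb N59862 = N61043 := rfl
theorem L801394 : sm gd N61043 = N59863 := ded_20_2 (flp_b L789190) (flp_d L789188) L801392
theorem L801396 : sm gf N61043 = N59881 := ded_22_2 (flp_b L789387) (flp_f L789178) L801392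
theorem L801398 : sm gg N61043 = N59949 := ded_23_2 (flp_b L790082) (flp_g L789180) L801392
theorem L801400 : sm gj N61043 = N59869 := ded_24_2 (flp_b L789267) (flp_j L789182) L801392
theorem L801402 : sm gh N61043 = N60232 := ded_25_2 (flp_b L792977) (flp_h L789184) L801392
theorem L801404 : sm gi N61043 = N59877 := ded_26_2 (flp_b L789347) (flp_i L789186) L801392
theorem L801406 : sm gc N61043 = N59885 := ded_19_2 (flp_b L789439) (flp_c L777490) (flp_b L777229) L789174 L801392
theorem L801408 : sm ga N59863 = N61044 := rfl
theorem L801410 : sm gj N61044 = N59874 := ded_16_2 (flp_a L789315) (flp_j L789192) L801408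
theorem L801412 : sm gi N61044 = N59880 := ded_18_2 (flp_a L789379) (flp_i L789194) L801408
theorem L801414 : sm gb N61044 = N59927 := ded_10_2 (flp_a L789876) (flp_b L777865) (flp_a L777243) L789190 L801408
theorem L801416 : sm gb N59864 = N61045 := rfl
theorem L801418 : sm gd N61045 = N59879 := ded_20_2 (flp_b L789369) (flp_d L789208) L801416
theorem L801420 : sm gf N61045 = N59877 := ded_22_2 (flp_b L789347) (flp_f L789200) L801416
theorem L801422 : sm gg N61045 = N59925 := ded_23_2 (flp_b L789858) (flp_g L789202) L801416
theorem L801424 : sm gj N61045 = N59885 := ded_24_2 (flp_b L789439) (flp_j L789204) L801416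
theorem L801426 : sm gi N61045 = N59881 := ded_26_2 (flp_b L789387) (flp_i L789206) L801416
theorem L801428 : sm gc N61045 = N59869 := ded_19_2 (flp_b L789267) (flp_c L777310) (flp_b L777253) L789196 L801416
theorem L801430 : sm ge N59864 = N61046 := rfl
theorem L801432 : sm ga N61046 = N59960 := ded_13_1 (flp_e L790199) (flp_a L789198) L801430
theorem L801434 : sm gc N61046 = N59865 := ded_28_1 (flp_e L789210) L789196 L801430
theorem L801436 : sm gg N61046 = N59926 := ded_41_2 (flp_e L789868) (flp_g L789202) L801430
theorem L801438 : sm gj N61046 = N59886 := ded_42_2 (flp_e L789445) (flp_j L789204) L801430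
theorem L801440 : sm gi N61046 = N59882 := ded_44_2 (flp_e L789395) (flp_i L789206) L801430
theorem L801442 : sm gd N61046 = N59998 := ded_34_1 L790562 (flp_d L788870) L788876 (flp_d L789208) L801430
theorem L801444 : sm gf N61046 = N59997 := ded_40_2 L790556 (flp_f L788924) L788932 (flp_f L789200) L801430
theorem L801446 : sm gb N59866 = N61047 := rfl
theorem L801448 : sm gf N61047 = N60257 := ded_22_2 (flp_b L793191) (flp_f L789230) L801446
theorem L801450 : sm gg N61047 = N60538 := ded_23_2 (flp_b L795544) (flp_g L789232) L801446
theorem L801452 : sm gj N61047 = N60232 := ded_24_2 (flp_b L792977) (flp_j L789234) L801446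
theorem L801454 : sm gh N61047 = N59869 := ded_25_2 (flp_b L789267) (flp_h L789236) L801446
theorem L801456 : sm ge N59866 = N61048 := rfl
theorem L801458 : sm ga N61048 = N59936 := ded_13_1 (flp_e L789976) (flp_a L789228) L801456
theorem L801460 : sm gc N61048 = N59867 := ded_28_1 (flp_e L789238) L789226 L801456
theorem L801462 : sm gg N61048 = N60539 := ded_41_2 (flp_e L795552) (flp_g L789232) L801456
theorem L801464 : sm gj N61048 = N60233 := ded_42_2 (flp_e L792983) (flp_j L789234) L801456
theorem L801466 : sm gh N61048 = N59870 := ded_43_2 (flp_e L789275) (flp_h L789236) L801456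
theorem L801468 : sm gf N59867 = N61049 := rfl
theorem L801470 : sm ga N61049 = N59937 := ded_14_1 (flp_f L789984) (flp_a L789240) L801468
theorem L801472 : sm gb N61049 = N60008 := ded_22_1 (flp_f L799785) L799774 L801468
theorem L801474 : sm gd N61049 = N61049 := ded_35_1 (flp_f L801468) L789248 L801468
theorem L801475 : sm gj N61049 = N59948 := ded_46_2 L790079 (flp_j L789244) L801468
theorem L801477 : sm gh N61049 = N59871 := ded_47_2 (flp_f L789285) (flp_h L789246) L801468
theorem L801479 : sm ge N61049 = N59992 := ded_40_1 L790518 (flp_e L780853) (flp_f L777284) L789238 L801468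
theorem L801481 : sm gg N61049 = N59984 := ded_45_2 (flp_f L790447) (flp_g L786564) L786571 (flp_g L789242) L801468
theorem L801483 : sm gb N59868 = N61050 := rfl
theorem L801485 : sm gd N61050 = N59872 := ded_20_2 (flp_b L789301) (flp_d L789265) L801483
theorem L801487 : sm ge N61050 = N60574 := ded_21_2 L795771 (flp_e L789253) L801483
theorem L801489 : sm gf N61050 = N59869 := ded_22_2 (flp_b L789267) (flp_f L789255) L801483
theorem L801491 : sm gg N61050 = N60002 := ded_23_2 (flp_b L790580) (flp_g L789257) L801483
theorem L801493 : sm gj N61050 = N59881 := ded_24_2 (flp_b L789387) (flp_j L789259) L801483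
theorem L801495 : sm gh N61050 = N60257 := ded_25_2 (flp_b L793191) (flp_h L789261) L801483
theorem L801497 : sm gi N61050 = N59885 := ded_26_2 (flp_b L789439) (flp_i L789263) L801483
theorem L801499 : sm gc N61050 = N59877 := ded_19_2 (flp_b L789347) (flp_c L777396) (flp_b L777296) L789249 L801483
theorem L801501 : sm ga N59869 = N61051 := rfl
theorem L801503 : sm gd N61051 = N59874 := ded_12_2 (flp_a L789315) (flp_d L789269) L801501
theorem L801505 : sm gg N61051 = N60540 := ded_15_2 (flp_a L795562) (flp_g L789271) L801501
theorem L801507 : sm gi N61051 = N59888 := ded_18_2 (flp_a L789471) (flp_i L789273) L801501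
theorem L801509 : sm gb N61051 = N59940 := ded_10_2 (flp_a L790009) (flp_b L777971) (flp_a L777312) L789267 L801501
theorem L801511 : sm ge N59869 = N61052 := rfl
theorem L801513 : sm gb N61052 = N59870 := ded_21_1 (flp_e L789275) L789267 L801511
theorem L801515 : sm gg N61052 = N60541 := ded_41_2 (flp_e L795570) (flp_g L789271) L801511
theorem L801517 : sm gi N61052 = N59889 := ded_44_2 (flp_e L789479) (flp_i L789273) L801511
theorem L801519 : sm gf N59870 = N61053 := rfl
theorem L801521 : sm ga N61053 = N59942 := ded_14_1 (flp_f L790025) (flp_a L789277) L801519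
theorem L801523 : sm gc N61053 = N59871 := ded_29_1 (flp_f L789285) (flp_c L789279) L801519
theorem L801525 : sm gd N61053 = N59926 := ded_35_1 (flp_f L800497) L800495 L801519
theorem L801527 : sm gj N61053 = N59947 := ded_46_2 (flp_f L800948) L800952 L801519
theorem L801529 : sm gi N61053 = N59890 := ded_48_2 (flp_f L789485) (flp_i L789283) L801519
theorem L801531 : sm ge N61053 = N60001 := ded_40_1 L790578 (flp_e L789253) L789255 L789275 L801519
theorem L801533 : sm gg N61053 = N59998 := ded_45_2 (flp_f L790558) (flp_g L790536) L790540 (flp_g L789281) L801519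
theorem L801535 : sm ga N59872 = N61054 := rfl
theorem L801537 : sm gf N61054 = N59874 := ded_14_2 (flp_a L789315) (flp_f L789303) L801535
theorem L801539 : sm gi N61054 = N59891 := ded_18_2 (flp_a L789495) (flp_i L789305) L801535
theorem L801541 : sm gb N61054 = N59945 := ded_10_2 (flp_a L790057) (flp_b L778019) (flp_a L777349) L789301 L801535
theorem L801543 : sm ge N59872 = N61055 := rfl
theorem L801545 : sm gb N61055 = N59873 := ded_21_1 (flp_e L789307) L789301 L801543
theorem L801547 : sm gi N61055 = N59892 := ded_44_2 (flp_e L789503) (flp_i L789305) L801543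
theorem L801549 : sm gd N59873 = N61056 := rfl
theorem L801551 : sm ga N61056 = N59947 := ded_12_1 (flp_d L790069) (flp_a L789309) L801549
theorem L801553 : sm gf N61056 = N59924 := ded_35_2 (flp_d L800529) L800531 L801549
theorem L801555 : sm gg N61056 = N60534 := ded_36_2 (flp_d L796607) L796599 L801549
theorem L801557 : sm gj N61056 = N59942 := ded_37_2 (flp_d L800886) L800888 L801549
theorem L801559 : sm gi N61056 = N59893 := ded_39_2 (flp_d L789509) (flp_i L789313) L801549
theorem L801561 : sm gc N61056 = N59875 := ded_27_1 (flp_d L789323) L777375 (flp_d L777361) (flp_c L789311) L801549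
theorem L801563 : sm ge N61056 = N60537 := ded_34_2 L795542 (flp_e L789253) L789265 L789307 L801549
theorem L801565 : sm gh N59875 = N61057 := rfl
theorem L801567 : sm ga N61057 = N59948 := ded_17_1 (flp_h L790075) (flp_a L789325) L801565
theorem L801569 : sm gb N61057 = N60517 := ded_25_1 L795408 (flp_b L789327) L801565
theorem L801571 : sm ge N61057 = N60112 := ded_43_1 L791796 (flp_e L789337) L801565
theorem L801573 : sm gf N61057 = N59922 := ded_47_1 L789837 (flp_f L789329) L801565
theorem L801575 : sm gg N61057 = N60525 := ded_50_1 L795466 (flp_g L789331) L801565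
theorem L801577 : sm gj N61057 = N59937 := ded_52_1 L789987 (flp_j L789333) L801565
theorem L801579 : sm gd N61057 = N61057 := ded_38_1 (flp_h L801565) (flp_d L789323) L777381 L789323 L801565
theorem L801580 : sm ga N59876 = N61058 := rfl
theorem L801582 : sm gg N61058 = N59880 := ded_15_2 (flp_a L789379) (flp_g L789341) L801580
theorem L801584 : sm gj N61058 = N60542 := ded_16_2 (flp_a L795576) (flp_j L789343) L801580
theorem L801586 : sm gh N61058 = N60101 := ded_17_2 (flp_a L791671) (flp_h L789345) L801580
theorem L801588 : sm gb N61058 = N59951 := ded_10_2 (flp_a L790102) (flp_b L778063) (flp_a L777388) L789339 L801580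
theorem L801590 : sm ga N59877 = N61059 := rfl
theorem L801592 : sm gd N61059 = N59880 := ded_12_2 (flp_a L789379) (flp_d L789349) L801590
theorem L801594 : sm gj N61059 = N59888 := ded_16_2 (flp_a L789471) (flp_j L789351) L801590
theorem L801596 : sm gb N61059 = N59961 := ded_10_2 (flp_a L790205) (flp_b L778144) (flp_a L777398) L789347 L801590
theorem L801598 : sm gb N59878 = N61060 := rfl
theorem L801600 : sm gd N61060 = N59925 := ded_20_2 (flp_b L789858) (flp_d L789367) L801598
theorem L801602 : sm gf N61060 = N59923 := ded_22_2 (flp_b L789840) (flp_f L789357) L801598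
theorem L801604 : sm gg N61060 = N59879 := ded_23_2 (flp_b L789369) (flp_g L789359) L801598
theorem L801606 : sm gj N61060 = N59938 := ded_24_2 (flp_b L789989) (flp_j L789361) L801598
theorem L801608 : sm gh N61060 = N60110 := ded_25_2 (flp_b L791778) (flp_h L789363) L801598
theorem L801610 : sm gi N61060 = N59959 := ded_26_2 (flp_b L790189) (flp_i L789365) L801598
theorem L801612 : sm gc N61060 = N59966 := ded_19_2 (flp_b L790255) (flp_c L778196) (flp_b L777408) L789353 L801598
theorem L801614 : sm ga N59879 = N61061 := rfl
theorem L801616 : sm gc N61061 = N60561 := ded_11_2 (flp_a L795693) (flp_c L789377) L801614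
theorem L801618 : sm gf N61061 = N59880 := ded_14_2 (flp_a L789379) (flp_f L789371) L801614
theorem L801620 : sm gj N61061 = N59891 := ded_16_2 (flp_a L789495) (flp_j L789373) L801614
theorem L801622 : sm gh N61061 = N60113 := ded_17_2 (flp_a L791800) (flp_h L789375) L801614
theorem L801624 : sm gb N61061 = N59963 := ded_10_2 (flp_a L790221) (flp_b L778158) (flp_a L777422) L789369 L801614
theorem L801626 : sm ga N59881 = N61062 := rfl
theorem L801628 : sm gc N61062 = N59888 := ded_11_2 (flp_a L789471) (flp_c L789393) L801626
theorem L801630 : sm gg N61062 = N59963 := ded_15_2 (flp_a L790221) (flp_g L789389) L801626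
theorem L801632 : sm gh N61062 = N60259 := ded_17_2 (flp_a L793207) (flp_h L789391) L801626
theorem L801634 : sm ge N59881 = N61063 := rfl
theorem L801636 : sm gb N61063 = N59882 := ded_21_1 (flp_e L789395) L789387 L801634
theorem L801638 : sm gc N61063 = N59889 := ded_28_1 (flp_e L789479) (flp_c L789393) L801634
theorem L801640 : sm gg N61063 = N59964 := ded_41_2 (flp_e L790231) (flp_g L789389) L801634
theorem L801642 : sm gj N61063 = N60574 := ded_42_2 (flp_e L801487) L801493 L801634
theorem L801644 : sm gh N61063 = N60260 := ded_43_2 (flp_e L793211) (flp_h L789391) L801634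
theorem L801646 : sm gd N59882 = N61064 := rfl
theorem L801648 : sm ga N61064 = N60001 := ded_12_1 (flp_d L796955) L796941 L801646
theorem L801650 : sm gg N61064 = N59890 := ded_36_2 L789491 (flp_g L789399) L801646
theorem L801652 : sm gj N61064 = N60537 := ded_37_2 L795542 (flp_j L789401) L801646
theorem L801654 : sm gi N61064 = N59998 := ded_39_2 (flp_d L801442) L801440 L801646
theorem L801656 : sm gc N61064 = N59884 := ded_27_1 (flp_d L789423) L777460 (flp_d L777452) (flp_c L789397) L801646
theorem L801658 : sm ge N61064 = N59942 := ded_34_2 (flp_d L800886) L800892 L788986 L789395 L801646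
theorem L801660 : sm gf N59939 = N61064 := ded_14_0 L801648 L790578 (flp_a L790001)
theorem L801662 : sm gf N59882 = N61065 := rfl
theorem L801664 : sm ga N61065 = N60537 := ded_14_1 (flp_f L796945) L796941 L801662
theorem L801666 : sm gc N61065 = N59883 := ded_29_1 (flp_f L789405) (flp_c L789397) L801662
theorem L801668 : sm gd N61065 = N59939 := ded_35_1 L801660 (flp_d L801646) L801662
theorem L801670 : sm gj N61065 = N60001 := ded_46_2 L790578 (flp_j L789401) L801662
theorem L801672 : sm gh N61065 = N60262 := ded_47_2 (flp_f L793223) (flp_h L789403) L801662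
theorem L801674 : sm gi N61065 = N59997 := ded_48_2 (flp_f L801444) L801440 L801662
theorem L801676 : sm ge N61065 = N59947 := ded_40_1 (flp_f L800948) L800958 L789178 L789395 L801662
theorem L801678 : sm gg N61065 = N60512 := ded_45_2 (flp_f L795370) (flp_g L788436) L788444 (flp_g L789399) L801662
theorem L801680 : sm ga N59885 = N61066 := rfl
theorem L801682 : sm gd N61066 = N59891 := ded_12_2 (flp_a L789495) (flp_d L789441) L801680
theorem L801684 : sm gf N61066 = N59888 := ded_14_2 (flp_a L789471) (flp_f L789443) L801680
theorem L801686 : sm gb N61066 = N59995 := ded_10_2 (flp_a L790542) (flp_b L778385) (flp_a L777492) L789439 L801680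
theorem L801688 : sm ge N59885 = N61067 := rfl
theorem L801690 : sm gb N61067 = N59886 := ded_21_1 (flp_e L789445) L789439 L801688
theorem L801692 : sm gg N61067 = N60553 := ded_41_2 (flp_e L796669) L796673 L801688
theorem L801694 : sm gi N61067 = N60574 := ded_44_2 (flp_e L801487) L801497 L801688
theorem L801696 : sm gd N59886 = N61068 := rfl
theorem L801698 : sm ga N61068 = N59997 := ded_12_1 (flp_d L790552) (flp_a L789447) L801696
theorem L801700 : sm gg N61068 = N60520 := ded_36_2 L795428 (flp_g L789451) L801696
theorem L801702 : sm gj N61068 = N59998 := ded_37_2 (flp_d L801442) L801438 L801696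
theorem L801704 : sm gi N61068 = N60537 := ded_39_2 L795542 (flp_i L789453) L801696
theorem L801706 : sm gc N61068 = N59894 := ded_27_1 (flp_d L789519) L777558 (flp_d L777506) (flp_c L789449) L801696
theorem L801708 : sm ge N61068 = N59893 := ded_34_2 (flp_d L789509) (flp_e L777536) (flp_d L777496) L789445 L801696
theorem L801710 : sm gf N59960 = N61068 := ded_14_0 L801698 (flp_f L801444) L801432
theorem L801712 : sm gf N59886 = N61069 := rfl
theorem L801714 : sm ga N61069 = N59998 := ded_14_1 (flp_f L790558) (flp_a L789447) L801712
theorem L801716 : sm gc N61069 = N59887 := ded_29_1 (flp_f L789455) (flp_c L789449) L801712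
theorem L801718 : sm gd N61069 = N59960 := ded_35_1 L801710 (flp_d L801696) L801712
theorem L801720 : sm gj N61069 = N59997 := ded_46_2 (flp_f L801444) L801438 L801712
theorem L801722 : sm gi N61069 = N60001 := ded_48_2 L790578 (flp_i L789453) L801712
theorem L801724 : sm ge N61069 = N59890 := ded_40_1 (flp_f L789485) (flp_e L777514) (flp_f L777494) L789445 L801712
theorem L801726 : sm gg N61069 = N59942 := ded_45_2 (flp_f L790025) L777983 L783479 (flp_g L789451) L801712
theorem L801728 : sm ge N59888 = N61070 := rfl
theorem L801730 : sm ga N61070 = N59889 := ded_13_1 (flp_e L789479) L789471 L801728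
theorem L801732 : sm gb N61070 = N59999 := ded_21_1 (flp_e L790564) (flp_b L789477) L801728
theorem L801734 : sm gg N61070 = N60543 := ded_41_2 (flp_e L795584) (flp_g L789475) L801728
theorem L801736 : sm gf N59889 = N61071 := rfl
theorem L801738 : sm gb N61071 = N59890 := ded_22_1 (flp_f L789485) (flp_b L789481) L801736
theorem L801740 : sm gd N61071 = N59964 := ded_35_1 (flp_f L800607) L800605 L801736
theorem L801742 : sm gj N61071 = N60006 := ded_46_2 (flp_f L801100) L801104 L801736
theorem L801744 : sm ge N59891 = N61072 := rfl
theorem L801746 : sm ga N61072 = N59892 := ded_13_1 (flp_e L789503) L789495 L801744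
theorem L801748 : sm gb N61072 = N60005 := ded_21_1 (flp_e L790610) (flp_b L789501) L801744
theorem L801750 : sm gh N61072 = N60128 := ded_43_2 (flp_e L791961) (flp_h L789499) L801744
theorem L801752 : sm gd N59892 = N61073 := rfl
theorem L801754 : sm gb N61073 = N59893 := ded_20_1 (flp_d L789509) (flp_b L789505) L801752
theorem L801756 : sm gf N61073 = N59962 := ded_35_2 (flp_d L800637) L800639 L801752
theorem L801758 : sm gj N61073 = N60000 := ded_37_2 (flp_d L801050) L801052 L801752
theorem L801760 : sm gc N61073 = N60536 := ded_27_1 L795536 (flp_c L795731) (flp_d L801084) L801076 L801752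
theorem L801762 : sm gh N59893 = N61074 := rfl
theorem L801764 : sm ga N61074 = N60007 := ded_17_1 (flp_h L790620) (flp_a L789511) L801762
theorem L801766 : sm gc N61074 = N59895 := ded_32_1 (flp_h L789535) (flp_c L789517) L801762
theorem L801768 : sm gf N61074 = N59958 := ded_47_1 L790187 (flp_f L789513) L801762
theorem L801770 : sm gj N61074 = N59991 := ded_52_1 L790508 (flp_j L789515) L801762
theorem L801772 : sm gd N61074 = N60130 := ded_38_1 (flp_h L791971) (flp_d L779745) (flp_h L777542) L789509 L801762
theorem L801774 : sm gh N59894 = N61075 := rfl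
theorem L801776 : sm ga N61075 = N60008 := ded_17_1 (flp_h L790626) (flp_a L789521) L801774
theorem L801778 : sm gb N61075 = N60525 := ded_25_1 L795466 (flp_b L789523) L801774
theorem L801780 : sm ge N61075 = N59895 := ded_43_1 (flp_h L789535) (flp_e L789533) L801774
theorem L801782 : sm gf N61075 = N59954 := ded_47_1 L790142 (flp_f L789525) L801774
theorem L801784 : sm gg N61075 = N60517 := ded_50_1 L795408 (flp_g L789527) L801774
theorem L801786 : sm gj N61075 = N59984 := ded_52_1 L790450 (flp_j L789529) L801774
theorem L801788 : sm gd N61075 = N61075 := ded_38_1 (flp_h L801774) (flp_d L789519) L777564 L789519 L801774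
theorem L801789 : sm gi N59895 = N61076 := rfl
theorem L801791 : sm ga N61076 = N60009 := ded_18_1 (flp_i L790631) (flp_a L789537) L801789
theorem L801793 : sm gb N61076 = N60528 := ded_26_1 L795490 (flp_b L789539) L801789
theorem L801795 : sm gd N61076 = N59896 := ded_39_1 (flp_i L789547) (flp_d L789545) L801789
theorem L801797 : sm gf N61076 = N59956 := ded_48_1 L790167 (flp_f L789541) L801789
theorem L801799 : sm gj N61076 = N59987 := ded_53_1 L790474 (flp_j L789543) L801789
theorem L801801 : sm gc N59897 = N61077 := rfl
theorem L801803 : sm ga N61077 = N60224 := ded_11_1 (flp_c L792883) (flp_a L789563) L801801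
theorem L801805 : sm gf N61077 = N60105 := ded_29_2 (flp_c L791718) (flp_f L789567) L801801
theorem L801807 : sm gg N61077 = N60096 := ded_30_2 (flp_c L791614) (flp_g L789569) L801801
theorem L801809 : sm gj N61077 = N59908 := ded_31_2 (flp_c L789689) (flp_j L789571) L801801
theorem L801811 : sm gh N61077 = N59899 := ded_32_2 (flp_c L789593) (flp_h L789575) L801801
theorem L801813 : sm gi N61077 = N60267 := ded_33_2 (flp_c L793255) (flp_i L789573) L801801
theorem L801815 : sm gd N61077 = N59921 := ded_27_2 (flp_c L789815) (flp_d L777815) (flp_c L777615) L789561 L801801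
theorem L801817 : sm gc N59898 = N61078 := rfl
theorem L801819 : sm ga N61078 = N60241 := ded_11_1 (flp_c L793040) (flp_a L789579) L801817
theorem L801821 : sm gf N61078 = N59899 := ded_29_2 (flp_c L789593) (flp_f L789583) L801817
theorem L801823 : sm gg N61078 = N60102 := ded_30_2 (flp_c L791679) (flp_g L789585) L801817
theorem L801825 : sm gj N61078 = N59910 := ded_31_2 (flp_c L789704) (flp_j L789587) L801817
theorem L801827 : sm gh N61078 = N60105 := ded_32_2 (flp_c L791718) (flp_h L789591) L801817
theorem L801829 : sm gi N61078 = N60138 := ded_33_2 (flp_c L792045) (flp_i L789589) L801817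
theorem L801831 : sm gd N61078 = N59900 := ded_27_2 (flp_c L789605) (flp_d L777653) (flp_c L777632) L789577 L801817
theorem L801833 : sm ge N59898 = N61079 := rfl
theorem L801835 : sm ga N61079 = N60242 := ded_13_1 (flp_e L793050) (flp_a L789579) L801833
theorem L801837 : sm gb N61079 = N60645 := ded_21_1 (flp_e L796227) (flp_b L789581) L801833
theorem L801839 : sm gg N61079 = N60103 := ded_41_2 (flp_e L791691) (flp_g L789585) L801833
theorem L801841 : sm gj N61079 = N59911 := ded_42_2 (flp_e L789714) (flp_j L789587) L801833
theorem L801843 : sm gh N61079 = N60106 := ded_43_2 (flp_e L791728) (flp_h L789591) L801833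
theorem L801845 : sm gi N61079 = N60139 := ded_44_2 (flp_e L792059) (flp_i L789589) L801833
theorem L801847 : sm gd N61079 = N61079 := ded_34_1 (flp_e L801833) (flp_d L789577) L777634 L789577 L801833
theorem L801848 : sm gb N59899 = N61080 := rfl
theorem L801850 : sm gd N61080 = N59902 := ded_20_2 (flp_b L789626) (flp_d L789603) L801848
theorem L801852 : sm gg N61080 = N60500 := ded_23_2 (flp_b L795282) (flp_g L789597) L801848
theorem L801854 : sm gj N61080 = N59912 := ded_24_2 (flp_b L789721) (flp_j L789599) L801848
theorem L801856 : sm gi N61080 = N60140 := ded_26_2 (flp_b L792072) (flp_i L789601) L801848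
theorem L801858 : sm gb N59900 = N61081 := rfl
theorem L801860 : sm gf N61081 = N59902 := ded_22_2 (flp_b L789626) (flp_f L789607) L801858
theorem L801862 : sm gj N61081 = N59916 := ded_24_2 (flp_b L789753) (flp_j L789609) L801858
theorem L801864 : sm gh N61081 = N59925 := ded_25_2 (flp_b L789858) (flp_h L789611) L801858
theorem L801866 : sm gi N61081 = N60143 := ded_26_2 (flp_b L792097) (flp_i L789613) L801858
theorem L801868 : sm gc N61081 = N60538 := ded_19_2 (flp_b L795544) (flp_c L783363) (flp_b L777655) L789605 L801858
theorem L801870 : sm ge N59900 = N61082 := rfl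
theorem L801872 : sm gc N61082 = N59901 := ded_28_1 (flp_e L789615) L789605 L801870
theorem L801874 : sm gj N61082 = N59917 := ded_42_2 (flp_e L789765) (flp_j L789609) L801870
theorem L801876 : sm gh N61082 = N59926 := ded_43_2 (flp_e L789868) (flp_h L789611) L801870
theorem L801878 : sm gi N61082 = N60144 := ded_44_2 (flp_e L792105) (flp_i L789613) L801870
theorem L801880 : sm ga N59902 = N61083 := rfl
theorem L801882 : sm gc N61083 = N60678 := ded_11_2 (flp_a L796455) (flp_c L789636) L801880
theorem L801884 : sm gg N61083 = N60506 := ded_15_2 (flp_a L795314) (flp_g L789628) L801880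
theorem L801886 : sm gj N61083 = N59918 := ded_16_2 (flp_a L789775) (flp_j L789630) L801880
theorem L801888 : sm gh N61083 = N59927 := ded_17_2 (flp_a L789876) (flp_h L789632) L801880
theorem L801890 : sm gi N61083 = N60145 := ded_18_2 (flp_a L792113) (flp_i L789634) L801880
theorem L801892 : sm gb N59903 = N61084 := rfl
theorem L801894 : sm gd N61084 = N60392 := ded_20_2 (flp_b L794439) (flp_d L789644) L801892
theorem L801896 : sm gg N61084 = N60455 := ded_23_2 (flp_b L794946) (flp_g L789640) L801892
theorem L801898 : sm gi N61084 = N60153 := ded_26_2 (flp_b L792201) (flp_i L789642) L801892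
theorem L801900 : sm gc N61084 = N59912 := ded_19_2 (flp_b L789721) (flp_c L777733) (flp_b L777677) L789638 L801892
theorem L801902 : sm ge N59903 = N61085 := rfl
theorem L801904 : sm gc N61085 = N59904 := ded_28_1 (flp_e L789646) L789638 L801902
theorem L801906 : sm gg N61085 = N60456 := ded_41_2 (flp_e L794958) (flp_g L789640) L801902
theorem L801908 : sm gi N61085 = N60154 := ded_44_2 (flp_e L792207) (flp_i L789642) L801902
theorem L801910 : sm gf N59904 = N61086 := rfl
theorem L801912 : sm gb N61086 = N59914 := ded_22_1 (flp_f L789737) (flp_b L789648) L801910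
theorem L801914 : sm gd N61086 = N59906 := ded_35_1 (flp_f L789665) (flp_d L789654) L801910
theorem L801916 : sm gi N61086 = N60155 := ded_48_2 (flp_f L792213) (flp_i L789652) L801910
theorem L801918 : sm gd N59905 = N61087 := rfl
theorem L801920 : sm gg N61087 = N60297 := ded_36_2 L793509 (flp_g L789660) L801918
theorem L801922 : sm gi N61087 = N60156 := ded_39_2 (flp_d L792221) (flp_i L789663) L801918
theorem L801924 : sm ge N61087 = N60408 := ded_34_2 (flp_d L794572) (flp_e L782364) (flp_d L777691) L789656 L801918
theorem L801926 : sm gf N59905 = N61088 := rfl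
theorem L801928 : sm gb N61088 = N60335 := ded_22_1 L797564 L797553 L801926
theorem L801930 : sm gc N61088 = N59906 := ded_29_1 (flp_f L789665) (flp_c L789658) L801926
theorem L801932 : sm gj N61088 = N60507 := ded_46_2 (flp_f L797333) L797335 L801926
theorem L801934 : sm gh N61088 = N61088 := ded_47_2 (flp_f L801926) L789662 L801926
theorem L801935 : sm gi N61088 = N60157 := ded_48_2 (flp_f L792225) (flp_i L789663) L801926
theorem L801937 : sm ge N61088 = N61088 := ded_40_1 (flp_f L801926) (flp_e L789656) L777685 L789656 L801926
theorem L801938 : sm gg N61088 = N60316 := ded_45_2 (flp_f L793647) L781235 L781342 (flp_g L789660) L801926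
theorem L801940 : sm gg N59906 = N61089 := rfl
theorem L801942 : sm gb N61089 = N59915 := ded_23_1 (flp_g L789743) (flp_b L789667) L801940
theorem L801944 : sm gc N61089 = N60316 := ded_30_1 (flp_g L801938) L801930 L801940
theorem L801946 : sm ge N61089 = N61089 := ded_41_1 (flp_g L801940) L789672 L801940
theorem L801947 : sm gh N61089 = N61089 := ded_50_2 (flp_g L801940) L789669 L801940
theorem L801948 : sm gi N61089 = N60158 := ded_51_2 (flp_g L792238) (flp_i L789670) L801940
theorem L801950 : sm gf N61089 = N60213 := ded_45_1 L792766 L780526 (flp_g L777697) L789665 L801940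
theorem L801952 : sm gj N61089 = N60318 := ded_49_2 L793673 (flp_j L786153) (flp_g L798254) L798256 L801940
theorem L801954 : sm gc N59907 = N61090 := rfl
theorem L801956 : sm ga N61090 = N60422 := ded_11_1 (flp_c L794693) (flp_a L789675) L801954
theorem L801958 : sm gf N61090 = N60369 := ded_29_2 (flp_c L794214) (flp_f L789679) L801954
theorem L801960 : sm gg N61090 = N60459 := ded_30_2 (flp_c L794984) (flp_g L789681) L801954
theorem L801962 : sm gj N61090 = N60267 := ded_31_2 (flp_c L793255) (flp_j L789683) L801954
theorem L801964 : sm gh N61090 = N60161 := ded_32_2 (flp_c L792279) (flp_h L789687) L801954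
theorem L801966 : sm gi N61090 = N59908 := ded_33_2 (flp_c L789689) (flp_i L789685) L801954
theorem L801968 : sm gd N61090 = N59933 := ded_27_2 (flp_c L789953) (flp_d L777930) (flp_c L777708) L789673 L801954
theorem L801970 : sm gb N59908 = N61091 := rfl
theorem L801972 : sm gd N61091 = N59935 := ded_20_2 (flp_b L789970) (flp_d L789695) L801970
theorem L801974 : sm gg N61091 = N60461 := ded_23_2 (flp_b L795005) (flp_g L789691) L801970
theorem L801976 : sm gh N61091 = N59912 := ded_25_2 (flp_b L789721) (flp_h L789693) L801970
theorem L801978 : sm ge N59908 = N61092 := rfl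
theorem L801980 : sm gc N61092 = N59909 := ded_28_1 (flp_e L789697) L789689 L801978
theorem L801982 : sm gg N61092 = N60462 := ded_41_2 (flp_e L795015) (flp_g L789691) L801978
theorem L801984 : sm gh N61092 = N59913 := ded_43_2 (flp_e L789729) (flp_h L789693) L801978
theorem L801986 : sm gf N59909 = N61093 := rfl
theorem L801988 : sm gd N61093 = N61093 := ded_35_1 (flp_f L801986) L789703 L801986
theorem L801989 : sm gh N61093 = N59914 := ded_47_2 (flp_f L789737) (flp_h L789701) L801986
theorem L801991 : sm gb N59910 = N61094 := rfl
theorem L801993 : sm gd N61094 = N59916 := ded_20_2 (flp_b L789753) (flp_d L789712) L801991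
theorem L801995 : sm gf N61094 = N59912 := ded_22_2 (flp_b L789721) (flp_f L789706) L801991
theorem L801997 : sm gg N61094 = N60446 := ded_23_2 (flp_b L794896) (flp_g L789708) L801991
theorem L801999 : sm gi N61094 = N60165 := ded_26_2 (flp_b L792320) (flp_i L789710) L801991
theorem L802001 : sm ge N59910 = N61095 := rfl
theorem L802003 : sm gc N61095 = N59911 := ded_28_1 (flp_e L789714) L789704 L802001
theorem L802005 : sm gg N61095 = N60447 := ded_41_2 (flp_e L794902) (flp_g L789708) L802001
theorem L802007 : sm gi N61095 = N60166 := ded_44_2 (flp_e L792326) (flp_i L789710) L802001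
theorem L802009 : sm gf N59911 = N61096 := rfl
theorem L802011 : sm gd N61096 = N61096 := ded_35_1 (flp_f L802009) L789720 L802009
theorem L802012 : sm gi N61096 = N60167 := ded_48_2 (flp_f L792330) (flp_i L789718) L802009
theorem L802014 : sm ge N61096 = N59914 := ded_40_1 (flp_f L789737) (flp_e L777741) (flp_f L777727) L789714 L802009
theorem L802016 : sm ga N59912 = N61097 := rfl
theorem L802018 : sm gd N61097 = N59918 := ded_12_2 (flp_a L789775) (flp_d L789723) L802016
theorem L802020 : sm gg N61097 = N60470 := ded_15_2 (flp_a L795073) (flp_g L789725) L802016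
theorem L802022 : sm gi N61097 = N60168 := ded_18_2 (flp_a L792335) (flp_i L789727) L802016
theorem L802024 : sm ge N59912 = N61098 := rfl
theorem L802026 : sm gb N61098 = N59913 := ded_21_1 (flp_e L789729) L789721 L802024
theorem L802028 : sm gg N61098 = N60471 := ded_41_2 (flp_e L795083) (flp_g L789725) L802024
theorem L802030 : sm gi N61098 = N60169 := ded_44_2 (flp_e L792341) (flp_i L789727) L802024
theorem L802032 : sm gf N59913 = N61099 := rfl
theorem L802034 : sm gc N61099 = N59914 := ded_29_1 (flp_f L789737) (flp_c L789731) L802032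
theorem L802036 : sm gi N61099 = N60170 := ded_48_2 (flp_f L792347) (flp_i L789735) L802032
theorem L802038 : sm gg N59914 = N61100 := rfl
theorem L802040 : sm gd N61100 = N59915 := ded_36_1 (flp_g L789743) (flp_d L789739) L802038
theorem L802042 : sm gi N61100 = N60171 := ded_51_2 (flp_g L792351) (flp_i L789741) L802038
theorem L802044 : sm gf N61100 = N60214 := ded_45_1 L792775 L780530 (flp_g L777743) L789737 L802038
theorem L802046 : sm gj N59915 = N61101 := rfl
theorem L802048 : sm ga N61101 = N60335 := ded_16_1 (flp_j L801350) L801338 L802046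
theorem L802050 : sm gb N61101 = N60318 := ded_24_1 (flp_j L801952) L801942 L802046
theorem L802052 : sm gc N61101 = N60012 := ded_31_1 L790675 (flp_c L789745) L802046
theorem L802054 : sm ge N61101 = N61101 := ded_42_1 (flp_j L802046) L789747 L802046
theorem L802055 : sm gf N61101 = N60212 := ded_46_1 L792755 (flp_f L789751) L802046
theorem L802057 : sm gh N61101 = N61101 := ded_52_2 (flp_j L802046) L789748 L802046
theorem L802058 : sm gi N61101 = N60011 := ded_53_2 L790664 (flp_i L789749) L802046
theorem L802060 : sm gg N61101 = N60014 := ded_49_1 L790698 (flp_g L786123) L786125 L789743 L802046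
theorem L802062 : sm ga N59916 = N61102 := rfl
theorem L802064 : sm gc N61102 = N60664 := ded_11_2 (flp_a L796353) (flp_c L789763) L802062
theorem L802066 : sm gf N61102 = N59918 := ded_14_2 (flp_a L789775) (flp_f L789755) L802062
theorem L802068 : sm gg N61102 = N60452 := ded_15_2 (flp_a L794931) (flp_g L789757) L802062
theorem L802070 : sm gh N61102 = N59945 := ded_17_2 (flp_a L790057) (flp_h L789759) L802062
theorem L802072 : sm gi N61102 = N60174 := ded_18_2 (flp_a L792379) (flp_i L789761) L802062
theorem L802074 : sm ge N59916 = N61103 := rfl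
theorem L802076 : sm gb N61103 = N59917 := ded_21_1 (flp_e L789765) L789753 L802074
theorem L802078 : sm gc N61103 = N60665 := ded_28_1 (flp_e L796359) (flp_c L789763) L802074
theorem L802080 : sm gg N61103 = N60453 := ded_41_2 (flp_e L794937) (flp_g L789757) L802074
theorem L802082 : sm gh N61103 = N59946 := ded_43_2 (flp_e L790063) (flp_h L789759) L802074
theorem L802084 : sm gi N61103 = N60175 := ded_44_2 (flp_e L792385) (flp_i L789761) L802074
theorem L802086 : sm gd N59917 = N61104 := rfl
theorem L802088 : sm gg N61104 = N60454 := ded_36_2 (flp_d L794943) (flp_g L789769) L802086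
theorem L802090 : sm gi N61104 = N60176 := ded_39_2 (flp_d L792391) (flp_i L789773) L802086
theorem L802092 : sm gc N61104 = N61104 := ded_27_1 (flp_d L802086) L789767 L777775 (flp_c L789767) L802086
theorem L802093 : sm ga N59919 = N61105 := rfl
theorem L802095 : sm gc N61105 = N60572 := ded_11_2 L795759 (flp_c L789797) L802093
theorem L802097 : sm ge N61105 = N60565 := ded_13_2 (flp_a L795715) (flp_e L789787) L802093
theorem L802099 : sm gg N61105 = N59927 := ded_15_2 (flp_a L789876) (flp_g L789789) L802093
theorem L802101 : sm gj N61105 = N60355 := ded_16_2 (flp_a L794072) (flp_j L789791) L802093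
theorem L802103 : sm gh N61105 = N60506 := ded_17_2 (flp_a L795314) (flp_h L789793) L802093
theorem L802105 : sm gi N61105 = N59951 := ded_18_2 (flp_a L790102) (flp_i L789795) L802093
theorem L802107 : sm gc N59920 = N61106 := rfl
theorem L802109 : sm ga N61106 = N60178 := ded_11_1 (flp_c L792408) (flp_a L789801) L802107
theorem L802111 : sm gf N61106 = N60084 := ded_29_2 (flp_c L791488) (flp_f L789805) L802107
theorem L802113 : sm gg N61106 = N60081 := ded_30_2 (flp_c L791443) (flp_g L789807) L802107
theorem L802115 : sm gj N61106 = N59933 := ded_31_2 (flp_c L789953) (flp_j L789809) L802107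
theorem L802117 : sm gh N61106 = N59955 := ded_32_2 (flp_c L790145) (flp_h L789813) L802107
theorem L802119 : sm gi N61106 = N59921 := ded_33_2 (flp_c L789815) (flp_i L789811) L802107
theorem L802121 : sm gd N61106 = N60267 := ded_27_2 (flp_c L793255) (flp_d L780901) (flp_c L777804) L789799 L802107
theorem L802123 : sm ge N59920 = N61107 := rfl
theorem L802125 : sm ga N61107 = N60179 := ded_13_1 (flp_e L792420) (flp_a L789801) L802123
theorem L802127 : sm gb N61107 = N60514 := ded_21_1 (flp_e L795386) (flp_b L789803) L802123
theorem L802129 : sm gg N61107 = N60082 := ded_41_2 (flp_e L791457) (flp_g L789807) L802123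
theorem L802131 : sm gj N61107 = N59934 := ded_42_2 (flp_e L789961) (flp_j L789809) L802123
theorem L802133 : sm gh N61107 = N59956 := ded_43_2 (flp_e L790157) (flp_h L789813) L802123
theorem L802135 : sm gi N61107 = N59922 := ded_44_2 (flp_e L789827) (flp_i L789811) L802123
theorem L802137 : sm gd N61107 = N61107 := ded_34_1 (flp_e L802123) (flp_d L789799) L777806 L789799 L802123
theorem L802138 : sm gb N59921 = N61108 := rfl
theorem L802140 : sm gf N61108 = N60110 := ded_22_2 (flp_b L791778) (flp_f L789819) L802138
theorem L802142 : sm gg N61108 = N60099 := ded_23_2 (flp_b L791657) (flp_g L789821) L802138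
theorem L802144 : sm gj N61108 = N59935 := ded_24_2 (flp_b L789970) (flp_j L789823) L802138
theorem L802146 : sm gh N61108 = N59923 := ded_25_2 (flp_b L789840) (flp_h L789825) L802138
theorem L802148 : sm gc N61108 = N60515 := ded_19_2 (flp_b L795395) (flp_c L783215) (flp_b L777819) L789815 L802138
theorem L802150 : sm ge N59921 = N61109 := rfl
theorem L802152 : sm ga N61109 = N60233 := ded_13_1 (flp_e L792983) (flp_a L789817) L802150
theorem L802154 : sm gc N61109 = N59922 := ded_28_1 (flp_e L789827) L789815 L802150
theorem L802156 : sm gg N61109 = N60100 := ded_41_2 (flp_e L791663) (flp_g L789821) L802150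
theorem L802158 : sm gj N61109 = N59936 := ded_42_2 (flp_e L789976) (flp_j L789823) L802150
theorem L802160 : sm gh N61109 = N59924 := ded_43_2 (flp_e L789850) (flp_h L789825) L802150
theorem L802162 : sm ga N59923 = N61110 := rfl
theorem L802164 : sm gc N61110 = N60518 := ded_11_2 (flp_a L795410) (flp_c L789848) L802162
theorem L802166 : sm gd N61110 = N59927 := ded_12_2 (flp_a L789876) (flp_d L789842) L802162
theorem L802168 : sm gj N61110 = N59940 := ded_16_2 (flp_a L790009) (flp_j L789844) L802162
theorem L802170 : sm gi N61110 = N59961 := ded_18_2 (flp_a L790205) (flp_i L789846) L802162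
theorem L802172 : sm ge N59923 = N61111 := rfl
theorem L802174 : sm gb N61111 = N59924 := ded_21_1 (flp_e L789850) L789840 L802172
theorem L802176 : sm gc N61111 = N60519 := ded_28_1 (flp_e L795416) (flp_c L789848) L802172
theorem L802178 : sm gj N61111 = N59941 := ded_42_2 (flp_e L790017) (flp_j L789844) L802172
theorem L802180 : sm gi N61111 = N59962 := ded_44_2 (flp_e L790213) (flp_i L789846) L802172
theorem L802182 : sm ga N59925 = N61112 := rfl
theorem L802184 : sm gc N61112 = N60540 := ded_11_2 (flp_a L795562) (flp_c L789866) L802182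
theorem L802186 : sm gf N61112 = N59927 := ded_14_2 (flp_a L789876) (flp_f L789860) L802182
theorem L802188 : sm gj N61112 = N59945 := ded_16_2 (flp_a L790057) (flp_j L789862) L802182
theorem L802190 : sm gi N61112 = N59963 := ded_18_2 (flp_a L790221) (flp_i L789864) L802182
theorem L802192 : sm ge N59925 = N61113 := rfl
theorem L802194 : sm gb N61113 = N59926 := ded_21_1 (flp_e L789868) L789858 L802192
theorem L802196 : sm gc N61113 = N60541 := ded_28_1 (flp_e L795570) (flp_c L789866) L802192
theorem L802198 : sm gj N61113 = N59946 := ded_42_2 (flp_e L790063) (flp_j L789862) L802192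
theorem L802200 : sm gi N61113 = N59964 := ded_44_2 (flp_e L790231) (flp_i L789864) L802192
theorem L802202 : sm gb N59928 = N61114 := rfl
theorem L802204 : sm gd N61114 = N60030 := ded_20_2 (flp_b L790871) (flp_d L789894) L802202
theorem L802206 : sm gf N61114 = N60027 := ded_22_2 (flp_b L790841) (flp_f L789886) L802202
theorem L802208 : sm gg N61114 = N60042 := ded_23_2 (flp_b L791010) (flp_g L789888) L802202
theorem L802210 : sm gj N61114 = N60515 := ded_24_2 (flp_b L795395) (flp_j L789890) L802202
theorem L802212 : sm gh N61114 = N59930 := ded_25_2 (flp_b L789909) (flp_h L789892) L802202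
theorem L802214 : sm gc N61114 = N59935 := ded_19_2 (flp_b L789970) (flp_c L777938) (flp_b L777875) L789882 L802202
theorem L802216 : sm ge N59928 = N61115 := rfl
theorem L802218 : sm ga N61115 = N60524 := ded_13_1 (flp_e L795457) (flp_a L789884) L802216
theorem L802220 : sm gc N61115 = N59929 := ded_28_1 (flp_e L789896) L789882 L802216
theorem L802222 : sm gg N61115 = N60043 := ded_41_2 (flp_e L791020) (flp_g L789888) L802216
theorem L802224 : sm gj N61115 = N60516 := ded_42_2 (flp_e L795399) (flp_j L789890) L802216
theorem L802226 : sm gh N61115 = N59931 := ded_43_2 (flp_e L789923) (flp_h L789892) L802216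
theorem L802228 : sm gf N59929 = N61116 := rfl
theorem L802230 : sm ga N61116 = N60525 := ded_14_1 (flp_f L795463) (flp_a L789898) L802228
theorem L802232 : sm gb N61116 = N59937 := ded_22_1 (flp_f L789984) (flp_b L789900) L802228
theorem L802234 : sm gd N61116 = N61116 := ded_35_1 (flp_f L802228) L789908 L802228
theorem L802235 : sm gj N61116 = N60517 := ded_46_2 (flp_f L795405) (flp_j L789904) L802228
theorem L802237 : sm gh N61116 = N59932 := ded_47_2 (flp_f L789937) (flp_h L789906) L802228
theorem L802239 : sm ge N61116 = N60029 := ded_40_1 (flp_f L790861) (flp_e L778748) (flp_f L777877) L789896 L802228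
theorem L802241 : sm gg N61116 = N59948 := ded_45_2 L790079 L780679 (flp_f L778921) (flp_g L789902) L802228
theorem L802243 : sm ga N59930 = N61117 := rfl
theorem L802245 : sm gc N61117 = N59940 := ded_11_2 (flp_a L790009) (flp_c L789921) L802243
theorem L802247 : sm gd N61117 = N60341 := ded_12_2 (flp_a L793894) (flp_d L789911) L802243
theorem L802249 : sm gf N61117 = N60510 := ded_14_2 (flp_a L795358) (flp_f L789913) L802243
theorem L802251 : sm gg N61117 = N60545 := ded_15_2 (flp_a L795594) (flp_g L789915) L802243
theorem L802253 : sm gj N61117 = N60518 := ded_16_2 (flp_a L795410) (flp_j L789917) L802243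
theorem L802255 : sm gi N61117 = N59977 := ded_18_2 (flp_a L790388) (flp_i L789919) L802243
theorem L802257 : sm gb N61117 = N60532 := ded_10_2 (flp_a L795510) (flp_b L783313) (flp_a L777887) L789909 L802243
theorem L802259 : sm ge N59930 = N61118 := rfl
theorem L802261 : sm gb N61118 = N59931 := ded_21_1 (flp_e L789923) L789909 L802259
theorem L802263 : sm gc N61118 = N59941 := ded_28_1 (flp_e L790017) (flp_c L789921) L802259
theorem L802265 : sm gg N61118 = N60546 := ded_41_2 (flp_e L795600) (flp_g L789915) L802259
theorem L802267 : sm gj N61118 = N60519 := ded_42_2 (flp_e L795416) (flp_j L789917) L802259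
theorem L802269 : sm gi N61118 = N59978 := ded_44_2 (flp_e L790398) (flp_i L789919) L802259
theorem L802271 : sm gd N61118 = N60354 := ded_34_1 (flp_e L794064) L781783 (flp_e L781596) (flp_d L789911) L802259
theorem L802273 : sm gf N59931 = N61119 := rfl
theorem L802275 : sm ga N61119 = N60534 := ded_14_1 (flp_f L795520) (flp_a L789925) L802273
theorem L802277 : sm gc N61119 = N59932 := ded_29_1 (flp_f L789937) (flp_c L789927) L802273
theorem L802279 : sm gd N61119 = N59944 := ded_35_1 L790055 (flp_d L789935) L802273
theorem L802281 : sm gj N61119 = N60520 := ded_46_2 (flp_f L795424) (flp_j L789931) L802273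
theorem L802283 : sm gi N61119 = N59979 := ded_48_2 (flp_f L790410) (flp_i L789933) L802273
theorem L802285 : sm ge N61119 = N60512 := ded_40_1 (flp_f L795370) (flp_e L783185) (flp_f L777889) L789923 L802273
theorem L802287 : sm gg N61119 = N59947 := ded_45_2 (flp_f L800948) L800950 L790100 (flp_g L789929) L802273
theorem L802289 : sm gb N59933 = N61120 := rfl
theorem L802291 : sm gg N61120 = N60547 := ded_23_2 (flp_b L795608) (flp_g L789955) L802289
theorem L802293 : sm gh N61120 = N59985 := ded_25_2 (flp_b L790454) (flp_h L789957) L802289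
theorem L802295 : sm gi N61120 = N59935 := ded_26_2 (flp_b L789970) (flp_i L789959) L802289
theorem L802297 : sm ge N59933 = N61121 := rfl
theorem L802299 : sm gc N61121 = N59934 := ded_28_1 (flp_e L789961) L789953 L802297
theorem L802301 : sm gg N61121 = N60548 := ded_41_2 (flp_e L795614) (flp_g L789955) L802297
theorem L802303 : sm gh N61121 = N59986 := ded_43_2 (flp_e L790462) (flp_h L789957) L802297
theorem L802305 : sm gi N61121 = N59936 := ded_44_2 (flp_e L789976) (flp_i L789959) L802297
theorem L802307 : sm gf N59934 = N61122 := rfl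
theorem L802309 : sm gd N61122 = N61122 := ded_35_1 (flp_f L802307) L789969 L802307
theorem L802310 : sm gh N61122 = N59987 := ded_47_2 (flp_f L790470) (flp_h L789965) L802307
theorem L802312 : sm gi N61122 = N59937 := ded_48_2 (flp_f L789984) (flp_i L789967) L802307
theorem L802314 : sm ga N59935 = N61123 := rfl
theorem L802316 : sm gg N61123 = N60549 := ded_15_2 (flp_a L795622) (flp_g L789972) L802314
theorem L802318 : sm gh N61123 = N59940 := ded_17_2 (flp_a L790009) (flp_h L789974) L802314
theorem L802320 : sm ge N59935 = N61124 := rfl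
theorem L802322 : sm gb N61124 = N59936 := ded_21_1 (flp_e L789976) L789970 L802320
theorem L802324 : sm gg N61124 = N60550 := ded_41_2 (flp_e L795626) (flp_g L789972) L802320
theorem L802326 : sm gh N61124 = N59941 := ded_43_2 (flp_e L790017) (flp_h L789974) L802320
theorem L802328 : sm gd N59936 = N61125 := rfl
theorem L802330 : sm gg N61125 = N60551 := ded_36_2 (flp_d L795632) (flp_g L789980) L802328
theorem L802332 : sm gc N61125 = N61125 := ded_27_1 (flp_d L802328) L789978 L777950 (flp_c L789978) L802328
theorem L802333 : sm gf N59936 = N61126 := rfl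
theorem L802335 : sm gc N61126 = N59937 := ded_29_1 (flp_f L789984) (flp_c L789978) L802333
theorem L802337 : sm gh N61126 = N59942 := ded_47_2 (flp_f L790025) (flp_h L789982) L802333
theorem L802339 : sm ga N59938 = N61127 := rfl
theorem L802341 : sm gc N61127 = N60510 := ded_11_2 (flp_a L795358) (flp_c L789997) L802339
theorem L802343 : sm gd N61127 = N59945 := ded_12_2 (flp_a L790057) (flp_d L789991) L802339
theorem L802345 : sm gf N61127 = N59940 := ded_14_2 (flp_a L790009) (flp_f L789993) L802339
theorem L802347 : sm gi N61127 = N59995 := ded_18_2 (flp_a L790542) (flp_i L789995) L802339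
theorem L802349 : sm ge N59938 = N61128 := rfl
theorem L802351 : sm gb N61128 = N59939 := ded_21_1 (flp_e L789999) L789989 L802349
theorem L802353 : sm gc N61128 = N60511 := ded_28_1 (flp_e L795364) (flp_c L789997) L802349
theorem L802355 : sm gg N61128 = N60544 := ded_41_2 (flp_e L796633) L796637 L802349
theorem L802357 : sm gi N61128 = N59996 := ded_44_2 (flp_e L790548) (flp_i L789995) L802349
theorem L802359 : sm ge N59940 = N61129 := rfl
theorem L802361 : sm ga N61129 = N59941 := ded_13_1 (flp_e L790017) L790009 L802359
theorem L802363 : sm gg N61129 = N60552 := ded_41_2 (flp_e L795635) (flp_g L790013) L802359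
theorem L802365 : sm gi N61129 = N59999 := ded_44_2 (flp_e L790564) (flp_i L790015) L802359
theorem L802367 : sm gf N59941 = N61130 := rfl
theorem L802369 : sm gb N61130 = N59942 := ded_22_1 (flp_f L790025) (flp_b L790019) L802367
theorem L802371 : sm gi N61130 = N60000 := ded_48_2 (flp_f L790570) (flp_i L790023) L802367
theorem L802373 : sm ga N59943 = N61131 := rfl
theorem L802375 : sm gc N61131 = N60556 := ded_11_2 (flp_a L795661) (flp_c L790041) L802373
theorem L802377 : sm gf N61131 = N60343 := ded_14_2 (flp_a L793926) (flp_f L790033) L802373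
theorem L802379 : sm gg N61131 = N59945 := ded_15_2 (flp_a L790057) (flp_g L790035) L802373
theorem L802381 : sm gh N61131 = N60452 := ded_17_2 (flp_a L794931) (flp_h L790037) L802373
theorem L802383 : sm gi N61131 = N60003 := ded_18_2 (flp_a L790590) (flp_i L790039) L802373
theorem L802385 : sm ge N59943 = N61132 := rfl
theorem L802387 : sm gb N61132 = N59944 := ded_21_1 (flp_e L790043) L790031 L802385
theorem L802389 : sm gc N61132 = N60557 := ded_28_1 (flp_e L795667) (flp_c L790041) L802385
theorem L802391 : sm gg N61132 = N59946 := ded_41_2 (flp_e L790063) (flp_g L790035) L802385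
theorem L802393 : sm gj N61132 = N60553 := ded_42_2 (flp_e L796669) L796675 L802385
theorem L802395 : sm gh N61132 = N60453 := ded_43_2 (flp_e L794937) (flp_h L790037) L802385
theorem L802397 : sm gi N61132 = N60004 := ded_44_2 (flp_e L790598) (flp_i L790039) L802385
theorem L802399 : sm gf N61132 = N60354 := ded_40_2 (flp_e L794064) L781785 (flp_e L781644) (flp_f L790033) L802385
theorem L802401 : sm ge N59945 = N61133 := rfl
theorem L802403 : sm ga N61133 = N59946 := ded_13_1 (flp_e L790063) L790057 L802401
theorem L802405 : sm gi N61133 = N60005 := ded_44_2 (flp_e L790610) (flp_i L790061) L802401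
theorem L802407 : sm gd N59946 = N61134 := rfl
theorem L802409 : sm gb N61134 = N59947 := ded_20_1 (flp_d L790069) (flp_b L790065) L802407
theorem L802411 : sm gi N61134 = N60006 := ded_39_2 (flp_d L790616) (flp_i L790067) L802407
theorem L802413 : sm gh N59947 = N61135 := rfl
theorem L802415 : sm gc N61135 = N59948 := ded_32_1 (flp_h L790075) (flp_c L790073) L802413
theorem L802417 : sm ge N61135 = N60262 := ded_43_1 (flp_h L801672) L801676 L802413
theorem L802419 : sm gf N61135 = N60233 := ded_47_1 L800960 L800948 L802413
theorem L802421 : sm gi N59948 = N61136 := rfl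
theorem L802423 : sm gd N61136 = N61136 := ded_39_1 (flp_i L802421) L790081 L802421
theorem L802424 : sm ge N61136 = N60191 := ded_44_1 L792547 (flp_e L790077) L802421
theorem L802426 : sm gf N61136 = N60179 := ded_48_1 L792426 (flp_f L790079) L802421
theorem L802428 : sm gh N61136 = N60009 := ded_54_1 (flp_i L790631) (flp_h L778492) (flp_i L778039) L790075 L802421
theorem L802430 : sm ga N59949 = N61137 := rfl
theorem L802432 : sm gf N61137 = N59951 := ded_14_2 (flp_a L790102) (flp_f L790084) L802430
theorem L802434 : sm gj N61137 = N60556 := ded_16_2 (flp_a L795661) (flp_j L790086) L802430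
theorem L802436 : sm gh N61137 = N60234 := ded_17_2 (flp_a L792989) (flp_h L790088) L802430
theorem L802438 : sm ge N59949 = N61138 := rfl
theorem L802440 : sm gb N61138 = N59950 := ded_21_1 (flp_e L790090) L790082 L802438
theorem L802442 : sm gc N61138 = N60553 := ded_28_1 (flp_e L796669) L796681 L802438
theorem L802444 : sm gj N61138 = N60557 := ded_42_2 (flp_e L795667) (flp_j L790086) L802438
theorem L802446 : sm gh N61138 = N60235 := ded_43_2 (flp_e L792995) (flp_h L790088) L802438
theorem L802448 : sm gi N61138 = N60567 := ded_44_2 (flp_e L796853) L796863 L802438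
theorem L802450 : sm gf N61138 = N60546 := ded_40_2 (flp_e L795600) (flp_f L788774) L788772 (flp_f L790084) L802438
theorem L802452 : sm gc N59952 = N61139 := rfl
theorem L802454 : sm ga N61139 = N60141 := ded_11_1 (flp_c L792080) (flp_a L790112) L802452
theorem L802456 : sm gf N61139 = N59955 := ded_29_2 (flp_c L790145) (flp_f L790116) L802452
theorem L802458 : sm gg N61139 = N60069 := ded_30_2 (flp_c L791302) (flp_g L790118) L802452
theorem L802460 : sm gj N61139 = N59980 := ded_31_2 (flp_c L790420) (flp_j L790120) L802452
theorem L802462 : sm gh N61139 = N60084 := ded_32_2 (flp_c L791488) (flp_h L790124) L802452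
theorem L802464 : sm gi N61139 = N59953 := ded_33_2 (flp_c L790126) (flp_i L790122) L802452
theorem L802466 : sm gd N61139 = N60243 := ded_27_2 (flp_c L793061) (flp_d L780746) (flp_c L778077) L790110 L802452
theorem L802468 : sm ge N59952 = N61140 := rfl
theorem L802470 : sm ga N61140 = N60142 := ded_13_1 (flp_e L792090) (flp_a L790112) L802468
theorem L802472 : sm gb N61140 = N60522 := ded_21_1 (flp_e L795442) (flp_b L790114) L802468
theorem L802474 : sm gg N61140 = N60070 := ded_41_2 (flp_e L791314) (flp_g L790118) L802468
theorem L802476 : sm gj N61140 = N59981 := ded_42_2 (flp_e L790428) (flp_j L790120) L802468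
theorem L802478 : sm gh N61140 = N60085 := ded_43_2 (flp_e L791498) (flp_h L790124) L802468
theorem L802480 : sm gi N61140 = N59954 := ded_44_2 (flp_e L790136) (flp_i L790122) L802468
theorem L802482 : sm gd N61140 = N61140 := ded_34_1 (flp_e L802468) (flp_d L790110) L778079 L790110 L802468
theorem L802483 : sm gb N59953 = N61141 := rfl
theorem L802485 : sm gd N61141 = N60244 := ded_20_2 (flp_b L793075) (flp_d L790134) L802483
theorem L802487 : sm gf N61141 = N59957 := ded_22_2 (flp_b L790171) (flp_f L790128) L802483
theorem L802489 : sm gj N61141 = N59982 := ded_24_2 (flp_b L790433) (flp_j L790130) L802483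
theorem L802491 : sm gh N61141 = N59959 := ded_25_2 (flp_b L790189) (flp_h L790132) L802483
theorem L802493 : sm gc N61141 = N60523 := ded_19_2 (flp_b L795449) (flp_c L783266) (flp_b L778090) L790126 L802483
theorem L802495 : sm ge N59953 = N61142 := rfl
theorem L802497 : sm gc N61142 = N59954 := ded_28_1 (flp_e L790136) L790126 L802495
theorem L802499 : sm gj N61142 = N59983 := ded_42_2 (flp_e L790441) (flp_j L790130) L802495
theorem L802501 : sm gh N61142 = N59960 := ded_43_2 (flp_e L790199) (flp_h L790132) L802495
theorem L802503 : sm gb N59955 = N61143 := rfl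
theorem L802505 : sm gd N61143 = N60246 := ded_20_2 (flp_b L793091) (flp_d L790155) L802503
theorem L802507 : sm gg N61143 = N60587 := ded_23_2 (flp_b L795850) (flp_g L790149) L802503
theorem L802509 : sm gj N61143 = N59985 := ded_24_2 (flp_b L790454) (flp_j L790151) L802503
theorem L802511 : sm gi N61143 = N59957 := ded_26_2 (flp_b L790171) (flp_i L790153) L802503
theorem L802513 : sm gc N61143 = N60526 := ded_19_2 (flp_b L795470) (flp_c L783279) (flp_b L778102) L790145 L802503
theorem L802515 : sm ge N59955 = N61144 := rfl
theorem L802517 : sm ga N61144 = N60637 := ded_13_1 (flp_e L796171) (flp_a L790147) L802515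
theorem L802519 : sm gc N61144 = N59956 := ded_28_1 (flp_e L790157) L790145 L802515
theorem L802521 : sm gg N61144 = N60588 := ded_41_2 (flp_e L795860) (flp_g L790149) L802515
theorem L802523 : sm gj N61144 = N59986 := ded_42_2 (flp_e L790462) (flp_j L790151) L802515
theorem L802525 : sm gi N61144 = N59958 := ded_44_2 (flp_e L790181) (flp_i L790153) L802515
theorem L802527 : sm ga N59957 = N61145 := rfl
theorem L802529 : sm gc N61145 = N60529 := ded_11_2 (flp_a L795492) (flp_c L790179) L802527
theorem L802531 : sm gd N61145 = N60247 := ded_12_2 (flp_a L793103) (flp_d L790173) L802527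
theorem L802533 : sm gj N61145 = N59988 := ded_16_2 (flp_a L790476) (flp_j L790175) L802527
theorem L802535 : sm gh N61145 = N59961 := ded_17_2 (flp_a L790205) (flp_h L790177) L802527
theorem L802537 : sm ge N59957 = N61146 := rfl
theorem L802539 : sm gb N61146 = N59958 := ded_21_1 (flp_e L790181) L790171 L802537
theorem L802541 : sm gc N61146 = N60530 := ded_28_1 (flp_e L795498) (flp_c L790179) L802537
theorem L802543 : sm gj N61146 = N59989 := ded_42_2 (flp_e L790484) (flp_j L790175) L802537
theorem L802545 : sm gh N61146 = N59962 := ded_43_2 (flp_e L790213) (flp_h L790177) L802537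
theorem L802547 : sm ga N59959 = N61147 := rfl
theorem L802549 : sm gc N61147 = N60532 := ded_11_2 (flp_a L795510) (flp_c L790197) L802547
theorem L802551 : sm gd N61147 = N59963 := ded_12_2 (flp_a L790221) (flp_d L790191) L802547
theorem L802553 : sm gf N61147 = N59961 := ded_14_2 (flp_a L790205) (flp_f L790193) L802547
theorem L802555 : sm gj N61147 = N59995 := ded_16_2 (flp_a L790542) (flp_j L790195) L802547
theorem L802557 : sm ge N59959 = N61148 := rfl
theorem L802559 : sm gb N61148 = N59960 := ded_21_1 (flp_e L790199) L790189 L802557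
theorem L802561 : sm gc N61148 = N60533 := ded_28_1 (flp_e L795516) (flp_c L790197) L802557
theorem L802563 : sm gj N61148 = N59996 := ded_42_2 (flp_e L790548) (flp_j L790195) L802557
theorem L802565 : sm ge N59961 = N61149 := rfl
theorem L802567 : sm ga N61149 = N59962 := ded_13_1 (flp_e L790213) L790205 L802565
theorem L802569 : sm gc N61149 = N60535 := ded_28_1 (flp_e L795526) (flp_c L790207) L802565
theorem L802571 : sm gj N61149 = N59999 := ded_42_2 (flp_e L790564) (flp_j L790211) L802565
theorem L802573 : sm ge N59963 = N61150 := rfl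
theorem L802575 : sm ga N61150 = N59964 := ded_13_1 (flp_e L790231) L790221 L802573
theorem L802577 : sm gc N61150 = N60543 := ded_28_1 (flp_e L795584) (flp_c L790223) L802573
theorem L802579 : sm gj N61150 = N60005 := ded_42_2 (flp_e L790610) (flp_j L790227) L802573
theorem L802581 : sm gh N61150 = N60263 := ded_43_2 (flp_e L793227) (flp_h L790229) L802573
theorem L802583 : sm gb N59965 = N61151 := rfl
theorem L802585 : sm gd N61151 = N60026 := ded_20_2 (flp_b L790833) (flp_d L790253) L802583
theorem L802587 : sm gf N61151 = N60515 := ded_22_2 (flp_b L795395) (flp_f L790245) L802583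
theorem L802589 : sm gg N61151 = N60051 := ded_23_2 (flp_b L791128) (flp_g L790247) L802583
theorem L802591 : sm gj N61151 = N60027 := ded_24_2 (flp_b L790841) (flp_j L790249) L802583
theorem L802593 : sm gh N61151 = N59966 := ded_25_2 (flp_b L790255) (flp_h L790251) L802583
theorem L802595 : sm gc N61151 = N60110 := ded_19_2 (flp_b L791778) (flp_c L779580) (flp_b L778186) L790241 L802583
theorem L802597 : sm ga N59966 = N61152 := rfl
theorem L802599 : sm gd N61152 = N60509 := ded_12_2 (flp_a L795342) (flp_d L790257) L802597
theorem L802601 : sm gf N61152 = N60518 := ded_14_2 (flp_a L795410) (flp_f L790259) L802597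
theorem L802603 : sm gg N61152 = N60561 := ded_15_2 (flp_a L795693) (flp_g L790261) L802597
theorem L802605 : sm gj N61152 = N60510 := ded_16_2 (flp_a L795358) (flp_j L790263) L802597
theorem L802607 : sm gi N61152 = N60532 := ded_18_2 (flp_a L795510) (flp_i L790265) L802597
theorem L802609 : sm gb N61152 = N59977 := ded_10_2 (flp_a L790388) (flp_b L778278) (flp_a L778198) L790255 L802597
theorem L802611 : sm gb N59967 = N61153 := rfl
theorem L802613 : sm gd N61153 = N60590 := ded_20_2 (flp_b L795872) (flp_d L790277) L802611
theorem L802615 : sm gf N61153 = N59971 := ded_22_2 (flp_b L790312) (flp_f L790271) L802611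
theorem L802617 : sm gj N61153 = N60523 := ded_24_2 (flp_b L795449) (flp_j L790273) L802611
theorem L802619 : sm gh N61153 = N59974 := ded_25_2 (flp_b L790348) (flp_h L790275) L802611
theorem L802621 : sm gc N61153 = N59982 := ded_19_2 (flp_b L790433) (flp_c L778314) (flp_b L778214) L790267 L802611
theorem L802623 : sm ge N59967 = N61154 := rfl
theorem L802625 : sm ga N61154 = N60516 := ded_13_1 (flp_e L795399) (flp_a L790269) L802623
theorem L802627 : sm gc N61154 = N59968 := ded_28_1 (flp_e L790279) L790267 L802623
theorem L802629 : sm gj N61154 = N60524 := ded_42_2 (flp_e L795457) (flp_j L790273) L802623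
theorem L802631 : sm gh N61154 = N59975 := ded_43_2 (flp_e L790360) (flp_h L790275) L802623
theorem L802633 : sm gf N59968 = N61155 := rfl
theorem L802635 : sm ga N61155 = N60517 := ded_14_1 (flp_f L795405) (flp_a L790281) L802633
theorem L802637 : sm gb N61155 = N59984 := ded_22_1 (flp_f L790447) (flp_b L790283) L802633
theorem L802639 : sm gd N61155 = N61155 := ded_35_1 (flp_f L802633) L790289 L802633
theorem L802640 : sm gj N61155 = N60525 := ded_46_2 (flp_f L795463) (flp_j L790285) L802633
theorem L802642 : sm gh N61155 = N59976 := ded_47_2 (flp_f L790372) (flp_h L790287) L802633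
theorem L802644 : sm ge N61155 = N59973 := ded_40_1 (flp_f L790336) (flp_e L778242) (flp_f L778216) L790279 L802633
theorem L802646 : sm gg N61155 = N60008 := ded_45_2 (flp_f L799785) L799776 (flp_f L798342) L798333 L802633
theorem L802648 : sm gb N59969 = N61156 := rfl
theorem L802650 : sm gd N61156 = N60061 := ded_20_2 (flp_b L791234) (flp_d L790298) L802648
theorem L802652 : sm gg N61156 = N60062 := ded_23_2 (flp_b L791244) (flp_g L790292) L802648
theorem L802654 : sm gj N61156 = N60526 := ded_24_2 (flp_b L795470) (flp_j L790294) L802648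
theorem L802656 : sm gi N61156 = N59971 := ded_26_2 (flp_b L790312) (flp_i L790296) L802648
theorem L802658 : sm gc N61156 = N59985 := ded_19_2 (flp_b L790454) (flp_c L778327) (flp_b L778224) L790290 L802648
theorem L802660 : sm ge N59969 = N61157 := rfl
theorem L802662 : sm gc N61157 = N59970 := ded_28_1 (flp_e L790300) L790290 L802660
theorem L802664 : sm gg N61157 = N60063 := ded_41_2 (flp_e L791254) (flp_g L790292) L802660
theorem L802666 : sm gj N61157 = N60527 := ded_42_2 (flp_e L795478) (flp_j L790294) L802660
theorem L802668 : sm gi N61157 = N59972 := ded_44_2 (flp_e L790324) (flp_i L790296) L802660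
theorem L802670 : sm gd N61157 = N60481 := ded_34_1 (flp_e L795155) (flp_d L789061) L789051 (flp_d L790298) L802660
theorem L802672 : sm gf N59970 = N61158 := rfl
theorem L802674 : sm gb N61158 = N59987 := ded_22_1 (flp_f L790470) (flp_b L790302) L802672
theorem L802676 : sm gd N61158 = N60010 := ded_35_1 L790644 (flp_d L790310) L802672
theorem L802678 : sm gj N61158 = N60528 := ded_46_2 (flp_f L795486) (flp_j L790306) L802672
theorem L802680 : sm gi N61158 = N59973 := ded_48_2 (flp_f L790336) (flp_i L790308) L802672
theorem L802682 : sm gg N61158 = N60009 := ded_45_2 L790635 (flp_g L787454) L787464 (flp_g L790304) L802672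
theorem L802684 : sm ga N59971 = N61159 := rfl
theorem L802686 : sm gc N61159 = N59988 := ded_11_2 (flp_a L790476) (flp_c L790322) L802684
theorem L802688 : sm gd N61159 = N60592 := ded_12_2 (flp_a L795888) (flp_d L790314) L802684
theorem L802690 : sm gg N61159 = N60563 := ded_15_2 (flp_a L795701) (flp_g L790316) L802684
theorem L802692 : sm gj N61159 = N60529 := ded_16_2 (flp_a L795492) (flp_j L790318) L802684
theorem L802694 : sm gh N61159 = N59977 := ded_17_2 (flp_a L790388) (flp_h L790320) L802684
theorem L802696 : sm ge N59971 = N61160 := rfl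
theorem L802698 : sm gb N61160 = N59972 := ded_21_1 (flp_e L790324) L790312 L802696
theorem L802700 : sm gc N61160 = N59989 := ded_28_1 (flp_e L790484) (flp_c L790322) L802696
theorem L802702 : sm gg N61160 = N60564 := ded_41_2 (flp_e L795707) (flp_g L790316) L802696
theorem L802704 : sm gj N61160 = N60530 := ded_42_2 (flp_e L795498) (flp_j L790318) L802696
theorem L802706 : sm gh N61160 = N59978 := ded_43_2 (flp_e L790398) (flp_h L790320) L802696
theorem L802708 : sm gd N61160 = N60483 := ded_34_1 (flp_e L795167) (flp_d L791329) L791331 (flp_d L790314) L802696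
theorem L802710 : sm gf N59972 = N61161 := rfl
theorem L802712 : sm gc N61161 = N59973 := ded_29_1 (flp_f L790336) (flp_c L790326) L802710
theorem L802714 : sm gd N61161 = N60311 := ded_35_1 L793625 (flp_d L790334) L802710
theorem L802716 : sm gj N61161 = N60531 := ded_46_2 (flp_f L795504) (flp_j L790330) L802710
theorem L802718 : sm gh N61161 = N59979 := ded_47_2 (flp_f L790410) (flp_h L790332) L802710
theorem L802720 : sm gg N61161 = N60007 := ded_45_2 L799987 L799977 L788178 (flp_g L790328) L802710
theorem L802722 : sm ga N59974 = N61162 := rfl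
theorem L802724 : sm gc N61162 = N59995 := ded_11_2 (flp_a L790542) (flp_c L790358) L802722
theorem L802726 : sm gd N61162 = N60508 := ded_12_2 (flp_a L795326) (flp_d L790350) L802722
theorem L802728 : sm gf N61162 = N59977 := ded_14_2 (flp_a L790388) (flp_f L790352) L802722
theorem L802730 : sm gj N61162 = N60532 := ded_16_2 (flp_a L795510) (flp_j L790354) L802722
theorem L802732 : sm gi N61162 = N60510 := ded_18_2 (flp_a L795358) (flp_i L790356) L802722
theorem L802734 : sm gb N61162 = N60518 := ded_10_2 (flp_a L795410) (flp_b L783224) (flp_a L778256) L790348 L802722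
theorem L802736 : sm ge N59974 = N61163 := rfl
theorem L802738 : sm gb N61163 = N59975 := ded_21_1 (flp_e L790360) L790348 L802736
theorem L802740 : sm gc N61163 = N59996 := ded_28_1 (flp_e L790548) (flp_c L790358) L802736
theorem L802742 : sm gj N61163 = N60533 := ded_42_2 (flp_e L795516) (flp_j L790354) L802736
theorem L802744 : sm gi N61163 = N60511 := ded_44_2 (flp_e L795364) (flp_i L790356) L802736
theorem L802746 : sm gd N61163 = N60541 := ded_34_1 (flp_e L795570) L783384 (flp_e L783155) (flp_d L790350) L802736
theorem L802748 : sm gf N59975 = N61164 := rfl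
theorem L802750 : sm ga N61164 = N60520 := ded_14_1 (flp_f L795424) (flp_a L790362) L802748
theorem L802752 : sm gc N61164 = N59976 := ded_29_1 (flp_f L790372) (flp_c L790364) L802748
theorem L802754 : sm gd N61164 = N59994 := ded_35_1 L790540 (flp_d L790370) L802748
theorem L802756 : sm gj N61164 = N60534 := ded_46_2 (flp_f L795520) (flp_j L790366) L802748
theorem L802758 : sm gi N61164 = N60512 := ded_48_2 (flp_f L795370) (flp_i L790368) L802748
theorem L802760 : sm ge N61164 = N59979 := ded_40_1 (flp_f L790410) (flp_e L778288) (flp_f L778258) L790360 L802748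
theorem L802762 : sm gg N61164 = N59997 := ded_45_2 (flp_f L801444) L801436 (flp_f L800497) L800489 L802748
theorem L802764 : sm ge N59977 = N61165 := rfl
theorem L802766 : sm ga N61165 = N59978 := ded_13_1 (flp_e L790398) L790388 L802764
theorem L802768 : sm gc N61165 = N59999 := ded_28_1 (flp_e L790564) (flp_c L790390) L802764
theorem L802770 : sm gg N61165 = N60566 := ded_41_2 (flp_e L795721) (flp_g L790394) L802764
theorem L802772 : sm gj N61165 = N60535 := ded_42_2 (flp_e L795526) (flp_j L790396) L802764
theorem L802774 : sm gd N61165 = N60560 := ded_34_1 (flp_e L795687) L783531 (flp_e L783252) (flp_d L790392) L802764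
theorem L802776 : sm gf N59978 = N61166 := rfl
theorem L802778 : sm gb N61166 = N59979 := ded_22_1 (flp_f L790410) (flp_b L790400) L802776
theorem L802780 : sm gc N61166 = N60000 := ded_29_1 (flp_f L790570) (flp_c L790402) L802776
theorem L802782 : sm gd N61166 = N60004 := ded_35_1 L790608 (flp_d L790408) L802776
theorem L802784 : sm gj N61166 = N60536 := ded_46_2 (flp_f L795532) (flp_j L790406) L802776
theorem L802786 : sm gg N61166 = N60006 := ded_45_2 (flp_f L801100) L801102 (flp_f L795727) (flp_g L790404) L802776
theorem L802788 : sm gb N59980 = N61167 := rfl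
theorem L802790 : sm gd N61167 = N60282 := ded_20_2 (flp_b L793386) (flp_d L790426) L802788
theorem L802792 : sm gf N61167 = N59985 := ded_22_2 (flp_b L790454) (flp_f L790422) L802788
theorem L802794 : sm gi N61167 = N59982 := ded_26_2 (flp_b L790433) (flp_i L790424) L802788
theorem L802796 : sm ge N59980 = N61168 := rfl
theorem L802798 : sm gc N61168 = N59981 := ded_28_1 (flp_e L790428) L790420 L802796
theorem L802800 : sm gi N61168 = N59983 := ded_44_2 (flp_e L790441) (flp_i L790424) L802796
theorem L802802 : sm gf N59981 = N61169 := rfl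
theorem L802804 : sm gd N61169 = N61169 := ded_35_1 (flp_f L802802) L790432 L802802
theorem L802805 : sm gi N61169 = N59984 := ded_48_2 (flp_f L790447) (flp_i L790430) L802802
theorem L802807 : sm ge N61169 = N59987 := ded_40_1 (flp_f L790470) (flp_e L778335) (flp_f L778310) L790428 L802802
theorem L802809 : sm ga N59982 = N61170 := rfl
theorem L802811 : sm gd N61170 = N60284 := ded_12_2 (flp_a L793398) (flp_d L790435) L802809
theorem L802813 : sm gf N61170 = N59988 := ded_14_2 (flp_a L790476) (flp_f L790437) L802809
theorem L802815 : sm gh N61170 = N59995 := ded_17_2 (flp_a L790542) (flp_h L790439) L802809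
theorem L802817 : sm ge N59982 = N61171 := rfl
theorem L802819 : sm gb N61171 = N59983 := ded_21_1 (flp_e L790441) L790433 L802817
theorem L802821 : sm gh N61171 = N59996 := ded_43_2 (flp_e L790548) (flp_h L790439) L802817
theorem L802823 : sm gd N59983 = N61172 := rfl
theorem L802825 : sm gc N61172 = N61172 := ded_27_1 (flp_d L802823) L790443 L778326 (flp_c L790443) L802823
theorem L802826 : sm ge N61172 = N60286 := ded_34_2 (flp_d L793410) (flp_e L781028) (flp_d L778320) L790441 L802823
theorem L802828 : sm gf N59983 = N61173 := rfl
theorem L802830 : sm gc N61173 = N59984 := ded_29_1 (flp_f L790447) (flp_c L790443) L802828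
theorem L802832 : sm gh N61173 = N59998 := ded_47_2 (flp_f L790558) (flp_h L790445) L802828
theorem L802834 : sm ge N61173 = N59991 := ded_40_1 (flp_f L790504) (flp_e L778351) (flp_f L778316) L790441 L802828
theorem L802836 : sm ga N59985 = N61174 := rfl
theorem L802838 : sm gd N61174 = N60288 := ded_12_2 (flp_a L793423) (flp_d L790456) L802836
theorem L802840 : sm gg N61174 = N60568 := ded_15_2 (flp_a L795733) (flp_g L790458) L802836
theorem L802842 : sm gi N61174 = N59988 := ded_18_2 (flp_a L790476) (flp_i L790460) L802836
theorem L802844 : sm ge N59985 = N61175 := rfl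
theorem L802846 : sm gb N61175 = N59986 := ded_21_1 (flp_e L790462) L790454 L802844
theorem L802848 : sm gg N61175 = N60569 := ded_41_2 (flp_e L795739) (flp_g L790458) L802844
theorem L802850 : sm gi N61175 = N59989 := ded_44_2 (flp_e L790484) (flp_i L790460) L802844
theorem L802852 : sm gd N59986 = N61176 := rfl
theorem L802854 : sm ga N61176 = N60623 := ded_12_1 (flp_d L799395) L799385 L802852
theorem L802856 : sm gg N61176 = N60425 := ded_36_2 L794730 (flp_g L790466) L802852
theorem L802858 : sm gi N61176 = N59990 := ded_39_2 (flp_d L790492) (flp_i L790468) L802852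
theorem L802860 : sm gc N61176 = N60013 := ded_27_1 (flp_d L790678) L778576 (flp_d L778341) (flp_c L790464) L802852
theorem L802862 : sm ge N61176 = N60290 := ded_34_2 (flp_d L793441) (flp_e L781051) (flp_d L778333) L790462 L802852
theorem L802864 : sm gf N59986 = N61177 := rfl
theorem L802866 : sm gc N61177 = N59987 := ded_29_1 (flp_f L790470) (flp_c L790464) L802864
theorem L802868 : sm gi N61177 = N59991 := ded_48_2 (flp_f L790504) (flp_i L790468) L802864
theorem L802870 : sm gg N59987 = N61178 := rfl
theorem L802872 : sm gb N61178 = N60009 := ded_23_1 (flp_g L802682) L802674 L802870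
theorem L802874 : sm gd N61178 = N60012 := ded_36_1 L790673 (flp_d L790472) L802870
theorem L802876 : sm gi N61178 = N59992 := ded_51_2 (flp_g L790510) (flp_i L790474) L802870
theorem L802878 : sm gf N61178 = N60188 := ded_45_1 L792521 L780421 (flp_g L778337) L790470 L802870
theorem L802880 : sm gj N60191 = N61178 := ded_24_0 L802872 (flp_j L799405) L799401
theorem L802882 : sm ge N59988 = N61179 := rfl
theorem L802884 : sm ga N61179 = N59989 := ded_13_1 (flp_e L790484) L790476 L802882
theorem L802886 : sm gg N61179 = N60570 := ded_41_2 (flp_e L795745) (flp_g L790480) L802882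
theorem L802888 : sm gh N61179 = N59999 := ded_43_2 (flp_e L790564) (flp_h L790482) L802882
theorem L802890 : sm gd N59989 = N61180 := rfl
theorem L802892 : sm gb N61180 = N59990 := ded_20_1 (flp_d L790492) (flp_b L790486) L802890
theorem L802894 : sm gg N61180 = N60458 := ded_36_2 L794982 (flp_g L790488) L802890
theorem L802896 : sm gc N61180 = N60450 := ded_27_1 L794923 (flp_c L795171) (flp_d L802708) L802700 L802890
theorem L802898 : sm ge N61180 = N60292 := ded_34_2 (flp_d L793463) (flp_e L781069) (flp_d L778345) L790484 L802890
theorem L802900 : sm gh N61180 = N60606 := ded_38_2 (flp_d L801032) L801028 L788862 (flp_h L790490) L802890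
theorem L802902 : sm gf N59989 = N61181 := rfl
theorem L802904 : sm gb N61181 = N59991 := ded_22_1 (flp_f L790504) (flp_b L790486) L802902
theorem L802906 : sm gh N61181 = N60000 := ded_47_2 (flp_f L790570) (flp_h L790490) L802902
theorem L802908 : sm gf N59990 = N61182 := rfl
theorem L802910 : sm ga N61182 = N60265 := ded_14_1 L793245 (flp_a L790494) L802908
theorem L802912 : sm gc N61182 = N60015 := ded_29_1 (flp_f L790704) (flp_c L790498) L802908
theorem L802914 : sm gd N61182 = N59991 := ded_35_1 (flp_f L790504) L790492 L802908
theorem L802916 : sm gj N61182 = N60130 := ded_46_2 L797859 L797853 L802908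
theorem L802918 : sm gh N61182 = N60115 := ded_47_2 L791818 (flp_h L790502) L802908
theorem L802920 : sm gg N59991 = N61183 := rfl
theorem L802922 : sm gc N61183 = N59992 := ded_30_1 (flp_g L790510) (flp_c L790506) L802920
theorem L802924 : sm gh N61183 = N60001 := ded_50_2 (flp_g L790574) (flp_h L790508) L802920
theorem L802926 : sm gf N61183 = N60258 := ded_45_1 L793201 L781197 (flp_g L778355) L790504 L802920
theorem L802928 : sm gj N60262 = N61183 := ded_31_0 L802922 (flp_j L790520) (flp_c L793225)
theorem L802930 : sm ga N59993 = N61184 := rfl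
theorem L802932 : sm gd N61184 = N60003 := ded_12_2 (flp_a L790590) (flp_d L790524) L802930
theorem L802934 : sm gf N61184 = N60571 := ded_14_2 (flp_a L795751) (flp_f L790526) L802930
theorem L802936 : sm gg N61184 = N59995 := ded_15_2 (flp_a L790542) (flp_g L790528) L802930
theorem L802938 : sm ge N59993 = N61185 := rfl
theorem L802940 : sm gb N61185 = N59994 := ded_21_1 (flp_e L790530) L790522 L802938
theorem L802942 : sm gg N61185 = N59996 := ded_41_2 (flp_e L790548) (flp_g L790528) L802938
theorem L802944 : sm gi N61185 = N60544 := ded_44_2 (flp_e L796633) L796643 L802938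
theorem L802946 : sm gf N61185 = N60541 := ded_40_2 (flp_e L795570) (flp_f L784822) L784820 (flp_f L790526) L802938
theorem L802948 : sm ge N59995 = N61186 := rfl
theorem L802950 : sm ga N61186 = N59996 := ded_13_1 (flp_e L790548) L790542 L802948
theorem L802952 : sm gd N59996 = N61187 := rfl
theorem L802954 : sm gb N61187 = N59997 := ded_20_1 (flp_d L790552) (flp_b L790550) L802952
theorem L802956 : sm ge N61187 = N60006 := ded_34_2 (flp_d L790616) (flp_e L778461) (flp_d L778387) L790548 L802952
theorem L802958 : sm gf N59996 = N61188 := rfl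
theorem L802960 : sm gb N61188 = N59998 := ded_22_1 (flp_f L790558) (flp_b L790550) L802958
theorem L802962 : sm ge N61188 = N60000 := ded_40_1 (flp_f L790570) (flp_e L778407) (flp_f L778389) L790548 L802958
theorem L802964 : sm gh N59997 = N61189 := rfl
theorem L802966 : sm gc N61189 = N60008 := ded_32_1 (flp_h L790626) (flp_c L790554) L802964
theorem L802968 : sm ge N61189 = N60007 := ded_43_1 (flp_h L790620) (flp_e L790556) L802964
theorem L802970 : sm gf N59999 = N61190 := rfl
theorem L802972 : sm ga N61190 = N60000 := ded_14_1 (flp_f L790570) (flp_a L790566) L802970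
theorem L802974 : sm gg N60000 = N61191 := rfl
theorem L802976 : sm gb N61191 = N60001 := ded_23_1 (flp_g L790574) (flp_b L790572) L802974
theorem L802978 : sm gc N61191 = N60006 := ded_30_1 (flp_g L802786) L802780 L802974
theorem L802980 : sm gf N61191 = N60574 := ded_45_1 (flp_g L795769) (flp_f L783629) (flp_g L778411) L790570 L802974
theorem L802982 : sm ga N60002 = N61192 := rfl
theorem L802984 : sm ge N61192 = N60573 := ded_13_2 L795767 (flp_e L790582) L802982
theorem L802986 : sm gf N61192 = N60572 := ded_14_2 L795759 (flp_f L790584) L802982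
theorem L802988 : sm gj N61192 = N60003 := ded_16_2 (flp_a L790590) (flp_j L790586) L802982
theorem L802990 : sm gh N61192 = N60306 := ded_17_2 (flp_a L793581) (flp_h L790588) L802982
theorem L802992 : sm ge N60003 = N61193 := rfl
theorem L802994 : sm ga N61193 = N60004 := ded_13_1 (flp_e L790598) L790590 L802992
theorem L802996 : sm gg N61193 = N60005 := ded_41_2 (flp_e L790610) (flp_g L790594) L802992
theorem L802998 : sm gj N61193 = N60573 := ded_42_2 (flp_e L802984) L802988 L802992
theorem L803000 : sm gh N61193 = N60309 := ded_43_2 (flp_e L793605) (flp_h L790596) L802992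
theorem L803002 : sm gf N61193 = N60560 := ded_40_2 (flp_e L795687) (flp_f L784804) L784802 (flp_f L790592) L802992
theorem L803004 : sm gd N60005 = N61194 := rfl
theorem L803006 : sm ga N61194 = N60006 := ded_12_1 (flp_d L790616) (flp_a L790612) L803004
theorem L803008 : sm gh N60006 = N61195 := rfl
theorem L803010 : sm gb N61195 = N60007 := ded_25_1 (flp_h L790620) (flp_b L790618) L803008
theorem L803012 : sm gd N61195 = N60314 := ded_38_1 (flp_h L793639) (flp_d L781223) (flp_h L778465) L790616 L803008
theorem L803014 : sm gi N60007 = N61196 := rfl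
theorem L803016 : sm gc N61196 = N60009 := ded_33_1 (flp_i L790631) (flp_c L790622) L803014
theorem L803018 : sm gd N61196 = N60315 := ded_39_1 (flp_i L793643) (flp_d L790624) L803014
theorem L803020 : sm gf N61196 = N60637 := ded_48_1 (flp_i L799983) (flp_f L799987) L803014
theorem L803022 : sm gi N60008 = N61197 := rfl
theorem L803024 : sm gd N61197 = N61197 := ded_39_1 (flp_i L803022) L790630 L803022
theorem L803025 : sm ge N61197 = N60009 := ded_44_1 (flp_i L790631) (flp_e L790628) L803022
theorem L803027 : sm gf N61197 = N60142 := ded_48_1 (flp_i L799782) L799785 L803022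
theorem L803029 : sm gh N61197 = N60191 := ded_54_1 L792547 (flp_h L789415) L789417 L790626 L803022
theorem L803031 : sm gd N60011 = N61198 := rfl
theorem L803033 : sm ga N61198 = N60323 := ded_12_1 L793718 (flp_a L790653) L803031
theorem L803035 : sm gb N61198 = N60338 := ded_20_1 (flp_d L793861) (flp_b L790655) L803031
theorem L803037 : sm gf N61198 = N60320 := ded_35_2 (flp_d L793684) (flp_f L790660) L803031
theorem L803039 : sm gg N61198 = N60015 := ded_36_2 L790710 (flp_g L790662) L803031
theorem L803041 : sm gj N61198 = N60171 := ded_37_2 L792353 (flp_j L790664) L803031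
theorem L803043 : sm gh N61198 = N60133 := ded_38_2 (flp_d L792000) L779795 (flp_d L778523) L790651 L803031
theorem L803045 : sm gf N60013 = N61199 := rfl
theorem L803047 : sm ga N61199 = N60327 := ded_14_1 L793750 (flp_a L790680) L803045
theorem L803049 : sm gb N61199 = N60420 := ded_22_1 (flp_f L794677) (flp_b L790682) L803045
theorem L803051 : sm gd N61199 = N60014 := ded_35_1 (flp_f L790690) L790678 L803045
theorem L803053 : sm gj N61199 = N60135 := ded_46_2 L797829 L797821 L803045
theorem L803055 : sm gi N61199 = N60015 := ded_48_2 (flp_f L790704) (flp_i L790686) L803045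
theorem L803057 : sm ge N60015 = N61200 := rfl
theorem L803059 : sm ga N61200 = N60319 := ded_13_1 L793677 (flp_a L790706) L803057
theorem L803061 : sm gb N61200 = N60448 := ded_21_1 L794909 (flp_b L790708) L803057
theorem L803063 : sm gj N61200 = N60134 := ded_42_2 L792010 (flp_j L790712) L803057
theorem L803065 : sm gh N61200 = N60132 := ded_43_2 L791998 (flp_h L790714) L803057
theorem L803067 : sm gd N61200 = N61200 := ded_34_1 (flp_e L803057) L790710 L778613 (flp_d L790710) L803057
theorem L803068 : sm gf N61200 = N60339 := ded_40_2 (flp_e L793867) (flp_f L781531) (flp_e L778597) L790704 L803057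
theorem L803070 : sm ga N60016 = N61201 := rfl
theorem L803072 : sm gc N61201 = N60021 := ded_11_2 (flp_a L790780) (flp_c L790724) L803070
theorem L803074 : sm ge N61201 = N60064 := ded_13_2 (flp_a L791262) (flp_e L790718) L803070
theorem L803076 : sm gj N61201 = N60019 := ded_16_2 (flp_a L790756) (flp_j L790720) L803070
theorem L803078 : sm gi N61201 = N60589 := ded_18_2 (flp_a L795866) (flp_i L790722) L803070
theorem L803080 : sm gb N61201 = N60506 := ded_10_2 (flp_a L795314) (flp_b L783117) (flp_a L778616) L790716 L803070
theorem L803082 : sm ga N60017 = N61202 := rfl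
theorem L803084 : sm gc N61202 = N60305 := ded_11_2 L793573 (flp_c L790738) L803082
theorem L803086 : sm gd N61202 = N60019 := ded_12_2 (flp_a L790756) (flp_d L790728) L803082
theorem L803088 : sm gf N61202 = N60274 := ded_14_2 L793317 (flp_f L790730) L803082
theorem L803090 : sm gg N61202 = N60403 := ded_15_2 (flp_a L794533) (flp_g L790732) L803082
theorem L803092 : sm gh N61202 = N60661 := ded_17_2 (flp_a L796338) (flp_h L790734) L803082
theorem L803094 : sm gi N61202 = N60361 := ded_18_2 (flp_a L794148) (flp_i L790736) L803082
theorem L803096 : sm gb N61202 = N60502 := ded_10_2 (flp_a L795294) (flp_b L783087) (flp_a L778626) L790726 L803082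
theorem L803098 : sm ge N60017 = N61203 := rfl
theorem L803100 : sm gb N61203 = N60018 := ded_21_1 (flp_e L790740) L790726 L803098
theorem L803102 : sm gc N61203 = N60303 := ded_28_1 L793561 (flp_c L790738) L803098
theorem L803104 : sm gg N61203 = N60404 := ded_41_2 (flp_e L794541) (flp_g L790732) L803098
theorem L803106 : sm gh N61203 = N60662 := ded_43_2 (flp_e L796344) (flp_h L790734) L803098
theorem L803108 : sm gi N61203 = N60362 := ded_44_2 (flp_e L794156) (flp_i L790736) L803098
theorem L803110 : sm gd N61203 = N60068 := ded_34_1 (flp_e L791296) L779193 (flp_e L778656) (flp_d L790728) L803098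
theorem L803112 : sm gf N61203 = N60273 := ded_40_2 (flp_e L793309) L780952 L780966 (flp_f L790730) L803098
theorem L803114 : sm ga N60020 = N61204 := rfl
theorem L803116 : sm gd N61204 = N60578 := ded_12_2 (flp_a L795793) (flp_d L790770) L803114
theorem L803118 : sm ge N61204 = N60101 := ded_13_2 (flp_a L791671) (flp_e L790772) L803114
theorem L803120 : sm gg N61204 = N60021 := ded_15_2 (flp_a L790780) (flp_g L790774) L803114
theorem L803122 : sm gj N61204 = N60577 := ded_16_2 (flp_a L795785) (flp_j L790776) L803114
theorem L803124 : sm gi N61204 = N60581 := ded_18_2 (flp_a L795811) (flp_i L790778) L803114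
theorem L803126 : sm gb N61204 = N60044 := ded_10_2 (flp_a L791030) (flp_b L778923) (flp_a L778666) L790768 L803114
theorem L803128 : sm ge N60022 = N61205 := rfl
theorem L803130 : sm ga N61205 = N60023 := ded_13_1 (flp_e L790802) L790792 L803128
theorem L803132 : sm gb N61205 = N60055 := ded_21_1 (flp_e L791164) (flp_b L790800) L803128
theorem L803134 : sm gi N61205 = N60604 := ded_44_2 (flp_e L795977) (flp_i L790798) L803128
theorem L803136 : sm gf N61205 = N60128 := ded_40_2 (flp_e L791961) L779737 (flp_e L778710) (flp_f L790796) L803128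
theorem L803138 : sm gb N60024 = N61206 := rfl
theorem L803140 : sm gd N61206 = N60515 := ded_20_2 (flp_b L795395) (flp_d L790820) L803138
theorem L803142 : sm gf N61206 = N60026 := ded_22_2 (flp_b L790833) (flp_f L790814) L803138
theorem L803144 : sm gj N61206 = N60030 := ded_24_2 (flp_b L790871) (flp_j L790816) L803138
theorem L803146 : sm gh N61206 = N60036 := ded_25_2 (flp_b L790938) (flp_h L790818) L803138
theorem L803148 : sm ge N60024 = N61207 := rfl
theorem L803150 : sm ga N61207 = N60591 := ded_13_1 (flp_e L795880) (flp_a L790812) L803148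
theorem L803152 : sm gc N61207 = N60025 := ded_28_1 (flp_e L790822) L790810 L803148
theorem L803154 : sm gj N61207 = N60031 := ded_42_2 (flp_e L790877) (flp_j L790816) L803148
theorem L803156 : sm gh N61207 = N60037 := ded_43_2 (flp_e L790948) (flp_h L790818) L803148
theorem L803158 : sm gf N61207 = N60144 := ded_40_2 (flp_e L792105) L779912 (flp_e L778732) (flp_f L790814) L803148
theorem L803160 : sm ga N60026 = N61208 := rfl
theorem L803162 : sm ge N61208 = N60145 := ded_13_2 (flp_a L792113) (flp_e L790835) L803160
theorem L803164 : sm gj N61208 = N60032 := ded_16_2 (flp_a L790887) (flp_j L790837) L803160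
theorem L803166 : sm gh N61208 = N60038 := ded_17_2 (flp_a L790962) (flp_h L790839) L803160
theorem L803168 : sm gb N61208 = N60592 := ded_10_2 (flp_a L795888) (flp_b L783785) (flp_a L778730) L790833 L803160
theorem L803170 : sm ga N60027 = N61209 := rfl
theorem L803172 : sm gd N61209 = N60032 := ded_12_2 (flp_a L790887) (flp_d L790843) L803170
theorem L803174 : sm gg N61209 = N60046 := ded_15_2 (flp_a L791056) (flp_g L790845) L803170
theorem L803176 : sm gh N61209 = N60510 := ded_17_2 (flp_a L795358) (flp_h L790847) L803170
theorem L803178 : sm gb N61209 = N60529 := ded_10_2 (flp_a L795492) (flp_b L783295) (flp_a L778740) L790841 L803170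
theorem L803180 : sm ge N60027 = N61210 := rfl
theorem L803182 : sm gb N61210 = N60028 := ded_21_1 (flp_e L790849) L790841 L803180
theorem L803184 : sm gg N61210 = N60047 := ded_41_2 (flp_e L791064) (flp_g L790845) L803180
theorem L803186 : sm gh N61210 = N60511 := ded_43_2 (flp_e L795364) (flp_h L790847) L803180
theorem L803188 : sm gd N61210 = N60169 := ded_34_1 (flp_e L792341) L780080 (flp_e L778788) (flp_d L790843) L803180
theorem L803190 : sm gf N60028 = N61211 := rfl
theorem L803192 : sm ga N61211 = N60531 := ded_14_1 (flp_f L795504) (flp_a L790851) L803190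
theorem L803194 : sm gc N61211 = N60029 := ded_29_1 (flp_f L790861) (flp_c L790853) L803190
theorem L803196 : sm gd N61211 = N60170 := ded_35_1 (flp_f L792347) (flp_d L790859) L803190
theorem L803198 : sm gh N61211 = N60512 := ded_47_2 (flp_f L795370) (flp_h L790857) L803190
theorem L803200 : sm gg N61211 = N60262 := ded_45_2 (flp_f L793223) L780871 (flp_f L778963) (flp_g L790855) L803190
theorem L803202 : sm ga N60030 = N61212 := rfl
theorem L803204 : sm gf N61212 = N60032 := ded_14_2 (flp_a L790887) (flp_f L790873) L803202
theorem L803206 : sm gh N61212 = N60039 := ded_17_2 (flp_a L790974) (flp_h L790875) L803202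
theorem L803208 : sm gb N61212 = N60601 := ded_10_2 (flp_a L795962) (flp_b L783874) (flp_a L778771) L790871 L803202
theorem L803210 : sm ge N60030 = N61213 := rfl
theorem L803212 : sm gb N61213 = N60031 := ded_21_1 (flp_e L790877) L790871 L803210
theorem L803214 : sm gh N61213 = N60040 := ded_43_2 (flp_e L790984) (flp_h L790875) L803210
theorem L803216 : sm gf N61213 = N60175 := ded_40_2 (flp_e L792385) L780126 (flp_e L778788) (flp_f L790873) L803210
theorem L803218 : sm gd N60031 = N61214 := rfl
theorem L803220 : sm ga N61214 = N60603 := ded_12_1 (flp_d L795974) (flp_a L790879) L803218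
theorem L803222 : sm gf N61214 = N60176 := ded_35_2 (flp_d L792391) (flp_f L790885) L803218
theorem L803224 : sm gc N61214 = N61214 := ded_27_1 (flp_d L803218) L790881 L778783 (flp_c L790881) L803218
theorem L803225 : sm gh N61214 = N60494 := ded_38_2 (flp_d L795251) L783041 (flp_d L778872) (flp_h L790883) L803218
theorem L803227 : sm gb N60033 = N61215 := rfl
theorem L803229 : sm gd N61215 = N60575 := ded_20_2 (flp_b L795773) (flp_d L790909) L803227
theorem L803231 : sm gf N61215 = N60035 := ded_22_2 (flp_b L790926) (flp_f L790901) L803227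
theorem L803233 : sm gj N61215 = N60065 := ded_24_2 (flp_b L791268) (flp_j L790903) L803227
theorem L803235 : sm gh N61215 = N60062 := ded_25_2 (flp_b L791244) (flp_h L790905) L803227
theorem L803237 : sm gi N61215 = N60042 := ded_26_2 (flp_b L791010) (flp_i L790907) L803227
theorem L803239 : sm gc N61215 = N60547 := ded_19_2 (flp_b L795608) (flp_c L783444) (flp_b L778798) L790897 L803227
theorem L803241 : sm ge N60033 = N61216 := rfl
theorem L803243 : sm ga N61216 = N60580 := ded_13_1 (flp_e L795807) (flp_a L790899) L803241
theorem L803245 : sm gc N61216 = N60034 := ded_28_1 (flp_e L790911) L790897 L803241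
theorem L803247 : sm gj N61216 = N60066 := ded_42_2 (flp_e L791278) (flp_j L790903) L803241
theorem L803249 : sm gh N61216 = N60063 := ded_43_2 (flp_e L791254) (flp_h L790905) L803241
theorem L803251 : sm gi N61216 = N60043 := ded_44_2 (flp_e L791020) (flp_i L790907) L803241
theorem L803253 : sm gf N61216 = N60181 := ded_40_2 (flp_e L792437) L780170 (flp_e L778812) (flp_f L790901) L803241
theorem L803255 : sm ga N60035 = N61217 := rfl
theorem L803257 : sm gd N61217 = N60577 := ded_12_2 (flp_a L795785) (flp_d L790928) L803255
theorem L803259 : sm ge N61217 = N60182 := ded_13_2 (flp_a L792445) (flp_e L790930) L803255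
theorem L803261 : sm gg N61217 = N60038 := ded_15_2 (flp_a L790962) (flp_g L790932) L803255
theorem L803263 : sm gj N61217 = N60578 := ded_16_2 (flp_a L795793) (flp_j L790934) L803255
theorem L803265 : sm gi N61217 = N60044 := ded_18_2 (flp_a L791030) (flp_i L790936) L803255
theorem L803267 : sm gb N61217 = N60581 := ded_10_2 (flp_a L795811) (flp_b L783709) (flp_a L778810) L790926 L803255
theorem L803269 : sm ga N60036 = N61218 := rfl
theorem L803271 : sm gd N61218 = N60364 := ded_12_2 (flp_a L794170) (flp_d L790940) L803269
theorem L803273 : sm gf N61218 = N60038 := ded_14_2 (flp_a L790962) (flp_f L790942) L803269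
theorem L803275 : sm gj N61218 = N60039 := ded_16_2 (flp_a L790974) (flp_j L790944) L803269
theorem L803277 : sm gi N61218 = N60046 := ded_18_2 (flp_a L791056) (flp_i L790946) L803269
theorem L803279 : sm gb N61218 = N60593 := ded_10_2 (flp_a L795894) (flp_b L783791) (flp_a L778824) L790938 L803269
theorem L803281 : sm ge N60036 = N61219 := rfl
theorem L803283 : sm gb N61219 = N60037 := ded_21_1 (flp_e L790948) L790938 L803281
theorem L803285 : sm gj N61219 = N60040 := ded_42_2 (flp_e L790984) (flp_j L790944) L803281
theorem L803287 : sm gi N61219 = N60047 := ded_44_2 (flp_e L791064) (flp_i L790946) L803281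
theorem L803289 : sm gd N61219 = N60471 := ded_34_1 (flp_e L795083) L782848 (flp_e L781939) (flp_d L790940) L803281
theorem L803291 : sm gf N61219 = N60193 := ded_40_2 (flp_e L792557) L780271 (flp_e L778850) (flp_f L790942) L803281
theorem L803293 : sm ge N60039 = N61220 := rfl
theorem L803295 : sm ga N61220 = N60040 := ded_13_1 (flp_e L790984) L790974 L803293
theorem L803297 : sm gb N61220 = N60604 := ded_21_1 (flp_e L795977) (flp_b L790982) L803293
theorem L803299 : sm gi N61220 = N60055 := ded_44_2 (flp_e L791164) (flp_i L790980) L803293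
theorem L803301 : sm gd N61220 = N60504 := ded_34_1 (flp_e L795306) L783101 (flp_e L781955) (flp_d L790976) L803293
theorem L803303 : sm gf N61220 = N60209 := ded_40_2 (flp_e L792723) L780441 (flp_e L778880) (flp_f L790978) L803293
theorem L803305 : sm ga N60041 = N61221 := rfl
theorem L803307 : sm gc N61221 = N60080 := ded_11_2 (flp_a L791433) (flp_c L791008) L803305
theorem L803309 : sm gd N61221 = N60044 := ded_12_2 (flp_a L791030) (flp_d L790996) L803305
theorem L803311 : sm ge N61221 = N60598 := ded_13_2 (flp_a L795936) (flp_e L790998) L803305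
theorem L803313 : sm gg N61221 = N60045 := ded_15_2 (flp_a L791038) (flp_g L791000) L803305
theorem L803315 : sm gj N61221 = N60581 := ded_16_2 (flp_a L795811) (flp_j L791002) L803305
theorem L803317 : sm gh N61221 = N60060 := ded_17_2 (flp_a L791224) (flp_h L791004) L803305
theorem L803319 : sm gi N61221 = N60577 := ded_18_2 (flp_a L795785) (flp_i L791006) L803305
theorem L803321 : sm gb N61221 = N60578 := ded_10_2 (flp_a L795793) (flp_b L783676) (flp_a L778890) L790994 L803305
theorem L803323 : sm ga N60042 = N61222 := rfl
theorem L803325 : sm gc N61222 = N60549 := ded_11_2 (flp_a L795622) (flp_c L791018) L803323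
theorem L803327 : sm gf N61222 = N60044 := ded_14_2 (flp_a L791030) (flp_f L791012) L803323
theorem L803329 : sm gj N61222 = N60584 := ded_16_2 (flp_a L795835) (flp_j L791014) L803323
theorem L803331 : sm gh N61222 = N60545 := ded_17_2 (flp_a L795594) (flp_h L791016) L803323
theorem L803333 : sm ge N60042 = N61223 := rfl
theorem L803335 : sm gb N61223 = N60043 := ded_21_1 (flp_e L791020) L791010 L803333
theorem L803337 : sm gc N61223 = N60550 := ded_28_1 (flp_e L795626) (flp_c L791018) L803333
theorem L803339 : sm gj N61223 = N60585 := ded_42_2 (flp_e L795839) (flp_j L791014) L803333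
theorem L803341 : sm gh N61223 = N60546 := ded_43_2 (flp_e L795600) (flp_h L791016) L803333
theorem L803343 : sm gf N61223 = N60235 := ded_40_2 (flp_e L792995) L780684 (flp_e L778925) (flp_f L791012) L803333
theorem L803345 : sm gd N60043 = N61224 := rfl
theorem L803347 : sm ga N61224 = N60669 := ded_12_1 L801198 L801184 L803345
theorem L803349 : sm gf N61224 = N60236 := ded_35_2 (flp_d L793001) (flp_f L791028) L803345
theorem L803351 : sm gj N61224 = N60586 := ded_37_2 (flp_d L795845) (flp_j L791024) L803345
theorem L803353 : sm gc N61224 = N61224 := ded_27_1 (flp_d L803345) L791022 L778920 (flp_c L791022) L803345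
theorem L803354 : sm gh N61224 = N60610 := ded_38_2 (flp_d L796009) (flp_h L794048) L794052 (flp_h L791026) L803345
theorem L803356 : sm ge N60046 = N61225 := rfl
theorem L803358 : sm ga N61225 = N60047 := ded_13_1 (flp_e L791064) L791056 L803356
theorem L803360 : sm gj N61225 = N60055 := ded_42_2 (flp_e L791164) (flp_j L791062) L803356
theorem L803362 : sm gd N61225 = N60626 := ded_34_1 (flp_e L796102) L784048 (flp_e L783672) (flp_d L791058) L803356
theorem L803364 : sm gf N61225 = N60263 := ded_40_2 (flp_e L793227) L780879 (flp_e L778967) (flp_f L791060) L803356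
theorem L803366 : sm ga N60051 = N61226 := rfl
theorem L803368 : sm gc N61226 = N60113 := ded_11_2 (flp_a L791800) (flp_c L791136) L803366
theorem L803370 : sm gf N61226 = N60064 := ded_14_2 (flp_a L791262) (flp_f L791130) L803366
theorem L803372 : sm gj N61226 = N60053 := ded_16_2 (flp_a L791148) (flp_j L791132) L803366
theorem L803374 : sm gh N61226 = N60561 := ded_17_2 (flp_a L795693) (flp_h L791134) L803366
theorem L803376 : sm gb N61226 = N60563 := ded_10_2 (flp_a L795701) (flp_b L783549) (flp_a L779033) L791128 L803366
theorem L803378 : sm ge N60051 = N61227 := rfl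
theorem L803380 : sm gb N61227 = N60052 := ded_21_1 (flp_e L791138) L791128 L803378
theorem L803382 : sm gc N61227 = N60114 := ded_28_1 (flp_e L791808) (flp_c L791136) L803378
theorem L803384 : sm gj N61227 = N60054 := ded_42_2 (flp_e L791156) (flp_j L791132) L803378
theorem L803386 : sm gh N61227 = N60562 := ded_43_2 (flp_e L795697) (flp_h L791134) L803378
theorem L803388 : sm ge N60053 = N61228 := rfl
theorem L803390 : sm ga N61228 = N60054 := ded_13_1 (flp_e L791156) L791148 L803388
theorem L803392 : sm gc N61228 = N60128 := ded_28_1 (flp_e L791961) (flp_c L791150) L803388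
theorem L803394 : sm gg N61228 = N60055 := ded_41_2 (flp_e L791164) (flp_g L791154) L803388
theorem L803396 : sm gd N60055 = N61229 := rfl
theorem L803398 : sm ga N61229 = N60056 := ded_12_1 (flp_d L791170) (flp_a L791166) L803396
theorem L803400 : sm gf N61229 = N60312 := ded_35_2 (flp_d L793629) (flp_f L791168) L803396
theorem L803402 : sm gj N61229 = N60626 := ded_37_2 (flp_d L803362) L803360 L803396
theorem L803404 : sm gi N61229 = N60504 := ded_39_2 (flp_d L803301) L803299 L803396
theorem L803406 : sm ge N61229 = N60443 := ded_34_2 L794870 (flp_e L791116) L791114 L791164 L803396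
theorem L803408 : sm gh N60056 = N61230 := rfl
theorem L803410 : sm gb N61230 = N60057 := ded_25_1 (flp_h L791182) (flp_b L791172) L803408
theorem L803412 : sm ge N61230 = N60437 := ded_43_1 L794839 (flp_e L791180) L803408
theorem L803414 : sm gf N61230 = N60314 := ded_47_1 (flp_h L793639) (flp_f L791174) L803408
theorem L803416 : sm gj N61230 = N60625 := ded_52_1 L796100 (flp_j L791176) L803408
theorem L803418 : sm gi N60057 = N61231 := rfl
theorem L803420 : sm gc N61231 = N60058 := ded_33_1 (flp_i L791192) (flp_c L791184) L803418
theorem L803422 : sm gd N61231 = N60637 := ded_39_1 (flp_i L799983) L799985 L803418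
theorem L803424 : sm ge N61231 = N60116 := ded_44_1 L791834 (flp_e L791186) L803418
theorem L803426 : sm gf N61231 = N60315 := ded_48_1 (flp_i L793643) (flp_f L791188) L803418
theorem L803428 : sm gg N61231 = N60239 := ded_51_1 (flp_i L799879) L799873 L803418
theorem L803430 : sm gj N61231 = N60623 := ded_53_1 L796088 (flp_j L791190) L803418
theorem L803432 : sm gh N61231 = N60491 := ded_54_1 L795237 L783041 (flp_i L779083) L791182 L803418
theorem L803434 : sm ga N60059 = N61232 := rfl
theorem L803436 : sm gc N61232 = N60088 := ded_11_2 (flp_a L791530) (flp_c L791222) L803434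
theorem L803438 : sm gd N61232 = N60563 := ded_12_2 (flp_a L795701) (flp_d L791210) L803434
theorem L803440 : sm ge N61232 = N60589 := ded_13_2 (flp_a L795866) (flp_e L791212) L803434
theorem L803442 : sm gg N61232 = N60592 := ded_15_2 (flp_a L795888) (flp_g L791214) L803434
theorem L803444 : sm gj N61232 = N60060 := ded_16_2 (flp_a L791224) (flp_j L791216) L803434
theorem L803446 : sm gh N61232 = N60581 := ded_17_2 (flp_a L795811) (flp_h L791218) L803434
theorem L803448 : sm gi N61232 = N60064 := ded_18_2 (flp_a L791262) (flp_i L791220) L803434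
theorem L803450 : sm ga N60061 = N61233 := rfl
theorem L803452 : sm gc N61233 = N60101 := ded_11_2 (flp_a L791671) (flp_c L791242) L803450
theorem L803454 : sm gg N61233 = N60064 := ded_15_2 (flp_a L791262) (flp_g L791236) L803450
theorem L803456 : sm gj N61233 = N60595 := ded_16_2 (flp_a L795908) (flp_j L791238) L803450
theorem L803458 : sm gi N61233 = N60592 := ded_18_2 (flp_a L795888) (flp_i L791240) L803450
theorem L803460 : sm ga N60062 = N61234 := rfl
theorem L803462 : sm gc N61234 = N60568 := ded_11_2 (flp_a L795733) (flp_c L791252) L803460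
theorem L803464 : sm gd N61234 = N60064 := ded_12_2 (flp_a L791262) (flp_d L791246) L803460
theorem L803466 : sm gj N61234 = N60067 := ded_16_2 (flp_a L791290) (flp_j L791248) L803460
theorem L803468 : sm gi N61234 = N60563 := ded_18_2 (flp_a L795701) (flp_i L791250) L803460
theorem L803470 : sm ge N60062 = N61235 := rfl
theorem L803472 : sm gb N61235 = N60063 := ded_21_1 (flp_e L791254) L791244 L803470
theorem L803474 : sm gc N61235 = N60569 := ded_28_1 (flp_e L795739) (flp_c L791252) L803470
theorem L803476 : sm gj N61235 = N60068 := ded_42_2 (flp_e L791296) (flp_j L791248) L803470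
theorem L803478 : sm gi N61235 = N60564 := ded_44_2 (flp_e L795707) (flp_i L791250) L803470
theorem L803480 : sm ga N60065 = N61236 := rfl
theorem L803482 : sm gf N61236 = N60578 := ded_14_2 (flp_a L795793) (flp_f L791270) L803480
theorem L803484 : sm gg N61236 = N60601 := ded_15_2 (flp_a L795962) (flp_g L791272) L803480
theorem L803486 : sm gh N61236 = N60067 := ded_17_2 (flp_a L791290) (flp_h L791274) L803480
theorem L803488 : sm gi N61236 = N60584 := ded_18_2 (flp_a L795835) (flp_i L791276) L803480
theorem L803490 : sm ge N60065 = N61237 := rfl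
theorem L803492 : sm gb N61237 = N60066 := ded_21_1 (flp_e L791278) L791268 L803490
theorem L803494 : sm gg N61237 = N60602 := ded_41_2 (flp_e L795968) (flp_g L791272) L803490
theorem L803496 : sm gh N61237 = N60068 := ded_43_2 (flp_e L791296) (flp_h L791274) L803490
theorem L803498 : sm gi N61237 = N60585 := ded_44_2 (flp_e L795839) (flp_i L791276) L803490
theorem L803500 : sm gf N61237 = N60631 := ded_40_2 (flp_e L796134) L784077 (flp_e L783678) (flp_f L791270) L803490
theorem L803502 : sm gd N60066 = N61238 := rfl
theorem L803504 : sm gf N61238 = N60632 := ded_35_2 (flp_d L796140) (flp_f L791288) L803502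
theorem L803506 : sm gg N61238 = N60603 := ded_36_2 (flp_d L795974) (flp_g L791282) L803502
theorem L803508 : sm gi N61238 = N60586 := ded_39_2 (flp_d L795845) (flp_i L791286) L803502
theorem L803510 : sm gc N61238 = N61238 := ded_27_1 (flp_d L803502) L791280 L779188 (flp_c L791280) L803502
theorem L803511 : sm ge N61238 = N60669 := ded_34_2 L801198 (flp_e L801182) L789002 L791278 L803502
theorem L803513 : sm gh N61238 = N60663 := ded_38_2 (flp_d L796348) (flp_h L790748) L790752 (flp_h L791284) L803502
theorem L803515 : sm ge N60067 = N61239 := rfl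
theorem L803517 : sm ga N61239 = N60068 := ded_13_1 (flp_e L791296) L791290 L803515
theorem L803519 : sm gg N61239 = N60604 := ded_41_2 (flp_e L795977) (flp_g L791294) L803515
theorem L803521 : sm gb N60069 = N61240 := rfl
theorem L803523 : sm gd N61240 = N60478 := ded_20_2 (flp_b L795135) (flp_d L791312) L803521
theorem L803525 : sm gf N61240 = N60071 := ded_22_2 (flp_b L791327) (flp_f L791306) L803521
theorem L803527 : sm gj N61240 = N60078 := ded_24_2 (flp_b L791417) (flp_j L791308) L803521
theorem L803529 : sm gh N61240 = N60086 := ded_25_2 (flp_b L791508) (flp_h L791310) L803521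
theorem L803531 : sm gc N61240 = N60579 := ded_19_2 (flp_b L795801) (flp_c L783700) (flp_b L779213) L791302 L803521
theorem L803533 : sm ge N60069 = N61241 := rfl
theorem L803535 : sm ga N61241 = N60144 := ded_13_1 (flp_e L792105) (flp_a L791304) L803533
theorem L803537 : sm gc N61241 = N60070 := ded_28_1 (flp_e L791314) L791302 L803533
theorem L803539 : sm gj N61241 = N60079 := ded_42_2 (flp_e L791423) (flp_j L791308) L803533
theorem L803541 : sm gh N61241 = N60087 := ded_43_2 (flp_e L791518) (flp_h L791310) L803533
theorem L803543 : sm gf N61241 = N60591 := ded_40_2 (flp_e L795880) L783772 (flp_e L779225) (flp_f L791306) L803533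
theorem L803545 : sm ga N60071 = N61242 := rfl
theorem L803547 : sm gc N61242 = N60581 := ded_11_2 (flp_a L795811) (flp_c L791339) L803545
theorem L803549 : sm gd N61242 = N60482 := ded_12_2 (flp_a L795161) (flp_d L791329) L803545
theorem L803551 : sm ge N61242 = N60592 := ded_13_2 (flp_a L795888) (flp_e L791331) L803545
theorem L803553 : sm gg N61242 = N60589 := ded_15_2 (flp_a L795866) (flp_g L791333) L803545
theorem L803555 : sm gj N61242 = N60080 := ded_16_2 (flp_a L791433) (flp_j L791335) L803545
theorem L803557 : sm gh N61242 = N60088 := ded_17_2 (flp_a L791530) (flp_h L791337) L803545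
theorem L803559 : sm gb N61242 = N60145 := ded_10_2 (flp_a L792113) (flp_b L779925) (flp_a L779223) L791327 L803545
theorem L803561 : sm gb N60072 = N61243 := rfl
theorem L803563 : sm gd N61243 = N60078 := ded_20_2 (flp_b L791417) (flp_d L791351) L803561
theorem L803565 : sm gf N61243 = N60074 := ded_22_2 (flp_b L791364) (flp_f L791345) L803561
theorem L803567 : sm gj N61243 = N60478 := ded_24_2 (flp_b L795135) (flp_j L791347) L803561
theorem L803569 : sm gh N61243 = N60455 := ded_25_2 (flp_b L794946) (flp_h L791349) L803561
theorem L803571 : sm gc N61243 = N60461 := ded_19_2 (flp_b L795005) (flp_c L782793) (flp_b L779239) L791341 L803561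
theorem L803573 : sm ge N60072 = N61244 := rfl
theorem L803575 : sm ga N61244 = N60166 := ded_13_1 (flp_e L792326) (flp_a L791343) L803573
theorem L803577 : sm gc N61244 = N60073 := ded_28_1 (flp_e L791353) L791341 L803573
theorem L803579 : sm gj N61244 = N60479 := ded_42_2 (flp_e L795143) (flp_j L791347) L803573
theorem L803581 : sm gh N61244 = N60456 := ded_43_2 (flp_e L794958) (flp_h L791349) L803573
theorem L803583 : sm gf N60073 = N61245 := rfl
theorem L803585 : sm ga N61245 = N60167 := ded_14_1 (flp_f L792330) (flp_a L791355) L803583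
theorem L803587 : sm gb N61245 = N60216 := ded_22_1 L792797 (flp_b L791357) L803583
theorem L803589 : sm gd N61245 = N61245 := ded_35_1 (flp_f L803583) L791363 L803583
theorem L803590 : sm gj N61245 = N60220 := ded_46_2 L792843 (flp_j L791359) L803583
theorem L803592 : sm gh N61245 = N60215 := ded_47_2 L792785 (flp_h L791361) L803583
theorem L803594 : sm ge N61245 = N60076 := ded_40_1 (flp_f L791390) (flp_e L779259) (flp_f L779241) L791353 L803583
theorem L803596 : sm ga N60074 = N61246 := rfl
theorem L803598 : sm gc N61246 = N60466 := ded_11_2 (flp_a L795045) (flp_c L791374) L803596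
theorem L803600 : sm gd N61246 = N60080 := ded_12_2 (flp_a L791433) (flp_d L791366) L803596
theorem L803602 : sm gg N61246 = N60605 := ded_15_2 (flp_a L795981) (flp_g L791368) L803596
theorem L803604 : sm gj N61246 = N60482 := ded_16_2 (flp_a L795161) (flp_j L791370) L803596
theorem L803606 : sm gh N61246 = N60457 := ded_17_2 (flp_a L794966) (flp_h L791372) L803596

end Cfsg.Agent.Helper28.FicA
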