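import Cfsg.Agent.Helper28.FicB46

/-! # The Fi₂₃ presentation, cosets of the subgroup generated by a, …, i: the coset enumeration, part 47 (helper28; generated) -/

set_option autoImplicit false

noncomputable section

namespace Cfsg.Agent.Helper28.FicA

open Cfsg.Agent.Helper28.CosetTable

theorem L803608 : sm gb N61246 = N60168 := ded_10_2 (flp_a L792335) (flp_b L780078) (flp_a L779249) L791364 L803596
theorem L803610 : sm ge N60074 = N61247 := rfl
theorem L803612 : sm gb N61247 = N60075 := ded_21_1 (flp_e L791376) L791364 L803610
theorem L803614 : sm gc N61247 = N60467 := ded_28_1 (flp_e L795051) (flp_c L791374) L803610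
theorem L803616 : sm gg N61247 = N60606 := ded_41_2 (flp_e L795987) (flp_g L791368) L803610
theorem L803618 : sm gj N61247 = N60483 := ded_42_2 (flp_e L795167) (flp_j L791370) L803610
theorem L803620 : sm gh N61247 = N60458 := ded_43_2 (flp_e L794974) (flp_h L791372) L803610
theorem L803622 : sm gd N61247 = N60530 := ded_34_1 (flp_e L795498) L783297 (flp_e L779305) (flp_d L791366) L803610
theorem L803624 : sm gf N60075 = N61248 := rfl
theorem L803626 : sm ga N61248 = N60170 := ded_14_1 (flp_f L792347) (flp_a L791378) L803624
theorem L803628 : sm gc N61248 = N60076 := ded_29_1 (flp_f L791390) (flp_c L791380) L803624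
theorem L803630 : sm gd N61248 = N60531 := ded_35_1 (flp_f L795504) (flp_d L791388) L803624
theorem L803632 : sm gj N61248 = N60311 := ded_46_2 L793625 (flp_j L791384) L803624
theorem L803634 : sm gh N61248 = N60308 := ded_47_2 L793599 (flp_h L791386) L803624
theorem L803636 : sm gg N60076 = N61249 := rfl
theorem L803638 : sm ga N61249 = N60171 := ded_15_1 (flp_g L792351) (flp_a L791392) L803636
theorem L803640 : sm gb N61249 = N60469 := ded_23_1 (flp_g L795067) (flp_b L791394) L803636
theorem L803642 : sm gd N61249 = N60077 := ded_36_1 (flp_g L791402) (flp_d L791396) L803636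
theorem L803644 : sm gh N61249 = N60320 := ded_50_2 L793688 (flp_h L791400) L803636
theorem L803646 : sm gf N61249 = N60133 := ded_45_1 L792004 L779810 (flp_g L779265) L791390 L803636
theorem L803648 : sm gj N61249 = N60323 := ded_49_2 L793716 L781338 (flp_g L781374) (flp_j L791398) L803636
theorem L803650 : sm ga N60078 = N61250 := rfl
theorem L803652 : sm gf N61250 = N60080 := ded_14_2 (flp_a L791433) (flp_f L791419) L803650
theorem L803654 : sm gh N61250 = N60089 := ded_17_2 (flp_a L791542) (flp_h L791421) L803650
theorem L803656 : sm gb N61250 = N60174 := ded_10_2 (flp_a L792379) (flp_b L780124) (flp_a L779288) L791417 L803650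
theorem L803658 : sm ge N60078 = N61251 := rfl
theorem L803660 : sm gb N61251 = N60079 := ded_21_1 (flp_e L791423) L791417 L803658
theorem L803662 : sm gh N61251 = N60090 := ded_43_2 (flp_e L791552) (flp_h L791421) L803658
theorem L803664 : sm gf N61251 = N60602 := ded_40_2 (flp_e L795968) L783876 (flp_e L779305) (flp_f L791419) L803658
theorem L803666 : sm gd N60079 = N61252 := rfl
theorem L803668 : sm ga N61252 = N60176 := ded_12_1 (flp_d L792391) (flp_a L791425) L803666
theorem L803670 : sm gf N61252 = N60603 := ded_35_2 (flp_d L795974) (flp_f L791431) L803666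
theorem L803672 : sm gc N61252 = N61252 := ded_27_1 (flp_d L803666) L791427 L779300 (flp_c L791427) L803666
theorem L803673 : sm gb N60081 = N61253 := rfl
theorem L803675 : sm gd N61253 = N60268 := ded_20_2 (flp_b L793265) (flp_d L791455) L803673
theorem L803677 : sm gf N61253 = N60083 := ded_22_2 (flp_b L791472) (flp_f L791447) L803673
theorem L803679 : sm gj N61253 = N60596 := ded_24_2 (flp_b L795916) (flp_j L791449) L803673
theorem L803681 : sm gh N61253 = N60587 := ded_25_2 (flp_b L795850) (flp_h L791451) L803673
theorem L803683 : sm gi N61253 = N60099 := ded_26_2 (flp_b L791657) (flp_i L791453) L803673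
theorem L803685 : sm gc N61253 = N60590 := ded_19_2 (flp_b L795872) (flp_c L783770) (flp_b L779315) L791443 L803673
theorem L803687 : sm ge N60081 = N61254 := rfl
theorem L803689 : sm ga N61254 = N60181 := ded_13_1 (flp_e L792437) (flp_a L791445) L803687
theorem L803691 : sm gc N61254 = N60082 := ded_28_1 (flp_e L791457) L791443 L803687
theorem L803693 : sm gj N61254 = N60597 := ded_42_2 (flp_e L795926) (flp_j L791449) L803687
theorem L803695 : sm gh N61254 = N60588 := ded_43_2 (flp_e L795860) (flp_h L791451) L803687
theorem L803697 : sm gi N61254 = N60100 := ded_44_2 (flp_e L791663) (flp_i L791453) L803687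
theorem L803699 : sm gf N61254 = N60580 := ded_40_2 (flp_e L795807) L783702 (flp_e L779329) (flp_f L791447) L803687
theorem L803701 : sm ga N60083 = N61255 := rfl
theorem L803703 : sm gc N61255 = N60592 := ded_11_2 (flp_a L795888) (flp_c L791486) L803701
theorem L803705 : sm gd N61255 = N60270 := ded_12_2 (flp_a L793281) (flp_d L791474) L803701
theorem L803707 : sm ge N61255 = N60581 := ded_13_2 (flp_a L795811) (flp_e L791476) L803701
theorem L803709 : sm gg N61255 = N60088 := ded_15_2 (flp_a L791530) (flp_g L791478) L803701
theorem L803711 : sm gj N61255 = N60598 := ded_16_2 (flp_a L795936) (flp_j L791480) L803701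
theorem L803713 : sm gh N61255 = N60589 := ded_17_2 (flp_a L795866) (flp_h L791482) L803701
theorem L803715 : sm gi N61255 = N60101 := ded_18_2 (flp_a L791671) (flp_i L791484) L803701
theorem L803717 : sm gb N61255 = N60182 := ded_10_2 (flp_a L792445) (flp_b L780183) (flp_a L779327) L791472 L803701
theorem L803719 : sm gb N60084 = N61256 := rfl
theorem L803721 : sm gd N61256 = N60677 := ded_20_2 L796449 (flp_d L791496) L803719
theorem L803723 : sm gg N61256 = N60086 := ded_23_2 (flp_b L791508) (flp_g L791492) L803719
theorem L803725 : sm gi N61256 = N60110 := ded_26_2 (flp_b L791778) (flp_i L791494) L803719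
theorem L803727 : sm ge N60084 = N61257 := rfl
theorem L803729 : sm ga N61257 = N60190 := ded_13_1 (flp_e L792535) (flp_a L791490) L803727
theorem L803731 : sm gc N61257 = N60085 := ded_28_1 (flp_e L791498) L791488 L803727
theorem L803733 : sm gg N61257 = N60087 := ded_41_2 (flp_e L791518) (flp_g L791492) L803727
theorem L803735 : sm gi N61257 = N60111 := ded_44_2 (flp_e L791782) (flp_i L791494) L803727
theorem L803737 : sm gf N60085 = N61258 := rfl
theorem L803739 : sm ga N61258 = N60191 := ded_14_1 (flp_f L792543) (flp_a L791500) L803737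
theorem L803741 : sm gd N61258 = N60093 := ded_35_1 (flp_f L791583) (flp_d L791506) L803737
theorem L803743 : sm gi N61258 = N60112 := ded_48_2 (flp_f L791790) (flp_i L791504) L803737
theorem L803745 : sm gg N61258 = N60528 := ded_45_2 (flp_f L795486) L783289 (flp_f L779371) (flp_g L791502) L803737
theorem L803747 : sm ga N60086 = N61259 := rfl
theorem L803749 : sm gd N61259 = N60676 := ded_12_2 L796439 (flp_d L791510) L803747
theorem L803751 : sm gf N61259 = N60088 := ded_14_2 (flp_a L791530) (flp_f L791512) L803747
theorem L803753 : sm gj N61259 = N60089 := ded_16_2 (flp_a L791542) (flp_j L791514) L803747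
theorem L803755 : sm gi N61259 = N60113 := ded_18_2 (flp_a L791800) (flp_i L791516) L803747
theorem L803757 : sm gb N61259 = N60192 := ded_10_2 (flp_a L792549) (flp_b L780269) (flp_a L779351) L791508 L803747
theorem L803759 : sm ge N60086 = N61260 := rfl
theorem L803761 : sm gb N61260 = N60087 := ded_21_1 (flp_e L791518) L791508 L803759
theorem L803763 : sm gj N61260 = N60090 := ded_42_2 (flp_e L791552) (flp_j L791514) L803759
theorem L803765 : sm gi N61260 = N60114 := ded_44_2 (flp_e L791808) (flp_i L791516) L803759
theorem L803767 : sm gf N61260 = N60594 := ded_40_2 (flp_e L795902) L783795 (flp_e L779377) (flp_f L791512) L803759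
theorem L803769 : sm gd N60087 = N61261 := rfl
theorem L803771 : sm ga N61261 = N60194 := ded_12_1 (flp_d L792565) (flp_a L791520) L803769
theorem L803773 : sm gf N61261 = N60386 := ded_35_2 L794389 (flp_f L791528) L803769
theorem L803775 : sm gj N61261 = N60091 := ded_37_2 (flp_d L791560) (flp_j L791524) L803769
theorem L803777 : sm gi N61261 = N60115 := ded_39_2 (flp_d L791814) (flp_i L791526) L803769
theorem L803779 : sm gc N61261 = N60094 := ded_27_1 (flp_d L791593) L779438 (flp_d L779369) (flp_c L791522) L803769
theorem L803781 : sm ge N61261 = N60389 := ded_34_2 L794413 L784391 (flp_d L779359) L791518 L803769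
theorem L803783 : sm ge N60089 = N61262 := rfl
theorem L803785 : sm ga N61262 = N60090 := ded_13_1 (flp_e L791552) L791542 L803783
theorem L803787 : sm gb N61262 = N60209 := ded_21_1 (flp_e L792723) (flp_b L791550) L803783
theorem L803789 : sm gi N61262 = N60128 := ded_44_2 (flp_e L791961) (flp_i L791548) L803783
theorem L803791 : sm gf N61262 = N60604 := ded_40_2 (flp_e L795977) L783894 (flp_e L779405) (flp_f L791546) L803783
theorem L803793 : sm gd N60090 = N61263 := rfl
theorem L803795 : sm gb N61263 = N60091 := ded_20_1 (flp_d L791560) (flp_b L791554) L803793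
theorem L803797 : sm gf N61263 = N60404 := ded_35_2 L794545 (flp_f L791558) L803793
theorem L803799 : sm gi N61263 = N60129 := ded_39_2 (flp_d L791967) (flp_i L791556) L803793
theorem L803801 : sm ge N61263 = N60406 := ded_34_2 L794559 L784579 (flp_d L779385) L791552 L803793
theorem L803803 : sm gh N60091 = N61264 := rfl
theorem L803805 : sm ga N61264 = N60211 := ded_17_1 (flp_h L792739) (flp_a L791562) L803803
theorem L803807 : sm gc N61264 = N60095 := ded_32_1 (flp_h L791605) (flp_c L791568) L803803
theorem L803809 : sm ge N61264 = N60402 := ded_43_1 L794531 (flp_e L791570) L803803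
theorem L803811 : sm gf N61264 = N60399 := ded_47_1 L794505 (flp_f L791564) L803803
theorem L803813 : sm gd N60092 = N61265 := rfl
theorem L803815 : sm ga N61265 = N60214 := ded_12_1 (flp_d L792773) (flp_a L791574) L803813
theorem L803817 : sm gg N61265 = N60094 := ded_36_2 (flp_d L791593) (flp_g L791578) L803813
theorem L803819 : sm gi N61265 = N60133 := ded_39_2 (flp_d L792000) (flp_i L791581) L803813
theorem L803821 : sm ge N61265 = N60390 := ded_34_2 L794421 L782188 (flp_d L779423) L791572 L803813
theorem L803823 : sm gh N60094 = N61266 := rfl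
theorem L803825 : sm ga N61266 = N60216 := ded_17_1 (flp_h L792793) (flp_a L791595) L803823
theorem L803827 : sm ge N61266 = N60384 := ded_43_1 L794367 (flp_e L791603) L803823
theorem L803829 : sm gf N61266 = N60381 := ded_47_1 L794332 (flp_f L791597) L803823
theorem L803831 : sm gj N61266 = N60095 := ded_52_1 (flp_h L791605) (flp_j L791599) L803823
theorem L803833 : sm gd N61266 = N61266 := ded_38_1 (flp_h L803823) (flp_d L791593) L779442 L791593 L803823
theorem L803834 : sm gb N60096 = N61267 := rfl
theorem L803836 : sm gd N61267 = N60099 := ded_20_2 (flp_b L791657) (flp_d L791626) L803834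
theorem L803838 : sm gf N61267 = N60098 := ded_22_2 (flp_b L791643) (flp_f L791618) L803834
theorem L803840 : sm gj N61267 = N60488 := ded_24_2 (flp_b L795207) (flp_j L791620) L803834
theorem L803842 : sm gh N61267 = N60500 := ded_25_2 (flp_b L795282) (flp_h L791622) L803834
theorem L803844 : sm gi N61267 = N60268 := ded_26_2 (flp_b L793265) (flp_i L791624) L803834
theorem L803846 : sm gc N61267 = N60282 := ded_19_2 (flp_b L793386) (flp_c L781011) (flp_b L779461) L791614 L803834
theorem L803848 : sm ge N60096 = N61268 := rfl
theorem L803850 : sm ga N61268 = N60227 := ded_13_1 (flp_e L792914) (flp_a L791616) L803848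
theorem L803852 : sm gc N61268 = N60097 := ded_28_1 (flp_e L791628) L791614 L803848
theorem L803854 : sm gj N61268 = N60489 := ded_42_2 (flp_e L795217) (flp_j L791620) L803848
theorem L803856 : sm gh N61268 = N60501 := ded_43_2 (flp_e L795288) (flp_h L791622) L803848
theorem L803858 : sm gi N61268 = N60269 := ded_44_2 (flp_e L793273) (flp_i L791624) L803848
theorem L803860 : sm gf N61268 = N60628 := ded_40_2 (flp_e L796114) L784056 (flp_e L779475) (flp_f L791618) L803848
theorem L803862 : sm ga N60098 = N61269 := rfl
theorem L803864 : sm gc N61269 = N60288 := ded_11_2 (flp_a L793423) (flp_c L791655) L803862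
theorem L803866 : sm gd N61269 = N60101 := ded_12_2 (flp_a L791671) (flp_d L791645) L803862
theorem L803868 : sm ge N61269 = N60629 := ded_13_2 (flp_a L796120) (flp_e L791647) L803862
theorem L803870 : sm gg N61269 = N60109 := ded_15_2 (flp_a L791764) (flp_g L791649) L803862
theorem L803872 : sm gj N61269 = N60607 := ded_16_2 (flp_a L795991) (flp_j L791651) L803862
theorem L803874 : sm gi N61269 = N60270 := ded_18_2 (flp_a L793281) (flp_i L791653) L803862
theorem L803876 : sm gb N61269 = N60229 := ded_10_2 (flp_a L792937) (flp_b L780631) (flp_a L779473) L791643 L803862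
theorem L803878 : sm ga N60099 = N61270 := rfl
theorem L803880 : sm gf N61270 = N60101 := ded_14_2 (flp_a L791671) (flp_f L791659) L803878
theorem L803882 : sm gj N61270 = N60608 := ded_16_2 (flp_a L795999) (flp_j L791661) L803878
theorem L803884 : sm gb N61270 = N60234 := ded_10_2 (flp_a L792989) (flp_b L780682) (flp_a L779487) L791657 L803878
theorem L803886 : sm ge N60099 = N61271 := rfl
theorem L803888 : sm gb N61271 = N60100 := ded_21_1 (flp_e L791663) L791657 L803886
theorem L803890 : sm gj N61271 = N60609 := ded_42_2 (flp_e L796005) (flp_j L791661) L803886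
theorem L803892 : sm gd N60100 = N61272 := rfl
theorem L803894 : sm ga N61272 = N60236 := ded_12_1 (flp_d L793001) (flp_a L791665) L803892
theorem L803896 : sm gf N61272 = N60669 := ded_35_2 L801198 L801196 L803892
theorem L803898 : sm gj N61272 = N60610 := ded_37_2 (flp_d L796009) (flp_j L791669) L803892
theorem L803900 : sm gc N61272 = N61272 := ded_27_1 (flp_d L803892) L791667 L779499 (flp_c L791667) L803892
theorem L803901 : sm gh N61272 = N60586 := ded_38_2 (flp_d L795845) (flp_h L793968) (flp_d L800815) L800811 L803892
theorem L803903 : sm gb N60102 = N61273 := rfl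
theorem L803905 : sm gf N61273 = N60104 := ded_22_2 (flp_b L791706) (flp_f L791683) L803903
theorem L803907 : sm gj N61273 = N60121 := ded_24_2 (flp_b L791891) (flp_j L791685) L803903
theorem L803909 : sm gh N61273 = N60107 := ded_25_2 (flp_b L791740) (flp_h L791687) L803903
theorem L803911 : sm gi N61273 = N60638 := ded_26_2 (flp_b L796175) (flp_i L791689) L803903
theorem L803913 : sm gc N61273 = N60649 := ded_19_2 (flp_b L796255) (flp_c L784189) (flp_b L779510) L791679 L803903
theorem L803915 : sm ge N60102 = N61274 := rfl
theorem L803917 : sm ga N61274 = N60245 := ded_13_1 (flp_e L793083) (flp_a L791681) L803915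
theorem L803919 : sm gc N61274 = N60103 := ded_28_1 (flp_e L791691) L791679 L803915
theorem L803921 : sm gj N61274 = N60122 := ded_42_2 (flp_e L791897) (flp_j L791685) L803915
theorem L803923 : sm gh N61274 = N60108 := ded_43_2 (flp_e L791752) (flp_h L791687) L803915
theorem L803925 : sm gi N61274 = N60639 := ded_44_2 (flp_e L796183) (flp_i L791689) L803915
theorem L803927 : sm gf N61274 = N60413 := ded_40_2 (flp_e L794618) L782416 (flp_e L779524) (flp_f L791683) L803915
theorem L803929 : sm ga N60104 = N61275 := rfl
theorem L803931 : sm gc N61275 = N60654 := ded_11_2 (flp_a L796286) (flp_c L791716) L803929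
theorem L803933 : sm ge N61275 = N60634 := ded_13_2 (flp_a L796155) (flp_e L791708) L803929
theorem L803935 : sm gj N61275 = N60124 := ded_16_2 (flp_a L791921) (flp_j L791710) L803929
theorem L803937 : sm gh N61275 = N60109 := ded_17_2 (flp_a L791764) (flp_h L791712) L803929
theorem L803939 : sm gi N61275 = N60640 := ded_18_2 (flp_a L796189) (flp_i L791714) L803929
theorem L803941 : sm gb N61275 = N60247 := ded_10_2 (flp_a L793103) (flp_b L780789) (flp_a L779522) L791706 L803929
theorem L803943 : sm gb N60105 = N61276 := rfl
theorem L803945 : sm gd N61276 = N60110 := ded_20_2 (flp_b L791778) (flp_d L791726) L803943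
theorem L803947 : sm gg N61276 = N60107 := ded_23_2 (flp_b L791740) (flp_g L791722) L803943
theorem L803949 : sm gi N61276 = N60677 := ded_26_2 L796449 (flp_i L791724) L803943
theorem L803951 : sm gc N61276 = N60685 := ded_19_2 (flp_b L796499) (flp_c L784477) (flp_b L779536) L791718 L803943
theorem L803953 : sm ge N60105 = N61277 := rfl
theorem L803955 : sm ga N61277 = N60251 := ded_13_1 (flp_e L793137) (flp_a L791720) L803953
theorem L803957 : sm gc N61277 = N60106 := ded_28_1 (flp_e L791728) L791718 L803953
theorem L803959 : sm gg N61277 = N60108 := ded_41_2 (flp_e L791752) (flp_g L791722) L803953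
theorem L803961 : sm gi N61277 = N60675 := ded_44_2 L796433 (flp_i L791724) L803953
theorem L803963 : sm ga N60107 = N61278 := rfl
theorem L803965 : sm gc N61278 = N60690 := ded_11_2 (flp_a L796533) (flp_c L791750) L803963
theorem L803967 : sm gd N61278 = N60113 := ded_12_2 (flp_a L791800) (flp_d L791742) L803963
theorem L803969 : sm gf N61278 = N60109 := ded_14_2 (flp_a L791764) (flp_f L791744) L803963
theorem L803971 : sm gj N61278 = N60125 := ded_16_2 (flp_a L791931) (flp_j L791746) L803963
theorem L803973 : sm gi N61278 = N60676 := ded_18_2 L796439 (flp_i L791748) L803963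
theorem L803975 : sm gb N61278 = N60253 := ded_10_2 (flp_a L793153) (flp_b L780817) (flp_a L779544) L791740 L803963
theorem L803977 : sm ge N60107 = N61279 := rfl
theorem L803979 : sm gb N61279 = N60108 := ded_21_1 (flp_e L791752) L791740 L803977
theorem L803981 : sm gc N61279 = N60691 := ded_28_1 (flp_e L796539) (flp_c L791750) L803977
theorem L803983 : sm gj N61279 = N60126 := ded_42_2 (flp_e L791941) (flp_j L791746) L803977
theorem L803985 : sm gi N61279 = N60674 := ded_44_2 L796427 (flp_i L791748) L803977
theorem L803987 : sm gf N61279 = N60415 := ded_40_2 (flp_e L794636) L782435 (flp_e L779572) (flp_f L791744) L803977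
theorem L803989 : sm gd N60108 = N61280 := rfl
theorem L803991 : sm ga N61280 = N60255 := ded_12_1 (flp_d L793167) (flp_a L791754) L803989
theorem L803993 : sm gf N61280 = N60357 := ded_35_2 L794102 (flp_f L791762) L803989
theorem L803995 : sm gj N61280 = N60127 := ded_37_2 (flp_d L791949) (flp_j L791758) L803989
theorem L803997 : sm gi N61280 = N60389 := ded_39_2 L794413 (flp_i L791760) L803989
theorem L803999 : sm gc N61280 = N60132 := ded_27_1 (flp_d L791988) L779778 (flp_d L779564) (flp_c L791756) L803989
theorem L804001 : sm ge N61280 = N60115 := ded_34_2 (flp_d L791814) (flp_e L779600) (flp_d L779552) L791752 L803989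
theorem L804003 : sm ga N60110 = N61281 := rfl
theorem L804005 : sm gg N61281 = N60113 := ded_15_2 (flp_a L791800) (flp_g L791780) L804003
theorem L804007 : sm gb N61281 = N60259 := ded_10_2 (flp_a L793207) (flp_b L780863) (flp_a L779582) L791778 L804003
theorem L804009 : sm ge N60110 = N61282 := rfl
theorem L804011 : sm gb N61282 = N60111 := ded_21_1 (flp_e L791782) L791778 L804009
theorem L804013 : sm gg N61282 = N60114 := ded_41_2 (flp_e L791808) (flp_g L791780) L804009
theorem L804015 : sm gd N60111 = N61283 := rfl
theorem L804017 : sm ga N61283 = N60261 := ded_12_1 (flp_d L793217) (flp_a L791784) L804015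
theorem L804019 : sm gg N61283 = N60115 := ded_36_2 (flp_d L791814) (flp_g L791788) L804015
theorem L804021 : sm gc N61283 = N60133 := ded_27_1 (flp_d L792000) L779791 (flp_d L779592) (flp_c L791786) L804015
theorem L804023 : sm gf N60111 = N61284 := rfl
theorem L804025 : sm ga N61284 = N60262 := ded_14_1 (flp_f L793223) (flp_a L791784) L804023
theorem L804027 : sm gc N61284 = N60112 := ded_29_1 (flp_f L791790) (flp_c L791786) L804023
theorem L804029 : sm gh N61284 = N60537 := ded_47_2 (flp_f L796945) L796951 L804023
theorem L804031 : sm gg N61284 = N60531 := ded_45_2 (flp_f L795504) (flp_g L788838) L788848 (flp_g L791788) L804023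
theorem L804033 : sm ge N60113 = N61285 := rfl
theorem L804035 : sm ga N61285 = N60114 := ded_13_1 (flp_e L791808) L791800 L804033
theorem L804037 : sm gb N61285 = N60263 := ded_21_1 (flp_e L793227) (flp_b L791806) L804033
theorem L804039 : sm gj N61285 = N60128 := ded_42_2 (flp_e L791961) (flp_j L791804) L804033
theorem L804041 : sm gd N60114 = N61286 := rfl
theorem L804043 : sm gb N61286 = N60115 := ded_20_1 (flp_d L791814) (flp_b L791810) L804041
theorem L804045 : sm gf N61286 = N60606 := ded_35_2 (flp_d L801032) L801034 L804041
theorem L804047 : sm gj N61286 = N60129 := ded_37_2 (flp_d L791967) (flp_j L791812) L804041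
theorem L804049 : sm gb N60116 = N61287 := rfl
theorem L804051 : sm gd N61287 = N60117 := ded_20_2 (flp_b L791838) (flp_d L791836) L804049
theorem L804053 : sm gf N61287 = N60438 := ded_22_2 (flp_b L794841) (flp_f L791826) L804049
theorem L804055 : sm gg N61287 = N60238 := ded_23_2 (flp_b L793018) (flp_g L791828) L804049
theorem L804057 : sm gj N61287 = N60622 := ded_24_2 (flp_b L796078) (flp_j L791830) L804049
theorem L804059 : sm gh N61287 = N60490 := ded_25_2 (flp_b L795227) (flp_h L791832) L804049
theorem L804061 : sm gi N61287 = N60437 := ded_26_2 (flp_b L794831) (flp_i L791834) L804049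
theorem L804063 : sm gc N61287 = N60250 := ded_19_2 (flp_b L793131) (flp_c L780805) (flp_b L779616) L791824 L804049
theorem L804065 : sm ga N60117 = N61288 := rfl
theorem L804067 : sm gc N61288 = N60124 := ded_11_2 (flp_a L791921) (flp_c L791850) L804065
theorem L804069 : sm ge N61288 = N60640 := ded_13_2 (flp_a L796189) (flp_e L791840) L804065
theorem L804071 : sm gg N61288 = N60613 := ded_15_2 (flp_a L796026) (flp_g L791842) L804065
theorem L804073 : sm gj N61288 = N60654 := ded_16_2 (flp_a L796286) (flp_j L791844) L804065
theorem L804075 : sm gh N61288 = N60118 := ded_17_2 (flp_a L791852) (flp_h L791846) L804065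
theorem L804077 : sm gi N61288 = N60634 := ded_18_2 (flp_a L796155) (flp_i L791848) L804065
theorem L804079 : sm gb N60119 = N61289 := rfl
theorem L804081 : sm gf N61289 = N60123 := ded_22_2 (flp_b L791907) (flp_f L791868) L804079
theorem L804083 : sm gj N61289 = N60638 := ded_24_2 (flp_b L796175) (flp_j L791870) L804079
theorem L804085 : sm gh N61289 = N60409 := ded_25_2 (flp_b L794576) (flp_h L791872) L804079
theorem L804087 : sm gi N61289 = N60121 := ded_26_2 (flp_b L791891) (flp_i L791874) L804079
theorem L804089 : sm gc N61289 = N60412 := ded_19_2 (flp_b L794608) (flp_c L782414) (flp_b L779656) L791864 L804079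
theorem L804091 : sm ge N60119 = N61290 := rfl
theorem L804093 : sm ga N61290 = N60283 := ded_13_1 (flp_e L793392) (flp_a L791866) L804091
theorem L804095 : sm gc N61290 = N60120 := ded_28_1 (flp_e L791876) L791864 L804091
theorem L804097 : sm gj N61290 = N60639 := ded_42_2 (flp_e L796183) (flp_j L791870) L804091
theorem L804099 : sm gh N61290 = N60410 := ded_43_2 (flp_e L794588) (flp_h L791872) L804091
theorem L804101 : sm gi N61290 = N60122 := ded_44_2 (flp_e L791897) (flp_i L791874) L804091
theorem L804103 : sm gf N61290 = N60650 := ded_40_2 (flp_e L796263) L784191 (flp_e L779687) (flp_f L791868) L804091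
theorem L804105 : sm ga N60121 = N61291 := rfl
theorem L804107 : sm gf N61291 = N60124 := ded_14_2 (flp_a L791921) (flp_f L791893) L804105
theorem L804109 : sm gh N61291 = N60125 := ded_17_2 (flp_a L791931) (flp_h L791895) L804105
theorem L804111 : sm gb N61291 = N60284 := ded_10_2 (flp_a L793398) (flp_b L781022) (flp_a L779668) L791891 L804105
theorem L804113 : sm ge N60121 = N61292 := rfl
theorem L804115 : sm gb N61292 = N60122 := ded_21_1 (flp_e L791897) L791891 L804113
theorem L804117 : sm gh N61292 = N60126 := ded_43_2 (flp_e L791941) (flp_h L791895) L804113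
theorem L804119 : sm gf N61292 = N60652 := ded_40_2 (flp_e L796277) L784206 (flp_e L779699) (flp_f L791893) L804113
theorem L804121 : sm gd N60122 = N61293 := rfl
theorem L804123 : sm ga N61293 = N60286 := ded_12_1 (flp_d L793410) (flp_a L791899) L804121
theorem L804125 : sm gf N61293 = N60653 := ded_35_2 (flp_d L796283) (flp_f L791905) L804121
theorem L804127 : sm gc N61293 = N61293 := ded_27_1 (flp_d L804121) L791901 L779680 (flp_c L791901) L804121
theorem L804128 : sm ga N60123 = N61294 := rfl
theorem L804130 : sm gc N61294 = N60634 := ded_11_2 (flp_a L796155) (flp_c L791919) L804128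
theorem L804132 : sm ge N61294 = N60654 := ded_13_2 (flp_a L796286) (flp_e L791909) L804128
theorem L804134 : sm gg N61294 = N60614 := ded_15_2 (flp_a L796032) (flp_g L791911) L804128
theorem L804136 : sm gj N61294 = N60640 := ded_16_2 (flp_a L796189) (flp_j L791913) L804128
theorem L804138 : sm gh N61294 = N60633 := ded_17_2 (flp_a L796145) (flp_h L791915) L804128
theorem L804140 : sm gi N61294 = N60124 := ded_18_2 (flp_a L791921) (flp_i L791917) L804128
theorem L804142 : sm gb N61294 = N60288 := ded_10_2 (flp_a L793423) (flp_b L781045) (flp_a L779685) L791907 L804128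
theorem L804144 : sm ge N60125 = N61295 := rfl
theorem L804146 : sm ga N61295 = N60126 := ded_13_1 (flp_e L791941) L791931 L804144
theorem L804148 : sm gb N61295 = N60301 := ded_21_1 (flp_e L793539) (flp_b L791939) L804144
theorem L804150 : sm gi N61295 = N60696 := ded_44_2 L796575 (flp_i L791937) L804144
theorem L804152 : sm gf N61295 = N60659 := ded_40_2 (flp_e L796326) L784268 (flp_e L779727) (flp_f L791935) L804144
theorem L804154 : sm gd N60126 = N61296 := rfl
theorem L804156 : sm gb N61296 = N60127 := ded_20_1 (flp_d L791949) (flp_b L791943) L804154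
theorem L804158 : sm gf N61296 = N60368 := ded_35_2 L794212 (flp_f L791947) L804154
theorem L804160 : sm gi N61296 = N60406 := ded_39_2 L794559 (flp_i L791945) L804154
theorem L804162 : sm ge N61296 = N60129 := ded_34_2 (flp_d L791967) (flp_e L779741) (flp_d L779707) L791941 L804154
theorem L804164 : sm gh N60127 = N61297 := rfl
theorem L804166 : sm ga N61297 = N60304 := ded_17_1 (flp_h L793563) (flp_a L791951) L804164
theorem L804168 : sm gc N61297 = N60134 := ded_32_1 (flp_h L792006) (flp_c L791957) L804164
theorem L804170 : sm ge N61297 = N60130 := ded_43_1 (flp_h L791971) (flp_e L791959) L804164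
theorem L804172 : sm gf N61297 = N60366 := ded_47_1 L794196 (flp_f L791953) L804164
theorem L804174 : sm gd N60128 = N61298 := rfl
theorem L804176 : sm ga N61298 = N60129 := ded_12_1 (flp_d L791967) (flp_a L791963) L804174
theorem L804178 : sm gb N61298 = N60312 := ded_20_1 (flp_d L793629) (flp_b L791965) L804174
theorem L804180 : sm gh N60129 = N61299 := rfl
theorem L804182 : sm gb N61299 = N60130 := ded_25_1 (flp_h L791971) (flp_b L791969) L804180
theorem L804184 : sm gi N60130 = N61300 := rfl
theorem L804186 : sm ga N61300 = N60315 := ded_18_1 (flp_i L793643) (flp_a L791973) L804184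
theorem L804188 : sm gc N61300 = N60135 := ded_33_1 (flp_i L792015) (flp_c L791975) L804184
theorem L804190 : sm gd N60131 = N61301 := rfl
theorem L804192 : sm ga N61301 = N60317 := ded_12_1 (flp_d L793657) (flp_a L791979) L804190
theorem L804194 : sm gg N61301 = N60132 := ded_36_2 (flp_d L791988) (flp_g L791983) L804190
theorem L804196 : sm gi N61301 = N60390 := ded_39_2 L794421 (flp_i L791986) L804190
theorem L804198 : sm ge N61301 = N60133 := ded_34_2 (flp_d L792000) (flp_e L779787) (flp_d L779761) L791977 L804190
theorem L804200 : sm ga N60136 = N61302 := rfl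
theorem L804202 : sm gc N61302 = N60660 := ded_11_2 (flp_a L796332) (flp_c L792031) L804200
theorem L804204 : sm gg N61302 = N60145 := ded_15_2 (flp_a L792113) (flp_g L792023) L804200
theorem L804206 : sm gj N61302 = N60445 := ded_16_2 (flp_a L794884) (flp_j L792025) L804200
theorem L804208 : sm gh N61302 = N60182 := ded_17_2 (flp_a L792445) (flp_h L792027) L804200
theorem L804210 : sm gi N61302 = N60506 := ded_18_2 (flp_a L795314) (flp_i L792029) L804200
theorem L804212 : sm gb N61302 = N60589 := ded_10_2 (flp_a L795866) (flp_b L783764) (flp_a L779854) L792021 L804200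
theorem L804214 : sm gb N60137 = N61303 := rfl
theorem L804216 : sm gf N61303 = N60646 := ded_22_2 (flp_b L796236) (flp_f L792037) L804214
theorem L804218 : sm gg N61303 = N60198 := ded_23_2 (flp_b L792613) (flp_g L792039) L804214
theorem L804220 : sm gj N61303 = N60153 := ded_24_2 (flp_b L792201) (flp_j L792041) L804214
theorem L804222 : sm gh N61303 = N60201 := ded_25_2 (flp_b L792645) (flp_h L792043) L804214
theorem L804224 : sm gc N61303 = N60140 := ded_19_2 (flp_b L792072) (flp_c L779892) (flp_b L779868) L792033 L804214
theorem L804226 : sm gb N60138 = N61304 := rfl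
theorem L804228 : sm gd N61304 = N60143 := ded_20_2 (flp_b L792097) (flp_d L792057) L804226
theorem L804230 : sm gf N61304 = N60140 := ded_22_2 (flp_b L792072) (flp_f L792049) L804226
theorem L804232 : sm gg N61304 = N60638 := ded_23_2 (flp_b L796175) (flp_g L792051) L804226
theorem L804234 : sm gj N61304 = N60165 := ded_24_2 (flp_b L792320) (flp_j L792053) L804226
theorem L804236 : sm gh N61304 = N60475 := ded_25_2 (flp_b L795107) (flp_h L792055) L804226
theorem L804238 : sm gc N61304 = N60646 := ded_19_2 (flp_b L796236) (flp_c L784176) (flp_b L779882) L792045 L804226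
theorem L804240 : sm ge N60138 = N61305 := rfl
theorem L804242 : sm ga N61305 = N60479 := ded_13_1 (flp_e L795143) (flp_a L792047) L804240
theorem L804244 : sm gc N61305 = N60139 := ded_28_1 (flp_e L792059) L792045 L804240
theorem L804246 : sm gg N61305 = N60639 := ded_41_2 (flp_e L796183) (flp_g L792051) L804240
theorem L804248 : sm gj N61305 = N60166 := ded_42_2 (flp_e L792326) (flp_j L792053) L804240
theorem L804250 : sm gh N61305 = N60476 := ded_43_2 (flp_e L795119) (flp_h L792055) L804240
theorem L804252 : sm ga N60140 = N61306 := rfl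
theorem L804254 : sm gd N61306 = N60145 := ded_12_2 (flp_a L792113) (flp_d L792074) L804252
theorem L804256 : sm gj N61306 = N60168 := ded_16_2 (flp_a L792335) (flp_j L792076) L804252
theorem L804258 : sm gh N61306 = N60477 := ded_17_2 (flp_a L795129) (flp_h L792078) L804252
theorem L804260 : sm gb N61306 = N60482 := ded_10_2 (flp_a L795161) (flp_b L782951) (flp_a L779894) L792072 L804252
theorem L804262 : sm gb N60141 = N61307 := rfl
theorem L804264 : sm gd N61307 = N60638 := ded_20_2 (flp_b L796175) (flp_d L792088) L804262
theorem L804266 : sm gf N61307 = N60636 := ded_22_2 (flp_b L796167) (flp_f L792082) L804262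
theorem L804268 : sm gg N61307 = N60143 := ded_23_2 (flp_b L792097) (flp_g L792084) L804262
theorem L804270 : sm gh N61307 = N60189 := ded_25_2 (flp_b L792529) (flp_h L792086) L804262
theorem L804272 : sm ge N60141 = N61308 := rfl
theorem L804274 : sm gc N61308 = N60142 := ded_28_1 (flp_e L792090) L792080 L804272
theorem L804276 : sm gg N61308 = N60144 := ded_41_2 (flp_e L792105) (flp_g L792084) L804272
theorem L804278 : sm gh N61308 = N60190 := ded_43_2 (flp_e L792535) (flp_h L792086) L804272
theorem L804280 : sm ga N60143 = N61309 := rfl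
theorem L804282 : sm gf N61309 = N60145 := ded_14_2 (flp_a L792113) (flp_f L792099) L804280
theorem L804284 : sm gj N61309 = N60174 := ded_16_2 (flp_a L792379) (flp_j L792101) L804280
theorem L804286 : sm gh N61309 = N60192 := ded_17_2 (flp_a L792549) (flp_h L792103) L804280
theorem L804288 : sm ge N60143 = N61310 := rfl
theorem L804290 : sm gb N61310 = N60144 := ded_21_1 (flp_e L792105) L792097 L804288
theorem L804292 : sm gj N61310 = N60175 := ded_42_2 (flp_e L792385) (flp_j L792101) L804288
theorem L804294 : sm gh N61310 = N60193 := ded_43_2 (flp_e L792557) (flp_h L792103) L804288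
theorem L804296 : sm gd N60144 = N61311 := rfl
theorem L804298 : sm gj N61311 = N60176 := ded_37_2 (flp_d L792391) (flp_j L792109) L804296
theorem L804300 : sm gc N61311 = N61311 := ded_27_1 (flp_d L804296) L792107 L779924 (flp_c L792107) L804296
theorem L804301 : sm gb N60146 = N61312 := rfl
theorem L804303 : sm gg N61312 = N60615 := ded_23_2 (flp_b L796038) (flp_g L792123) L804301
theorem L804305 : sm gj N61312 = N60392 := ded_24_2 (flp_b L794439) (flp_j L792125) L804301
theorem L804307 : sm gh N61312 = N60377 := ded_25_2 (flp_b L794292) (flp_h L792127) L804301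
theorem L804309 : sm gc N61312 = N60382 := ded_19_2 (flp_b L794335) (flp_c L782112) (flp_b L779935) L792119 L804301
theorem L804311 : sm ge N60146 = N61313 := rfl
theorem L804313 : sm ga N61313 = N60154 := ded_13_1 (flp_e L792207) (flp_a L792121) L804311
theorem L804315 : sm gc N61313 = N60147 := ded_28_1 (flp_e L792129) L792119 L804311
theorem L804317 : sm gg N61313 = N60616 := ded_41_2 (flp_e L796044) (flp_g L792123) L804311
theorem L804319 : sm gj N61313 = N60393 := ded_42_2 (flp_e L794447) (flp_j L792125) L804311
theorem L804321 : sm gh N61313 = N60378 := ded_43_2 (flp_e L794298) (flp_h L792127) L804311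
theorem L804323 : sm gf N60147 = N61314 := rfl
theorem L804325 : sm ga N61314 = N60155 := ded_14_1 (flp_f L792213) (flp_a L792131) L804323
theorem L804327 : sm gb N61314 = N60384 := ded_22_1 (flp_f L794359) (flp_b L792133) L804323
theorem L804329 : sm gd N61314 = N60149 := ded_35_1 (flp_f L792157) (flp_d L792141) L804323
theorem L804331 : sm gj N61314 = N60394 := ded_46_2 (flp_f L794455) (flp_j L792137) L804323
theorem L804333 : sm gh N61314 = N60379 := ded_47_2 (flp_f L794304) (flp_h L792139) L804323
theorem L804335 : sm gd N60148 = N61315 := rfl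
theorem L804337 : sm ga N61315 = N60156 := ded_12_1 (flp_d L792221) (flp_a L792145) L804335
theorem L804339 : sm gb N61315 = N60390 := ded_20_1 L794421 (flp_b L792147) L804335
theorem L804341 : sm gg N61315 = N60379 := ded_36_2 L794310 (flp_g L792151) L804335
theorem L804343 : sm gj N61315 = N60408 := ded_37_2 (flp_d L794572) (flp_j L792153) L804335
theorem L804345 : sm gf N60148 = N61316 := rfl
theorem L804347 : sm ga N61316 = N60157 := ded_14_1 (flp_f L792225) (flp_a L792145) L804345
theorem L804349 : sm gb N61316 = N60337 := ded_22_1 L793857 (flp_b L792147) L804345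
theorem L804351 : sm gc N61316 = N60149 := ded_29_1 (flp_f L792157) (flp_c L792149) L804345
theorem L804353 : sm gj N61316 = N60407 := ded_46_2 L794570 (flp_j L792153) L804345
theorem L804355 : sm gh N61316 = N60333 := ded_47_2 (flp_f L793815) (flp_h L792155) L804345
theorem L804357 : sm ge N61316 = N61316 := ded_40_1 (flp_f L804345) (flp_e L792143) L779947 L792143 L804345
theorem L804358 : sm gg N61316 = N60336 := ded_45_2 L793846 L782016 L782088 (flp_g L792151) L804345
theorem L804360 : sm gg N60149 = N61317 := rfl
theorem L804362 : sm ga N61317 = N60158 := ded_15_1 (flp_g L792238) (flp_a L792159) L804360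
theorem L804364 : sm gb N61317 = N60407 := ded_23_1 (flp_g L794561) (flp_b L792161) L804360
theorem L804366 : sm gc N61317 = N60336 := ded_30_1 (flp_g L804358) L804351 L804360
theorem L804368 : sm ge N61317 = N61317 := ded_41_1 (flp_g L804360) L792167 L804360
theorem L804369 : sm gh N61317 = N60334 := ded_50_2 L793831 (flp_h L792165) L804360
theorem L804371 : sm gf N61317 = N60321 := ded_45_1 L793700 L781324 (flp_g L779962) L792157 L804360
theorem L804373 : sm gj N61317 = N60337 := ded_49_2 L793859 L782052 (flp_g L782379) (flp_j L792163) L804360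
theorem L804375 : sm gb N60150 = N61318 := rfl
theorem L804377 : sm gd N61318 = N60204 := ded_20_2 (flp_b L792677) (flp_d L792182) L804375
theorem L804379 : sm gf N61318 = N60655 := ded_22_2 (flp_b L796292) (flp_f L792172) L804375
theorem L804381 : sm gg N61318 = N60617 := ded_23_2 (flp_b L796052) (flp_g L792174) L804375
theorem L804383 : sm gj N61318 = N60201 := ded_24_2 (flp_b L792645) (flp_j L792176) L804375
theorem L804385 : sm gh N61318 = N60153 := ded_25_2 (flp_b L792201) (flp_h L792178) L804375
theorem L804387 : sm gi N61318 = N60295 := ded_26_2 (flp_b L793493) (flp_i L792180) L804375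
theorem L804389 : sm gc N61318 = N60162 := ded_19_2 (flp_b L792293) (flp_c L780049) (flp_b L779972) L792168 L804375
theorem L804391 : sm gb N60151 = N61319 := rfl
theorem L804393 : sm gf N61319 = N60153 := ded_22_2 (flp_b L792201) (flp_f L792186) L804391
theorem L804395 : sm gj N61319 = N60646 := ded_24_2 (flp_b L796236) (flp_j L792188) L804391
theorem L804397 : sm gh N61319 = N60655 := ded_25_2 (flp_b L796292) (flp_h L792190) L804391
theorem L804399 : sm gc N61319 = N60165 := ded_19_2 (flp_b L792320) (flp_c L780069) (flp_b L779986) L792184 L804391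
theorem L804401 : sm ge N60151 = N61320 := rfl
theorem L804403 : sm gc N61320 = N60152 := ded_28_1 (flp_e L792192) L792184 L804401
theorem L804405 : sm gj N61320 = N60647 := ded_42_2 (flp_e L796242) (flp_j L792188) L804401
theorem L804407 : sm gh N61320 = N60656 := ded_43_2 (flp_e L796300) (flp_h L792190) L804401
theorem L804409 : sm gf N60152 = N61321 := rfl
theorem L804411 : sm gb N61321 = N60167 := ded_22_1 (flp_f L792330) (flp_b L792194) L804409
theorem L804413 : sm gd N61321 = N61321 := ded_35_1 (flp_f L804409) L792200 L804409
theorem L804414 : sm gj N61321 = N60648 := ded_46_2 (flp_f L796250) (flp_j L792196) L804409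
theorem L804416 : sm gh N61321 = N60411 := ded_47_2 L794600 (flp_h L792198) L804409
theorem L804418 : sm ge N61321 = N60155 := ded_40_1 (flp_f L792213) (flp_e L779998) (flp_f L779988) L792192 L804409
theorem L804420 : sm ga N60153 = N61322 := rfl
theorem L804422 : sm gc N61322 = N60168 := ded_11_2 (flp_a L792335) (flp_c L792205) L804420
theorem L804424 : sm gg N61322 = N60619 := ded_15_2 (flp_a L796064) (flp_g L792203) L804420
theorem L804426 : sm ge N60153 = N61323 := rfl
theorem L804428 : sm gb N61323 = N60154 := ded_21_1 (flp_e L792207) L792201 L804426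
theorem L804430 : sm gc N61323 = N60169 := ded_28_1 (flp_e L792341) (flp_c L792205) L804426
theorem L804432 : sm gg N61323 = N60620 := ded_41_2 (flp_e L796068) (flp_g L792203) L804426
theorem L804434 : sm gd N60154 = N61324 := rfl
theorem L804436 : sm gg N61324 = N60621 := ded_36_2 (flp_d L796074) (flp_g L792211) L804434
theorem L804438 : sm gc N61324 = N60156 := ded_27_1 (flp_d L792221) L780008 (flp_d L780004) (flp_c L792209) L804434
theorem L804440 : sm gf N60154 = N61325 := rfl
theorem L804442 : sm gc N61325 = N60155 := ded_29_1 (flp_f L792213) (flp_c L792209) L804440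
theorem L804444 : sm gh N61325 = N60621 := ded_47_2 (flp_f L800403) L800409 L804440
theorem L804446 : sm gg N60155 = N61326 := rfl
theorem L804448 : sm gb N61326 = N60171 := ded_23_1 (flp_g L792351) (flp_b L792215) L804446
theorem L804450 : sm gd N61326 = N60158 := ded_36_1 (flp_g L792238) (flp_d L792217) L804446
theorem L804452 : sm gh N61326 = N60156 := ded_50_2 L792223 (flp_h L792219) L804446
theorem L804454 : sm gf N61326 = N60322 := ded_45_1 L793710 L781330 (flp_g L780002) L792213 L804446
theorem L804456 : sm gj N61326 = N60338 := ded_49_2 L793865 (flp_j L785876) L798037 (flp_j L798051) L804446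
theorem L804458 : sm gf N60156 = N61327 := rfl
theorem L804460 : sm gb N61327 = N60323 := ded_22_1 (flp_f L798208) L798206 L804458
theorem L804462 : sm gd N61327 = N60157 := ded_35_1 (flp_f L792225) L792221 L804458
theorem L804464 : sm gj N61327 = N60469 := ded_46_2 (flp_f L797719) L797721 L804458
theorem L804466 : sm gh N61327 = N60322 := ded_47_2 (flp_f L804454) L804452 L804458
theorem L804468 : sm gg N61327 = N60326 := ded_45_2 L793740 (flp_g L788226) L788224 (flp_g L792223) L804458
theorem L804470 : sm gb N60159 = N61328 := rfl
theorem L804472 : sm gd N61328 = N60198 := ded_20_2 (flp_b L792613) (flp_d L792263) L804470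
theorem L804474 : sm gf N61328 = N60162 := ded_22_2 (flp_b L792293) (flp_f L792255) L804470
theorem L804476 : sm gj N61328 = N60475 := ded_24_2 (flp_b L795107) (flp_j L792257) L804470
theorem L804478 : sm gh N61328 = N60165 := ded_25_2 (flp_b L792320) (flp_h L792259) L804470
theorem L804480 : sm gi N61328 = N60615 := ded_26_2 (flp_b L796038) (flp_i L792261) L804470
theorem L804482 : sm gc N61328 = N60655 := ded_19_2 (flp_b L796292) (flp_c L784226) (flp_b L780025) L792251 L804470
theorem L804484 : sm ge N60159 = N61329 := rfl
theorem L804486 : sm ga N61329 = N60456 := ded_13_1 (flp_e L794958) (flp_a L792253) L804484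
theorem L804488 : sm gc N61329 = N60160 := ded_28_1 (flp_e L792265) L792251 L804484
theorem L804490 : sm gj N61329 = N60476 := ded_42_2 (flp_e L795119) (flp_j L792257) L804484
theorem L804492 : sm gh N61329 = N60166 := ded_43_2 (flp_e L792326) (flp_h L792259) L804484
theorem L804494 : sm gi N61329 = N60616 := ded_44_2 (flp_e L796044) (flp_i L792261) L804484
theorem L804496 : sm gb N60161 = N61330 := rfl
theorem L804498 : sm gd N61330 = N60199 := ded_20_2 (flp_b L792621) (flp_d L792291) L804496
theorem L804500 : sm gf N61330 = N60615 := ded_22_2 (flp_b L796038) (flp_f L792283) L804496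
theorem L804502 : sm gg N61330 = N60622 := ded_23_2 (flp_b L796078) (flp_g L792285) L804496
theorem L804504 : sm gj N61330 = N60271 := ded_24_2 (flp_b L793291) (flp_j L792287) L804496
theorem L804506 : sm gi N61330 = N60162 := ded_26_2 (flp_b L792293) (flp_i L792289) L804496
theorem L804508 : sm gc N61330 = N60295 := ded_19_2 (flp_b L793493) (flp_c L781097) (flp_b L780039) L792279 L804496
theorem L804510 : sm ga N60162 = N61331 := rfl
theorem L804512 : sm gd N61331 = N60200 := ded_12_2 (flp_a L792633) (flp_d L792295) L804510
theorem L804514 : sm gg N61331 = N60624 := ded_15_2 (flp_a L796090) (flp_g L792297) L804510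
theorem L804516 : sm gj N61331 = N60477 := ded_16_2 (flp_a L795129) (flp_j L792299) L804510
theorem L804518 : sm gh N61331 = N60168 := ded_17_2 (flp_a L792335) (flp_h L792301) L804510
theorem L804520 : sm gb N61331 = N60457 := ded_10_2 (flp_a L794966) (flp_b L782767) (flp_a L780051) L792293 L804510
theorem L804522 : sm gb N60163 = N61332 := rfl
theorem L804524 : sm gd N61332 = N60172 := ded_20_2 (flp_b L792357) (flp_d L792311) L804522
theorem L804526 : sm gf N61332 = N60418 := ded_22_2 (flp_b L794659) (flp_f L792305) L804522
theorem L804528 : sm gg N61332 = N60165 := ded_23_2 (flp_b L792320) (flp_g L792307) L804522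
theorem L804530 : sm gi N61332 = N60446 := ded_26_2 (flp_b L794896) (flp_i L792309) L804522
theorem L804532 : sm ge N60163 = N61333 := rfl
theorem L804534 : sm gc N61333 = N60164 := ded_28_1 (flp_e L792313) L792303 L804532
theorem L804536 : sm gg N61333 = N60166 := ded_41_2 (flp_e L792326) (flp_g L792307) L804532
theorem L804538 : sm gi N61333 = N60447 := ded_44_2 (flp_e L794902) (flp_i L792309) L804532
theorem L804540 : sm gf N60164 = N61334 := rfl
theorem L804542 : sm gd N61334 = N61334 := ded_35_1 (flp_f L804540) L792319 L804540
theorem L804543 : sm gi N61334 = N60448 := ded_48_2 (flp_f L794906) (flp_i L792317) L804540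
theorem L804545 : sm ge N61334 = N60420 := ded_40_1 (flp_f L794677) (flp_e L782475) (flp_f L780063) L792313 L804540
theorem L804547 : sm ga N60165 = N61335 := rfl
theorem L804549 : sm gd N61335 = N60174 := ded_12_2 (flp_a L792379) (flp_d L792322) L804547
theorem L804551 : sm gf N61335 = N60168 := ded_14_2 (flp_a L792335) (flp_f L792324) L804547
theorem L804553 : sm ge N60165 = N61336 := rfl
theorem L804555 : sm gb N61336 = N60166 := ded_21_1 (flp_e L792326) L792320 L804553
theorem L804557 : sm gd N60166 = N61337 := rfl
theorem L804559 : sm gc N61337 = N61337 := ded_27_1 (flp_d L804557) L792328 L780077 (flp_c L792328) L804557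
theorem L804560 : sm ge N61337 = N60176 := ded_34_2 (flp_d L792391) (flp_e L780130) (flp_d L780073) L792326 L804557
theorem L804562 : sm gf N60166 = N61338 := rfl
theorem L804564 : sm gc N61338 = N60167 := ded_29_1 (flp_f L792330) (flp_c L792328) L804562
theorem L804566 : sm ge N61338 = N60170 := ded_40_1 (flp_f L792347) (flp_e L780084) (flp_f L780071) L792326 L804562
theorem L804568 : sm gg N60167 = N61339 := rfl
theorem L804570 : sm gd N61339 = N61339 := ded_36_1 (flp_g L804568) L792332 L804568
theorem L804571 : sm ge N61339 = N60171 := ded_41_1 (flp_g L792351) (flp_e L792333) L804568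
theorem L804573 : sm ge N60168 = N61340 := rfl
theorem L804575 : sm ga N61340 = N60169 := ded_13_1 (flp_e L792341) L792335 L804573
theorem L804577 : sm gg N61340 = N60626 := ded_41_2 (flp_e L796102) (flp_g L792339) L804573
theorem L804579 : sm gf N60169 = N61341 := rfl
theorem L804581 : sm gb N61341 = N60170 := ded_22_1 (flp_f L792347) (flp_b L792343) L804579
theorem L804583 : sm gg N60170 = N61342 := rfl
theorem L804585 : sm gc N61342 = N60171 := ded_30_1 (flp_g L792351) (flp_c L792349) L804583
theorem L804587 : sm gd N61342 = N60262 := ded_36_1 (flp_g L803200) L803196 L804583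
theorem L804589 : sm gf N61342 = N60261 := ded_45_1 L793219 L780891 (flp_g L780088) L792347 L804583
theorem L804591 : sm ga N60172 = N61343 := rfl
theorem L804593 : sm gc N61343 = N60630 := ded_11_2 (flp_a L796128) (flp_c L792367) L804591
theorem L804595 : sm gf N61343 = N60421 := ded_14_2 (flp_a L794683) (flp_f L792359) L804591
theorem L804597 : sm gg N61343 = N60174 := ded_15_2 (flp_a L792379) (flp_g L792361) L804591
theorem L804599 : sm gh N61343 = N60206 := ded_17_2 (flp_a L792695) (flp_h L792363) L804591
theorem L804601 : sm gi N61343 = N60452 := ded_18_2 (flp_a L794931) (flp_i L792365) L804591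
theorem L804603 : sm ge N60172 = N61344 := rfl
theorem L804605 : sm gb N61344 = N60173 := ded_21_1 (flp_e L792369) L792357 L804603
theorem L804607 : sm gc N61344 = N60631 := ded_28_1 (flp_e L796134) (flp_c L792367) L804603
theorem L804609 : sm gg N61344 = N60175 := ded_41_2 (flp_e L792385) (flp_g L792361) L804603
theorem L804611 : sm gh N61344 = N60207 := ded_43_2 (flp_e L792703) (flp_h L792363) L804603
theorem L804613 : sm gi N61344 = N60453 := ded_44_2 (flp_e L794937) (flp_i L792365) L804603
theorem L804615 : sm gd N60173 = N61345 := rfl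
theorem L804617 : sm gg N61345 = N60176 := ded_36_2 (flp_d L792391) (flp_g L792373) L804615
theorem L804619 : sm gi N61345 = N60454 := ded_39_2 (flp_d L794943) (flp_i L792377) L804615
theorem L804621 : sm gc N61345 = N61345 := ded_27_1 (flp_d L804615) L792371 L780123 (flp_c L792371) L804615
theorem L804622 : sm ge N60174 = N61346 := rfl
theorem L804624 : sm ga N61346 = N60175 := ded_13_1 (flp_e L792385) L792379 L804622
theorem L804626 : sm gh N61346 = N60209 := ded_43_2 (flp_e L792723) (flp_h L792383) L804622
theorem L804628 : sm gd N60175 = N61347 := rfl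
theorem L804630 : sm gb N61347 = N60176 := ded_20_1 (flp_d L792391) (flp_b L792387) L804628
theorem L804632 : sm gh N60176 = N61348 := rfl
theorem L804634 : sm gc N61348 = N61348 := ded_32_1 (flp_h L804632) L792393 L804632
theorem L804635 : sm gf N61348 = N60494 := ded_47_1 (flp_h L803225) L803222 L804632
theorem L804637 : sm gd N61348 = N60211 := ded_38_1 (flp_h L792739) (flp_d L780451) (flp_h L780134) L792391 L804632
theorem L804639 : sm ga N60177 = N61349 := rfl
theorem L804641 : sm gd N61349 = N60182 := ded_12_2 (flp_a L792445) (flp_d L792396) L804639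
theorem L804643 : sm ge N61349 = N60607 := ded_13_2 (flp_a L795991) (flp_e L792398) L804639
theorem L804645 : sm gg N61349 = N60186 := ded_15_2 (flp_a L792493) (flp_g L792400) L804639
theorem L804647 : sm gj N61349 = N60629 := ded_16_2 (flp_a L796120) (flp_j L792402) L804639
theorem L804649 : sm gh N61349 = N60266 := ded_17_2 (flp_a L793249) (flp_h L792404) L804639
theorem L804651 : sm gi N61349 = N60229 := ded_18_2 (flp_a L792937) (flp_i L792406) L804639
theorem L804653 : sm gb N61349 = N60270 := ded_10_2 (flp_a L793281) (flp_b L780928) (flp_a L780144) L792394 L804639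
theorem L804655 : sm gb N60178 = N61350 := rfl
theorem L804657 : sm gd N61350 = N60432 := ded_20_2 (flp_b L794789) (flp_d L792418) L804655
theorem L804659 : sm gf N61350 = N60189 := ded_22_2 (flp_b L792529) (flp_f L792410) L804655
theorem L804661 : sm gg N61350 = N60180 := ded_23_2 (flp_b L792429) (flp_g L792412) L804655
theorem L804663 : sm gh N61350 = N60636 := ded_25_2 (flp_b L796167) (flp_h L792414) L804655
theorem L804665 : sm gi N61350 = N60232 := ded_26_2 (flp_b L792977) (flp_i L792416) L804655
theorem L804667 : sm ge N60178 = N61351 := rfl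
theorem L804669 : sm gc N61351 = N60179 := ded_28_1 (flp_e L792420) L792408 L804667
theorem L804671 : sm gg N61351 = N60181 := ded_41_2 (flp_e L792437) (flp_g L792412) L804667
theorem L804673 : sm gh N61351 = N60637 := ded_43_2 (flp_e L796171) (flp_h L792414) L804667
theorem L804675 : sm gi N61351 = N60233 := ded_44_2 (flp_e L792983) (flp_i L792416) L804667
theorem L804677 : sm ga N60180 = N61352 := rfl
theorem L804679 : sm gf N61352 = N60182 := ded_14_2 (flp_a L792445) (flp_f L792431) L804677
theorem L804681 : sm gj N61352 = N60630 := ded_16_2 (flp_a L796128) (flp_j L792433) L804677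
theorem L804683 : sm gi N61352 = N60234 := ded_18_2 (flp_a L792989) (flp_i L792435) L804677
theorem L804685 : sm ge N60180 = N61353 := rfl
theorem L804687 : sm gb N61353 = N60181 := ded_21_1 (flp_e L792437) L792429 L804685
theorem L804689 : sm gj N61353 = N60631 := ded_42_2 (flp_e L796134) (flp_j L792433) L804685
theorem L804691 : sm gi N61353 = N60235 := ded_44_2 (flp_e L792995) (flp_i L792435) L804685
theorem L804693 : sm gd N60181 = N61354 := rfl
theorem L804695 : sm gj N61354 = N60632 := ded_37_2 (flp_d L796140) (flp_j L792441) L804693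
theorem L804697 : sm gi N61354 = N60236 := ded_39_2 (flp_d L793001) (flp_i L792443) L804693
theorem L804699 : sm gc N61354 = N61354 := ded_27_1 (flp_d L804693) L792439 L780182 (flp_c L792439) L804693
theorem L804700 : sm ga N60183 = N61355 := rfl
theorem L804702 : sm gc N61355 = N60186 := ded_11_2 (flp_a L792493) (flp_c L792463) L804700
theorem L804704 : sm ge N61355 = N60611 := ded_13_2 (flp_a L796014) (flp_e L792455) L804700
theorem L804706 : sm gj N61355 = N60196 := ded_16_2 (flp_a L792589) (flp_j L792457) L804700
theorem L804708 : sm gh N61355 = N60612 := ded_17_2 (flp_a L796020) (flp_h L792459) L804700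
theorem L804710 : sm gi N61355 = N60240 := ded_18_2 (flp_a L793034) (flp_i L792461) L804700
theorem L804712 : sm gb N61355 = N60613 := ded_10_2 (flp_a L796026) (flp_b L783964) (flp_a L780193) L792453 L804700
theorem L804714 : sm gb N60184 = N61356 := rfl
theorem L804716 : sm gd N61356 = N60189 := ded_20_2 (flp_b L792529) (flp_d L792479) L804714
theorem L804718 : sm gf N61356 = N60432 := ded_22_2 (flp_b L794789) (flp_f L792469) L804714
theorem L804720 : sm gg N61356 = N60185 := ded_23_2 (flp_b L792481) (flp_g L792471) L804714
theorem L804722 : sm gj N61356 = N60617 := ded_24_2 (flp_b L796052) (flp_j L792473) L804714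
theorem L804724 : sm gh N61356 = N60434 := ded_25_2 (flp_b L794801) (flp_h L792475) L804714
theorem L804726 : sm gi N61356 = N60250 := ded_26_2 (flp_b L793131) (flp_i L792477) L804714
theorem L804728 : sm gc N61356 = N60437 := ded_19_2 (flp_b L794831) (flp_c L782627) (flp_b L780207) L792465 L804714
theorem L804730 : sm ga N60185 = N61357 := rfl
theorem L804732 : sm gd N61357 = N60192 := ded_12_2 (flp_a L792549) (flp_d L792483) L804730
theorem L804734 : sm gf N61357 = N60186 := ded_14_2 (flp_a L792493) (flp_f L792485) L804730
theorem L804736 : sm gj N61357 = N60202 := ded_16_2 (flp_a L792657) (flp_j L792487) L804730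
theorem L804738 : sm gh N61357 = N60679 := ded_17_2 (flp_a L796461) (flp_h L792489) L804730
theorem L804740 : sm gi N61357 = N60253 := ded_18_2 (flp_a L793153) (flp_i L792491) L804730
theorem L804742 : sm gb N61357 = N60676 := ded_10_2 L796439 L784415 (flp_a L780221) L792481 L804730
theorem L804744 : sm gb N60187 = N61358 := rfl
theorem L804746 : sm gd N61358 = N60617 := ded_20_2 (flp_b L796052) (flp_d L792515) L804744
theorem L804748 : sm gg N61358 = N60204 := ded_23_2 (flp_b L792677) (flp_g L792509) L804744
theorem L804750 : sm gj N61358 = N60189 := ded_24_2 (flp_b L792529) (flp_j L792511) L804744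
theorem L804752 : sm gi N61358 = N60257 := ded_26_2 (flp_b L793191) (flp_i L792513) L804744
theorem L804754 : sm gc N61358 = N60636 := ded_19_2 (flp_b L796167) (flp_c L784121) (flp_b L780247) L792507 L804744
theorem L804756 : sm ge N60187 = N61359 := rfl
theorem L804758 : sm gc N61359 = N60188 := ded_28_1 (flp_e L792517) L792507 L804756
theorem L804760 : sm gg N61359 = N60205 := ded_41_2 (flp_e L792685) (flp_g L792509) L804756
theorem L804762 : sm gj N61359 = N60190 := ded_42_2 (flp_e L792535) (flp_j L792511) L804756
theorem L804764 : sm gi N61359 = N60258 := ded_44_2 (flp_e L793197) (flp_i L792513) L804756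
theorem L804766 : sm ga N60189 = N61360 := rfl
theorem L804768 : sm gg N61360 = N60192 := ded_15_2 (flp_a L792549) (flp_g L792531) L804766
theorem L804770 : sm gi N61360 = N60259 := ded_18_2 (flp_a L793207) (flp_i L792533) L804766
theorem L804772 : sm ge N60189 = N61361 := rfl
theorem L804774 : sm gb N61361 = N60190 := ded_21_1 (flp_e L792535) L792529 L804772
theorem L804776 : sm gg N61361 = N60193 := ded_41_2 (flp_e L792557) (flp_g L792531) L804772
theorem L804778 : sm gi N61361 = N60260 := ded_44_2 (flp_e L793211) (flp_i L792533) L804772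
theorem L804780 : sm gd N60190 = N61362 := rfl
theorem L804782 : sm gg N61362 = N60194 := ded_36_2 (flp_d L792565) (flp_g L792539) L804780
theorem L804784 : sm gi N61362 = N60261 := ded_39_2 (flp_d L793217) (flp_i L792541) L804780
theorem L804786 : sm gc N61362 = N60214 := ded_27_1 (flp_d L792773) L780502 (flp_d L780267) (flp_c L792537) L804780
theorem L804788 : sm ge N61362 = N60474 := ded_34_2 (flp_d L800259) L800261 L792479 L792535 L804780
theorem L804790 : sm gf N60190 = N61363 := rfl
theorem L804792 : sm gc N61363 = N60191 := ded_29_1 (flp_f L792543) (flp_c L792537) L804790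
theorem L804794 : sm gi N61363 = N60262 := ded_48_2 (flp_f L793223) (flp_i L792541) L804790
theorem L804796 : sm ge N60192 = N61364 := rfl
theorem L804798 : sm ga N61364 = N60193 := ded_13_1 (flp_e L792557) L792549 L804796
theorem L804800 : sm gj N61364 = N60209 := ded_42_2 (flp_e L792723) (flp_j L792553) L804796
theorem L804802 : sm gi N61364 = N60263 := ded_44_2 (flp_e L793227) (flp_i L792555) L804796
theorem L804804 : sm gd N60193 = N61365 := rfl
theorem L804806 : sm gb N61365 = N60194 := ded_20_1 (flp_d L792565) (flp_b L792559) L804804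
theorem L804808 : sm gf N61365 = N60471 := ded_35_2 (flp_d L803289) L803291 L804804
theorem L804810 : sm gj N61365 = N60210 := ded_37_2 (flp_d L792729) (flp_j L792561) L804804
theorem L804812 : sm gi N61365 = N60264 := ded_39_2 (flp_d L793233) (flp_i L792563) L804804
theorem L804814 : sm ge N61365 = N60473 := ded_34_2 (flp_d L800243) L800251 L792483 L792557 L804804
theorem L804816 : sm gh N60194 = N61366 := rfl
theorem L804818 : sm gc N61366 = N60216 := ded_32_1 (flp_h L792793) (flp_c L792573) L804816
theorem L804820 : sm ge N61366 = N60468 := ded_43_1 L795065 (flp_e L792575) L804816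
theorem L804822 : sm gf N61366 = N60462 := ded_47_1 L795021 (flp_f L792567) L804816
theorem L804824 : sm gj N61366 = N60211 := ded_52_1 (flp_h L792739) (flp_j L792569) L804816
theorem L804826 : sm ga N60195 = N61367 := rfl
theorem L804828 : sm gc N61367 = N60200 := ded_11_2 (flp_a L792633) (flp_c L792587) L804826
theorem L804830 : sm ge N61367 = N60613 := ded_13_2 (flp_a L796026) (flp_e L792579) L804826
theorem L804832 : sm gg N61367 = N60640 := ded_15_2 (flp_a L796189) (flp_g L792581) L804826
theorem L804834 : sm gj N61367 = N60612 := ded_16_2 (flp_a L796020) (flp_j L792583) L804826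
theorem L804836 : sm gh N61367 = N60196 := ded_17_2 (flp_a L792589) (flp_h L792585) L804826
theorem L804838 : sm gb N61367 = N60611 := ded_10_2 (flp_a L796014) (flp_b L783946) (flp_a L780293) L792577 L804826
theorem L804840 : sm gb N60197 = N61368 := rfl
theorem L804842 : sm gd N61368 = N60615 := ded_20_2 (flp_b L796038) (flp_d L792611) L804840
theorem L804844 : sm gf N61368 = N60199 := ded_22_2 (flp_b L792621) (flp_f L792603) L804840
theorem L804846 : sm gj N61368 = N60484 := ded_24_2 (flp_b L795175) (flp_j L792605) L804840
theorem L804848 : sm gh N61368 = N60282 := ded_25_2 (flp_b L793386) (flp_h L792607) L804840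
theorem L804850 : sm gi N61368 = N60198 := ded_26_2 (flp_b L792613) (flp_i L792609) L804840
theorem L804852 : sm gc N61368 = N60500 := ded_19_2 (flp_b L795282) (flp_c L783075) (flp_b L780317) L792599 L804840
theorem L804854 : sm ga N60198 = N61369 := rfl
theorem L804856 : sm gf N61369 = N60200 := ded_14_2 (flp_a L792633) (flp_f L792615) L804854
theorem L804858 : sm gj N61369 = N60679 := ded_16_2 (flp_a L796461) (flp_j L792617) L804854
theorem L804860 : sm gh N61369 = N60202 := ded_17_2 (flp_a L792657) (flp_h L792619) L804854
theorem L804862 : sm gb N61369 = N60670 := ded_10_2 (flp_a L796381) (flp_b L784329) (flp_a L780329) L792613 L804854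
theorem L804864 : sm ga N60199 = N61370 := rfl
theorem L804866 : sm ge N61370 = N60614 := ded_13_2 (flp_a L796032) (flp_e L792623) L804864
theorem L804868 : sm gg N61370 = N60654 := ded_15_2 (flp_a L796286) (flp_g L792625) L804864
theorem L804870 : sm gj N61370 = N60635 := ded_16_2 (flp_a L796161) (flp_j L792627) L804864
theorem L804872 : sm gh N61370 = N60288 := ded_17_2 (flp_a L793423) (flp_h L792629) L804864
theorem L804874 : sm gi N61370 = N60200 := ded_18_2 (flp_a L792633) (flp_i L792631) L804864
theorem L804876 : sm gb N61370 = N60633 := ded_10_2 (flp_a L796145) (flp_b L784093) (flp_a L780339) L792621 L804864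
theorem L804878 : sm ga N60201 = N61371 := rfl
theorem L804880 : sm gc N61371 = N60477 := ded_11_2 (flp_a L795129) (flp_c L792655) L804878
theorem L804882 : sm gd N61371 = N60206 := ded_12_2 (flp_a L792695) (flp_d L792647) L804878
theorem L804884 : sm gf N61371 = N60657 := ded_14_2 (flp_a L796310) (flp_f L792649) L804878
theorem L804886 : sm gg N61371 = N60202 := ded_15_2 (flp_a L792657) (flp_g L792651) L804878
theorem L804888 : sm gi N61371 = N60298 := ded_18_2 (flp_a L793517) (flp_i L792653) L804878
theorem L804890 : sm gb N61371 = N60395 := ded_10_2 (flp_a L794465) (flp_b L782230) (flp_a L780363) L792645 L804878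
theorem L804892 : sm ge N60202 = N61372 := rfl
theorem L804894 : sm ga N61372 = N60203 := ded_13_1 (flp_e L792667) L792657 L804892
theorem L804896 : sm gb N61372 = N60696 := ded_21_1 L796575 (flp_b L792665) L804892
theorem L804898 : sm gi N61372 = N60301 := ded_44_2 (flp_e L793539) (flp_i L792663) L804892
theorem L804900 : sm gf N61372 = N60363 := ded_40_2 (flp_e L794162) L781927 (flp_e L780397) (flp_f L792661) L804892
theorem L804902 : sm gd N60505 = N61372 := ded_12_0 L804894 (flp_d L792675) (flp_a L795312)
theorem L804904 : sm ga N60204 = N61373 := rfl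
theorem L804906 : sm gf N61373 = N60660 := ded_14_2 (flp_a L796332) (flp_f L792679) L804904
theorem L804908 : sm gj N61373 = N60206 := ded_16_2 (flp_a L792695) (flp_j L792681) L804904
theorem L804910 : sm gi N61373 = N60306 := ded_18_2 (flp_a L793581) (flp_i L792683) L804904
theorem L804912 : sm ge N60204 = N61374 := rfl
theorem L804914 : sm gb N61374 = N60205 := ded_21_1 (flp_e L792685) L792677 L804912
theorem L804916 : sm gj N61374 = N60207 := ded_42_2 (flp_e L792703) (flp_j L792681) L804912
theorem L804918 : sm gi N61374 = N60307 := ded_44_2 (flp_e L793587) (flp_i L792683) L804912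
theorem L804920 : sm gf N61374 = N60569 := ded_40_2 (flp_e L795739) (flp_f L786437) L786435 (flp_f L792679) L804912
theorem L804922 : sm gd N60205 = N61375 := rfl
theorem L804924 : sm gf N61375 = N60425 := ded_35_2 L794730 (flp_f L792693) L804922
theorem L804926 : sm gj N61375 = N60208 := ded_37_2 (flp_d L792711) (flp_j L792689) L804922
theorem L804928 : sm gi N61375 = N60308 := ded_39_2 (flp_d L793597) (flp_i L792691) L804922
theorem L804930 : sm gc N61375 = N60217 := ded_27_1 (flp_d L792802) L780542 (flp_d L780419) (flp_c L792687) L804922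
theorem L804932 : sm ge N61375 = N60325 := ded_34_2 (flp_d L800413) L800401 L792182 L792685 L804922
theorem L804934 : sm ge N60206 = N61376 := rfl
theorem L804936 : sm ga N61376 = N60207 := ded_13_1 (flp_e L792703) L792695 L804934
theorem L804938 : sm gg N61376 = N60209 := ded_41_2 (flp_e L792723) (flp_g L792699) L804934
theorem L804940 : sm gi N61376 = N60309 := ded_44_2 (flp_e L793605) (flp_i L792701) L804934
theorem L804942 : sm gd N60207 = N61377 := rfl
theorem L804944 : sm gb N61377 = N60208 := ded_20_1 (flp_d L792711) (flp_b L792705) L804942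
theorem L804946 : sm gf N61377 = N60436 := ded_35_2 (flp_d L798652) L798654 L804942
theorem L804948 : sm gg N61377 = N60210 := ded_36_2 (flp_d L792729) (flp_g L792707) L804942
theorem L804950 : sm gi N61377 = N60310 := ded_39_2 (flp_d L793611) (flp_i L792709) L804942
theorem L804952 : sm gc N61377 = N60302 := ded_27_1 (flp_d L793543) (flp_c L793313) (flp_d L799690) L799682 L804942
theorem L804954 : sm ge N61377 = N60313 := ded_34_2 (flp_d L800375) L800367 L792647 L792703 L804942
theorem L804956 : sm gh N60208 = N61378 := rfl
theorem L804958 : sm gc N61378 = N60218 := ded_32_1 (flp_h L792814) (flp_c L792719) L804956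
theorem L804960 : sm ge N61378 = N60332 := ded_43_1 (flp_h L793795) (flp_e L792721) L804956
theorem L804962 : sm gf N61378 = N60433 := ded_47_1 L794799 (flp_f L792713) L804956
theorem L804964 : sm gg N61378 = N60211 := ded_50_1 (flp_h L792739) (flp_g L792715) L804956
theorem L804966 : sm gd N60209 = N61379 := rfl
theorem L804968 : sm ga N61379 = N60210 := ded_12_1 (flp_d L792729) (flp_a L792725) L804966
theorem L804970 : sm gf N61379 = N60504 := ded_35_2 (flp_d L803301) L803303 L804966
theorem L804972 : sm gi N61379 = N60312 := ded_39_2 (flp_d L793629) (flp_i L792727) L804966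
theorem L804974 : sm ge N61379 = N60505 := ded_34_2 L804902 (flp_e L804892) L792659 L792723 L804966
theorem L804976 : sm gc N60210 = N61380 := rfl
theorem L804978 : sm ge N61380 = N60310 := ded_28_2 (flp_c L793619) (flp_e L792737) L804976
theorem L804980 : sm gf N61380 = N60486 := ded_29_2 L795199 (flp_f L792733) L804976
theorem L804982 : sm gg N61380 = N60302 := ded_30_2 (flp_c L804952) L804948 L804976
theorem L804984 : sm gi N61380 = N60313 := ded_33_2 (flp_c L793633) (flp_i L792735) L804976
theorem L804986 : sm gb N61380 = N60219 := ded_19_1 (flp_c L792825) L780565 (flp_c L780457) (flp_b L792731) L804976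
theorem L804988 : sm gd N61380 = N60299 := ded_27_2 L799712 (flp_d L799702) L787508 L792729 L804976
theorem L804990 : sm gh N60210 = N61381 := rfl
theorem L804992 : sm gb N61381 = N60211 := ded_25_1 (flp_h L792739) (flp_b L792731) L804990
theorem L804994 : sm ge N61381 = N60499 := ded_43_1 L795280 (flp_e L792737) L804990
theorem L804996 : sm gf N61381 = N60493 := ded_47_1 L795249 (flp_f L792733) L804990
theorem L804998 : sm gi N60211 = N61382 := rfl
theorem L805000 : sm gc N61382 = N60221 := ded_33_1 (flp_i L792848) (flp_c L792741) L804998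
theorem L805002 : sm ge N61382 = N60497 := ded_44_1 L795268 (flp_e L792743) L804998
theorem L805004 : sm gf N61382 = N60491 := ded_48_1 L795237 (flp_f L792745) L804998
theorem L805006 : sm gh N61382 = N60315 := ded_54_1 (flp_i L793643) (flp_h L781227) (flp_i L780455) L792739 L804998
theorem L805008 : sm gd N60212 = N61383 := rfl
theorem L805010 : sm gb N61383 = N60317 := ded_20_1 (flp_d L793657) (flp_b L792749) L805008
theorem L805012 : sm gg N61383 = N60217 := ded_36_2 (flp_d L792802) (flp_g L792753) L805008
theorem L805014 : sm gj N61383 = N60214 := ded_37_2 (flp_d L792773) (flp_j L792755) L805008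
theorem L805016 : sm gi N61383 = N60320 := ded_39_2 (flp_d L793684) (flp_i L792758) L805008
theorem L805018 : sm ge N61383 = N60322 := ded_34_2 (flp_d L793706) (flp_e L781296) (flp_d L780473) L792747 L805008
theorem L805020 : sm gd N60213 = N61384 := rfl
theorem L805022 : sm gb N61384 = N60214 := ded_20_1 (flp_d L792773) (flp_b L792762) L805020
theorem L805024 : sm gg N61384 = N60215 := ded_36_2 (flp_d L792781) (flp_g L792766) L805020
theorem L805026 : sm gj N61384 = N60317 := ded_37_2 (flp_d L793657) (flp_j L792768) L805020
theorem L805028 : sm gi N61384 = N60322 := ded_39_2 (flp_d L793706) (flp_i L792771) L805020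
theorem L805030 : sm ge N61384 = N60320 := ded_34_2 (flp_d L793684) (flp_e L781271) (flp_d L780488) L792760 L805020
theorem L805032 : sm gh N60214 = N61385 := rfl
theorem L805034 : sm ge N61385 = N60469 := ded_43_1 L795071 (flp_e L792779) L805032
theorem L805036 : sm gg N61385 = N60216 := ded_50_1 (flp_h L792793) (flp_g L792775) L805032
theorem L805038 : sm gd N61385 = N61385 := ded_38_1 (flp_h L805032) (flp_d L792773) L780506 L792773 L805032
theorem L805039 : sm gc N60215 = N61386 := rfl
theorem L805041 : sm ge N61386 = N60308 := ded_28_2 L793603 (flp_e L792791) L805039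
theorem L805043 : sm gf N61386 = N60456 := ded_29_2 L794960 (flp_f L792785) L805039
theorem L805045 : sm gj N61386 = N60219 := ded_31_2 (flp_c L792825) (flp_j L792787) L805039
theorem L805047 : sm gi N61386 = N60325 := ded_33_2 (flp_c L793730) (flp_i L792789) L805039
theorem L805049 : sm gd N61386 = N60296 := ded_27_2 L793503 L781109 (flp_c L780519) L792781 L805039
theorem L805051 : sm gi N60216 = N61387 := rfl
theorem L805053 : sm gd N61387 = N61387 := ded_39_1 (flp_i L805051) L792801 L805051
theorem L805054 : sm ge N61387 = N60465 := ded_44_1 L795043 (flp_e L792795) L805051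
theorem L805056 : sm gf N61387 = N60460 := ded_48_1 L795002 (flp_f L792797) L805051
theorem L805058 : sm gj N61387 = N60221 := ded_53_1 (flp_i L792848) (flp_j L792799) L805051
theorem L805060 : sm gh N61387 = N60327 := ded_54_1 (flp_i L793746) (flp_h L781334) (flp_i L780534) L792793 L805051
theorem L805062 : sm gh N60217 = N61388 := rfl
theorem L805064 : sm gb N61388 = N60319 := ded_25_1 (flp_h L793675) (flp_b L792804) L805062
theorem L805066 : sm ge N61388 = N60326 := ded_43_1 (flp_h L793736) (flp_e L792812) L805062
theorem L805068 : sm gf N61388 = N60423 := ded_47_1 L794707 (flp_f L792806) L805062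
theorem L805070 : sm gj N61388 = N60218 := ded_52_1 (flp_h L792814) (flp_j L792808) L805062
theorem L805072 : sm gd N61388 = N61388 := ded_38_1 (flp_h L805062) (flp_d L792802) L780546 L792802 L805062
theorem L805073 : sm gi N60218 = N61389 := rfl
theorem L805075 : sm gb N61389 = N60328 := ded_26_1 (flp_i L793754) (flp_b L792816) L805073
theorem L805077 : sm gd N61389 = N61389 := ded_39_1 (flp_i L805073) L792824 L805073
theorem L805078 : sm ge N61389 = N60252 := ded_44_1 L793149 (flp_e L792818) L805073
theorem L805080 : sm gf N61389 = N60225 := ded_48_1 L792903 (flp_f L792820) L805073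
theorem L805082 : sm gg N61389 = N60221 := ded_51_1 (flp_i L792848) (flp_g L792822) L805073
theorem L805084 : sm gh N61389 = N60329 := ded_54_1 (flp_i L793763) (flp_h L781368) (flp_i L780559) L792814 L805073
theorem L805086 : sm gh N60219 = N61390 := rfl
theorem L805088 : sm gc N61390 = N60220 := ded_32_1 (flp_h L792837) L792825 L805086
theorem L805090 : sm ge N61390 = N60311 := ded_43_1 (flp_h L793621) (flp_e L792827) L805086
theorem L805092 : sm gf N61390 = N60479 := ded_47_1 L795147 (flp_f L792829) L805086
theorem L805094 : sm gg N61390 = N60304 := ded_50_1 (flp_h L793563) (flp_g L792831) L805086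
theorem L805096 : sm gi N60220 = N61391 := rfl
theorem L805098 : sm gb N61391 = N60221 := ded_26_1 (flp_i L792848) (flp_b L792839) L805096
theorem L805100 : sm gd N61391 = N61391 := ded_39_1 (flp_i L805096) L792847 L805096
theorem L805101 : sm ge N61391 = N60329 := ded_44_1 (flp_i L793763) (flp_e L792841) L805096
theorem L805103 : sm gf N61391 = N60242 := ded_48_1 L793058 (flp_f L792843) L805096
theorem L805105 : sm gg N61391 = N60328 := ded_51_1 (flp_i L793754) (flp_g L792845) L805096
theorem L805107 : sm gh N61391 = N60252 := ded_54_1 L793149 (flp_h L781392) (flp_i L780571) L792837 L805096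
theorem L805109 : sm ga N60222 = N61392 := rfl
theorem L805111 : sm gc N61392 = N60229 := ded_11_2 (flp_a L792937) (flp_c L792867) L805109
theorem L805113 : sm ge N61392 = N60247 := ded_13_2 (flp_a L793103) (flp_e L792859) L805109
theorem L805115 : sm gg N61392 = N60240 := ded_15_2 (flp_a L793034) (flp_g L792861) L805109
theorem L805117 : sm gj N61392 = N60291 := ded_16_2 L793453 (flp_j L792863) L805109
theorem L805119 : sm gh N61392 = N60256 := ded_17_2 L793181 (flp_h L792865) L805109
theorem L805121 : sm gb N61392 = N60634 := ded_10_2 (flp_a L796155) (flp_b L784103) (flp_a L780584) L792857 L805109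
theorem L805123 : sm ga N60223 = N61393 := rfl
theorem L805125 : sm gc N61393 = N60256 := ded_11_2 L793181 (flp_c L792881) L805123
theorem L805127 : sm ge N61393 = N60240 := ded_13_2 (flp_a L793034) (flp_e L792871) L805123
theorem L805129 : sm gg N61393 = N60247 := ded_15_2 (flp_a L793103) (flp_g L792873) L805123
theorem L805131 : sm gj N61393 = N60274 := ded_16_2 L793317 (flp_j L792875) L805123
theorem L805133 : sm gh N61393 = N60229 := ded_17_2 (flp_a L792937) (flp_h L792877) L805123
theorem L805135 : sm gi N61393 = N60611 := ded_18_2 (flp_a L796014) (flp_i L792879) L805123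
theorem L805137 : sm gb N60224 = N61394 := rfl
theorem L805139 : sm gd N61394 = N60232 := ded_20_2 (flp_b L792977) (flp_d L792893) L805137
theorem L805141 : sm gf N61394 = N60250 := ded_22_2 (flp_b L793131) (flp_f L792885) L805137
theorem L805143 : sm gg N61394 = N60226 := ded_23_2 (flp_b L792906) (flp_g L792887) L805137
theorem L805145 : sm gh N61394 = N60480 := ded_25_2 (flp_b L795149) (flp_h L792889) L805137
theorem L805147 : sm gi N61394 = N60432 := ded_26_2 (flp_b L794789) (flp_i L792891) L805137
theorem L805149 : sm gc N61394 = N60438 := ded_19_2 (flp_b L794841) (flp_c L782637) (flp_b L780608) L792883 L805137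
theorem L805151 : sm ge N60224 = N61395 := rfl
theorem L805153 : sm gc N61395 = N60225 := ded_28_1 (flp_e L792895) L792883 L805151
theorem L805155 : sm gg N61395 = N60227 := ded_41_2 (flp_e L792914) (flp_g L792887) L805151
theorem L805157 : sm gh N61395 = N60481 := ded_43_2 (flp_e L795155) (flp_h L792889) L805151
theorem L805159 : sm gi N61395 = N60433 := ded_44_2 (flp_e L794795) (flp_i L792891) L805151
theorem L805161 : sm ga N60226 = N61396 := rfl
theorem L805163 : sm gd N61396 = N60234 := ded_12_2 (flp_a L792989) (flp_d L792908) L805161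
theorem L805165 : sm gf N61396 = N60229 := ded_14_2 (flp_a L792937) (flp_f L792910) L805161
theorem L805167 : sm gj N61396 = N60661 := ded_16_2 (flp_a L796338) (flp_j L792912) L805161
theorem L805169 : sm ge N60226 = N61397 := rfl
theorem L805171 : sm gb N61397 = N60227 := ded_21_1 (flp_e L792914) L792906 L805169
theorem L805173 : sm gj N61397 = N60662 := ded_42_2 (flp_e L796344) (flp_j L792912) L805169
theorem L805175 : sm gd N60227 = N61398 := rfl
theorem L805177 : sm gj N61398 = N60663 := ded_37_2 (flp_d L796348) (flp_j L792918) L805175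
theorem L805179 : sm gc N61398 = N61398 := ded_27_1 (flp_d L805175) L792916 L780630 (flp_c L792916) L805175
theorem L805180 : sm ge N61398 = N60236 := ded_34_2 (flp_d L793001) (flp_e L780688) (flp_d L780624) L792914 L805175
theorem L805182 : sm gf N60227 = N61399 := rfl
theorem L805184 : sm ga N61399 = N60628 := ded_14_1 (flp_f L803860) L803850 L805182
theorem L805186 : sm gc N61399 = N60228 := ded_29_1 (flp_f L792920) (flp_c L792916) L805182
theorem L805188 : sm gj N61399 = N60269 := ded_46_2 L793279 (flp_j L792918) L805182
theorem L805190 : sm gh N61399 = N60239 := ded_47_2 (flp_f L800125) L800119 L805182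
theorem L805192 : sm gi N61399 = N60489 := ded_48_2 (flp_f L799477) L799475 L805182
theorem L805194 : sm ge N61399 = N60231 := ded_40_1 (flp_f L792961) (flp_e L780639) (flp_f L780620) L792914 L805182
theorem L805196 : sm gg N60491 = N61399 := ded_15_0 L805184 (flp_g L799130) L799126
theorem L805198 : sm ge N60229 = N61400 := rfl
theorem L805200 : sm ga N61400 = N60230 := ded_13_1 (flp_e L792945) L792937 L805198
theorem L805202 : sm gb N61400 = N60629 := ded_21_1 (flp_e L803868) L803876 L805198
theorem L805204 : sm gc N61400 = N60247 := ded_28_1 (flp_e L805113) L805111 L805198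
theorem L805206 : sm gg N61400 = N60256 := ded_41_2 (flp_e L793179) (flp_g L792941) L805198
theorem L805208 : sm gj N61400 = N60270 := ded_42_2 L793285 (flp_j L792943) L805198
theorem L805210 : sm gh N61400 = N60240 := ded_43_2 (flp_e L805127) L805133 L805198
theorem L805212 : sm gi N61400 = N60607 := ded_44_2 (flp_e L804643) L804651 L805198
theorem L805214 : sm gd N61400 = N60598 := ded_34_1 (flp_e L803311) L803309 L791032 (flp_d L792939) L805198
theorem L805216 : sm gf N60230 = N61401 := rfl
theorem L805218 : sm gb N61401 = N60231 := ded_22_1 (flp_f L792961) (flp_b L792947) L805216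
theorem L805220 : sm gc N61401 = N60244 := ded_29_1 L793077 (flp_c L792949) L805216
theorem L805222 : sm gd N61401 = N60596 := ded_35_1 L795918 (flp_d L792959) L805216
theorem L805224 : sm gj N61401 = N60268 := ded_46_2 L793267 (flp_j L792953) L805216
theorem L805226 : sm gh N61401 = N60238 := ded_47_2 L793022 (flp_h L792955) L805216
theorem L805228 : sm gi N61401 = N60488 := ded_48_2 L795211 (flp_i L792957) L805216
theorem L805230 : sm gg N61401 = N60490 := ded_45_2 L795229 (flp_g L788006) L788004 (flp_g L792951) L805216
theorem L805232 : sm ga N60232 = N61402 := rfl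
theorem L805234 : sm gf N61402 = N60259 := ded_14_2 (flp_a L793207) (flp_f L792979) L805232
theorem L805236 : sm gg N61402 = N60234 := ded_15_2 (flp_a L792989) (flp_g L792981) L805232
theorem L805238 : sm ge N60232 = N61403 := rfl
theorem L805240 : sm gb N61403 = N60233 := ded_21_1 (flp_e L792983) L792977 L805238
theorem L805242 : sm gg N61403 = N60235 := ded_41_2 (flp_e L792995) (flp_g L792981) L805238
theorem L805244 : sm gd N60233 = N61404 := rfl
theorem L805246 : sm gg N61404 = N60236 := ded_36_2 (flp_d L793001) (flp_g L792987) L805244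
theorem L805248 : sm gc N61404 = N61404 := ded_27_1 (flp_d L805244) L792985 L780681 (flp_c L792985) L805244
theorem L805249 : sm ge N60234 = N61405 := rfl
theorem L805251 : sm ga N61405 = N60235 := ded_13_1 (flp_e L792995) L792989 L805249
theorem L805253 : sm gj N61405 = N60667 := ded_42_2 (flp_e L796370) (flp_j L792993) L805249
theorem L805255 : sm gd N60235 = N61406 := rfl
theorem L805257 : sm gb N61406 = N60236 := ded_20_1 (flp_d L793001) (flp_b L792997) L805255
theorem L805259 : sm gj N61406 = N60668 := ded_37_2 (flp_d L796374) (flp_j L792999) L805255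
theorem L805261 : sm gh N60236 = N61407 := rfl
theorem L805263 : sm ga N61407 = N60586 := ded_17_1 (flp_h L803901) L803894 L805261
theorem L805265 : sm gc N61407 = N61407 := ded_32_1 (flp_h L805261) L793005 L805261
theorem L805266 : sm gf N61407 = N60610 := ded_47_1 (flp_h L803354) L803349 L805261
theorem L805268 : sm gj N61407 = N60669 := ded_52_1 (flp_h L796378) (flp_j L793003) L805261
theorem L805270 : sm gd N61407 = N60576 := ded_38_1 (flp_h L800922) L800926 L790096 L793001 L805261
theorem L805272 : sm ga N60237 = N61408 := rfl
theorem L805274 : sm gc N61408 = N60614 := ded_11_2 (flp_a L796032) (flp_c L793016) L805272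
theorem L805276 : sm gg N61408 = N60634 := ded_15_2 (flp_a L796155) (flp_g L793008) L805272
theorem L805278 : sm gj N61408 = N60266 := ded_16_2 (flp_a L793249) (flp_j L793010) L805272
theorem L805280 : sm gh N61408 = N60629 := ded_17_2 (flp_a L796120) (flp_h L793012) L805272
theorem L805282 : sm gi N61408 = N60613 := ded_18_2 (flp_a L796026) (flp_i L793014) L805272
theorem L805284 : sm gb N61408 = N60240 := ded_10_2 (flp_a L793034) (flp_b L780728) (flp_a L780702) L793006 L805272
theorem L805286 : sm ga N60238 = N61409 := rfl
theorem L805288 : sm gc N61409 = N60253 := ded_11_2 (flp_a L793153) (flp_c L793026) L805286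
theorem L805290 : sm gd N61409 = N60613 := ded_12_2 (flp_a L796026) (flp_d L793020) L805286
theorem L805292 : sm gf N61409 = N60240 := ded_14_2 (flp_a L793034) (flp_f L793022) L805286
theorem L805294 : sm gj N61409 = N60272 := ded_16_2 (flp_a L793303) (flp_j L793024) L805286
theorem L805296 : sm ge N60238 = N61410 := rfl
theorem L805298 : sm gb N61410 = N60239 := ded_21_1 (flp_e L793028) L793018 L805296
theorem L805300 : sm gc N61410 = N60254 := ded_28_1 (flp_e L793161) (flp_c L793026) L805296
theorem L805302 : sm gj N61410 = N60273 := ded_42_2 (flp_e L793309) (flp_j L793024) L805296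
theorem L805304 : sm gb N60241 = N61411 := rfl
theorem L805306 : sm gf N61411 = N60480 := ded_22_2 (flp_b L795149) (flp_f L793042) L805304
theorem L805308 : sm gg N61411 = N60244 := ded_23_2 (flp_b L793075) (flp_g L793044) L805304
theorem L805310 : sm gh N61411 = N60250 := ded_25_2 (flp_b L793131) (flp_h L793046) L805304
theorem L805312 : sm gi N61411 = N60478 := ded_26_2 (flp_b L795135) (flp_i L793048) L805304
theorem L805314 : sm gc N61411 = N60490 := ded_19_2 (flp_b L795227) (flp_c L783020) (flp_b L780736) L793040 L805304
theorem L805316 : sm ge N60241 = N61412 := rfl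
theorem L805318 : sm gc N61412 = N60242 := ded_28_1 (flp_e L793050) L793040 L805316
theorem L805320 : sm gg N61412 = N60245 := ded_41_2 (flp_e L793083) (flp_g L793044) L805316
theorem L805322 : sm gh N61412 = N60251 := ded_43_2 (flp_e L793137) (flp_h L793046) L805316
theorem L805324 : sm gi N61412 = N60479 := ded_44_2 (flp_e L795143) (flp_i L793048) L805316
theorem L805326 : sm gb N60243 = N61413 := rfl
theorem L805328 : sm gf N61413 = N60246 := ded_22_2 (flp_b L793091) (flp_f L793065) L805326
theorem L805330 : sm gg N61413 = N60478 := ded_23_2 (flp_b L795135) (flp_g L793067) L805326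
theorem L805332 : sm gj N61413 = N60282 := ded_24_2 (flp_b L793386) (flp_j L793069) L805326
theorem L805334 : sm gh N61413 = N60484 := ded_25_2 (flp_b L795175) (flp_h L793071) L805326
theorem L805336 : sm gi N61413 = N60244 := ded_26_2 (flp_b L793075) (flp_i L793073) L805326
theorem L805338 : sm gc N61413 = N60488 := ded_19_2 (flp_b L795207) (flp_c L782999) (flp_b L780750) L793061 L805326
theorem L805340 : sm ga N60244 = N61414 := rfl
theorem L805342 : sm gf N61414 = N60247 := ded_14_2 (flp_a L793103) (flp_f L793077) L805340
theorem L805344 : sm gj N61414 = N60284 := ded_16_2 (flp_a L793398) (flp_j L793079) L805340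
theorem L805346 : sm gh N61414 = N60253 := ded_17_2 (flp_a L793153) (flp_h L793081) L805340
theorem L805348 : sm ge N60244 = N61415 := rfl
theorem L805350 : sm gb N61415 = N60245 := ded_21_1 (flp_e L793083) L793075 L805348
theorem L805352 : sm gj N61415 = N60285 := ded_42_2 (flp_e L793404) (flp_j L793079) L805348
theorem L805354 : sm gh N61415 = N60254 := ded_43_2 (flp_e L793161) (flp_h L793081) L805348
theorem L805356 : sm gd N60245 = N61416 := rfl
theorem L805358 : sm gj N61416 = N60286 := ded_37_2 (flp_d L793410) (flp_j L793087) L805356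
theorem L805360 : sm gc N61416 = N61416 := ded_27_1 (flp_d L805356) L793085 L780776 (flp_c L793085) L805356
theorem L805361 : sm ga N60246 = N61417 := rfl
theorem L805363 : sm gc N61417 = N60607 := ded_11_2 (flp_a L795991) (flp_c L793101) L805361
theorem L805365 : sm gg N61417 = N60611 := ded_15_2 (flp_a L796014) (flp_g L793093) L805361
theorem L805367 : sm gj N61417 = N60288 := ded_16_2 (flp_a L793423) (flp_j L793095) L805361
theorem L805369 : sm gh N61417 = N60635 := ded_17_2 (flp_a L796161) (flp_h L793097) L805361
theorem L805371 : sm gi N61417 = N60247 := ded_18_2 (flp_a L793103) (flp_i L793099) L805361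
theorem L805373 : sm gb N61417 = N60640 := ded_10_2 (flp_a L796189) (flp_b L784142) (flp_a L780779) L793091 L805361
theorem L805375 : sm gb N60248 = N61418 := rfl
theorem L805377 : sm gd N61418 = N60257 := ded_20_2 (flp_b L793191) (flp_d L793117) L805375
theorem L805379 : sm gg N61418 = N60295 := ded_23_2 (flp_b L793493) (flp_g L793111) L805375
theorem L805381 : sm gj N61418 = N60250 := ded_24_2 (flp_b L793131) (flp_j L793113) L805375
theorem L805383 : sm gi N61418 = N60617 := ded_26_2 (flp_b L796052) (flp_i L793115) L805375
theorem L805385 : sm gc N61418 = N60622 := ded_19_2 (flp_b L796078) (flp_c L784022) (flp_b L780797) L793109 L805375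
theorem L805387 : sm ge N60248 = N61419 := rfl
theorem L805389 : sm gc N61419 = N60249 := ded_28_1 (flp_e L793119) L793109 L805387
theorem L805391 : sm gg N61419 = N60296 := ded_41_2 (flp_e L793501) (flp_g L793111) L805387
theorem L805393 : sm gj N61419 = N60251 := ded_42_2 (flp_e L793137) (flp_j L793113) L805387
theorem L805395 : sm gi N61419 = N60618 := ded_44_2 (flp_e L796058) (flp_i L793115) L805387
theorem L805397 : sm gf N60249 = N61420 := rfl
theorem L805399 : sm gb N61420 = N60327 := ded_22_1 L793750 (flp_b L793121) L805397
theorem L805401 : sm gd N61420 = N60316 := ded_35_1 (flp_f L793647) (flp_d L793129) L805397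
theorem L805403 : sm gj N61420 = N60252 := ded_46_2 (flp_f L793143) (flp_j L793125) L805397
theorem L805405 : sm gi N61420 = N60326 := ded_48_2 L793740 (flp_i L793127) L805397
theorem L805407 : sm ga N60250 = N61421 := rfl
theorem L805409 : sm gd N61421 = N60259 := ded_12_2 (flp_a L793207) (flp_d L793133) L805407
theorem L805411 : sm gg N61421 = N60253 := ded_15_2 (flp_a L793153) (flp_g L793135) L805407
theorem L805413 : sm ge N60250 = N61422 := rfl
theorem L805415 : sm gb N61422 = N60251 := ded_21_1 (flp_e L793137) L793131 L805413
theorem L805417 : sm gg N61422 = N60254 := ded_41_2 (flp_e L793161) (flp_g L793135) L805413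
theorem L805419 : sm gd N60251 = N61423 := rfl
theorem L805421 : sm gg N61423 = N60255 := ded_36_2 (flp_d L793167) (flp_g L793141) L805419
theorem L805423 : sm gi N61423 = N60474 := ded_39_2 (flp_d L800259) L800265 L805419
theorem L805425 : sm gc N61423 = N60317 := ded_27_1 (flp_d L793657) L781244 (flp_d L780815) (flp_c L793139) L805419
theorem L805427 : sm ge N61423 = N60261 := ded_34_2 (flp_d L793217) (flp_e L780867) (flp_d L780809) L793137 L805419
theorem L805429 : sm gf N60251 = N61424 := rfl
theorem L805431 : sm gc N61424 = N60252 := ded_29_1 (flp_f L793143) (flp_c L793139) L805429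
theorem L805433 : sm gi N61424 = N60332 := ded_48_2 (flp_f L800267) L800265 L805429
theorem L805435 : sm gg N61424 = N60497 := ded_45_2 (flp_f L795264) (flp_g L788018) L788026 (flp_g L793141) L805429
theorem L805437 : sm ge N60253 = N61425 := rfl
theorem L805439 : sm ga N61425 = N60254 := ded_13_1 (flp_e L793161) L793153 L805437
theorem L805441 : sm gj N61425 = N60301 := ded_42_2 (flp_e L793539) (flp_j L793159) L805437
theorem L805443 : sm gd N60254 = N61426 := rfl
theorem L805445 : sm gb N61426 = N60255 := ded_20_1 (flp_d L793167) (flp_b L793163) L805443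
theorem L805447 : sm gf N61426 = N60431 := ded_35_2 (flp_d L800221) L800223 L805443
theorem L805449 : sm gj N61426 = N60302 := ded_37_2 (flp_d L793543) (flp_j L793165) L805443
theorem L805451 : sm gi N61426 = N60473 := ded_39_2 (flp_d L800243) L800249 L805443
theorem L805453 : sm ge N61426 = N60264 := ded_34_2 (flp_d L793233) (flp_e L780883) (flp_d L780819) L793161 L805443
theorem L805455 : sm gh N60255 = N61427 := rfl
theorem L805457 : sm gc N61427 = N60319 := ded_32_1 (flp_h L793675) (flp_c L793175) L805455
theorem L805459 : sm ge N61427 = N60265 := ded_43_1 (flp_h L793241) (flp_e L793177) L805455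
theorem L805461 : sm gf N61427 = N60429 := ded_47_1 L794769 (flp_f L793169) L805455
theorem L805463 : sm gj N61427 = N60304 := ded_52_1 (flp_h L793563) (flp_j L793171) L805455
theorem L805465 : sm ga N60257 = N61428 := rfl
theorem L805467 : sm gg N61428 = N60306 := ded_15_2 (flp_a L793581) (flp_g L793193) L805465
theorem L805469 : sm gj N61428 = N60259 := ded_16_2 (flp_a L793207) (flp_j L793195) L805465
theorem L805471 : sm ge N60257 = N61429 := rfl
theorem L805473 : sm gb N61429 = N60258 := ded_21_1 (flp_e L793197) L793191 L805471
theorem L805475 : sm gg N61429 = N60307 := ded_41_2 (flp_e L793587) (flp_g L793193) L805471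
theorem L805477 : sm gj N61429 = N60260 := ded_42_2 (flp_e L793211) (flp_j L793195) L805471
theorem L805479 : sm gh N61429 = N60574 := ded_43_2 (flp_e L801487) L801495 L805471
theorem L805481 : sm gd N60258 = N61430 := rfl
theorem L805483 : sm gg N61430 = N60308 := ded_36_2 (flp_d L793597) (flp_g L793201) L805481
theorem L805485 : sm gj N61430 = N60261 := ded_37_2 (flp_d L793217) (flp_j L793203) L805481
theorem L805487 : sm gc N61430 = N60320 := ded_27_1 (flp_d L793684) L781275 (flp_d L780861) (flp_c L793199) L805481
theorem L805489 : sm ge N60259 = N61431 := rfl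
theorem L805491 : sm ga N61431 = N60260 := ded_13_1 (flp_e L793211) L793207 L805489
theorem L805493 : sm gg N61431 = N60263 := ded_41_2 (flp_e L793227) (flp_g L793209) L805489
theorem L805495 : sm gd N60260 = N61432 := rfl
theorem L805497 : sm gb N61432 = N60261 := ded_20_1 (flp_d L793217) (flp_b L793213) L805495
theorem L805499 : sm gg N61432 = N60264 := ded_36_2 (flp_d L793233) (flp_g L793215) L805495
theorem L805501 : sm gf N60260 = N61433 := rfl
theorem L805503 : sm gb N61433 = N60262 := ded_22_1 (flp_f L793223) (flp_b L793213) L805501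
theorem L805505 : sm gh N60261 = N61434 := rfl
theorem L805507 : sm gc N61434 = N60323 := ded_32_1 (flp_h L793714) (flp_c L793221) L805505
theorem L805509 : sm gg N61434 = N60265 := ded_50_1 (flp_h L793241) (flp_g L793219) L805505
theorem L805511 : sm gd N60263 = N61435 := rfl
theorem L805513 : sm ga N61435 = N60264 := ded_12_1 (flp_d L793233) (flp_a L793229) L805511
theorem L805515 : sm gf N61435 = N60626 := ded_35_2 (flp_d L803362) L803364 L805511
theorem L805517 : sm gj N61435 = N60312 := ded_37_2 (flp_d L793629) (flp_j L793231) L805511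
theorem L805519 : sm gc N60264 = N61436 := rfl
theorem L805521 : sm gf N61436 = N60620 := ded_29_2 L796072 (flp_f L793237) L805519
theorem L805523 : sm gj N61436 = N60313 := ded_31_2 (flp_c L793633) (flp_j L793239) L805519
theorem L805525 : sm gb N61436 = N60325 := ded_19_1 (flp_c L793730) L781328 (flp_c L780895) (flp_b L793235) L805519
theorem L805527 : sm gh N60264 = N61437 := rfl
theorem L805529 : sm gb N61437 = N60265 := ded_25_1 (flp_h L793241) (flp_b L793235) L805527
theorem L805531 : sm gf N61437 = N60625 := ded_47_1 L796100 (flp_f L793237) L805527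
theorem L805533 : sm gj N61437 = N60314 := ded_52_1 (flp_h L793639) (flp_j L793239) L805527
theorem L805535 : sm gi N60265 = N61438 := rfl
theorem L805537 : sm gc N61438 = N60327 := ded_33_1 (flp_i L793746) (flp_c L793243) L805535
theorem L805539 : sm gf N61438 = N60623 := ded_48_1 L796088 (flp_f L793245) L805535
theorem L805541 : sm gj N61438 = N60315 := ded_53_1 (flp_i L793643) (flp_j L793247) L805535
theorem L805543 : sm gb N60267 = N61439 := rfl
theorem L805545 : sm gf N61439 = N60677 := ded_22_2 L796449 (flp_f L793259) L805543
theorem L805547 : sm gg N61439 = N60268 := ded_23_2 (flp_b L793265) (flp_g L793261) L805543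
theorem L805549 : sm gh N61439 = N60271 := ded_25_2 (flp_b L793291) (flp_h L793263) L805543
theorem L805551 : sm gc N61439 = N60279 := ded_19_2 (flp_b L793363) (flp_c L780996) (flp_b L780905) L793255 L805543
theorem L805553 : sm ga N60268 = N61440 := rfl
theorem L805555 : sm gc N61440 = N60284 := ded_11_2 (flp_a L793398) (flp_c L793271) L805553
theorem L805557 : sm gf N61440 = N60270 := ded_14_2 (flp_a L793281) (flp_f L793267) L805553
theorem L805559 : sm gh N61440 = N60272 := ded_17_2 (flp_a L793303) (flp_h L793269) L805553
theorem L805561 : sm ge N60268 = N61441 := rfl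
theorem L805563 : sm gb N61441 = N60269 := ded_21_1 (flp_e L793273) L793265 L805561
theorem L805565 : sm gc N61441 = N60285 := ded_28_1 (flp_e L793404) (flp_c L793271) L805561
theorem L805567 : sm gh N61441 = N60273 := ded_43_2 (flp_e L793309) (flp_h L793269) L805561
theorem L805569 : sm gf N61441 = N60662 := ded_40_2 (flp_e L796344) L784294 (flp_e L780930) (flp_f L793267) L805561
theorem L805571 : sm gd N60269 = N61442 := rfl
theorem L805573 : sm gf N61442 = N60663 := ded_35_2 (flp_d L796348) (flp_f L793279) L805571
theorem L805575 : sm gc N61442 = N61442 := ded_27_1 (flp_d L805571) L793275 L780925 (flp_c L793275) L805571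
theorem L805576 : sm gh N61442 = N60632 := ded_38_2 (flp_d L796140) (flp_h L787488) L787492 (flp_h L793277) L805571
theorem L805578 : sm ga N60271 = N61443 := rfl
theorem L805580 : sm gc N61443 = N60298 := ded_11_2 (flp_a L793517) (flp_c L793301) L805578
theorem L805582 : sm gd N61443 = N60635 := ded_12_2 (flp_a L796161) (flp_d L793293) L805578
theorem L805584 : sm gf N61443 = N60680 := ded_14_2 (flp_a L796467) (flp_f L793295) L805578
theorem L805586 : sm gg N61443 = N60272 := ded_15_2 (flp_a L793303) (flp_g L793297) L805578
theorem L805588 : sm gi N61443 = N60477 := ded_18_2 (flp_a L795129) (flp_i L793299) L805578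
theorem L805590 : sm gb N61443 = N60435 := ded_10_2 (flp_a L794815) (flp_b L782613) (flp_a L780940) L793291 L805578
theorem L805592 : sm ge N60272 = N61444 := rfl
theorem L805594 : sm ga N61444 = N60273 := ded_13_1 (flp_e L793309) L793303 L805592
theorem L805596 : sm gc N61444 = N60301 := ded_28_1 (flp_e L793539) (flp_c L793305) L805592
theorem L805598 : sm gb N60275 = N61445 := rfl
theorem L805600 : sm gd N61445 = N60374 := ded_20_2 (flp_b L794272) (flp_d L793337) L805598
theorem L805602 : sm gf N61445 = N60371 := ded_22_2 (flp_b L794238) (flp_f L793331) L805598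
theorem L805604 : sm gj N61445 = N60279 := ded_24_2 (flp_b L793363) (flp_j L793333) L805598
theorem L805606 : sm gh N61445 = N60295 := ded_25_2 (flp_b L793493) (flp_h L793335) L805598
theorem L805608 : sm ge N60275 = N61446 := rfl
theorem L805610 : sm ga N61446 = N60447 := ded_13_1 (flp_e L794902) (flp_a L793329) L805608
theorem L805612 : sm gc N61446 = N60276 := ded_28_1 (flp_e L793339) L793327 L805608
theorem L805614 : sm gj N61446 = N60280 := ded_42_2 (flp_e L793371) (flp_j L793333) L805608
theorem L805616 : sm gh N61446 = N60296 := ded_43_2 (flp_e L793501) (flp_h L793335) L805608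
theorem L805618 : sm gf N60276 = N61447 := rfl
theorem L805620 : sm ga N61447 = N60448 := ded_14_1 (flp_f L794906) (flp_a L793341) L805618
theorem L805622 : sm gd N61447 = N61447 := ded_35_1 (flp_f L805618) L793347 L805618
theorem L805623 : sm gj N61447 = N60281 := ded_46_2 (flp_f L793379) (flp_j L793343) L805618
theorem L805625 : sm gh N61447 = N60297 := ded_47_2 (flp_f L793507) (flp_h L793345) L805618
theorem L805627 : sm ge N61447 = N60373 := ded_40_1 (flp_f L794262) (flp_e L782034) (flp_f L780982) L793339 L805618
theorem L805629 : sm gb N60277 = N61448 := rfl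
theorem L805631 : sm gf N61448 = N60685 := ded_22_2 (flp_b L796499) (flp_f L793350) L805629
theorem L805633 : sm gg N61448 = N60282 := ded_23_2 (flp_b L793386) (flp_g L793352) L805629
theorem L805635 : sm gi N61448 = N60279 := ded_26_2 (flp_b L793363) (flp_i L793354) L805629
theorem L805637 : sm ge N60277 = N61449 := rfl
theorem L805639 : sm gc N61449 = N60278 := ded_28_1 (flp_e L793356) L793348 L805637
theorem L805641 : sm gg N61449 = N60283 := ded_41_2 (flp_e L793392) (flp_g L793352) L805637
theorem L805643 : sm gi N61449 = N60280 := ded_44_2 (flp_e L793371) (flp_i L793354) L805637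
theorem L805645 : sm gf N60278 = N61450 := rfl
theorem L805647 : sm gd N61450 = N61450 := ded_35_1 (flp_f L805645) L793362 L805645
theorem L805648 : sm gi N61450 = N60281 := ded_48_2 (flp_f L793379) (flp_i L793360) L805645
theorem L805650 : sm ge N61450 = N60687 := ded_40_1 (flp_f L796513) (flp_e L784483) (flp_f L780990) L793356 L805645
theorem L805652 : sm ga N60279 = N61451 := rfl
theorem L805654 : sm gf N61451 = N60688 := ded_14_2 (flp_a L796519) (flp_f L793365) L805652
theorem L805656 : sm gg N61451 = N60284 := ded_15_2 (flp_a L793398) (flp_g L793367) L805652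
theorem L805658 : sm gh N61451 = N60298 := ded_17_2 (flp_a L793517) (flp_h L793369) L805652
theorem L805660 : sm ge N60279 = N61452 := rfl
theorem L805662 : sm gb N61452 = N60280 := ded_21_1 (flp_e L793371) L793363 L805660
theorem L805664 : sm gg N61452 = N60285 := ded_41_2 (flp_e L793404) (flp_g L793367) L805660
theorem L805666 : sm gh N61452 = N60299 := ded_43_2 (flp_e L793525) (flp_h L793369) L805660
theorem L805668 : sm gd N60280 = N61453 := rfl
theorem L805670 : sm gg N61453 = N60286 := ded_36_2 (flp_d L793410) (flp_g L793375) L805668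
theorem L805672 : sm gc N61453 = N61453 := ded_27_1 (flp_d L805668) L793373 L781010 (flp_c L793373) L805668
theorem L805673 : sm gf N60280 = N61454 := rfl
theorem L805675 : sm gc N61454 = N60281 := ded_29_1 (flp_f L793379) (flp_c L793373) L805673
theorem L805677 : sm gh N61454 = N60300 := ded_47_2 (flp_f L793531) (flp_h L793377) L805673
theorem L805679 : sm ge N61454 = N60684 := ded_40_1 L796497 (flp_e L784497) (flp_f L780998) L793371 L805673
theorem L805681 : sm ga N60282 = N61455 := rfl
theorem L805683 : sm gf N61455 = N60288 := ded_14_2 (flp_a L793423) (flp_f L793388) L805681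
theorem L805685 : sm gi N61455 = N60284 := ded_18_2 (flp_a L793398) (flp_i L793390) L805681
theorem L805687 : sm ge N60282 = N61456 := rfl
theorem L805689 : sm gb N61456 = N60283 := ded_21_1 (flp_e L793392) L793386 L805687
theorem L805691 : sm gi N61456 = N60285 := ded_44_2 (flp_e L793404) (flp_i L793390) L805687
theorem L805693 : sm gd N60283 = N61457 := rfl
theorem L805695 : sm gi N61457 = N60286 := ded_39_2 (flp_d L793410) (flp_i L793396) L805693
theorem L805697 : sm gc N61457 = N61457 := ded_27_1 (flp_d L805693) L793394 L781021 (flp_c L793394) L805693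
theorem L805698 : sm ge N60284 = N61458 := rfl
theorem L805700 : sm ga N61458 = N60285 := ded_13_1 (flp_e L793404) L793398 L805698
theorem L805702 : sm gh N61458 = N60301 := ded_43_2 (flp_e L793539) (flp_h L793402) L805698
theorem L805704 : sm gd N60285 = N61459 := rfl
theorem L805706 : sm gb N61459 = N60286 := ded_20_1 (flp_d L793410) (flp_b L793406) L805704
theorem L805708 : sm gf N60285 = N61460 := rfl
theorem L805710 : sm gb N61460 = N60287 := ded_22_1 (flp_f L793413) (flp_b L793406) L805708
theorem L805712 : sm gc N61460 = N60662 := ded_29_1 (flp_f L805569) L805565 L805708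
theorem L805714 : sm gh N61460 = N60303 := ded_47_2 (flp_f L793553) (flp_h L793408) L805708
theorem L805716 : sm ge N61460 = N60293 := ded_40_1 (flp_f L793473) (flp_e L781069) (flp_f L781024) L793404 L805708
theorem L805718 : sm gf N60286 = N61461 := rfl
theorem L805720 : sm ga N61461 = N60653 := ded_14_1 (flp_f L804125) L804123 L805718
theorem L805722 : sm gc N61461 = N61461 := ded_29_1 (flp_f L805718) L793412 L805718
theorem L805723 : sm gd N61461 = N60287 := ded_35_1 (flp_f L793413) L793410 L805718
theorem L805725 : sm gh N60442 = N61461 := ded_38_0 L805723 L793419 L781157 (flp_h L782658) L794865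
theorem L805727 : sm gh N60286 = N61462 := rfl
theorem L805729 : sm gc N61462 = N61462 := ded_32_1 (flp_h L805727) L793412 L805727
theorem L805730 : sm gf N61462 = N60442 := ded_47_1 L805725 (flp_f L805718) L805727
theorem L805732 : sm gd N61462 = N60304 := ded_38_1 (flp_h L793563) (flp_d L781141) (flp_h L781032) L793410 L805727
theorem L805734 : sm ge N60288 = N61463 := rfl
theorem L805736 : sm ga N61463 = N60289 := ded_13_1 (flp_e L793429) L793423 L805734
theorem L805738 : sm gb N61463 = N60654 := ded_21_1 (flp_e L804132) L804142 L805734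
theorem L805740 : sm gc N61463 = N60629 := ded_28_1 (flp_e L803868) L803864 L805734
theorem L805742 : sm gg N61463 = N60633 := ded_41_2 L796149 (flp_g L793425) L805734
theorem L805744 : sm gh N61463 = N60614 := ded_43_2 (flp_e L804866) L804872 L805734
theorem L805746 : sm gi N61463 = N60291 := ded_44_2 (flp_e L793451) (flp_i L793427) L805734
theorem L805748 : sm gd N60289 = N61464 := rfl
theorem L805750 : sm gb N61464 = N60290 := ded_20_1 (flp_d L793441) (flp_b L793431) L805748
theorem L805752 : sm gg N61464 = N60424 := ded_36_2 L794712 (flp_g L793435) L805748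
theorem L805754 : sm gi N61464 = N60292 := ded_39_2 (flp_d L793463) (flp_i L793439) L805748
theorem L805756 : sm gc N61464 = N60418 := ded_27_1 L794661 L782499 (flp_d L784069) (flp_c L793433) L805748
theorem L805758 : sm gd N60291 = N61465 := rfl
theorem L805760 : sm ga N61465 = N60292 := ded_12_1 (flp_d L793463) (flp_a L793453) L805758
theorem L805762 : sm gb N61465 = N60624 := ded_20_1 L796092 (flp_b L793455) L805758
theorem L805764 : sm gg N61465 = N60457 := ded_36_2 L794970 (flp_g L793459) L805758
theorem L805766 : sm gc N61465 = N60449 := ded_27_1 L794913 L782743 (flp_d L784302) (flp_c L793457) L805758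
theorem L805768 : sm gh N61465 = N60605 := ded_38_2 L795983 L783912 (flp_d L781173) (flp_h L793461) L805758
theorem L805770 : sm gf N60291 = N61466 := rfl
theorem L805772 : sm ga N61466 = N60293 := ded_14_1 (flp_f L793473) (flp_a L793453) L805770
theorem L805774 : sm gb N61466 = N60651 := ded_22_1 L796273 (flp_b L793455) L805770
theorem L805776 : sm gc N61466 = N60661 := ded_29_1 L796342 (flp_c L793457) L805770
theorem L805778 : sm gh N61466 = N60305 := ded_47_2 (flp_f L793571) (flp_h L793461) L805770
theorem L805780 : sm gf N60292 = N61467 := rfl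
theorem L805782 : sm gb N61467 = N60294 := ded_22_1 (flp_f L793481) (flp_b L793465) L805780
theorem L805784 : sm gc N61467 = N60446 := ded_29_1 L794900 (flp_c L793469) L805780
theorem L805786 : sm gd N61467 = N60293 := ded_35_1 (flp_f L793473) L793463 L805780
theorem L805788 : sm gj N61467 = N60365 := ded_46_2 (flp_f L797835) L797839 L805780
theorem L805790 : sm gh N61467 = N60356 := ded_47_2 L794086 (flp_h L793471) L805780
theorem L805792 : sm ge N60294 = N61468 := rfl
theorem L805794 : sm ga N61468 = N60429 := ded_13_1 (flp_e L794763) (flp_a L793483) L805792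
theorem L805796 : sm gc N61468 = N60339 := ded_28_1 (flp_e L793867) (flp_c L793485) L805792
theorem L805798 : sm gj N61468 = N60366 := ded_42_2 (flp_e L794190) (flp_j L793489) L805792
theorem L805800 : sm gh N61468 = N60357 := ded_43_2 (flp_e L794092) (flp_h L793491) L805792
theorem L805802 : sm ga N60295 = N61469 := rfl
theorem L805804 : sm gd N61469 = N60306 := ded_12_2 (flp_a L793581) (flp_d L793495) L805802
theorem L805806 : sm gf N61469 = N60694 := ded_14_2 (flp_a L796559) (flp_f L793497) L805802
theorem L805808 : sm gj N61469 = N60298 := ded_16_2 (flp_a L793517) (flp_j L793499) L805802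
theorem L805810 : sm ge N60295 = N61470 := rfl
theorem L805812 : sm gb N61470 = N60296 := ded_21_1 (flp_e L793501) L793493 L805810
theorem L805814 : sm gj N61470 = N60299 := ded_42_2 (flp_e L793525) (flp_j L793499) L805810
theorem L805816 : sm gf N60296 = N61471 := rfl
theorem L805818 : sm gc N61471 = N60297 := ded_29_1 (flp_f L793507) (flp_c L793503) L805816
theorem L805820 : sm gd N61471 = N60456 := ded_35_1 (flp_f L805043) L805049 L805816
theorem L805822 : sm gj N61471 = N60300 := ded_46_2 (flp_f L793531) (flp_j L793505) L805816
theorem L805824 : sm gi N61471 = N60621 := ded_48_2 (flp_f L800403) L800411 L805816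
theorem L805826 : sm ge N61471 = N60672 := ded_40_1 L796405 L784541 (flp_f L781099) L793501 L805816
theorem L805828 : sm ge N60298 = N61472 := rfl
theorem L805830 : sm ga N61472 = N60299 := ded_13_1 (flp_e L793525) L793517 L805828
theorem L805832 : sm gg N61472 = N60301 := ded_41_2 (flp_e L793539) (flp_g L793523) L805828
theorem L805834 : sm gf N60299 = N61473 := rfl
theorem L805836 : sm gb N61473 = N60300 := ded_22_1 (flp_f L793531) (flp_b L793527) L805834
theorem L805838 : sm gd N61473 = N60486 := ded_35_1 (flp_f L804980) L804988 L805834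
theorem L805840 : sm ge N61473 = N60683 := ded_40_1 L796491 (flp_e L784565) (flp_f L781115) L793525 L805834
theorem L805842 : sm gd N60301 = N61474 := rfl
theorem L805844 : sm ga N61474 = N60302 := ded_12_1 (flp_d L793543) (flp_a L793541) L805842
theorem L805846 : sm gi N61474 = N60505 := ded_39_2 L804902 L804898 L805842
theorem L805848 : sm ge N61474 = N60312 := ded_34_2 (flp_d L793629) (flp_e L781219) (flp_d L781133) L793539 L805842
theorem L805850 : sm gf N60444 = N61474 := ded_14_0 L805844 (flp_f L793551) (flp_a L794880)
theorem L805852 : sm gf N60301 = N61475 := rfl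
theorem L805854 : sm ga N61475 = N60303 := ded_14_1 (flp_f L793553) (flp_a L793541) L805852
theorem L805856 : sm gb N61475 = N60659 := ded_22_1 (flp_f L804152) L804148 L805852
theorem L805858 : sm gd N61475 = N60444 := ded_35_1 L805850 (flp_d L805842) L805852
theorem L805860 : sm gi N61475 = N60363 := ded_48_2 (flp_f L804900) L804898 L805852
theorem L805862 : sm ge N61475 = N60305 := ded_40_1 (flp_f L793571) (flp_e L781163) (flp_f L781135) L793539 L805852
theorem L805864 : sm gh N60302 = N61476 := rfl
theorem L805866 : sm gb N61476 = N60304 := ded_25_1 (flp_h L793563) (flp_b L793545) L805864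
theorem L805868 : sm ge N61476 = N60314 := ded_43_1 (flp_h L793639) (flp_e L793549) L805864
theorem L805870 : sm gf N61476 = N60441 := ded_47_1 L794863 L793551 L805864
theorem L805872 : sm gi N60304 = N61477 := rfl
theorem L805874 : sm gc N61477 = N60328 := ded_33_1 (flp_i L793754) (flp_c L793565) L805872
theorem L805876 : sm ge N61477 = N60315 := ded_44_1 (flp_i L793643) (flp_e L793567) L805872
theorem L805878 : sm gf N61477 = N60439 := ded_48_1 L794853 (flp_f L793569) L805872
theorem L805880 : sm gh N61477 = N60497 := ded_54_1 L795268 L783073 (flp_i L781143) L793563 L805872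
theorem L805882 : sm ge N60306 = N61478 := rfl
theorem L805884 : sm ga N61478 = N60307 := ded_13_1 (flp_e L793587) L793581 L805882
theorem L805886 : sm gj N61478 = N60309 := ded_42_2 (flp_e L793605) (flp_j L793585) L805882
theorem L805888 : sm gh N61478 = N60573 := ded_43_2 (flp_e L802984) L802990 L805882
theorem L805890 : sm gf N61478 = N60570 := ded_40_2 (flp_e L795745) (flp_f L786591) L786589 (flp_f L793583) L805882
theorem L805892 : sm gd N60307 = N61479 := rfl
theorem L805894 : sm gb N61479 = N60308 := ded_20_1 (flp_d L793597) (flp_b L793589) L805892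
theorem L805896 : sm gf N61479 = N60458 := ded_35_2 L794982 (flp_f L793595) L805892
theorem L805898 : sm gj N61479 = N60310 := ded_37_2 (flp_d L793611) (flp_j L793591) L805892
theorem L805900 : sm gc N60473 = N61479 := ded_19_0 L805894 L793603 L781362 (flp_c L782878) (flp_b L795099)
theorem L805902 : sm gd N60309 = N61480 := rfl
theorem L805904 : sm ga N61480 = N60310 := ded_12_1 (flp_d L793611) (flp_a L793607) L805902
theorem L805906 : sm gf N61480 = N60487 := ded_35_2 (flp_d L798790) L798792 L805902
theorem L805908 : sm gg N61480 = N60312 := ded_36_2 (flp_d L793629) (flp_g L793609) L805902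
theorem L805910 : sm gc N60505 = N61480 := ded_11_0 L805904 (flp_c L793619) (flp_a L795312)
theorem L805912 : sm gh N60310 = N61481 := rfl
theorem L805914 : sm gb N61481 = N60311 := ded_25_1 (flp_h L793621) (flp_b L793613) L805912
theorem L805916 : sm gc N61481 = N60499 := ded_32_1 L795280 L793619 L805912
theorem L805918 : sm gf N61481 = N60483 := ded_47_1 L795173 (flp_f L793615) L805912
theorem L805920 : sm gg N61481 = N60314 := ded_50_1 (flp_h L793639) (flp_g L793617) L805912
theorem L805922 : sm gi N60311 = N61482 := rfl
theorem L805924 : sm gc N61482 = N60329 := ded_33_1 (flp_i L793763) (flp_c L793623) L805922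
theorem L805926 : sm gf N61482 = N60481 := ded_48_1 L795159 (flp_f L793625) L805922
theorem L805928 : sm gg N61482 = N60315 := ded_51_1 (flp_i L793643) (flp_g L793627) L805922
theorem L805930 : sm gc N60312 = N61483 := rfl
theorem L805932 : sm ga N61483 = N60313 := ded_11_1 (flp_c L793633) (flp_a L793631) L805930
theorem L805934 : sm gg N61483 = N60505 := ded_30_2 L805910 L805908 L805930
theorem L805936 : sm gh N60312 = N61484 := rfl
theorem L805938 : sm ga N61484 = N60314 := ded_17_1 (flp_h L793639) (flp_a L793631) L805936
theorem L805940 : sm gh N60313 = N61485 := rfl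
theorem L805942 : sm gb N61485 = N60332 := ded_25_1 (flp_h L793795) (flp_b L793637) L805940
theorem L805944 : sm gc N61485 = N60314 := ded_32_1 (flp_h L793639) L793633 L805940
theorem L805946 : sm gg N61485 = N60499 := ded_50_1 L795280 (flp_g L793635) L805940
theorem L805948 : sm gi N60314 = N61486 := rfl
theorem L805950 : sm gb N61486 = N60315 := ded_26_1 (flp_i L793643) (flp_b L793641) L805948
theorem L805952 : sm gf N60317 = N61487 := rfl
theorem L805954 : sm gd N61487 = N60318 := ded_35_1 (flp_f L793665) L793657 L805952
theorem L805956 : sm gi N61487 = N60338 := ded_48_2 L793863 (flp_i L793661) L805952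
theorem L805958 : sm gg N61487 = N60420 := ded_45_2 (flp_f L794677) L782477 (flp_f L781263) (flp_g L793659) L805952
theorem L805960 : sm gh N60317 = N61488 := rfl
theorem L805962 : sm ge N61488 = N60323 := ded_43_1 (flp_h L793714) (flp_e L793663) L805960
theorem L805964 : sm gg N61488 = N60319 := ded_50_1 (flp_h L793675) (flp_g L793659) L805960
theorem L805966 : sm gd N61488 = N61488 := ded_38_1 (flp_h L805960) (flp_d L793657) L781248 L793657 L805960
theorem L805967 : sm gi N60319 = N61489 := rfl
theorem L805969 : sm gd N61489 = N61489 := ded_39_1 (flp_i L805967) L793683 L805967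
theorem L805970 : sm ge N61489 = N60327 := ded_44_1 (flp_i L793746) (flp_e L793677) L805967
theorem L805972 : sm gf N61489 = N60427 := ded_48_1 L794750 (flp_f L793679) L805967
theorem L805974 : sm gj N61489 = N60328 := ded_53_1 (flp_i L793754) (flp_j L793681) L805967
theorem L805976 : sm gh N61489 = N60465 := ded_54_1 L795043 L782844 (flp_i L781267) L793675 L805967
theorem L805978 : sm gd N60321 = N61490 := rfl
theorem L805980 : sm ga N61490 = N60322 := ded_12_1 (flp_d L793706) (flp_a L793694) L805978
theorem L805982 : sm gb N61490 = N60408 := ded_20_1 (flp_d L794572) (flp_b L793696) L805978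
theorem L805984 : sm gg N61490 = N60324 := ded_36_2 (flp_d L793720) (flp_g L793700) L805978
theorem L805986 : sm gj N61490 = N60390 := ded_37_2 L794421 (flp_j L793702) L805978
theorem L805988 : sm gc N60322 = N61491 := rfl
theorem L805990 : sm gg N61491 = N60325 := ded_30_2 (flp_c L793730) (flp_g L793710) L805988
theorem L805992 : sm gj N61491 = N60474 := ded_31_2 L795105 (flp_j L793712) L805988
theorem L805994 : sm gd N61491 = N60618 := ded_27_2 L796060 L784010 (flp_c L781300) L793706 L805988
theorem L805996 : sm gi N60323 = N61492 := rfl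
theorem L805998 : sm gd N61492 = N60335 := ded_39_1 (flp_i L793833) (flp_d L793718) L805996
theorem L806000 : sm gg N61492 = N60327 := ded_51_1 (flp_i L793746) (flp_g L793716) L805996
theorem L806002 : sm gc N60324 = N61493 := rfl
theorem L806004 : sm ga N61493 = N60325 := ded_11_1 (flp_c L793730) (flp_a L793722) L806002
theorem L806006 : sm gf N61493 = N60616 := ded_29_2 L796048 (flp_f L793726) L806002
theorem L806008 : sm gj N61493 = N60330 := ded_31_2 (flp_c L793773) (flp_j L793728) L806002
theorem L806010 : sm gd N61493 = N60378 := ded_27_2 L794300 L782086 (flp_c L781318) L793720 L806002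
theorem L806012 : sm gh N60324 = N61494 := rfl
theorem L806014 : sm ga N61494 = N60326 := ded_17_1 (flp_h L793736) (flp_a L793722) L806012
theorem L806016 : sm gb N61494 = N60373 := ded_25_1 L794270 (flp_b L793724) L806012
theorem L806018 : sm gf N61494 = N60370 := ded_47_1 L794234 (flp_f L793726) L806012
theorem L806020 : sm gj N61494 = N60331 := ded_52_1 (flp_h L793783) (flp_j L793728) L806012
theorem L806022 : sm gd N61494 = N60336 := ded_38_1 (flp_h L793839) (flp_d L781450) (flp_h L781322) L793720 L806012
theorem L806024 : sm gh N60325 = N61495 := rfl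
theorem L806026 : sm gc N61495 = N60326 := ded_32_1 (flp_h L793736) L793730 L806024
theorem L806028 : sm gf N61495 = N60618 := ded_47_1 L796062 (flp_f L793732) L806024
theorem L806030 : sm gj N61495 = N60332 := ded_52_1 (flp_h L793795) (flp_j L793734) L806024
theorem L806032 : sm gb N60330 = N61496 := rfl
theorem L806034 : sm gd N61496 = N60396 := ded_20_2 L794473 (flp_d L793781) L806032
theorem L806036 : sm gf N61496 = N60681 := ded_22_2 L796475 (flp_f L793777) L806032
theorem L806038 : sm gg N61496 = N60406 := ded_23_2 L794557 (flp_g L793779) L806032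
theorem L806040 : sm gc N61496 = N60683 := ded_19_2 L796489 L784475 (flp_b L781382) L793773 L806032
theorem L806042 : sm gh N60330 = N61497 := rfl
theorem L806044 : sm ga N61497 = N60332 := ded_17_1 (flp_h L793795) (flp_a L793775) L806042
theorem L806046 : sm gc N61497 = N60331 := ded_32_1 (flp_h L793783) L793773 L806042
theorem L806048 : sm gf N61497 = N60675 := ded_47_1 L796435 (flp_f L793777) L806042
theorem L806050 : sm gg N61497 = N60402 := ded_50_1 L794531 (flp_g L793779) L806042
theorem L806052 : sm gd N60332 = N61498 := rfl
theorem L806054 : sm gf N61498 = N60474 := ded_35_2 (flp_d L800259) L800267 L806052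
theorem L806056 : sm gg N61498 = N60451 := ded_36_2 L794929 (flp_g L793799) L806052
theorem L806058 : sm gc N61498 = N60338 := ded_27_1 (flp_d L793861) L781514 (flp_d L781398) (flp_c L793797) L806052
theorem L806060 : sm gd N60337 = N61499 := rfl
theorem L806062 : sm ga N61499 = N60338 := ded_12_1 (flp_d L793861) (flp_a L793852) L806060
theorem L806064 : sm gf N61499 = N60390 := ded_35_2 L794421 (flp_f L793857) L806060
theorem L806066 : sm gg N61499 = N60373 := ded_36_2 L794266 (flp_g L793859) L806060
theorem L806068 : sm gh N61499 = N60408 := ded_38_2 (flp_d L794572) L782370 (flp_d L781499) L793850 L806060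
theorem L806070 : sm ge N60338 = N61500 := rfl
theorem L806072 : sm gg N61500 = N60448 := ded_41_2 L794909 (flp_g L793865) L806070
theorem L806074 : sm gd N61500 = N61500 := ded_34_1 (flp_e L806070) (flp_d L793861) L781516 L793861 L806070
theorem L806075 : sm ga N60345 = N61501 := rfl
theorem L806077 : sm gc N61501 = N60353 := ded_11_2 (flp_a L794054) (flp_c L793960) L806075
theorem L806079 : sm gd N61501 = N60565 := ded_12_2 (flp_a L795715) (flp_d L793950) L806075
theorem L806081 : sm gf N61501 = N60347 := ded_14_2 (flp_a L793974) (flp_f L793952) L806075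
theorem L806083 : sm gj N61501 = N60545 := ded_16_2 (flp_a L795594) (flp_j L793954) L806075
theorem L806085 : sm gh N61501 = N60584 := ded_17_2 (flp_a L795835) (flp_h L793956) L806075
theorem L806087 : sm gi N61501 = N60558 := ded_18_2 (flp_a L795673) (flp_i L793958) L806075
theorem L806089 : sm ge N60345 = N61502 := rfl
theorem L806091 : sm gb N61502 = N60346 := ded_21_1 (flp_e L793962) L793948 L806089
theorem L806093 : sm gc N61502 = N60354 := ded_28_1 (flp_e L794064) (flp_c L793960) L806089
theorem L806095 : sm gj N61502 = N60546 := ded_42_2 (flp_e L795600) (flp_j L793954) L806089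
theorem L806097 : sm gh N61502 = N60585 := ded_43_2 (flp_e L795839) (flp_h L793956) L806089
theorem L806099 : sm gi N61502 = N60559 := ded_44_2 (flp_e L795679) (flp_i L793958) L806089
theorem L806101 : sm gf N61502 = N60557 := ded_40_2 (flp_e L795667) L783501 (flp_e L781706) (flp_f L793952) L806089
theorem L806103 : sm ga N60348 = N61503 := rfl
theorem L806105 : sm gc N61503 = N60584 := ded_11_2 (flp_a L795835) (flp_c L793998) L806103
theorem L806107 : sm gd N61503 = N60492 := ded_12_2 (flp_a L795239) (flp_d L793988) L806103
theorem L806109 : sm gf N61503 = N60350 := ded_14_2 (flp_a L794014) (flp_f L793990) L806103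
theorem L806111 : sm gg N61503 = N60608 := ded_15_2 (flp_a L795999) (flp_g L793992) L806103
theorem L806113 : sm gj N61503 = N60549 := ded_16_2 (flp_a L795622) (flp_j L793994) L806103
theorem L806115 : sm gh N61503 = N60353 := ded_17_2 (flp_a L794054) (flp_h L793996) L806103
theorem L806117 : sm gb N61503 = N60664 := ded_10_2 (flp_a L796353) (flp_b L784306) (flp_a L781716) L793986 L806103
theorem L806119 : sm ge N60348 = N61504 := rfl
theorem L806121 : sm gb N61504 = N60349 := ded_21_1 (flp_e L794000) L793986 L806119
theorem L806123 : sm gc N61504 = N60585 := ded_28_1 (flp_e L795839) (flp_c L793998) L806119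
theorem L806125 : sm gg N61504 = N60609 := ded_41_2 (flp_e L796005) (flp_g L793992) L806119
theorem L806127 : sm gj N61504 = N60550 := ded_42_2 (flp_e L795626) (flp_j L793994) L806119
theorem L806129 : sm gh N61504 = N60354 := ded_43_2 (flp_e L794064) (flp_h L793996) L806119
theorem L806131 : sm gf N61504 = N60453 := ded_40_2 (flp_e L794937) L782733 (flp_e L781747) (flp_f L793990) L806119
theorem L806133 : sm gd N60349 = N61505 := rfl
theorem L806135 : sm ga N61505 = N60666 := ded_12_1 (flp_d L796365) (flp_a L794002) L806133
theorem L806137 : sm gf N61505 = N60454 := ded_35_2 (flp_d L794943) (flp_f L794012) L806133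
theorem L806139 : sm gg N61505 = N60610 := ded_36_2 (flp_d L796009) (flp_g L794006) L806133
theorem L806141 : sm gj N61505 = N60551 := ded_37_2 (flp_d L795632) (flp_j L794008) L806133
theorem L806143 : sm gc N61505 = N61505 := ded_27_1 (flp_d L806133) L794004 L781740 (flp_c L794004) L806133
theorem L806144 : sm ge N61505 = N60494 := ded_34_2 (flp_d L795251) (flp_e L783037) (flp_d L781726) L794000 L806133
theorem L806146 : sm ga N60351 = N61506 := rfl
theorem L806148 : sm gd N61506 = N60355 := ded_12_2 (flp_a L794072) (flp_d L794030) L806146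
theorem L806150 : sm gf N61506 = N60542 := ded_14_2 (flp_a L795576) (flp_f L794032) L806146
theorem L806152 : sm gg N61506 = N60353 := ded_15_2 (flp_a L794054) (flp_g L794034) L806146
theorem L806154 : sm gh N61506 = N60608 := ded_17_2 (flp_a L795999) (flp_h L794036) L806146
theorem L806156 : sm gi N61506 = N60554 := ded_18_2 (flp_a L795647) (flp_i L794038) L806146
theorem L806158 : sm gb N61506 = N60556 := ded_10_2 (flp_a L795661) (flp_b L783499) (flp_a L781757) L794028 L806146
theorem L806160 : sm ge N60351 = N61507 := rfl
theorem L806162 : sm gb N61507 = N60352 := ded_21_1 (flp_e L794040) L794028 L806160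
theorem L806164 : sm gg N61507 = N60354 := ded_41_2 (flp_e L794064) (flp_g L794034) L806160
theorem L806166 : sm gh N61507 = N60609 := ded_43_2 (flp_e L796005) (flp_h L794036) L806160
theorem L806168 : sm gi N61507 = N60555 := ded_44_2 (flp_e L795653) (flp_i L794038) L806160
theorem L806170 : sm gd N61507 = N60546 := ded_34_1 (flp_e L795600) (flp_d L784782) L784784 (flp_d L794030) L806160
theorem L806172 : sm ge N60353 = N61508 := rfl
theorem L806174 : sm ga N61508 = N60354 := ded_13_1 (flp_e L794064) L794054 L806172
theorem L806176 : sm gj N61508 = N60552 := ded_42_2 (flp_e L795635) (flp_j L794060) L806172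
theorem L806178 : sm gi N61508 = N60560 := ded_44_2 (flp_e L795687) (flp_i L794062) L806172
theorem L806180 : sm ga N60356 = N61509 := rfl
theorem L806182 : sm gd N61509 = N60358 := ded_12_2 (flp_a L794104) (flp_d L794084) L806180
theorem L806184 : sm gf N61509 = N60605 := ded_14_2 (flp_a L795981) (flp_f L794086) L806180
theorem L806186 : sm gj N61509 = N60367 := ded_16_2 (flp_a L794198) (flp_j L794088) L806180
theorem L806188 : sm gi N61509 = N60387 := ded_18_2 (flp_a L794391) (flp_i L794090) L806180
theorem L806190 : sm gb N61509 = N60430 := ded_10_2 (flp_a L794771) (flp_b L782558) (flp_a L781827) L794082 L806180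
theorem L806192 : sm ge N60356 = N61510 := rfl
theorem L806194 : sm gb N61510 = N60357 := ded_21_1 (flp_e L794092) L794082 L806192
theorem L806196 : sm gj N61510 = N60368 := ded_42_2 (flp_e L794206) (flp_j L794088) L806192
theorem L806198 : sm gi N61510 = N60388 := ded_44_2 (flp_e L794399) (flp_i L794090) L806192
theorem L806200 : sm gd N61510 = N60415 := ded_34_1 (flp_e L794636) L782433 (flp_e L781849) (flp_d L794084) L806192
theorem L806202 : sm ga N60360 = N61511 := rfl
theorem L806204 : sm gc N61511 = N60679 := ded_11_2 (flp_a L796461) (flp_c L794146) L806202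
theorem L806206 : sm gd N61511 = N60445 := ded_12_2 (flp_a L794884) (flp_d L794138) L806202
theorem L806208 : sm gf N61511 = N60612 := ded_14_2 (flp_a L796020) (flp_f L794140) L806202
theorem L806210 : sm gg N61511 = N60443 := ded_15_2 (flp_a L794868) (flp_g L794142) L806202
theorem L806212 : sm gi N61511 = N60502 := ded_18_2 (flp_a L795294) (flp_i L794144) L806202
theorem L806214 : sm gb N61511 = N60361 := ded_10_2 (flp_a L794148) (flp_b L781911) (flp_a L781901) L794136 L806202
theorem L806216 : sm ge N60361 = N61512 := rfl
theorem L806218 : sm ga N61512 = N60362 := ded_13_1 (flp_e L794156) L794148 L806216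
theorem L806220 : sm gc N61512 = N60363 := ded_28_1 (flp_e L794162) (flp_c L794150) L806216
theorem L806222 : sm ga N60365 = N61513 := rfl
theorem L806224 : sm gh N61513 = N60367 := ded_17_2 (flp_a L794198) (flp_h L794188) L806222
theorem L806226 : sm gb N61513 = N60440 := ded_10_2 (flp_a L794855) (flp_b L782650) (flp_a L781963) L794186 L806222
theorem L806228 : sm ge N60365 = N61514 := rfl
theorem L806230 : sm gb N61514 = N60366 := ded_21_1 (flp_e L794190) L794186 L806228
theorem L806232 : sm gh N61514 = N60368 := ded_43_2 (flp_e L794206) (flp_h L794188) L806228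
theorem L806234 : sm gd N60366 = N61515 := rfl
theorem L806236 : sm ga N61515 = N60442 := ded_12_1 (flp_d L794865) (flp_a L794192) L806234
theorem L806238 : sm gc N61515 = N61515 := ded_27_1 (flp_d L806234) L794194 L781973 (flp_c L794194) L806234
theorem L806239 : sm gh N61515 = N60653 := ded_38_2 (flp_d L796283) L784214 (flp_d L781988) (flp_h L794196) L806234
theorem L806241 : sm ge N60367 = N61516 := rfl
theorem L806243 : sm ga N61516 = N60368 := ded_13_1 (flp_e L794206) L794198 L806241
theorem L806245 : sm gb N61516 = N60444 := ded_21_1 (flp_e L794878) (flp_b L794204) L806241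
theorem L806247 : sm gi N61516 = N60405 := ded_44_2 (flp_e L794547) (flp_i L794202) L806241
theorem L806249 : sm gd N61516 = N60659 := ded_34_1 (flp_e L796326) L784266 (flp_e L781992) (flp_d L794200) L806241
theorem L806251 : sm gb N60369 = N61517 := rfl
theorem L806253 : sm gg N61517 = N60377 := ded_23_2 (flp_b L794292) (flp_g L794218) L806251
theorem L806255 : sm gj N61517 = N60677 := ded_24_2 L796449 (flp_j L794220) L806251
theorem L806257 : sm gh N61517 = N60615 := ded_25_2 (flp_b L796038) (flp_h L794222) L806251
theorem L806259 : sm gc N61517 = N60371 := ded_19_2 (flp_b L794238) (flp_c L782022) (flp_b L782002) L794214 L806251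
theorem L806261 : sm ge N60369 = N61518 := rfl
theorem L806263 : sm ga N61518 = N60618 := ded_13_1 (flp_e L796058) (flp_a L794216) L806261
theorem L806265 : sm gc N61518 = N60370 := ded_28_1 (flp_e L794224) L794214 L806261
theorem L806267 : sm gg N61518 = N60378 := ded_41_2 (flp_e L794298) (flp_g L794218) L806261
theorem L806269 : sm gj N61518 = N60675 := ded_42_2 L796433 (flp_j L794220) L806261
theorem L806271 : sm gh N61518 = N60616 := ded_43_2 (flp_e L796044) (flp_h L794222) L806261
theorem L806273 : sm ga N60371 = N61519 := rfl
theorem L806275 : sm gd N61519 = N60376 := ded_12_2 (flp_a L794284) (flp_d L794240) L806273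
theorem L806277 : sm gg N61519 = N60387 := ded_15_2 (flp_a L794391) (flp_g L794242) L806273
theorem L806279 : sm gj N61519 = N60688 := ded_16_2 (flp_a L796519) (flp_j L794244) L806273
theorem L806281 : sm gh N61519 = N60694 := ded_17_2 (flp_a L796559) (flp_h L794246) L806273
theorem L806283 : sm gb N61519 = N60449 := ded_10_2 (flp_a L794911) (flp_b L782713) (flp_a L782024) L794238 L806273
theorem L806285 : sm ge N60371 = N61520 := rfl
theorem L806287 : sm gb N61520 = N60372 := ded_21_1 (flp_e L794248) L794238 L806285
theorem L806289 : sm gg N61520 = N60388 := ded_41_2 (flp_e L794399) (flp_g L794242) L806285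
theorem L806291 : sm gj N61520 = N60689 := ded_42_2 (flp_e L796525) (flp_j L794244) L806285
theorem L806293 : sm gh N61520 = N60693 := ded_43_2 L796557 (flp_h L794246) L806285
theorem L806295 : sm gd N61520 = N60401 := ded_34_1 (flp_e L794517) L782273 (flp_e L782072) (flp_d L794240) L806285
theorem L806297 : sm gf N60372 = N61521 := rfl
theorem L806299 : sm ga N61521 = N60451 := ded_14_1 (flp_f L794925) (flp_a L794250) L806297
theorem L806301 : sm gc N61521 = N60373 := ded_29_1 (flp_f L794262) (flp_c L794252) L806297
theorem L806303 : sm gd N61521 = N60402 := ded_35_1 (flp_f L794525) (flp_d L794260) L806297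
theorem L806305 : sm gj N61521 = N60684 := ded_46_2 L796497 (flp_j L794256) L806297
theorem L806307 : sm gh N61521 = N60672 := ded_47_2 L796405 (flp_h L794258) L806297
theorem L806309 : sm ga N60374 = N61522 := rfl
theorem L806311 : sm gf N61522 = N60376 := ded_14_2 (flp_a L794284) (flp_f L794274) L806309
theorem L806313 : sm gb N61522 = N60452 := ded_10_2 (flp_a L794931) (flp_b L782731) (flp_a L782059) L794272 L806309
theorem L806315 : sm ge N60374 = N61523 := rfl
theorem L806317 : sm gb N61523 = N60375 := ded_21_1 (flp_e L794276) L794272 L806315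
theorem L806319 : sm gf N61523 = N60665 := ded_40_2 (flp_e L796359) L784308 (flp_e L782072) (flp_f L794274) L806315
theorem L806321 : sm gd N60375 = N61524 := rfl
theorem L806323 : sm ga N61524 = N60454 := ded_12_1 (flp_d L794943) (flp_a L794278) L806321
theorem L806325 : sm gf N61524 = N60666 := ded_35_2 (flp_d L796365) (flp_f L794282) L806321
theorem L806327 : sm gc N61524 = N61524 := ded_27_1 (flp_d L806321) L794280 L782067 (flp_c L794280) L806321
theorem L806328 : sm ga N60377 = N61525 := rfl
theorem L806330 : sm gc N61525 = N60387 := ded_11_2 (flp_a L794391) (flp_c L794296) L806328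
theorem L806332 : sm gj N61525 = N60395 := ded_16_2 (flp_a L794465) (flp_j L794294) L806328
theorem L806334 : sm ge N60377 = N61526 := rfl
theorem L806336 : sm gb N61526 = N60378 := ded_21_1 (flp_e L794298) L794292 L806334
theorem L806338 : sm gc N61526 = N60388 := ded_28_1 (flp_e L794399) (flp_c L794296) L806334
theorem L806340 : sm gj N61526 = N60396 := ded_42_2 (flp_e L794471) (flp_j L794294) L806334
theorem L806342 : sm gf N60378 = N61527 := rfl
theorem L806344 : sm ga N61527 = N60621 := ded_14_1 (flp_f L800403) L800399 L806342
theorem L806346 : sm gc N61527 = N60379 := ded_29_1 (flp_f L794304) (flp_c L794300) L806342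
theorem L806348 : sm gd N61527 = N60616 := ded_35_1 (flp_f L806006) L806010 L806342
theorem L806350 : sm gj N61527 = N60397 := ded_46_2 (flp_f L794479) (flp_j L794302) L806342
theorem L806352 : sm gb N60380 = N61528 := rfl
theorem L806354 : sm gd N61528 = N60538 := ded_20_2 (flp_b L795544) (flp_d L794324) L806352
theorem L806356 : sm gf N61528 = N60382 := ded_22_2 (flp_b L794335) (flp_f L794318) L806352
theorem L806358 : sm gj N61528 = N60398 := ded_24_2 (flp_b L794487) (flp_j L794320) L806352
theorem L806360 : sm gh N61528 = N60385 := ded_25_2 (flp_b L794369) (flp_h L794322) L806352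
theorem L806362 : sm ge N60380 = N61529 := rfl
theorem L806364 : sm ga N61529 = N60462 := ded_13_1 (flp_e L795015) (flp_a L794316) L806362
theorem L806366 : sm gc N61529 = N60381 := ded_28_1 (flp_e L794326) L794314 L806362
theorem L806368 : sm gj N61529 = N60399 := ded_42_2 (flp_e L794497) (flp_j L794320) L806362
theorem L806370 : sm gh N61529 = N60386 := ded_43_2 (flp_e L794379) (flp_h L794322) L806362
theorem L806372 : sm ga N60382 = N61530 := rfl
theorem L806374 : sm gd N61530 = N60678 := ded_12_2 (flp_a L796455) (flp_d L794337) L806372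
theorem L806376 : sm gg N61530 = N60694 := ded_15_2 (flp_a L796559) (flp_g L794339) L806372
theorem L806378 : sm gj N61530 = N60400 := ded_16_2 (flp_a L794507) (flp_j L794341) L806372
theorem L806380 : sm gh N61530 = N60387 := ded_17_2 (flp_a L794391) (flp_h L794343) L806372
theorem L806382 : sm gb N61530 = N60466 := ded_10_2 (flp_a L795045) (flp_b L782824) (flp_a L782114) L794335 L806372
theorem L806384 : sm ge N60382 = N61531 := rfl
theorem L806386 : sm gb N61531 = N60383 := ded_21_1 (flp_e L794345) L794335 L806384
theorem L806388 : sm gg N61531 = N60693 := ded_41_2 L796557 (flp_g L794339) L806384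
theorem L806390 : sm gj N61531 = N60401 := ded_42_2 (flp_e L794517) (flp_j L794341) L806384
theorem L806392 : sm gh N61531 = N60388 := ded_43_2 (flp_e L794399) (flp_h L794343) L806384
theorem L806394 : sm gd N61531 = N60689 := ded_34_1 (flp_e L796525) (flp_d L786575) L786577 (flp_d L794337) L806384
theorem L806396 : sm gf N60383 = N61532 := rfl
theorem L806398 : sm ga N61532 = N60468 := ded_14_1 (flp_f L795059) (flp_a L794347) L806396
theorem L806400 : sm gc N61532 = N60384 := ded_29_1 (flp_f L794359) (flp_c L794349) L806396
theorem L806402 : sm gd N61532 = N60684 := ded_35_1 L796497 (flp_d L794357) L806396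
theorem L806404 : sm gj N61532 = N60402 := ded_46_2 (flp_f L794525) (flp_j L794353) L806396
theorem L806406 : sm gh N61532 = N60389 := ded_47_2 (flp_f L794407) (flp_h L794355) L806396
theorem L806408 : sm gg N60384 = N61533 := rfl
theorem L806410 : sm ga N61533 = N60469 := ded_15_1 (flp_g L795067) (flp_a L794361) L806408
theorem L806412 : sm gd N61533 = N60407 := ded_36_1 (flp_g L794561) (flp_d L794363) L806408
theorem L806414 : sm gh N61533 = N60390 := ded_50_2 (flp_g L794417) (flp_h L794367) L806408
theorem L806416 : sm gf N61533 = N60408 := ded_45_1 L794574 (flp_f L784553) (flp_g L782128) L794359 L806408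
theorem L806418 : sm ga N60385 = N61534 := rfl
theorem L806420 : sm gd N61534 = N60391 := ded_12_2 (flp_a L794423) (flp_d L794371) L806418
theorem L806422 : sm gf N61534 = N60387 := ded_14_2 (flp_a L794391) (flp_f L794373) L806418
theorem L806424 : sm gj N61534 = N60403 := ded_16_2 (flp_a L794533) (flp_j L794375) L806418
theorem L806426 : sm gi N61534 = N60605 := ded_18_2 (flp_a L795981) (flp_i L794377) L806418
theorem L806428 : sm gb N61534 = N60470 := ded_10_2 (flp_a L795073) (flp_b L782846) (flp_a L782138) L794369 L806418
theorem L806430 : sm ge N60385 = N61535 := rfl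
theorem L806432 : sm gb N61535 = N60386 := ded_21_1 (flp_e L794379) L794369 L806430
theorem L806434 : sm gj N61535 = N60404 := ded_42_2 (flp_e L794541) (flp_j L794375) L806430
theorem L806436 : sm gi N61535 = N60606 := ded_44_2 (flp_e L795987) (flp_i L794377) L806430
theorem L806438 : sm gd N61535 = N60594 := ded_34_1 (flp_e L795902) L783793 (flp_e L782194) (flp_d L794371) L806430
theorem L806440 : sm ge N60387 = N61536 := rfl
theorem L806442 : sm ga N61536 = N60388 := ded_13_1 (flp_e L794399) L794391 L806440
theorem L806444 : sm gb N61536 = N60472 := ded_21_1 (flp_e L795091) (flp_b L794397) L806440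
theorem L806446 : sm gj N61536 = N60405 := ded_42_2 (flp_e L794547) (flp_j L794395) L806440
theorem L806448 : sm gd N61536 = N60673 := ded_34_1 (flp_e L796411) L784371 (flp_e L782208) (flp_d L794393) L806440
theorem L806450 : sm gf N60388 = N61537 := rfl
theorem L806452 : sm gb N61537 = N60389 := ded_22_1 (flp_f L794407) (flp_b L794401) L806450
theorem L806454 : sm gd N61537 = N60674 := ded_35_1 (flp_f L796417) (flp_d L794405) L806450
theorem L806456 : sm gj N61537 = N60406 := ded_46_2 (flp_f L794555) (flp_j L794403) L806450
theorem L806458 : sm gg N60389 = N61538 := rfl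
theorem L806460 : sm ga N61538 = N60474 := ded_15_1 (flp_g L795103) (flp_a L794409) L806458
theorem L806462 : sm gc N61538 = N60390 := ded_30_1 (flp_g L794417) (flp_c L794411) L806458
theorem L806464 : sm gd N61538 = N60675 := ded_36_1 (flp_g L796429) (flp_d L794413) L806458
theorem L806466 : sm ga N60392 = N61539 := rfl
theorem L806468 : sm gc N61539 = N60400 := ded_11_2 (flp_a L794507) (flp_c L794445) L806466
theorem L806470 : sm gg N61539 = N60670 := ded_15_2 (flp_a L796381) (flp_g L794441) L806466
theorem L806472 : sm gh N61539 = N60395 := ded_17_2 (flp_a L794465) (flp_h L794443) L806466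
theorem L806474 : sm ge N60392 = N61540 := rfl
theorem L806476 : sm gb N61540 = N60393 := ded_21_1 (flp_e L794447) L794439 L806474
theorem L806478 : sm gc N61540 = N60401 := ded_28_1 (flp_e L794517) (flp_c L794445) L806474
theorem L806480 : sm gg N61540 = N60671 := ded_41_2 (flp_e L796391) (flp_g L794441) L806474
theorem L806482 : sm gh N61540 = N60396 := ded_43_2 (flp_e L794471) (flp_h L794443) L806474
theorem L806484 : sm gd N60393 = N61541 := rfl
theorem L806486 : sm gg N61541 = N60672 := ded_36_2 (flp_d L796403) (flp_g L794451) L806484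
theorem L806488 : sm gc N61541 = N60408 := ded_27_1 (flp_d L794572) L782366 (flp_d L782228) (flp_c L794449) L806484
theorem L806490 : sm gf N60393 = N61542 := rfl
theorem L806492 : sm gc N61542 = N60394 := ded_29_1 (flp_f L794455) (flp_c L794449) L806490
theorem L806494 : sm gh N61542 = N60397 := ded_47_2 (flp_f L794479) (flp_h L794453) L806490
theorem L806496 : sm gg N61542 = N60684 := ded_45_2 L796497 L784501 (flp_f L784347) (flp_g L794451) L806490
theorem L806498 : sm ge N60395 = N61543 := rfl
theorem L806500 : sm ga N61543 = N60396 := ded_13_1 (flp_e L794471) L794465 L806498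
theorem L806502 : sm gc N61543 = N60405 := ded_28_1 (flp_e L794547) (flp_c L794467) L806498
theorem L806504 : sm gg N61543 = N60696 := ded_41_2 L796575 (flp_g L794469) L806498
theorem L806506 : sm gf N60396 = N61544 := rfl
theorem L806508 : sm gb N61544 = N60397 := ded_22_1 (flp_f L794479) (flp_b L794473) L806506
theorem L806510 : sm gc N61544 = N60406 := ded_29_1 (flp_f L794555) (flp_c L794475) L806506
theorem L806512 : sm gd N61544 = N60681 := ded_35_1 (flp_f L806036) L806034 L806506
theorem L806514 : sm gg N61544 = N60683 := ded_45_2 L796491 L784569 L784575 (flp_g L794477) L806506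
theorem L806516 : sm ga N60398 = N61545 := rfl
theorem L806518 : sm gd N61545 = N60664 := ded_12_2 (flp_a L796353) (flp_d L794489) L806516
theorem L806520 : sm gf N61545 = N60400 := ded_14_2 (flp_a L794507) (flp_f L794491) L806516
theorem L806522 : sm gg N61545 = N60661 := ded_15_2 (flp_a L796338) (flp_g L794493) L806516
theorem L806524 : sm gh N61545 = N60403 := ded_17_2 (flp_a L794533) (flp_h L794495) L806516
theorem L806526 : sm gb N61545 = N60492 := ded_10_2 (flp_a L795239) (flp_b L783031) (flp_a L782252) L794487 L806516
theorem L806528 : sm ge N60398 = N61546 := rfl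
theorem L806530 : sm gb N61546 = N60399 := ded_21_1 (flp_e L794497) L794487 L806528
theorem L806532 : sm gg N61546 = N60662 := ded_41_2 (flp_e L796344) (flp_g L794493) L806528
theorem L806534 : sm gh N61546 = N60404 := ded_43_2 (flp_e L794541) (flp_h L794495) L806528
theorem L806536 : sm gd N60399 = N61547 := rfl
theorem L806538 : sm ga N61547 = N60494 := ded_12_1 (flp_d L795251) (flp_a L794499) L806536
theorem L806540 : sm gg N61547 = N60663 := ded_36_2 (flp_d L796348) (flp_g L794503) L806536
theorem L806542 : sm gc N61547 = N61547 := ded_27_1 (flp_d L806536) L794501 L782270 (flp_c L794501) L806536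
theorem L806543 : sm ge N61547 = N60666 := ded_34_2 (flp_d L796365) (flp_e L784312) (flp_d L782260) L794497 L806536
theorem L806545 : sm gh N61547 = N60603 := ded_38_2 (flp_d L795974) L783884 (flp_d L782309) (flp_h L794505) L806536
theorem L806547 : sm ge N60400 = N61548 := rfl
theorem L806549 : sm ga N61548 = N60401 := ded_13_1 (flp_e L794517) L794507 L806547
theorem L806551 : sm gb N61548 = N60498 := ded_21_1 (flp_e L795270) (flp_b L794515) L806547
theorem L806553 : sm gg N61548 = N60673 := ded_41_2 (flp_e L796411) (flp_g L794511) L806547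
theorem L806555 : sm gh N61548 = N60405 := ded_43_2 (flp_e L794547) (flp_h L794513) L806547
theorem L806557 : sm gf N60401 = N61549 := rfl
theorem L806559 : sm gb N61549 = N60402 := ded_22_1 (flp_f L794525) (flp_b L794519) L806557
theorem L806561 : sm gh N61549 = N60406 := ded_47_2 (flp_f L794555) (flp_h L794523) L806557
theorem L806563 : sm ge N60403 = N61550 := rfl
theorem L806565 : sm ga N61550 = N60404 := ded_13_1 (flp_e L794541) L794533 L806563
theorem L806567 : sm gb N61550 = N60504 := ded_21_1 (flp_e L795306) (flp_b L794539) L806563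
theorem L806569 : sm gd N61550 = N60604 := ded_34_1 (flp_e L795977) L783892 (flp_e L782335) (flp_d L794535) L806563
theorem L806571 : sm gf N60405 = N61551 := rfl
theorem L806573 : sm ga N61551 = N60406 := ded_14_1 (flp_f L794555) (flp_a L794549) L806571
theorem L806575 : sm gb N61551 = N60505 := ded_22_1 (flp_f L795310) (flp_b L794551) L806571
theorem L806577 : sm gd N61551 = N60696 := ded_35_1 (flp_f L796571) (flp_d L794553) L806571
theorem L806579 : sm ga N60409 = N61552 := rfl
theorem L806581 : sm gc N61552 = N60414 := ded_11_2 (flp_a L794626) (flp_c L794586) L806579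
theorem L806583 : sm gd N61552 = N60619 := ded_12_2 (flp_a L796064) (flp_d L794578) L806579
theorem L806585 : sm gf N61552 = N60633 := ded_14_2 (flp_a L796145) (flp_f L794580) L806579
theorem L806587 : sm gj N61552 = N60641 := ded_16_2 (flp_a L796195) (flp_j L794582) L806579
theorem L806589 : sm gi N61552 = N60670 := ded_18_2 (flp_a L796381) (flp_i L794584) L806579
theorem L806591 : sm ge N60409 = N61553 := rfl
theorem L806593 : sm gb N61553 = N60410 := ded_21_1 (flp_e L794588) L794576 L806591
theorem L806595 : sm gc N61553 = N60415 := ded_28_1 (flp_e L794636) (flp_c L794586) L806591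
theorem L806597 : sm gj N61553 = N60642 := ded_42_2 (flp_e L796203) (flp_j L794582) L806591
theorem L806599 : sm gi N61553 = N60671 := ded_44_2 (flp_e L796391) (flp_i L794584) L806591
theorem L806601 : sm gf N61553 = N60691 := ded_40_2 (flp_e L796539) L784513 (flp_e L784095) (flp_f L794580) L806591
theorem L806603 : sm gd N60410 = N61554 := rfl
theorem L806605 : sm gf N61554 = N60656 := ded_35_2 L796308 (flp_f L794596) L806603
theorem L806607 : sm gj N61554 = N60643 := ded_37_2 (flp_d L796211) (flp_j L794592) L806603
theorem L806609 : sm gi N61554 = N60672 := ded_39_2 (flp_d L796403) (flp_i L794594) L806603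
theorem L806611 : sm gc N61554 = N60411 := ded_27_1 (flp_d L794598) L782405 (flp_d L782399) (flp_c L794590) L806603
theorem L806613 : sm ge N61554 = N60621 := ded_34_2 (flp_d L796074) (flp_e L784016) (flp_d L782389) L794588 L806603
theorem L806615 : sm ga N60412 = N61555 := rfl
theorem L806617 : sm gd N61555 = N60440 := ded_12_2 (flp_a L794855) (flp_d L794610) L806615
theorem L806619 : sm gf N61555 = N60634 := ded_14_2 (flp_a L796155) (flp_f L794612) L806615
theorem L806621 : sm gj N61555 = N60651 := ded_16_2 (flp_a L796271) (flp_j L794614) L806615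
theorem L806623 : sm gh N61555 = N60414 := ded_17_2 (flp_a L794626) (flp_h L794616) L806615
theorem L806625 : sm ge N60412 = N61556 := rfl
theorem L806627 : sm gb N61556 = N60413 := ded_21_1 (flp_e L794618) L794608 L806625
theorem L806629 : sm gj N61556 = N60652 := ded_42_2 (flp_e L796277) (flp_j L794614) L806625
theorem L806631 : sm gh N61556 = N60415 := ded_43_2 (flp_e L794636) (flp_h L794616) L806625
theorem L806633 : sm gd N60413 = N61557 := rfl
theorem L806635 : sm gj N61557 = N60653 := ded_37_2 (flp_d L796283) (flp_j L794622) L806633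
theorem L806637 : sm gc N61557 = N61557 := ded_27_1 (flp_d L806633) L794620 L782430 (flp_c L794620) L806633
theorem L806638 : sm ge N61557 = N60442 := ded_34_2 (flp_d L794865) (flp_e L782654) (flp_d L782422) L794618 L806633
theorem L806640 : sm ge N60414 = N61558 := rfl
theorem L806642 : sm ga N61558 = N60415 := ded_13_1 (flp_e L794636) L794626 L806640
theorem L806644 : sm gj N61558 = N60659 := ded_42_2 (flp_e L796326) (flp_j L794632) L806640
theorem L806646 : sm gi N61558 = N60673 := ded_44_2 (flp_e L796411) (flp_i L794634) L806640
theorem L806648 : sm gb N60416 = N61559 := rfl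
theorem L806650 : sm gd N61559 = N60646 := ded_20_2 (flp_b L796236) (flp_d L794650) L806648
theorem L806652 : sm gg N61559 = N60428 := ded_23_2 (flp_b L794753) (flp_g L794646) L806648
theorem L806654 : sm gh N61559 = N60418 := ded_25_2 (flp_b L794659) (flp_h L794648) L806648
theorem L806656 : sm ge N60416 = N61560 := rfl
theorem L806658 : sm gc N61560 = N60417 := ded_28_1 (flp_e L794652) L794644 L806656
theorem L806660 : sm gg N61560 = N60429 := ded_41_2 (flp_e L794763) (flp_g L794646) L806656
theorem L806662 : sm gh N61560 = N60419 := ded_43_2 (flp_e L794667) (flp_h L794648) L806656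
theorem L806664 : sm gf N60417 = N61561 := rfl
theorem L806666 : sm gd N61561 = N61561 := ded_35_1 (flp_f L806664) L794658 L806664
theorem L806667 : sm gh N61561 = N60420 := ded_47_2 (flp_f L794677) (flp_h L794656) L806664
theorem L806669 : sm ga N60418 = N61562 := rfl
theorem L806671 : sm gd N61562 = N60421 := ded_12_2 (flp_a L794683) (flp_d L794661) L806669
theorem L806673 : sm gg N61562 = N60430 := ded_15_2 (flp_a L794771) (flp_g L794663) L806669
theorem L806675 : sm gi N61562 = N60449 := ded_18_2 (flp_a L794911) (flp_i L794665) L806669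
theorem L806677 : sm ge N60418 = N61563 := rfl
theorem L806679 : sm gb N61563 = N60419 := ded_21_1 (flp_e L794667) L794659 L806677
theorem L806681 : sm gg N61563 = N60431 := ded_41_2 (flp_e L794781) (flp_g L794663) L806677
theorem L806683 : sm gi N61563 = N60450 := ded_44_2 (flp_e L794917) (flp_i L794665) L806677
theorem L806685 : sm gd N61563 = N60496 := ded_34_1 (flp_e L795258) (flp_d L786419) L786421 (flp_d L794661) L806677
theorem L806687 : sm gf N60419 = N61564 := rfl
theorem L806689 : sm gc N61564 = N60420 := ded_29_1 (flp_f L794677) (flp_c L794669) L806687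
theorem L806691 : sm gd N61564 = N60497 := ded_35_1 (flp_f L795264) (flp_d L794675) L806687
theorem L806693 : sm gi N61564 = N60451 := ded_48_2 (flp_f L794925) (flp_i L794673) L806687
theorem L806695 : sm gb N60422 = N61565 := rfl
theorem L806697 : sm gf N61565 = N60617 := ded_22_2 (flp_b L796052) (flp_f L794695) L806695
theorem L806699 : sm gj N61565 = N60432 := ded_24_2 (flp_b L794789) (flp_j L794697) L806695
theorem L806701 : sm gh N61565 = N60424 := ded_25_2 (flp_b L794710) (flp_h L794699) L806695
theorem L806703 : sm gc N61565 = N60428 := ded_19_2 (flp_b L794753) (flp_c L782541) (flp_b L782503) L794693 L806695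
theorem L806705 : sm ge N60422 = N61566 := rfl
theorem L806707 : sm gc N61566 = N60423 := ded_28_1 (flp_e L794701) L794693 L806705
theorem L806709 : sm gj N61566 = N60433 := ded_42_2 (flp_e L794795) (flp_j L794697) L806705
theorem L806711 : sm gh N61566 = N60425 := ded_43_2 (flp_e L794722) (flp_h L794699) L806705
theorem L806713 : sm ga N60424 = N61567 := rfl
theorem L806715 : sm gc N61567 = N60430 := ded_11_2 (flp_a L794771) (flp_c L794720) L806713
theorem L806717 : sm gd N61567 = N60633 := ded_12_2 (flp_a L796145) (flp_d L794712) L806713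
theorem L806719 : sm gf N61567 = N60619 := ded_14_2 (flp_a L796064) (flp_f L794714) L806713
theorem L806721 : sm gj N61567 = N60435 := ded_16_2 (flp_a L794815) (flp_j L794716) L806713
theorem L806723 : sm gi N61567 = N60457 := ded_18_2 (flp_a L794966) (flp_i L794718) L806713
theorem L806725 : sm ge N60424 = N61568 := rfl
theorem L806727 : sm gb N61568 = N60425 := ded_21_1 (flp_e L794722) L794710 L806725
theorem L806729 : sm gc N61568 = N60431 := ded_28_1 (flp_e L794781) (flp_c L794720) L806725
theorem L806731 : sm gj N61568 = N60436 := ded_42_2 (flp_e L794823) (flp_j L794716) L806725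
theorem L806733 : sm gi N61568 = N60458 := ded_44_2 (flp_e L794974) (flp_i L794718) L806725
theorem L806735 : sm gd N61568 = N60569 := ded_34_1 (flp_e L795739) L783583 (flp_e L784095) (flp_d L794712) L806725
theorem L806737 : sm gb N60426 = N61569 := rfl
theorem L806739 : sm gd N61569 = N60649 := ded_20_2 (flp_b L796255) (flp_d L794742) L806737
theorem L806741 : sm gf N61569 = N60622 := ded_22_2 (flp_b L796078) (flp_f L794734) L806737
theorem L806743 : sm gj N61569 = N60438 := ded_24_2 (flp_b L794841) (flp_j L794736) L806737
theorem L806745 : sm gh N61569 = N60463 := ded_25_2 (flp_b L795023) (flp_h L794738) L806737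
theorem L806747 : sm gi N61569 = N60428 := ded_26_2 (flp_b L794753) (flp_i L794740) L806737
theorem L806749 : sm ge N60426 = N61570 := rfl
theorem L806751 : sm gc N61570 = N60427 := ded_28_1 (flp_e L794744) L794732 L806749
theorem L806753 : sm gj N61570 = N60439 := ded_42_2 (flp_e L794847) (flp_j L794736) L806749
theorem L806755 : sm gh N61570 = N60464 := ded_43_2 (flp_e L795029) (flp_h L794738) L806749
theorem L806757 : sm gi N61570 = N60429 := ded_44_2 (flp_e L794763) (flp_i L794740) L806749
theorem L806759 : sm ga N60428 = N61571 := rfl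
theorem L806761 : sm gd N61571 = N60651 := ded_12_2 (flp_a L796271) (flp_d L794755) L806759
theorem L806763 : sm gf N61571 = N60624 := ded_14_2 (flp_a L796090) (flp_f L794757) L806759
theorem L806765 : sm gj N61571 = N60440 := ded_16_2 (flp_a L794855) (flp_j L794759) L806759
theorem L806767 : sm gh N61571 = N60430 := ded_17_2 (flp_a L794771) (flp_h L794761) L806759
theorem L806769 : sm ge N60428 = N61572 := rfl
theorem L806771 : sm gb N61572 = N60429 := ded_21_1 (flp_e L794763) L794753 L806769
theorem L806773 : sm gj N61572 = N60441 := ded_42_2 (flp_e L794859) (flp_j L794759) L806769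
theorem L806775 : sm gh N61572 = N60431 := ded_43_2 (flp_e L794781) (flp_h L794761) L806769
theorem L806777 : sm gd N60429 = N61573 := rfl
theorem L806779 : sm gj N61573 = N60442 := ded_37_2 (flp_d L794865) (flp_j L794767) L806777
theorem L806781 : sm gc N61573 = N61573 := ded_27_1 (flp_d L806777) L794765 L782557 (flp_c L794765) L806777
theorem L806782 : sm ge N61573 = N60653 := ded_34_2 (flp_d L796283) (flp_e L784210) (flp_d L782549) L794763 L806777
theorem L806784 : sm ge N60430 = N61574 := rfl
theorem L806786 : sm ga N61574 = N60431 := ded_13_1 (flp_e L794781) L794771 L806784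
theorem L806788 : sm gj N61574 = N60444 := ded_42_2 (flp_e L794878) (flp_j L794777) L806784
theorem L806790 : sm gi N61574 = N60472 := ded_44_2 (flp_e L795091) (flp_i L794779) L806784
theorem L806792 : sm ga N60432 = N61575 := rfl
theorem L806794 : sm gc N61575 = N60440 := ded_11_2 (flp_a L794855) (flp_c L794793) L806792
theorem L806796 : sm gh N61575 = N60435 := ded_17_2 (flp_a L794815) (flp_h L794791) L806792
theorem L806798 : sm ge N60432 = N61576 := rfl
theorem L806800 : sm gb N61576 = N60433 := ded_21_1 (flp_e L794795) L794789 L806798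
theorem L806802 : sm gc N61576 = N60441 := ded_28_1 (flp_e L794859) (flp_c L794793) L806798
theorem L806804 : sm gh N61576 = N60436 := ded_43_2 (flp_e L794823) (flp_h L794791) L806798
theorem L806806 : sm gd N60433 = N61577 := rfl
theorem L806808 : sm gc N61577 = N61577 := ded_27_1 (flp_d L806806) L794797 L782598 (flp_c L794797) L806806
theorem L806809 : sm ga N60434 = N61578 := rfl
theorem L806811 : sm gc N61578 = N60443 := ded_11_2 (flp_a L794868) (flp_c L794813) L806809
theorem L806813 : sm gd N61578 = N60641 := ded_12_2 (flp_a L796195) (flp_d L794803) L806809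
theorem L806815 : sm gf N61578 = N60435 := ded_14_2 (flp_a L794815) (flp_f L794805) L806809
theorem L806817 : sm gg N61578 = N60679 := ded_15_2 (flp_a L796461) (flp_g L794807) L806809
theorem L806819 : sm gj N61578 = N60619 := ded_16_2 (flp_a L796064) (flp_j L794809) L806809
theorem L806821 : sm gi N61578 = N60485 := ded_18_2 (flp_a L795187) (flp_i L794811) L806809
theorem L806823 : sm gb N61578 = N60680 := ded_10_2 (flp_a L796467) (flp_b L784447) (flp_a L782601) L794801 L806809
theorem L806825 : sm ge N60435 = N61579 := rfl
theorem L806827 : sm ga N61579 = N60436 := ded_13_1 (flp_e L794823) L794815 L806825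
theorem L806829 : sm gc N61579 = N60444 := ded_28_1 (flp_e L794878) (flp_c L794817) L806825
theorem L806831 : sm gi N61579 = N60487 := ded_44_2 (flp_e L795201) (flp_i L794821) L806825
theorem L806833 : sm ga N60437 = N61580 := rfl
theorem L806835 : sm gd N61580 = N60634 := ded_12_2 (flp_a L796155) (flp_d L794833) L806833
theorem L806837 : sm gf N61580 = N60440 := ded_14_2 (flp_a L794855) (flp_f L794835) L806833
theorem L806839 : sm gj N61580 = N60624 := ded_16_2 (flp_a L796090) (flp_j L794837) L806833
theorem L806841 : sm gh N61580 = N60443 := ded_17_2 (flp_a L794868) (flp_h L794839) L806833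
theorem L806843 : sm ga N60438 = N61581 := rfl
theorem L806845 : sm gh N61581 = N60495 := ded_17_2 (flp_a L795254) (flp_h L794843) L806843
theorem L806847 : sm gi N61581 = N60440 := ded_18_2 (flp_a L794855) (flp_i L794845) L806843
theorem L806849 : sm ge N60438 = N61582 := rfl
theorem L806851 : sm gb N61582 = N60439 := ded_21_1 (flp_e L794847) L794841 L806849
theorem L806853 : sm gh N61582 = N60496 := ded_43_2 (flp_e L795258) (flp_h L794843) L806849
theorem L806855 : sm gi N61582 = N60441 := ded_44_2 (flp_e L794859) (flp_i L794845) L806849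
theorem L806857 : sm gd N60439 = N61583 := rfl
theorem L806859 : sm gi N61583 = N60442 := ded_39_2 (flp_d L794865) (flp_i L794853) L806857
theorem L806861 : sm gc N61583 = N61583 := ded_27_1 (flp_d L806857) L794849 L782649 (flp_c L794849) L806857
theorem L806862 : sm ge N60440 = N61584 := rfl
theorem L806864 : sm ga N61584 = N60441 := ded_13_1 (flp_e L794859) L794855 L806862
theorem L806866 : sm gh N61584 = N60444 := ded_43_2 (flp_e L794878) (flp_h L794857) L806862
theorem L806868 : sm gd N60441 = N61585 := rfl
theorem L806870 : sm gb N61585 = N60442 := ded_20_1 (flp_d L794865) (flp_b L794861) L806868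
theorem L806872 : sm ga N60446 = N61586 := rfl
theorem L806874 : sm gd N61586 = N60452 := ded_12_2 (flp_a L794931) (flp_d L794898) L806872
theorem L806876 : sm gf N61586 = N60449 := ded_14_2 (flp_a L794911) (flp_f L794900) L806872
theorem L806878 : sm ge N60446 = N61587 := rfl
theorem L806880 : sm gb N61587 = N60447 := ded_21_1 (flp_e L794902) L794896 L806878
theorem L806882 : sm gd N60447 = N61588 := rfl
theorem L806884 : sm gc N61588 = N61588 := ded_27_1 (flp_d L806882) L794904 L782712 (flp_c L794904) L806882
theorem L806885 : sm ge N61588 = N60454 := ded_34_2 (flp_d L794943) (flp_e L782737) (flp_d L782708) L794902 L806882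
theorem L806887 : sm gf N60447 = N61589 := rfl
theorem L806889 : sm gc N61589 = N60448 := ded_29_1 (flp_f L794906) (flp_c L794904) L806887
theorem L806891 : sm ge N61589 = N60451 := ded_40_1 (flp_f L794925) (flp_e L782719) (flp_f L782706) L794902 L806887
theorem L806893 : sm ge N60449 = N61590 := rfl
theorem L806895 : sm ga N61590 = N60450 := ded_13_1 (flp_e L794917) L794911 L806893
theorem L806897 : sm gg N61590 = N60472 := ded_41_2 (flp_e L795091) (flp_g L794915) L806893
theorem L806899 : sm gd N61590 = N60498 := ded_34_1 (flp_e L795270) (flp_d L794018) L794020 (flp_d L794913) L806893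
theorem L806901 : sm gf N60450 = N61591 := rfl
theorem L806903 : sm gb N61591 = N60451 := ded_22_1 (flp_f L794925) (flp_b L794919) L806901
theorem L806905 : sm gd N61591 = N60499 := ded_35_1 (flp_f L795276) (flp_d L794923) L806901
theorem L806907 : sm ge N60452 = N61592 := rfl
theorem L806909 : sm ga N61592 = N60453 := ded_13_1 (flp_e L794937) L794931 L806907
theorem L806911 : sm gc N61592 = N60667 := ded_28_1 (flp_e L796370) (flp_c L794933) L806907
theorem L806913 : sm gd N60453 = N61593 := rfl
theorem L806915 : sm gb N61593 = N60454 := ded_20_1 (flp_d L794943) (flp_b L794939) L806913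
theorem L806917 : sm gh N60454 = N61594 := rfl
theorem L806919 : sm gc N61594 = N61594 := ded_32_1 (flp_h L806917) L794945 L806917
theorem L806920 : sm ga N60455 = N61595 := rfl
theorem L806922 : sm gc N61595 = N60470 := ded_11_2 (flp_a L795073) (flp_c L794956) L806920
theorem L806924 : sm gd N61595 = N60670 := ded_12_2 (flp_a L796381) (flp_d L794948) L806920
theorem L806926 : sm gf N61595 = N60457 := ded_14_2 (flp_a L794966) (flp_f L794950) L806920
theorem L806928 : sm gj N61595 = N60485 := ded_16_2 (flp_a L795187) (flp_j L794952) L806920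
theorem L806930 : sm gi N61595 = N60619 := ded_18_2 (flp_a L796064) (flp_i L794954) L806920
theorem L806932 : sm ge N60455 = N61596 := rfl
theorem L806934 : sm gb N61596 = N60456 := ded_21_1 (flp_e L794958) L794946 L806932
theorem L806936 : sm gc N61596 = N60471 := ded_28_1 (flp_e L795083) (flp_c L794956) L806932
theorem L806938 : sm gj N61596 = N60486 := ded_42_2 (flp_e L795195) (flp_j L794952) L806932
theorem L806940 : sm gi N61596 = N60620 := ded_44_2 (flp_e L796068) (flp_i L794954) L806932
theorem L806942 : sm ge N60457 = N61597 := rfl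
theorem L806944 : sm ga N61597 = N60458 := ded_13_1 (flp_e L794974) L794966 L806942
theorem L806946 : sm gc N61597 = N60472 := ded_28_1 (flp_e L795091) (flp_c L794968) L806942
theorem L806948 : sm gj N61597 = N60487 := ded_42_2 (flp_e L795201) (flp_j L794972) L806942
theorem L806950 : sm gd N61597 = N60570 := ded_34_1 (flp_e L795745) L783595 (flp_e L784353) (flp_d L794970) L806942
theorem L806952 : sm gb N60459 = N61598 := rfl
theorem L806954 : sm gd N61598 = N60547 := ded_20_2 (flp_b L795608) (flp_d L794994) L806952
theorem L806956 : sm gf N61598 = N60463 := ded_22_2 (flp_b L795023) (flp_f L794986) L806952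
theorem L806958 : sm gj N61598 = N60490 := ded_24_2 (flp_b L795227) (flp_j L794988) L806952
theorem L806960 : sm gh N61598 = N60622 := ded_25_2 (flp_b L796078) (flp_h L794990) L806952
theorem L806962 : sm gi N61598 = N60461 := ded_26_2 (flp_b L795005) (flp_i L794992) L806952
theorem L806964 : sm ge N60459 = N61599 := rfl
theorem L806966 : sm gc N61599 = N60460 := ded_28_1 (flp_e L794996) L794984 L806964
theorem L806968 : sm gj N61599 = N60491 := ded_42_2 (flp_e L795233) (flp_j L794988) L806964
theorem L806970 : sm gh N61599 = N60623 := ded_43_2 (flp_e L796084) (flp_h L794990) L806964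
theorem L806972 : sm gi N61599 = N60462 := ded_44_2 (flp_e L795015) (flp_i L794992) L806964
theorem L806974 : sm ga N60461 = N61600 := rfl
theorem L806976 : sm gd N61600 = N60549 := ded_12_2 (flp_a L795622) (flp_d L795007) L806974
theorem L806978 : sm gf N61600 = N60466 := ded_14_2 (flp_a L795045) (flp_f L795009) L806974
theorem L806980 : sm gj N61600 = N60492 := ded_16_2 (flp_a L795239) (flp_j L795011) L806974
theorem L806982 : sm gh N61600 = N60470 := ded_17_2 (flp_a L795073) (flp_h L795013) L806974
theorem L806984 : sm ge N60461 = N61601 := rfl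
theorem L806986 : sm gb N61601 = N60462 := ded_21_1 (flp_e L795015) L795005 L806984
theorem L806988 : sm gj N61601 = N60493 := ded_42_2 (flp_e L795245) (flp_j L795011) L806984
theorem L806990 : sm gh N61601 = N60471 := ded_43_2 (flp_e L795083) (flp_h L795013) L806984
theorem L806992 : sm gd N60462 = N61602 := rfl
theorem L806994 : sm gj N61602 = N60494 := ded_37_2 (flp_d L795251) (flp_j L795019) L806992
theorem L806996 : sm gc N61602 = N61602 := ded_27_1 (flp_d L806992) L795017 L782809 (flp_c L795017) L806992
theorem L806997 : sm ge N61602 = N60551 := ded_34_2 (flp_d L795632) (flp_e L783461) (flp_d L782801) L795015 L806992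
theorem L806999 : sm ga N60463 = N61603 := rfl
theorem L807001 : sm gj N61603 = N60495 := ded_16_2 (flp_a L795254) (flp_j L795025) L806999
theorem L807003 : sm gi N61603 = N60466 := ded_18_2 (flp_a L795045) (flp_i L795027) L806999
theorem L807005 : sm ge N60463 = N61604 := rfl
theorem L807007 : sm gb N61604 = N60464 := ded_21_1 (flp_e L795029) L795023 L807005
theorem L807009 : sm gj N61604 = N60496 := ded_42_2 (flp_e L795258) (flp_j L795025) L807005
theorem L807011 : sm gi N61604 = N60467 := ded_44_2 (flp_e L795051) (flp_i L795027) L807005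
theorem L807013 : sm gf N60464 = N61605 := rfl
theorem L807015 : sm gc N61605 = N60465 := ded_29_1 (flp_f L795037) (flp_c L795031) L807013
theorem L807017 : sm gj N61605 = N60497 := ded_46_2 (flp_f L795264) (flp_j L795033) L807013
theorem L807019 : sm gi N61605 = N60468 := ded_48_2 (flp_f L795059) (flp_i L795035) L807013
theorem L807021 : sm gg N60465 = N61606 := rfl
theorem L807023 : sm gd N61606 = N60507 := ded_36_1 (flp_g L795320) (flp_d L795039) L807021
theorem L807025 : sm gi N61606 = N60469 := ded_51_2 (flp_g L795067) (flp_i L795043) L807021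
theorem L807027 : sm ge N60466 = N61607 := rfl
theorem L807029 : sm ga N61607 = N60467 := ded_13_1 (flp_e L795051) L795045 L807027
theorem L807031 : sm gj N61607 = N60498 := ded_42_2 (flp_e L795270) (flp_j L795047) L807027
theorem L807033 : sm gh N61607 = N60472 := ded_43_2 (flp_e L795091) (flp_h L795049) L807027
theorem L807035 : sm gf N60467 = N61608 := rfl
theorem L807037 : sm gb N61608 = N60468 := ded_22_1 (flp_f L795059) (flp_b L795053) L807035
theorem L807039 : sm gj N61608 = N60499 := ded_46_2 (flp_f L795276) (flp_j L795055) L807035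
theorem L807041 : sm gh N61608 = N60473 := ded_47_2 (flp_f L795097) (flp_h L795057) L807035
theorem L807043 : sm gg N60468 = N61609 := rfl
theorem L807045 : sm gc N61609 = N60469 := ded_30_1 (flp_g L795067) (flp_c L795061) L807043
theorem L807047 : sm gh N61609 = N60474 := ded_50_2 (flp_g L795103) (flp_h L795065) L807043
theorem L807049 : sm ge N60470 = N61610 := rfl
theorem L807051 : sm ga N61610 = N60471 := ded_13_1 (flp_e L795083) L795073 L807049
theorem L807053 : sm gj N61610 = N60504 := ded_42_2 (flp_e L795306) (flp_j L795079) L807049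
theorem L807055 : sm gi N61610 = N60626 := ded_44_2 (flp_e L796102) (flp_i L795081) L807049
theorem L807057 : sm gf N60472 = N61611 := rfl
theorem L807059 : sm ga N61611 = N60473 := ded_14_1 (flp_f L795097) (flp_a L795093) L807057
theorem L807061 : sm gj N61611 = N60505 := ded_46_2 (flp_f L795310) (flp_j L795095) L807057
theorem L807063 : sm gg N60473 = N61612 := rfl
theorem L807065 : sm gb N61612 = N60474 := ded_23_1 (flp_g L795103) (flp_b L795099) L807063
theorem L807067 : sm ga N60475 = N61613 := rfl
theorem L807069 : sm gc N61613 = N60657 := ded_11_2 (flp_a L796310) (flp_c L795117) L807067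
theorem L807071 : sm gd N61613 = N60679 := ded_12_2 (flp_a L796461) (flp_d L795109) L807067
theorem L807073 : sm gf N61613 = N60477 := ded_14_2 (flp_a L795129) (flp_f L795111) L807067
theorem L807075 : sm gg N61613 = N60641 := ded_15_2 (flp_a L796195) (flp_g L795113) L807067
theorem L807077 : sm gi N61613 = N60680 := ded_18_2 (flp_a L796467) (flp_i L795115) L807067
theorem L807079 : sm gb N61613 = N60485 := ded_10_2 (flp_a L795187) (flp_b L782975) (flp_a L782900) L795107 L807067
theorem L807081 : sm ge N60475 = N61614 := rfl
theorem L807083 : sm gb N61614 = N60476 := ded_21_1 (flp_e L795119) L795107 L807081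
theorem L807085 : sm gc N61614 = N60658 := ded_28_1 (flp_e L796318) (flp_c L795117) L807081
theorem L807087 : sm gg N61614 = N60642 := ded_41_2 (flp_e L796203) (flp_g L795113) L807081
theorem L807089 : sm gi N61614 = N60681 := ded_44_2 (flp_e L796473) (flp_i L795115) L807081
theorem L807091 : sm ga N60478 = N61615 := rfl
theorem L807093 : sm gc N61615 = N60492 := ded_11_2 (flp_a L795239) (flp_c L795141) L807091
theorem L807095 : sm gf N61615 = N60482 := ded_14_2 (flp_a L795161) (flp_f L795137) L807091
theorem L807097 : sm gh N61615 = N60485 := ded_17_2 (flp_a L795187) (flp_h L795139) L807091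
theorem L807099 : sm ge N60478 = N61616 := rfl
theorem L807101 : sm gb N61616 = N60479 := ded_21_1 (flp_e L795143) L795135 L807099
theorem L807103 : sm gc N61616 = N60493 := ded_28_1 (flp_e L795245) (flp_c L795141) L807099
theorem L807105 : sm gh N61616 = N60486 := ded_43_2 (flp_e L795195) (flp_h L795139) L807099
theorem L807107 : sm gd N60479 = N61617 := rfl
theorem L807109 : sm gc N61617 = N61617 := ded_27_1 (flp_d L807107) L795145 L782938 (flp_c L795145) L807107
theorem L807110 : sm ga N60480 = N61618 := rfl
theorem L807112 : sm gc N61618 = N60495 := ded_11_2 (flp_a L795254) (flp_c L795153) L807110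
theorem L807114 : sm gi N61618 = N60482 := ded_18_2 (flp_a L795161) (flp_i L795151) L807110
theorem L807116 : sm ge N60480 = N61619 := rfl
theorem L807118 : sm gb N61619 = N60481 := ded_21_1 (flp_e L795155) L795149 L807116
theorem L807120 : sm gc N61619 = N60496 := ded_28_1 (flp_e L795258) (flp_c L795153) L807116
theorem L807122 : sm gi N61619 = N60483 := ded_44_2 (flp_e L795167) (flp_i L795151) L807116
theorem L807124 : sm ge N60482 = N61620 := rfl
theorem L807126 : sm ga N61620 = N60483 := ded_13_1 (flp_e L795167) L795161 L807124
theorem L807128 : sm gc N61620 = N60498 := ded_28_1 (flp_e L795270) (flp_c L795163) L807124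
theorem L807130 : sm gh N61620 = N60487 := ded_43_2 (flp_e L795201) (flp_h L795165) L807124
theorem L807132 : sm ga N60484 = N61621 := rfl
theorem L807134 : sm gc N61621 = N60502 := ded_11_2 (flp_a L795294) (flp_c L795185) L807132
theorem L807136 : sm gd N61621 = N60680 := ded_12_2 (flp_a L796467) (flp_d L795177) L807132
theorem L807138 : sm gf N61621 = N60635 := ded_14_2 (flp_a L796161) (flp_f L795179) L807132
theorem L807140 : sm gg N61621 = N60485 := ded_15_2 (flp_a L795187) (flp_g L795181) L807132
theorem L807142 : sm gi N61621 = N60679 := ded_18_2 (flp_a L796461) (flp_i L795183) L807132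
theorem L807144 : sm gb N61621 = N60641 := ded_10_2 (flp_a L796195) (flp_b L784148) (flp_a L782965) L795175 L807132
theorem L807146 : sm ge N60485 = N61622 := rfl
theorem L807148 : sm ga N61622 = N60486 := ded_13_1 (flp_e L795195) L795187 L807146
theorem L807150 : sm gc N61622 = N60504 := ded_28_1 (flp_e L795306) (flp_c L795189) L807146
theorem L807152 : sm ga N60488 = N61623 := rfl
theorem L807154 : sm gd N61623 = N60608 := ded_12_2 (flp_a L795999) (flp_d L795209) L807152
theorem L807156 : sm gf N61623 = N60607 := ded_14_2 (flp_a L795991) (flp_f L795211) L807152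
theorem L807158 : sm gg N61623 = N60492 := ded_15_2 (flp_a L795239) (flp_g L795213) L807152
theorem L807160 : sm gh N61623 = N60502 := ded_17_2 (flp_a L795294) (flp_h L795215) L807152
theorem L807162 : sm gb N61623 = N60661 := ded_10_2 (flp_a L796338) (flp_b L784290) (flp_a L783001) L795207 L807152
theorem L807164 : sm ge N60488 = N61624 := rfl
theorem L807166 : sm gb N61624 = N60489 := ded_21_1 (flp_e L795217) L795207 L807164
theorem L807168 : sm gg N61624 = N60493 := ded_41_2 (flp_e L795245) (flp_g L795213) L807164
theorem L807170 : sm gh N61624 = N60503 := ded_43_2 (flp_e L795300) (flp_h L795215) L807164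
theorem L807172 : sm gd N60489 = N61625 := rfl
theorem L807174 : sm ga N61625 = N60663 := ded_12_1 (flp_d L796348) (flp_a L795219) L807172
theorem L807176 : sm gg N61625 = N60494 := ded_36_2 (flp_d L795251) (flp_g L795223) L807172
theorem L807178 : sm gc N61625 = N61625 := ded_27_1 (flp_d L807172) L795221 L783019 (flp_c L795221) L807172
theorem L807179 : sm ge N61625 = N60610 := ded_34_2 (flp_d L796009) (flp_e L783934) (flp_d L783009) L795217 L807172
theorem L807181 : sm ga N60490 = N61626 := rfl
theorem L807183 : sm gf N61626 = N60495 := ded_14_2 (flp_a L795254) (flp_f L795229) L807181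
theorem L807185 : sm gi N61626 = N60492 := ded_18_2 (flp_a L795239) (flp_i L795231) L807181
theorem L807187 : sm ge N60490 = N61627 := rfl
theorem L807189 : sm gb N61627 = N60491 := ded_21_1 (flp_e L795233) L795227 L807187
theorem L807191 : sm gi N61627 = N60493 := ded_44_2 (flp_e L795245) (flp_i L795231) L807187
theorem L807193 : sm gd N60491 = N61628 := rfl
theorem L807195 : sm gi N61628 = N60494 := ded_39_2 (flp_d L795251) (flp_i L795237) L807193
theorem L807197 : sm gc N61628 = N61628 := ded_27_1 (flp_d L807193) L795235 L783030 (flp_c L795235) L807193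
theorem L807198 : sm ge N60492 = N61629 := rfl
theorem L807200 : sm ga N61629 = N60493 := ded_13_1 (flp_e L795245) L795239 L807198
theorem L807202 : sm gh N61629 = N60504 := ded_43_2 (flp_e L795306) (flp_h L795243) L807198
theorem L807204 : sm gd N60493 = N61630 := rfl
theorem L807206 : sm gb N61630 = N60494 := ded_20_1 (flp_d L795251) (flp_b L795247) L807204
theorem L807208 : sm ge N60495 = N61631 := rfl
theorem L807210 : sm ga N61631 = N60496 := ded_13_1 (flp_e L795258) L795254 L807208
theorem L807212 : sm gi N61631 = N60498 := ded_44_2 (flp_e L795270) (flp_i L795256) L807208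
theorem L807214 : sm gf N60496 = N61632 := rfl
theorem L807216 : sm gb N61632 = N60497 := ded_22_1 (flp_f L795264) (flp_b L795260) L807214
theorem L807218 : sm gi N61632 = N60499 := ded_48_2 (flp_f L795276) (flp_i L795262) L807214
theorem L807220 : sm gf N60498 = N61633 := rfl
theorem L807222 : sm ga N61633 = N60499 := ded_14_1 (flp_f L795276) (flp_a L795272) L807220
theorem L807224 : sm gh N61633 = N60505 := ded_47_2 (flp_f L795310) (flp_h L795274) L807220
theorem L807226 : sm ga N60500 = N61634 := rfl
theorem L807228 : sm gd N61634 = N60506 := ded_12_2 (flp_a L795314) (flp_d L795284) L807226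
theorem L807230 : sm gj N61634 = N60502 := ded_16_2 (flp_a L795294) (flp_j L795286) L807226
theorem L807232 : sm ge N60500 = N61635 := rfl
theorem L807234 : sm gb N61635 = N60501 := ded_21_1 (flp_e L795288) L795282 L807232
theorem L807236 : sm gj N61635 = N60503 := ded_42_2 (flp_e L795300) (flp_j L795286) L807232
theorem L807238 : sm ge N60502 = N61636 := rfl
theorem L807240 : sm ga N61636 = N60503 := ded_13_1 (flp_e L795300) L795294 L807238
theorem L807242 : sm gg N61636 = N60504 := ded_41_2 (flp_e L795306) (flp_g L795298) L807238
theorem L807244 : sm ge N60510 = N61637 := rfl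
theorem L807246 : sm ga N61637 = N60511 := ded_13_1 (flp_e L795364) L795358 L807244
theorem L807248 : sm gb N61637 = N60535 := ded_21_1 (flp_e L795526) (flp_b L795362) L807244
theorem L807250 : sm gd N61637 = N60543 := ded_34_1 (flp_e L795584) L783418 (flp_e L783201) (flp_d L795360) L807244
theorem L807252 : sm gf N60511 = N61638 := rfl
theorem L807254 : sm gb N61638 = N60512 := ded_22_1 (flp_f L795370) (flp_b L795366) L807252
theorem L807256 : sm gd N61638 = N60544 := ded_35_1 (flp_f L795590) (flp_d L795368) L807252
theorem L807258 : sm gb N60513 = N61639 := rfl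
theorem L807260 : sm gg N61639 = N60590 := ded_23_2 (flp_b L795872) (flp_g L795380) L807258
theorem L807262 : sm gh N61639 = N60526 := ded_25_2 (flp_b L795470) (flp_h L795382) L807258
theorem L807264 : sm gi N61639 = N60515 := ded_26_2 (flp_b L795395) (flp_i L795384) L807258
theorem L807266 : sm ge N60513 = N61640 := rfl
theorem L807268 : sm gc N61640 = N60514 := ded_28_1 (flp_e L795386) L795378 L807266
theorem L807270 : sm gg N61640 = N60591 := ded_41_2 (flp_e L795880) (flp_g L795380) L807266
theorem L807272 : sm gh N61640 = N60527 := ded_43_2 (flp_e L795478) (flp_h L795382) L807266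
theorem L807274 : sm gi N61640 = N60516 := ded_44_2 (flp_e L795399) (flp_i L795384) L807266
theorem L807276 : sm gf N60514 = N61641 := rfl
theorem L807278 : sm gd N61641 = N61641 := ded_35_1 (flp_f L807276) L795394 L807276
theorem L807279 : sm gh N61641 = N60528 := ded_47_2 (flp_f L795486) (flp_h L795390) L807276
theorem L807281 : sm gi N61641 = N60517 := ded_48_2 (flp_f L795405) (flp_i L795392) L807276
theorem L807283 : sm ga N60515 = N61642 := rfl
theorem L807285 : sm gh N61642 = N60518 := ded_17_2 (flp_a L795410) (flp_h L795397) L807283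
theorem L807287 : sm ge N60515 = N61643 := rfl
theorem L807289 : sm gb N61643 = N60516 := ded_21_1 (flp_e L795399) L795395 L807287
theorem L807291 : sm gh N61643 = N60519 := ded_43_2 (flp_e L795416) (flp_h L795397) L807287
theorem L807293 : sm gd N60516 = N61644 := rfl
theorem L807295 : sm gc N61644 = N61644 := ded_27_1 (flp_d L807293) L795401 L783223 (flp_c L795401) L807293
theorem L807296 : sm gh N61644 = N60551 := ded_38_2 (flp_d L795632) L783465 (flp_d L783236) (flp_h L795403) L807293
theorem L807298 : sm gf N60516 = N61645 := rfl
theorem L807300 : sm gc N61645 = N60517 := ded_29_1 (flp_f L795405) (flp_c L795401) L807298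
theorem L807302 : sm gh N61645 = N60520 := ded_47_2 (flp_f L795424) (flp_h L795403) L807298
theorem L807304 : sm ge N60518 = N61646 := rfl
theorem L807306 : sm ga N61646 = N60519 := ded_13_1 (flp_e L795416) L795410 L807304
theorem L807308 : sm gi N61646 = N60535 := ded_44_2 (flp_e L795526) (flp_i L795414) L807304
theorem L807310 : sm gd N61646 = N60552 := ded_34_1 (flp_e L795635) L783469 (flp_e L783246) (flp_d L795412) L807304
theorem L807312 : sm gf N60519 = N61647 := rfl
theorem L807314 : sm gb N61647 = N60520 := ded_22_1 (flp_f L795424) (flp_b L795418) L807312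
theorem L807316 : sm gd N61647 = N60553 := ded_35_1 (flp_f L795641) (flp_d L795422) L807312
theorem L807318 : sm gi N61647 = N60536 := ded_48_2 (flp_f L795532) (flp_i L795420) L807312
theorem L807320 : sm gb N60521 = N61648 := rfl
theorem L807322 : sm gd N61648 = N60582 := ded_20_2 (flp_b L795817) (flp_d L795440) L807320
theorem L807324 : sm gf N61648 = N60526 := ded_22_2 (flp_b L795470) (flp_f L795434) L807320
theorem L807326 : sm gg N61648 = N60579 := ded_23_2 (flp_b L795801) (flp_g L795436) L807320
theorem L807328 : sm gi N61648 = N60523 := ded_26_2 (flp_b L795449) (flp_i L795438) L807320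
theorem L807330 : sm ge N60521 = N61649 := rfl
theorem L807332 : sm gc N61649 = N60522 := ded_28_1 (flp_e L795442) L795432 L807330
theorem L807334 : sm gg N61649 = N60580 := ded_41_2 (flp_e L795807) (flp_g L795436) L807330
theorem L807336 : sm gi N61649 = N60524 := ded_44_2 (flp_e L795457) (flp_i L795438) L807330
theorem L807338 : sm gf N60522 = N61650 := rfl
theorem L807340 : sm gd N61650 = N61650 := ded_35_1 (flp_f L807338) L795448 L807338
theorem L807341 : sm gi N61650 = N60525 := ded_48_2 (flp_f L795463) (flp_i L795446) L807338
theorem L807343 : sm ge N61650 = N60528 := ded_40_1 (flp_f L795486) (flp_e L783287) (flp_f L783260) L795442 L807338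
theorem L807345 : sm ga N60523 = N61651 := rfl
theorem L807347 : sm gd N61651 = N60601 := ded_12_2 (flp_a L795962) (flp_d L795451) L807345
theorem L807349 : sm gf N61651 = N60529 := ded_14_2 (flp_a L795492) (flp_f L795453) L807345
theorem L807351 : sm gh N61651 = N60532 := ded_17_2 (flp_a L795510) (flp_h L795455) L807345
theorem L807353 : sm ge N60523 = N61652 := rfl
theorem L807355 : sm gb N61652 = N60524 := ded_21_1 (flp_e L795457) L795449 L807353
theorem L807357 : sm gh N61652 = N60533 := ded_43_2 (flp_e L795516) (flp_h L795455) L807353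
theorem L807359 : sm gd N60524 = N61653 := rfl
theorem L807361 : sm gg N61653 = N60669 := ded_36_2 L801198 L801188 L807359
theorem L807363 : sm gc N61653 = N61653 := ded_27_1 (flp_d L807359) L795459 L783278 (flp_c L795459) L807359
theorem L807364 : sm ge N61653 = N60603 := ded_34_2 (flp_d L795974) (flp_e L783880) (flp_d L783272) L795457 L807359
theorem L807366 : sm gh N61653 = N60666 := ded_38_2 (flp_d L796365) (flp_h L784860) L784864 (flp_h L795461) L807359
theorem L807368 : sm gf N60524 = N61654 := rfl
theorem L807370 : sm gc N61654 = N60525 := ded_29_1 (flp_f L795463) (flp_c L795459) L807368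
theorem L807372 : sm gh N61654 = N60534 := ded_47_2 (flp_f L795520) (flp_h L795461) L807368
theorem L807374 : sm ge N61654 = N60531 := ded_40_1 (flp_f L795504) (flp_e L783301) (flp_f L783268) L795457 L807368
theorem L807376 : sm ga N60526 = N61655 := rfl
theorem L807378 : sm gd N61655 = N60595 := ded_12_2 (flp_a L795908) (flp_d L795472) L807376
theorem L807380 : sm gg N61655 = N60593 := ded_15_2 (flp_a L795894) (flp_g L795474) L807376
theorem L807382 : sm gi N61655 = N60529 := ded_18_2 (flp_a L795492) (flp_i L795476) L807376
theorem L807384 : sm ge N60526 = N61656 := rfl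
theorem L807386 : sm gb N61656 = N60527 := ded_21_1 (flp_e L795478) L795470 L807384
theorem L807388 : sm gg N61656 = N60594 := ded_41_2 (flp_e L795902) (flp_g L795474) L807384
theorem L807390 : sm gi N61656 = N60530 := ded_44_2 (flp_e L795498) (flp_i L795476) L807384
theorem L807392 : sm gf N60527 = N61657 := rfl
theorem L807394 : sm gc N61657 = N60528 := ded_29_1 (flp_f L795486) (flp_c L795480) L807392
theorem L807396 : sm gi N61657 = N60531 := ded_48_2 (flp_f L795504) (flp_i L795484) L807392
theorem L807398 : sm ge N60529 = N61658 := rfl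
theorem L807400 : sm ga N61658 = N60530 := ded_13_1 (flp_e L795498) L795492 L807398
theorem L807402 : sm gh N61658 = N60535 := ded_43_2 (flp_e L795526) (flp_h L795496) L807398
theorem L807404 : sm gf N60530 = N61659 := rfl
theorem L807406 : sm gb N61659 = N60531 := ded_22_1 (flp_f L795504) (flp_b L795500) L807404
theorem L807408 : sm gh N61659 = N60536 := ded_47_2 (flp_f L795532) (flp_h L795502) L807404
theorem L807410 : sm ge N60532 = N61660 := rfl
theorem L807412 : sm ga N61660 = N60533 := ded_13_1 (flp_e L795516) L795510 L807410
theorem L807414 : sm gf N60533 = N61661 := rfl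
theorem L807416 : sm gb N61661 = N60534 := ded_22_1 (flp_f L795520) (flp_b L795518) L807414
theorem L807418 : sm ge N61661 = N60536 := ded_40_1 (flp_f L795532) (flp_e L783333) (flp_f L783317) L795516 L807414
theorem L807420 : sm gf N60535 = N61662 := rfl
theorem L807422 : sm ga N61662 = N60536 := ded_14_1 (flp_f L795532) (flp_a L795528) L807420
theorem L807424 : sm gd N61662 = N60573 := ded_35_1 (flp_f L795765) (flp_d L795530) L807420
theorem L807426 : sm gg N60536 = N61663 := rfl
theorem L807428 : sm gb N61663 = N60537 := ded_23_1 (flp_g L795538) (flp_b L795534) L807426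
theorem L807430 : sm gd N61663 = N60574 := ded_36_1 (flp_g L795769) (flp_d L795536) L807426
theorem L807432 : sm ga N60538 = N61664 := rfl
theorem L807434 : sm gf N61664 = N60678 := ded_14_2 (flp_a L796455) (flp_f L795546) L807432
theorem L807436 : sm gj N61664 = N60664 := ded_16_2 (flp_a L796353) (flp_j L795548) L807432
theorem L807438 : sm gh N61664 = N60540 := ded_17_2 (flp_a L795562) (flp_h L795550) L807432
theorem L807440 : sm gb N61664 = N60549 := ded_10_2 (flp_a L795622) (flp_b L783457) (flp_a L783365) L795544 L807432
theorem L807442 : sm ge N60538 = N61665 := rfl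
theorem L807444 : sm gb N61665 = N60539 := ded_21_1 (flp_e L795552) L795544 L807442
theorem L807446 : sm gj N61665 = N60665 := ded_42_2 (flp_e L796359) (flp_j L795548) L807442
theorem L807448 : sm gh N61665 = N60541 := ded_43_2 (flp_e L795570) (flp_h L795550) L807442
theorem L807450 : sm gd N60539 = N61666 := rfl
theorem L807452 : sm ga N61666 = N60551 := ded_12_1 (flp_d L795632) (flp_a L795554) L807450
theorem L807454 : sm gj N61666 = N60666 := ded_37_2 (flp_d L796365) (flp_j L795558) L807450
theorem L807456 : sm gc N61666 = N61666 := ded_27_1 (flp_d L807450) L795556 L783381 (flp_c L795556) L807450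
theorem L807457 : sm ge N60540 = N61667 := rfl
theorem L807459 : sm ga N61667 = N60541 := ded_13_1 (flp_e L795570) L795562 L807457
theorem L807461 : sm gb N61667 = N60552 := ded_21_1 (flp_e L795635) (flp_b L795568) L807457
theorem L807463 : sm gi N61667 = N60543 := ded_44_2 (flp_e L795584) (flp_i L795566) L807457
theorem L807465 : sm gf N60543 = N61668 := rfl
theorem L807467 : sm ga N61668 = N60544 := ded_14_1 (flp_f L795590) (flp_a L795586) L807465
theorem L807469 : sm gb N61668 = N60573 := ded_22_1 (flp_f L795765) (flp_b L795588) L807465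
theorem L807471 : sm ge N60545 = N61669 := rfl
theorem L807473 : sm ga N61669 = N60546 := ded_13_1 (flp_e L795600) L795594 L807471
theorem L807475 : sm gc N61669 = N60552 := ded_28_1 (flp_e L795635) (flp_c L795596) L807471
theorem L807477 : sm gi N61669 = N60566 := ded_44_2 (flp_e L795721) (flp_i L795598) L807471
theorem L807479 : sm ga N60547 = N61670 := rfl
theorem L807481 : sm gh N61670 = N60568 := ded_17_2 (flp_a L795733) (flp_h L795610) L807479
theorem L807483 : sm gi N61670 = N60549 := ded_18_2 (flp_a L795622) (flp_i L795612) L807479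
theorem L807485 : sm ge N60547 = N61671 := rfl
theorem L807487 : sm gb N61671 = N60548 := ded_21_1 (flp_e L795614) L795608 L807485
theorem L807489 : sm gh N61671 = N60569 := ded_43_2 (flp_e L795739) (flp_h L795610) L807485
theorem L807491 : sm gi N61671 = N60550 := ded_44_2 (flp_e L795626) (flp_i L795612) L807485
theorem L807493 : sm gd N60548 = N61672 := rfl
theorem L807495 : sm gi N61672 = N60551 := ded_39_2 (flp_d L795632) (flp_i L795620) L807493
theorem L807497 : sm gc N61672 = N61672 := ded_27_1 (flp_d L807493) L795616 L783456 (flp_c L795616) L807493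
theorem L807498 : sm ge N60549 = N61673 := rfl
theorem L807500 : sm ga N61673 = N60550 := ded_13_1 (flp_e L795626) L795622 L807498
theorem L807502 : sm gh N61673 = N60552 := ded_43_2 (flp_e L795635) (flp_h L795624) L807498
theorem L807504 : sm gd N60550 = N61674 := rfl
theorem L807506 : sm gb N61674 = N60551 := ded_20_1 (flp_d L795632) (flp_b L795628) L807504
theorem L807508 : sm gf N60552 = N61675 := rfl
theorem L807510 : sm ga N61675 = N60553 := ded_14_1 (flp_f L795641) (flp_a L795637) L807508
theorem L807512 : sm gi N61675 = N60573 := ded_48_2 (flp_f L795765) (flp_i L795639) L807508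
theorem L807514 : sm ge N60554 = N61676 := rfl
theorem L807516 : sm ga N61676 = N60555 := ded_13_1 (flp_e L795653) L795647 L807514
theorem L807518 : sm gg N61676 = N60560 := ded_41_2 (flp_e L795687) (flp_g L795651) L807514
theorem L807520 : sm gd N61676 = N60566 := ded_34_1 (flp_e L795721) (flp_d L793978) L793980 (flp_d L795649) L807514
theorem L807522 : sm ge N60556 = N61677 := rfl
theorem L807524 : sm ga N61677 = N60557 := ded_13_1 (flp_e L795667) L795661 L807522
theorem L807526 : sm gh N61677 = N60667 := ded_43_2 (flp_e L796370) (flp_h L795665) L807522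
theorem L807528 : sm ge N60558 = N61678 := rfl
theorem L807530 : sm ga N61678 = N60559 := ded_13_1 (flp_e L795679) L795673 L807528
theorem L807532 : sm gc N61678 = N60560 := ded_28_1 (flp_e L795687) (flp_c L795675) L807528
theorem L807534 : sm gj N61678 = N60566 := ded_42_2 (flp_e L795721) (flp_j L795677) L807528
theorem L807536 : sm ge N60561 = N61679 := rfl
theorem L807538 : sm ga N61679 = N60562 := ded_13_1 (flp_e L795697) L795693 L807536
theorem L807540 : sm gb N61679 = N60566 := ded_21_1 (flp_e L795721) (flp_b L795695) L807536
theorem L807542 : sm ge N60563 = N61680 := rfl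
theorem L807544 : sm ga N61680 = N60564 := ded_13_1 (flp_e L795707) L795701 L807542
theorem L807546 : sm gc N61680 = N60570 := ded_28_1 (flp_e L795745) (flp_c L795703) L807542
theorem L807548 : sm gh N61680 = N60566 := ded_43_2 (flp_e L795721) (flp_h L795705) L807542
theorem L807550 : sm gf N60566 = N61681 := rfl
theorem L807552 : sm ga N61681 = N60567 := ded_14_1 (flp_f L795727) (flp_a L795723) L807550
theorem L807554 : sm gc N61681 = N60573 := ded_29_1 (flp_f L795765) (flp_c L795725) L807550
theorem L807556 : sm ge N60568 = N61682 := rfl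
theorem L807558 : sm ga N61682 = N60569 := ded_13_1 (flp_e L795739) L795733 L807556
theorem L807560 : sm gi N61682 = N60570 := ded_44_2 (flp_e L795745) (flp_i L795737) L807556
theorem L807562 : sm gg N60573 = N61683 := rfl
theorem L807564 : sm ga N61683 = N60574 := ded_15_1 (flp_g L795769) (flp_a L795767) L807562
theorem L807566 : sm ga N60575 = N61684 := rfl
theorem L807568 : sm gf N61684 = N60577 := ded_14_2 (flp_a L795785) (flp_f L795775) L807566
theorem L807570 : sm gb N61684 = N60584 := ded_10_2 (flp_a L795835) (flp_b L783732) (flp_a L783645) L795773 L807566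
theorem L807572 : sm ge N60575 = N61685 := rfl
theorem L807574 : sm gb N61685 = N60576 := ded_21_1 (flp_e L795777) L795773 L807572
theorem L807576 : sm gf N61685 = N60609 := ded_40_2 (flp_e L796005) L783932 (flp_e L783658) (flp_f L795775) L807572
theorem L807578 : sm ga N60579 = N61686 := rfl
theorem L807580 : sm gd N61686 = N60584 := ded_12_2 (flp_a L795835) (flp_d L795803) L807578
theorem L807582 : sm gf N61686 = N60581 := ded_14_2 (flp_a L795811) (flp_f L795805) L807578
theorem L807584 : sm ge N60579 = N61687 := rfl
theorem L807586 : sm gb N61687 = N60580 := ded_21_1 (flp_e L795807) L795801 L807584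
theorem L807588 : sm gd N60580 = N61688 := rfl
theorem L807590 : sm gi N61688 = N60669 := ded_39_2 L801198 L801194 L807588
theorem L807592 : sm gc N61688 = N61688 := ded_27_1 (flp_d L807588) L795809 L783708 (flp_c L795809) L807588
theorem L807593 : sm ge N61688 = N60586 := ded_34_2 (flp_d L795845) (flp_e L783736) (flp_d L783704) L795807 L807588
theorem L807595 : sm ga N60582 = N61689 := rfl
theorem L807597 : sm gc N61689 = N60608 := ded_11_2 (flp_a L795999) (flp_c L795825) L807595
theorem L807599 : sm gf N61689 = N60595 := ded_14_2 (flp_a L795908) (flp_f L795819) L807595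
theorem L807601 : sm gg N61689 = N60584 := ded_15_2 (flp_a L795835) (flp_g L795821) L807595
theorem L807603 : sm gi N61689 = N60601 := ded_18_2 (flp_a L795962) (flp_i L795823) L807595
theorem L807605 : sm ge N60582 = N61690 := rfl
theorem L807607 : sm gb N61690 = N60583 := ded_21_1 (flp_e L795827) L795817 L807605
theorem L807609 : sm gc N61690 = N60609 := ded_28_1 (flp_e L796005) (flp_c L795825) L807605
theorem L807611 : sm gg N61690 = N60585 := ded_41_2 (flp_e L795839) (flp_g L795821) L807605
theorem L807613 : sm gi N61690 = N60602 := ded_44_2 (flp_e L795968) (flp_i L795823) L807605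
theorem L807615 : sm gd N60583 = N61691 := rfl
theorem L807617 : sm gg N61691 = N60586 := ded_36_2 (flp_d L795845) (flp_g L795831) L807615
theorem L807619 : sm gi N61691 = N60603 := ded_39_2 (flp_d L795974) (flp_i L795833) L807615
theorem L807621 : sm gc N61691 = N61691 := ded_27_1 (flp_d L807615) L795829 L783731 (flp_c L795829) L807615
theorem L807622 : sm ge N60584 = N61692 := rfl
theorem L807624 : sm ga N61692 = N60585 := ded_13_1 (flp_e L795839) L795835 L807622
theorem L807626 : sm gf N61692 = N60667 := ded_40_2 (flp_e L796370) L784320 (flp_e L783744) (flp_f L795837) L807622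
theorem L807628 : sm gd N60585 = N61693 := rfl
theorem L807630 : sm gb N61693 = N60586 := ded_20_1 (flp_d L795845) (flp_b L795841) L807628
theorem L807632 : sm gf N61693 = N60668 := ded_35_2 (flp_d L796374) (flp_f L795843) L807628
theorem L807634 : sm ga N60587 = N61694 := rfl
theorem L807636 : sm gc N61694 = N60593 := ded_11_2 (flp_a L795894) (flp_c L795858) L807634
theorem L807638 : sm gd N61694 = N60611 := ded_12_2 (flp_a L796014) (flp_d L795852) L807634
theorem L807640 : sm gf N61694 = N60589 := ded_14_2 (flp_a L795866) (flp_f L795854) L807634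
theorem L807642 : sm gj N61694 = N60599 := ded_16_2 (flp_a L795948) (flp_j L795856) L807634
theorem L807644 : sm ge N60587 = N61695 := rfl
theorem L807646 : sm gb N61695 = N60588 := ded_21_1 (flp_e L795860) L795850 L807644
theorem L807648 : sm gc N61695 = N60594 := ded_28_1 (flp_e L795902) (flp_c L795858) L807644
theorem L807650 : sm gj N61695 = N60600 := ded_42_2 (flp_e L795956) (flp_j L795856) L807644
theorem L807652 : sm ga N60590 = N61696 := rfl
theorem L807654 : sm gf N61696 = N60592 := ded_14_2 (flp_a L795888) (flp_f L795874) L807652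
theorem L807656 : sm gj N61696 = N60601 := ded_16_2 (flp_a L795962) (flp_j L795876) L807652
theorem L807658 : sm gh N61696 = N60593 := ded_17_2 (flp_a L795894) (flp_h L795878) L807652
theorem L807660 : sm ge N60590 = N61697 := rfl
theorem L807662 : sm gb N61697 = N60591 := ded_21_1 (flp_e L795880) L795872 L807660
theorem L807664 : sm gj N61697 = N60602 := ded_42_2 (flp_e L795968) (flp_j L795876) L807660
theorem L807666 : sm gh N61697 = N60594 := ded_43_2 (flp_e L795902) (flp_h L795878) L807660
theorem L807668 : sm gd N60591 = N61698 := rfl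
theorem L807670 : sm gj N61698 = N60603 := ded_37_2 (flp_d L795974) (flp_j L795884) L807668
theorem L807672 : sm gc N61698 = N61698 := ded_27_1 (flp_d L807668) L795882 L783784 (flp_c L795882) L807668
theorem L807673 : sm ge N60593 = N61699 := rfl
theorem L807675 : sm ga N61699 = N60594 := ded_13_1 (flp_e L795902) L795894 L807673
theorem L807677 : sm gj N61699 = N60604 := ded_42_2 (flp_e L795977) (flp_j L795900) L807673
theorem L807679 : sm ga N60596 = N61700 := rfl
theorem L807681 : sm gc N61700 = N60601 := ded_11_2 (flp_a L795962) (flp_c L795924) L807679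
theorem L807683 : sm gf N61700 = N60598 := ded_14_2 (flp_a L795936) (flp_f L795918) L807679
theorem L807685 : sm gh N61700 = N60599 := ded_17_2 (flp_a L795948) (flp_h L795920) L807679
theorem L807687 : sm gi N61700 = N60608 := ded_18_2 (flp_a L795999) (flp_i L795922) L807679
theorem L807689 : sm gb N61700 = N60630 := ded_10_2 (flp_a L796128) (flp_b L784075) (flp_a L783829) L795916 L807679
theorem L807691 : sm ge N60596 = N61701 := rfl
theorem L807693 : sm gb N61701 = N60597 := ded_21_1 (flp_e L795926) L795916 L807691
theorem L807695 : sm gc N61701 = N60602 := ded_28_1 (flp_e L795968) (flp_c L795924) L807691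
theorem L807697 : sm gh N61701 = N60600 := ded_43_2 (flp_e L795956) (flp_h L795920) L807691
theorem L807699 : sm gi N61701 = N60609 := ded_44_2 (flp_e L796005) (flp_i L795922) L807691
theorem L807701 : sm gd N60597 = N61702 := rfl
theorem L807703 : sm ga N61702 = N60632 := ded_12_1 (flp_d L796140) (flp_a L795928) L807701
theorem L807705 : sm gi N61702 = N60610 := ded_39_2 (flp_d L796009) (flp_i L795934) L807701
theorem L807707 : sm gc N61702 = N61702 := ded_27_1 (flp_d L807701) L795930 L783847 (flp_c L795930) L807701
theorem L807708 : sm ge N60599 = N61703 := rfl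
theorem L807710 : sm ga N61703 = N60600 := ded_13_1 (flp_e L795956) L795948 L807708
theorem L807712 : sm gc N61703 = N60604 := ded_28_1 (flp_e L795977) (flp_c L795950) L807708
theorem L807714 : sm ge N60601 = N61704 := rfl
theorem L807716 : sm ga N61704 = N60602 := ded_13_1 (flp_e L795968) L795962 L807714
theorem L807718 : sm gh N61704 = N60604 := ded_43_2 (flp_e L795977) (flp_h L795966) L807714
theorem L807720 : sm gd N60602 = N61705 := rfl
theorem L807722 : sm gb N61705 = N60603 := ded_20_1 (flp_d L795974) (flp_b L795970) L807720
theorem L807724 : sm ge N60605 = N61706 := rfl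
theorem L807726 : sm ga N61706 = N60606 := ded_13_1 (flp_e L795987) L795981 L807724
theorem L807728 : sm gb N61706 = N60626 := ded_21_1 (flp_e L796102) (flp_b L795985) L807724
theorem L807730 : sm ge N60608 = N61707 := rfl
theorem L807732 : sm ga N61707 = N60609 := ded_13_1 (flp_e L796005) L795999 L807730
theorem L807734 : sm gb N61707 = N60667 := ded_21_1 (flp_e L796370) (flp_b L796003) L807730
theorem L807736 : sm gd N60609 = N61708 := rfl
theorem L807738 : sm gb N61708 = N60610 := ded_20_1 (flp_d L796009) (flp_b L796007) L807736
theorem L807740 : sm ga N60615 = N61709 := rfl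
theorem L807742 : sm gc N61709 = N60694 := ded_11_2 (flp_a L796559) (flp_c L796042) L807740
theorem L807744 : sm gj N61709 = N60680 := ded_16_2 (flp_a L796467) (flp_j L796040) L807740
theorem L807746 : sm gb N61709 = N60619 := ded_10_2 (flp_a L796064) (flp_b L784012) (flp_a L783986) L796038 L807740
theorem L807748 : sm ge N60615 = N61710 := rfl
theorem L807750 : sm gb N61710 = N60616 := ded_21_1 (flp_e L796044) L796038 L807748
theorem L807752 : sm gc N61710 = N60693 := ded_28_1 L796557 (flp_c L796042) L807748
theorem L807754 : sm gj N61710 = N60681 := ded_42_2 (flp_e L796473) (flp_j L796040) L807748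
theorem L807756 : sm ga N60617 = N61711 := rfl
theorem L807758 : sm gc N61711 = N60624 := ded_11_2 (flp_a L796090) (flp_c L796056) L807756
theorem L807760 : sm gh N61711 = N60619 := ded_17_2 (flp_a L796064) (flp_h L796054) L807756
theorem L807762 : sm ge N60617 = N61712 := rfl
theorem L807764 : sm gb N61712 = N60618 := ded_21_1 (flp_e L796058) L796052 L807762
theorem L807766 : sm gc N61712 = N60625 := ded_28_1 (flp_e L796096) (flp_c L796056) L807762
theorem L807768 : sm gh N61712 = N60620 := ded_43_2 (flp_e L796068) (flp_h L796054) L807762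
theorem L807770 : sm ge N60619 = N61713 := rfl
theorem L807772 : sm ga N61713 = N60620 := ded_13_1 (flp_e L796068) L796064 L807770
theorem L807774 : sm gc N61713 = N60626 := ded_28_1 (flp_e L796102) (flp_c L796066) L807770
theorem L807776 : sm gd N60620 = N61714 := rfl
theorem L807778 : sm gb N61714 = N60621 := ded_20_1 (flp_d L796074) (flp_b L796070) L807776
theorem L807780 : sm ga N60622 = N61715 := rfl
theorem L807782 : sm gd N61715 = N60654 := ded_12_2 (flp_a L796286) (flp_d L796080) L807780
theorem L807784 : sm gi N61715 = N60624 := ded_18_2 (flp_a L796090) (flp_i L796082) L807780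
theorem L807786 : sm ge N60622 = N61716 := rfl
theorem L807788 : sm gb N61716 = N60623 := ded_21_1 (flp_e L796084) L796078 L807786
theorem L807790 : sm gi N61716 = N60625 := ded_44_2 (flp_e L796096) (flp_i L796082) L807786
theorem L807792 : sm ge N60624 = N61717 := rfl
theorem L807794 : sm ga N61717 = N60625 := ded_13_1 (flp_e L796096) L796090 L807792
theorem L807796 : sm gh N61717 = N60626 := ded_43_2 (flp_e L796102) (flp_h L796094) L807792
theorem L807798 : sm ga N60627 = N61718 := rfl
theorem L807800 : sm gd N61718 = N60630 := ded_12_2 (flp_a L796128) (flp_d L796108) L807798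
theorem L807802 : sm gf N61718 = N60629 := ded_14_2 (flp_a L796120) (flp_f L796110) L807798
theorem L807804 : sm gi N61718 = N60661 := ded_18_2 (flp_a L796338) (flp_i L796112) L807798
theorem L807806 : sm ge N60627 = N61719 := rfl
theorem L807808 : sm gb N61719 = N60628 := ded_21_1 (flp_e L796114) L796106 L807806
theorem L807810 : sm gi N61719 = N60662 := ded_44_2 (flp_e L796344) (flp_i L796112) L807806
theorem L807812 : sm gd N60628 = N61720 := rfl
theorem L807814 : sm gi N61720 = N60663 := ded_39_2 (flp_d L796348) (flp_i L796118) L807812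
theorem L807816 : sm gc N61720 = N61720 := ded_27_1 (flp_d L807812) L796116 L784066 (flp_c L796116) L807812
theorem L807817 : sm ge N61720 = N60632 := ded_34_2 (flp_d L796140) (flp_e L784081) (flp_d L784060) L796114 L807812
theorem L807819 : sm ge N60630 = N61721 := rfl
theorem L807821 : sm ga N61721 = N60631 := ded_13_1 (flp_e L796134) L796128 L807819
theorem L807823 : sm gi N61721 = N60667 := ded_44_2 (flp_e L796370) (flp_i L796132) L807819
theorem L807825 : sm gd N60631 = N61722 := rfl
theorem L807827 : sm gb N61722 = N60632 := ded_20_1 (flp_d L796140) (flp_b L796136) L807825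
theorem L807829 : sm gi N61722 = N60668 := ded_39_2 (flp_d L796374) (flp_i L796138) L807825
theorem L807831 : sm ga N60636 = N61723 := rfl
theorem L807833 : sm gd N61723 = N60640 := ded_12_2 (flp_a L796189) (flp_d L796169) L807831
theorem L807835 : sm ge N60636 = N61724 := rfl
theorem L807837 : sm gb N61724 = N60637 := ded_21_1 (flp_e L796171) L796167 L807835
theorem L807839 : sm ga N60638 = N61725 := rfl
theorem L807841 : sm gc N61725 = N60651 := ded_11_2 (flp_a L796271) (flp_c L796181) L807839
theorem L807843 : sm gf N61725 = N60640 := ded_14_2 (flp_a L796189) (flp_f L796177) L807839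
theorem L807845 : sm gh N61725 = N60641 := ded_17_2 (flp_a L796195) (flp_h L796179) L807839
theorem L807847 : sm ge N60638 = N61726 := rfl
theorem L807849 : sm gb N61726 = N60639 := ded_21_1 (flp_e L796183) L796175 L807847
theorem L807851 : sm gc N61726 = N60652 := ded_28_1 (flp_e L796277) (flp_c L796181) L807847
theorem L807853 : sm gh N61726 = N60642 := ded_43_2 (flp_e L796203) (flp_h L796179) L807847
theorem L807855 : sm gd N60639 = N61727 := rfl
theorem L807857 : sm gc N61727 = N61727 := ded_27_1 (flp_d L807855) L796185 L784141 (flp_c L796185) L807855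
theorem L807858 : sm ge N60641 = N61728 := rfl
theorem L807860 : sm ga N61728 = N60642 := ded_13_1 (flp_e L796203) L796195 L807858
theorem L807862 : sm gc N61728 = N60659 := ded_28_1 (flp_e L796326) (flp_c L796197) L807858
theorem L807864 : sm gi N61728 = N60682 := ded_44_2 (flp_e L796481) (flp_i L796201) L807858
theorem L807866 : sm gd N60642 = N61729 := rfl
theorem L807868 : sm gb N61729 = N60643 := ded_20_1 (flp_d L796211) (flp_b L796205) L807866
theorem L807870 : sm gf N61729 = N60658 := ded_35_2 (flp_d L798620) L798622 L807866
theorem L807872 : sm gi N61729 = N60683 := ded_39_2 (flp_d L796487) (flp_i L796209) L807866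
theorem L807874 : sm gh N60643 = N61730 := rfl
theorem L807876 : sm gc N61730 = N60648 := ded_32_1 L796253 (flp_c L796217) L807874
theorem L807878 : sm gf N61730 = N60647 := ded_47_1 L796248 (flp_f L796213) L807874
theorem L807880 : sm gb N60644 = N61731 := rfl
theorem L807882 : sm gg N61731 = N60649 := ded_23_2 (flp_b L796255) (flp_g L796221) L807880
theorem L807884 : sm gh N61731 = N60685 := ded_25_2 (flp_b L796499) (flp_h L796223) L807880
theorem L807886 : sm gi N61731 = N60646 := ded_26_2 (flp_b L796236) (flp_i L796225) L807880
theorem L807888 : sm ge N60644 = N61732 := rfl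
theorem L807890 : sm gc N61732 = N60645 := ded_28_1 (flp_e L796227) L796219 L807888
theorem L807892 : sm gg N61732 = N60650 := ded_41_2 (flp_e L796263) (flp_g L796221) L807888
theorem L807894 : sm gh N61732 = N60686 := ded_43_2 (flp_e L796505) (flp_h L796223) L807888
theorem L807896 : sm gi N61732 = N60647 := ded_44_2 (flp_e L796242) (flp_i L796225) L807888
theorem L807898 : sm gf N60645 = N61733 := rfl
theorem L807900 : sm gd N61733 = N61733 := ded_35_1 (flp_f L807898) L796235 L807898
theorem L807901 : sm gh N61733 = N60687 := ded_47_2 (flp_f L796513) (flp_h L796231) L807898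
theorem L807903 : sm gi N61733 = N60648 := ded_48_2 (flp_f L796250) (flp_i L796233) L807898
theorem L807905 : sm ga N60646 = N61734 := rfl
theorem L807907 : sm gg N61734 = N60651 := ded_15_2 (flp_a L796271) (flp_g L796238) L807905
theorem L807909 : sm gh N61734 = N60657 := ded_17_2 (flp_a L796310) (flp_h L796240) L807905
theorem L807911 : sm ge N60646 = N61735 := rfl
theorem L807913 : sm gb N61735 = N60647 := ded_21_1 (flp_e L796242) L796236 L807911
theorem L807915 : sm gg N61735 = N60652 := ded_41_2 (flp_e L796277) (flp_g L796238) L807911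
theorem L807917 : sm gh N61735 = N60658 := ded_43_2 (flp_e L796318) (flp_h L796240) L807911
theorem L807919 : sm gd N60647 = N61736 := rfl
theorem L807921 : sm gg N61736 = N60653 := ded_36_2 (flp_d L796283) (flp_g L796246) L807919
theorem L807923 : sm gc N61736 = N61736 := ded_27_1 (flp_d L807919) L796244 L784188 (flp_c L796244) L807919
theorem L807924 : sm ga N60649 = N61737 := rfl
theorem L807926 : sm gf N61737 = N60654 := ded_14_2 (flp_a L796286) (flp_f L796257) L807924
theorem L807928 : sm gh N61737 = N60690 := ded_17_2 (flp_a L796533) (flp_h L796259) L807924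
theorem L807930 : sm gi N61737 = N60651 := ded_18_2 (flp_a L796271) (flp_i L796261) L807924
theorem L807932 : sm ge N60649 = N61738 := rfl
theorem L807934 : sm gb N61738 = N60650 := ded_21_1 (flp_e L796263) L796255 L807932
theorem L807936 : sm gh N61738 = N60691 := ded_43_2 (flp_e L796539) (flp_h L796259) L807932
theorem L807938 : sm gi N61738 = N60652 := ded_44_2 (flp_e L796277) (flp_i L796261) L807932
theorem L807940 : sm gd N60650 = N61739 := rfl
theorem L807942 : sm gi N61739 = N60653 := ded_39_2 (flp_d L796283) (flp_i L796269) L807940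
theorem L807944 : sm gc N61739 = N61739 := ded_27_1 (flp_d L807940) L796265 L784203 (flp_c L796265) L807940
theorem L807945 : sm ge N60651 = N61740 := rfl
theorem L807947 : sm ga N61740 = N60652 := ded_13_1 (flp_e L796277) L796271 L807945
theorem L807949 : sm gh N61740 = N60659 := ded_43_2 (flp_e L796326) (flp_h L796275) L807945
theorem L807951 : sm gd N60652 = N61741 := rfl
theorem L807953 : sm gb N61741 = N60653 := ded_20_1 (flp_d L796283) (flp_b L796279) L807951
theorem L807955 : sm ga N60655 = N61742 := rfl
theorem L807957 : sm gd N61742 = N60660 := ded_12_2 (flp_a L796332) (flp_d L796294) L807955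
theorem L807959 : sm gj N61742 = N60657 := ded_16_2 (flp_a L796310) (flp_j L796296) L807955
theorem L807961 : sm gi N61742 = N60694 := ded_18_2 (flp_a L796559) (flp_i L796298) L807955
theorem L807963 : sm ge N60655 = N61743 := rfl
theorem L807965 : sm gb N61743 = N60656 := ded_21_1 (flp_e L796300) L796292 L807963
theorem L807967 : sm gj N61743 = N60658 := ded_42_2 (flp_e L796318) (flp_j L796296) L807963
theorem L807969 : sm gi N61743 = N60693 := ded_44_2 L796557 (flp_i L796298) L807963
theorem L807971 : sm gd N61743 = N60691 := ded_34_1 (flp_e L796539) (flp_d L786433) L786435 (flp_d L796294) L807963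
theorem L807973 : sm ge N60657 = N61744 := rfl
theorem L807975 : sm ga N61744 = N60658 := ded_13_1 (flp_e L796318) L796310 L807973
theorem L807977 : sm gg N61744 = N60659 := ded_41_2 (flp_e L796326) (flp_g L796314) L807973
theorem L807979 : sm gi N61744 = N60695 := ded_44_2 (flp_e L796565) (flp_i L796316) L807973
theorem L807981 : sm ge N60661 = N61745 := rfl
theorem L807983 : sm ga N61745 = N60662 := ded_13_1 (flp_e L796344) L796338 L807981
theorem L807985 : sm gd N60662 = N61746 := rfl
theorem L807987 : sm gb N61746 = N60663 := ded_20_1 (flp_d L796348) (flp_b L796346) L807985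
theorem L807989 : sm ge N61746 = N60668 := ded_34_2 (flp_d L796374) (flp_e L784322) (flp_d L784292) L796344 L807985
theorem L807991 : sm ge N60664 = N61747 := rfl
theorem L807993 : sm ga N61747 = N60665 := ded_13_1 (flp_e L796359) L796353 L807991
theorem L807995 : sm gg N61747 = N60667 := ded_41_2 (flp_e L796370) (flp_g L796357) L807991
theorem L807997 : sm gd N60665 = N61748 := rfl
theorem L807999 : sm gb N61748 = N60666 := ded_20_1 (flp_d L796365) (flp_b L796361) L807997
theorem L808001 : sm gg N61748 = N60668 := ded_36_2 (flp_d L796374) (flp_g L796363) L807997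
theorem L808003 : sm gd N60667 = N61749 := rfl
theorem L808005 : sm ga N61749 = N60668 := ded_12_1 (flp_d L796374) (flp_a L796372) L808003
theorem L808007 : sm gc N60668 = N61750 := rfl
theorem L808009 : sm gb N61750 = N61750 := ded_19_1 (flp_c L808007) L796376 L784328 (flp_b L796376) L808007
theorem L808010 : sm gh N60668 = N61751 := rfl
theorem L808012 : sm gb N61751 = N60669 := ded_25_1 (flp_h L796378) (flp_b L796376) L808010
theorem L808014 : sm ge N60670 = N61752 := rfl
theorem L808016 : sm ga N61752 = N60671 := ded_13_1 (flp_e L796391) L796381 L808014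
theorem L808018 : sm gc N61752 = N60673 := ded_28_1 (flp_e L796411) (flp_c L796383) L808014
theorem L808020 : sm gj N61752 = N60682 := ded_42_2 (flp_e L796481) (flp_j L796387) L808014
theorem L808022 : sm gh N61752 = N60696 := ded_43_2 L796575 (flp_h L796389) L808014
theorem L808024 : sm gf N61752 = N60692 := ded_40_2 (flp_e L796545) L784525 (flp_e L784353) (flp_f L796385) L808014
theorem L808026 : sm gd N60671 = N61753 := rfl
theorem L808028 : sm gb N61753 = N60672 := ded_20_1 (flp_d L796403) (flp_b L796393) L808026
theorem L808030 : sm gf N61753 = N60693 := ded_35_2 (flp_d L796551) (flp_f L796401) L808026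
theorem L808032 : sm gj N61753 = N60683 := ded_37_2 (flp_d L796487) (flp_j L796397) L808026
theorem L808034 : sm gf N60673 = N61754 := rfl
theorem L808036 : sm ga N61754 = N60674 := ded_14_1 (flp_f L796417) (flp_a L796413) L808034
theorem L808038 : sm gc N61754 = N60692 := ded_29_1 (flp_f L808024) L808018 L808034
theorem L808040 : sm gj N61754 = N60696 := ded_46_2 (flp_f L796571) (flp_j L796415) L808034
theorem L808042 : sm gh N61754 = N60682 := ded_47_2 (flp_f L798712) L798708 L808034
theorem L808044 : sm ge N61754 = N60676 := ded_40_1 (flp_f L796437) (flp_e L784403) (flp_f L784373) L796411 L808034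
theorem L808046 : sm gg N60674 = N61755 := rfl
theorem L808048 : sm gb N61755 = N60675 := ded_23_1 (flp_g L796429) (flp_b L796419) L808046
theorem L808050 : sm gc N61755 = N60689 := ded_30_1 L796529 (flp_c L796421) L808046
theorem L808052 : sm ge N61755 = N60677 := ded_41_1 (flp_g L796447) (flp_e L796427) L808046
theorem L808054 : sm gh N61755 = N60681 := ded_50_2 L796479 (flp_h L796425) L808046
theorem L808056 : sm gg N60676 = N61756 := rfl
theorem L808058 : sm ga N61756 = N60677 := ded_15_1 (flp_g L796447) (flp_a L796439) L808056
theorem L808060 : sm gc N61756 = N60688 := ded_30_1 L796521 (flp_c L796441) L808056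
theorem L808062 : sm gh N61756 = N60680 := ded_50_2 L796471 (flp_h L796445) L808056
theorem L808064 : sm ge N60680 = N61757 := rfl
theorem L808066 : sm ga N61757 = N60681 := ded_13_1 (flp_e L796473) L796467 L808064
theorem L808068 : sm gc N61757 = N60695 := ded_28_1 (flp_e L796565) (flp_c L796469) L808064
theorem L808070 : sm gg N61757 = N60682 := ded_41_2 (flp_e L796481) (flp_g L796471) L808064
theorem L808072 : sm gd N60682 = N61758 := rfl
theorem L808074 : sm ga N61758 = N60683 := ded_12_1 (flp_d L796487) (flp_a L796483) L808072
theorem L808076 : sm gf N61758 = N60695 := ded_35_2 (flp_d L798710) L798712 L808072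
theorem L808078 : sm gh N60683 = N61759 := rfl
theorem L808080 : sm gb N61759 = N60684 := ded_25_1 (flp_h L796493) (flp_b L796489) L808078
theorem L808082 : sm gf N61759 = N60689 := ded_47_1 L796531 (flp_f L796491) L808078
theorem L808084 : sm gi N60684 = N61760 := rfl
theorem L808086 : sm gc N61760 = N60687 := ded_33_1 L796517 (flp_c L796495) L808084
theorem L808088 : sm gf N61760 = N60686 := ded_48_1 L796511 (flp_f L796497) L808084
theorem L808090 : sm ga N60685 = N61761 := rfl
theorem L808092 : sm gg N61761 = N60690 := ded_15_2 (flp_a L796533) (flp_g L796501) L808090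
theorem L808094 : sm gi N61761 = N60688 := ded_18_2 (flp_a L796519) (flp_i L796503) L808090
theorem L808096 : sm ge N60685 = N61762 := rfl
theorem L808098 : sm gb N61762 = N60686 := ded_21_1 (flp_e L796505) L796499 L808096
theorem L808100 : sm gg N61762 = N60691 := ded_41_2 (flp_e L796539) (flp_g L796501) L808096
theorem L808102 : sm gi N61762 = N60689 := ded_44_2 (flp_e L796525) (flp_i L796503) L808096
theorem L808104 : sm ge N60688 = N61763 := rfl
theorem L808106 : sm ga N61763 = N60689 := ded_13_1 (flp_e L796525) L796519 L808104
theorem L808108 : sm gg N61763 = N60692 := ded_41_2 (flp_e L796545) (flp_g L796521) L808104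
theorem L808110 : sm gh N61763 = N60695 := ded_43_2 (flp_e L796565) (flp_h L796523) L808104
theorem L808112 : sm ge N60690 = N61764 := rfl
theorem L808114 : sm ga N61764 = N60691 := ded_13_1 (flp_e L796539) L796533 L808112
theorem L808116 : sm gi N61764 = N60692 := ded_44_2 (flp_e L796545) (flp_i L796537) L808112
theorem L808118 : sm gd N60692 = N61765 := rfl
theorem L808120 : sm ga N61765 = N60693 := ded_12_1 (flp_d L796551) (flp_a L796547) L808118
theorem L808122 : sm gj N61765 = N60695 := ded_37_2 (flp_d L798710) L798706 L808118
theorem L808124 : sm ge N61765 = N60694 := ded_34_2 L796561 (flp_e L786589) L786587 L796545 L808118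
theorem L808126 : sm ga N60697 = N61766 := rfl
theorem L808128 : sm gc N61766 = N61009 := ded_11_2 (flp_a L800930) (flp_c L796591) L808126
theorem L808130 : sm gd N61766 = N61192 := ded_12_2 (flp_a L802982) (flp_d L796579) L808126
theorem L808132 : sm gf N61766 = N60699 := ded_14_2 (flp_a L796611) (flp_f L796581) L808126
theorem L808134 : sm gg N61766 = N61054 := ded_15_2 (flp_a L801535) (flp_g L796583) L808126
theorem L808136 : sm gj N61766 = N61184 := ded_16_2 (flp_a L802930) (flp_j L796585) L808126
theorem L808138 : sm gh N61766 = N61522 := ded_17_2 (flp_a L806309) (flp_h L796587) L808126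
theorem L808140 : sm gi N61766 = N60704 := ded_18_2 (flp_a L796701) (flp_i L796589) L808126
theorem L808142 : sm gb N61766 = N61131 := ded_10_2 (flp_a L802373) (flp_b L790031) (flp_a L784597) L796577 L808126
theorem L808144 : sm ge N60697 = N61767 := rfl
theorem L808146 : sm gb N61767 = N60698 := ded_21_1 (flp_e L796593) L796577 L808144
theorem L808148 : sm gc N61767 = N61010 := ded_28_1 (flp_e L800936) (flp_c L796591) L808144
theorem L808150 : sm gg N61767 = N61055 := ded_41_2 (flp_e L801543) (flp_g L796583) L808144
theorem L808152 : sm gj N61767 = N61185 := ded_42_2 (flp_e L802938) (flp_j L796585) L808144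
theorem L808154 : sm gh N61767 = N61523 := ded_43_2 (flp_e L806315) (flp_h L796587) L808144
theorem L808156 : sm gi N61767 = N60705 := ded_44_2 (flp_e L796713) (flp_i L796589) L808144
theorem L808158 : sm gd N61767 = N61661 := ded_34_1 L807418 L795536 (flp_e L790582) (flp_d L796579) L808144
theorem L808160 : sm gf N61767 = N60712 := ded_40_2 (flp_e L796833) L784838 (flp_e L784633) (flp_f L796581) L808144
theorem L808162 : sm ga N60700 = N61768 := rfl
theorem L808164 : sm gc N61768 = N60984 := ded_11_2 (flp_a L800579) (flp_c L796645) L808162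
theorem L808166 : sm gd N61768 = N61131 := ded_12_2 (flp_a L802373) (flp_d L796631) L808162
theorem L808168 : sm ge N61768 = N61668 := ded_13_2 L807467 (flp_e L796633) L808162
theorem L808170 : sm gf N61768 = N60701 := ded_14_2 (flp_a L796647) (flp_f L796635) L808162
theorem L808172 : sm gg N61768 = N61127 := ded_15_2 (flp_a L802339) (flp_g L796637) L808162
theorem L808174 : sm gj N61768 = N60704 := ded_16_2 (flp_a L796701) (flp_j L796639) L808162
theorem L808176 : sm gh N61768 = N60777 := ded_17_2 (flp_a L797763) (flp_h L796641) L808162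
theorem L808178 : sm gi N61768 = N61184 := ded_18_2 (flp_a L802930) (flp_i L796643) L808162
theorem L808180 : sm gb N61768 = N61192 := ded_10_2 (flp_a L802982) (flp_b L790580) (flp_a L784647) L796629 L808162
theorem L808182 : sm ga N60702 = N61769 := rfl
theorem L808184 : sm gc N61769 = N61137 := ded_11_2 (flp_a L802430) (flp_c L796681) L808182
theorem L808186 : sm gd N61769 = N60704 := ded_12_2 (flp_a L796701) (flp_d L796667) L808182
theorem L808188 : sm ge N61769 = N61675 := ded_13_2 L807510 (flp_e L796669) L808182
theorem L808190 : sm gf N61769 = N60703 := ded_14_2 (flp_a L796683) (flp_f L796671) L808182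
theorem L808192 : sm gg N61769 = N61066 := ded_15_2 (flp_a L801680) (flp_g L796673) L808182
theorem L808194 : sm gj N61769 = N61131 := ded_16_2 (flp_a L802373) (flp_j L796675) L808182
theorem L808196 : sm gh N61769 = N60929 := ded_17_2 (flp_a L799824) (flp_h L796677) L808182
theorem L808198 : sm gi N61769 = N61192 := ded_18_2 (flp_a L802982) (flp_i L796679) L808182
theorem L808200 : sm gb N61769 = N61184 := ded_10_2 (flp_a L802930) (flp_b L790522) (flp_a L784681) L796665 L808182
theorem L808202 : sm ge N60704 = N61770 := rfl
theorem L808204 : sm ga N61770 = N60705 := ded_13_1 (flp_e L796713) L796701 L808202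
theorem L808206 : sm gb N61770 = N61193 := ded_21_1 (flp_e L802992) (flp_b L796711) L808202
theorem L808208 : sm gc N61770 = N61021 := ded_28_1 (flp_e L801088) (flp_c L796703) L808202
theorem L808210 : sm gg N61770 = N61072 := ded_41_2 (flp_e L801744) (flp_g L796707) L808202
theorem L808212 : sm gj N61770 = N61668 := ded_42_2 (flp_e L808168) L808174 L808202
theorem L808214 : sm gh N61770 = N60805 := ded_43_2 (flp_e L798139) (flp_h L796709) L808202
theorem L808216 : sm gf N61770 = N60716 := ded_40_2 (flp_e L796901) L784970 (flp_e L784741) (flp_f L796705) L808202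
theorem L808218 : sm gd N60705 = N61771 := rfl
theorem L808220 : sm gb N61771 = N60706 := ded_20_1 (flp_d L796727) (flp_b L796715) L808218
theorem L808222 : sm gf N61771 = N60717 := ded_35_2 (flp_d L796913) (flp_f L796725) L808218
theorem L808224 : sm gg N61771 = N61073 := ded_36_2 (flp_d L801752) (flp_g L796719) L808218
theorem L808226 : sm gj N61771 = N61638 := ded_37_2 L807256 (flp_j L796721) L808218
theorem L808228 : sm gi N61771 = N61661 := ded_39_2 (flp_d L808158) L808156 L808218
theorem L808230 : sm gc N61771 = N61663 := ded_27_1 L807430 L801108 (flp_d L801096) (flp_c L796717) L808218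
theorem L808232 : sm ge N61771 = N61647 := ded_34_2 L807316 (flp_e L796669) L796667 L796713 L808218
theorem L808234 : sm gh N60706 = N61772 := rfl
theorem L808236 : sm ga N61772 = N61161 := ded_17_1 L802718 (flp_a L796729) L808234
theorem L808238 : sm gc N61772 = N60707 := ded_32_1 (flp_h L796743) (flp_c L796739) L808234
theorem L808240 : sm ge N61772 = N61645 := ded_43_1 L807302 (flp_e L796741) L808234
theorem L808242 : sm gf N61772 = N60718 := ded_47_1 (flp_h L796925) (flp_f L796731) L808234
theorem L808244 : sm gg N61772 = N61074 := ded_50_1 (flp_h L801762) (flp_g L796733) L808234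
theorem L808246 : sm gj N61772 = N61211 := ded_52_1 L803198 (flp_j L796735) L808234
theorem L808248 : sm gd N61772 = N60807 := ded_38_1 (flp_h L798159) (flp_d L785976) (flp_h L784733) L796727 L808234
theorem L808250 : sm gi N60707 = N61773 := rfl
theorem L808252 : sm ga N61773 = N61158 := ded_18_1 L802680 (flp_a L796745) L808250
theorem L808254 : sm gb N61773 = N61258 := ded_26_1 L803743 (flp_b L796747) L808250
theorem L808256 : sm gd N61773 = N60708 := ded_39_1 (flp_i L796759) (flp_d L796757) L808250
theorem L808258 : sm ge N61773 = N61641 := ded_44_1 L807281 (flp_e L796749) L808250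
theorem L808260 : sm gf N61773 = N60720 := ded_48_1 (flp_i L796957) (flp_f L796751) L808250
theorem L808262 : sm gg N61773 = N61076 := ded_51_1 (flp_i L801789) (flp_g L796753) L808250
theorem L808264 : sm gj N61773 = N60994 := ded_53_1 L800729 (flp_j L796755) L808250
theorem L808266 : sm gh N61773 = N61650 := ded_54_1 L807341 L795466 (flp_i L784761) L796743 L808250
theorem L808268 : sm ge N60711 = N61774 := rfl
theorem L808270 : sm ga N61774 = N60712 := ded_13_1 (flp_e L796833) L796815 L808268
theorem L808272 : sm gb N61774 = N61508 := ded_21_1 (flp_e L806172) (flp_b L796831) L808268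
theorem L808274 : sm gc N61774 = N61133 := ded_28_1 (flp_e L802401) (flp_c L796817) L808268
theorem L808276 : sm gg N61774 = N61677 := ded_41_2 (flp_e L807522) (flp_g L796823) L808268
theorem L808278 : sm gj N61774 = N61667 := ded_42_2 (flp_e L807457) (flp_j L796825) L808268
theorem L808280 : sm gh N61774 = N61747 := ded_43_2 (flp_e L807991) (flp_h L796827) L808268
theorem L808282 : sm gi N61774 = N60716 := ded_44_2 (flp_e L796901) (flp_i L796829) L808268
theorem L808284 : sm gd N61774 = N61660 := ded_34_1 (flp_e L807410) L795512 (flp_e L793914) (flp_d L796819) L808268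
theorem L808286 : sm ga N60713 = N61775 := rfl
theorem L808288 : sm gc N61775 = N61192 := ded_11_2 (flp_a L802982) (flp_c L796865) L808286
theorem L808290 : sm gd N61775 = N61058 := ded_12_2 (flp_a L801580) (flp_d L796851) L808286
theorem L808292 : sm ge N61775 = N61681 := ded_13_2 L807552 (flp_e L796853) L808286
theorem L808294 : sm gf N61775 = N61105 := ded_14_2 (flp_a L802093) (flp_f L796855) L808286
theorem L808296 : sm gg N61775 = N61059 := ded_15_2 (flp_a L801590) (flp_g L796857) L808286
theorem L808298 : sm gj N61775 = N60714 := ded_16_2 (flp_a L796867) (flp_j L796859) L808286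
theorem L808300 : sm gh N61775 = N60966 := ded_17_2 (flp_a L800329) (flp_h L796861) L808286
theorem L808302 : sm gi N61775 = N61137 := ded_18_2 (flp_a L802430) (flp_i L796863) L808286
theorem L808304 : sm gb N61775 = N61013 := ded_10_2 (flp_a L800980) (flp_b L788794) (flp_a L784916) L796849 L808286
theorem L808306 : sm ge N60714 = N61776 := rfl
theorem L808308 : sm ga N61776 = N60715 := ded_13_1 (flp_e L796883) L796867 L808306
theorem L808310 : sm gb N61776 = N61676 := ded_21_1 (flp_e L807514) (flp_b L796881) L808306
theorem L808312 : sm gc N61776 = N61193 := ded_28_1 (flp_e L802992) (flp_c L796869) L808306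
theorem L808314 : sm gg N61776 = N60716 := ded_41_2 (flp_e L796901) (flp_g L796875) L808306
theorem L808316 : sm gj N61776 = N61681 := ded_42_2 (flp_e L808292) L808298 L808306
theorem L808318 : sm gh N61776 = N60968 := ded_43_2 (flp_e L800349) (flp_h L796877) L808306
theorem L808320 : sm gi N61776 = N61677 := ded_44_2 (flp_e L807522) (flp_i L796879) L808306
theorem L808322 : sm gd N61776 = N61679 := ded_34_1 (flp_e L807536) (flp_d L801114) L801116 (flp_d L796871) L808306
theorem L808324 : sm gf N61776 = N61678 := ded_40_2 (flp_e L807528) (flp_f L796783) L796781 (flp_f L796873) L808306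
theorem L808326 : sm gd N60716 = N61777 := rfl
theorem L808328 : sm ga N61777 = N60717 := ded_12_1 (flp_d L796913) (flp_a L796903) L808326
theorem L808330 : sm gb N61777 = N61165 := ded_20_1 L802774 (flp_b L796905) L808326
theorem L808332 : sm gg N61777 = N61679 := ded_36_2 (flp_d L808322) L808314 L808326
theorem L808334 : sm gj N61777 = N61637 := ded_37_2 L807250 (flp_j L796909) L808326
theorem L808336 : sm gi N61777 = N61660 := ded_39_2 (flp_d L808284) L808282 L808326
theorem L808338 : sm ge N61777 = N61152 := ded_34_2 L802599 L795346 (flp_d L784968) L796901 L808326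
theorem L808340 : sm gc N60717 = N61778 := rfl
theorem L808342 : sm ge N61778 = N61060 := ded_28_2 L801612 (flp_e L796923) L808340
theorem L808344 : sm gf N61778 = N61663 := ded_29_2 (flp_c L808230) L808222 L808340
theorem L808346 : sm gg N61778 = N61018 := ded_30_2 L801048 (flp_g L796917) L808340
theorem L808348 : sm gj N61778 = N61128 := ded_31_2 L802353 (flp_j L796919) L808340
theorem L808350 : sm gi N61778 = N61148 := ded_33_2 L802561 (flp_i L796921) L808340
theorem L808352 : sm gb N61778 = N60719 := ded_19_1 (flp_c L796939) L785006 (flp_c L784998) (flp_b L796915) L808340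
theorem L808354 : sm gd N61778 = N61191 := ded_27_2 L802978 (flp_d L790616) (flp_c L784982) L796913 L808340
theorem L808356 : sm gh N61282 = N61778 := ded_43_0 L808342 L801608 L804009
theorem L808358 : sm gh N60717 = N61779 := rfl
theorem L808360 : sm gb N61779 = N60718 := ded_25_1 (flp_h L796925) (flp_b L796915) L808358
theorem L808362 : sm gc N61779 = N61282 := ded_32_1 L808356 (flp_c L808340) L808358
theorem L808364 : sm ge N61779 = N61151 := ded_43_1 L802593 (flp_e L796923) L808358
theorem L808366 : sm gg N61779 = N61227 := ded_50_1 L803386 (flp_g L796917) L808358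
theorem L808368 : sm gj N61779 = N61210 := ded_52_1 L803186 (flp_j L796919) L808358
theorem L808370 : sm gd N61779 = N60971 := ded_38_1 (flp_h L800377) (flp_d L788202) (flp_h L784986) L796913 L808358
theorem L808372 : sm gi N60718 = N61780 := rfl
theorem L808374 : sm ga N61780 = N61157 := ded_18_1 L802668 (flp_a L796927) L808372
theorem L808376 : sm gc N61780 = N60720 := ded_33_1 (flp_i L796957) (flp_c L796929) L808372
theorem L808378 : sm gd N61780 = N60972 := ded_39_1 (flp_i L800385) (flp_d L796937) L808372
theorem L808380 : sm ge N61780 = N60816 := ded_44_1 L798307 (flp_e L796931) L808372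
theorem L808382 : sm gg N61780 = N60821 := ded_51_1 L798382 (flp_g L796933) L808372
theorem L808384 : sm gj N61780 = N60993 := ded_53_1 L800719 (flp_j L796935) L808372
theorem L808386 : sm gh N61780 = N61649 := ded_54_1 L807336 L795461 (flp_i L784996) L796925 L808372
theorem L808388 : sm gb N60721 = N61781 := rfl
theorem L808390 : sm gd N61781 = N61448 := ded_20_2 (flp_b L805629) (flp_d L796987) L808388
theorem L808392 : sm gf N61781 = N60723 := ded_22_2 (flp_b L797006) (flp_f L796977) L808388
theorem L808394 : sm gg N61781 = N61167 := ded_23_2 (flp_b L802788) (flp_g L796979) L808388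
theorem L808396 : sm gj N61781 = N60736 := ded_24_2 (flp_b L797189) (flp_j L796981) L808388
theorem L808398 : sm gh N61781 = N60748 := ded_25_2 (flp_b L797369) (flp_h L796983) L808388
theorem L808400 : sm gi N61781 = N60839 := ded_26_2 (flp_b L798656) (flp_i L796985) L808388
theorem L808402 : sm gc N61781 = N61206 := ded_19_2 (flp_b L803138) (flp_c L790810) (flp_b L785053) L796973 L808388
theorem L808404 : sm ge N60721 = N61782 := rfl
theorem L808406 : sm ga N61782 = N60886 := ded_13_1 (flp_e L799257) (flp_a L796975) L808404
theorem L808408 : sm gc N61782 = N60722 := ded_28_1 (flp_e L796989) L796973 L808404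
theorem L808410 : sm gg N61782 = N61168 := ded_41_2 (flp_e L802796) (flp_g L796979) L808404
theorem L808412 : sm gj N61782 = N60737 := ded_42_2 (flp_e L797201) (flp_j L796981) L808404
theorem L808414 : sm gh N61782 = N60749 := ded_43_2 (flp_e L797381) (flp_h L796983) L808404
theorem L808416 : sm gi N61782 = N60840 := ded_44_2 (flp_e L798668) (flp_i L796985) L808404
theorem L808418 : sm gf N61782 = N60862 := ded_40_2 (flp_e L798989) L786836 (flp_e L785069) (flp_f L796977) L808404
theorem L808420 : sm ga N60723 = N61783 := rfl
theorem L808422 : sm gc N61783 = N61208 := ded_11_2 (flp_a L803160) (flp_c L797020) L808420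
theorem L808424 : sm gd N61783 = N61761 := ded_12_2 (flp_a L808090) (flp_d L797008) L808420
theorem L808426 : sm ge N61783 = N60863 := ded_13_2 (flp_a L799001) (flp_e L797010) L808420
theorem L808428 : sm gg N61783 = N60832 := ded_15_2 (flp_a L798546) (flp_g L797012) L808420
theorem L808430 : sm gj N61783 = N60738 := ded_16_2 (flp_a L797215) (flp_j L797014) L808420
theorem L808432 : sm gh N61783 = N60750 := ded_17_2 (flp_a L797393) (flp_h L797016) L808420
theorem L808434 : sm gi N61783 = N60841 := ded_18_2 (flp_a L798682) (flp_i L797018) L808420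
theorem L808436 : sm gb N61783 = N60887 := ded_10_2 (flp_a L799269) (flp_b L787088) (flp_a L785067) L797006 L808420
theorem L808438 : sm gb N60724 = N61784 := rfl
theorem L808440 : sm gd N61784 = N60774 := ded_20_2 (flp_b L797723) (flp_d L797036) L808438
theorem L808442 : sm gf N61784 = N61091 := ded_22_2 (flp_b L801970) (flp_f L797026) L808438
theorem L808444 : sm gg N61784 = N60767 := ded_23_2 (flp_b L797627) (flp_g L797028) L808438
theorem L808446 : sm gj N61784 = N61276 := ded_24_2 (flp_b L803943) (flp_j L797030) L808438
theorem L808448 : sm gh N61784 = N61094 := ded_25_2 (flp_b L801991) (flp_h L797032) L808438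
theorem L808450 : sm gi N61784 = N61517 := ded_26_2 (flp_b L806251) (flp_i L797034) L808438
theorem L808452 : sm gc N61784 = N60732 := ded_19_2 (flp_b L797143) (flp_c L785158) (flp_b L785085) L797022 L808438
theorem L808454 : sm ge N60724 = N61785 := rfl
theorem L808456 : sm ga N61785 = N61419 := ded_13_1 (flp_e L805387) (flp_a L797024) L808454
theorem L808458 : sm gc N61785 = N60725 := ded_28_1 (flp_e L797038) L797022 L808454
theorem L808460 : sm gg N61785 = N60768 := ded_41_2 (flp_e L797641) (flp_g L797028) L808454
theorem L808462 : sm gj N61785 = N61277 := ded_42_2 (flp_e L803953) (flp_j L797030) L808454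
theorem L808464 : sm gh N61785 = N61095 := ded_43_2 (flp_e L802001) (flp_h L797032) L808454
theorem L808466 : sm gi N61785 = N61518 := ded_44_2 (flp_e L806261) (flp_i L797034) L808454
theorem L808468 : sm gf N60725 = N61786 := rfl
theorem L808470 : sm ga N61786 = N61420 := ded_14_1 (flp_f L805397) (flp_a L797040) L808468
theorem L808472 : sm gb N61786 = N60734 := ded_22_1 (flp_f L797167) (flp_b L797042) L808468
theorem L808474 : sm gd N61786 = N60727 := ded_35_1 (flp_f L797069) (flp_d L797052) L808468
theorem L808476 : sm gj N61786 = N60879 := ded_46_2 L799181 (flp_j L797046) L808468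
theorem L808478 : sm gh N61786 = N61096 := ded_47_2 (flp_f L802009) (flp_h L797048) L808468
theorem L808480 : sm gi N61786 = N61494 := ded_48_2 L806018 (flp_i L797050) L808468
theorem L808482 : sm ge N61786 = N61093 := ded_40_1 (flp_f L801986) (flp_e L789697) (flp_f L785087) L797038 L808468
theorem L808484 : sm gd N60726 = N61787 := rfl
theorem L808486 : sm ga N61787 = N61384 := ded_12_1 (flp_d L805020) (flp_a L797056) L808484
theorem L808488 : sm gb N61787 = N60869 := ded_20_1 (flp_d L799073) (flp_b L797058) L808484
theorem L808490 : sm gg N61787 = N60808 := ded_36_2 (flp_d L798171) (flp_g L797062) L808484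
theorem L808492 : sm gj N61787 = N61301 := ded_37_2 (flp_d L804190) (flp_j L797064) L808484
theorem L808494 : sm gi N61787 = N61490 := ded_39_2 (flp_d L805978) (flp_i L797067) L808484
theorem L808496 : sm ge N61787 = N60810 := ded_34_2 (flp_d L798202) (flp_e L786032) (flp_d L785111) L797054 L808484
theorem L808498 : sm gh N61339 = N61787 := ded_50_0 L808490 (flp_h L798185) L804568
theorem L808500 : sm gf N60726 = N61788 := rfl
theorem L808502 : sm ga N61788 = N61089 := ded_14_1 L801950 (flp_a L797056) L808500
theorem L808504 : sm gb N61788 = N60858 := ded_22_1 L798944 (flp_b L797058) L808500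
theorem L808506 : sm gc N61788 = N60727 := ded_29_1 (flp_f L797069) (flp_c L797060) L808500
theorem L808508 : sm gj N61788 = N60735 := ded_46_2 L797187 (flp_j L797064) L808500
theorem L808510 : sm gh N61788 = N61788 := ded_47_2 (flp_f L808500) L797066 L808500
theorem L808511 : sm gi N61788 = N61317 := ded_48_2 L804371 (flp_i L797067) L808500
theorem L808513 : sm ge N61788 = N61788 := ded_40_1 (flp_f L808500) (flp_e L797054) L785101 L797054 L808500
theorem L808514 : sm gg N61788 = N60850 := ded_45_2 (flp_f L798826) L786741 (flp_f L785999) (flp_g L797062) L808500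
theorem L808516 : sm gg N60727 = N61789 := rfl
theorem L808518 : sm ga N61789 = N61088 := ded_15_1 L801938 (flp_a L797071) L808516
theorem L808520 : sm gb N61789 = N60735 := ded_23_1 (flp_g L797177) (flp_b L797073) L808516
theorem L808522 : sm gc N61789 = N60850 := ded_30_1 (flp_g L808514) L808506 L808516
theorem L808524 : sm ge N61789 = N61789 := ded_41_1 (flp_g L808516) L797080 L808516
theorem L808525 : sm gh N61789 = N61789 := ded_50_2 (flp_g L808516) L797077 L808516
theorem L808526 : sm gi N61789 = N61316 := ded_51_2 L804358 (flp_i L797078) L808516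
theorem L808528 : sm gf N61789 = N60809 := ded_45_1 (flp_g L798187) (flp_f L786001) (flp_g L785119) L797069 L808516
theorem L808530 : sm gj N61789 = N60858 := ded_49_2 (flp_g L798934) L786810 L787005 (flp_j L797075) L808516
theorem L808532 : sm gb N60728 = N61790 := rfl
theorem L808534 : sm gd N61790 = N60753 := ded_20_2 (flp_b L797436) (flp_d L797095) L808532
theorem L808536 : sm gf N61790 = N61084 := ded_22_2 (flp_b L801892) (flp_f L797085) L808532
theorem L808538 : sm gg N61790 = N61467 := ded_23_2 L805782 (flp_g L797087) L808532
theorem L808540 : sm gj N61790 = N61731 := ded_24_2 (flp_b L807880) (flp_j L797089) L808532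
theorem L808542 : sm gh N61790 = N60732 := ded_25_2 (flp_b L797143) (flp_h L797091) L808532
theorem L808544 : sm gi N61790 = N61319 := ded_26_2 (flp_b L804391) (flp_i L797093) L808532
theorem L808546 : sm gc N61790 = N61094 := ded_19_2 (flp_b L801991) (flp_c L789704) (flp_b L785130) L797081 L808532
theorem L808548 : sm ge N60728 = N61791 := rfl
theorem L808550 : sm ga N61791 = N61560 := ded_13_1 (flp_e L806656) (flp_a L797083) L808548
theorem L808552 : sm gc N61791 = N60729 := ded_28_1 (flp_e L797097) L797081 L808548
theorem L808554 : sm gg N61791 = N61468 := ded_41_2 (flp_e L805792) (flp_g L797087) L808548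
theorem L808556 : sm gj N61791 = N61732 := ded_42_2 (flp_e L807888) (flp_j L797089) L808548
theorem L808558 : sm gh N61791 = N60733 := ded_43_2 (flp_e L797153) (flp_h L797091) L808548
theorem L808560 : sm gi N61791 = N61320 := ded_44_2 (flp_e L804401) (flp_i L797093) L808548
theorem L808562 : sm gf N60729 = N61792 := rfl
theorem L808564 : sm ga N61792 = N61561 := ded_14_1 (flp_f L806664) (flp_a L797099) L808562
theorem L808566 : sm gb N61792 = N61096 := ded_22_1 (flp_f L802009) (flp_b L797101) L808562
theorem L808568 : sm gd N61792 = N61792 := ded_35_1 (flp_f L808562) L797111 L808562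
theorem L808569 : sm gj N61792 = N61733 := ded_46_2 (flp_f L807898) (flp_j L797105) L808562
theorem L808571 : sm gh N61792 = N60734 := ded_47_2 (flp_f L797167) (flp_h L797107) L808562
theorem L808573 : sm gi N61792 = N61321 := ded_48_2 (flp_f L804409) (flp_i L797109) L808562
theorem L808575 : sm ge N61792 = N61086 := ded_40_1 (flp_f L801910) (flp_e L789646) (flp_f L785132) L797097 L808562
theorem L808577 : sm gb N60730 = N61793 := rfl
theorem L808579 : sm gd N61793 = N60736 := ded_20_2 (flp_b L797189) (flp_d L797126) L808577
theorem L808581 : sm gf N61793 = N60732 := ded_22_2 (flp_b L797143) (flp_f L797116) L808577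
theorem L808583 : sm gg N61793 = N61243 := ded_23_2 (flp_b L803561) (flp_g L797118) L808577
theorem L808585 : sm gj N61793 = N61448 := ded_24_2 (flp_b L805629) (flp_j L797120) L808577
theorem L808587 : sm gh N61793 = N61084 := ded_25_2 (flp_b L801892) (flp_h L797122) L808577
theorem L808589 : sm gi N61793 = N61445 := ded_26_2 (flp_b L805598) (flp_i L797124) L808577
theorem L808591 : sm gc N61793 = N61091 := ded_19_2 (flp_b L801970) (flp_c L789689) (flp_b L785146) L797112 L808577
theorem L808593 : sm ge N60730 = N61794 := rfl
theorem L808595 : sm ga N61794 = N61333 := ded_13_1 (flp_e L804532) (flp_a L797114) L808593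
theorem L808597 : sm gc N61794 = N60731 := ded_28_1 (flp_e L797128) L797112 L808593
theorem L808599 : sm gg N61794 = N61244 := ded_41_2 (flp_e L803573) (flp_g L797118) L808593
theorem L808601 : sm gj N61794 = N61449 := ded_42_2 (flp_e L805637) (flp_j L797120) L808593
theorem L808603 : sm gh N61794 = N61085 := ded_43_2 (flp_e L801902) (flp_h L797122) L808593
theorem L808605 : sm gi N61794 = N61446 := ded_44_2 (flp_e L805608) (flp_i L797124) L808593
theorem L808607 : sm gf N60731 = N61795 := rfl
theorem L808609 : sm ga N61795 = N61334 := ded_14_1 (flp_f L804540) (flp_a L797130) L808607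
theorem L808611 : sm gb N61795 = N61093 := ded_22_1 (flp_f L801986) (flp_b L797132) L808607
theorem L808613 : sm gd N61795 = N61795 := ded_35_1 (flp_f L808607) L797142 L808607
theorem L808614 : sm gj N61795 = N61450 := ded_46_2 (flp_f L805645) (flp_j L797136) L808607
theorem L808616 : sm gh N61795 = N61086 := ded_47_2 (flp_f L801910) (flp_h L797138) L808607
theorem L808618 : sm gi N61795 = N61447 := ded_48_2 (flp_f L805618) (flp_i L797140) L808607
theorem L808620 : sm ge N61795 = N60734 := ded_40_1 (flp_f L797167) (flp_e L785170) (flp_f L785148) L797128 L808607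
theorem L808622 : sm ga N60732 = N61796 := rfl
theorem L808624 : sm gd N61796 = N60738 := ded_12_2 (flp_a L797215) (flp_d L797145) L808622
theorem L808626 : sm gg N61796 = N61509 := ded_15_2 (flp_a L806180) (flp_g L797147) L808622
theorem L808628 : sm gj N61796 = N61761 := ded_16_2 (flp_a L808090) (flp_j L797149) L808622
theorem L808630 : sm gi N61796 = N61519 := ded_18_2 (flp_a L806273) (flp_i L797151) L808622
theorem L808632 : sm gb N61796 = N61562 := ded_10_2 (flp_a L806669) (flp_b L794659) (flp_a L785160) L797143 L808622
theorem L808634 : sm ge N60732 = N61797 := rfl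
theorem L808636 : sm gb N61797 = N60733 := ded_21_1 (flp_e L797153) L797143 L808634
theorem L808638 : sm gg N61797 = N61510 := ded_41_2 (flp_e L806192) (flp_g L797147) L808634
theorem L808640 : sm gj N61797 = N61762 := ded_42_2 (flp_e L808096) (flp_j L797149) L808634
theorem L808642 : sm gi N61797 = N61520 := ded_44_2 (flp_e L806285) (flp_i L797151) L808634
theorem L808644 : sm gd N61797 = N60877 := ded_34_1 (flp_e L799155) L786981 (flp_e L785223) (flp_d L797145) L808634
theorem L808646 : sm gf N60733 = N61798 := rfl
theorem L808648 : sm ga N61798 = N61564 := ded_14_1 (flp_f L806687) (flp_a L797155) L808646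
theorem L808650 : sm gc N61798 = N60734 := ded_29_1 (flp_f L797167) (flp_c L797157) L808646
theorem L808652 : sm gd N61798 = N60878 := ded_35_1 (flp_f L799163) (flp_d L797165) L808646
theorem L808654 : sm gj N61798 = N61760 := ded_46_2 L808088 (flp_j L797161) L808646
theorem L808656 : sm gi N61798 = N61521 := ded_48_2 (flp_f L806297) (flp_i L797163) L808646
theorem L808658 : sm gg N60734 = N61799 := rfl
theorem L808660 : sm ga N61799 = N61487 := ded_15_1 L805958 (flp_a L797169) L808658
theorem L808662 : sm gd N61799 = N60735 := ded_36_1 (flp_g L797177) (flp_d L797171) L808658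
theorem L808664 : sm gi N61799 = N61499 := ded_51_2 L806066 (flp_i L797175) L808658
theorem L808666 : sm gf N61799 = N61301 := ded_45_1 L804194 L791992 (flp_g L785174) L797167 L808658
theorem L808668 : sm ga N60736 = N61800 := rfl
theorem L808670 : sm gc N61800 = N61212 := ded_11_2 (flp_a L803202) (flp_c L797199) L808668
theorem L808672 : sm gf N61800 = N60738 := ded_14_2 (flp_a L797215) (flp_f L797191) L808668
theorem L808674 : sm gg N61800 = N61250 := ded_15_2 (flp_a L803650) (flp_g L797193) L808668
theorem L808676 : sm gh N61800 = N60759 := ded_17_2 (flp_a L797509) (flp_h L797195) L808668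
theorem L808678 : sm gi N61800 = N61522 := ded_18_2 (flp_a L806309) (flp_i L797197) L808668
theorem L808680 : sm gb N61800 = N61343 := ded_10_2 (flp_a L804591) (flp_b L792357) (flp_a L785196) L797189 L808668
theorem L808682 : sm ge N60736 = N61801 := rfl
theorem L808684 : sm gb N61801 = N60737 := ded_21_1 (flp_e L797201) L797189 L808682
theorem L808686 : sm gc N61801 = N61213 := ded_28_1 (flp_e L803210) (flp_c L797199) L808682
theorem L808688 : sm gg N61801 = N61251 := ded_41_2 (flp_e L803658) (flp_g L797193) L808682
theorem L808690 : sm gh N61801 = N60760 := ded_43_2 (flp_e L797523) (flp_h L797195) L808682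
theorem L808692 : sm gi N61801 = N61523 := ded_44_2 (flp_e L806315) (flp_i L797197) L808682
theorem L808694 : sm gf N61801 = N60881 := ded_40_2 (flp_e L799195) L787019 (flp_e L785223) (flp_f L797191) L808682
theorem L808696 : sm gd N60737 = N61802 := rfl
theorem L808698 : sm ga N61802 = N61345 := ded_12_1 (flp_d L804615) (flp_a L797203) L808696
theorem L808700 : sm gf N61802 = N60882 := ded_35_2 (flp_d L799207) (flp_f L797213) L808696
theorem L808702 : sm gg N61802 = N61252 := ded_36_2 (flp_d L803666) (flp_g L797207) L808696
theorem L808704 : sm gi N61802 = N61524 := ded_39_2 (flp_d L806321) (flp_i L797211) L808696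
theorem L808706 : sm gc N61802 = N61802 := ded_27_1 (flp_d L808696) L797205 L785218 (flp_c L797205) L808696
theorem L808707 : sm ga N60739 = N61803 := rfl
theorem L808709 : sm gc N61803 = N61217 := ded_11_2 (flp_a L803255) (flp_c L797245) L808707
theorem L808711 : sm gd N61803 = N61603 := ded_12_2 (flp_a L806999) (flp_d L797231) L808707
theorem L808713 : sm ge N61803 = N60887 := ded_13_2 (flp_a L799269) (flp_e L797233) L808707
theorem L808715 : sm gf N61803 = N61670 := ded_14_2 (flp_a L807479) (flp_f L797235) L808707
theorem L808717 : sm gg N61803 = N60750 := ded_15_2 (flp_a L797393) (flp_g L797237) L808707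
theorem L808719 : sm gj N61803 = N60831 := ded_16_2 (flp_a L798530) (flp_j L797239) L808707
theorem L808721 : sm gh N61803 = N60832 := ded_17_2 (flp_a L798546) (flp_h L797241) L808707
theorem L808723 : sm gi N61803 = N60766 := ded_18_2 (flp_a L797609) (flp_i L797243) L808707
theorem L808725 : sm gb N61803 = N60863 := ded_10_2 (flp_a L799001) (flp_b L786857) (flp_a L785235) L797229 L808707
theorem L808727 : sm gb N60740 = N61804 := rfl
theorem L808729 : sm gd N61804 = N61731 := ded_20_2 (flp_b L807880) (flp_d L797261) L808727
theorem L808731 : sm gf N61804 = N61312 := ded_22_2 (flp_b L804301) (flp_f L797251) L808727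
theorem L808733 : sm gg N61804 = N61569 := ded_23_2 (flp_b L806737) (flp_g L797253) L808727
theorem L808735 : sm gj N61804 = N60753 := ded_24_2 (flp_b L797436) (flp_j L797255) L808727
theorem L808737 : sm gh N61804 = N60742 := ded_25_2 (flp_b L797278) (flp_h L797257) L808727
theorem L808739 : sm gi N61804 = N61559 := ded_26_2 (flp_b L806648) (flp_i L797259) L808727
theorem L808741 : sm gc N61804 = N61528 := ded_19_2 (flp_b L806352) (flp_c L794314) (flp_b L785255) L797247 L808727
theorem L808743 : sm ge N60740 = N61805 := rfl
theorem L808745 : sm ga N61805 = N61320 := ded_13_1 (flp_e L804401) (flp_a L797249) L808743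
theorem L808747 : sm gc N61805 = N60741 := ded_28_1 (flp_e L797263) L797247 L808743
theorem L808749 : sm gg N61805 = N61570 := ded_41_2 (flp_e L806749) (flp_g L797253) L808743
theorem L808751 : sm gj N61805 = N60754 := ded_42_2 (flp_e L797446) (flp_j L797255) L808743
theorem L808753 : sm gh N61805 = N60743 := ded_43_2 (flp_e L797292) (flp_h L797257) L808743
theorem L808755 : sm gi N61805 = N61560 := ded_44_2 (flp_e L806656) (flp_i L797259) L808743
theorem L808757 : sm gf N60741 = N61806 := rfl
theorem L808759 : sm ga N61806 = N61321 := ded_14_1 (flp_f L804409) (flp_a L797265) L808757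
theorem L808761 : sm gb N61806 = N61266 := ded_22_1 L803829 (flp_b L797267) L808757
theorem L808763 : sm gd N61806 = N61806 := ded_35_1 (flp_f L808757) L797277 L808757
theorem L808764 : sm gj N61806 = N60755 := ded_46_2 (flp_f L797456) (flp_j L797271) L808757
theorem L808766 : sm gh N61806 = N60744 := ded_47_2 (flp_f L797306) (flp_h L797273) L808757
theorem L808768 : sm gi N61806 = N61561 := ded_48_2 (flp_f L806664) (flp_i L797275) L808757
theorem L808770 : sm ge N61806 = N61314 := ded_40_1 (flp_f L804323) (flp_e L792129) (flp_f L785257) L797263 L808757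
theorem L808772 : sm ga N60742 = N61807 := rfl
theorem L808774 : sm gc N61807 = N61534 := ded_11_2 (flp_a L806418) (flp_c L797290) L808772
theorem L808776 : sm gd N61807 = N60750 := ded_12_2 (flp_a L797393) (flp_d L797280) L808772
theorem L808778 : sm gf N61807 = N61525 := ded_14_2 (flp_a L806328) (flp_f L797282) L808772
theorem L808780 : sm gg N61807 = N61603 := ded_15_2 (flp_a L806999) (flp_g L797284) L808772
theorem L808782 : sm gj N61807 = N60756 := ded_16_2 (flp_a L797469) (flp_j L797286) L808772
theorem L808784 : sm gi N61807 = N60770 := ded_18_2 (flp_a L797669) (flp_i L797288) L808772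
theorem L808786 : sm gb N61807 = N61742 := ded_10_2 (flp_a L807955) (flp_b L796292) (flp_a L785269) L797278 L808772
theorem L808788 : sm ge N60742 = N61808 := rfl
theorem L808790 : sm gb N61808 = N60743 := ded_21_1 (flp_e L797292) L797278 L808788
theorem L808792 : sm gc N61808 = N61535 := ded_28_1 (flp_e L806430) (flp_c L797290) L808788
theorem L808794 : sm gg N61808 = N61604 := ded_41_2 (flp_e L807005) (flp_g L797284) L808788
theorem L808796 : sm gj N61808 = N60757 := ded_42_2 (flp_e L797483) (flp_j L797286) L808788
theorem L808798 : sm gi N61808 = N60771 := ded_44_2 (flp_e L797683) (flp_i L797288) L808788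
theorem L808800 : sm gd N61808 = N60893 := ded_34_1 (flp_e L799349) L787159 (flp_e L785354) (flp_d L797280) L808788
theorem L808802 : sm gf N60743 = N61809 := rfl
theorem L808804 : sm ga N61809 = N61554 := ded_14_1 L806605 (flp_a L797294) L808802
theorem L808806 : sm gc N61809 = N60744 := ded_29_1 (flp_f L797306) (flp_c L797296) L808802
theorem L808808 : sm gd N61809 = N60894 := ded_35_1 (flp_f L799357) (flp_d L797304) L808802
theorem L808810 : sm gj N61809 = N60758 := ded_46_2 (flp_f L797495) (flp_j L797300) L808802
theorem L808812 : sm gi N61809 = N60772 := ded_48_2 (flp_f L797697) (flp_i L797302) L808802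
theorem L808814 : sm ge N61809 = N61527 := ded_40_1 (flp_f L806342) (flp_e L794298) (flp_f L785271) L797292 L808802
theorem L808816 : sm gg N60744 = N61810 := rfl
theorem L808818 : sm ga N61810 = N60869 := ded_15_1 L799075 (flp_a L797308) L808816
theorem L808820 : sm gb N61810 = N61265 := ded_23_1 L803817 (flp_b L797310) L808816
theorem L808822 : sm gd N61810 = N60745 := ded_36_1 (flp_g L797320) (flp_d L797312) L808816
theorem L808824 : sm ge N61810 = N61315 := ded_41_1 L804341 (flp_e L797318) L808816
theorem L808826 : sm gi N61810 = N60773 := ded_51_2 (flp_g L797709) (flp_i L797316) L808816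
theorem L808828 : sm gf N61810 = N61606 := ded_45_1 (flp_g L807021) (flp_f L795037) (flp_g L785287) L797306 L808816
theorem L808830 : sm gj N61810 = N61087 := ded_49_2 L801920 L793511 (flp_g L785435) (flp_j L797314) L808816
theorem L808832 : sm gb N60746 = N61811 := rfl
theorem L808834 : sm gd N61811 = N61517 := ded_20_2 (flp_b L806251) (flp_d L797351) L808832
theorem L808836 : sm gf N61811 = N61120 := ded_22_2 (flp_b L802289) (flp_f L797341) L808832
theorem L808838 : sm gg N61811 = N60748 := ded_23_2 (flp_b L797369) (flp_g L797343) L808832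
theorem L808840 : sm gj N61811 = N61256 := ded_24_2 (flp_b L803719) (flp_j L797345) L808832
theorem L808842 : sm gh N61811 = N61167 := ded_25_2 (flp_b L802788) (flp_h L797347) L808832
theorem L808844 : sm gi N61811 = N60774 := ded_26_2 (flp_b L797723) (flp_i L797349) L808832
theorem L808846 : sm gc N61811 = N60992 := ded_19_2 (flp_b L800703) (flp_c L788518) (flp_b L785314) L797337 L808832
theorem L808848 : sm ge N60746 = N61812 := rfl
theorem L808850 : sm ga N61812 = N61359 := ded_13_1 (flp_e L804756) (flp_a L797339) L808848
theorem L808852 : sm gc N61812 = N60747 := ded_28_1 (flp_e L797353) L797337 L808848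
theorem L808854 : sm gg N61812 = N60749 := ded_41_2 (flp_e L797381) (flp_g L797343) L808848
theorem L808856 : sm gj N61812 = N61257 := ded_42_2 (flp_e L803727) (flp_j L797345) L808848
theorem L808858 : sm gh N61812 = N61168 := ded_43_2 (flp_e L802796) (flp_h L797347) L808848
theorem L808860 : sm gi N61812 = N60775 := ded_44_2 (flp_e L797735) (flp_i L797349) L808848
theorem L808862 : sm gf N60747 = N61813 := rfl
theorem L808864 : sm ga N61813 = N61178 := ded_14_1 L802878 (flp_a L797355) L808862
theorem L808866 : sm gb N61813 = N60994 := ded_22_1 (flp_f L800723) (flp_b L797357) L808862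
theorem L808868 : sm gd N61813 = N60763 := ded_35_1 (flp_f L797566) (flp_d L797367) L808862
theorem L808870 : sm gj N61813 = N61258 := ded_46_2 (flp_f L803737) (flp_j L797361) L808862
theorem L808872 : sm gh N61813 = N61169 := ded_47_2 (flp_f L802802) (flp_h L797363) L808862
theorem L808874 : sm gi N61813 = N60776 := ded_48_2 (flp_f L797747) (flp_i L797365) L808862
theorem L808876 : sm ge N61813 = N61122 := ded_40_1 (flp_f L802307) (flp_e L789961) (flp_f L785316) L797353 L808862
theorem L808878 : sm gg N61813 = N60897 := ded_45_2 (flp_f L799397) L787211 (flp_f L785350) (flp_g L797359) L808862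
theorem L808880 : sm ga N60748 = N61814 := rfl
theorem L808882 : sm gc N61814 = N61218 := ded_11_2 (flp_a L803269) (flp_c L797379) L808880
theorem L808884 : sm gd N61814 = N61525 := ded_12_2 (flp_a L806328) (flp_d L797371) L808880
theorem L808886 : sm gf N61814 = N60750 := ded_14_2 (flp_a L797393) (flp_f L797373) L808880
theorem L808888 : sm gj N61814 = N60759 := ded_16_2 (flp_a L797509) (flp_j L797375) L808880
theorem L808890 : sm gi N61814 = N60777 := ded_18_2 (flp_a L797763) (flp_i L797377) L808880
theorem L808892 : sm gb N61814 = N61373 := ded_10_2 (flp_a L804904) (flp_b L792677) (flp_a L785328) L797369 L808880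
theorem L808894 : sm ge N60748 = N61815 := rfl
theorem L808896 : sm gb N61815 = N60749 := ded_21_1 (flp_e L797381) L797369 L808894
theorem L808898 : sm gc N61815 = N61219 := ded_28_1 (flp_e L803281) (flp_c L797379) L808894
theorem L808900 : sm gj N61815 = N60760 := ded_42_2 (flp_e L797523) (flp_j L797375) L808894
theorem L808902 : sm gi N61815 = N60778 := ded_44_2 (flp_e L797773) (flp_i L797377) L808894
theorem L808904 : sm gf N61815 = N60899 := ded_40_2 (flp_e L799423) L787223 (flp_e L785354) (flp_f L797373) L808894
theorem L808906 : sm gd N60749 = N61816 := rfl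
theorem L808908 : sm ga N61816 = N61375 := ded_12_1 (flp_d L804922) (flp_a L797383) L808906
theorem L808910 : sm gf N61816 = N60900 := ded_35_2 (flp_d L799433) (flp_f L797391) L808906
theorem L808912 : sm gj N61816 = N60761 := ded_37_2 (flp_d L797535) (flp_j L797387) L808906
theorem L808914 : sm gi N61816 = N60779 := ded_39_2 (flp_d L797785) (flp_i L797389) L808906
theorem L808916 : sm gc N61816 = N60764 := ded_27_1 (flp_d L797582) L785524 (flp_d L785348) (flp_c L797385) L808906
theorem L808918 : sm ge N61816 = N61493 := ded_34_2 L806010 (flp_e L794298) (flp_d L785336) L797381 L808906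
theorem L808920 : sm gb N60751 = N61817 := rfl
theorem L808922 : sm gd N61817 = N61319 := ded_20_2 (flp_b L804391) (flp_d L797419) L808920
theorem L808924 : sm gf N61817 = N60866 := ded_22_2 (flp_b L799045) (flp_f L797409) L808920
theorem L808926 : sm gg N61817 = N60890 := ded_23_2 (flp_b L799311) (flp_g L797411) L808920
theorem L808928 : sm gj N61817 = N61559 := ded_24_2 (flp_b L806648) (flp_j L797413) L808920
theorem L808930 : sm gh N61817 = N60791 := ded_25_2 (flp_b L797965) (flp_h L797415) L808920
theorem L808932 : sm gi N61817 = N60753 := ded_26_2 (flp_b L797436) (flp_i L797417) L808920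
theorem L808934 : sm gc N61817 = N60873 := ded_19_2 (flp_b L799114) (flp_c L786958) (flp_b L785366) L797405 L808920
theorem L808936 : sm ge N60751 = N61818 := rfl
theorem L808938 : sm ga N61818 = N61732 := ded_13_1 (flp_e L807888) (flp_a L797407) L808936
theorem L808940 : sm gc N61818 = N60752 := ded_28_1 (flp_e L797421) L797405 L808936
theorem L808942 : sm gg N61818 = N60891 := ded_41_2 (flp_e L799323) (flp_g L797411) L808936
theorem L808944 : sm gj N61818 = N61560 := ded_42_2 (flp_e L806656) (flp_j L797413) L808936
theorem L808946 : sm gh N61818 = N60792 := ded_43_2 (flp_e L797975) (flp_h L797415) L808936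
theorem L808948 : sm gi N61818 = N60754 := ded_44_2 (flp_e L797446) (flp_i L797417) L808936
theorem L808950 : sm gf N60752 = N61819 := rfl
theorem L808952 : sm ga N61819 = N61733 := ded_14_1 (flp_f L807898) (flp_a L797423) L808950
theorem L808954 : sm gb N61819 = N60875 := ded_22_1 (flp_f L799134) (flp_b L797425) L808950
theorem L808956 : sm gd N61819 = N61819 := ded_35_1 (flp_f L808950) L797435 L808950
theorem L808957 : sm gj N61819 = N61561 := ded_46_2 (flp_f L806664) (flp_j L797429) L808950
theorem L808959 : sm gh N61819 = N60793 := ded_47_2 (flp_f L797989) (flp_h L797431) L808950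
theorem L808961 : sm gi N61819 = N60755 := ded_48_2 (flp_f L797456) (flp_i L797433) L808950
theorem L808963 : sm ge N61819 = N60868 := ded_40_1 (flp_f L799063) (flp_e L786906) (flp_f L785368) L797421 L808950
theorem L808965 : sm gg N61819 = N61450 := ded_45_2 (flp_f L805645) L793358 (flp_f L787155) (flp_g L797427) L808950
theorem L808967 : sm ga N60753 = N61820 := rfl
theorem L808969 : sm gc N61820 = N61545 := ded_11_2 (flp_a L806516) (flp_c L797444) L808967
theorem L808971 : sm gf N61820 = N61539 := ded_14_2 (flp_a L806466) (flp_f L797438) L808967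
theorem L808973 : sm gg N61820 = N61466 := ded_15_2 L805772 (flp_g L797440) L808967
theorem L808975 : sm gh N61820 = N60756 := ded_17_2 (flp_a L797469) (flp_h L797442) L808967
theorem L808977 : sm gb N61820 = N61734 := ded_10_2 (flp_a L807905) (flp_b L796236) (flp_a L785380) L797436 L808967
theorem L808979 : sm ge N60753 = N61821 := rfl
theorem L808981 : sm gb N61821 = N60754 := ded_21_1 (flp_e L797446) L797436 L808979
theorem L808983 : sm gc N61821 = N61546 := ded_28_1 (flp_e L806528) (flp_c L797444) L808979
theorem L808985 : sm gg N61821 = N61460 := ded_41_2 L805716 (flp_g L797440) L808979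
theorem L808987 : sm gh N61821 = N60757 := ded_43_2 (flp_e L797483) (flp_h L797442) L808979
theorem L808989 : sm gd N60754 = N61822 := rfl
theorem L808991 : sm ga N61822 = N61736 := ded_12_1 (flp_d L807919) (flp_a L797448) L808989
theorem L808993 : sm gg N61822 = N61461 := ded_36_2 L805723 (flp_g L797452) L808989
theorem L808995 : sm gc N61822 = N61822 := ded_27_1 (flp_d L808989) L797450 L785398 (flp_c L797450) L808989
theorem L808996 : sm gh N61822 = N60910 := ded_38_2 (flp_d L799569) L787369 (flp_d L785421) (flp_h L797454) L808989
theorem L808998 : sm gf N60754 = N61823 := rfl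
theorem L809000 : sm ga N61823 = N61730 := ded_14_1 L807878 (flp_a L797448) L808998
theorem L809002 : sm gc N61823 = N60755 := ded_29_1 (flp_f L797456) (flp_c L797450) L808998
theorem L809004 : sm gh N61823 = N60758 := ded_47_2 (flp_f L797495) (flp_h L797454) L808998
theorem L809006 : sm ge N61823 = N61542 := ded_40_1 (flp_f L806490) (flp_e L794447) (flp_f L785382) L797446 L808998
theorem L809008 : sm gg N61823 = N61454 := ded_45_2 (flp_f L805673) L793375 L793413 (flp_g L797452) L808998
theorem L809010 : sm ge N60756 = N61824 := rfl
theorem L809012 : sm ga N61824 = N60757 := ded_13_1 (flp_e L797483) L797469 L809010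
theorem L809014 : sm gb N61824 = N61744 := ded_21_1 (flp_e L807973) (flp_b L797481) L809010
theorem L809016 : sm gc N61824 = N61550 := ded_28_1 (flp_e L806563) (flp_c L797471) L809010
theorem L809018 : sm gg N61824 = N61475 := ded_41_2 L805862 (flp_g L797477) L809010
theorem L809020 : sm gi N61824 = N60802 := ded_44_2 (flp_e L798105) (flp_i L797479) L809010
theorem L809022 : sm gd N61824 = N60913 := ded_34_1 (flp_e L799608) L787406 (flp_e L785465) (flp_d L797473) L809010
theorem L809024 : sm gf N60757 = N61825 := rfl
theorem L809026 : sm gb N61825 = N60758 := ded_22_1 (flp_f L797495) (flp_b L797485) L809024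
theorem L809028 : sm gc N61825 = N61263 := ded_29_1 L803797 (flp_c L797487) L809024
theorem L809030 : sm gd N61825 = N60914 := ded_35_1 (flp_f L799616) (flp_d L797493) L809024
theorem L809032 : sm gi N61825 = N60803 := ded_48_2 (flp_f L798115) (flp_i L797491) L809024
theorem L809034 : sm ge N61825 = N61544 := ded_40_1 (flp_f L806506) (flp_e L794471) (flp_f L785403) L797483 L809024
theorem L809036 : sm gg N61825 = N61473 := ded_45_2 (flp_f L805834) L793529 L793553 (flp_g L797489) L809024
theorem L809038 : sm ge N60759 = N61826 := rfl
theorem L809040 : sm ga N61826 = N60760 := ded_13_1 (flp_e L797523) L797509 L809038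
theorem L809042 : sm gb N61826 = N61376 := ded_21_1 (flp_e L804934) (flp_b L797521) L809038
theorem L809044 : sm gc N61826 = N61220 := ded_28_1 (flp_e L803293) (flp_c L797511) L809038
theorem L809046 : sm gg N61826 = N61262 := ded_41_2 (flp_e L803783) (flp_g L797517) L809038
theorem L809048 : sm gi N61826 = N60805 := ded_44_2 (flp_e L798139) (flp_i L797519) L809038
theorem L809050 : sm gf N61826 = N60919 := ded_40_2 (flp_e L799694) L787500 (flp_e L785465) (flp_f L797515) L809038
theorem L809052 : sm gd N60760 = N61827 := rfl
theorem L809054 : sm gb N61827 = N60761 := ded_20_1 (flp_d L797535) (flp_b L797525) L809052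
theorem L809056 : sm gf N61827 = N60920 := ded_35_2 (flp_d L799702) (flp_f L797533) L809052
theorem L809058 : sm gg N61827 = N61263 := ded_36_2 (flp_d L803793) (flp_g L797529) L809052
theorem L809060 : sm gi N61827 = N60806 := ded_39_2 (flp_d L798151) (flp_i L797531) L809052
theorem L809062 : sm gc N61827 = N61473 := ded_27_1 L805838 L795199 (flp_d L790990) (flp_c L797527) L809052
theorem L809064 : sm ge N61827 = N61496 := ded_34_2 L806034 (flp_e L794471) (flp_d L785439) L797523 L809052
theorem L809066 : sm gh N60761 = N61828 := rfl
theorem L809068 : sm ga N61828 = N61378 := ded_17_1 (flp_h L804956) (flp_a L797537) L809066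
theorem L809070 : sm gc N61828 = N60765 := ded_32_1 (flp_h L797596) (flp_c L797545) L809066
theorem L809072 : sm ge N61828 = N61497 := ded_43_1 (flp_h L806042) (flp_e L797547) L809066
theorem L809074 : sm gf N61828 = N60921 := ded_47_1 (flp_h L799714) (flp_f L797539) L809066
theorem L809076 : sm gg N61828 = N61264 := ded_50_1 (flp_h L803803) (flp_g L797541) L809066
theorem L809078 : sm gd N60762 = N61829 := rfl
theorem L809080 : sm ga N61829 = N61383 := ded_12_1 (flp_d L805008) (flp_a L797551) L809078
theorem L809082 : sm gb N61829 = N61087 := ded_20_1 (flp_d L801918) (flp_b L797553) L809078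
theorem L809084 : sm gf N61829 = N61492 := ded_35_2 L805998 L797564 L809078
theorem L809086 : sm gg N61829 = N60764 := ded_36_2 (flp_d L797582) (flp_g L797557) L809078
theorem L809088 : sm gj N61829 = N61265 := ded_37_2 (flp_d L803813) (flp_j L797559) L809078
theorem L809090 : sm gi N61829 = N60810 := ded_39_2 (flp_d L798202) (flp_i L797562) L809078
theorem L809092 : sm ge N61829 = N61490 := ded_34_2 (flp_d L805978) (flp_e L793692) (flp_d L785503) L797549 L809078
theorem L809094 : sm gh N60764 = N61830 := rfl
theorem L809096 : sm ga N61830 = N61388 := ded_17_1 (flp_h L805062) (flp_a L797584) L809094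
theorem L809098 : sm gb N61830 = N61447 := ded_25_1 L805625 (flp_b L797586) L809094
theorem L809100 : sm ge N61830 = N61494 := ded_43_1 (flp_h L806012) (flp_e L797594) L809094
theorem L809102 : sm gf N61830 = N60922 := ded_47_1 (flp_h L799724) (flp_f L797588) L809094
theorem L809104 : sm gj N61830 = N60765 := ded_52_1 (flp_h L797596) (flp_j L797590) L809094
theorem L809106 : sm gd N61830 = N61830 := ded_38_1 (flp_h L809094) (flp_d L797582) L785528 L797582 L809094
theorem L809107 : sm gi N61830 = N61093 := ded_54_2 L801989 L789741 (flp_h L786073) (flp_i L797592) L809094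
theorem L809109 : sm gi N60765 = N61831 := rfl
theorem L809111 : sm ga N61831 = N61389 := ded_18_1 (flp_i L805073) (flp_a L797598) L809109
theorem L809113 : sm gb N61831 = N61450 := ded_26_1 L805648 (flp_b L797600) L809109
theorem L809115 : sm gd N61831 = N61831 := ded_39_1 (flp_i L809109) L797608 L809109
theorem L809116 : sm ge N61831 = N60879 := ded_44_1 L799179 (flp_e L797602) L809109
theorem L809118 : sm gf N61831 = N60923 := ded_48_1 (flp_i L799739) (flp_f L797604) L809109
theorem L809120 : sm gg N61831 = N60875 := ded_51_1 L799141 (flp_g L797606) L809109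
theorem L809122 : sm gj N61831 = N61093 := ded_53_1 (flp_i L809107) L809104 L809109
theorem L809124 : sm gh N61831 = N60812 := ded_54_1 (flp_i L798231) (flp_h L786089) (flp_i L785543) L797596 L809109
theorem L809126 : sm ga N60767 = N61832 := rfl
theorem L809128 : sm gc N61832 = N61509 := ded_11_2 (flp_a L806180) (flp_c L797639) L809126
theorem L809130 : sm gd N61832 = N60777 := ded_12_2 (flp_a L797763) (flp_d L797629) L809126
theorem L809132 : sm gf N61832 = N60770 := ded_14_2 (flp_a L797669) (flp_f L797631) L809126
theorem L809134 : sm gj N61832 = N60798 := ded_16_2 (flp_a L798053) (flp_j L797633) L809126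
theorem L809136 : sm gh N61832 = N61586 := ded_17_2 (flp_a L806872) (flp_h L797635) L809126
theorem L809138 : sm gi N61832 = N61525 := ded_18_2 (flp_a L806328) (flp_i L797637) L809126
theorem L809140 : sm gb N61832 = N61469 := ded_10_2 (flp_a L805802) (flp_b L793493) (flp_a L785565) L797627 L809126
theorem L809142 : sm ge N60767 = N61833 := rfl
theorem L809144 : sm gb N61833 = N60768 := ded_21_1 (flp_e L797641) L797627 L809142
theorem L809146 : sm gc N61833 = N61510 := ded_28_1 (flp_e L806192) (flp_c L797639) L809142
theorem L809148 : sm gj N61833 = N60799 := ded_42_2 (flp_e L798067) (flp_j L797633) L809142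
theorem L809150 : sm gh N61833 = N61587 := ded_43_2 (flp_e L806878) (flp_h L797635) L809142
theorem L809152 : sm gi N61833 = N61526 := ded_44_2 (flp_e L806334) (flp_i L797637) L809142
theorem L809154 : sm gd N60768 = N61834 := rfl
theorem L809156 : sm ga N61834 = N61386 := ded_12_1 L805049 (flp_a L797643) L809154
theorem L809158 : sm gj N61834 = N60800 := ded_37_2 (flp_d L798077) (flp_j L797647) L809154
theorem L809160 : sm gi N61834 = N61493 := ded_39_2 L806010 (flp_i L797651) L809154
theorem L809162 : sm gc N61834 = N60808 := ded_27_1 (flp_d L798171) L785992 (flp_d L785589) (flp_c L797645) L809154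
theorem L809164 : sm ge N61834 = N60779 := ded_34_2 (flp_d L797785) (flp_e L785679) (flp_d L785575) L797641 L809154
theorem L809166 : sm gf N61329 = N61834 := ded_14_0 L809156 L805043 (flp_a L804486)
theorem L809168 : sm gh N61338 = N61834 := ded_32_0 L809162 (flp_h L798185) (flp_c L804564)
theorem L809170 : sm gf N60768 = N61835 := rfl
theorem L809172 : sm ga N61835 = N61471 := ded_14_1 (flp_f L805816) (flp_a L797643) L809170
theorem L809174 : sm gc N61835 = N60769 := ded_29_1 (flp_f L797653) (flp_c L797645) L809170
theorem L809176 : sm gd N61835 = N61329 := ded_35_1 L809166 (flp_d L809154) L809170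
theorem L809178 : sm gj N61835 = N60801 := ded_46_2 (flp_f L798091) (flp_j L797647) L809170
theorem L809180 : sm gh N61835 = N61589 := ded_47_2 (flp_f L806887) (flp_h L797649) L809170
theorem L809182 : sm gi N61835 = N61527 := ded_48_2 (flp_f L806342) (flp_i L797651) L809170
theorem L809184 : sm ge N61835 = N60772 := ded_40_1 (flp_f L797697) (flp_e L785603) (flp_f L785567) L797641 L809170
theorem L809186 : sm gg N60769 = N61836 := rfl
theorem L809188 : sm ga N61836 = N61087 := ded_15_1 L801920 (flp_a L797655) L809186
theorem L809190 : sm gb N61836 = N61301 := ded_23_1 L804194 (flp_b L797657) L809186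
theorem L809192 : sm gd N61836 = N60809 := ded_36_1 (flp_g L798187) (flp_d L797659) L809186
theorem L809194 : sm ge N61836 = N60773 := ded_41_1 (flp_g L797709) (flp_e L797667) L809186
theorem L809196 : sm gh N61836 = N61500 := ded_50_2 L806072 (flp_h L797663) L809186
theorem L809198 : sm gi N61836 = N61315 := ded_51_2 L804341 (flp_i L797665) L809186
theorem L809200 : sm gj N61836 = N60869 := ded_49_2 L799075 L794602 (flp_g L785914) (flp_j L797661) L809186
theorem L809202 : sm ge N60770 = N61837 := rfl
theorem L809204 : sm ga N61837 = N60771 := ded_13_1 (flp_e L797683) L797669 L809202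
theorem L809206 : sm gb N61837 = N61765 := ded_21_1 L808124 (flp_b L797681) L809202
theorem L809208 : sm gc N61837 = N61706 := ded_28_1 (flp_e L807724) (flp_c L797671) L809202
theorem L809210 : sm gg N61837 = N61607 := ded_41_2 (flp_e L807027) (flp_g L797675) L809202
theorem L809212 : sm gj N61837 = N60802 := ded_42_2 (flp_e L798105) (flp_j L797677) L809202
theorem L809214 : sm gh N61837 = N61590 := ded_43_2 (flp_e L806893) (flp_h L797679) L809202
theorem L809216 : sm gd N61837 = N60937 := ded_34_1 (flp_e L799925) L787702 (flp_e L785695) (flp_d L797673) L809202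
theorem L809218 : sm gf N60771 = N61838 := rfl
theorem L809220 : sm gb N61838 = N60772 := ded_22_1 (flp_f L797697) (flp_b L797685) L809218
theorem L809222 : sm gc N61838 = N61286 := ded_29_1 L804045 (flp_c L797687) L809218
theorem L809224 : sm gd N61838 = N60938 := ded_35_1 (flp_f L799935) (flp_d L797695) L809218
theorem L809226 : sm gj N61838 = N60803 := ded_46_2 (flp_f L798115) (flp_j L797691) L809218
theorem L809228 : sm gh N61838 = N61591 := ded_47_2 (flp_f L806901) (flp_h L797693) L809218
theorem L809230 : sm gg N60772 = N61839 := rfl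
theorem L809232 : sm ga N61839 = N61541 := ded_15_1 L806486 (flp_a L797699) L809230
theorem L809234 : sm gc N61839 = N60773 := ded_30_1 (flp_g L797709) (flp_c L797701) L809230
theorem L809236 : sm gd N61839 = N60939 := ded_36_1 (flp_g L799945) (flp_d L797703) L809230
theorem L809238 : sm gh N61839 = N61498 := ded_50_2 L806056 (flp_h L797707) L809230
theorem L809240 : sm gf N61839 = N61609 := ded_45_1 (flp_g L807043) (flp_f L795059) (flp_g L785609) L797697 L809230
theorem L809242 : sm gj N61839 = N61324 := ded_49_2 L804436 L798137 (flp_g L798123) (flp_j L797705) L809230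
theorem L809244 : sm ga N60774 = N61840 := rfl
theorem L809246 : sm gc N61840 = N61209 := ded_11_2 (flp_a L803170) (flp_c L797733) L809244
theorem L809248 : sm gf N61840 = N61123 := ded_14_2 (flp_a L802314) (flp_f L797725) L809244
theorem L809250 : sm gg N61840 = N60777 := ded_15_2 (flp_a L797763) (flp_g L797727) L809244
theorem L809252 : sm gj N61840 = N61281 := ded_16_2 (flp_a L804003) (flp_j L797729) L809244
theorem L809254 : sm gh N61840 = N61127 := ded_17_2 (flp_a L802339) (flp_h L797731) L809244
theorem L809256 : sm gb N61840 = N61428 := ded_10_2 (flp_a L805465) (flp_b L793191) (flp_a L785647) L797723 L809244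
theorem L809258 : sm ge N60774 = N61841 := rfl
theorem L809260 : sm gb N61841 = N60775 := ded_21_1 (flp_e L797735) L797723 L809258
theorem L809262 : sm gc N61841 = N61210 := ded_28_1 (flp_e L803180) (flp_c L797733) L809258
theorem L809264 : sm gg N61841 = N60778 := ded_41_2 (flp_e L797773) (flp_g L797727) L809258
theorem L809266 : sm gj N61841 = N61282 := ded_42_2 (flp_e L804009) (flp_j L797729) L809258
theorem L809268 : sm gh N61841 = N61128 := ded_43_2 (flp_e L802349) (flp_h L797731) L809258
theorem L809270 : sm gd N60775 = N61842 := rfl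
theorem L809272 : sm ga N61842 = N61430 := ded_12_1 (flp_d L805481) (flp_a L797737) L809270
theorem L809274 : sm gg N61842 = N60779 := ded_36_2 (flp_d L797785) (flp_g L797741) L809270
theorem L809276 : sm gj N61842 = N61283 := ded_37_2 (flp_d L804015) (flp_j L797743) L809270
theorem L809278 : sm gc N61842 = N60810 := ded_27_1 (flp_d L798202) L786038 (flp_d L785669) (flp_c L797739) L809270
theorem L809280 : sm gh N61842 = N61342 := ded_38_2 L804587 (flp_h L801672) L801668 (flp_h L797745) L809270
theorem L809282 : sm gf N61434 = N61842 := ded_45_5 L809274 L797789 L787840 (flp_f L793245) (flp_g L805509)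
theorem L809284 : sm gf N60775 = N61843 := rfl
theorem L809286 : sm ga N61843 = N61183 := ded_14_1 L802926 (flp_a L797737) L809284
theorem L809288 : sm gc N61843 = N60776 := ded_29_1 (flp_f L797747) (flp_c L797739) L809284
theorem L809290 : sm gd N61843 = N61434 := ded_35_1 L809282 (flp_d L809270) L809284
theorem L809292 : sm gj N61843 = N61284 := ded_46_2 (flp_f L804023) (flp_j L797743) L809284
theorem L809294 : sm gh N61843 = N61064 := ded_47_2 (flp_f L801660) (flp_h L797745) L809284
theorem L809296 : sm ge N61843 = N61126 := ded_40_1 (flp_f L802333) (flp_e L789976) (flp_f L785649) L797735 L809284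
theorem L809298 : sm gg N61843 = N60944 := ded_45_2 (flp_f L800013) L787794 (flp_f L785689) (flp_g L797741) L809284
theorem L809300 : sm ge N60777 = N61844 := rfl
theorem L809302 : sm ga N61844 = N60778 := ded_13_1 (flp_e L797773) L797763 L809300
theorem L809304 : sm gb N61844 = N61478 := ded_21_1 (flp_e L805882) (flp_b L797771) L809300
theorem L809306 : sm gc N61844 = N61225 := ded_28_1 (flp_e L803356) (flp_c L797765) L809300
theorem L809308 : sm gj N61844 = N60805 := ded_42_2 (flp_e L798139) (flp_j L797769) L809300
theorem L809310 : sm gh N61844 = N61668 := ded_43_2 (flp_e L808168) L808176 L809300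
theorem L809312 : sm gf N61844 = N60945 := ded_40_2 (flp_e L800025) L787818 (flp_e L785695) (flp_f L797767) L809300
theorem L809314 : sm gd N60778 = N61845 := rfl
theorem L809316 : sm gb N61845 = N60779 := ded_20_1 (flp_d L797785) (flp_b L797775) L809314
theorem L809318 : sm gf N61845 = N60946 := ded_35_2 (flp_d L800037) (flp_f L797783) L809314
theorem L809320 : sm gj N61845 = N60806 := ded_37_2 (flp_d L798151) (flp_j L797779) L809314
theorem L809322 : sm gc N61845 = N61714 := ded_27_1 (flp_d L807776) L796072 (flp_d L791070) (flp_c L797777) L809314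
theorem L809324 : sm gh N61341 = N61845 := ded_25_0 L809316 (flp_h L797795) (flp_b L804581)
theorem L809326 : sm gb N60780 = N61846 := rfl
theorem L809328 : sm gd N61846 = N60905 := ded_20_2 (flp_b L799507) (flp_d L797811) L809326
theorem L809330 : sm gf N61846 = N60870 := ded_22_2 (flp_b L799081) (flp_f L797801) L809326
theorem L809332 : sm gg N61846 = N60888 := ded_23_2 (flp_b L799281) (flp_g L797803) L809326
theorem L809334 : sm gj N61846 = N61464 := ded_24_2 L805750 (flp_j L797805) L809326
theorem L809336 : sm gh N61846 = N60873 := ded_25_2 (flp_b L799114) (flp_h L797807) L809326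
theorem L809338 : sm gi N61846 = N60782 := ded_26_2 (flp_b L797831) (flp_i L797809) L809326
theorem L809340 : sm gc N61846 = N60791 := ded_19_2 (flp_b L797965) (flp_c L785820) (flp_b L785705) L797797 L809326
theorem L809342 : sm ge N60780 = N61847 := rfl
theorem L809344 : sm ga N61847 = N61231 := ded_13_1 L803424 (flp_a L797799) L809342
theorem L809346 : sm gc N61847 = N60781 := ded_28_1 (flp_e L797813) L797797 L809342
theorem L809348 : sm gg N61847 = N60889 := ded_41_2 (flp_e L799295) (flp_g L797803) L809342
theorem L809350 : sm gj N61847 = N61176 := ded_42_2 L802862 (flp_j L797805) L809342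
theorem L809352 : sm gh N61847 = N60874 := ded_43_2 (flp_e L799124) (flp_h L797807) L809342
theorem L809354 : sm gi N61847 = N60783 := ded_44_2 (flp_e L797845) (flp_i L797809) L809342
theorem L809356 : sm gd N61847 = N61144 := ded_34_1 (flp_e L802515) L790155 (flp_e L787312) (flp_d L797811) L809342
theorem L809358 : sm gf N61300 = N61847 := ded_14_0 L809344 L803426 (flp_a L804186)
theorem L809360 : sm ga N60782 = N61848 := rfl
theorem L809362 : sm gc N61848 = N60794 := ded_11_2 (flp_a L798001) (flp_c L797843) L809360
theorem L809364 : sm gd N61848 = N61392 := ded_12_2 (flp_a L805109) (flp_d L797833) L809360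
theorem L809366 : sm gf N61848 = N61513 := ded_14_2 (flp_a L806222) (flp_f L797835) L809360
theorem L809368 : sm gg N61848 = N60934 := ded_15_2 (flp_a L799885) (flp_g L797837) L809360
theorem L809370 : sm gj N61848 = N61465 := ded_16_2 L805760 (flp_j L797839) L809360
theorem L809372 : sm gh N61848 = N60784 := ded_17_2 (flp_a L797861) (flp_h L797841) L809360
theorem L809374 : sm gb N61848 = N61580 := ded_10_2 (flp_a L806833) (flp_b L794831) (flp_a L785719) L797831 L809360
theorem L809376 : sm ge N60782 = N61849 := rfl
theorem L809378 : sm gb N61849 = N60783 := ded_21_1 (flp_e L797845) L797831 L809376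
theorem L809380 : sm gc N61849 = N60795 := ded_28_1 (flp_e L798013) (flp_c L797843) L809376
theorem L809382 : sm gg N61849 = N60935 := ded_41_2 (flp_e L799897) (flp_g L797837) L809376
theorem L809384 : sm gj N61849 = N61180 := ded_42_2 L802898 (flp_j L797839) L809376
theorem L809386 : sm gh N61849 = N60785 := ded_43_2 (flp_e L797877) (flp_h L797841) L809376
theorem L809388 : sm gd N61849 = N61146 := ded_34_1 (flp_e L802537) L790173 (flp_e L792859) (flp_d L797833) L809376
theorem L809390 : sm gf N61299 = N61849 := ded_22_0 L809378 (flp_f L797859) (flp_b L804182)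
theorem L809392 : sm ge N60784 = N61850 := rfl
theorem L809394 : sm ga N61850 = N60785 := ded_13_1 (flp_e L797877) L797861 L809392
theorem L809396 : sm gb N61850 = N61229 := ded_21_1 L803406 (flp_b L797875) L809392
theorem L809398 : sm gc N61850 = N60802 := ded_28_1 (flp_e L798105) (flp_c L797863) L809392
theorem L809400 : sm gg N61850 = N61512 := ded_41_2 (flp_e L806216) (flp_g L797869) L809392
theorem L809402 : sm gj N61850 = N61706 := ded_42_2 (flp_e L807724) (flp_j L797871) L809392
theorem L809404 : sm gi N61850 = N61550 := ded_44_2 (flp_e L806563) (flp_i L797873) L809392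
theorem L809406 : sm gd N61850 = N61205 := ded_34_1 (flp_e L803128) L790794 (flp_e L791078) (flp_d L797865) L809392
theorem L809408 : sm gf N61298 = N61850 := ded_14_0 L809394 (flp_f L797891) (flp_a L804176)
theorem L809410 : sm gb N60786 = N61851 := rfl
theorem L809412 : sm gd N61851 = N60885 := ded_20_2 (flp_b L799245) (flp_d L797907) L809410
theorem L809414 : sm gf N61851 = N60791 := ded_22_2 (flp_b L797965) (flp_f L797897) L809410
theorem L809416 : sm gg N61851 = N61289 := ded_23_2 (flp_b L804079) (flp_g L797899) L809410
theorem L809418 : sm gj N61851 = N61332 := ded_24_2 (flp_b L804522) (flp_j L797901) L809410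
theorem L809420 : sm gh N61851 = N60866 := ded_25_2 (flp_b L799045) (flp_h L797903) L809410
theorem L809422 : sm gi N61851 = N60788 := ded_26_2 (flp_b L797924) (flp_i L797905) L809410
theorem L809424 : sm gc N61851 = N60870 := ded_19_2 (flp_b L799081) (flp_c L786935) (flp_b L785781) L797893 L809410
theorem L809426 : sm ge N60786 = N61852 := rfl
theorem L809428 : sm ga N61852 = N61449 := ded_13_1 (flp_e L805637) (flp_a L797895) L809426
theorem L809430 : sm gc N61852 = N60787 := ded_28_1 (flp_e L797909) L797893 L809426
theorem L809432 : sm gg N61852 = N61290 := ded_41_2 (flp_e L804091) (flp_g L797899) L809426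
theorem L809434 : sm gj N61852 = N61333 := ded_42_2 (flp_e L804532) (flp_j L797901) L809426
theorem L809436 : sm gh N61852 = N60867 := ded_43_2 (flp_e L799055) (flp_h L797903) L809426
theorem L809438 : sm gi N61852 = N60789 := ded_44_2 (flp_e L797938) (flp_i L797905) L809426
theorem L809440 : sm gf N60787 = N61853 := rfl
theorem L809442 : sm ga N61853 = N61450 := ded_14_1 (flp_f L805645) (flp_a L797911) L809440
theorem L809444 : sm gb N61853 = N60872 := ded_22_1 (flp_f L799103) (flp_b L797913) L809440
theorem L809446 : sm gd N61853 = N61853 := ded_35_1 (flp_f L809440) L797923 L809440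
theorem L809447 : sm gj N61853 = N61334 := ded_46_2 (flp_f L804540) (flp_j L797917) L809440
theorem L809449 : sm gh N61853 = N60868 := ded_47_2 (flp_f L799063) (flp_h L797919) L809440
theorem L809451 : sm gi N61853 = N60790 := ded_48_2 (flp_f L797950) (flp_i L797921) L809440
theorem L809453 : sm ge N61853 = N60793 := ded_40_1 (flp_f L797989) (flp_e L785832) (flp_f L785783) L797909 L809440
theorem L809455 : sm gg N61853 = N61733 := ded_45_2 (flp_f L807898) L796229 (flp_f L791889) (flp_g L797915) L809440
theorem L809457 : sm ga N60788 = N61854 := rfl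
theorem L809459 : sm gc N61854 = N61513 := ded_11_2 (flp_a L806222) (flp_c L797936) L809457
theorem L809461 : sm gd N61854 = N60929 := ded_12_2 (flp_a L799824) (flp_d L797926) L809457
theorem L809463 : sm gf N61854 = N60794 := ded_14_2 (flp_a L798001) (flp_f L797928) L809457
theorem L809465 : sm gg N61854 = N61291 := ded_15_2 (flp_a L804105) (flp_g L797930) L809457
theorem L809467 : sm gj N61854 = N61586 := ded_16_2 (flp_a L806872) (flp_j L797932) L809457
theorem L809469 : sm gh N61854 = N60798 := ded_17_2 (flp_a L798053) (flp_h L797934) L809457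
theorem L809471 : sm gb N61854 = N61451 := ded_10_2 (flp_a L805652) (flp_b L793363) (flp_a L785795) L797924 L809457
theorem L809473 : sm ge N60788 = N61855 := rfl
theorem L809475 : sm gb N61855 = N60789 := ded_21_1 (flp_e L797938) L797924 L809473
theorem L809477 : sm gc N61855 = N61514 := ded_28_1 (flp_e L806228) (flp_c L797936) L809473
theorem L809479 : sm gg N61855 = N61292 := ded_41_2 (flp_e L804113) (flp_g L797930) L809473
theorem L809481 : sm gj N61855 = N61587 := ded_42_2 (flp_e L806878) (flp_j L797932) L809473
theorem L809483 : sm gh N61855 = N60799 := ded_43_2 (flp_e L798067) (flp_h L797934) L809473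
theorem L809485 : sm gd N60789 = N61856 := rfl
theorem L809487 : sm ga N61856 = N61453 := ded_12_1 (flp_d L805668) (flp_a L797940) L809485
theorem L809489 : sm gg N61856 = N61293 := ded_36_2 (flp_d L804121) (flp_g L797944) L809485
theorem L809491 : sm gj N61856 = N61588 := ded_37_2 (flp_d L806882) (flp_j L797946) L809485
theorem L809493 : sm gc N61856 = N61856 := ded_27_1 (flp_d L809485) L797942 L785819 (flp_c L797942) L809485
theorem L809494 : sm ge N61856 = N60931 := ded_34_2 (flp_d L799844) (flp_e L787610) (flp_d L785805) L797938 L809485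
theorem L809496 : sm gf N60789 = N61857 := rfl
theorem L809498 : sm ga N61857 = N61454 := ded_14_1 (flp_f L805673) (flp_a L797940) L809496
theorem L809500 : sm gc N61857 = N60790 := ded_29_1 (flp_f L797950) (flp_c L797942) L809496
theorem L809502 : sm gj N61857 = N61589 := ded_46_2 (flp_f L806887) (flp_j L797946) L809496
theorem L809504 : sm gh N61857 = N60801 := ded_47_2 (flp_f L798091) (flp_h L797948) L809496
theorem L809506 : sm ge N61857 = N60796 := ded_40_1 (flp_f L798025) (flp_e L785854) (flp_f L785797) L797938 L809496
theorem L809508 : sm gg N61857 = N61730 := ded_45_2 L807878 L796246 (flp_f L791905) (flp_g L797944) L809496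
theorem L809510 : sm ga N60791 = N61858 := rfl
theorem L809512 : sm gd N61858 = N60887 := ded_12_2 (flp_a L799269) (flp_d L797967) L809510
theorem L809514 : sm gg N61858 = N60892 := ded_15_2 (flp_a L799337) (flp_g L797969) L809510
theorem L809516 : sm gj N61858 = N61562 := ded_16_2 (flp_a L806669) (flp_j L797971) L809510
theorem L809518 : sm gi N61858 = N60794 := ded_18_2 (flp_a L798001) (flp_i L797973) L809510
theorem L809520 : sm gb N61858 = N61761 := ded_10_2 (flp_a L808090) (flp_b L796499) (flp_a L785822) L797965 L809510
theorem L809522 : sm ge N60791 = N61859 := rfl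
theorem L809524 : sm gb N61859 = N60792 := ded_21_1 (flp_e L797975) L797965 L809522
theorem L809526 : sm gg N61859 = N60893 := ded_41_2 (flp_e L799349) (flp_g L797969) L809522
theorem L809528 : sm gj N61859 = N61563 := ded_42_2 (flp_e L806677) (flp_j L797971) L809522
theorem L809530 : sm gi N61859 = N60795 := ded_44_2 (flp_e L798013) (flp_i L797973) L809522
theorem L809532 : sm gd N61859 = N61604 := ded_34_1 (flp_e L807005) (flp_d L797231) L797233 (flp_d L797967) L809522
theorem L809534 : sm gf N60792 = N61860 := rfl
theorem L809536 : sm ga N61860 = N61760 := ded_14_1 L808088 (flp_a L797977) L809534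
theorem L809538 : sm gc N61860 = N60793 := ded_29_1 (flp_f L797989) (flp_c L797979) L809534
theorem L809540 : sm gd N61860 = N61605 := ded_35_1 (flp_f L807013) (flp_d L797987) L809534
theorem L809542 : sm gj N61860 = N61564 := ded_46_2 (flp_f L806687) (flp_j L797983) L809534
theorem L809544 : sm gi N61860 = N60796 := ded_48_2 (flp_f L798025) (flp_i L797985) L809534
theorem L809546 : sm gg N60793 = N61861 := rfl
theorem L809548 : sm ga N61861 = N60868 := ded_15_1 L799071 (flp_a L797991) L809546
theorem L809550 : sm gb N61861 = N60812 := ded_23_1 L798239 (flp_b L797993) L809546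
theorem L809552 : sm gd N61861 = N60813 := ded_36_1 L798254 (flp_d L797995) L809546
theorem L809554 : sm ge N61861 = N61733 := ded_41_1 (flp_g L809455) L809453 L809546
theorem L809556 : sm gh N61861 = N61450 := ded_50_2 (flp_g L808965) L808959 L809546
theorem L809558 : sm gi N61861 = N60797 := ded_51_2 (flp_g L798037) (flp_i L797999) L809546
theorem L809560 : sm gf N61861 = N60865 := ded_45_1 L799035 (flp_f L787177) (flp_g L785836) L797989 L809546
theorem L809562 : sm gj N61086 = N61861 := ded_24_0 L809550 L798241 (flp_b L801912)
theorem L809564 : sm ge N60794 = N61862 := rfl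
theorem L809566 : sm ga N61862 = N60795 := ded_13_1 (flp_e L798013) L798001 L809564
theorem L809568 : sm gb N61862 = N61763 := ded_21_1 (flp_e L808104) (flp_b L798011) L809564
theorem L809570 : sm gg N61862 = N60937 := ded_41_2 (flp_e L799925) (flp_g L798005) L809564
theorem L809572 : sm gj N61862 = N61590 := ded_42_2 (flp_e L806893) (flp_j L798007) L809564
theorem L809574 : sm gh N61862 = N60802 := ded_43_2 (flp_e L798105) (flp_h L798009) L809564
theorem L809576 : sm gd N61862 = N61607 := ded_34_1 (flp_e L807027) (flp_d L797613) L797615 (flp_d L798003) L809564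
theorem L809578 : sm gf N60795 = N61863 := rfl
theorem L809580 : sm gb N61863 = N60796 := ded_22_1 (flp_f L798025) (flp_b L798015) L809578
theorem L809582 : sm gc N61863 = N61299 := ded_29_1 L809390 L809380 L809578
theorem L809584 : sm gd N61863 = N61608 := ded_35_1 (flp_f L807035) (flp_d L798023) L809578
theorem L809586 : sm gj N61863 = N61591 := ded_46_2 (flp_f L806901) (flp_j L798019) L809578
theorem L809588 : sm gh N61863 = N60803 := ded_47_2 (flp_f L798115) (flp_h L798021) L809578
theorem L809590 : sm gg N60796 = N61864 := rfl
theorem L809592 : sm ga N61864 = N61542 := ded_15_1 L806496 (flp_a L798027) L809590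
theorem L809594 : sm gc N61864 = N60797 := ded_30_1 (flp_g L798037) (flp_c L798029) L809590
theorem L809596 : sm gd N61864 = N61609 := ded_36_1 (flp_g L807043) (flp_d L798031) L809590
theorem L809598 : sm ge N61864 = N61730 := ded_41_1 (flp_g L809508) L809506 L809590
theorem L809600 : sm gh N61864 = N60804 := ded_50_2 (flp_g L798123) (flp_h L798035) L809590
theorem L809602 : sm gf N61864 = N60939 := ded_45_1 (flp_g L799945) (flp_f L787720) (flp_g L785860) L798025 L809590
theorem L809604 : sm gj N61325 = N61864 := ded_31_0 L809594 (flp_j L798051) (flp_c L804442)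
theorem L809606 : sm ge N60798 = N61865 := rfl
theorem L809608 : sm ga N61865 = N60799 := ded_13_1 (flp_e L798067) L798053 L809606
theorem L809610 : sm gb N61865 = N61472 := ded_21_1 (flp_e L805828) (flp_b L798065) L809606
theorem L809612 : sm gc N61865 = N61516 := ded_28_1 (flp_e L806241) (flp_c L798055) L809606
theorem L809614 : sm gg N61865 = N61295 := ded_41_2 (flp_e L804144) (flp_g L798061) L809606
theorem L809616 : sm gi N61865 = N61543 := ded_44_2 (flp_e L806498) (flp_i L798063) L809606
theorem L809618 : sm gd N60799 = N61866 := rfl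
theorem L809620 : sm gb N61866 = N60800 := ded_20_1 (flp_d L798077) (flp_b L798069) L809618
theorem L809622 : sm gg N61866 = N61296 := ded_36_2 (flp_d L804154) (flp_g L798073) L809618
theorem L809624 : sm gi N61866 = N61496 := ded_39_2 L806034 (flp_i L798075) L809618
theorem L809626 : sm gc N61866 = N61729 := ded_27_1 (flp_d L807866) L796207 (flp_d L794212) (flp_c L798071) L809618
theorem L809628 : sm ge N61866 = N60806 := ded_34_2 (flp_d L798151) (flp_e L785966) (flp_d L785882) L798067 L809618
theorem L809630 : sm gf N61614 = N61866 := ded_22_0 L809620 (flp_f L798089) (flp_b L807083)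
theorem L809632 : sm gf N60799 = N61867 := rfl
theorem L809634 : sm gb N61867 = N60801 := ded_22_1 (flp_f L798091) (flp_b L798069) L809632
theorem L809636 : sm gc N61867 = N61296 := ded_29_1 L804158 (flp_c L798071) L809632
theorem L809638 : sm gd N61867 = N61614 := ded_35_1 L809630 (flp_d L809618) L809632
theorem L809640 : sm gi N61867 = N61544 := ded_48_2 (flp_f L806506) (flp_i L798075) L809632
theorem L809642 : sm ge N61867 = N60803 := ded_40_1 (flp_f L798115) (flp_e L785924) (flp_f L785884) L798067 L809632
theorem L809644 : sm gg N61867 = N61729 := ded_45_2 L807870 L796322 (flp_f L791947) (flp_g L798073) L809632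
theorem L809646 : sm gh N60800 = N61868 := rfl
theorem L809648 : sm ga N61868 = N61390 := ded_17_1 (flp_h L805086) (flp_a L798079) L809646
theorem L809650 : sm gc N61868 = N60811 := ded_32_1 (flp_h L798216) (flp_c L798085) L809646
theorem L809652 : sm ge N61868 = N60807 := ded_43_1 (flp_h L798159) (flp_e L798087) L809646
theorem L809654 : sm gf N61868 = N61305 := ded_47_1 L804250 L798089 L809646
theorem L809656 : sm gg N61868 = N61297 := ded_50_1 (flp_h L804164) (flp_g L798081) L809646
theorem L809658 : sm gj N61868 = N61338 := ded_52_1 L809168 L809158 L809646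
theorem L809660 : sm gf N60802 = N61869 := rfl
theorem L809662 : sm ga N61869 = N60803 := ded_14_1 (flp_f L798115) (flp_a L798107) L809660
theorem L809664 : sm gb N61869 = N61758 := ded_22_1 L808076 (flp_b L798109) L809660
theorem L809666 : sm gc N61869 = N61298 := ded_29_1 L809408 L809398 L809660
theorem L809668 : sm gd N61869 = N60964 := ded_35_1 (flp_f L800307) (flp_d L798113) L809660
theorem L809670 : sm gg N60803 = N61870 := rfl
theorem L809672 : sm gb N61870 = N60804 := ded_23_1 (flp_g L798123) (flp_b L798117) L809670
theorem L809674 : sm gc N61870 = N60806 := ded_30_1 L798157 (flp_c L798119) L809670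
theorem L809676 : sm gd N61870 = N60965 := ded_36_1 (flp_g L800315) (flp_d L798121) L809670
theorem L809678 : sm ge N61870 = N61729 := ded_41_1 (flp_g L809644) L809642 L809670
theorem L809680 : sm gi N61870 = N61473 := ded_51_2 (flp_g L809036) L809032 L809670
theorem L809682 : sm gf N61870 = N60970 := ded_45_1 L800369 L792673 (flp_g L785928) L798115 L809670
theorem L809684 : sm gj N61714 = N61870 := ded_24_0 L809672 (flp_j L798137) (flp_b L807778)
theorem L809686 : sm gd N60805 = N61871 := rfl
theorem L809688 : sm ga N61871 = N60806 := ded_12_1 (flp_d L798151) (flp_a L798141) L809686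
theorem L809690 : sm gb N61871 = N61480 := ded_20_1 (flp_d L805902) (flp_b L798143) L809686
theorem L809692 : sm gf N61871 = N60969 := ded_35_2 (flp_d L800357) (flp_f L798149) L809686
theorem L809694 : sm gg N61871 = N61298 := ded_36_2 (flp_d L804174) (flp_g L798147) L809686
theorem L809696 : sm gh N60806 = N61872 := rfl
theorem L809698 : sm gb N61872 = N60807 := ded_25_1 (flp_h L798159) (flp_b L798153) L809696
theorem L809700 : sm gf N61872 = N60971 := ded_47_1 (flp_h L800377) (flp_f L798155) L809696
theorem L809702 : sm gg N61872 = N61299 := ded_50_1 (flp_h L804180) (flp_g L798157) L809696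
theorem L809704 : sm gj N61872 = N61341 := ded_52_1 L809324 L809320 L809696
theorem L809706 : sm gi N60807 = N61873 := rfl
theorem L809708 : sm ga N61873 = N61482 := ded_18_1 (flp_i L805922) (flp_a L798161) L809706
theorem L809710 : sm gc N61873 = N60812 := ded_33_1 (flp_i L798231) (flp_c L798163) L809706
theorem L809712 : sm gf N61873 = N60972 := ded_48_1 (flp_i L800385) (flp_f L798165) L809706
theorem L809714 : sm gg N61873 = N61300 := ded_51_1 (flp_i L804184) (flp_g L798167) L809706
theorem L809716 : sm gj N61873 = N61099 := ded_53_1 L802036 (flp_j L798169) L809706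
theorem L809718 : sm gi N60811 = N61874 := rfl
theorem L809720 : sm ga N61874 = N61391 := ded_18_1 (flp_i L805096) (flp_a L798218) L809718
theorem L809722 : sm gb N61874 = N61733 := ded_26_1 L807903 (flp_b L798220) L809718
theorem L809724 : sm gd N61874 = N61874 := ded_39_1 (flp_i L809718) L798230 L809718
theorem L809725 : sm ge N61874 = N60812 := ded_44_1 (flp_i L798231) (flp_e L798222) L809718
theorem L809727 : sm gf N61874 = N61079 := ded_48_1 L801845 (flp_f L798224) L809718
theorem L809729 : sm gg N61874 = N60872 := ded_51_1 L799110 (flp_g L798226) L809718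
theorem L809731 : sm gj N61874 = N61096 := ded_53_1 L802012 (flp_j L798228) L809718
theorem L809733 : sm gh N61874 = N60879 := ded_54_1 L799179 (flp_h L793783) (flp_i L786085) L798216 L809718
theorem L809735 : sm ga N60814 = N61875 := rfl
theorem L809737 : sm gc N61875 = N60832 := ded_11_2 (flp_a L798546) (flp_c L798275) L809735
theorem L809739 : sm gd N61875 = N61226 := ded_12_2 (flp_a L803366) (flp_d L798261) L809735
theorem L809741 : sm ge N61875 = N61302 := ded_13_2 (flp_a L804200) (flp_e L798263) L809735
theorem L809743 : sm gf N61875 = N61234 := ded_14_2 (flp_a L803460) (flp_f L798265) L809735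
theorem L809745 : sm gg N61875 = N61208 := ded_15_2 (flp_a L803160) (flp_g L798267) L809735
theorem L809747 : sm gj N61875 = N60815 := ded_16_2 (flp_a L798277) (flp_j L798269) L809735
theorem L809749 : sm gh N61875 = N61217 := ded_17_2 (flp_a L803255) (flp_h L798271) L809735
theorem L809751 : sm gi N61875 = N60822 := ded_18_2 (flp_a L798388) (flp_i L798273) L809735
theorem L809753 : sm gb N61875 = N61232 := ded_10_2 (flp_a L803434) (flp_b L791208) (flp_a L786161) L798259 L809735
theorem L809755 : sm gb N60816 = N61876 := rfl
theorem L809757 : sm gd N61876 = N60819 := ded_20_2 (flp_b L798344) (flp_d L798309) L809755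
theorem L809759 : sm gf N61876 = N61639 := ded_22_2 (flp_b L807258) (flp_f L798299) L809755
theorem L809761 : sm gg N61876 = N60820 := ded_23_2 (flp_b L798358) (flp_g L798301) L809755
theorem L809763 : sm gj N61876 = N60992 := ded_24_2 (flp_b L800703) (flp_j L798303) L809755
theorem L809765 : sm gh N61876 = N61648 := ded_25_2 (flp_b L807320) (flp_h L798305) L809755
theorem L809767 : sm gi N61876 = N61151 := ded_26_2 (flp_b L802583) (flp_i L798307) L809755
theorem L809769 : sm gc N61876 = N61256 := ded_19_2 (flp_b L803719) (flp_c L791488) (flp_b L786197) L798295 L809755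
theorem L809771 : sm gb N60817 = N61877 := rfl
theorem L809773 : sm gd N61877 = N61639 := ded_20_2 (flp_b L807258) (flp_d L798325) L809771
theorem L809775 : sm gf N61877 = N60819 := ded_22_2 (flp_b L798344) (flp_f L798315) L809771
theorem L809777 : sm gg N61877 = N61153 := ded_23_2 (flp_b L802611) (flp_g L798317) L809771
theorem L809779 : sm gj N61877 = N60995 := ded_24_2 (flp_b L800733) (flp_j L798319) L809771
theorem L809781 : sm gh N61877 = N60977 := ded_25_2 (flp_b L800469) (flp_h L798321) L809771
theorem L809783 : sm gi N61877 = N61206 := ded_26_2 (flp_b L803138) (flp_i L798323) L809771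
theorem L809785 : sm gc N61877 = N60839 := ded_19_2 (flp_b L798656) (flp_c L786546) (flp_b L786213) L798311 L809771
theorem L809787 : sm ge N60817 = N61878 := rfl
theorem L809789 : sm ga N61878 = N61002 := ded_13_1 (flp_e L800833) (flp_a L798313) L809787
theorem L809791 : sm gc N61878 = N60818 := ded_28_1 (flp_e L798327) L798311 L809787
theorem L809793 : sm gg N61878 = N61154 := ded_41_2 (flp_e L802623) (flp_g L798317) L809787
theorem L809795 : sm gj N61878 = N60996 := ded_42_2 (flp_e L800745) (flp_j L798319) L809787
theorem L809797 : sm gh N61878 = N60978 := ded_43_2 (flp_e L800483) (flp_h L798321) L809787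
theorem L809799 : sm gi N61878 = N61207 := ded_44_2 (flp_e L803148) (flp_i L798323) L809787
theorem L809801 : sm gf N61878 = N61082 := ded_40_2 (flp_e L801870) L789607 (flp_e L786229) (flp_f L798315) L809787
theorem L809803 : sm ga N60819 = N61879 := rfl
theorem L809805 : sm gc N61879 = N60841 := ded_11_2 (flp_a L798682) (flp_c L798356) L809803
theorem L809807 : sm ge N61879 = N61083 := ded_13_2 (flp_a L801880) (flp_e L798346) L809803
theorem L809809 : sm gg N61879 = N60822 := ded_15_2 (flp_a L798388) (flp_g L798348) L809803
theorem L809811 : sm gj N61879 = N60997 := ded_16_2 (flp_a L800759) (flp_j L798350) L809803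
theorem L809813 : sm gh N61879 = N60998 := ded_17_2 (flp_a L800773) (flp_h L798352) L809803
theorem L809815 : sm gi N61879 = N61208 := ded_18_2 (flp_a L803160) (flp_i L798354) L809803
theorem L809817 : sm gb N61879 = N61233 := ded_10_2 (flp_a L803450) (flp_b L791234) (flp_a L786227) L798344 L809803
theorem L809819 : sm ga N60820 = N61880 := rfl
theorem L809821 : sm gc N61880 = N61259 := ded_11_2 (flp_a L803747) (flp_c L798370) L809819
theorem L809823 : sm gd N61880 = N60822 := ded_12_2 (flp_a L798388) (flp_d L798360) L809819
theorem L809825 : sm gf N61880 = N61232 := ded_14_2 (flp_a L803434) (flp_f L798362) L809819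
theorem L809827 : sm gj N61880 = N60825 := ded_16_2 (flp_a L798434) (flp_j L798364) L809819
theorem L809829 : sm gh N61880 = N61686 := ded_17_2 (flp_a L807578) (flp_h L798366) L809819
theorem L809831 : sm gi N61880 = N61226 := ded_18_2 (flp_a L803366) (flp_i L798368) L809819
theorem L809833 : sm gb N61880 = N61234 := ded_10_2 (flp_a L803460) (flp_b L791244) (flp_a L786241) L798358 L809819
theorem L809835 : sm ge N60820 = N61881 := rfl
theorem L809837 : sm gb N61881 = N60821 := ded_21_1 (flp_e L798372) L798358 L809835
theorem L809839 : sm gc N61881 = N61260 := ded_28_1 (flp_e L803759) (flp_c L798370) L809835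
theorem L809841 : sm gj N61881 = N60826 := ded_42_2 (flp_e L798448) (flp_j L798364) L809835
theorem L809843 : sm gh N61881 = N61687 := ded_43_2 (flp_e L807584) (flp_h L798366) L809835
theorem L809845 : sm gi N61881 = N61227 := ded_44_2 (flp_e L803378) (flp_i L798368) L809835
theorem L809847 : sm gd N61881 = N61635 := ded_34_1 (flp_e L807232) L795284 (flp_e L786271) (flp_d L798360) L809835
theorem L809849 : sm gf N61881 = N61695 := ded_40_2 (flp_e L807644) L795854 (flp_e L791212) (flp_f L798362) L809835
theorem L809851 : sm ga N60823 = N61882 := rfl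
theorem L809853 : sm gc N61882 = N61250 := ded_11_2 (flp_a L803650) (flp_c L798416) L809851
theorem L809855 : sm gd N61882 = N61222 := ded_12_2 (flp_a L803323) (flp_d L798404) L809851
theorem L809857 : sm gf N61882 = N61221 := ded_14_2 (flp_a L803305) (flp_f L798406) L809851
theorem L809859 : sm gg N61882 = N61212 := ded_15_2 (flp_a L803202) (flp_g L798408) L809851
theorem L809861 : sm gj N61882 = N61686 := ded_16_2 (flp_a L807578) (flp_j L798410) L809851
theorem L809863 : sm gh N61882 = N60825 := ded_17_2 (flp_a L798434) (flp_h L798412) L809851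
theorem L809865 : sm gi N61882 = N61684 := ded_18_2 (flp_a L807566) (flp_i L798414) L809851
theorem L809867 : sm gb N61882 = N61236 := ded_10_2 (flp_a L803480) (flp_b L791268) (flp_a L786283) L798402 L809851
theorem L809869 : sm ge N60823 = N61883 := rfl
theorem L809871 : sm gb N61883 = N60824 := ded_21_1 (flp_e L798418) L798402 L809869
theorem L809873 : sm gc N61883 = N61251 := ded_28_1 (flp_e L803658) (flp_c L798416) L809869
theorem L809875 : sm gg N61883 = N61213 := ded_41_2 (flp_e L803210) (flp_g L798408) L809869
theorem L809877 : sm gj N61883 = N61687 := ded_42_2 (flp_e L807584) (flp_j L798410) L809869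
theorem L809879 : sm gh N61883 = N60826 := ded_43_2 (flp_e L798448) (flp_h L798412) L809869
theorem L809881 : sm gi N61883 = N61685 := ded_44_2 (flp_e L807572) (flp_i L798414) L809869
theorem L809883 : sm gf N61883 = N61701 := ded_40_2 (flp_e L807691) L795918 (flp_e L790998) (flp_f L798406) L809869
theorem L809885 : sm gd N60824 = N61884 := rfl
theorem L809887 : sm ga N61884 = N61238 := ded_12_1 (flp_d L803502) (flp_a L798420) L809885
theorem L809889 : sm gf N61884 = N61702 := ded_35_2 (flp_d L807701) (flp_f L798432) L809885
theorem L809891 : sm gg N61884 = N61214 := ded_36_2 (flp_d L803218) (flp_g L798424) L809885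
theorem L809893 : sm gj N61884 = N61688 := ded_37_2 (flp_d L807588) (flp_j L798426) L809885
theorem L809895 : sm gi N61884 = N61407 := ded_39_2 L805270 (flp_i L798430) L809885
theorem L809897 : sm gc N61884 = N61884 := ded_27_1 (flp_d L809885) L798422 L786311 (flp_c L798422) L809885
theorem L809898 : sm ge N61884 = N61224 := ded_34_2 (flp_d L803345) (flp_e L791020) (flp_d L786295) L798418 L809885
theorem L809900 : sm gh N61884 = N61625 := ded_38_2 (flp_d L807172) L795225 (flp_d L786336) (flp_h L798428) L809885
theorem L809902 : sm ge N60825 = N61885 := rfl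
theorem L809904 : sm ga N61885 = N60826 := ded_13_1 (flp_e L798448) L798434 L809902
theorem L809906 : sm gb N61885 = N61239 := ded_21_1 (flp_e L803515) (flp_b L798446) L809902
theorem L809908 : sm gc N61885 = N61262 := ded_28_1 (flp_e L803783) (flp_c L798436) L809902
theorem L809910 : sm gg N61885 = N61220 := ded_41_2 (flp_e L803293) (flp_g L798442) L809902
theorem L809912 : sm gi N61885 = N61228 := ded_44_2 (flp_e L803388) (flp_i L798444) L809902
theorem L809914 : sm gd N61885 = N61636 := ded_34_1 (flp_e L807238) L795296 (flp_e L786378) (flp_d L798438) L809902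
theorem L809916 : sm gf N61885 = N61703 := ded_40_2 (flp_e L807708) L795954 (flp_e L791228) (flp_f L798440) L809902
theorem L809918 : sm ge N60827 = N61886 := rfl
theorem L809920 : sm ga N61886 = N60828 := ded_13_1 (flp_e L798480) L798462 L809918
theorem L809922 : sm gb N61886 = N61228 := ded_21_1 (flp_e L803388) (flp_b L798478) L809918
theorem L809924 : sm gc N61886 = N60847 := ded_28_1 (flp_e L798780) (flp_c L798464) L809918
theorem L809926 : sm gg N61886 = N61205 := ded_41_2 (flp_e L803128) (flp_g L798470) L809918
theorem L809928 : sm gj N61886 = N61680 := ded_42_2 (flp_e L807542) (flp_j L798472) L809918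
theorem L809930 : sm gh N61886 = N61678 := ded_43_2 (flp_e L807528) (flp_h L798474) L809918
theorem L809932 : sm gi N61886 = N61239 := ded_44_2 (flp_e L803515) (flp_i L798476) L809918
theorem L809934 : sm gd N61886 = N61512 := ded_34_1 (flp_e L806216) L794152 (flp_e L791228) (flp_d L798466) L809918
theorem L809936 : sm gf N61886 = N60968 := ded_40_2 (flp_e L800349) L788184 (flp_e L786378) (flp_f L798468) L809918
theorem L809938 : sm ga N60829 = N61887 := rfl
theorem L809940 : sm gc N61887 = N61236 := ded_11_2 (flp_a L803480) (flp_c L798512) L809938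
theorem L809942 : sm gd N61887 = N61626 := ded_12_2 (flp_a L807181) (flp_d L798500) L809938
theorem L809944 : sm gf N61887 = N60831 := ded_14_2 (flp_a L798530) (flp_f L798502) L809938
theorem L809946 : sm gg N61887 = N61700 := ded_15_2 (flp_a L807679) (flp_g L798504) L809938
theorem L809948 : sm gj N61887 = N61670 := ded_16_2 (flp_a L807479) (flp_j L798506) L809938
theorem L809950 : sm gh N61887 = N60837 := ded_17_2 (flp_a L798624) (flp_h L798508) L809938
theorem L809952 : sm gi N61887 = N61503 := ded_18_2 (flp_a L806103) (flp_i L798510) L809938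
theorem L809954 : sm gb N61887 = N60880 := ded_10_2 (flp_a L799183) (flp_b L787017) (flp_a L786386) L798498 L809938
theorem L809956 : sm ge N60829 = N61888 := rfl
theorem L809958 : sm gb N61888 = N60830 := ded_21_1 (flp_e L798514) L798498 L809956
theorem L809960 : sm gc N61888 = N61237 := ded_28_1 (flp_e L803490) (flp_c L798512) L809956
theorem L809962 : sm gg N61888 = N61701 := ded_41_2 (flp_e L807691) (flp_g L798504) L809956
theorem L809964 : sm gj N61888 = N61671 := ded_42_2 (flp_e L807485) (flp_j L798506) L809956
theorem L809966 : sm gh N61888 = N60838 := ded_43_2 (flp_e L798640) (flp_h L798508) L809956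
theorem L809968 : sm gi N61888 = N61504 := ded_44_2 (flp_e L806119) (flp_i L798510) L809956
theorem L809970 : sm gf N61888 = N61344 := ded_40_2 (flp_e L804603) L792359 (flp_e L786421) (flp_f L798502) L809956
theorem L809972 : sm gd N60830 = N61889 := rfl
theorem L809974 : sm ga N61889 = N60882 := ded_12_1 (flp_d L799207) (flp_a L798516) L809972
theorem L809976 : sm gf N61889 = N61345 := ded_35_2 (flp_d L804615) (flp_f L798528) L809972
theorem L809978 : sm gg N61889 = N61702 := ded_36_2 (flp_d L807701) (flp_g L798520) L809972
theorem L809980 : sm gj N61889 = N61672 := ded_37_2 (flp_d L807493) (flp_j L798522) L809972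
theorem L809982 : sm gi N61889 = N61505 := ded_39_2 (flp_d L806133) (flp_i L798526) L809972
theorem L809984 : sm gc N61889 = N61889 := ded_27_1 (flp_d L809972) L798518 L786414 (flp_c L798518) L809972
theorem L809985 : sm ge N61889 = N61628 := ded_34_2 (flp_d L807193) (flp_e L795233) (flp_d L786398) L798514 L809972
theorem L809987 : sm gh N61889 = N61577 := ded_38_2 (flp_d L806806) L794799 (flp_d L786532) (flp_h L798524) L809972
theorem L809989 : sm ga N60833 = N61890 := rfl
theorem L809991 : sm gc N61890 = N61291 := ded_11_2 (flp_a L804105) (flp_c L798574) L809989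
theorem L809993 : sm gd N61890 = N61581 := ded_12_2 (flp_a L806843) (flp_d L798562) L809989
theorem L809995 : sm gf N61890 = N61288 := ded_14_2 (flp_a L804065) (flp_f L798564) L809989
theorem L809997 : sm gg N61890 = N61513 := ded_15_2 (flp_a L806222) (flp_g L798566) L809989
theorem L809999 : sm gj N61890 = N61737 := ded_16_2 (flp_a L807924) (flp_j L798568) L809989
theorem L810001 : sm gh N61890 = N60835 := ded_17_2 (flp_a L798592) (flp_h L798570) L809989
theorem L810003 : sm gi N61890 = N61555 := ded_18_2 (flp_a L806615) (flp_i L798572) L809989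
theorem L810005 : sm gb N61890 = N60908 := ded_10_2 (flp_a L799555) (flp_b L787357) (flp_a L786445) L798560 L809989
theorem L810007 : sm ge N60833 = N61891 := rfl
theorem L810009 : sm gb N61891 = N60834 := ded_21_1 (flp_e L798576) L798560 L810007
theorem L810011 : sm gc N61891 = N61292 := ded_28_1 (flp_e L804113) (flp_c L798574) L810007
theorem L810013 : sm gg N61891 = N61514 := ded_41_2 (flp_e L806228) (flp_g L798566) L810007
theorem L810015 : sm gj N61891 = N61738 := ded_42_2 (flp_e L807932) (flp_j L798568) L810007
theorem L810017 : sm gh N61891 = N60836 := ded_43_2 (flp_e L798608) (flp_h L798570) L810007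
theorem L810019 : sm gi N61891 = N61556 := ded_44_2 (flp_e L806625) (flp_i L798572) L810007
theorem L810021 : sm gf N61891 = N61726 := ded_40_2 (flp_e L807847) L796177 (flp_e L791840) (flp_f L798564) L810007
theorem L810023 : sm gd N60834 = N61892 := rfl
theorem L810025 : sm ga N61892 = N60910 := ded_12_1 (flp_d L799569) (flp_a L798578) L810023
theorem L810027 : sm gf N61892 = N61727 := ded_35_2 (flp_d L807855) (flp_f L798590) L810023
theorem L810029 : sm gg N61892 = N61515 := ded_36_2 (flp_d L806234) (flp_g L798582) L810023
theorem L810031 : sm gj N61892 = N61739 := ded_37_2 (flp_d L807940) (flp_j L798584) L810023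
theorem L810033 : sm gi N61892 = N61557 := ded_39_2 (flp_d L806633) (flp_i L798588) L810023
theorem L810035 : sm gc N61892 = N61892 := ded_27_1 (flp_d L810023) L798580 L786473 (flp_c L798580) L810023
theorem L810036 : sm ge N61892 = N61583 := ded_34_2 (flp_d L806857) (flp_e L794847) (flp_d L786457) L798576 L810023
theorem L810038 : sm gh N61892 = N61736 := ded_38_2 (flp_d L807919) L796248 (flp_d L786502) (flp_h L798586) L810023
theorem L810040 : sm ge N60835 = N61893 := rfl
theorem L810042 : sm ga N61893 = N60836 := ded_13_1 (flp_e L798608) L798592 L810040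
theorem L810044 : sm gb N61893 = N60913 := ded_21_1 (flp_e L799608) (flp_b L798606) L810040
theorem L810046 : sm gc N61893 = N61295 := ded_28_1 (flp_e L804144) (flp_c L798594) L810040
theorem L810048 : sm gg N61893 = N61516 := ded_41_2 (flp_e L806241) (flp_g L798600) L810040
theorem L810050 : sm gj N61893 = N61764 := ded_42_2 (flp_e L808112) (flp_j L798602) L810040
theorem L810052 : sm gi N61893 = N60842 := ded_44_2 (flp_e L798696) (flp_i L798604) L810040
theorem L810054 : sm gd N61893 = N61744 := ded_34_1 (flp_e L807973) L796312 (flp_e L786538) (flp_d L798596) L810040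
theorem L810056 : sm gf N61893 = N61728 := ded_40_2 (flp_e L807858) L796199 (flp_e L791856) (flp_f L798598) L810040
theorem L810058 : sm ge N60837 = N61894 := rfl
theorem L810060 : sm ga N61894 = N60838 := ded_13_1 (flp_e L798640) L798624 L810058
theorem L810062 : sm gb N61894 = N60919 := ded_21_1 (flp_e L799694) (flp_b L798638) L810058
theorem L810064 : sm gc N61894 = N61239 := ded_28_1 (flp_e L803515) (flp_c L798626) L810058
theorem L810066 : sm gg N61894 = N61703 := ded_41_2 (flp_e L807708) (flp_g L798632) L810058
theorem L810068 : sm gj N61894 = N61682 := ded_42_2 (flp_e L807556) (flp_j L798634) L810058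
theorem L810070 : sm gi N61894 = N60847 := ded_44_2 (flp_e L798780) (flp_i L798636) L810058
theorem L810072 : sm gd N61894 = N61579 := ded_34_1 (flp_e L806825) L794819 (flp_e L791856) (flp_d L798628) L810058
theorem L810074 : sm gf N61894 = N61376 := ded_40_2 (flp_e L804934) L792697 (flp_e L786538) (flp_f L798630) L810058
theorem L810076 : sm ga N60839 = N61895 := rfl
theorem L810078 : sm gd N61895 = N61451 := ded_12_2 (flp_a L805652) (flp_d L798658) L810076
theorem L810080 : sm gf N61895 = N60841 := ded_14_2 (flp_a L798682) (flp_f L798660) L810076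
theorem L810082 : sm gg N61895 = N61170 := ded_15_2 (flp_a L802809) (flp_g L798662) L810076
theorem L810084 : sm gj N61895 = N61522 := ded_16_2 (flp_a L806309) (flp_j L798664) L810076
theorem L810086 : sm gh N61895 = N61184 := ded_17_2 (flp_a L802930) (flp_h L798666) L810076
theorem L810088 : sm gb N61895 = N60929 := ded_10_2 (flp_a L799824) (flp_b L787602) (flp_a L786548) L798656 L810076
theorem L810090 : sm ge N60839 = N61896 := rfl
theorem L810092 : sm gb N61896 = N60840 := ded_21_1 (flp_e L798668) L798656 L810090
theorem L810094 : sm gg N61896 = N61171 := ded_41_2 (flp_e L802817) (flp_g L798662) L810090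
theorem L810096 : sm gj N61896 = N61523 := ded_42_2 (flp_e L806315) (flp_j L798664) L810090
theorem L810098 : sm gh N61896 = N61185 := ded_43_2 (flp_e L802938) (flp_h L798666) L810090
theorem L810100 : sm gf N61896 = N61665 := ded_40_2 (flp_e L807442) L795546 (flp_e L786577) (flp_f L798660) L810090
theorem L810102 : sm gd N60840 = N61897 := rfl
theorem L810104 : sm ga N61897 = N60931 := ded_12_1 (flp_d L799844) (flp_a L798670) L810102
theorem L810106 : sm gf N61897 = N61666 := ded_35_2 (flp_d L807450) (flp_f L798680) L810102
theorem L810108 : sm gg N61897 = N61172 := ded_36_2 (flp_d L802823) (flp_g L798674) L810102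
theorem L810110 : sm gj N61897 = N61524 := ded_37_2 (flp_d L806321) (flp_j L798676) L810102
theorem L810112 : sm gc N61897 = N61897 := ded_27_1 (flp_d L810102) L798672 L786570 (flp_c L798672) L810102
theorem L810113 : sm ge N61897 = N61453 := ded_34_2 (flp_d L805668) (flp_e L793371) (flp_d L786558) L798668 L810102
theorem L810115 : sm ga N60843 = N61898 := rfl
theorem L810117 : sm gc N61898 = N61015 := ded_11_2 (flp_a L801004) (flp_c L798728) L810115
theorem L810119 : sm gd N61898 = N61393 := ded_12_2 (flp_a L805123) (flp_d L798716) L810115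
theorem L810121 : sm gf N61898 = N61201 := ded_14_2 (flp_a L803070) (flp_f L798718) L810115
theorem L810123 : sm gg N61898 = N61145 := ded_15_2 (flp_a L802527) (flp_g L798720) L810115
theorem L810125 : sm gj N61898 = N60845 := ded_16_2 (flp_a L798748) (flp_j L798722) L810115
theorem L810127 : sm gh N61898 = N61013 := ded_17_2 (flp_a L800980) (flp_h L798724) L810115
theorem L810129 : sm gi N61898 = N61694 := ded_18_2 (flp_a L807634) (flp_i L798726) L810115
theorem L810131 : sm gb N61898 = N60966 := ded_10_2 (flp_a L800329) (flp_b L788162) (flp_a L786633) L798714 L810115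
theorem L810133 : sm ge N60843 = N61899 := rfl
theorem L810135 : sm gb N61899 = N60844 := ded_21_1 (flp_e L798730) L798714 L810133
theorem L810137 : sm gc N61899 = N61016 := ded_28_1 (flp_e L801020) (flp_c L798728) L810133
theorem L810139 : sm gg N61899 = N61146 := ded_41_2 (flp_e L802537) (flp_g L798720) L810133
theorem L810141 : sm gj N61899 = N60846 := ded_42_2 (flp_e L798764) (flp_j L798722) L810133
theorem L810143 : sm gh N61899 = N61014 := ded_43_2 (flp_e L800990) (flp_h L798724) L810133
theorem L810145 : sm gi N61899 = N61695 := ded_44_2 (flp_e L807644) (flp_i L798726) L810133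
theorem L810147 : sm gd N61899 = N60935 := ded_34_1 (flp_e L799897) L787664 (flp_e L792871) (flp_d L798716) L810133
theorem L810149 : sm gf N61899 = N61227 := ded_40_2 (flp_e L803378) L791130 (flp_e L790718) (flp_f L798718) L810133
theorem L810151 : sm ge N60845 = N61900 := rfl
theorem L810153 : sm ga N61900 = N60846 := ded_13_1 (flp_e L798764) L798748 L810151
theorem L810155 : sm gb N61900 = N60968 := ded_21_1 (flp_e L800349) (flp_b L798762) L810151
theorem L810157 : sm gc N61900 = N61205 := ded_28_1 (flp_e L803128) (flp_c L798750) L810151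
theorem L810159 : sm gg N61900 = N60847 := ded_41_2 (flp_e L798780) (flp_g L798756) L810151
theorem L810161 : sm gh N61900 = N61676 := ded_43_2 (flp_e L807514) (flp_h L798758) L810151
theorem L810163 : sm gi N61900 = N61703 := ded_44_2 (flp_e L807708) (flp_i L798760) L810151
theorem L810165 : sm gd N61900 = N60955 := ded_34_1 (flp_e L800175) L787974 L793315 (flp_d L798752) L810151
theorem L810167 : sm gf N61900 = N61228 := ded_40_2 (flp_e L803388) L791152 (flp_e L790760) (flp_f L798754) L810151
theorem L810169 : sm gb N60848 = N61901 := rfl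
theorem L810171 : sm gd N61901 = N61303 := ded_20_2 (flp_b L804214) (flp_d L798808) L810169
theorem L810173 : sm gf N61901 = N61559 := ded_22_2 (flp_b L806648) (flp_f L798798) L810169
theorem L810175 : sm gg N61901 = N61328 := ded_23_2 (flp_b L804470) (flp_g L798800) L810169
theorem L810177 : sm gj N61901 = N60866 := ded_24_2 (flp_b L799045) (flp_j L798802) L810169
theorem L810179 : sm gh N61901 = N61332 := ded_25_2 (flp_b L804522) (flp_h L798804) L810169
theorem L810181 : sm gi N61901 = N61312 := ded_26_2 (flp_b L804301) (flp_i L798806) L810169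
theorem L810183 : sm gc N61901 = N60855 := ded_19_2 (flp_b L798900) (flp_c L786780) (flp_b L786723) L798794 L810169
theorem L810185 : sm ge N60848 = N61902 := rfl
theorem L810187 : sm ga N61902 = N61085 := ded_13_1 (flp_e L801902) (flp_a L798796) L810185
theorem L810189 : sm gc N61902 = N60849 := ded_28_1 (flp_e L798810) L798794 L810185
theorem L810191 : sm gg N61902 = N61329 := ded_41_2 (flp_e L804484) (flp_g L798800) L810185
theorem L810193 : sm gj N61902 = N60867 := ded_42_2 (flp_e L799055) (flp_j L798802) L810185
theorem L810195 : sm gh N61902 = N61333 := ded_43_2 (flp_e L804532) (flp_h L798804) L810185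
theorem L810197 : sm gi N61902 = N61313 := ded_44_2 (flp_e L804311) (flp_i L798806) L810185
theorem L810199 : sm gf N60849 = N61903 := rfl
theorem L810201 : sm ga N61903 = N61086 := ded_14_1 (flp_f L801910) (flp_a L798812) L810199
theorem L810203 : sm gb N61903 = N60857 := ded_22_1 (flp_f L798924) (flp_b L798814) L810199
theorem L810205 : sm gd N61903 = N60850 := ded_35_1 (flp_f L798826) (flp_d L798824) L810199
theorem L810207 : sm gj N61903 = N60868 := ded_46_2 (flp_f L799063) (flp_j L798818) L810199
theorem L810209 : sm gh N61903 = N61334 := ded_47_2 (flp_f L804540) (flp_h L798820) L810199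
theorem L810211 : sm gi N61903 = N61314 := ded_48_2 (flp_f L804323) (flp_i L798822) L810199
theorem L810213 : sm ge N61903 = N61561 := ded_40_1 (flp_f L806664) (flp_e L794652) (flp_f L786725) L798810 L810199
theorem L810215 : sm gb N60851 = N61904 := rfl
theorem L810217 : sm gd N61904 = N60890 := ded_20_2 (flp_b L799311) (flp_d L798852) L810215
theorem L810219 : sm gf N61904 = N61464 := ded_22_2 L805750 (flp_f L798842) L810215
theorem L810221 : sm gg N61904 = N61319 := ded_23_2 (flp_b L804391) (flp_g L798844) L810215
theorem L810223 : sm gj N61904 = N60870 := ded_24_2 (flp_b L799081) (flp_j L798846) L810215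
theorem L810225 : sm gh N61904 = N60855 := ded_25_2 (flp_b L798900) (flp_h L798848) L810215
theorem L810227 : sm gi N61904 = N61467 := ded_26_2 L805782 (flp_i L798850) L810215
theorem L810229 : sm gc N61904 = N61332 := ded_19_2 (flp_b L804522) (flp_c L792303) (flp_b L786752) L798838 L810215
theorem L810231 : sm ge N60851 = N61905 := rfl
theorem L810233 : sm ga N61905 = N61570 := ded_13_1 (flp_e L806749) (flp_a L798840) L810231
theorem L810235 : sm gc N61905 = N60852 := ded_28_1 (flp_e L798854) L798838 L810231
theorem L810237 : sm gg N61905 = N61320 := ded_41_2 (flp_e L804401) (flp_g L798844) L810231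
theorem L810239 : sm gj N61905 = N60871 := ded_42_2 (flp_e L799091) (flp_j L798846) L810231
theorem L810241 : sm gh N61905 = N60856 := ded_43_2 (flp_e L798910) (flp_h L798848) L810231
theorem L810243 : sm gi N61905 = N61468 := ded_44_2 (flp_e L805792) (flp_i L798850) L810231
theorem L810245 : sm gf N60852 = N61906 := rfl
theorem L810247 : sm ga N61906 = N61489 := ded_14_1 L805972 (flp_a L798856) L810245
theorem L810249 : sm gb N61906 = N61334 := ded_22_1 (flp_f L804540) (flp_b L798858) L810245
theorem L810251 : sm gd N61906 = N61906 := ded_35_1 (flp_f L810245) L798868 L810245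
theorem L810252 : sm gj N61906 = N60872 := ded_46_2 (flp_f L799103) (flp_j L798862) L810245
theorem L810254 : sm gh N61906 = N60857 := ded_47_2 (flp_f L798924) (flp_h L798864) L810245
theorem L810256 : sm gi N61906 = N61200 := ded_48_2 L803068 (flp_i L798866) L810245
theorem L810258 : sm ge N61906 = N61199 := ded_40_1 (flp_f L803045) L790688 (flp_f L786754) L798854 L810245
theorem L810260 : sm gb N60853 = N61907 := rfl
theorem L810262 : sm gd N61907 = N60861 := ded_20_2 (flp_b L798977) (flp_d L798883) L810260
theorem L810264 : sm gf N61907 = N60855 := ded_22_2 (flp_b L798900) (flp_f L798873) L810260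
theorem L810266 : sm gg N61907 = N61565 := ded_23_2 (flp_b L806695) (flp_g L798875) L810260
theorem L810268 : sm gj N61907 = N60873 := ded_24_2 (flp_b L799114) (flp_j L798877) L810260
theorem L810270 : sm gh N61907 = N61464 := ded_25_2 L805750 (flp_h L798879) L810260
theorem L810272 : sm gi N61907 = N61528 := ded_26_2 (flp_b L806352) (flp_i L798881) L810260
theorem L810274 : sm gc N61907 = N61559 := ded_19_2 (flp_b L806648) (flp_c L794644) (flp_b L786768) L798869 L810260
theorem L810276 : sm ge N60853 = N61908 := rfl
theorem L810278 : sm ga N61908 = N61599 := ded_13_1 (flp_e L806964) (flp_a L798871) L810276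
theorem L810280 : sm gc N61908 = N60854 := ded_28_1 (flp_e L798885) L798869 L810276
theorem L810282 : sm gg N61908 = N61566 := ded_41_2 (flp_e L806705) (flp_g L798875) L810276
theorem L810284 : sm gj N61908 = N60874 := ded_42_2 (flp_e L799124) (flp_j L798877) L810276
theorem L810286 : sm gh N61908 = N61176 := ded_43_2 L802862 (flp_h L798879) L810276
theorem L810288 : sm gi N61908 = N61529 := ded_44_2 (flp_e L806362) (flp_i L798881) L810276
theorem L810290 : sm gf N60854 = N61909 := rfl
theorem L810292 : sm ga N61909 = N61387 := ded_14_1 L805056 (flp_a L798887) L810290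
theorem L810294 : sm gb N61909 = N61561 := ded_22_1 (flp_f L806664) (flp_b L798889) L810290
theorem L810296 : sm gd N61909 = N61909 := ded_35_1 (flp_f L810290) L798899 L810290
theorem L810297 : sm gj N61909 = N60875 := ded_46_2 (flp_f L799134) (flp_j L798893) L810290
theorem L810299 : sm gh N61909 = N61199 := ded_47_2 (flp_f L803045) (flp_h L798895) L810290
theorem L810301 : sm gi N61909 = N61266 := ded_48_2 L803829 (flp_i L798897) L810290
theorem L810303 : sm ge N61909 = N60857 := ded_40_1 (flp_f L798924) (flp_e L786792) (flp_f L786770) L798885 L810290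
theorem L810305 : sm ga N60855 = N61910 := rfl
theorem L810307 : sm gd N61910 = N60863 := ded_12_2 (flp_a L799001) (flp_d L798902) L810305
theorem L810309 : sm gg N61910 = N61742 := ded_15_2 (flp_a L807955) (flp_g L798904) L810305
theorem L810311 : sm gj N61910 = N60876 := ded_16_2 (flp_a L799145) (flp_j L798906) L810305
theorem L810313 : sm gi N61910 = N61530 := ded_18_2 (flp_a L806372) (flp_i L798908) L810305
theorem L810315 : sm gb N61910 = N61603 := ded_10_2 (flp_a L806999) (flp_b L795023) (flp_a L786782) L798900 L810305
theorem L810317 : sm ge N60855 = N61911 := rfl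
theorem L810319 : sm gb N61911 = N60856 := ded_21_1 (flp_e L798910) L798900 L810317
theorem L810321 : sm gg N61911 = N61743 := ded_41_2 (flp_e L807963) (flp_g L798904) L810317
theorem L810323 : sm gj N61911 = N60877 := ded_42_2 (flp_e L799155) (flp_j L798906) L810317
theorem L810325 : sm gi N61911 = N61531 := ded_44_2 (flp_e L806384) (flp_i L798908) L810317
theorem L810327 : sm gd N61911 = N61762 := ded_34_1 (flp_e L808096) (flp_d L797008) L797010 (flp_d L798902) L810317
theorem L810329 : sm gf N60856 = N61912 := rfl
theorem L810331 : sm ga N61912 = N61605 := ded_14_1 (flp_f L807013) (flp_a L798912) L810329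
theorem L810333 : sm gc N61912 = N60857 := ded_29_1 (flp_f L798924) (flp_c L798914) L810329
theorem L810335 : sm gd N61912 = N61760 := ded_35_1 L808088 (flp_d L798922) L810329
theorem L810337 : sm gj N61912 = N60878 := ded_46_2 (flp_f L799163) (flp_j L798918) L810329
theorem L810339 : sm gi N61912 = N61532 := ded_48_2 (flp_f L806396) (flp_i L798920) L810329
theorem L810341 : sm gg N60857 = N61913 := rfl
theorem L810343 : sm ga N61913 = N61606 := ded_15_1 (flp_g L807021) (flp_a L798926) L810341
theorem L810345 : sm gd N61913 = N60858 := ded_36_1 (flp_g L798934) (flp_d L798928) L810341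
theorem L810347 : sm gi N61913 = N61533 := ded_51_2 (flp_g L806408) (flp_i L798932) L810341
theorem L810349 : sm gf N61913 = N60869 := ded_45_1 L799075 L794600 (flp_g L786796) L798924 L810341
theorem L810351 : sm gb N60859 = N61914 := rfl
theorem L810353 : sm gd N61914 = N61565 := ded_20_2 (flp_b L806695) (flp_d L798960) L810351
theorem L810355 : sm gf N61914 = N61358 := ded_22_2 (flp_b L804744) (flp_f L798950) L810351
theorem L810357 : sm gg N61914 = N60861 := ded_23_2 (flp_b L798977) (flp_g L798952) L810351
theorem L810359 : sm gj N61914 = N61350 := ded_24_2 (flp_b L804655) (flp_j L798954) L810351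
theorem L810361 : sm gh N61914 = N60895 := ded_25_2 (flp_b L799371) (flp_h L798956) L810351
theorem L810363 : sm gi N61914 = N61047 := ded_26_2 (flp_b L801446) (flp_i L798958) L810351
theorem L810365 : sm gc N61914 = N61307 := ded_19_2 (flp_b L804262) (flp_c L792080) (flp_b L786820) L798946 L810351
theorem L810367 : sm ge N60859 = N61915 := rfl
theorem L810369 : sm ga N61915 = N61121 := ded_13_1 (flp_e L802297) (flp_a L798948) L810367
theorem L810371 : sm gc N61915 = N60860 := ded_28_1 (flp_e L798962) L798946 L810367
theorem L810373 : sm gg N61915 = N60862 := ded_41_2 (flp_e L798989) (flp_g L798952) L810367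
theorem L810375 : sm gj N61915 = N61351 := ded_42_2 (flp_e L804667) (flp_j L798954) L810367
theorem L810377 : sm gh N61915 = N60896 := ded_43_2 (flp_e L799383) (flp_h L798956) L810367
theorem L810379 : sm gi N61915 = N61048 := ded_44_2 (flp_e L801456) (flp_i L798958) L810367
theorem L810381 : sm gf N60860 = N61916 := rfl
theorem L810383 : sm ga N61916 = N61122 := ded_14_1 (flp_f L802307) (flp_a L798964) L810381
theorem L810385 : sm gb N61916 = N61197 := ded_22_1 L803027 (flp_b L798966) L810381
theorem L810387 : sm gd N61916 = N61916 := ded_35_1 (flp_f L810381) L798976 L810381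
theorem L810388 : sm gj N61916 = N61136 := ded_46_2 L802426 (flp_j L798970) L810381
theorem L810390 : sm gh N61916 = N60897 := ded_47_2 (flp_f L799397) (flp_h L798972) L810381
theorem L810392 : sm gi N61916 = N61049 := ded_48_2 (flp_f L801468) (flp_i L798974) L810381
theorem L810394 : sm ge N61916 = N61178 := ded_40_1 L802878 (flp_e L792517) (flp_f L786822) L798962 L810381
theorem L810396 : sm gg N61916 = N61169 := ded_45_2 (flp_f L802802) (flp_g L796995) L797004 (flp_g L798968) L810381
theorem L810398 : sm ga N60861 = N61917 := rfl
theorem L810400 : sm gc N61917 = N61309 := ded_11_2 (flp_a L804280) (flp_c L798987) L810398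
theorem L810402 : sm gf N61917 = N60863 := ded_14_2 (flp_a L799001) (flp_f L798979) L810398
theorem L810404 : sm gj N61917 = N60880 := ded_16_2 (flp_a L799183) (flp_j L798981) L810398
theorem L810406 : sm gh N61917 = N60898 := ded_17_2 (flp_a L799409) (flp_h L798983) L810398
theorem L810408 : sm gi N61917 = N61664 := ded_18_2 (flp_a L807432) (flp_i L798985) L810398
theorem L810410 : sm gb N61917 = N61670 := ded_10_2 (flp_a L807479) (flp_b L795608) (flp_a L786834) L798977 L810398
theorem L810412 : sm ge N60861 = N61918 := rfl
theorem L810414 : sm gb N61918 = N60862 := ded_21_1 (flp_e L798989) L798977 L810412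
theorem L810416 : sm gc N61918 = N61310 := ded_28_1 (flp_e L804288) (flp_c L798987) L810412
theorem L810418 : sm gj N61918 = N60881 := ded_42_2 (flp_e L799195) (flp_j L798981) L810412
theorem L810420 : sm gh N61918 = N60899 := ded_43_2 (flp_e L799423) (flp_h L798983) L810412
theorem L810422 : sm gi N61918 = N61665 := ded_44_2 (flp_e L807442) (flp_i L798985) L810412
theorem L810424 : sm gd N60862 = N61919 := rfl
theorem L810426 : sm ga N61919 = N61672 := ded_12_1 (flp_d L807493) (flp_a L798991) L810424
theorem L810428 : sm gj N61919 = N60882 := ded_37_2 (flp_d L799207) (flp_j L798995) L810424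
theorem L810430 : sm gi N61919 = N61666 := ded_39_2 (flp_d L807450) (flp_i L798999) L810424
theorem L810432 : sm gc N61919 = N61919 := ded_27_1 (flp_d L810424) L798993 L786856 (flp_c L798993) L810424
theorem L810433 : sm gb N60864 = N61920 := rfl
theorem L810435 : sm gd N61920 = N61312 := ded_20_2 (flp_b L804301) (flp_d L799027) L810433
theorem L810437 : sm gf N61920 = N61731 := ded_22_2 (flp_b L807880) (flp_f L799017) L810433
theorem L810439 : sm gg N61920 = N61368 := ded_23_2 (flp_b L804840) (flp_g L799019) L810433
theorem L810441 : sm gj N61920 = N61084 := ded_24_2 (flp_b L801892) (flp_j L799021) L810433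
theorem L810443 : sm gh N61920 = N61448 := ded_25_2 (flp_b L805629) (flp_h L799023) L810433
theorem L810445 : sm gi N61920 = N61303 := ded_26_2 (flp_b L804214) (flp_i L799025) L810433
theorem L810447 : sm gc N61920 = N61080 := ded_19_2 (flp_b L801848) (flp_c L789593) (flp_b L786873) L799013 L810433
theorem L810449 : sm ge N60864 = N61921 := rfl
theorem L810451 : sm ga N61921 = N60867 := ded_13_1 (flp_e L799055) (flp_a L799015) L810449
theorem L810453 : sm gc N61921 = N60865 := ded_28_1 (flp_e L799029) L799013 L810449
theorem L810455 : sm gg N61921 = N60894 := ded_41_2 L799369 (flp_g L799019) L810449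
theorem L810457 : sm gj N61921 = N61085 := ded_42_2 (flp_e L801902) (flp_j L799021) L810449
theorem L810459 : sm gh N61921 = N61449 := ded_43_2 (flp_e L805637) (flp_h L799023) L810449
theorem L810461 : sm gi N61921 = N60939 := ded_44_2 L799951 (flp_i L799025) L810449
theorem L810463 : sm ga N60866 = N61922 := rfl
theorem L810465 : sm gc N61922 = N60876 := ded_11_2 (flp_a L799145) (flp_c L799053) L810463
theorem L810467 : sm gd N61922 = N61322 := ded_12_2 (flp_a L804420) (flp_d L799047) L810463
theorem L810469 : sm gg N61922 = N61552 := ded_15_2 (flp_a L806579) (flp_g L799049) L810463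
theorem L810471 : sm gi N61922 = N61539 := ded_18_2 (flp_a L806466) (flp_i L799051) L810463
theorem L810473 : sm ge N60866 = N61923 := rfl
theorem L810475 : sm gb N61923 = N60867 := ded_21_1 (flp_e L799055) L799045 L810473
theorem L810477 : sm gc N61923 = N60877 := ded_28_1 (flp_e L799155) (flp_c L799053) L810473
theorem L810479 : sm gg N61923 = N61553 := ded_41_2 (flp_e L806591) (flp_g L799049) L810473
theorem L810481 : sm gi N61923 = N61540 := ded_44_2 (flp_e L806474) (flp_i L799051) L810473
theorem L810483 : sm gd N60867 = N61924 := rfl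
theorem L810485 : sm gg N61924 = N61554 := ded_36_2 (flp_d L806603) (flp_g L799059) L810483
theorem L810487 : sm gi N61924 = N61541 := ded_39_2 (flp_d L806484) (flp_i L799061) L810483
theorem L810489 : sm gc N61924 = N60869 := ded_27_1 (flp_d L799073) L786918 (flp_d L786914) (flp_c L799057) L810483
theorem L810491 : sm ge N61924 = N61324 := ded_34_2 (flp_d L804434) (flp_e L792207) (flp_d L786904) L799055 L810483
theorem L810493 : sm gf N60867 = N61925 := rfl
theorem L810495 : sm gc N61925 = N60868 := ded_29_1 (flp_f L799063) (flp_c L799057) L810493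
theorem L810497 : sm gi N61925 = N61542 := ded_48_2 (flp_f L806490) (flp_i L799061) L810493
theorem L810499 : sm gg N61925 = N61760 := ded_45_2 L808088 L796509 (flp_f L794596) (flp_g L799059) L810493
theorem L810501 : sm gh N60869 = N61926 := rfl
theorem L810503 : sm gb N61926 = N61339 := ded_25_1 L808498 L808488 L810501
theorem L810505 : sm ge N61926 = N61326 := ded_43_1 L804452 (flp_e L799079) L810501
theorem L810507 : sm gg N61926 = N61321 := ded_50_1 L804416 (flp_g L799075) L810501
theorem L810509 : sm gj N61926 = N61500 := ded_52_1 (flp_h L809196) L809200 L810501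
theorem L810511 : sm gd N61926 = N61926 := ded_38_1 (flp_h L810501) (flp_d L799073) L786922 L799073 L810501
theorem L810512 : sm ga N60870 = N61927 := rfl
theorem L810514 : sm gd N61927 = N60908 := ded_12_2 (flp_a L799555) (flp_d L799083) L810512
theorem L810516 : sm gg N61927 = N61555 := ded_15_2 (flp_a L806615) (flp_g L799085) L810512
theorem L810518 : sm gh N61927 = N60876 := ded_17_2 (flp_a L799145) (flp_h L799087) L810512
theorem L810520 : sm gi N61927 = N61513 := ded_18_2 (flp_a L806222) (flp_i L799089) L810512
theorem L810522 : sm gb N61927 = N61581 := ded_10_2 (flp_a L806843) (flp_b L794841) (flp_a L786937) L799081 L810512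
theorem L810524 : sm ge N60870 = N61928 := rfl
theorem L810526 : sm gb N61928 = N60871 := ded_21_1 (flp_e L799091) L799081 L810524
theorem L810528 : sm gg N61928 = N61556 := ded_41_2 (flp_e L806625) (flp_g L799085) L810524
theorem L810530 : sm gh N61928 = N60877 := ded_43_2 (flp_e L799155) (flp_h L799087) L810524
theorem L810532 : sm gi N61928 = N61514 := ded_44_2 (flp_e L806228) (flp_i L799089) L810524
theorem L810534 : sm gd N60871 = N61929 := rfl
theorem L810536 : sm ga N61929 = N61583 := ded_12_1 (flp_d L806857) (flp_a L799093) L810534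
theorem L810538 : sm gg N61929 = N61557 := ded_36_2 (flp_d L806633) (flp_g L799097) L810534
theorem L810540 : sm gi N61929 = N61515 := ded_39_2 (flp_d L806234) (flp_i L799101) L810534
theorem L810542 : sm gc N61929 = N61929 := ded_27_1 (flp_d L810534) L799095 L786957 (flp_c L799095) L810534
theorem L810543 : sm ge N61929 = N60910 := ded_34_2 (flp_d L799569) (flp_e L787363) (flp_d L786945) L799091 L810534
theorem L810545 : sm gf N60871 = N61930 := rfl
theorem L810547 : sm ga N61930 = N61477 := ded_14_1 L805878 (flp_a L799093) L810545
theorem L810549 : sm gc N61930 = N60872 := ded_29_1 (flp_f L799103) (flp_c L799095) L810545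
theorem L810551 : sm gh N61930 = N60878 := ded_47_2 (flp_f L799163) (flp_h L799099) L810545
theorem L810553 : sm gi N61930 = N61297 := ded_48_2 L804172 (flp_i L799101) L810545
theorem L810555 : sm ge N61930 = N61300 := ded_40_1 L809358 (flp_e L809342) L797801 L799091 L810545
theorem L810557 : sm ga N60873 = N61931 := rfl
theorem L810559 : sm gd N61931 = N60880 := ded_12_2 (flp_a L799183) (flp_d L799116) L810557
theorem L810561 : sm gf N61931 = N60876 := ded_14_2 (flp_a L799145) (flp_f L799118) L810557
theorem L810563 : sm gg N61931 = N61718 := ded_15_2 (flp_a L807798) (flp_g L799120) L810557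
theorem L810565 : sm gi N61931 = N61545 := ded_18_2 (flp_a L806516) (flp_i L799122) L810557
theorem L810567 : sm gb N61931 = N61626 := ded_10_2 (flp_a L807181) (flp_b L795227) (flp_a L786960) L799114 L810557
theorem L810569 : sm ge N60873 = N61932 := rfl
theorem L810571 : sm gb N61932 = N60874 := ded_21_1 (flp_e L799124) L799114 L810569
theorem L810573 : sm gg N61932 = N61719 := ded_41_2 (flp_e L807806) (flp_g L799120) L810569
theorem L810575 : sm gi N61932 = N61546 := ded_44_2 (flp_e L806528) (flp_i L799122) L810569
theorem L810577 : sm gd N60874 = N61933 := rfl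
theorem L810579 : sm ga N61933 = N61628 := ded_12_1 (flp_d L807193) (flp_a L799126) L810577
theorem L810581 : sm gg N61933 = N61720 := ded_36_2 (flp_d L807812) (flp_g L799130) L810577
theorem L810583 : sm gi N61933 = N61547 := ded_39_2 (flp_d L806536) (flp_i L799132) L810577
theorem L810585 : sm gc N61933 = N61933 := ded_27_1 (flp_d L810577) L799128 L786978 (flp_c L799128) L810577
theorem L810586 : sm ge N61933 = N60882 := ded_34_2 (flp_d L799207) (flp_e L787029) (flp_d L786968) L799124 L810577
theorem L810588 : sm gf N60874 = N61934 := rfl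
theorem L810590 : sm ga N61934 = N61382 := ded_14_1 L805004 (flp_a L799126) L810588
theorem L810592 : sm gc N61934 = N60875 := ded_29_1 (flp_f L799134) (flp_c L799128) L810588
theorem L810594 : sm gh N61934 = N61300 := ded_47_2 L809358 L809352 L810588
theorem L810596 : sm gi N61934 = N61264 := ded_48_2 L803811 (flp_i L799132) L810588
theorem L810598 : sm ge N61934 = N60878 := ded_40_1 (flp_f L799163) (flp_e L786987) (flp_f L786962) L799124 L810588
theorem L810600 : sm ge N60876 = N61935 := rfl
theorem L810602 : sm ga N61935 = N60877 := ded_13_1 (flp_e L799155) L799145 L810600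
theorem L810604 : sm gb N61935 = N61631 := ded_21_1 (flp_e L807208) (flp_b L799153) L810600
theorem L810606 : sm gg N61935 = N61558 := ded_41_2 (flp_e L806640) (flp_g L799149) L810600
theorem L810608 : sm gi N61935 = N61548 := ded_44_2 (flp_e L806547) (flp_i L799151) L810600
theorem L810610 : sm gf N60877 = N61936 := rfl
theorem L810612 : sm gb N61936 = N60878 := ded_22_1 (flp_f L799163) (flp_b L799157) L810610
theorem L810614 : sm gi N61936 = N61549 := ded_48_2 (flp_f L806557) (flp_i L799161) L810610
theorem L810616 : sm gg N60878 = N61937 := rfl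
theorem L810618 : sm ga N61937 = N61424 := ded_15_1 L805435 (flp_a L799165) L810616
theorem L810620 : sm gc N61937 = N60879 := ded_30_1 (flp_g L799171) (flp_c L799167) L810616
theorem L810622 : sm gi N61937 = N61497 := ded_51_2 L806050 (flp_i L799169) L810616
theorem L810624 : sm gf N61937 = N61277 := ded_45_1 L803959 L791762 (flp_g L786993) L799163 L810616
theorem L810626 : sm ge N60880 = N61938 := rfl
theorem L810628 : sm ga N61938 = N60881 := ded_13_1 (flp_e L799195) L799183 L810626
theorem L810630 : sm gc N61938 = N61346 := ded_28_1 (flp_e L804622) (flp_c L799185) L810626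
theorem L810632 : sm gg N61938 = N61721 := ded_41_2 (flp_e L807819) (flp_g L799189) L810626
theorem L810634 : sm gh N61938 = N60919 := ded_43_2 (flp_e L799694) (flp_h L799191) L810626
theorem L810636 : sm gi N61938 = N61747 := ded_44_2 (flp_e L807991) (flp_i L799193) L810626
theorem L810638 : sm gd N60881 = N61939 := rfl
theorem L810640 : sm gb N61939 = N60882 := ded_20_1 (flp_d L799207) (flp_b L799197) L810638
theorem L810642 : sm gg N61939 = N61722 := ded_36_2 (flp_d L807825) (flp_g L799201) L810638
theorem L810644 : sm gi N61939 = N61748 := ded_39_2 (flp_d L807997) (flp_i L799205) L810638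
theorem L810646 : sm gh N60882 = N61940 := rfl
theorem L810648 : sm ga N61940 = N61577 := ded_17_1 (flp_h L809987) L809974 L810646
theorem L810650 : sm gc N61940 = N61940 := ded_32_1 (flp_h L810646) L799213 L810646
theorem L810651 : sm gg N61940 = N61442 := ded_50_1 L805576 (flp_g L799209) L810646
theorem L810653 : sm gd N61940 = N60921 := ded_38_1 (flp_h L799714) (flp_d L787512) (flp_h L787035) L799207 L810646
theorem L810655 : sm gb N60883 = N61941 := rfl
theorem L810657 : sm gd N61941 = N61289 := ded_20_2 (flp_b L804079) (flp_d L799228) L810655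
theorem L810659 : sm gf N61941 = N60895 := ded_22_2 (flp_b L799371) (flp_f L799218) L810655
theorem L810661 : sm gg N61941 = N60885 := ded_23_2 (flp_b L799245) (flp_g L799220) L810655
theorem L810663 : sm gj N61941 = N61307 := ded_24_2 (flp_b L804262) (flp_j L799222) L810655
theorem L810665 : sm gh N61941 = N61358 := ded_25_2 (flp_b L804744) (flp_h L799224) L810655
theorem L810667 : sm gi N61941 = N60926 := ded_26_2 (flp_b L799787) (flp_i L799226) L810655
theorem L810669 : sm gc N61941 = N61350 := ded_19_2 (flp_b L804655) (flp_c L792408) (flp_b L787053) L799214 L810655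
theorem L810671 : sm ge N60883 = N61942 := rfl
theorem L810673 : sm ga N61942 = N61168 := ded_13_1 (flp_e L802796) (flp_a L799216) L810671
theorem L810675 : sm gc N61942 = N60884 := ded_28_1 (flp_e L799230) L799214 L810671
theorem L810677 : sm gg N61942 = N60886 := ded_41_2 (flp_e L799257) (flp_g L799220) L810671
theorem L810679 : sm gj N61942 = N61308 := ded_42_2 (flp_e L804272) (flp_j L799222) L810671
theorem L810681 : sm gh N61942 = N61359 := ded_43_2 (flp_e L804756) (flp_h L799224) L810671
theorem L810683 : sm gi N61942 = N60927 := ded_44_2 (flp_e L799799) (flp_i L799226) L810671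
theorem L810685 : sm gf N60884 = N61943 := rfl
theorem L810687 : sm ga N61943 = N61169 := ded_14_1 (flp_f L802802) (flp_a L799232) L810685
theorem L810689 : sm gb N61943 = N61136 := ded_22_1 L802426 (flp_b L799234) L810685
theorem L810691 : sm gd N61943 = N61943 := ded_35_1 (flp_f L810685) L799244 L810685
theorem L810692 : sm gj N61943 = N61197 := ded_46_2 L803027 (flp_j L799238) L810685
theorem L810694 : sm gh N61943 = N61178 := ded_47_2 L802878 (flp_h L799240) L810685
theorem L810696 : sm gi N61943 = N60928 := ded_48_2 (flp_f L799809) (flp_i L799242) L810685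
theorem L810698 : sm ge N61943 = N60897 := ded_40_1 (flp_f L799397) (flp_e L787205) (flp_f L787055) L799230 L810685
theorem L810700 : sm gg N61943 = N61122 := ded_45_2 (flp_f L802307) L789963 (flp_f L787086) (flp_g L799236) L810685
theorem L810702 : sm ga N60885 = N61944 := rfl
theorem L810704 : sm gc N61944 = N61352 := ded_11_2 (flp_a L804677) (flp_c L799255) L810702
theorem L810706 : sm gf N61944 = N60887 := ded_14_2 (flp_a L799269) (flp_f L799247) L810702
theorem L810708 : sm gj N61944 = N61343 := ded_16_2 (flp_a L804591) (flp_j L799249) L810702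
theorem L810710 : sm gh N61944 = N61373 := ded_17_2 (flp_a L804904) (flp_h L799251) L810702
theorem L810712 : sm gi N61944 = N60929 := ded_18_2 (flp_a L799824) (flp_i L799253) L810702
theorem L810714 : sm ge N60885 = N61945 := rfl
theorem L810716 : sm gb N61945 = N60886 := ded_21_1 (flp_e L799257) L799245 L810714
theorem L810718 : sm gc N61945 = N61353 := ded_28_1 (flp_e L804685) (flp_c L799255) L810714
theorem L810720 : sm gj N61945 = N61344 := ded_42_2 (flp_e L804603) (flp_j L799249) L810714
theorem L810722 : sm gh N61945 = N61374 := ded_43_2 (flp_e L804912) (flp_h L799251) L810714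
theorem L810724 : sm gi N61945 = N60930 := ded_44_2 (flp_e L799832) (flp_i L799253) L810714
theorem L810726 : sm gf N61945 = N61671 := ded_40_2 (flp_e L807485) (flp_f L797235) L797233 (flp_f L799247) L810714
theorem L810728 : sm gd N60886 = N61946 := rfl
theorem L810730 : sm gf N61946 = N61672 := ded_35_2 (flp_d L807493) (flp_f L799267) L810728
theorem L810732 : sm gj N61946 = N61345 := ded_37_2 (flp_d L804615) (flp_j L799261) L810728
theorem L810734 : sm gi N61946 = N60931 := ded_39_2 (flp_d L799844) (flp_i L799265) L810728
theorem L810736 : sm gc N61946 = N61946 := ded_27_1 (flp_d L810728) L799259 L787085 (flp_c L799259) L810728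
theorem L810737 : sm ga N60888 = N61947 := rfl
theorem L810739 : sm gc N61947 = N60892 := ded_11_2 (flp_a L799337) (flp_c L799293) L810737
theorem L810741 : sm gd N61947 = N61355 := ded_12_2 (flp_a L804700) (flp_d L799283) L810737
theorem L810743 : sm gf N61947 = N61408 := ded_14_2 (flp_a L805272) (flp_f L799285) L810737
theorem L810745 : sm gj N61947 = N60903 := ded_16_2 (flp_a L799479) (flp_j L799287) L810737
theorem L810747 : sm gh N61947 = N61718 := ded_17_2 (flp_a L807798) (flp_h L799289) L810737
theorem L810749 : sm gi N61947 = N60934 := ded_18_2 (flp_a L799885) (flp_i L799291) L810737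
theorem L810751 : sm gb N61947 = N61409 := ded_10_2 (flp_a L805286) (flp_b L793018) (flp_a L787102) L799281 L810737
theorem L810753 : sm ge N60888 = N61948 := rfl
theorem L810755 : sm gb N61948 = N60889 := ded_21_1 (flp_e L799295) L799281 L810753
theorem L810757 : sm gc N61948 = N60893 := ded_28_1 (flp_e L799349) (flp_c L799293) L810753
theorem L810759 : sm gj N61948 = N60904 := ded_42_2 (flp_e L799493) (flp_j L799287) L810753
theorem L810761 : sm gh N61948 = N61719 := ded_43_2 (flp_e L807806) (flp_h L799289) L810753
theorem L810763 : sm gi N61948 = N60935 := ded_44_2 (flp_e L799897) (flp_i L799291) L810753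
theorem L810765 : sm gd N61948 = N61695 := ded_34_1 (flp_e L807644) L795852 (flp_e L792455) (flp_d L799283) L810753
theorem L810767 : sm gf N61948 = N61635 := ded_40_2 (flp_e L807232) (flp_f L800277) L800275 (flp_f L799285) L810753
theorem L810769 : sm ga N60890 = N61949 := rfl
theorem L810771 : sm gc N61949 = N61718 := ded_11_2 (flp_a L807798) (flp_c L799321) L810769
theorem L810773 : sm gf N61949 = N61463 := ded_14_2 L805736 (flp_f L799313) L810769
theorem L810775 : sm gj N61949 = N60908 := ded_16_2 (flp_a L799555) (flp_j L799315) L810769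
theorem L810777 : sm gh N61949 = N60892 := ded_17_2 (flp_a L799337) (flp_h L799317) L810769
theorem L810779 : sm gi N61949 = N61466 := ded_18_2 L805772 (flp_i L799319) L810769
theorem L810781 : sm gb N61949 = N61737 := ded_10_2 (flp_a L807924) (flp_b L796255) (flp_a L787132) L799311 L810769
theorem L810783 : sm ge N60890 = N61950 := rfl
theorem L810785 : sm gb N61950 = N60891 := ded_21_1 (flp_e L799323) L799311 L810783
theorem L810787 : sm gc N61950 = N61719 := ded_28_1 (flp_e L807806) (flp_c L799321) L810783
theorem L810789 : sm gj N61950 = N60909 := ded_42_2 (flp_e L799561) (flp_j L799315) L810783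
theorem L810791 : sm gh N61950 = N60893 := ded_43_2 (flp_e L799349) (flp_h L799317) L810783
theorem L810793 : sm gi N61950 = N61460 := ded_44_2 L805716 (flp_i L799319) L810783
theorem L810795 : sm gf N61950 = N61456 := ded_40_2 (flp_e L805687) L793388 L793429 (flp_f L799313) L810783
theorem L810797 : sm gd N60891 = N61951 := rfl
theorem L810799 : sm ga N61951 = N61739 := ded_12_1 (flp_d L807940) (flp_a L799325) L810797
theorem L810801 : sm gf N61951 = N61457 := ded_35_2 (flp_d L805693) (flp_f L799335) L810797
theorem L810803 : sm gj N61951 = N60910 := ded_37_2 (flp_d L799569) (flp_j L799329) L810797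
theorem L810805 : sm gi N61951 = N61461 := ded_39_2 L805723 (flp_i L799333) L810797
theorem L810807 : sm gc N61951 = N61951 := ded_27_1 (flp_d L810797) L799327 L787154 (flp_c L799327) L810797
theorem L810808 : sm ge N60892 = N61952 := rfl
theorem L810810 : sm ga N61952 = N60893 := ded_13_1 (flp_e L799349) L799337 L810808
theorem L810812 : sm gb N61952 = N61764 := ded_21_1 (flp_e L808112) (flp_b L799347) L810808
theorem L810814 : sm gj N61952 = N60913 := ded_42_2 (flp_e L799608) (flp_j L799343) L810808
theorem L810816 : sm gi N61952 = N60937 := ded_44_2 (flp_e L799925) (flp_i L799345) L810808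
theorem L810818 : sm gf N60893 = N61953 := rfl
theorem L810820 : sm gb N61953 = N60894 := ded_22_1 (flp_f L799357) (flp_b L799351) L810818
theorem L810822 : sm gc N61953 = N61635 := ded_29_1 (flp_f L810767) L810757 L810818
theorem L810824 : sm gj N61953 = N60914 := ded_46_2 (flp_f L799616) (flp_j L799353) L810818
theorem L810826 : sm gh N61953 = N61456 := ded_47_2 (flp_f L810795) L810791 L810818
theorem L810828 : sm gi N61953 = N60938 := ded_48_2 (flp_f L799935) (flp_i L799355) L810818
theorem L810830 : sm ge N61953 = N61368 := ded_40_1 L804844 L792623 (flp_f L787161) L799349 L810818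
theorem L810832 : sm ga N60895 = N61954 := rfl
theorem L810834 : sm gc N61954 = N61360 := ded_11_2 (flp_a L804766) (flp_c L799381) L810832
theorem L810836 : sm gd N61954 = N61294 := ded_12_2 (flp_a L804128) (flp_d L799373) L810832
theorem L810838 : sm gg N61954 = N60898 := ded_15_2 (flp_a L799409) (flp_g L799375) L810832
theorem L810840 : sm gj N61954 = N61723 := ded_16_2 (flp_a L807831) (flp_j L799377) L810832
theorem L810842 : sm gi N61954 = N60942 := ded_18_2 (flp_a L799989) (flp_i L799379) L810832
theorem L810844 : sm gb N61954 = N61174 := ded_10_2 (flp_a L802836) (flp_b L790454) (flp_a L787195) L799371 L810832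
theorem L810846 : sm ge N60895 = N61955 := rfl
theorem L810848 : sm gb N61955 = N60896 := ded_21_1 (flp_e L799383) L799371 L810846
theorem L810850 : sm gc N61955 = N61361 := ded_28_1 (flp_e L804772) (flp_c L799381) L810846
theorem L810852 : sm gg N61955 = N60899 := ded_41_2 (flp_e L799423) (flp_g L799375) L810846
theorem L810854 : sm gj N61955 = N61724 := ded_42_2 (flp_e L807835) (flp_j L799377) L810846
theorem L810856 : sm gi N61955 = N60943 := ded_44_2 (flp_e L800001) (flp_i L799379) L810846
theorem L810858 : sm gd N61955 = N61716 := ded_34_1 (flp_e L807786) L796080 (flp_e L791909) (flp_d L799373) L810846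
theorem L810860 : sm gf N60896 = N61956 := rfl
theorem L810862 : sm ga N61956 = N61177 := ded_14_1 (flp_f L802864) (flp_a L799385) L810860
theorem L810864 : sm gc N61956 = N60897 := ded_29_1 (flp_f L799397) (flp_c L799387) L810860
theorem L810866 : sm gd N61956 = N61438 := ded_35_1 L805539 (flp_d L799395) L810860
theorem L810868 : sm gj N61956 = N61196 := ded_46_2 L803020 (flp_j L799391) L810860
theorem L810870 : sm gi N61956 = N60944 := ded_48_2 (flp_f L800013) (flp_i L799393) L810860
theorem L810872 : sm ge N60898 = N61957 := rfl
theorem L810874 : sm ga N61957 = N60899 := ded_13_1 (flp_e L799423) L799409 L810872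
theorem L810876 : sm gb N61957 = N61682 := ded_21_1 (flp_e L807556) (flp_b L799421) L810872
theorem L810878 : sm gc N61957 = N61364 := ded_28_1 (flp_e L804796) (flp_c L799411) L810872
theorem L810880 : sm gj N61957 = N60919 := ded_42_2 (flp_e L799694) (flp_j L799417) L810872
theorem L810882 : sm gi N61957 = N60945 := ded_44_2 (flp_e L800025) (flp_i L799419) L810872
theorem L810884 : sm gd N60899 = N61958 := rfl
theorem L810886 : sm gb N61958 = N60900 := ded_20_1 (flp_d L799433) (flp_b L799425) L810884
theorem L810888 : sm gg N61958 = N61716 := ded_36_2 (flp_d L810858) L810852 L810884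
theorem L810890 : sm gj N61958 = N60920 := ded_37_2 (flp_d L799702) (flp_j L799429) L810884
theorem L810892 : sm gi N61958 = N60946 := ded_39_2 (flp_d L800037) (flp_i L799431) L810884
theorem L810894 : sm ge N61958 = N61330 := ded_34_2 L804498 L792623 (flp_d L787221) L799423 L810884
theorem L810896 : sm gc N61958 = N61470 := ded_56_4 L805812 (flp_a L797643) L797649 L806887 L806891 L794929 L783071 (flp_b L781370) (flp_a L786091) (flp_h L786089) L774345 L764803 (flp_d L759591) L746020 (flp_b L747415) L747413 (flp_h L731319) (flp_f L728086) L728084 L709097 L688160 L666058 L378803 L666064 L666069 (flp_e L665646) L687827 L687835 (flp_b L708935) (flp_a L714614) L714624 L714618 (flp_e L714142) L694695 L694687 L677917 (flp_a L675944) (flp_h L675942) (flp_f L674465) (flp_e L695681) (flp_d L715112) L715110 (flp_b L715729) L715727 L727909 (flp_f L744754) (flp_e L758432) L770188 L781755 L794028 L806146 L806154 L796001 (flp_e L795787) (flp_d L803257) (flp_c L808709) L808725 (flp_a L799001) L786863 (flp_f L787223) L799423 L810884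
theorem L810898 : sm gh N60900 = N61959 := rfl
theorem L810900 : sm ga N61959 = N61566 := ded_17_1 L806711 (flp_a L799435) L810898
theorem L810902 : sm gc N61959 = N60922 := ded_32_1 (flp_h L799724) (flp_c L799443) L810898
theorem L810904 : sm ge N61959 = N61090 := ded_43_1 L801964 (flp_e L799445) L810898
theorem L810906 : sm gg N61959 = N61599 := ded_50_1 L806970 (flp_g L799437) L810898
theorem L810908 : sm gj N61959 = N60921 := ded_52_1 (flp_h L799714) (flp_j L799439) L810898
theorem L810910 : sm gi N61959 = N61092 := ded_54_2 L801984 L789735 L787848 (flp_i L799441) L810898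
theorem L810912 : sm ga N60901 = N61960 := rfl
theorem L810914 : sm gc N61960 = N60908 := ded_11_2 (flp_a L799555) (flp_c L799461) L810912
theorem L810916 : sm gd N61960 = N61352 := ded_12_2 (flp_a L804677) (flp_d L799449) L810912
theorem L810918 : sm gf N61960 = N61349 := ded_14_2 (flp_a L804639) (flp_f L799451) L810912
theorem L810920 : sm gg N61960 = N61575 := ded_15_2 (flp_a L806792) (flp_g L799453) L810912
theorem L810922 : sm gj N61960 = N61718 := ded_16_2 (flp_a L807798) (flp_j L799455) L810912
theorem L810924 : sm gh N61960 = N60903 := ded_17_2 (flp_a L799479) (flp_h L799457) L810912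
theorem L810926 : sm gi N61960 = N61396 := ded_18_2 (flp_a L805161) (flp_i L799459) L810912
theorem L810928 : sm gb N61960 = N61440 := ded_10_2 (flp_a L805553) (flp_b L793265) (flp_a L787251) L799447 L810912
theorem L810930 : sm ge N60901 = N61961 := rfl
theorem L810932 : sm gb N61961 = N60902 := ded_21_1 (flp_e L799463) L799447 L810930
theorem L810934 : sm gc N61961 = N60909 := ded_28_1 (flp_e L799561) (flp_c L799461) L810930
theorem L810936 : sm gg N61961 = N61576 := ded_41_2 (flp_e L806798) (flp_g L799453) L810930
theorem L810938 : sm gj N61961 = N61719 := ded_42_2 (flp_e L807806) (flp_j L799455) L810930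
theorem L810940 : sm gh N61961 = N60904 := ded_43_2 (flp_e L799493) (flp_h L799457) L810930
theorem L810942 : sm gi N61961 = N61397 := ded_44_2 (flp_e L805169) (flp_i L799459) L810930
theorem L810944 : sm gf N61961 = N61624 := ded_40_2 (flp_e L807164) L795211 (flp_e L792398) (flp_f L799451) L810930
theorem L810946 : sm gd N60902 = N61962 := rfl
theorem L810948 : sm ga N61962 = N61442 := ded_12_1 (flp_d L805571) (flp_a L799465) L810946
theorem L810950 : sm gf N61962 = N61625 := ded_35_2 (flp_d L807172) (flp_f L799477) L810946
theorem L810952 : sm gg N61962 = N61577 := ded_36_2 (flp_d L806806) (flp_g L799469) L810946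
theorem L810954 : sm gj N61962 = N61720 := ded_37_2 (flp_d L807812) (flp_j L799471) L810946
theorem L810956 : sm gi N61962 = N61398 := ded_39_2 (flp_d L805175) (flp_i L799475) L810946
theorem L810958 : sm gc N61962 = N61962 := ded_27_1 (flp_d L810946) L799467 L787279 (flp_c L799467) L810946
theorem L810959 : sm ge N61962 = N61354 := ded_34_2 (flp_d L804693) (flp_e L792437) (flp_d L787263) L799463 L810946
theorem L810961 : sm gh N61962 = N61702 := ded_38_2 (flp_d L807701) L795932 (flp_d L787304) (flp_h L799473) L810946
theorem L810963 : sm ge N60903 = N61963 := rfl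
theorem L810965 : sm ga N61963 = N60904 := ded_13_1 (flp_e L799493) L799479 L810963
theorem L810967 : sm gb N61963 = N61444 := ded_21_1 (flp_e L805592) (flp_b L799491) L810963
theorem L810969 : sm gc N61963 = N60913 := ded_28_1 (flp_e L799608) (flp_c L799481) L810963
theorem L810971 : sm gg N61963 = N61579 := ded_41_2 (flp_e L806825) (flp_g L799487) L810963
theorem L810973 : sm gi N61963 = N60955 := ded_44_2 (flp_e L800175) (flp_i L799489) L810963
theorem L810975 : sm gd N61963 = N61703 := ded_34_1 (flp_e L807708) L795952 (flp_e L792593) (flp_d L799483) L810963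
theorem L810977 : sm gf N61963 = N61636 := ded_40_2 (flp_e L807238) (flp_f L800297) L800295 (flp_f L799485) L810963
theorem L810979 : sm ga N60905 = N61964 := rfl
theorem L810981 : sm gc N61964 = N61349 := ded_11_2 (flp_a L804639) (flp_c L799521) L810979
theorem L810983 : sm ge N61964 = N61417 := ded_13_2 (flp_a L805361) (flp_e L799509) L810979
theorem L810985 : sm gf N61964 = N60908 := ded_14_2 (flp_a L799555) (flp_f L799511) L810979
theorem L810987 : sm gg N61964 = N61355 := ded_15_2 (flp_a L804700) (flp_g L799513) L810979
theorem L810989 : sm gj N61964 = N61463 := ded_16_2 L805736 (flp_j L799515) L810979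
theorem L810991 : sm gh N61964 = N60912 := ded_17_2 (flp_a L799590) (flp_h L799517) L810979
theorem L810993 : sm gi N61964 = N61392 := ded_18_2 (flp_a L805109) (flp_i L799519) L810979
theorem L810995 : sm gb N61964 = N61288 := ded_10_2 (flp_a L804065) (flp_b L791838) (flp_a L787310) L799507 L810979
theorem L810997 : sm ga N60906 = N61965 := rfl
theorem L810999 : sm gc N61965 = N61396 := ded_11_2 (flp_a L805161) (flp_c L799537) L810997
theorem L811001 : sm gd N61965 = N61513 := ded_12_2 (flp_a L806222) (flp_d L799525) L810997
theorem L811003 : sm gf N61965 = N61392 := ded_14_2 (flp_a L805109) (flp_f L799527) L810997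
theorem L811005 : sm gg N61965 = N61581 := ded_15_2 (flp_a L806843) (flp_g L799529) L810997
theorem L811007 : sm gj N61965 = N61466 := ded_16_2 L805772 (flp_j L799531) L810997
theorem L811009 : sm gh N61965 = N60957 := ded_17_2 (flp_a L800197) (flp_h L799533) L810997
theorem L811011 : sm gi N61965 = N60908 := ded_18_2 (flp_a L799555) (flp_i L799535) L810997
theorem L811013 : sm gb N61965 = N61555 := ded_10_2 (flp_a L806615) (flp_b L794608) (flp_a L787326) L799523 L810997
theorem L811015 : sm ge N60906 = N61966 := rfl
theorem L811017 : sm gb N61966 = N60907 := ded_21_1 (flp_e L799539) L799523 L811015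
theorem L811019 : sm gc N61966 = N61397 := ded_28_1 (flp_e L805169) (flp_c L799537) L811015
theorem L811021 : sm gg N61966 = N61582 := ded_41_2 (flp_e L806849) (flp_g L799529) L811015
theorem L811023 : sm gj N61966 = N61460 := ded_42_2 L805716 (flp_j L799531) L811015
theorem L811025 : sm gh N61966 = N60958 := ded_43_2 (flp_e L800211) (flp_h L799533) L811015
theorem L811027 : sm gi N61966 = N60909 := ded_44_2 (flp_e L799561) (flp_i L799535) L811015
theorem L811029 : sm gf N61966 = N61415 := ded_40_2 (flp_e L805348) L793077 (flp_e L792859) (flp_f L799527) L811015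
theorem L811031 : sm gd N60907 = N61967 := rfl
theorem L811033 : sm ga N61967 = N61557 := ded_12_1 (flp_d L806633) (flp_a L799541) L811031
theorem L811035 : sm gf N61967 = N61416 := ded_35_2 (flp_d L805356) (flp_f L799553) L811031
theorem L811037 : sm gg N61967 = N61583 := ded_36_2 (flp_d L806857) (flp_g L799545) L811031
theorem L811039 : sm gj N61967 = N61461 := ded_37_2 L805723 (flp_j L799547) L811031
theorem L811041 : sm gi N61967 = N60910 := ded_39_2 (flp_d L799569) (flp_i L799551) L811031
theorem L811043 : sm gc N61967 = N61967 := ded_27_1 (flp_d L811031) L799543 L787354 (flp_c L799543) L811031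
theorem L811044 : sm ge N61967 = N61515 := ded_34_2 (flp_d L806234) (flp_e L794190) (flp_d L787338) L799539 L811031
theorem L811046 : sm gh N61967 = N61573 := ded_38_2 (flp_d L806777) L794769 (flp_d L788024) (flp_h L799549) L811031
theorem L811048 : sm ge N60908 = N61968 := rfl
theorem L811050 : sm ga N61968 = N60909 := ded_13_1 (flp_e L799561) L799555 L811048
theorem L811052 : sm gg N61968 = N61584 := ded_41_2 (flp_e L806862) (flp_g L799557) L811048
theorem L811054 : sm gh N61968 = N60913 := ded_43_2 (flp_e L799608) (flp_h L799559) L811048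
theorem L811056 : sm gd N60909 = N61969 := rfl
theorem L811058 : sm gb N61969 = N60910 := ded_20_1 (flp_d L799569) (flp_b L799563) L811056
theorem L811060 : sm gg N61969 = N61585 := ded_36_2 (flp_d L806868) (flp_g L799565) L811056
theorem L811062 : sm gf N60909 = N61970 := rfl
theorem L811064 : sm gb N61970 = N60911 := ded_22_1 (flp_f L799574) (flp_b L799563) L811062
theorem L811066 : sm gc N61970 = N61624 := ded_29_1 (flp_f L810944) L810934 L811062
theorem L811068 : sm gj N61970 = N61456 := ded_46_2 (flp_f L810795) L810789 L811062
theorem L811070 : sm gh N61970 = N60914 := ded_47_2 (flp_f L799616) (flp_h L799567) L811062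
theorem L811072 : sm gi N61970 = N61415 := ded_48_2 (flp_f L811029) L811027 L811062
theorem L811074 : sm ge N61970 = N61413 := ded_40_1 L805328 (flp_e L799509) L799511 L799561 L811062
theorem L811076 : sm gg N61616 = N61970 := ded_23_0 L811064 (flp_g L799588) (flp_b L807101)
theorem L811078 : sm gf N60910 = N61971 := rfl
theorem L811080 : sm ga N61971 = N61727 := ded_14_1 (flp_f L810027) L810025 L811078
theorem L811082 : sm gc N61971 = N61971 := ded_29_1 (flp_f L811078) L799573 L811078
theorem L811083 : sm gd N61971 = N60911 := ded_35_1 (flp_f L799574) L799569 L811078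
theorem L811085 : sm gj N61971 = N61457 := ded_46_2 (flp_f L810801) L810803 L811078
theorem L811087 : sm gi N61971 = N61416 := ded_48_2 (flp_f L811035) L811041 L811078
theorem L811089 : sm gg N61617 = N61971 := ded_36_0 L811083 (flp_g L799588) L807107
theorem L811091 : sm gf N60913 = N61972 := rfl
theorem L811093 : sm ga N61972 = N60914 := ded_14_1 (flp_f L799616) (flp_a L799610) L811091
theorem L811095 : sm gb N61972 = N61728 := ded_22_1 (flp_f L810056) L810044 L811091
theorem L811097 : sm gc N61972 = N61636 := ded_29_1 (flp_f L810977) L810969 L811091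
theorem L811099 : sm gi N61972 = N60964 := ded_48_2 (flp_f L800307) (flp_i L799614) L811091
theorem L811101 : sm ge N61972 = N61621 := ded_40_1 L807138 (flp_e L799596) L799598 L799608 L811091
theorem L811103 : sm gg N61622 = N61972 := ded_15_0 L811093 (flp_g L799626) (flp_a L807148)
theorem L811105 : sm ga N60915 = N61973 := rfl
theorem L811107 : sm gc N61973 = N61373 := ded_11_2 (flp_a L804904) (flp_c L799642) L811105
theorem L811109 : sm gd N61973 = N61367 := ded_12_2 (flp_a L804826) (flp_d L799630) L811105
theorem L811111 : sm gf N61973 = N61302 := ded_14_2 (flp_a L804200) (flp_f L799632) L811105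
theorem L811113 : sm gg N61973 = N61723 := ded_15_2 (flp_a L807831) (flp_g L799634) L811105
theorem L811115 : sm gj N61973 = N60917 := ded_16_2 (flp_a L799662) (flp_j L799636) L811105
theorem L811117 : sm gh N61973 = N61352 := ded_17_2 (flp_a L804677) (flp_h L799638) L811105
theorem L811119 : sm gi N61973 = N60966 := ded_18_2 (flp_a L800329) (flp_i L799640) L811105
theorem L811121 : sm gb N61973 = N61694 := ded_10_2 (flp_a L807634) (flp_b L795850) (flp_a L787434) L799628 L811105
theorem L811123 : sm ge N60915 = N61974 := rfl
theorem L811125 : sm gb N61974 = N60916 := ded_21_1 (flp_e L799644) L799628 L811123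
theorem L811127 : sm gc N61974 = N61374 := ded_28_1 (flp_e L804912) (flp_c L799642) L811123
theorem L811129 : sm gg N61974 = N61724 := ded_41_2 (flp_e L807835) (flp_g L799634) L811123
theorem L811131 : sm gj N61974 = N60918 := ded_42_2 (flp_e L799678) (flp_j L799636) L811123
theorem L811133 : sm gh N61974 = N61353 := ded_43_2 (flp_e L804685) (flp_h L799638) L811123
theorem L811135 : sm gi N61974 = N60967 := ded_44_2 (flp_e L800337) (flp_i L799640) L811123
theorem L811137 : sm gd N61974 = N61410 := ded_34_1 (flp_e L805296) L793020 (flp_e L792579) (flp_d L799630) L811123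
theorem L811139 : sm gf N61974 = N61235 := ded_40_2 (flp_e L803470) (flp_f L798265) L798263 (flp_f L799632) L811123
theorem L811141 : sm ge N60917 = N61975 := rfl
theorem L811143 : sm ga N61975 = N60918 := ded_13_1 (flp_e L799678) L799662 L811141
theorem L811145 : sm gb N61975 = N61703 := ded_21_1 (flp_e L807708) (flp_b L799676) L811141
theorem L811147 : sm gc N61975 = N61376 := ded_28_1 (flp_e L804934) (flp_c L799664) L811141
theorem L811149 : sm gg N61975 = N60919 := ded_41_2 (flp_e L799694) (flp_g L799670) L811141
theorem L811151 : sm gh N61975 = N61721 := ded_43_2 (flp_e L807819) (flp_h L799672) L811141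
theorem L811153 : sm gi N61975 = N60968 := ded_44_2 (flp_e L800349) (flp_i L799674) L811141
theorem L811155 : sm gd N61975 = N61444 := ded_34_1 (flp_e L805592) (flp_d L800159) L800161 (flp_d L799666) L811141
theorem L811157 : sm gf N61975 = N61239 := ded_40_2 (flp_e L803515) (flp_f L798285) L798283 (flp_f L799668) L811141
theorem L811159 : sm gd N60919 = N61976 := rfl
theorem L811161 : sm ga N61976 = N60920 := ded_12_1 (flp_d L799702) (flp_a L799696) L811159
theorem L811163 : sm gb N61976 = N61579 := ded_20_1 (flp_d L810072) L810062 L811159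
theorem L811165 : sm gg N61976 = N61444 := ded_36_2 (flp_d L811155) L811149 L811159
theorem L811167 : sm gi N61976 = N60969 := ded_39_2 (flp_d L800357) (flp_i L799700) L811159
theorem L811169 : sm ge N61976 = N61443 := ded_34_2 L805582 (flp_e L799596) L799594 L799694 L811159
theorem L811171 : sm gc N61472 = N61976 := ded_11_0 L811161 (flp_c L799712) (flp_a L805830)
theorem L811173 : sm gh N60920 = N61977 := rfl
theorem L811175 : sm gb N61977 = N60921 := ded_25_1 (flp_h L799714) (flp_b L799704) L811173
theorem L811177 : sm gc N61977 = N61452 := ded_32_1 L805666 L799712 L811173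
theorem L811179 : sm ge N61977 = N61439 := ded_43_1 L805549 (flp_e L799710) L811173
theorem L811181 : sm gg N61977 = N61441 := ded_50_1 L805567 (flp_g L799706) L811173
theorem L811183 : sm gi N60921 = N61978 := rfl
theorem L811185 : sm ga N61978 = N61395 := ded_18_1 L805159 (flp_a L799716) L811183
theorem L811187 : sm gc N61978 = N60923 := ded_33_1 (flp_i L799739) (flp_c L799718) L811183
theorem L811189 : sm ge N61978 = N61077 := ded_44_1 L801813 (flp_e L799720) L811183
theorem L811191 : sm gg N61978 = N61268 := ded_51_1 L803858 (flp_g L799722) L811183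
theorem L811193 : sm gj N61978 = N61092 := ded_53_1 (flp_i L810910) L810908 L811183
theorem L811195 : sm gh N61978 = N60972 := ded_54_1 (flp_i L800385) (flp_h L788208) (flp_i L787518) L799714 L811183
theorem L811197 : sm gb N60924 = N61979 := rfl
theorem L811199 : sm gd N61979 = N61273 := ded_20_2 (flp_b L803903) (flp_d L799768) L811197
theorem L811201 : sm gf N61979 = N60940 := ded_22_2 (flp_b L799957) (flp_f L799758) L811197
theorem L811203 : sm gg N61979 = N61081 := ded_23_2 (flp_b L801858) (flp_g L799760) L811197
theorem L811205 : sm gj N61979 = N60926 := ded_24_2 (flp_b L799787) (flp_j L799762) L811197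
theorem L811207 : sm gh N61979 = N61045 := ded_25_2 (flp_b L801416) (flp_h L799764) L811197
theorem L811209 : sm gi N61979 = N61307 := ded_26_2 (flp_b L804262) (flp_i L799766) L811197
theorem L811211 : sm gc N61979 = N61047 := ded_19_2 (flp_b L801446) (flp_c L789226) (flp_b L787567) L799754 L811197
theorem L811213 : sm ge N60924 = N61980 := rfl
theorem L811215 : sm ga N61980 = N61142 := ded_13_1 (flp_e L802495) (flp_a L799756) L811213
theorem L811217 : sm gc N61980 = N60925 := ded_28_1 (flp_e L799770) L799754 L811213
theorem L811219 : sm gg N61980 = N61082 := ded_41_2 (flp_e L801870) (flp_g L799760) L811213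
theorem L811221 : sm gj N61980 = N60927 := ded_42_2 (flp_e L799799) (flp_j L799762) L811213
theorem L811223 : sm gh N61980 = N61046 := ded_43_2 (flp_e L801430) (flp_h L799764) L811213
theorem L811225 : sm gi N61980 = N61308 := ded_44_2 (flp_e L804272) (flp_i L799766) L811213
theorem L811227 : sm gf N61980 = N61189 := ded_40_2 L802968 L799987 (flp_e L799971) (flp_f L799758) L811213
theorem L811229 : sm ga N60926 = N61981 := rfl
theorem L811231 : sm gc N61981 = N61402 := ded_11_2 (flp_a L805232) (flp_c L799797) L811229
theorem L811233 : sm gd N61981 = N61291 := ded_12_2 (flp_a L804105) (flp_d L799789) L811229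
theorem L811235 : sm gf N61981 = N60942 := ded_14_2 (flp_a L799989) (flp_f L799791) L811229
theorem L811237 : sm gg N61981 = N60929 := ded_15_2 (flp_a L799824) (flp_g L799793) L811229
theorem L811239 : sm gh N61981 = N61066 := ded_17_2 (flp_a L801680) (flp_h L799795) L811229
theorem L811241 : sm gb N61981 = N61170 := ded_10_2 (flp_a L802809) (flp_b L790433) (flp_a L787581) L799787 L811229
theorem L811243 : sm ge N60926 = N61982 := rfl
theorem L811245 : sm gb N61982 = N60927 := ded_21_1 (flp_e L799799) L799787 L811243
theorem L811247 : sm gc N61982 = N61403 := ded_28_1 (flp_e L805238) (flp_c L799797) L811243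
theorem L811249 : sm gg N61982 = N60930 := ded_41_2 (flp_e L799832) (flp_g L799793) L811243
theorem L811251 : sm gh N61982 = N61067 := ded_43_2 (flp_e L801688) (flp_h L799795) L811243
theorem L811253 : sm gd N60927 = N61983 := rfl
theorem L811255 : sm ga N61983 = N61172 := ded_12_1 (flp_d L802823) (flp_a L799801) L811253
theorem L811257 : sm gg N61983 = N60931 := ded_36_2 (flp_d L799844) (flp_g L799805) L811253
theorem L811259 : sm gc N61983 = N61983 := ded_27_1 (flp_d L811253) L799803 L787601 (flp_c L799803) L811253
theorem L811260 : sm ge N61983 = N61293 := ded_34_2 (flp_d L804121) (flp_e L791897) (flp_d L787589) L799799 L811253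
theorem L811262 : sm gf N60927 = N61984 := rfl
theorem L811264 : sm ga N61984 = N61173 := ded_14_1 (flp_f L802828) (flp_a L799801) L811262
theorem L811266 : sm gc N61984 = N60928 := ded_29_1 (flp_f L799809) (flp_c L799803) L811262
theorem L811268 : sm gj N61984 = N61189 := ded_46_2 (flp_f L811227) L811221 L811262
theorem L811270 : sm gh N61984 = N61069 := ded_47_2 (flp_f L801712) (flp_h L799807) L811262
theorem L811272 : sm ge N61984 = N60944 := ded_40_1 (flp_f L800013) (flp_e L787788) (flp_f L787583) L799799 L811262
theorem L811274 : sm gg N61984 = N61126 := ded_45_2 (flp_f L802333) L789980 (flp_f L787618) (flp_g L799805) L811262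
theorem L811276 : sm ge N60929 = N61985 := rfl
theorem L811278 : sm ga N61985 = N60930 := ded_13_1 (flp_e L799832) L799824 L811276
theorem L811280 : sm gc N61985 = N61405 := ded_28_1 (flp_e L805249) (flp_c L799826) L811276
theorem L811282 : sm gj N61985 = N61592 := ded_42_2 (flp_e L806907) (flp_j L799830) L811276
theorem L811284 : sm gh N61985 = N61675 := ded_43_2 (flp_e L808188) L808196 L811276
theorem L811286 : sm gf N61985 = N61673 := ded_40_2 (flp_e L807498) (flp_f L797617) L797615 (flp_f L799828) L811276
theorem L811288 : sm gd N60930 = N61986 := rfl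
theorem L811290 : sm gb N61986 = N60931 := ded_20_1 (flp_d L799844) (flp_b L799834) L811288
theorem L811292 : sm gf N61986 = N61674 := ded_35_2 (flp_d L807504) (flp_f L799842) L811288
theorem L811294 : sm gj N61986 = N61593 := ded_37_2 (flp_d L806913) (flp_j L799838) L811288
theorem L811296 : sm gh N60931 = N61987 := rfl
theorem L811298 : sm gc N61987 = N61987 := ded_32_1 (flp_h L811296) L799850 L811296
theorem L811299 : sm gf N61987 = N61644 := ded_47_1 L807296 (flp_f L799846) L811296
theorem L811301 : sm gj N61987 = N61594 := ded_52_1 (flp_h L806917) (flp_j L799848) L811296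
theorem L811303 : sm gd N61987 = N61645 := ded_38_1 L807302 L795428 (flp_h L787616) L799844 L811296
theorem L811305 : sm ga N60932 = N61988 := rfl
theorem L811307 : sm gc N61988 = N61357 := ded_11_2 (flp_a L804730) (flp_c L799865) L811305
theorem L811309 : sm gd N61988 = N61408 := ded_12_2 (flp_a L805272) (flp_d L799853) L811305
theorem L811311 : sm gf N61988 = N61355 := ded_14_2 (flp_a L804700) (flp_f L799855) L811305
theorem L811313 : sm gg N61988 = N61580 := ded_15_2 (flp_a L806833) (flp_g L799857) L811305
theorem L811315 : sm gj N61988 = N60948 := ded_16_2 (flp_a L800065) (flp_j L799859) L811305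
theorem L811317 : sm gh N61988 = N61511 := ded_17_2 (flp_a L806202) (flp_h L799861) L811305
theorem L811319 : sm gi N61988 = N61409 := ded_18_2 (flp_a L805286) (flp_i L799863) L811305
theorem L811321 : sm gb N61988 = N60934 := ded_10_2 (flp_a L799885) (flp_b L787662) (flp_a L787630) L799851 L811305
theorem L811323 : sm ge N60932 = N61989 := rfl
theorem L811325 : sm gb N61989 = N60933 := ded_21_1 (flp_e L799867) L799851 L811323
theorem L811327 : sm gc N61989 = N60960 := ded_28_1 L800251 (flp_c L799865) L811323
theorem L811329 : sm gg N61989 = N61230 := ded_41_2 L803412 (flp_g L799857) L811323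
theorem L811331 : sm gj N61989 = N60949 := ded_42_2 (flp_e L800079) (flp_j L799859) L811323
theorem L811333 : sm gh N61989 = N60956 := ded_43_2 L800193 (flp_h L799861) L811323
theorem L811335 : sm gi N61989 = N61410 := ded_44_2 (flp_e L805296) (flp_i L799863) L811323
theorem L811337 : sm gd N61989 = N60967 := ded_34_1 (flp_e L800337) (flp_d L800273) L800275 (flp_d L799853) L811323
theorem L811339 : sm gf N61989 = N60953 := ded_40_2 (flp_e L800141) L787930 (flp_e L792455) (flp_f L799855) L811323
theorem L811341 : sm ge N60934 = N61990 := rfl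
theorem L811343 : sm ga N61990 = N60935 := ded_13_1 (flp_e L799897) L799885 L811341
theorem L811345 : sm gc N61990 = N60937 := ded_28_1 (flp_e L799925) (flp_c L799887) L811341
theorem L811347 : sm gj N61990 = N60955 := ded_42_2 (flp_e L800175) (flp_j L799893) L811341
theorem L811349 : sm gh N61990 = N61512 := ded_43_2 (flp_e L806216) (flp_h L799895) L811341
theorem L811351 : sm gf N60935 = N61991 := rfl
theorem L811353 : sm gb N61991 = N60936 := ded_22_1 (flp_f L799907) (flp_b L799899) L811351
theorem L811355 : sm gc N61991 = N60938 := ded_29_1 (flp_f L799935) (flp_c L799901) L811351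
theorem L811357 : sm gd N61991 = N61227 := ded_35_1 (flp_f L810149) L810147 L811351
theorem L811359 : sm gj N61991 = N60956 := ded_46_2 (flp_f L800183) (flp_j L799903) L811351
theorem L811361 : sm gh N61991 = N60949 := ded_47_2 L800091 (flp_h L799905) L811351
theorem L811363 : sm gi N61991 = N61635 := ded_48_2 (flp_f L810767) L810763 L811351
theorem L811365 : sm ge N61991 = N60947 := ded_40_1 L800053 L792579 (flp_f L787666) L799897 L811351
theorem L811367 : sm gg N61991 = N60971 := ded_45_2 (flp_f L809700) L809702 L809390 L809382 L811351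
theorem L811369 : sm gf N60937 = N61992 := rfl
theorem L811371 : sm ga N61992 = N60938 := ded_14_1 (flp_f L799935) (flp_a L799927) L811369
theorem L811373 : sm gb N61992 = N61752 := ded_22_1 L808024 (flp_b L799929) L811369
theorem L811375 : sm gj N61992 = N60964 := ded_46_2 (flp_f L800307) (flp_j L799931) L811369
theorem L811377 : sm gh N61992 = N61372 := ded_47_2 L804900 (flp_h L799933) L811369
theorem L811379 : sm ge N61992 = N61369 := ded_40_1 L804856 L792635 (flp_f L787704) L799925 L811369
theorem L811381 : sm gg N60938 = N61993 := rfl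
theorem L811383 : sm gb N61993 = N60939 := ded_23_1 (flp_g L799945) (flp_b L799937) L811381
theorem L811385 : sm gc N61993 = N60971 := ded_30_1 (flp_g L811367) L811355 L811381
theorem L811387 : sm ge N61993 = N61303 := ded_41_1 L804218 (flp_e L799943) L811381
theorem L811389 : sm gh N61993 = N60970 := ded_50_2 L800369 (flp_h L799941) L811381
theorem L811391 : sm gj N61993 = N61323 := ded_49_2 L804432 L800327 (flp_g L800315) (flp_j L799939) L811381
theorem L811393 : sm ga N60940 = N61994 := rfl
theorem L811395 : sm gc N61994 = N61428 := ded_11_2 (flp_a L805465) (flp_c L799969) L811393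
theorem L811397 : sm gd N61994 = N61275 := ded_12_2 (flp_a L803929) (flp_d L799959) L811393
theorem L811399 : sm gg N61994 = N60966 := ded_15_2 (flp_a L800329) (flp_g L799961) L811393
theorem L811401 : sm gj N61994 = N60942 := ded_16_2 (flp_a L799989) (flp_j L799963) L811393
theorem L811403 : sm gh N61994 = N61059 := ded_17_2 (flp_a L801590) (flp_h L799965) L811393
theorem L811405 : sm gi N61994 = N61723 := ded_18_2 (flp_a L807831) (flp_i L799967) L811393
theorem L811407 : sm gb N61994 = N61145 := ded_10_2 (flp_a L802527) (flp_b L790171) (flp_a L787748) L799957 L811393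
theorem L811409 : sm ge N60940 = N61995 := rfl
theorem L811411 : sm gb N61995 = N60941 := ded_21_1 (flp_e L799971) L799957 L811409
theorem L811413 : sm gc N61995 = N61429 := ded_28_1 (flp_e L805471) (flp_c L799969) L811409
theorem L811415 : sm gg N61995 = N60967 := ded_41_2 (flp_e L800337) (flp_g L799961) L811409
theorem L811417 : sm gj N61995 = N60943 := ded_42_2 (flp_e L800001) (flp_j L799963) L811409
theorem L811419 : sm gh N61995 = N61022 := ded_43_2 L801106 (flp_h L799965) L811409
theorem L811421 : sm gi N61995 = N61724 := ded_44_2 (flp_e L807835) (flp_i L799967) L811409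
theorem L811423 : sm gd N61995 = N61230 := ded_34_1 L803412 L794833 (flp_e L791708) (flp_d L799959) L811409
theorem L811425 : sm gf N61195 = N61995 := ded_55_3 (flp_e L811409) L799959 (flp_b L791706) (flp_c L779520) (flp_d L768087) L756279 (flp_h L747596) L731548 (flp_f L731558) L731556 L713315 L713313 L692698 L670764 (flp_i L651151) L294195 L202504 (flp_f L139522) (flp_e L96219) (flp_d L66476) (flp_b L64880) L64882 L44977 L64964 L559582 L45693 (flp_f L45346) L45342 (flp_d L65462) L65460 (flp_c L600520) L65636 (flp_i L65632) (flp_h L45432) L31532 L21952 L15435 (flp_d L15607) (flp_b L22348) (flp_c L32111) (flp_d L41895) L41897 L42152 L42160 L42157 (flp_e L60792) L87918 L87920 L127408 L127413 L127513 L185157 L269105 (flp_f L391507) L671615 (flp_d L692829) L692825 L670870 (flp_d L669003) L691097 L711985 L730586 (flp_f L744578) (flp_e L758281) (flp_d L758269) L744516 (flp_c L746542) L759964 L759966 (flp_h L760024) (flp_d L760022) (flp_f L760010) L760009 L771653 (flp_b L778090) L790126 L790134 (flp_i L793073) L793071 L782973 (flp_f L780942) (flp_e L787522) (flp_d L787512) (flp_b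 L787506) L787508 L792729 L792735 L793639 (flp_d L803012)
theorem L811427 : sm ge N60942 = N61996 := rfl
theorem L811429 : sm ga N61996 = N60943 := ded_13_1 (flp_e L800001) L799989 L811427
theorem L811431 : sm gb N61996 = N61179 := ded_21_1 (flp_e L802882) (flp_b L799999) L811427
theorem L811433 : sm gc N61996 = N61431 := ded_28_1 (flp_e L805489) (flp_c L799991) L811427
theorem L811435 : sm gg N61996 = N60945 := ded_41_2 (flp_e L800025) (flp_g L799995) L811427
theorem L811437 : sm gh N61996 = N61070 := ded_43_2 (flp_e L801728) (flp_h L799997) L811427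
theorem L811439 : sm gd N61996 = N61717 := ded_34_1 (flp_e L807792) L796092 (flp_e L791923) (flp_d L799993) L811427
theorem L811441 : sm gf N60943 = N61997 := rfl
theorem L811443 : sm gb N61997 = N60944 := ded_22_1 (flp_f L800013) (flp_b L800003) L811441
theorem L811445 : sm gc N61997 = N61433 := ded_29_1 (flp_f L805501) (flp_c L800005) L811441
theorem L811447 : sm gd N61997 = N61437 := ded_35_1 L805531 (flp_d L800011) L811441
theorem L811449 : sm gj N61997 = N61195 := ded_46_2 L811425 L811417 L811441
theorem L811451 : sm gh N61997 = N61071 := ded_47_2 (flp_f L801736) (flp_h L800009) L811441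
theorem L811453 : sm gd N60945 = N61998 := rfl
theorem L811455 : sm ga N61998 = N60946 := ded_12_1 (flp_d L800037) (flp_a L800027) L811453
theorem L811457 : sm gb N61998 = N61597 := ded_20_1 L806950 (flp_b L800029) L811453
theorem L811459 : sm gg N61998 = N61717 := ded_36_2 (flp_d L811439) L811435 L811453
theorem L811461 : sm gj N61998 = N60969 := ded_37_2 (flp_d L800357) (flp_j L800033) L811453
theorem L811463 : sm ge N61998 = N61331 := ded_34_2 L804512 L792635 (flp_d L787816) L800025 L811453
theorem L811465 : sm gh N61340 = N61998 := ded_17_0 L811455 (flp_h L800047) (flp_a L804575)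
theorem L811467 : sm gc N60946 = N61999 := rfl
theorem L811469 : sm ge N61999 = N61318 := ded_28_2 L804389 (flp_e L800045) L811467
theorem L811471 : sm gf N61999 = N61714 := ded_29_2 (flp_c L809322) L809318 L811467
theorem L811473 : sm gg N61999 = N61712 := ded_30_2 L807766 (flp_g L800041) L811467
theorem L811475 : sm gj N61999 = N60970 := ded_31_2 (flp_c L800365) (flp_j L800043) L811467
theorem L811477 : sm gh N61999 = N61323 := ded_32_2 L804430 L800047 L811467
theorem L811479 : sm gi N61999 = N61470 := ded_33_2 (flp_c L810896) L810892 L811467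
theorem L811481 : sm gb N61999 = N60973 := ded_19_1 (flp_c L800397) L788222 (flp_c L787844) (flp_b L800039) L811467
theorem L811483 : sm gd N61999 = N61436 := ded_27_2 (flp_c L805519) (flp_d L793233) (flp_c L787830) L800037 L811467
theorem L811485 : sm ga N60947 = N62000 := rfl
theorem L811487 : sm gc N62000 = N61369 := ded_11_2 (flp_a L804854) (flp_c L800063) L811485
theorem L811489 : sm gd N62000 = N61302 := ded_12_2 (flp_a L804200) (flp_d L800051) L811485
theorem L811491 : sm gf N62000 = N61367 := ded_14_2 (flp_a L804826) (flp_f L800053) L811485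
theorem L811493 : sm gg N62000 = N61306 := ded_15_2 (flp_a L804252) (flp_g L800055) L811485
theorem L811495 : sm gj N62000 = N61511 := ded_16_2 (flp_a L806202) (flp_j L800057) L811485
theorem L811497 : sm gh N62000 = N60948 := ded_17_2 (flp_a L800065) (flp_h L800059) L811485
theorem L811499 : sm gi N62000 = N61634 := ded_18_2 (flp_a L807226) (flp_i L800061) L811485
theorem L811501 : sm gb N62000 = N60952 := ded_10_2 (flp_a L800127) (flp_b L787926) (flp_a L787852) L800049 L811485
theorem L811503 : sm ge N60948 = N62001 := rfl
theorem L811505 : sm ga N62001 = N60949 := ded_13_1 (flp_e L800079) L800065 L811503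
theorem L811507 : sm gb N62001 = N60955 := ded_21_1 (flp_e L800175) (flp_b L800077) L811503
theorem L811509 : sm gc N62001 = N61372 := ded_28_1 (flp_e L804892) (flp_c L800067) L811503
theorem L811511 : sm gg N62001 = N60969 := ded_41_2 L800363 (flp_g L800073) L811503
theorem L811513 : sm gi N62001 = N61444 := ded_44_2 (flp_e L805592) (flp_i L800075) L811503
theorem L811515 : sm gd N62001 = N60968 := ded_34_1 (flp_e L800349) (flp_d L800293) L800295 (flp_d L800069) L811503
theorem L811517 : sm gf N62001 = N61512 := ded_40_2 (flp_e L806216) L794154 (flp_e L792593) (flp_f L800071) L811503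
theorem L811519 : sm ga N60950 = N62002 := rfl
theorem L811521 : sm gc N62002 = N60957 := ded_11_2 (flp_a L800197) (flp_c L800107) L811519
theorem L811523 : sm gd N62002 = N61201 := ded_12_2 (flp_a L803070) (flp_d L800095) L811519
theorem L811525 : sm gf N62002 = N61393 := ded_14_2 (flp_a L805123) (flp_f L800097) L811519
theorem L811527 : sm gg N62002 = N61618 := ded_15_2 (flp_a L807110) (flp_g L800099) L811519
theorem L811529 : sm gj N62002 = N61202 := ded_16_2 (flp_a L803082) (flp_j L800101) L811519
theorem L811531 : sm gh N62002 = N61396 := ded_17_2 (flp_a L805161) (flp_h L800103) L811519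
theorem L811533 : sm gi N62002 = N60952 := ded_18_2 (flp_a L800127) (flp_i L800105) L811519
theorem L811535 : sm gb N62002 = N61634 := ded_10_2 (flp_a L807226) (flp_b L795282) (flp_a L787894) L800093 L811519
theorem L811537 : sm ge N60950 = N62003 := rfl
theorem L811539 : sm gb N62003 = N60951 := ded_21_1 (flp_e L800109) L800093 L811537
theorem L811541 : sm gc N62003 = N60958 := ded_28_1 (flp_e L800211) (flp_c L800107) L811537
theorem L811543 : sm gg N62003 = N61619 := ded_41_2 (flp_e L807116) (flp_g L800099) L811537
theorem L811545 : sm gj N62003 = N61203 := ded_42_2 (flp_e L803098) (flp_j L800101) L811537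
theorem L811547 : sm gh N62003 = N61397 := ded_43_2 (flp_e L805169) (flp_h L800103) L811537
theorem L811549 : sm gi N62003 = N60953 := ded_44_2 (flp_e L800141) (flp_i L800105) L811537
theorem L811551 : sm gd N62003 = N61235 := ded_34_1 (flp_e L803470) L791246 (flp_e L790718) (flp_d L800095) L811537
theorem L811553 : sm gf N62003 = N61410 := ded_40_2 (flp_e L805296) L793022 (flp_e L792871) (flp_f L800097) L811537
theorem L811555 : sm ge N60952 = N62004 := rfl
theorem L811557 : sm ga N62004 = N60953 := ded_13_1 (flp_e L800141) L800127 L811555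
theorem L811559 : sm gc N62004 = N60959 := ded_28_1 (flp_e L800225) (flp_c L800129) L811555
theorem L811561 : sm gg N62004 = N61620 := ded_41_2 (flp_e L807124) (flp_g L800135) L811555
theorem L811563 : sm gj N62004 = N61512 := ded_42_2 (flp_e L806216) (flp_j L800137) L811555
theorem L811565 : sm gh N62004 = N60955 := ded_43_2 (flp_e L800175) (flp_h L800139) L811555
theorem L811567 : sm gd N62004 = N61680 := ded_34_1 (flp_e L807542) (flp_d L803438) L803440 (flp_d L800131) L811555
theorem L811569 : sm gf N60955 = N62005 := rfl
theorem L811571 : sm ga N62005 = N60956 := ded_14_1 (flp_f L800183) (flp_a L800177) L811569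
theorem L811573 : sm gb N62005 = N61512 := ded_22_1 (flp_f L811517) L811507 L811569
theorem L811575 : sm gc N62005 = N60964 := ded_29_1 (flp_f L800307) (flp_c L800179) L811569
theorem L811577 : sm gd N62005 = N61228 := ded_35_1 (flp_f L810167) L810165 L811569
theorem L811579 : sm gi N62005 = N61636 := ded_48_2 (flp_f L810977) L810973 L811569
theorem L811581 : sm ge N62005 = N61511 := ded_40_1 L806208 (flp_e L800161) L800163 L800175 L811569
theorem L811583 : sm gg N62005 = N61229 := ded_45_2 L803400 (flp_g L805908) L805906 (flp_g L800181) L811569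
theorem L811585 : sm ge N60957 = N62006 := rfl
theorem L811587 : sm ga N62006 = N60958 := ded_13_1 (flp_e L800211) L800197 L811585
theorem L811589 : sm gb N62006 = N61558 := ded_21_1 (flp_e L806640) (flp_b L800209) L811585
theorem L811591 : sm gg N62006 = N61631 := ded_41_2 (flp_e L807208) (flp_g L800203) L811585
theorem L811593 : sm gj N62006 = N61475 := ded_42_2 L805862 (flp_j L800205) L811585
theorem L811595 : sm gi N62006 = N60959 := ded_44_2 (flp_e L800225) (flp_i L800207) L811585
theorem L811597 : sm gd N62006 = N61574 := ded_34_1 (flp_e L806784) L794773 (flp_e L794124) (flp_d L800199) L811585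
theorem L811599 : sm gf N62006 = N61425 := ded_40_2 (flp_e L805437) L793157 L793179 (flp_f L800201) L811585
theorem L811601 : sm gf N60959 = N62007 := rfl
theorem L811603 : sm ga N62007 = N60960 := ded_14_1 (flp_f L800239) (flp_a L800227) L811601
theorem L811605 : sm gb N62007 = N61754 := ded_22_1 (flp_f L808034) (flp_b L800229) L811601
theorem L811607 : sm gd N62007 = N61611 := ded_35_1 (flp_f L807057) (flp_d L800237) L811601
theorem L811609 : sm gj N62007 = N61372 := ded_46_2 L804900 (flp_j L800233) L811601
theorem L811611 : sm gh N62007 = N60964 := ded_47_2 (flp_f L800307) (flp_h L800235) L811601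
theorem L811613 : sm gi N62007 = N61425 := ded_48_2 (flp_f L811599) L811595 L811601
theorem L811615 : sm ge N62007 = N61357 := ded_40_1 L804734 L792497 (flp_f L788032) L800225 L811601
theorem L811617 : sm gg N60960 = N62008 := rfl
theorem L811619 : sm gb N62008 = N60961 := ded_23_1 (flp_g L800253) (flp_b L800241) L811617
theorem L811621 : sm gc N62008 = N61230 := ded_30_1 (flp_g L811329) L811327 L811617
theorem L811623 : sm gd N62008 = N61612 := ded_36_1 (flp_g L807063) (flp_d L800243) L811617
theorem L811625 : sm ge N62008 = N61356 := ded_41_1 L804720 (flp_e L800251) L811617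
theorem L811627 : sm gh N62008 = N60965 := ded_50_2 (flp_g L800315) (flp_h L800247) L811617
theorem L811629 : sm gi N62008 = N61422 := ded_51_2 L805417 (flp_i L800249) L811617
theorem L811631 : sm gf N62008 = N61485 := ded_45_1 L805946 (flp_f L795276) (flp_g L788046) L800239 L811617
theorem L811633 : sm gj N62008 = N61712 := ded_49_2 (flp_g L811473) L811475 L800369 (flp_j L800245) L811617
theorem L811635 : sm ga N60962 = N62009 := rfl
theorem L811637 : sm gc N62009 = N61370 := ded_11_2 (flp_a L804864) (flp_c L800287) L811635
theorem L811639 : sm gd N62009 = N60966 := ded_12_2 (flp_a L800329) (flp_d L800273) L811635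
theorem L811641 : sm ge N62009 = N61408 := ded_13_2 (flp_a L805272) (flp_e L800275) L811635
theorem L811643 : sm gf N62009 = N61634 := ded_14_2 (flp_a L807226) (flp_f L800277) L811635
theorem L811645 : sm gg N62009 = N61275 := ded_15_2 (flp_a L803929) (flp_g L800279) L811635
theorem L811647 : sm gj N62009 = N60963 := ded_16_2 (flp_a L800289) (flp_j L800281) L811635
theorem L811649 : sm gh N62009 = N61269 := ded_17_2 (flp_a L803862) (flp_h L800283) L811635
theorem L811651 : sm gi N62009 = N61367 := ded_18_2 (flp_a L804826) (flp_i L800285) L811635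
theorem L811653 : sm gb N62009 = N61393 := ded_10_2 (flp_a L805123) (flp_b L792869) (flp_a L788090) L800271 L811635
theorem L811655 : sm gg N60964 = N62010 := rfl
theorem L811657 : sm ga N62010 = N60965 := ded_15_1 (flp_g L800315) (flp_a L800309) L811655
theorem L811659 : sm gb N62010 = N61757 := ded_23_1 L808070 (flp_b L800311) L811655
theorem L811661 : sm gc N62010 = N61229 := ded_30_1 (flp_g L811583) L811575 L811655
theorem L811663 : sm ge N62010 = N61578 := ded_41_1 L806817 (flp_e L800313) L811655
theorem L811665 : sm gi N62010 = N61622 := ded_51_2 L811103 L811099 L811655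
theorem L811667 : sm gf N62010 = N61483 := ded_45_1 L805934 (flp_f L795310) (flp_g L788140) L800307 L811655
theorem L811669 : sm gj N61713 = N62010 := ded_16_0 L811657 (flp_j L800327) (flp_a L807772)
theorem L811671 : sm ge N60966 = N62011 := rfl
theorem L811673 : sm ga N62011 = N60967 := ded_13_1 (flp_e L800337) L800329 L811671
theorem L811675 : sm gc N62011 = N61478 := ded_28_1 (flp_e L805882) (flp_c L800331) L811671
theorem L811677 : sm gj N62011 = N60968 := ded_42_2 (flp_e L800349) (flp_j L800335) L811671
theorem L811679 : sm gh N62011 = N61681 := ded_43_2 (flp_e L808292) L808300 L811671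
theorem L811681 : sm gf N62011 = N61680 := ded_40_2 (flp_e L807542) (flp_f L798394) L798392 (flp_f L800333) L811671
theorem L811683 : sm gc N60969 = N62012 := rfl
theorem L811685 : sm ga N62012 = N60970 := ded_11_1 (flp_c L800365) (flp_a L800359) L811683
theorem L811687 : sm ge N62012 = N61371 := ded_28_2 L804880 (flp_e L800363) L811683
theorem L811689 : sm gg N62012 = N61372 := ded_30_2 (flp_c L811509) L811511 L811683
theorem L811691 : sm gi N62012 = N61472 := ded_33_2 L811171 L811167 L811683
theorem L811693 : sm gb N62012 = N61543 := ded_19_1 L806502 L794551 (flp_c L795205) (flp_b L800361) L811683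
theorem L811695 : sm gd N62012 = N61483 := ded_27_2 (flp_c L805930) (flp_d L793629) (flp_c L788200) L800357 L811683
theorem L811697 : sm gh N60969 = N62013 := rfl
theorem L811699 : sm ga N62013 = N60971 := ded_17_1 (flp_h L800377) (flp_a L800359) L811697
theorem L811701 : sm gb N62013 = N61620 := ded_25_1 L807130 (flp_b L800361) L811697
theorem L811703 : sm ge N62013 = N61306 := ded_43_1 L804258 (flp_e L800363) L811697
theorem L811705 : sm gj N62013 = N61340 := ded_52_1 L811465 L811461 L811697
theorem L811707 : sm gi N60971 = N62014 := rfl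
theorem L811709 : sm gb N62014 = N60972 := ded_26_1 (flp_i L800385) (flp_b L800379) L811707
theorem L811711 : sm ge N62014 = N61080 := ded_44_1 L801856 (flp_e L800381) L811707
theorem L811713 : sm gg N62014 = N61635 := ded_51_1 (flp_i L811363) L811367 L811707
theorem L811715 : sm gj N62014 = N61098 := ded_53_1 L802030 (flp_j L800383) L811707
theorem L811717 : sm ga N60974 = N62015 := rfl
theorem L811719 : sm gc N62015 = N60983 := ded_11_2 (flp_a L800565) (flp_c L800431) L811717
theorem L811721 : sm gd N62015 = N61137 := ded_12_2 (flp_a L802430) (flp_d L800417) L811717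
theorem L811723 : sm ge N62015 = N61024 := ded_13_2 (flp_a L801126) (flp_e L800419) L811717
theorem L811725 : sm gf N62015 = N61013 := ded_14_2 (flp_a L800980) (flp_f L800421) L811717
theorem L811727 : sm gg N62015 = N61044 := ded_15_2 (flp_a L801408) (flp_g L800423) L811717
theorem L811729 : sm gj N62015 = N60975 := ded_16_2 (flp_a L800433) (flp_j L800425) L811717
theorem L811731 : sm gh N62015 = N61201 := ded_17_2 (flp_a L803070) (flp_h L800427) L811717
theorem L811733 : sm gi N62015 = N61058 := ded_18_2 (flp_a L801580) (flp_i L800429) L811717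
theorem L811735 : sm gb N62015 = N61105 := ded_10_2 (flp_a L802093) (flp_b L789785) (flp_a L788262) L800415 L811717
theorem L811737 : sm ga N60976 = N62016 := rfl
theorem L811739 : sm gc N62016 = N61058 := ded_11_2 (flp_a L801580) (flp_c L800467) L811737
theorem L811741 : sm gd N62016 = N61009 := ded_12_2 (flp_a L800930) (flp_d L800453) L811737
theorem L811743 : sm ge N62016 = N61044 := ded_13_2 (flp_a L801408) (flp_e L800455) L811737
theorem L811745 : sm gf N62016 = N61004 := ded_14_2 (flp_a L800862) (flp_f L800457) L811737
theorem L811747 : sm gg N62016 = N61024 := ded_15_2 (flp_a L801126) (flp_g L800459) L811737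
theorem L811749 : sm gj N62016 = N60981 := ded_16_2 (flp_a L800533) (flp_j L800461) L811737
theorem L811751 : sm gh N62016 = N61233 := ded_17_2 (flp_a L803450) (flp_h L800463) L811737
theorem L811753 : sm gi N62016 = N60983 := ded_18_2 (flp_a L800565) (flp_i L800465) L811737
theorem L811755 : sm gb N62016 = N60998 := ded_10_2 (flp_a L800773) (flp_b L788589) (flp_a L788296) L800451 L811737
theorem L811757 : sm ga N60977 = N62017 := rfl
theorem L811759 : sm gc N62017 = N61184 := ded_11_2 (flp_a L802930) (flp_c L800481) L811757
theorem L811761 : sm gd N62017 = N60981 := ded_12_2 (flp_a L800533) (flp_d L800471) L811757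
theorem L811763 : sm gf N62017 = N60998 := ded_14_2 (flp_a L800773) (flp_f L800473) L811757
theorem L811765 : sm gg N62017 = N61162 := ded_15_2 (flp_a L802722) (flp_g L800475) L811757
theorem L811767 : sm gj N62017 = N61009 := ded_16_2 (flp_a L800930) (flp_j L800477) L811757
theorem L811769 : sm gi N62017 = N60984 := ded_18_2 (flp_a L800579) (flp_i L800479) L811757
theorem L811771 : sm gb N62017 = N61004 := ded_10_2 (flp_a L800862) (flp_b L788660) (flp_a L788314) L800469 L811757
theorem L811773 : sm ge N60977 = N62018 := rfl
theorem L811775 : sm gb N62018 = N60978 := ded_21_1 (flp_e L800483) L800469 L811773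
theorem L811777 : sm gc N62018 = N61185 := ded_28_1 (flp_e L802938) (flp_c L800481) L811773
theorem L811779 : sm gg N62018 = N61163 := ded_41_2 (flp_e L802736) (flp_g L800475) L811773
theorem L811781 : sm gj N62018 = N61010 := ded_42_2 (flp_e L800936) (flp_j L800477) L811773
theorem L811783 : sm gi N62018 = N60985 := ded_44_2 (flp_e L800593) (flp_i L800479) L811773
theorem L811785 : sm gd N62018 = N61052 := ded_34_1 (flp_e L801511) L789269 (flp_e L788378) (flp_d L800471) L811773
theorem L811787 : sm gf N62018 = N61113 := ded_40_2 (flp_e L802192) L789860 (flp_e L788591) (flp_f L800473) L811773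
theorem L811789 : sm ga N60979 = N62019 := rfl
theorem L811791 : sm gc N62019 = N61506 := ded_11_2 (flp_a L806146) (flp_c L800513) L811789
theorem L811793 : sm gd N62019 = N60998 := ded_12_2 (flp_a L800773) (flp_d L800501) L811789
theorem L811795 : sm gf N62019 = N60981 := ded_14_2 (flp_a L800533) (flp_f L800503) L811789
theorem L811797 : sm gg N62019 = N61501 := ded_15_2 (flp_a L806075) (flp_g L800505) L811789
theorem L811799 : sm gj N62019 = N61004 := ded_16_2 (flp_a L800862) (flp_j L800507) L811789
theorem L811801 : sm gh N62019 = N61689 := ded_17_2 (flp_a L807595) (flp_h L800509) L811789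
theorem L811803 : sm gi N62019 = N60986 := ded_18_2 (flp_a L800609) (flp_i L800511) L811789
theorem L811805 : sm gb N62019 = N61009 := ded_10_2 (flp_a L800930) (flp_b L788728) (flp_a L788344) L800499 L811789
theorem L811807 : sm ge N60979 = N62020 := rfl
theorem L811809 : sm gb N62020 = N60980 := ded_21_1 (flp_e L800515) L800499 L811807
theorem L811811 : sm gc N62020 = N61507 := ded_28_1 (flp_e L806160) (flp_c L800513) L811807
theorem L811813 : sm gg N62020 = N61502 := ded_41_2 (flp_e L806089) (flp_g L800505) L811807
theorem L811815 : sm gj N62020 = N61005 := ded_42_2 (flp_e L800870) (flp_j L800507) L811807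
theorem L811817 : sm gh N62020 = N61690 := ded_43_2 (flp_e L807605) (flp_h L800509) L811807
theorem L811819 : sm gi N62020 = N60987 := ded_44_2 (flp_e L800625) (flp_i L800511) L811807
theorem L811821 : sm gd N62020 = N61111 := ded_34_1 (flp_e L802172) L789842 (flp_e L788591) (flp_d L800501) L811807
theorem L811823 : sm gf N62020 = N61055 := ded_40_2 (flp_e L801543) L789303 (flp_e L788378) (flp_f L800503) L811807
theorem L811825 : sm ga N60982 = N62021 := rfl
theorem L811827 : sm gc N62021 = N61044 := ded_11_2 (flp_a L801408) (flp_c L800563) L811825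
theorem L811829 : sm gd N62021 = N61019 := ded_12_2 (flp_a L801058) (flp_d L800549) L811825
theorem L811831 : sm ge N62021 = N61058 := ded_13_2 (flp_a L801580) (flp_e L800551) L811825
theorem L811833 : sm gf N62021 = N61029 := ded_14_2 (flp_a L801200) (flp_f L800553) L811825
theorem L811835 : sm gg N62021 = N60983 := ded_15_2 (flp_a L800565) (flp_g L800555) L811825
theorem L811837 : sm gj N62021 = N61023 := ded_16_2 (flp_a L801110) (flp_j L800557) L811825
theorem L811839 : sm gh N62021 = N61204 := ded_17_2 (flp_a L803114) (flp_h L800559) L811825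
theorem L811841 : sm gi N62021 = N61024 := ded_18_2 (flp_a L801126) (flp_i L800561) L811825
theorem L811843 : sm gb N62021 = N61012 := ded_10_2 (flp_a L800962) (flp_b L788768) (flp_a L788390) L800547 L811825
theorem L811845 : sm ge N60984 = N62022 := rfl
theorem L811847 : sm ga N62022 = N60985 := ded_13_1 (flp_e L800593) L800579 L811845
theorem L811849 : sm gb N62022 = N61017 := ded_21_1 (flp_e L801036) (flp_b L800591) L811845
theorem L811851 : sm gc N62022 = N61668 := ded_28_1 (flp_e L808168) L808164 L811845
theorem L811853 : sm gg N62022 = N61637 := ded_41_2 (flp_e L807244) (flp_g L800585) L811845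
theorem L811855 : sm gj N62022 = N61021 := ded_42_2 (flp_e L801088) (flp_j L800587) L811845
theorem L811857 : sm gh N62022 = N61225 := ded_43_2 (flp_e L803356) (flp_h L800589) L811845
theorem L811859 : sm gd N62022 = N61070 := ded_34_1 (flp_e L801728) L789473 (flp_e L788478) (flp_d L800581) L811845
theorem L811861 : sm gf N62022 = N61150 := ded_40_2 (flp_e L802573) L790225 (flp_e L788788) (flp_f L800583) L811845
theorem L811863 : sm ge N60986 = N62023 := rfl
theorem L811865 : sm ga N62023 = N60987 := ded_13_1 (flp_e L800625) L800609 L811863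
theorem L811867 : sm gb N62023 = N61021 := ded_21_1 (flp_e L801088) (flp_b L800623) L811863
theorem L811869 : sm gc N62023 = N61676 := ded_28_1 (flp_e L807514) (flp_c L800611) L811863
theorem L811871 : sm gg N62023 = N61678 := ded_41_2 (flp_e L807528) (flp_g L800617) L811863
theorem L811873 : sm gj N62023 = N61017 := ded_42_2 (flp_e L801036) (flp_j L800619) L811863
theorem L811875 : sm gh N62023 = N61205 := ded_43_2 (flp_e L803128) (flp_h L800621) L811863
theorem L811877 : sm gd N62023 = N61149 := ded_34_1 (flp_e L802565) L790209 (flp_e L788788) (flp_d L800613) L811863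
theorem L811879 : sm gf N62023 = N61072 := ded_40_2 (flp_e L801744) L789497 (flp_e L788478) (flp_f L800615) L811863
theorem L811881 : sm gb N60988 = N62024 := rfl
theorem L811883 : sm gd N62024 = N61001 := ded_20_2 (flp_b L800819) (flp_d L800655) L811881
theorem L811885 : sm gf N62024 = N61156 := ded_22_2 (flp_b L802648) (flp_f L800645) L811881
theorem L811887 : sm gg N62024 = N61206 := ded_23_2 (flp_b L803138) (flp_g L800647) L811881
theorem L811889 : sm gj N62024 = N61648 := ded_24_2 (flp_b L807320) (flp_j L800649) L811881
theorem L811891 : sm gh N62024 = N60992 := ded_25_2 (flp_b L800703) (flp_h L800651) L811881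
theorem L811893 : sm gi N62024 = N61153 := ded_26_2 (flp_b L802611) (flp_i L800653) L811881
theorem L811895 : sm gc N62024 = N61167 := ded_19_2 (flp_b L802788) (flp_c L790420) (flp_b L788490) L800641 L811881
theorem L811897 : sm ge N60988 = N62025 := rfl
theorem L811899 : sm ga N62025 = N61640 := ded_13_1 (flp_e L807266) (flp_a L800643) L811897
theorem L811901 : sm gc N62025 = N60989 := ded_28_1 (flp_e L800657) L800641 L811897
theorem L811903 : sm gg N62025 = N61207 := ded_41_2 (flp_e L803148) (flp_g L800647) L811897
theorem L811905 : sm gj N62025 = N61649 := ded_42_2 (flp_e L807330) (flp_j L800649) L811897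
theorem L811907 : sm gh N62025 = N60993 := ded_43_2 (flp_e L800711) (flp_h L800651) L811897
theorem L811909 : sm gi N62025 = N61154 := ded_44_2 (flp_e L802623) (flp_i L800653) L811897
theorem L811911 : sm gf N60989 = N62026 := rfl
theorem L811913 : sm ga N62026 = N61641 := ded_14_1 (flp_f L807276) (flp_a L800659) L811911
theorem L811915 : sm gb N62026 = N61169 := ded_22_1 (flp_f L802802) (flp_b L800661) L811911
theorem L811917 : sm gd N62026 = N62026 := ded_35_1 (flp_f L811911) L800671 L811911
theorem L811918 : sm gj N62026 = N61650 := ded_46_2 (flp_f L807338) (flp_j L800665) L811911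
theorem L811920 : sm gh N62026 = N60994 := ded_47_2 (flp_f L800723) (flp_h L800667) L811911
theorem L811922 : sm gi N62026 = N61155 := ded_48_2 (flp_f L802633) (flp_i L800669) L811911
theorem L811924 : sm ge N62026 = N61158 := ded_40_1 (flp_f L802672) (flp_e L790300) (flp_f L788492) L800657 L811911
theorem L811926 : sm gg N62026 = N61197 := ded_45_2 L803027 L792092 (flp_f L790831) (flp_g L800663) L811911
theorem L811928 : sm gb N60990 = N62027 := rfl
theorem L811930 : sm gd N62027 = N60995 := ded_20_2 (flp_b L800733) (flp_d L800686) L811928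
theorem L811932 : sm gf N62027 = N60992 := ded_22_2 (flp_b L800703) (flp_f L800676) L811928
theorem L811934 : sm gg N62027 = N61215 := ded_23_2 (flp_b L803227) (flp_g L800678) L811928
theorem L811936 : sm gj N62027 = N61639 := ded_24_2 (flp_b L807258) (flp_j L800680) L811928
theorem L811938 : sm gh N62027 = N61156 := ded_25_2 (flp_b L802648) (flp_h L800682) L811928
theorem L811940 : sm gi N62027 = N61114 := ded_26_2 (flp_b L802202) (flp_i L800684) L811928
theorem L811942 : sm gc N62027 = N61120 := ded_19_2 (flp_b L802289) (flp_c L789953) (flp_b L788506) L800672 L811928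
theorem L811944 : sm ge N60990 = N62028 := rfl
theorem L811946 : sm ga N62028 = N61649 := ded_13_1 (flp_e L807330) (flp_a L800674) L811944
theorem L811948 : sm gc N62028 = N60991 := ded_28_1 (flp_e L800688) L800672 L811944
theorem L811950 : sm gg N62028 = N61216 := ded_41_2 (flp_e L803241) (flp_g L800678) L811944
theorem L811952 : sm gj N62028 = N61640 := ded_42_2 (flp_e L807266) (flp_j L800680) L811944
theorem L811954 : sm gh N62028 = N61157 := ded_43_2 (flp_e L802660) (flp_h L800682) L811944
theorem L811956 : sm gi N62028 = N61115 := ded_44_2 (flp_e L802216) (flp_i L800684) L811944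
theorem L811958 : sm gf N60991 = N62029 := rfl
theorem L811960 : sm ga N62029 = N61650 := ded_14_1 (flp_f L807338) (flp_a L800690) L811958
theorem L811962 : sm gb N62029 = N61122 := ded_22_1 (flp_f L802307) (flp_b L800692) L811958
theorem L811964 : sm gd N62029 = N62029 := ded_35_1 (flp_f L811958) L800702 L811958
theorem L811965 : sm gj N62029 = N61641 := ded_46_2 (flp_f L807276) (flp_j L800696) L811958
theorem L811967 : sm gh N62029 = N61158 := ded_47_2 (flp_f L802672) (flp_h L800698) L811958
theorem L811969 : sm gi N62029 = N61116 := ded_48_2 (flp_f L802228) (flp_i L800700) L811958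
theorem L811971 : sm ge N62029 = N60994 := ded_40_1 (flp_f L800723) (flp_e L788528) (flp_f L788508) L800688 L811958
theorem L811973 : sm gg N62029 = N61136 := ded_45_2 L802426 L792422 (flp_f L790924) (flp_g L800694) L811958
theorem L811975 : sm ga N60992 = N62030 := rfl
theorem L811977 : sm gd N62030 = N60997 := ded_12_2 (flp_a L800759) (flp_d L800705) L811975
theorem L811979 : sm gg N62030 = N61218 := ded_15_2 (flp_a L803269) (flp_g L800707) L811975
theorem L811981 : sm gi N62030 = N61209 := ded_18_2 (flp_a L803170) (flp_i L800709) L811975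
theorem L811983 : sm gb N62030 = N61655 := ded_10_2 (flp_a L807376) (flp_b L795470) (flp_a L788520) L800703 L811975
theorem L811985 : sm ge N60992 = N62031 := rfl
theorem L811987 : sm gb N62031 = N60993 := ded_21_1 (flp_e L800711) L800703 L811985
theorem L811989 : sm gg N62031 = N61219 := ded_41_2 (flp_e L803281) (flp_g L800707) L811985
theorem L811991 : sm gi N62031 = N61210 := ded_44_2 (flp_e L803180) (flp_i L800709) L811985
theorem L811993 : sm gd N62031 = N61098 := ded_34_1 (flp_e L802024) L789723 (flp_e L788579) (flp_d L800705) L811985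
theorem L811995 : sm gf N60993 = N62032 := rfl
theorem L811997 : sm ga N62032 = N61657 := ded_14_1 (flp_f L807392) (flp_a L800713) L811995
theorem L811999 : sm gc N62032 = N60994 := ded_29_1 (flp_f L800723) (flp_c L800715) L811995
theorem L812001 : sm gd N62032 = N61099 := ded_35_1 (flp_f L802032) (flp_d L800721) L811995
theorem L812003 : sm gi N62032 = N61211 := ded_48_2 (flp_f L803190) (flp_i L800719) L811995
theorem L812005 : sm gg N62032 = N61363 := ded_45_2 (flp_f L804790) L792539 (flp_f L790960) (flp_g L800717) L811995
theorem L812007 : sm ga N60995 = N62033 := rfl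
theorem L812009 : sm gc N62033 = N61522 := ded_11_2 (flp_a L806309) (flp_c L800743) L812007
theorem L812011 : sm gf N62033 = N60997 := ded_14_2 (flp_a L800759) (flp_f L800735) L812007
theorem L812013 : sm gg N62033 = N61684 := ded_15_2 (flp_a L807566) (flp_g L800737) L812007
theorem L812015 : sm gh N62033 = N61009 := ded_17_2 (flp_a L800930) (flp_h L800739) L812007
theorem L812017 : sm gi N62033 = N61212 := ded_18_2 (flp_a L803202) (flp_i L800741) L812007
theorem L812019 : sm gb N62033 = N61689 := ded_10_2 (flp_a L807595) (flp_b L795817) (flp_a L788552) L800733 L812007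
theorem L812021 : sm ge N60995 = N62034 := rfl
theorem L812023 : sm gb N62034 = N60996 := ded_21_1 (flp_e L800745) L800733 L812021
theorem L812025 : sm gc N62034 = N61523 := ded_28_1 (flp_e L806315) (flp_c L800743) L812021
theorem L812027 : sm gg N62034 = N61685 := ded_41_2 (flp_e L807572) (flp_g L800737) L812021
theorem L812029 : sm gh N62034 = N61010 := ded_43_2 (flp_e L800936) (flp_h L800739) L812021
theorem L812031 : sm gi N62034 = N61213 := ded_44_2 (flp_e L803210) (flp_i L800741) L812021
theorem L812033 : sm gf N62034 = N61103 := ded_40_2 (flp_e L802074) L789755 (flp_e L788579) (flp_f L800735) L812021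
theorem L812035 : sm gd N60996 = N62035 := rfl
theorem L812037 : sm ga N62035 = N61691 := ded_12_1 (flp_d L807615) (flp_a L800747) L812035
theorem L812039 : sm gf N62035 = N61104 := ded_35_2 (flp_d L802086) (flp_f L800757) L812035
theorem L812041 : sm gg N62035 = N61407 := ded_36_2 L805270 (flp_g L800751) L812035
theorem L812043 : sm gi N62035 = N61214 := ded_39_2 (flp_d L803218) (flp_i L800755) L812035
theorem L812045 : sm gc N62035 = N62035 := ded_27_1 (flp_d L812035) L800749 L788574 (flp_c L800749) L812035
theorem L812046 : sm gh N62035 = N61404 := ded_38_2 (flp_d L805244) L800960 (flp_d L800944) (flp_h L800753) L812035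
theorem L812048 : sm ga N60999 = N62036 := rfl
theorem L812050 : sm gc N62036 = N61004 := ded_11_2 (flp_a L800862) (flp_c L800799) L812048
theorem L812052 : sm gd N62036 = N61105 := ded_12_2 (flp_a L802093) (flp_d L800787) L812048
theorem L812054 : sm gf N62036 = N61058 := ded_14_2 (flp_a L801580) (flp_f L800789) L812048
theorem L812056 : sm gg N62036 = N61110 := ded_15_2 (flp_a L802162) (flp_g L800791) L812048
theorem L812058 : sm gj N62036 = N61506 := ded_16_2 (flp_a L806146) (flp_j L800793) L812048
theorem L812060 : sm gh N62036 = N61270 := ded_17_2 (flp_a L803878) (flp_h L800795) L812048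
theorem L812062 : sm gi N62036 = N61013 := ded_18_2 (flp_a L800980) (flp_i L800797) L812048
theorem L812064 : sm gb N62036 = N61137 := ded_10_2 (flp_a L802430) (flp_b L790082) (flp_a L788603) L800785 L812048
theorem L812066 : sm ge N60999 = N62037 := rfl
theorem L812068 : sm gb N62037 = N61000 := ded_21_1 (flp_e L800801) L800785 L812066
theorem L812070 : sm gc N62037 = N61005 := ded_28_1 (flp_e L800870) (flp_c L800799) L812066
theorem L812072 : sm gg N62037 = N61111 := ded_41_2 (flp_e L802172) (flp_g L800791) L812066
theorem L812074 : sm gj N62037 = N61507 := ded_42_2 (flp_e L806160) (flp_j L800793) L812066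
theorem L812076 : sm gh N62037 = N61271 := ded_43_2 (flp_e L803886) (flp_h L800795) L812066
theorem L812078 : sm gi N62037 = N61014 := ded_44_2 (flp_e L800990) (flp_i L800797) L812066
theorem L812080 : sm gd N62037 = N61502 := ded_34_1 (flp_e L806089) L793950 (flp_e L789787) (flp_d L800787) L812066
theorem L812082 : sm gf N62037 = N61030 := ded_40_2 (flp_e L801210) (flp_f L800553) L800551 (flp_f L800789) L812066
theorem L812084 : sm ga N61001 = N62038 := rfl
theorem L812086 : sm gc N62038 = N61270 := ded_11_2 (flp_a L803878) (flp_c L800831) L812084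
theorem L812088 : sm gf N62038 = N61233 := ded_14_2 (flp_a L803450) (flp_f L800821) L812084
theorem L812090 : sm gg N62038 = N61642 := ded_15_2 (flp_a L807283) (flp_g L800823) L812084
theorem L812092 : sm gj N62038 = N61689 := ded_16_2 (flp_a L807595) (flp_j L800825) L812084
theorem L812094 : sm gh N62038 = N61004 := ded_17_2 (flp_a L800862) (flp_h L800827) L812084
theorem L812096 : sm gi N62038 = N61696 := ded_18_2 (flp_a L807652) (flp_i L800829) L812084
theorem L812098 : sm ge N61001 = N62039 := rfl
theorem L812100 : sm gb N62039 = N61002 := ded_21_1 (flp_e L800833) L800819 L812098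
theorem L812102 : sm gc N62039 = N61271 := ded_28_1 (flp_e L803886) (flp_c L800831) L812098
theorem L812104 : sm gg N62039 = N61643 := ded_41_2 (flp_e L807287) (flp_g L800823) L812098
theorem L812106 : sm gj N62039 = N61690 := ded_42_2 (flp_e L807605) (flp_j L800825) L812098
theorem L812108 : sm gh N62039 = N61005 := ded_43_2 (flp_e L800870) (flp_h L800827) L812098
theorem L812110 : sm gi N62039 = N61697 := ded_44_2 (flp_e L807660) (flp_i L800829) L812098
theorem L812112 : sm gd N61002 = N62040 := rfl
theorem L812114 : sm gg N62040 = N61644 := ded_36_2 (flp_d L807293) (flp_g L800837) L812112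
theorem L812116 : sm gj N62040 = N61691 := ded_37_2 (flp_d L807615) (flp_j L800839) L812112
theorem L812118 : sm gi N62040 = N61698 := ded_39_2 (flp_d L807668) (flp_i L800843) L812112
theorem L812120 : sm gc N62040 = N62040 := ded_27_1 (flp_d L812112) L800835 L788659 (flp_c L800835) L812112
theorem L812121 : sm gh N62040 = N61125 := ded_38_2 (flp_d L802328) L789982 (flp_d L788676) (flp_h L800841) L812112
theorem L812123 : sm gf N61002 = N62041 := rfl
theorem L812125 : sm ga N62041 = N61082 := ded_14_1 (flp_f L809801) L809789 L812123
theorem L812127 : sm gc N62041 = N61003 := ded_29_1 (flp_f L800845) (flp_c L800835) L812123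
theorem L812129 : sm gj N62041 = N61041 := ded_46_2 L801376 (flp_j L800839) L812123
theorem L812131 : sm gh N62041 = N61006 := ded_47_2 (flp_f L800880) (flp_h L800841) L812123
theorem L812133 : sm gi N62041 = N61241 := ded_48_2 L803543 (flp_i L800843) L812123
theorem L812135 : sm ge N62041 = N61025 := ded_40_1 L801142 L789051 (flp_f L788637) L800833 L812123
theorem L812137 : sm gg N61142 = N62041 := ded_15_0 L812125 (flp_g L811219) L811215
theorem L812139 : sm ge N61004 = N62042 := rfl
theorem L812141 : sm ga N62042 = N61005 := ded_13_1 (flp_e L800870) L800862 L812139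
theorem L812143 : sm gg N62042 = N61646 := ded_41_2 (flp_e L807304) (flp_g L800866) L812139
theorem L812145 : sm gi N62042 = N61017 := ded_44_2 (flp_e L801036) (flp_i L800868) L812139
theorem L812147 : sm gd N62042 = N61129 := ded_34_1 (flp_e L802359) L790011 (flp_e L788744) (flp_d L800864) L812139
theorem L812149 : sm gf N61005 = N62043 := rfl
theorem L812151 : sm gb N62043 = N61006 := ded_22_1 (flp_f L800880) (flp_b L800872) L812149
theorem L812153 : sm gc N62043 = N61030 := ded_29_1 (flp_f L812082) L812070 L812149
theorem L812155 : sm gd N62043 = N61130 := ded_35_1 (flp_f L802367) (flp_d L800878) L812149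
theorem L812157 : sm gj N62043 = N61055 := ded_46_2 (flp_f L811823) L811815 L812149
theorem L812159 : sm gi N62043 = N61018 := ded_48_2 (flp_f L801044) (flp_i L800876) L812149
theorem L812161 : sm ge N62043 = N61026 := ded_40_1 L801158 (flp_e L800455) L800457 L800870 L812149
theorem L812163 : sm gg N61148 = N62043 := ded_23_0 L812151 (flp_g L800894) (flp_b L802559)
theorem L812165 : sm ga N61007 = N62044 := rfl
theorem L812167 : sm gc N62044 = N61054 := ded_11_2 (flp_a L801535) (flp_c L800910) L812165
theorem L812169 : sm gd N62044 = N61024 := ded_12_2 (flp_a L801126) (flp_d L800898) L812165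
theorem L812171 : sm gf N62044 = N61023 := ded_14_2 (flp_a L801110) (flp_f L800900) L812165
theorem L812173 : sm gg N62044 = N61009 := ded_15_2 (flp_a L800930) (flp_g L800902) L812165
theorem L812175 : sm gj N62044 = N61029 := ded_16_2 (flp_a L801200) (flp_j L800904) L812165
theorem L812177 : sm gh N62044 = N61684 := ded_17_2 (flp_a L807566) (flp_h L800906) L812165
theorem L812179 : sm gi N62044 = N61019 := ded_18_2 (flp_a L801058) (flp_i L800908) L812165
theorem L812181 : sm gb N62044 = N61501 := ded_10_2 (flp_a L806075) (flp_b L793948) (flp_a L788696) L800896 L812165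
theorem L812183 : sm ge N61007 = N62045 := rfl
theorem L812185 : sm gb N62045 = N61008 := ded_21_1 (flp_e L800912) L800896 L812183
theorem L812187 : sm gc N62045 = N61055 := ded_28_1 (flp_e L801543) (flp_c L800910) L812183
theorem L812189 : sm gg N62045 = N61010 := ded_41_2 (flp_e L800936) (flp_g L800902) L812183
theorem L812191 : sm gj N62045 = N61030 := ded_42_2 (flp_e L801210) (flp_j L800904) L812183
theorem L812193 : sm gh N62045 = N61685 := ded_43_2 (flp_e L807572) (flp_h L800906) L812183
theorem L812195 : sm gi N62045 = N61020 := ded_44_2 (flp_e L801072) (flp_i L800908) L812183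
theorem L812197 : sm gd N62045 = N61138 := ded_34_1 (flp_e L802438) (flp_d L800417) L800419 (flp_d L800898) L812183
theorem L812199 : sm gf N62045 = N61507 := ded_40_2 (flp_e L806160) L794032 (flp_e L788938) (flp_f L800900) L812183
theorem L812201 : sm ge N61009 = N62046 := rfl
theorem L812203 : sm ga N62046 = N61010 := ded_13_1 (flp_e L800936) L800930 L812201
theorem L812205 : sm gi N62046 = N61021 := ded_44_2 (flp_e L801088) (flp_i L800934) L812201
theorem L812207 : sm gf N62046 = N61133 := ded_40_2 (flp_e L802401) L790059 (flp_e L788744) (flp_f L800932) L812201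
theorem L812209 : sm gd N61010 = N62047 := rfl
theorem L812211 : sm gb N62047 = N61011 := ded_20_1 (flp_d L800944) (flp_b L800938) L812209
theorem L812213 : sm gf N62047 = N61134 := ded_35_2 (flp_d L802407) (flp_f L800942) L812209
theorem L812215 : sm gg N62047 = N61138 := ded_36_2 (flp_d L812197) L812189 L812209
theorem L812217 : sm gj N62047 = N61052 := ded_37_2 (flp_d L811785) L811781 L812209
theorem L812219 : sm gi N62047 = N61022 := ded_39_2 (flp_d L801096) (flp_i L800940) L812209
theorem L812221 : sm ge N62047 = N61043 := ded_34_2 L801394 (flp_e L800455) L800453 L800936 L812209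
theorem L812223 : sm gc N62047 = N61067 := ded_56_4 L801690 L789447 (flp_h L790445) L802828 L802834 (flp_d L802914) L802912 L790708 (flp_a L794264) L794270 (flp_f L784553) (flp_e L772901) (flp_d L761218) L747956 (flp_b L746148) (flp_a L755377) (flp_h L755375) (flp_f L750637) L750635 L735391 L717878 L702564 L681528 (flp_h L699811) L699800 L699885 L699896 L693867 L714132 L714123 L693812 L693809 L693835 (flp_d L693822) (flp_c L681289) L681287 L659748 (flp_h L361080) L248403 (flp_e L250473) (flp_d L364089) (flp_c L662909) (flp_b L685654) (flp_a L698706) L718311 (flp_f L735879) (flp_e L751190) L763948 L775447 L787282 L799479 (flp_h L810924) L810918 L804643 L795993 (flp_c L795910) (flp_b L800771) (flp_a L800759) L788583 (flp_f L788730) L800936 L812209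
theorem L812225 : sm gh N61403 = N62047 := ded_25_0 L812211 (flp_h L800960) (flp_b L805240)
theorem L812227 : sm ge N61013 = N62048 := rfl
theorem L812229 : sm ga N62048 = N61014 := ded_13_1 (flp_e L800990) L800980 L812227
theorem L812231 : sm gb N62048 = N61681 := ded_21_1 (flp_e L808292) L808304 L812227
theorem L812233 : sm gc N62048 = N61017 := ded_28_1 (flp_e L801036) (flp_c L800982) L812227
theorem L812235 : sm gg N62048 = N61149 := ded_41_2 (flp_e L802565) (flp_g L800986) L812227
theorem L812237 : sm gj N62048 = N61676 := ded_42_2 (flp_e L807514) (flp_j L800988) L812227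
theorem L812239 : sm gd N62048 = N61678 := ded_34_1 (flp_e L807528) (flp_d L800966) L800968 (flp_d L800984) L812227
theorem L812241 : sm gf N62048 = N61679 := ded_40_2 (flp_e L807536) (flp_f L801130) (flp_e L811723) L811725 L812227
theorem L812243 : sm ge N61015 = N62049 := rfl
theorem L812245 : sm ga N62049 = N61016 := ded_13_1 (flp_e L801020) L801004 L812243
theorem L812247 : sm gb N62049 = N61225 := ded_21_1 (flp_e L803356) (flp_b L801018) L812243
theorem L812249 : sm gg N62049 = N61658 := ded_41_2 (flp_e L807398) (flp_g L801010) L812243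
theorem L812251 : sm gj N62049 = N61205 := ded_42_2 (flp_e L803128) (flp_j L801012) L812243
theorem L812253 : sm gh N62049 = N61017 := ded_43_2 (flp_e L801036) (flp_h L801014) L812243
theorem L812255 : sm gi N62049 = N61699 := ded_44_2 (flp_e L807673) (flp_i L801016) L812243
theorem L812257 : sm gd N62049 = N61706 := ded_34_1 (flp_e L807724) L795983 (flp_e L791096) (flp_d L801006) L812243
theorem L812259 : sm gf N62049 = N61285 := ded_40_2 (flp_e L804033) L791802 (flp_e L790784) (flp_f L801008) L812243
theorem L812261 : sm gf N61017 = N62050 := rfl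
theorem L812263 : sm ga N62050 = N61018 := ded_14_1 (flp_f L801044) (flp_a L801038) L812261
theorem L812265 : sm gb N62050 = N61150 := ded_22_1 (flp_f L811861) L811849 L812261
theorem L812267 : sm gc N62050 = N61679 := ded_29_1 (flp_f L812241) L812233 L812261
theorem L812269 : sm gd N62050 = N61190 := ded_35_1 (flp_f L802970) (flp_d L801042) L812261
theorem L812271 : sm gj N62050 = N61072 := ded_46_2 (flp_f L811879) L811873 L812261
theorem L812273 : sm gh N62050 = N61285 := ded_47_2 (flp_f L812259) L812253 L812261
theorem L812275 : sm ge N62050 = N61061 := ded_40_1 L801618 (flp_e L800569) L800571 L801036 L812261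
theorem L812277 : sm ge N61019 = N62051 := rfl
theorem L812279 : sm ga N62051 = N61020 := ded_13_1 (flp_e L801072) L801058 L812277
theorem L812281 : sm gb N62051 = N61678 := ded_21_1 (flp_e L807528) (flp_b L801070) L812277
theorem L812283 : sm gc N62051 = N61072 := ded_28_1 (flp_e L801744) (flp_c L801060) L812277
theorem L812285 : sm gg N62051 = N61021 := ded_41_2 (flp_e L801088) (flp_g L801064) L812277
theorem L812287 : sm gj N62051 = N61679 := ded_42_2 (flp_e L807536) (flp_j L801066) L812277
theorem L812289 : sm gh N62051 = N61228 := ded_43_2 (flp_e L803388) (flp_h L801068) L812277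
theorem L812291 : sm gd N62051 = N61681 := ded_34_1 (flp_e L808292) L808290 (flp_e L811831) L811829 L812277
theorem L812293 : sm gf N62051 = N61676 := ded_40_2 (flp_e L807514) (flp_f L800441) L800439 (flp_f L801062) L812277
theorem L812295 : sm gd N61021 = N62052 := rfl
theorem L812297 : sm ga N62052 = N61022 := ded_12_1 (flp_d L801096) (flp_a L801090) L812295
theorem L812299 : sm gb N62052 = N61149 := ded_20_1 (flp_d L811877) L811867 L812295
theorem L812301 : sm gf N62052 = N61194 := ded_35_2 (flp_d L803004) (flp_f L801094) L812295
theorem L812303 : sm gg N62052 = N61681 := ded_36_2 (flp_d L812291) L812285 L812295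
theorem L812305 : sm gj N62052 = N61070 := ded_37_2 (flp_d L811859) L811855 L812295
theorem L812307 : sm ge N62052 = N61059 := ded_34_2 L801592 (flp_e L800569) L800567 L801088 L812295
theorem L812309 : sm gc N61683 = N62052 := ded_11_0 L812297 (flp_c L801108) (flp_a L807564)
theorem L812311 : sm gb N61025 = N62053 := rfl
theorem L812313 : sm gd N62053 = N61411 := ded_20_2 (flp_b L805304) (flp_d L801152) L812311
theorem L812315 : sm gf N62053 = N61031 := ded_22_2 (flp_b L801220) (flp_f L801142) L812311
theorem L812317 : sm gg N62053 = N61141 := ded_23_2 (flp_b L802483) (flp_g L801144) L812311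
theorem L812319 : sm gj N62053 = N61040 := ded_24_2 (flp_b L801352) (flp_j L801146) L812311
theorem L812321 : sm gh N62053 = N61026 := ded_25_2 (flp_b L801154) (flp_h L801148) L812311
theorem L812323 : sm gi N62053 = N61240 := ded_26_2 (flp_b L803521) (flp_i L801150) L812311
theorem L812325 : sm gc N62053 = N61027 := ded_19_2 (flp_b L801168) (flp_c L788988) (flp_b L788962) L801138 L812311
theorem L812327 : sm ga N61026 = N62054 := rfl
theorem L812329 : sm gc N62054 = N61029 := ded_11_2 (flp_a L801200) (flp_c L801166) L812327
theorem L812331 : sm gd N62054 = N61062 := ded_12_2 (flp_a L801626) (flp_d L801156) L812327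
theorem L812333 : sm gf N62054 = N61044 := ded_14_2 (flp_a L801408) (flp_f L801158) L812327
theorem L812335 : sm gg N62054 = N61147 := ded_15_2 (flp_a L802547) (flp_g L801160) L812327
theorem L812337 : sm gj N62054 = N61054 := ded_16_2 (flp_a L801535) (flp_j L801162) L812327
theorem L812339 : sm gi N62054 = N61061 := ded_18_2 (flp_a L801614) (flp_i L801164) L812327
theorem L812341 : sm gb N62054 = N61112 := ded_10_2 (flp_a L802182) (flp_b L789858) (flp_a L788976) L801154 L812327
theorem L812343 : sm ga N61027 = N62055 := rfl
theorem L812345 : sm gd N62055 = N61236 := ded_12_2 (flp_a L803480) (flp_d L801170) L812343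
theorem L812347 : sm gf N62055 = N61204 := ded_14_2 (flp_a L803114) (flp_f L801172) L812343
theorem L812349 : sm gg N62055 = N61651 := ded_15_2 (flp_a L807345) (flp_g L801174) L812343
theorem L812351 : sm gj N62055 = N61684 := ded_16_2 (flp_a L807566) (flp_j L801176) L812343
theorem L812353 : sm gh N62055 = N61029 := ded_17_2 (flp_a L801200) (flp_h L801178) L812343
theorem L812355 : sm gi N62055 = N61686 := ded_18_2 (flp_a L807578) (flp_i L801180) L812343
theorem L812357 : sm gb N62055 = N61222 := ded_10_2 (flp_a L803323) (flp_b L791010) (flp_a L788990) L801168 L812343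
theorem L812359 : sm ge N61027 = N62056 := rfl
theorem L812361 : sm gb N62056 = N61028 := ded_21_1 (flp_e L801182) L801168 L812359
theorem L812363 : sm gg N62056 = N61652 := ded_41_2 (flp_e L807353) (flp_g L801174) L812359
theorem L812365 : sm gj N62056 = N61685 := ded_42_2 (flp_e L807572) (flp_j L801176) L812359
theorem L812367 : sm gh N62056 = N61030 := ded_43_2 (flp_e L801210) (flp_h L801178) L812359
theorem L812369 : sm gi N62056 = N61687 := ded_44_2 (flp_e L807584) (flp_i L801180) L812359
theorem L812371 : sm gf N62056 = N61271 := ded_40_2 (flp_e L803886) L791659 (flp_e L790772) (flp_f L801172) L812359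
theorem L812373 : sm gd N61751 = N62056 := ded_20_0 L812361 (flp_d L801198) (flp_b L808012)
theorem L812375 : sm ge N61029 = N62057 := rfl
theorem L812377 : sm ga N62057 = N61030 := ded_13_1 (flp_e L801210) L801200 L812375
theorem L812379 : sm gb N62057 = N61669 := ded_21_1 (flp_e L807471) (flp_b L801208) L812375
theorem L812381 : sm gg N62057 = N61660 := ded_41_2 (flp_e L807410) (flp_g L801204) L812375
theorem L812383 : sm gi N62057 = N61679 := ded_44_2 (flp_e L807536) (flp_i L801206) L812375
theorem L812385 : sm gd N62057 = N61677 := ded_34_1 (flp_e L807522) (flp_d L800437) L800439 (flp_d L801202) L812375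
theorem L812387 : sm ga N61031 = N62058 := rfl
theorem L812389 : sm gc N62058 = N61204 := ded_11_2 (flp_a L803114) (flp_c L801234) L812387
theorem L812391 : sm gd N62058 = N61618 := ded_12_2 (flp_a L807110) (flp_d L801222) L812387
theorem L812393 : sm ge N62058 = N61233 := ded_13_2 (flp_a L803450) (flp_e L801224) L812387
theorem L812395 : sm gg N62058 = N61201 := ded_15_2 (flp_a L803070) (flp_g L801226) L812387
theorem L812397 : sm gj N62058 = N61042 := ded_16_2 (flp_a L801378) (flp_j L801228) L812387
theorem L812399 : sm gh N62058 = N61044 := ded_17_2 (flp_a L801408) (flp_h L801230) L812387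
theorem L812401 : sm gi N62058 = N61242 := ded_18_2 (flp_a L803545) (flp_i L801232) L812387
theorem L812403 : sm gb N62058 = N61083 := ded_10_2 (flp_a L801880) (flp_b L789626) (flp_a L789049) L801220 L812387
theorem L812405 : sm gb N61032 = N62059 := rfl
theorem L812407 : sm gd N62059 = N61047 := ded_20_2 (flp_b L801446) (flp_d L801250) L812405
theorem L812409 : sm gf N62059 = N61418 := ded_22_2 (flp_b L805375) (flp_f L801240) L812405
theorem L812411 : sm gg N62059 = N61528 := ded_23_2 (flp_b L806352) (flp_g L801242) L812405
theorem L812413 : sm gj N62059 = N61394 := ded_24_2 (flp_b L805137) (flp_j L801244) L812405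
theorem L812415 : sm gh N62059 = N61036 := ded_25_2 (flp_b L801298) (flp_h L801246) L812405
theorem L812417 : sm gi N62059 = N61565 := ded_26_2 (flp_b L806695) (flp_i L801248) L812405
theorem L812419 : sm gc N62059 = N61569 := ded_19_2 (flp_b L806737) (flp_c L794732) (flp_b L789067) L801236 L812405
theorem L812421 : sm ge N61032 = N62060 := rfl
theorem L812423 : sm ga N62060 = N61092 := ded_13_1 (flp_e L801978) (flp_a L801238) L812421
theorem L812425 : sm gc N62060 = N61033 := ded_28_1 (flp_e L801252) L801236 L812421
theorem L812427 : sm gg N62060 = N61529 := ded_41_2 (flp_e L806362) (flp_g L801242) L812421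
theorem L812429 : sm gj N62060 = N61395 := ded_42_2 (flp_e L805151) (flp_j L801244) L812421
theorem L812431 : sm gh N62060 = N61037 := ded_43_2 (flp_e L801310) (flp_h L801246) L812421
theorem L812433 : sm gi N62060 = N61566 := ded_44_2 (flp_e L806705) (flp_i L801248) L812421
theorem L812435 : sm gf N61033 = N62061 := rfl
theorem L812437 : sm ga N62061 = N61093 := ded_14_1 (flp_f L801986) (flp_a L801254) L812435
theorem L812439 : sm gb N62061 = N61489 := ded_22_1 L805972 (flp_b L801256) L812435
theorem L812441 : sm gd N62061 = N62061 := ded_35_1 (flp_f L812435) L801266 L812435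
theorem L812442 : sm gj N62061 = N61389 := ded_46_2 L805080 (flp_j L801260) L812435
theorem L812444 : sm gh N62061 = N61038 := ded_47_2 (flp_f L801324) (flp_h L801262) L812435
theorem L812446 : sm gi N62061 = N61388 := ded_48_2 L805068 (flp_i L801264) L812435
theorem L812448 : sm ge N62061 = N61420 := ded_40_1 (flp_f L805397) (flp_e L793119) (flp_f L789069) L801252 L812435
theorem L812450 : sm gb N61034 = N62062 := rfl
theorem L812452 : sm gd N62062 = N61040 := ded_20_2 (flp_b L801352) (flp_d L801281) L812450
theorem L812454 : sm gf N62062 = N61036 := ded_22_2 (flp_b L801298) (flp_f L801271) L812450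
theorem L812456 : sm gg N62062 = N61445 := ded_23_2 (flp_b L805598) (flp_g L801273) L812450
theorem L812458 : sm gj N62062 = N61411 := ded_24_2 (flp_b L805304) (flp_j L801275) L812450
theorem L812460 : sm gh N62062 = N61418 := ded_25_2 (flp_b L805375) (flp_h L801277) L812450
theorem L812462 : sm gi N62062 = N61243 := ded_26_2 (flp_b L803561) (flp_i L801279) L812450
theorem L812464 : sm gc N62062 = N61598 := ded_19_2 (flp_b L806952) (flp_c L794984) (flp_b L789083) L801267 L812450
theorem L812466 : sm ge N61034 = N62063 := rfl
theorem L812468 : sm ga N62063 = N61095 := ded_13_1 (flp_e L802001) (flp_a L801269) L812466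
theorem L812470 : sm gc N62063 = N61035 := ded_28_1 (flp_e L801283) L801267 L812466
theorem L812472 : sm gg N62063 = N61446 := ded_41_2 (flp_e L805608) (flp_g L801273) L812466
theorem L812474 : sm gj N62063 = N61412 := ded_42_2 (flp_e L805316) (flp_j L801275) L812466
theorem L812476 : sm gh N62063 = N61419 := ded_43_2 (flp_e L805387) (flp_h L801277) L812466
theorem L812478 : sm gi N62063 = N61244 := ded_44_2 (flp_e L803573) (flp_i L801279) L812466
theorem L812480 : sm gf N61035 = N62064 := rfl
theorem L812482 : sm ga N62064 = N61096 := ded_14_1 (flp_f L802009) (flp_a L801285) L812480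
theorem L812484 : sm gb N62064 = N61387 := ded_22_1 L805056 (flp_b L801287) L812480
theorem L812486 : sm gd N62064 = N62064 := ded_35_1 (flp_f L812480) L801297 L812480
theorem L812487 : sm gj N62064 = N61391 := ded_46_2 L805103 (flp_j L801291) L812480
theorem L812489 : sm gh N62064 = N61420 := ded_47_2 (flp_f L805397) (flp_h L801293) L812480
theorem L812491 : sm gi N62064 = N61245 := ded_48_2 (flp_f L803583) (flp_i L801295) L812480
theorem L812493 : sm ge N62064 = N61038 := ded_40_1 (flp_f L801324) (flp_e L789107) (flp_f L789085) L801283 L812480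
theorem L812495 : sm ga N61036 = N62065 := rfl
theorem L812497 : sm gc N62065 = N61603 := ded_11_2 (flp_a L806999) (flp_c L801308) L812495
theorem L812499 : sm gd N62065 = N61042 := ded_12_2 (flp_a L801378) (flp_d L801300) L812495
theorem L812501 : sm gg N62065 = N61534 := ded_15_2 (flp_a L806418) (flp_g L801302) L812495
theorem L812503 : sm gj N62065 = N61618 := ded_16_2 (flp_a L807110) (flp_j L801304) L812495
theorem L812505 : sm gi N62065 = N61246 := ded_18_2 (flp_a L803596) (flp_i L801306) L812495
theorem L812507 : sm gb N62065 = N61097 := ded_10_2 (flp_a L802016) (flp_b L789721) (flp_a L789097) L801298 L812495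
theorem L812509 : sm ge N61036 = N62066 := rfl
theorem L812511 : sm gb N62066 = N61037 := ded_21_1 (flp_e L801310) L801298 L812509
theorem L812513 : sm gc N62066 = N61604 := ded_28_1 (flp_e L807005) (flp_c L801308) L812509
theorem L812515 : sm gg N62066 = N61535 := ded_41_2 (flp_e L806430) (flp_g L801302) L812509
theorem L812517 : sm gj N62066 = N61619 := ded_42_2 (flp_e L807116) (flp_j L801304) L812509
theorem L812519 : sm gi N62066 = N61247 := ded_44_2 (flp_e L803610) (flp_i L801306) L812509
theorem L812521 : sm gd N62066 = N61656 := ded_34_1 (flp_e L807384) L795472 (flp_e L789164) (flp_d L801300) L812509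
theorem L812523 : sm gf N61037 = N62067 := rfl
theorem L812525 : sm ga N62067 = N61099 := ded_14_1 (flp_f L802032) (flp_a L801312) L812523
theorem L812527 : sm gc N62067 = N61038 := ded_29_1 (flp_f L801324) (flp_c L801314) L812523
theorem L812529 : sm gd N62067 = N61657 := ded_35_1 (flp_f L807392) (flp_d L801322) L812523
theorem L812531 : sm gj N62067 = N61482 := ded_46_2 L805926 (flp_j L801318) L812523
theorem L812533 : sm gi N62067 = N61248 := ded_48_2 (flp_f L803624) (flp_i L801320) L812523
theorem L812535 : sm gg N61038 = N62068 := rfl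
theorem L812537 : sm ga N62068 = N61100 := ded_15_1 (flp_g L802038) (flp_a L801326) L812535
theorem L812539 : sm gb N62068 = N61606 := ded_23_1 (flp_g L807021) (flp_b L801328) L812535
theorem L812541 : sm gd N62068 = N61039 := ded_36_1 (flp_g L801336) (flp_d L801330) L812535
theorem L812543 : sm gi N62068 = N61249 := ded_51_2 (flp_g L803636) (flp_i L801334) L812535
theorem L812545 : sm gf N62068 = N61265 := ded_45_1 L803817 L791597 (flp_g L789113) L801324 L812535
theorem L812547 : sm gj N62068 = N61492 := ded_49_2 L806000 L793752 (flp_g L793771) (flp_j L801332) L812535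
theorem L812549 : sm ga N61040 = N62069 := rfl
theorem L812551 : sm gc N62069 = N61684 := ded_11_2 (flp_a L807566) (flp_c L801362) L812549
theorem L812553 : sm gf N62069 = N61042 := ded_14_2 (flp_a L801378) (flp_f L801354) L812549
theorem L812555 : sm gg N62069 = N61522 := ded_15_2 (flp_a L806309) (flp_g L801356) L812549
theorem L812557 : sm gh N62069 = N61054 := ded_17_2 (flp_a L801535) (flp_h L801358) L812549
theorem L812559 : sm gi N62069 = N61250 := ded_18_2 (flp_a L803650) (flp_i L801360) L812549
theorem L812561 : sm gb N62069 = N61102 := ded_10_2 (flp_a L802062) (flp_b L789753) (flp_a L789137) L801352 L812549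
theorem L812563 : sm ge N61040 = N62070 := rfl
theorem L812565 : sm gb N62070 = N61041 := ded_21_1 (flp_e L801364) L801352 L812563
theorem L812567 : sm gc N62070 = N61685 := ded_28_1 (flp_e L807572) (flp_c L801362) L812563
theorem L812569 : sm gg N62070 = N61523 := ded_41_2 (flp_e L806315) (flp_g L801356) L812563
theorem L812571 : sm gh N62070 = N61055 := ded_43_2 (flp_e L801543) (flp_h L801358) L812563
theorem L812573 : sm gi N62070 = N61251 := ded_44_2 (flp_e L803658) (flp_i L801360) L812563
theorem L812575 : sm gf N62070 = N61690 := ded_40_2 (flp_e L807605) L795819 (flp_e L789164) (flp_f L801354) L812563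
theorem L812577 : sm gd N61041 = N62071 := rfl
theorem L812579 : sm ga N62071 = N61104 := ded_12_1 (flp_d L802086) (flp_a L801366) L812577
theorem L812581 : sm gf N62071 = N61691 := ded_35_2 (flp_d L807615) (flp_f L801376) L812577
theorem L812583 : sm gg N62071 = N61524 := ded_36_2 (flp_d L806321) (flp_g L801370) L812577
theorem L812585 : sm gi N62071 = N61252 := ded_39_2 (flp_d L803666) (flp_i L801374) L812577
theorem L812587 : sm gc N62071 = N62071 := ded_27_1 (flp_d L812577) L801368 L789159 (flp_c L801368) L812577
theorem L812588 : sm ga N61043 = N62072 := rfl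
theorem L812590 : sm gc N62072 = N61066 := ded_11_2 (flp_a L801680) (flp_c L801406) L812588
theorem L812592 : sm gd N62072 = N61044 := ded_12_2 (flp_a L801408) (flp_d L801394) L812588
theorem L812594 : sm gf N62072 = N61062 := ded_14_2 (flp_a L801626) (flp_f L801396) L812588
theorem L812596 : sm gg N62072 = N61137 := ded_15_2 (flp_a L802430) (flp_g L801398) L812588
theorem L812598 : sm gj N62072 = N61051 := ded_16_2 (flp_a L801501) (flp_j L801400) L812588
theorem L812600 : sm gh N62072 = N61402 := ded_17_2 (flp_a L805232) (flp_h L801402) L812588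
theorem L812602 : sm gi N62072 = N61059 := ded_18_2 (flp_a L801590) (flp_i L801404) L812588
theorem L812604 : sm gb N62072 = N61110 := ded_10_2 (flp_a L802162) (flp_b L789840) (flp_a L789176) L801392 L812588
theorem L812606 : sm ga N61045 = N62073 := rfl
theorem L812608 : sm gc N62073 = N61051 := ded_11_2 (flp_a L801501) (flp_c L801428) L812606
theorem L812610 : sm gd N62073 = N61061 := ded_12_2 (flp_a L801614) (flp_d L801418) L812606
theorem L812612 : sm gf N62073 = N61059 := ded_14_2 (flp_a L801590) (flp_f L801420) L812606
theorem L812614 : sm gg N62073 = N61112 := ded_15_2 (flp_a L802182) (flp_g L801422) L812606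
theorem L812616 : sm gj N62073 = N61066 := ded_16_2 (flp_a L801680) (flp_j L801424) L812606
theorem L812618 : sm gi N62073 = N61062 := ded_18_2 (flp_a L801626) (flp_i L801426) L812606
theorem L812620 : sm gb N62073 = N61147 := ded_10_2 (flp_a L802547) (flp_b L790189) (flp_a L789198) L801416 L812606
theorem L812622 : sm ge N61045 = N62074 := rfl
theorem L812624 : sm gb N62074 = N61046 := ded_21_1 (flp_e L801430) L801416 L812622
theorem L812626 : sm gc N62074 = N61052 := ded_28_1 (flp_e L801511) (flp_c L801428) L812622
theorem L812628 : sm gg N62074 = N61113 := ded_41_2 (flp_e L802192) (flp_g L801422) L812622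
theorem L812630 : sm gj N62074 = N61067 := ded_42_2 (flp_e L801688) (flp_j L801424) L812622
theorem L812632 : sm gi N62074 = N61063 := ded_44_2 (flp_e L801634) (flp_i L801426) L812622
theorem L812634 : sm gd N62074 = N61188 := ded_34_1 L802962 (flp_d L801050) L801056 (flp_d L801418) L812622
theorem L812636 : sm gf N62074 = N61187 := ded_40_2 L802956 (flp_f L801100) L801106 (flp_f L801420) L812622
theorem L812638 : sm ga N61047 = N62075 := rfl
theorem L812640 : sm gf N62075 = N61428 := ded_14_2 (flp_a L805465) (flp_f L801448) L812638
theorem L812642 : sm gg N62075 = N61664 := ded_15_2 (flp_a L807432) (flp_g L801450) L812638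
theorem L812644 : sm gj N62075 = N61402 := ded_16_2 (flp_a L805232) (flp_j L801452) L812638
theorem L812646 : sm gh N62075 = N61051 := ded_17_2 (flp_a L801501) (flp_h L801454) L812638
theorem L812648 : sm gb N62075 = N61123 := ded_10_2 (flp_a L802314) (flp_b L789970) (flp_a L789228) L801446 L812638
theorem L812650 : sm ge N61047 = N62076 := rfl
theorem L812652 : sm gb N62076 = N61048 := ded_21_1 (flp_e L801456) L801446 L812650
theorem L812654 : sm gg N62076 = N61665 := ded_41_2 (flp_e L807442) (flp_g L801450) L812650
theorem L812656 : sm gj N62076 = N61403 := ded_42_2 (flp_e L805238) (flp_j L801452) L812650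
theorem L812658 : sm gh N62076 = N61052 := ded_43_2 (flp_e L801511) (flp_h L801454) L812650
theorem L812660 : sm gd N61048 = N62077 := rfl
theorem L812662 : sm ga N62077 = N61125 := ded_12_1 (flp_d L802328) (flp_a L801458) L812660
theorem L812664 : sm gg N62077 = N61666 := ded_36_2 (flp_d L807450) (flp_g L801462) L812660
theorem L812666 : sm gj N62077 = N61404 := ded_37_2 (flp_d L805244) (flp_j L801464) L812660
theorem L812668 : sm gc N62077 = N62077 := ded_27_1 (flp_d L812660) L801460 L789248 (flp_c L801460) L812660
theorem L812669 : sm gf N61048 = N62078 := rfl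
theorem L812671 : sm ga N62078 = N61126 := ded_14_1 (flp_f L802333) (flp_a L801458) L812669
theorem L812673 : sm gc N62078 = N61049 := ded_29_1 (flp_f L801468) (flp_c L801460) L812669
theorem L812675 : sm gj N62078 = N61135 := ded_46_2 L802419 (flp_j L801464) L812669
theorem L812677 : sm gh N62078 = N61053 := ded_47_2 (flp_f L801519) (flp_h L801466) L812669
theorem L812679 : sm ge N62078 = N61183 := ded_40_1 L802926 (flp_e L793197) (flp_f L789230) L801456 L812669
theorem L812681 : sm gg N62078 = N61173 := ded_45_2 (flp_f L802828) (flp_g L798674) L798680 (flp_g L801462) L812669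
theorem L812683 : sm ga N61050 = N62079 := rfl
theorem L812685 : sm gc N62079 = N61059 := ded_11_2 (flp_a L801590) (flp_c L801499) L812683
theorem L812687 : sm gd N62079 = N61054 := ded_12_2 (flp_a L801535) (flp_d L801485) L812683
theorem L812689 : sm ge N62079 = N61683 := ded_13_2 L807564 (flp_e L801487) L812683
theorem L812691 : sm gf N62079 = N61051 := ded_14_2 (flp_a L801501) (flp_f L801489) L812683
theorem L812693 : sm gg N62079 = N61192 := ded_15_2 (flp_a L802982) (flp_g L801491) L812683
theorem L812695 : sm gj N62079 = N61062 := ded_16_2 (flp_a L801626) (flp_j L801493) L812683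
theorem L812697 : sm gh N62079 = N61428 := ded_17_2 (flp_a L805465) (flp_h L801495) L812683
theorem L812699 : sm gi N62079 = N61066 := ded_18_2 (flp_a L801680) (flp_i L801497) L812683
theorem L812701 : sm gb N62079 = N61127 := ded_10_2 (flp_a L802339) (flp_b L789989) (flp_a L789251) L801483 L812683
theorem L812703 : sm ge N61051 = N62080 := rfl
theorem L812705 : sm ga N62080 = N61052 := ded_13_1 (flp_e L801511) L801501 L812703
theorem L812707 : sm gb N62080 = N61129 := ded_21_1 (flp_e L802359) (flp_b L801509) L812703
theorem L812709 : sm gg N62080 = N61667 := ded_41_2 (flp_e L807457) (flp_g L801505) L812703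
theorem L812711 : sm gi N62080 = N61070 := ded_44_2 (flp_e L801728) (flp_i L801507) L812703
theorem L812713 : sm gf N61052 = N62081 := rfl
theorem L812715 : sm gb N62081 = N61053 := ded_22_1 (flp_f L801519) (flp_b L801513) L812713
theorem L812717 : sm gc N62081 = N61187 := ded_29_1 (flp_f L812636) L812626 L812713
theorem L812719 : sm gd N62081 = N61113 := ded_35_1 (flp_f L811787) L811785 L812713
theorem L812721 : sm gj N62081 = N61134 := ded_46_2 (flp_f L812213) L812217 L812713
theorem L812723 : sm gi N62081 = N61071 := ded_48_2 (flp_f L801736) (flp_i L801517) L812713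
theorem L812725 : sm ge N62081 = N61191 := ded_40_1 L802980 (flp_e L801487) L801489 L801511 L812713
theorem L812727 : sm gg N62081 = N61188 := ded_45_2 (flp_f L802958) (flp_g L802942) L802946 (flp_g L801515) L812713
theorem L812729 : sm ge N61054 = N62082 := rfl
theorem L812731 : sm ga N62082 = N61055 := ded_13_1 (flp_e L801543) L801535 L812729
theorem L812733 : sm gb N62082 = N61133 := ded_21_1 (flp_e L802401) (flp_b L801541) L812729
theorem L812735 : sm gi N62082 = N61072 := ded_44_2 (flp_e L801744) (flp_i L801539) L812729
theorem L812737 : sm gd N61055 = N62083 := rfl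
theorem L812739 : sm gb N62083 = N61056 := ded_20_1 (flp_d L801549) (flp_b L801545) L812737
theorem L812741 : sm gf N62083 = N61111 := ded_35_2 (flp_d L811821) L811823 L812737
theorem L812743 : sm gg N62083 = N61661 := ded_36_2 (flp_d L808158) L808150 L812737
theorem L812745 : sm gj N62083 = N61130 := ded_37_2 (flp_d L812155) L812157 L812737
theorem L812747 : sm gi N62083 = N61073 := ded_39_2 (flp_d L801752) (flp_i L801547) L812737
theorem L812749 : sm gc N62083 = N61647 := ded_27_1 L807316 (flp_c L802442) (flp_d L812197) L812187 L812737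
theorem L812751 : sm ge N62083 = N61663 := ded_34_2 L807430 (flp_e L801487) L801485 L801543 L812737
theorem L812753 : sm gh N61056 = N62084 := rfl
theorem L812755 : sm ga N62084 = N61135 := ded_17_1 (flp_h L802413) (flp_a L801551) L812753
theorem L812757 : sm gc N62084 = N61057 := ded_32_1 (flp_h L801565) (flp_c L801561) L812753
theorem L812759 : sm ge N62084 = N61284 := ded_43_1 L804029 (flp_e L801563) L812753
theorem L812761 : sm gf N62084 = N61109 := ded_47_1 L802160 (flp_f L801553) L812753
theorem L812763 : sm gg N62084 = N61654 := ded_50_1 L807372 (flp_g L801555) L812753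
theorem L812765 : sm gj N62084 = N61126 := ded_52_1 L802337 (flp_j L801557) L812753
theorem L812767 : sm gi N61057 = N62085 := rfl
theorem L812769 : sm ga N62085 = N61136 := ded_18_1 (flp_i L802421) (flp_a L801567) L812767
theorem L812771 : sm gb N62085 = N61641 := ded_26_1 L807281 (flp_b L801569) L812767
theorem L812773 : sm gd N62085 = N62085 := ded_39_1 (flp_i L812767) L801579 L812767
theorem L812774 : sm ge N62085 = N61258 := ded_44_1 L803743 (flp_e L801571) L812767
theorem L812776 : sm gf N62085 = N61107 := ded_48_1 L802135 (flp_f L801573) L812767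
theorem L812778 : sm gg N62085 = N61650 := ded_51_1 L807341 (flp_g L801575) L812767
theorem L812780 : sm gj N62085 = N61122 := ded_53_1 L802312 (flp_j L801577) L812767
theorem L812782 : sm gh N62085 = N61076 := ded_54_1 (flp_i L801789) (flp_h L789535) (flp_i L789335) L801565 L812767
theorem L812784 : sm ga N61060 = N62086 := rfl
theorem L812786 : sm gc N62086 = N61152 := ded_11_2 (flp_a L802597) (flp_c L801612) L812784
theorem L812788 : sm gd N62086 = N61112 := ded_12_2 (flp_a L802182) (flp_d L801600) L812784
theorem L812790 : sm gf N62086 = N61110 := ded_14_2 (flp_a L802162) (flp_f L801602) L812784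
theorem L812792 : sm gg N62086 = N61061 := ded_15_2 (flp_a L801614) (flp_g L801604) L812784
theorem L812794 : sm gj N62086 = N61127 := ded_16_2 (flp_a L802339) (flp_j L801606) L812784
theorem L812796 : sm gh N62086 = N61281 := ded_17_2 (flp_a L804003) (flp_h L801608) L812784
theorem L812798 : sm gi N62086 = N61147 := ded_18_2 (flp_a L802547) (flp_i L801610) L812784
theorem L812800 : sm gb N62086 = N61062 := ded_10_2 (flp_a L801626) (flp_b L789387) (flp_a L789355) L801598 L812784
theorem L812802 : sm ge N61062 = N62087 := rfl
theorem L812804 : sm ga N62087 = N61063 := ded_13_1 (flp_e L801634) L801626 L812802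
theorem L812806 : sm gc N62087 = N61070 := ded_28_1 (flp_e L801728) (flp_c L801628) L812802
theorem L812808 : sm gg N62087 = N61150 := ded_41_2 (flp_e L802573) (flp_g L801630) L812802
theorem L812810 : sm gj N62087 = N61683 := ded_42_2 (flp_e L812689) L812695 L812802
theorem L812812 : sm gh N62087 = N61431 := ded_43_2 (flp_e L805489) (flp_h L801632) L812802
theorem L812814 : sm gd N61063 = N62088 := rfl
theorem L812816 : sm gb N62088 = N61064 := ded_20_1 (flp_d L801646) (flp_b L801636) L812814
theorem L812818 : sm gg N62088 = N61071 := ded_36_2 L801740 (flp_g L801640) L812814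
theorem L812820 : sm gj N62088 = N61663 := ded_37_2 L807430 (flp_j L801642) L812814
theorem L812822 : sm gi N62088 = N61188 := ded_39_2 (flp_d L812634) L812632 L812814
theorem L812824 : sm gc N62088 = N61638 := ded_27_1 L807256 (flp_c L800597) L800605 (flp_c L801638) L812814
theorem L812826 : sm ge N62088 = N61130 := ded_34_2 (flp_d L812155) L812161 L801156 L801634 L812814
theorem L812828 : sm gf N61128 = N62088 := ded_22_0 L812816 (flp_f L801660) (flp_b L802351)
theorem L812830 : sm gf N61063 = N62089 := rfl
theorem L812832 : sm gb N62089 = N61065 := ded_22_1 (flp_f L801662) (flp_b L801636) L812830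
theorem L812834 : sm gc N62089 = N61071 := ded_29_1 (flp_f L801736) (flp_c L801638) L812830
theorem L812836 : sm gd N62089 = N61128 := ded_35_1 L812828 (flp_d L812814) L812830
theorem L812838 : sm gj N62089 = N61191 := ded_46_2 L802980 (flp_j L801642) L812830
theorem L812840 : sm gh N62089 = N61433 := ded_47_2 (flp_f L805501) (flp_h L801644) L812830
theorem L812842 : sm gi N62089 = N61187 := ded_48_2 (flp_f L812636) L812632 L812830
theorem L812844 : sm ge N62089 = N61134 := ded_40_1 (flp_f L812213) L812221 L801396 L801634 L812830
theorem L812846 : sm gg N62089 = N61638 := ded_45_2 (flp_f L807252) (flp_g L800599) L800607 (flp_g L801640) L812830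
theorem L812848 : sm ge N61066 = N62090 := rfl
theorem L812850 : sm ga N62090 = N61067 := ded_13_1 (flp_e L801688) L801680 L812848
theorem L812852 : sm gb N62090 = N61186 := ded_21_1 (flp_e L802948) (flp_b L801686) L812848
theorem L812854 : sm gg N62090 = N61675 := ded_41_2 (flp_e L808188) L808192 L812848
theorem L812856 : sm gi N62090 = N61683 := ded_44_2 (flp_e L812689) L812699 L812848
theorem L812858 : sm gd N61067 = N62091 := rfl
theorem L812860 : sm gb N62091 = N61068 := ded_20_1 (flp_d L801696) (flp_b L801690) L812858
theorem L812862 : sm gg N62091 = N61647 := ded_36_2 L807316 (flp_g L801692) L812858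
theorem L812864 : sm gj N62091 = N61188 := ded_37_2 (flp_d L812634) L812630 L812858
theorem L812866 : sm gi N62091 = N61663 := ded_39_2 L807430 (flp_i L801694) L812858
theorem L812868 : sm gc N62091 = N61661 := ded_27_1 (flp_d L808158) L808148 L812209 L812223 L812858
theorem L812870 : sm ge N62091 = N61073 := ded_34_2 (flp_d L801752) (flp_e L789503) (flp_d L789441) L801688 L812858
theorem L812872 : sm gf N61148 = N62091 := ded_22_0 L812860 (flp_f L801710) (flp_b L802559)
theorem L812874 : sm gf N61067 = N62092 := rfl
theorem L812876 : sm gb N62092 = N61069 := ded_22_1 (flp_f L801712) (flp_b L801690) L812874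
theorem L812878 : sm gc N62092 = N61134 := ded_29_1 (flp_f L812213) L812223 L812874
theorem L812880 : sm gd N62092 = N61148 := ded_35_1 L812872 (flp_d L812858) L812874
theorem L812882 : sm gj N62092 = N61187 := ded_46_2 (flp_f L812636) L812630 L812874
theorem L812884 : sm gi N62092 = N61191 := ded_48_2 L802980 (flp_i L801694) L812874
theorem L812886 : sm ge N62092 = N61071 := ded_40_1 (flp_f L801736) (flp_e L789479) (flp_f L789443) L801688 L812874
theorem L812888 : sm gg N62092 = N61130 := ded_45_2 (flp_f L802367) L790021 L795641 (flp_g L801692) L812874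
theorem L812890 : sm gh N61068 = N62093 := rfl
theorem L812892 : sm ga N62093 = N61189 := ded_17_1 (flp_h L802964) (flp_a L801698) L812890
theorem L812894 : sm gc N62093 = N61075 := ded_32_1 (flp_h L801774) (flp_c L801706) L812890
theorem L812896 : sm ge N62093 = N61074 := ded_43_1 (flp_h L801762) (flp_e L801708) L812890
theorem L812898 : sm gf N62093 = N61142 := ded_47_1 L802501 L801710 L812890
theorem L812900 : sm gg N62093 = N61645 := ded_50_1 L807302 (flp_g L801700) L812890
theorem L812902 : sm gj N62093 = N61173 := ded_52_1 L802832 (flp_j L801702) L812890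
theorem L812904 : sm gf N61070 = N62094 := rfl
theorem L812906 : sm ga N62094 = N61071 := ded_14_1 (flp_f L801736) (flp_a L801730) L812904
theorem L812908 : sm gb N62094 = N61190 := ded_22_1 (flp_f L802970) (flp_b L801732) L812904
theorem L812910 : sm gd N62094 = N61150 := ded_35_1 (flp_f L811861) L811859 L812904
theorem L812912 : sm gj N62094 = N61194 := ded_46_2 (flp_f L812301) L812305 L812904
theorem L812914 : sm gd N61072 = N62095 := rfl
theorem L812916 : sm ga N62095 = N61073 := ded_12_1 (flp_d L801752) (flp_a L801746) L812914
theorem L812918 : sm gb N62095 = N61194 := ded_20_1 (flp_d L803004) (flp_b L801748) L812914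
theorem L812920 : sm gf N62095 = N61149 := ded_35_2 (flp_d L811877) L811879 L812914
theorem L812922 : sm gj N62095 = N61190 := ded_37_2 (flp_d L812269) L812271 L812914
theorem L812924 : sm gc N62095 = N61662 := ded_27_1 L807424 (flp_c L807554) (flp_d L812291) L812283 L812914
theorem L812926 : sm gh N61073 = N62096 := rfl
theorem L812928 : sm gb N62096 = N61074 := ded_25_1 (flp_h L801762) (flp_b L801754) L812926
theorem L812930 : sm gc N62096 = N61659 := ded_32_1 L807408 (flp_c L801760) L812926
theorem L812932 : sm gf N62096 = N61146 := ded_47_1 L802545 (flp_f L801756) L812926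
theorem L812934 : sm gj N62096 = N61181 := ded_52_1 L802906 (flp_j L801758) L812926
theorem L812936 : sm gd N62096 = N61299 := ded_38_1 (flp_h L804180) (flp_d L791967) (flp_h L789507) L801752 L812926
theorem L812938 : sm gi N61074 = N62097 := rfl
theorem L812940 : sm ga N62097 = N61196 := ded_18_1 (flp_i L803014) (flp_a L801764) L812938
theorem L812942 : sm gc N62097 = N61076 := ded_33_1 (flp_i L801789) (flp_c L801766) L812938
theorem L812944 : sm gd N62097 = N61300 := ded_39_1 (flp_i L804184) (flp_d L801772) L812938
theorem L812946 : sm gf N62097 = N61144 := ded_48_1 L802525 (flp_f L801768) L812938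
theorem L812948 : sm gj N62097 = N61177 := ded_53_1 L802868 (flp_j L801770) L812938
theorem L812950 : sm gi N61075 = N62098 := rfl
theorem L812952 : sm ga N62098 = N61197 := ded_18_1 (flp_i L803022) (flp_a L801776) L812950
theorem L812954 : sm gb N62098 = N61650 := ded_26_1 L807341 (flp_b L801778) L812950
theorem L812956 : sm gd N62098 = N62098 := ded_39_1 (flp_i L812950) L801788 L812950
theorem L812957 : sm ge N62098 = N61076 := ded_44_1 (flp_i L801789) (flp_e L801780) L812950
theorem L812959 : sm gf N62098 = N61140 := ded_48_1 L802480 (flp_f L801782) L812950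
theorem L812961 : sm gg N62098 = N61641 := ded_51_1 L807281 (flp_g L801784) L812950
theorem L812963 : sm gj N62098 = N61169 := ded_53_1 L802805 (flp_j L801786) L812950
theorem L812965 : sm gh N62098 = N61258 := ded_54_1 L803743 L791796 (flp_i L789531) L801774 L812950
theorem L812967 : sm gb N61077 = N62099 := rfl
theorem L812969 : sm gd N62099 = N61108 := ded_20_2 (flp_b L802138) (flp_d L801815) L812967
theorem L812971 : sm gf N62099 = N61276 := ded_22_2 (flp_b L803943) (flp_f L801805) L812967
theorem L812973 : sm gg N62099 = N61267 := ded_23_2 (flp_b L803834) (flp_g L801807) L812967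
theorem L812975 : sm gj N62099 = N61091 := ded_24_2 (flp_b L801970) (flp_j L801809) L812967
theorem L812977 : sm gh N62099 = N61080 := ded_25_2 (flp_b L801848) (flp_h L801811) L812967
theorem L812979 : sm gi N62099 = N61439 := ded_26_2 (flp_b L805543) (flp_i L801813) L812967
theorem L812981 : sm gc N62099 = N61448 := ded_19_2 (flp_b L805629) (flp_c L793348) (flp_b L789565) L801801 L812967
theorem L812983 : sm gb N61078 = N62100 := rfl
theorem L812985 : sm gd N62100 = N61081 := ded_20_2 (flp_b L801858) (flp_d L801831) L812983
theorem L812987 : sm gf N62100 = N61080 := ded_22_2 (flp_b L801848) (flp_f L801821) L812983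
theorem L812989 : sm gg N62100 = N61273 := ded_23_2 (flp_b L803903) (flp_g L801823) L812983
theorem L812991 : sm gj N62100 = N61094 := ded_24_2 (flp_b L801991) (flp_j L801825) L812983
theorem L812993 : sm gh N62100 = N61276 := ded_25_2 (flp_b L803943) (flp_h L801827) L812983
theorem L812995 : sm gi N62100 = N61304 := ded_26_2 (flp_b L804226) (flp_i L801829) L812983
theorem L812997 : sm gc N62100 = N61731 := ded_19_2 (flp_b L807880) (flp_c L796219) (flp_b L789581) L801817 L812983
theorem L812999 : sm ge N61078 = N62101 := rfl
theorem L813001 : sm ga N62101 = N61412 := ded_13_1 (flp_e L805316) (flp_a L801819) L812999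
theorem L813003 : sm gc N62101 = N61079 := ded_28_1 (flp_e L801833) L801817 L812999
theorem L813005 : sm gg N62101 = N61274 := ded_41_2 (flp_e L803915) (flp_g L801823) L812999
theorem L813007 : sm gj N62101 = N61095 := ded_42_2 (flp_e L802001) (flp_j L801825) L812999
theorem L813009 : sm gh N62101 = N61277 := ded_43_2 (flp_e L803953) (flp_h L801827) L812999
theorem L813011 : sm gi N62101 = N61305 := ded_44_2 (flp_e L804240) (flp_i L801829) L812999
theorem L813013 : sm ga N61080 = N62102 := rfl
theorem L813015 : sm gd N62102 = N61083 := ded_12_2 (flp_a L801880) (flp_d L801850) L813013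
theorem L813017 : sm gg N62102 = N61634 := ded_15_2 (flp_a L807226) (flp_g L801852) L813013
theorem L813019 : sm gj N62102 = N61097 := ded_16_2 (flp_a L802016) (flp_j L801854) L813013
theorem L813021 : sm gi N62102 = N61306 := ded_18_2 (flp_a L804252) (flp_i L801856) L813013
theorem L813023 : sm gb N62102 = N61618 := ded_10_2 (flp_a L807110) (flp_b L795149) (flp_a L789595) L801848 L813013
theorem L813025 : sm ga N61081 = N62103 := rfl
theorem L813027 : sm gc N62103 = N61664 := ded_11_2 (flp_a L807432) (flp_c L801868) L813025
theorem L813029 : sm gf N62103 = N61083 := ded_14_2 (flp_a L801880) (flp_f L801860) L813025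
theorem L813031 : sm gj N62103 = N61102 := ded_16_2 (flp_a L802062) (flp_j L801862) L813025
theorem L813033 : sm gh N62103 = N61112 := ded_17_2 (flp_a L802182) (flp_h L801864) L813025
theorem L813035 : sm gi N62103 = N61309 := ded_18_2 (flp_a L804280) (flp_i L801866) L813025
theorem L813037 : sm ge N61081 = N62104 := rfl
theorem L813039 : sm gb N62104 = N61082 := ded_21_1 (flp_e L801870) L801858 L813037
theorem L813041 : sm gc N62104 = N61665 := ded_28_1 (flp_e L807442) (flp_c L801868) L813037
theorem L813043 : sm gj N62104 = N61103 := ded_42_2 (flp_e L802074) (flp_j L801862) L813037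
theorem L813045 : sm gh N62104 = N61113 := ded_43_2 (flp_e L802192) (flp_h L801864) L813037
theorem L813047 : sm gi N62104 = N61310 := ded_44_2 (flp_e L804288) (flp_i L801866) L813037
theorem L813049 : sm gd N61082 = N62105 := rfl
theorem L813051 : sm gj N62105 = N61104 := ded_37_2 (flp_d L802086) (flp_j L801874) L813049
theorem L813053 : sm gi N62105 = N61311 := ded_39_2 (flp_d L804296) (flp_i L801878) L813049
theorem L813055 : sm gc N62105 = N62105 := ded_27_1 (flp_d L813049) L801872 L789625 (flp_c L801872) L813049
theorem L813056 : sm ga N61084 = N62106 := rfl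
theorem L813058 : sm gc N62106 = N61097 := ded_11_2 (flp_a L802016) (flp_c L801900) L813056
theorem L813060 : sm gd N62106 = N61539 := ded_12_2 (flp_a L806466) (flp_d L801894) L813056
theorem L813062 : sm gg N62106 = N61595 := ded_15_2 (flp_a L806920) (flp_g L801896) L813056
theorem L813064 : sm gi N62106 = N61322 := ded_18_2 (flp_a L804420) (flp_i L801898) L813056
theorem L813066 : sm ge N61084 = N62107 := rfl
theorem L813068 : sm gb N62107 = N61085 := ded_21_1 (flp_e L801902) L801892 L813066
theorem L813070 : sm gc N62107 = N61098 := ded_28_1 (flp_e L802024) (flp_c L801900) L813066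
theorem L813072 : sm gg N62107 = N61596 := ded_41_2 (flp_e L806932) (flp_g L801896) L813066
theorem L813074 : sm gi N62107 = N61323 := ded_44_2 (flp_e L804426) (flp_i L801898) L813066
theorem L813076 : sm gd N61085 = N62108 := rfl
theorem L813078 : sm gg N62108 = N61471 := ded_36_2 L805820 (flp_g L801906) L813076
theorem L813080 : sm gi N62108 = N61324 := ded_39_2 (flp_d L804434) (flp_i L801908) L813076
theorem L813082 : sm gc N62108 = N61087 := ded_27_1 (flp_d L801918) L789658 (flp_d L789654) (flp_c L801904) L813076
theorem L813084 : sm ge N62108 = N61541 := ded_34_2 (flp_d L806484) (flp_e L794447) (flp_d L789644) L801902 L813076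
theorem L813086 : sm gf N61085 = N62109 := rfl
theorem L813088 : sm gc N62109 = N61086 := ded_29_1 (flp_f L801910) (flp_c L801904) L813086
theorem L813090 : sm gi N62109 = N61325 := ded_48_2 (flp_f L804440) (flp_i L801908) L813086
theorem L813092 : sm gg N61086 = N62110 := rfl
theorem L813094 : sm gb N62110 = N61100 := ded_23_1 (flp_g L802038) (flp_b L801912) L813092
theorem L813096 : sm gd N62110 = N61089 := ded_36_1 (flp_g L801940) (flp_d L801914) L813092
theorem L813098 : sm gi N62110 = N61326 := ded_51_2 (flp_g L804446) (flp_i L801916) L813092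
theorem L813100 : sm gf N62110 = N61384 := ded_45_1 L805024 L792785 (flp_g L789650) L801910 L813092
theorem L813102 : sm gj N62110 = N61487 := ded_49_2 L805958 (flp_j L797997) L809546 (flp_j L809562) L813092
theorem L813104 : sm gf N61087 = N62111 := rfl
theorem L813106 : sm gb N62111 = N61492 := ded_22_1 (flp_f L809084) L809082 L813104
theorem L813108 : sm gd N62111 = N61088 := ded_35_1 (flp_f L801926) L801918 L813104
theorem L813110 : sm gj N62111 = N61606 := ded_46_2 (flp_f L808828) L808830 L813104
theorem L813112 : sm gi N62111 = N61327 := ded_48_2 (flp_f L804458) (flp_i L801922) L813104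
theorem L813114 : sm gg N62111 = N61420 := ded_45_2 (flp_f L805397) L793123 L793507 (flp_g L801920) L813104
theorem L813116 : sm gh N61087 = N62112 := rfl
theorem L813118 : sm ga N62112 = N61500 := ded_17_1 (flp_h L809196) L809188 L813116
theorem L813120 : sm ge N62112 = N61499 := ded_43_1 L806068 (flp_e L801924) L813116
theorem L813122 : sm gg N62112 = N61447 := ded_50_1 L805625 (flp_g L801920) L813116
theorem L813124 : sm gd N62112 = N62112 := ded_38_1 (flp_h L813116) (flp_d L801918) L789662 L801918 L813116
theorem L813125 : sm gb N61090 = N62113 := rfl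
theorem L813127 : sm gd N62113 = N61120 := ded_20_2 (flp_b L802289) (flp_d L801968) L813125
theorem L813129 : sm gf N62113 = N61517 := ded_22_2 (flp_b L806251) (flp_f L801958) L813125
theorem L813131 : sm gg N62113 = N61598 := ded_23_2 (flp_b L806952) (flp_g L801960) L813125
theorem L813133 : sm gj N62113 = N61439 := ded_24_2 (flp_b L805543) (flp_j L801962) L813125
theorem L813135 : sm gh N62113 = N61330 := ded_25_2 (flp_b L804496) (flp_h L801964) L813125
theorem L813137 : sm gi N62113 = N61091 := ded_26_2 (flp_b L801970) (flp_i L801966) L813125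
theorem L813139 : sm gc N62113 = N61445 := ded_19_2 (flp_b L805598) (flp_c L793327) (flp_b L789677) L801954 L813125
theorem L813141 : sm ga N61091 = N62114 := rfl
theorem L813143 : sm gd N62114 = N61123 := ded_12_2 (flp_a L802314) (flp_d L801972) L813141
theorem L813145 : sm gg N62114 = N61600 := ded_15_2 (flp_a L806974) (flp_g L801974) L813141
theorem L813147 : sm gh N62114 = N61097 := ded_17_2 (flp_a L802016) (flp_h L801976) L813141
theorem L813149 : sm ge N61091 = N62115 := rfl
theorem L813151 : sm gb N62115 = N61092 := ded_21_1 (flp_e L801978) L801970 L813149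
theorem L813153 : sm gg N62115 = N61601 := ded_41_2 (flp_e L806984) (flp_g L801974) L813149
theorem L813155 : sm gh N62115 = N61098 := ded_43_2 (flp_e L802024) (flp_h L801976) L813149
theorem L813157 : sm gd N61092 = N62116 := rfl
theorem L813159 : sm gg N62116 = N61602 := ded_36_2 (flp_d L806992) (flp_g L801982) L813157
theorem L813161 : sm gc N62116 = N62116 := ded_27_1 (flp_d L813157) L801980 L789703 (flp_c L801980) L813157
theorem L813162 : sm ge N62116 = N61125 := ded_34_2 (flp_d L802328) (flp_e L789976) (flp_d L789695) L801978 L813157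
theorem L813164 : sm gf N61092 = N62117 := rfl
theorem L813166 : sm gc N62117 = N61093 := ded_29_1 (flp_f L801986) (flp_c L801980) L813164
theorem L813168 : sm gh N62117 = N61099 := ded_47_2 (flp_f L802032) (flp_h L801984) L813164
theorem L813170 : sm gg N61093 = N62118 := rfl
theorem L813172 : sm gd N62118 = N62118 := ded_36_1 (flp_g L813170) L801988 L813170
theorem L813173 : sm gh N62118 = N61100 := ded_50_2 (flp_g L802038) (flp_h L801989) L813170
theorem L813175 : sm gf N62118 = N61385 := ded_45_1 L805036 L792797 (flp_g L789699) L801986 L813170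
theorem L813177 : sm ga N61094 = N62119 := rfl
theorem L813179 : sm gd N62119 = N61102 := ded_12_2 (flp_a L802062) (flp_d L801993) L813177
theorem L813181 : sm gf N62119 = N61097 := ded_14_2 (flp_a L802016) (flp_f L801995) L813177
theorem L813183 : sm gg N62119 = N61586 := ded_15_2 (flp_a L806872) (flp_g L801997) L813177
theorem L813185 : sm gi N62119 = N61335 := ded_18_2 (flp_a L804547) (flp_i L801999) L813177
theorem L813187 : sm ge N61094 = N62120 := rfl
theorem L813189 : sm gb N62120 = N61095 := ded_21_1 (flp_e L802001) L801991 L813187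
theorem L813191 : sm gg N62120 = N61587 := ded_41_2 (flp_e L806878) (flp_g L801997) L813187
theorem L813193 : sm gi N62120 = N61336 := ded_44_2 (flp_e L804553) (flp_i L801999) L813187
theorem L813195 : sm gd N61095 = N62121 := rfl
theorem L813197 : sm gg N62121 = N61588 := ded_36_2 (flp_d L806882) (flp_g L802005) L813195
theorem L813199 : sm gi N62121 = N61337 := ded_39_2 (flp_d L804557) (flp_i L802007) L813195
theorem L813201 : sm gc N62121 = N62121 := ded_27_1 (flp_d L813195) L802003 L789720 (flp_c L802003) L813195
theorem L813202 : sm ge N62121 = N61104 := ded_34_2 (flp_d L802086) (flp_e L789765) (flp_d L789712) L802001 L813195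
theorem L813204 : sm gf N61095 = N62122 := rfl
theorem L813206 : sm gc N62122 = N61096 := ded_29_1 (flp_f L802009) (flp_c L802003) L813204
theorem L813208 : sm gi N62122 = N61338 := ded_48_2 (flp_f L804562) (flp_i L802007) L813204
theorem L813210 : sm ge N62122 = N61099 := ded_40_1 (flp_f L802032) (flp_e L789729) (flp_f L789706) L802001 L813204
theorem L813212 : sm gg N61096 = N62123 := rfl
theorem L813214 : sm gd N62123 = N62123 := ded_36_1 (flp_g L813212) L802011 L813212
theorem L813215 : sm ge N62123 = N61100 := ded_41_1 (flp_g L802038) (flp_e L802014) L813212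
theorem L813217 : sm gi N62123 = N61339 := ded_51_2 (flp_g L804568) (flp_i L802012) L813212
theorem L813219 : sm gf N62123 = N61500 := ded_45_1 L806072 (flp_f L794906) (flp_g L789716) L802009 L813212
theorem L813221 : sm ge N61097 = N62124 := rfl
theorem L813223 : sm ga N62124 = N61098 := ded_13_1 (flp_e L802024) L802016 L813221
theorem L813225 : sm gg N62124 = N61610 := ded_41_2 (flp_e L807049) (flp_g L802020) L813221
theorem L813227 : sm gi N62124 = N61340 := ded_44_2 (flp_e L804573) (flp_i L802022) L813221
theorem L813229 : sm gf N61098 = N62125 := rfl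
theorem L813231 : sm gb N62125 = N61099 := ded_22_1 (flp_f L802032) (flp_b L802026) L813229
theorem L813233 : sm gi N62125 = N61341 := ded_48_2 (flp_f L804579) (flp_i L802030) L813229
theorem L813235 : sm gg N61099 = N62126 := rfl
theorem L813237 : sm gc N62126 = N61100 := ded_30_1 (flp_g L802038) (flp_c L802034) L813235
theorem L813239 : sm gd N62126 = N61363 := ded_36_1 (flp_g L812005) L812001 L813235
theorem L813241 : sm gi N62126 = N61342 := ded_51_2 (flp_g L804583) (flp_i L802036) L813235
theorem L813243 : sm gf N62126 = N61362 := ded_45_1 L804782 L792567 (flp_g L789733) L802032 L813235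
theorem L813245 : sm gj N61100 = N62127 := rfl
theorem L813247 : sm ga N62127 = N61492 := ded_16_1 (flp_j L812547) L812537 L813245
theorem L813249 : sm gb N62127 = N61487 := ded_24_1 (flp_j L813102) L813094 L813245
theorem L813251 : sm gd N62127 = N61101 := ded_37_1 (flp_j L802046) (flp_d L802040) L813245
theorem L813253 : sm gf N62127 = N61383 := ded_46_1 L805014 (flp_f L802044) L813245
theorem L813255 : sm gi N62127 = N61198 := ded_53_2 L803041 (flp_i L802042) L813245
theorem L813257 : sm gg N62127 = N61199 := ded_49_1 L803053 (flp_g L798239) L798241 L802038 L813245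
theorem L813259 : sm ge N61102 = N62128 := rfl
theorem L813261 : sm ga N62128 = N61103 := ded_13_1 (flp_e L802074) L802062 L813259
theorem L813263 : sm gc N62128 = N61747 := ded_28_1 (flp_e L807991) (flp_c L802064) L813259
theorem L813265 : sm gg N62128 = N61592 := ded_41_2 (flp_e L806907) (flp_g L802068) L813259
theorem L813267 : sm gh N62128 = N61133 := ded_43_2 (flp_e L802401) (flp_h L802070) L813259
theorem L813269 : sm gi N62128 = N61346 := ded_44_2 (flp_e L804622) (flp_i L802072) L813259
theorem L813271 : sm gd N61103 = N62129 := rfl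
theorem L813273 : sm gb N62129 = N61104 := ded_20_1 (flp_d L802086) (flp_b L802076) L813271
theorem L813275 : sm gg N62129 = N61593 := ded_36_2 (flp_d L806913) (flp_g L802080) L813271
theorem L813277 : sm gi N62129 = N61347 := ded_39_2 (flp_d L804628) (flp_i L802084) L813271
theorem L813279 : sm gh N61104 = N62130 := rfl
theorem L813281 : sm gc N62130 = N62130 := ded_32_1 (flp_h L813279) L802092 L813279
theorem L813282 : sm gf N62130 = N61404 := ded_47_1 (flp_h L812046) L812039 L813279
theorem L813284 : sm gg N62130 = N61594 := ded_50_1 (flp_h L806917) (flp_g L802088) L813279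
theorem L813286 : sm gd N62130 = N61135 := ded_38_1 (flp_h L802413) (flp_d L790069) (flp_h L789771) L802086 L813279
theorem L813288 : sm gb N61106 = N62131 := rfl
theorem L813290 : sm gd N62131 = N61439 := ded_20_2 (flp_b L805543) (flp_d L802121) L813288
theorem L813292 : sm gf N62131 = N61256 := ded_22_2 (flp_b L803719) (flp_f L802111) L813288
theorem L813294 : sm gg N62131 = N61253 := ded_23_2 (flp_b L803673) (flp_g L802113) L813288
theorem L813296 : sm gj N62131 = N61120 := ded_24_2 (flp_b L802289) (flp_j L802115) L813288
theorem L813298 : sm gh N62131 = N61143 := ded_25_2 (flp_b L802503) (flp_h L802117) L813288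
theorem L813300 : sm gi N62131 = N61108 := ded_26_2 (flp_b L802138) (flp_i L802119) L813288
theorem L813302 : sm gc N62131 = N61639 := ded_19_2 (flp_b L807258) (flp_c L795378) (flp_b L789803) L802107 L813288
theorem L813304 : sm ge N61106 = N62132 := rfl
theorem L813306 : sm ga N62132 = N61351 := ded_13_1 (flp_e L804667) (flp_a L802109) L813304
theorem L813308 : sm gc N62132 = N61107 := ded_28_1 (flp_e L802123) L802107 L813304
theorem L813310 : sm gg N62132 = N61254 := ded_41_2 (flp_e L803687) (flp_g L802113) L813304
theorem L813312 : sm gj N62132 = N61121 := ded_42_2 (flp_e L802297) (flp_j L802115) L813304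
theorem L813314 : sm gh N62132 = N61144 := ded_43_2 (flp_e L802515) (flp_h L802117) L813304
theorem L813316 : sm gi N62132 = N61109 := ded_44_2 (flp_e L802150) (flp_i L802119) L813304
theorem L813318 : sm ga N61108 = N62133 := rfl
theorem L813320 : sm gc N62133 = N61642 := ded_11_2 (flp_a L807283) (flp_c L802148) L813318
theorem L813322 : sm gf N62133 = N61281 := ded_14_2 (flp_a L804003) (flp_f L802140) L813318
theorem L813324 : sm gg N62133 = N61270 := ded_15_2 (flp_a L803878) (flp_g L802142) L813318
theorem L813326 : sm gj N62133 = N61123 := ded_16_2 (flp_a L802314) (flp_j L802144) L813318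
theorem L813328 : sm gh N62133 = N61110 := ded_17_2 (flp_a L802162) (flp_h L802146) L813318
theorem L813330 : sm gb N62133 = N61402 := ded_10_2 (flp_a L805232) (flp_b L792977) (flp_a L789817) L802138 L813318
theorem L813332 : sm ge N61108 = N62134 := rfl
theorem L813334 : sm gb N62134 = N61109 := ded_21_1 (flp_e L802150) L802138 L813332
theorem L813336 : sm gc N62134 = N61643 := ded_28_1 (flp_e L807287) (flp_c L802148) L813332
theorem L813338 : sm gg N62134 = N61271 := ded_41_2 (flp_e L803886) (flp_g L802142) L813332
theorem L813340 : sm gj N62134 = N61124 := ded_42_2 (flp_e L802320) (flp_j L802144) L813332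
theorem L813342 : sm gh N62134 = N61111 := ded_43_2 (flp_e L802172) (flp_h L802146) L813332
theorem L813344 : sm gd N61109 = N62135 := rfl
theorem L813346 : sm ga N62135 = N61404 := ded_12_1 (flp_d L805244) (flp_a L802152) L813344
theorem L813348 : sm gg N62135 = N61272 := ded_36_2 (flp_d L803892) (flp_g L802156) L813344
theorem L813350 : sm gj N62135 = N61125 := ded_37_2 (flp_d L802328) (flp_j L802158) L813344
theorem L813352 : sm gc N62135 = N62135 := ded_27_1 (flp_d L813344) L802154 L789839 (flp_c L802154) L813344
theorem L813353 : sm gh N62135 = N61691 := ded_38_2 (flp_d L807615) (flp_h L800525) L800529 (flp_h L802160) L813344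
theorem L813355 : sm ge N61110 = N62136 := rfl
theorem L813357 : sm ga N62136 = N61111 := ded_13_1 (flp_e L802172) L802162 L813355
theorem L813359 : sm gc N62136 = N61646 := ded_28_1 (flp_e L807304) (flp_c L802164) L813355
theorem L813361 : sm gj N62136 = N61129 := ded_42_2 (flp_e L802359) (flp_j L802168) L813355
theorem L813363 : sm gi N62136 = N61149 := ded_44_2 (flp_e L802565) (flp_i L802170) L813355
theorem L813365 : sm ge N61112 = N62137 := rfl
theorem L813367 : sm ga N62137 = N61113 := ded_13_1 (flp_e L802192) L802182 L813365
theorem L813369 : sm gc N62137 = N61667 := ded_28_1 (flp_e L807457) (flp_c L802184) L813365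
theorem L813371 : sm gj N62137 = N61133 := ded_42_2 (flp_e L802401) (flp_j L802188) L813365
theorem L813373 : sm gi N62137 = N61150 := ded_44_2 (flp_e L802573) (flp_i L802190) L813365
theorem L813375 : sm ga N61114 = N62138 := rfl
theorem L813377 : sm gc N62138 = N61123 := ded_11_2 (flp_a L802314) (flp_c L802214) L813375
theorem L813379 : sm gd N62138 = N61212 := ded_12_2 (flp_a L803202) (flp_d L802204) L813375
theorem L813381 : sm gf N62138 = N61209 := ded_14_2 (flp_a L803170) (flp_f L802206) L813375
theorem L813383 : sm gg N62138 = N61222 := ded_15_2 (flp_a L803323) (flp_g L802208) L813375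
theorem L813385 : sm gj N62138 = N61642 := ded_16_2 (flp_a L807283) (flp_j L802210) L813375
theorem L813387 : sm gh N62138 = N61117 := ded_17_2 (flp_a L802243) (flp_h L802212) L813375
theorem L813389 : sm gb N62138 = N61651 := ded_10_2 (flp_a L807345) (flp_b L795449) (flp_a L789884) L802202 L813375
theorem L813391 : sm ge N61114 = N62139 := rfl
theorem L813393 : sm gb N62139 = N61115 := ded_21_1 (flp_e L802216) L802202 L813391
theorem L813395 : sm gc N62139 = N61124 := ded_28_1 (flp_e L802320) (flp_c L802214) L813391
theorem L813397 : sm gg N62139 = N61223 := ded_41_2 (flp_e L803333) (flp_g L802208) L813391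
theorem L813399 : sm gj N62139 = N61643 := ded_42_2 (flp_e L807287) (flp_j L802210) L813391
theorem L813401 : sm gh N62139 = N61118 := ded_43_2 (flp_e L802259) (flp_h L802212) L813391
theorem L813403 : sm gd N61115 = N62140 := rfl
theorem L813405 : sm ga N62140 = N61653 := ded_12_1 (flp_d L807359) (flp_a L802218) L813403
theorem L813407 : sm gg N62140 = N61224 := ded_36_2 (flp_d L803345) (flp_g L802222) L813403
theorem L813409 : sm gj N62140 = N61644 := ded_37_2 (flp_d L807293) (flp_j L802224) L813403
theorem L813411 : sm gc N62140 = N62140 := ded_27_1 (flp_d L813403) L802220 L789908 (flp_c L802220) L813403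
theorem L813412 : sm ge N62140 = N61214 := ded_34_2 (flp_d L803218) (flp_e L790877) (flp_d L789894) L802216 L813403
theorem L813414 : sm gh N62140 = N61505 := ded_38_2 (flp_d L806133) L794010 (flp_d L789935) (flp_h L802226) L813403
theorem L813416 : sm gf N61594 = N62140 := ded_45_5 L813407 L803349 (flp_g L805246) (flp_f L813282) L813284
theorem L813418 : sm gf N61115 = N62141 := rfl
theorem L813420 : sm ga N62141 = N61654 := ded_14_1 (flp_f L807368) (flp_a L802218) L813418
theorem L813422 : sm gc N62141 = N61116 := ded_29_1 (flp_f L802228) (flp_c L802220) L813418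
theorem L813424 : sm gd N62141 = N61594 := ded_35_1 L813416 (flp_d L813403) L813418
theorem L813426 : sm gj N62141 = N61645 := ded_46_2 (flp_f L807298) (flp_j L802224) L813418
theorem L813428 : sm gh N62141 = N61119 := ded_47_2 (flp_f L802273) (flp_h L802226) L813418
theorem L813430 : sm ge N62141 = N61211 := ded_40_1 (flp_f L803190) (flp_e L790849) (flp_f L789886) L802216 L813418
theorem L813432 : sm gg N62141 = N61135 := ded_45_2 L802419 L792987 (flp_f L791028) (flp_g L802222) L813418
theorem L813434 : sm ge N61117 = N62142 := rfl
theorem L813436 : sm ga N62142 = N61118 := ded_13_1 (flp_e L802259) L802243 L813434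
theorem L813438 : sm gb N62142 = N61660 := ded_21_1 (flp_e L807410) (flp_b L802257) L813434
theorem L813440 : sm gc N62142 = N61129 := ded_28_1 (flp_e L802359) (flp_c L802245) L813434
theorem L813442 : sm gg N62142 = N61669 := ded_41_2 (flp_e L807471) (flp_g L802251) L813434
theorem L813444 : sm gj N62142 = N61646 := ded_42_2 (flp_e L807304) (flp_j L802253) L813434
theorem L813446 : sm gi N62142 = N61165 := ded_44_2 (flp_e L802764) (flp_i L802255) L813434
theorem L813448 : sm gd N62142 = N61508 := ded_34_1 (flp_e L806172) L794056 (flp_e L793898) (flp_d L802247) L813434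
theorem L813450 : sm gf N61118 = N62143 := rfl
theorem L813452 : sm gb N62143 = N61119 := ded_22_1 (flp_f L802273) (flp_b L802261) L813450
theorem L813454 : sm gc N62143 = N61130 := ded_29_1 (flp_f L802367) (flp_c L802263) L813450
theorem L813456 : sm gd N62143 = N61132 := ded_35_1 L802399 (flp_d L802271) L813450
theorem L813458 : sm gj N62143 = N61647 := ded_46_2 (flp_f L807312) (flp_j L802267) L813450
theorem L813460 : sm gi N62143 = N61166 := ded_48_2 (flp_f L802776) (flp_i L802269) L813450
theorem L813462 : sm ge N62143 = N61638 := ded_40_1 (flp_f L807252) (flp_e L795364) (flp_f L789913) L802259 L813450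
theorem L813464 : sm gg N62143 = N61134 := ded_45_2 (flp_f L812213) L812215 L802450 (flp_g L802265) L813450
theorem L813466 : sm ga N61120 = N62144 := rfl
theorem L813468 : sm gg N62144 = N61670 := ded_15_2 (flp_a L807479) (flp_g L802291) L813466
theorem L813470 : sm gh N62144 = N61174 := ded_17_2 (flp_a L802836) (flp_h L802293) L813466
theorem L813472 : sm gi N62144 = N61123 := ded_18_2 (flp_a L802314) (flp_i L802295) L813466
theorem L813474 : sm ge N61120 = N62145 := rfl
theorem L813476 : sm gb N62145 = N61121 := ded_21_1 (flp_e L802297) L802289 L813474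
theorem L813478 : sm gg N62145 = N61671 := ded_41_2 (flp_e L807485) (flp_g L802291) L813474
theorem L813480 : sm gh N62145 = N61175 := ded_43_2 (flp_e L802844) (flp_h L802293) L813474
theorem L813482 : sm gi N62145 = N61124 := ded_44_2 (flp_e L802320) (flp_i L802295) L813474
theorem L813484 : sm gd N61121 = N62146 := rfl
theorem L813486 : sm gg N62146 = N61672 := ded_36_2 (flp_d L807493) (flp_g L802301) L813484
theorem L813488 : sm gi N62146 = N61125 := ded_39_2 (flp_d L802328) (flp_i L802305) L813484
theorem L813490 : sm gc N62146 = N62146 := ded_27_1 (flp_d L813484) L802299 L789969 (flp_c L802299) L813484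
theorem L813491 : sm gf N61121 = N62147 := rfl
theorem L813493 : sm gc N62147 = N61122 := ded_29_1 (flp_f L802307) (flp_c L802299) L813491
theorem L813495 : sm gh N62147 = N61177 := ded_47_2 (flp_f L802864) (flp_h L802303) L813491
theorem L813497 : sm gi N62147 = N61126 := ded_48_2 (flp_f L802333) (flp_i L802305) L813491
theorem L813499 : sm ge N61123 = N62148 := rfl
theorem L813501 : sm ga N62148 = N61124 := ded_13_1 (flp_e L802320) L802314 L813499
theorem L813503 : sm gg N62148 = N61673 := ded_41_2 (flp_e L807498) (flp_g L802316) L813499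
theorem L813505 : sm gh N62148 = N61129 := ded_43_2 (flp_e L802359) (flp_h L802318) L813499
theorem L813507 : sm gd N61124 = N62149 := rfl
theorem L813509 : sm gb N62149 = N61125 := ded_20_1 (flp_d L802328) (flp_b L802322) L813507
theorem L813511 : sm gg N62149 = N61674 := ded_36_2 (flp_d L807504) (flp_g L802324) L813507
theorem L813513 : sm gf N61124 = N62150 := rfl
theorem L813515 : sm gb N62150 = N61126 := ded_22_1 (flp_f L802333) (flp_b L802322) L813513
theorem L813517 : sm gh N62150 = N61130 := ded_47_2 (flp_f L802367) (flp_h L802326) L813513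
theorem L813519 : sm gf N61125 = N62151 := rfl
theorem L813521 : sm gc N62151 = N62151 := ded_29_1 (flp_f L813519) L802332 L813519
theorem L813522 : sm gd N62151 = N61126 := ded_35_1 (flp_f L802333) L802328 L813519
theorem L813524 : sm ge N61127 = N62152 := rfl
theorem L813526 : sm ga N62152 = N61128 := ded_13_1 (flp_e L802349) L802339 L813524
theorem L813528 : sm gb N62152 = N61683 := ded_21_1 (flp_e L812689) L812701 L813524
theorem L813530 : sm gc N62152 = N61637 := ded_28_1 (flp_e L807244) (flp_c L802341) L813524
theorem L813532 : sm gg N62152 = N61668 := ded_41_2 (flp_e L808168) L808172 L813524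
theorem L813534 : sm gi N62152 = N61186 := ded_44_2 (flp_e L802948) (flp_i L802347) L813524
theorem L813536 : sm gf N61129 = N62153 := rfl
theorem L813538 : sm ga N62153 = N61130 := ded_14_1 (flp_f L802367) (flp_a L802361) L813536
theorem L813540 : sm gi N62153 = N61190 := ded_48_2 (flp_f L802970) (flp_i L802365) L813536
theorem L813542 : sm ge N61131 = N62154 := rfl
theorem L813544 : sm ga N62154 = N61132 := ded_13_1 (flp_e L802385) L802373 L813542
theorem L813546 : sm gc N62154 = N61677 := ded_28_1 (flp_e L807522) (flp_c L802375) L813542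
theorem L813548 : sm gg N62154 = N61133 := ded_41_2 (flp_e L802401) (flp_g L802379) L813542
theorem L813550 : sm gj N62154 = N61675 := ded_42_2 (flp_e L808188) L808194 L813542
theorem L813552 : sm gh N62154 = N61592 := ded_43_2 (flp_e L806907) (flp_h L802381) L813542
theorem L813554 : sm gi N62154 = N61193 := ded_44_2 (flp_e L802992) (flp_i L802383) L813542
theorem L813556 : sm gf N62154 = N61508 := ded_40_2 (flp_e L806172) L794058 (flp_e L793930) (flp_f L802377) L813542
theorem L813558 : sm gd N61133 = N62155 := rfl
theorem L813560 : sm ga N62155 = N61134 := ded_12_1 (flp_d L802407) (flp_a L802403) L813558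
theorem L813562 : sm gi N62155 = N61194 := ded_39_2 (flp_d L803004) (flp_i L802405) L813558
theorem L813564 : sm gh N61134 = N62156 := rfl
theorem L813566 : sm gb N62156 = N61135 := ded_25_1 (flp_h L802413) (flp_b L802409) L813564
theorem L813568 : sm ge N62156 = N61433 := ded_43_1 (flp_h L812840) L812844 L813564
theorem L813570 : sm gf N62156 = N61403 := ded_47_1 L812225 L812213 L813564
theorem L813572 : sm gi N61135 = N62157 := rfl
theorem L813574 : sm gc N62157 = N61136 := ded_33_1 (flp_i L802421) (flp_c L802415) L813572
theorem L813576 : sm ge N62157 = N61363 := ded_44_1 L804794 (flp_e L802417) L813572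
theorem L813578 : sm gf N62157 = N61351 := ded_48_1 L804675 (flp_f L802419) L813572
theorem L813580 : sm gh N62157 = N61196 := ded_54_1 (flp_i L803014) (flp_h L790620) (flp_i L790071) L802413 L813572
theorem L813582 : sm ge N61137 = N62158 := rfl
theorem L813584 : sm ga N62158 = N61138 := ded_13_1 (flp_e L802438) L802430 L813582
theorem L813586 : sm gc N62158 = N61675 := ded_28_1 (flp_e L808188) L808184 L813582
theorem L813588 : sm gj N62158 = N61677 := ded_42_2 (flp_e L807522) (flp_j L802434) L813582
theorem L813590 : sm gh N62158 = N61405 := ded_43_2 (flp_e L805249) (flp_h L802436) L813582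
theorem L813592 : sm gi N62158 = N61681 := ded_44_2 (flp_e L808292) L808302 L813582
theorem L813594 : sm gf N62158 = N61669 := ded_40_2 (flp_e L807471) (flp_f L800970) L800968 (flp_f L802432) L813582
theorem L813596 : sm gb N61139 = N62159 := rfl
theorem L813598 : sm gd N62159 = N61413 := ded_20_2 (flp_b L805326) (flp_d L802466) L813596
theorem L813600 : sm gf N62159 = N61143 := ded_22_2 (flp_b L802503) (flp_f L802456) L813596
theorem L813602 : sm gg N62159 = N61240 := ded_23_2 (flp_b L803521) (flp_g L802458) L813596
theorem L813604 : sm gj N62159 = N61167 := ded_24_2 (flp_b L802788) (flp_j L802460) L813596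
theorem L813606 : sm gh N62159 = N61256 := ded_25_2 (flp_b L803719) (flp_h L802462) L813596
theorem L813608 : sm gi N62159 = N61141 := ded_26_2 (flp_b L802483) (flp_i L802464) L813596
theorem L813610 : sm gc N62159 = N61648 := ded_19_2 (flp_b L807320) (flp_c L795432) (flp_b L790114) L802452 L813596
theorem L813612 : sm ge N61139 = N62160 := rfl
theorem L813614 : sm ga N62160 = N61308 := ded_13_1 (flp_e L804272) (flp_a L802454) L813612
theorem L813616 : sm gc N62160 = N61140 := ded_28_1 (flp_e L802468) L802452 L813612
theorem L813618 : sm gg N62160 = N61241 := ded_41_2 (flp_e L803533) (flp_g L802458) L813612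
theorem L813620 : sm gj N62160 = N61168 := ded_42_2 (flp_e L802796) (flp_j L802460) L813612
theorem L813622 : sm gh N62160 = N61257 := ded_43_2 (flp_e L803727) (flp_h L802462) L813612
theorem L813624 : sm gi N62160 = N61142 := ded_44_2 (flp_e L802495) (flp_i L802464) L813612
theorem L813626 : sm ga N61141 = N62161 := rfl
theorem L813628 : sm gc N62161 = N61651 := ded_11_2 (flp_a L807345) (flp_c L802493) L813626
theorem L813630 : sm gd N62161 = N61414 := ded_12_2 (flp_a L805340) (flp_d L802485) L813626
theorem L813632 : sm gf N62161 = N61145 := ded_14_2 (flp_a L802527) (flp_f L802487) L813626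
theorem L813634 : sm gj N62161 = N61170 := ded_16_2 (flp_a L802809) (flp_j L802489) L813626
theorem L813636 : sm gh N62161 = N61147 := ded_17_2 (flp_a L802547) (flp_h L802491) L813626
theorem L813638 : sm ge N61141 = N62162 := rfl
theorem L813640 : sm gb N62162 = N61142 := ded_21_1 (flp_e L802495) L802483 L813638
theorem L813642 : sm gc N62162 = N61652 := ded_28_1 (flp_e L807353) (flp_c L802493) L813638
theorem L813644 : sm gj N62162 = N61171 := ded_42_2 (flp_e L802817) (flp_j L802489) L813638
theorem L813646 : sm gh N62162 = N61148 := ded_43_2 (flp_e L802557) (flp_h L802491) L813638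
theorem L813648 : sm gd N61142 = N62163 := rfl
theorem L813650 : sm gj N62163 = N61172 := ded_37_2 (flp_d L802823) (flp_j L802499) L813648
theorem L813652 : sm gc N62163 = N62163 := ded_27_1 (flp_d L813648) L802497 L790144 (flp_c L802497) L813648
theorem L813653 : sm ge N62163 = N61416 := ded_34_2 (flp_d L805356) (flp_e L793083) (flp_d L790134) L802495 L813648
theorem L813655 : sm ga N61143 = N62164 := rfl
theorem L813657 : sm gc N62164 = N61655 := ded_11_2 (flp_a L807376) (flp_c L802513) L813655
theorem L813659 : sm gd N62164 = N61417 := ded_12_2 (flp_a L805361) (flp_d L802505) L813655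
theorem L813661 : sm gg N62164 = N61694 := ded_15_2 (flp_a L807634) (flp_g L802507) L813655
theorem L813663 : sm gj N62164 = N61174 := ded_16_2 (flp_a L802836) (flp_j L802509) L813655
theorem L813665 : sm gi N62164 = N61145 := ded_18_2 (flp_a L802527) (flp_i L802511) L813655
theorem L813667 : sm gb N62164 = N61723 := ded_10_2 (flp_a L807831) (flp_b L796167) (flp_a L790147) L802503 L813655
theorem L813669 : sm ge N61143 = N62165 := rfl
theorem L813671 : sm gb N62165 = N61144 := ded_21_1 (flp_e L802515) L802503 L813669
theorem L813673 : sm gc N62165 = N61656 := ded_28_1 (flp_e L807384) (flp_c L802513) L813669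
theorem L813675 : sm gg N62165 = N61695 := ded_41_2 (flp_e L807644) (flp_g L802507) L813669
theorem L813677 : sm gj N62165 = N61175 := ded_42_2 (flp_e L802844) (flp_j L802509) L813669
theorem L813679 : sm gi N62165 = N61146 := ded_44_2 (flp_e L802537) (flp_i L802511) L813669
theorem L813681 : sm ge N61145 = N62166 := rfl
theorem L813683 : sm ga N62166 = N61146 := ded_13_1 (flp_e L802537) L802527 L813681
theorem L813685 : sm gc N62166 = N61658 := ded_28_1 (flp_e L807398) (flp_c L802529) L813681
theorem L813687 : sm gj N62166 = N61179 := ded_42_2 (flp_e L802882) (flp_j L802533) L813681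
theorem L813689 : sm gh N62166 = N61149 := ded_43_2 (flp_e L802565) (flp_h L802535) L813681
theorem L813691 : sm ge N61147 = N62167 := rfl
theorem L813693 : sm ga N62167 = N61148 := ded_13_1 (flp_e L802557) L802547 L813691
theorem L813695 : sm gc N62167 = N61660 := ded_28_1 (flp_e L807410) (flp_c L802549) L813691
theorem L813697 : sm gj N62167 = N61186 := ded_42_2 (flp_e L802948) (flp_j L802555) L813691
theorem L813699 : sm ga N61151 = N62168 := rfl
theorem L813701 : sm gc N62168 = N61281 := ded_11_2 (flp_a L804003) (flp_c L802595) L813699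
theorem L813703 : sm gd N62168 = N61208 := ded_12_2 (flp_a L803160) (flp_d L802585) L813699
theorem L813705 : sm gf N62168 = N61642 := ded_14_2 (flp_a L807283) (flp_f L802587) L813699
theorem L813707 : sm gg N62168 = N61226 := ded_15_2 (flp_a L803366) (flp_g L802589) L813699
theorem L813709 : sm gj N62168 = N61209 := ded_16_2 (flp_a L803170) (flp_j L802591) L813699
theorem L813711 : sm gh N62168 = N61152 := ded_17_2 (flp_a L802597) (flp_h L802593) L813699
theorem L813713 : sm gb N62168 = N61159 := ded_10_2 (flp_a L802684) (flp_b L790312) (flp_a L790243) L802583 L813699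
theorem L813715 : sm ga N61153 = N62169 := rfl
theorem L813717 : sm gc N62169 = N61170 := ded_11_2 (flp_a L802809) (flp_c L802621) L813715
theorem L813719 : sm gd N62169 = N61696 := ded_12_2 (flp_a L807652) (flp_d L802613) L813715
theorem L813721 : sm gf N62169 = N61159 := ded_14_2 (flp_a L802684) (flp_f L802615) L813715
theorem L813723 : sm gj N62169 = N61651 := ded_16_2 (flp_a L807345) (flp_j L802617) L813715
theorem L813725 : sm gh N62169 = N61162 := ded_17_2 (flp_a L802722) (flp_h L802619) L813715
theorem L813727 : sm gb N62169 = N61642 := ded_10_2 (flp_a L807283) (flp_b L795395) (flp_a L790269) L802611 L813715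
theorem L813729 : sm ge N61153 = N62170 := rfl
theorem L813731 : sm gb N62170 = N61154 := ded_21_1 (flp_e L802623) L802611 L813729
theorem L813733 : sm gc N62170 = N61171 := ded_28_1 (flp_e L802817) (flp_c L802621) L813729
theorem L813735 : sm gj N62170 = N61652 := ded_42_2 (flp_e L807353) (flp_j L802617) L813729
theorem L813737 : sm gh N62170 = N61163 := ded_43_2 (flp_e L802736) (flp_h L802619) L813729
theorem L813739 : sm gd N61154 = N62171 := rfl
theorem L813741 : sm ga N62171 = N61644 := ded_12_1 (flp_d L807293) (flp_a L802625) L813739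
theorem L813743 : sm gj N62171 = N61653 := ded_37_2 (flp_d L807359) (flp_j L802629) L813739
theorem L813745 : sm gc N62171 = N62171 := ded_27_1 (flp_d L813739) L802627 L790289 (flp_c L802627) L813739
theorem L813746 : sm ge N62171 = N61698 := ded_34_2 (flp_d L807668) (flp_e L795880) (flp_d L790277) L802623 L813739
theorem L813748 : sm gh N62171 = N61666 := ded_38_2 (flp_d L807450) L795560 (flp_d L790370) (flp_h L802631) L813739
theorem L813750 : sm gf N61154 = N62172 := rfl
theorem L813752 : sm ga N62172 = N61645 := ded_14_1 (flp_f L807298) (flp_a L802625) L813750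
theorem L813754 : sm gc N62172 = N61155 := ded_29_1 (flp_f L802633) (flp_c L802627) L813750
theorem L813756 : sm gj N62172 = N61654 := ded_46_2 (flp_f L807368) (flp_j L802629) L813750
theorem L813758 : sm gh N62172 = N61164 := ded_47_2 (flp_f L802748) (flp_h L802631) L813750
theorem L813760 : sm ge N62172 = N61161 := ded_40_1 (flp_f L802710) (flp_e L790324) (flp_f L790271) L802623 L813750
theorem L813762 : sm gg N62172 = N61189 := ded_45_2 (flp_f L811227) L811219 (flp_f L809801) L809793 L813750
theorem L813764 : sm ga N61156 = N62173 := rfl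
theorem L813766 : sm gc N62173 = N61174 := ded_11_2 (flp_a L802836) (flp_c L802658) L813764
theorem L813768 : sm gd N62173 = N61233 := ded_12_2 (flp_a L803450) (flp_d L802650) L813764
theorem L813770 : sm gg N62173 = N61234 := ded_15_2 (flp_a L803460) (flp_g L802652) L813764
theorem L813772 : sm gj N62173 = N61655 := ded_16_2 (flp_a L807376) (flp_j L802654) L813764
theorem L813774 : sm gi N62173 = N61159 := ded_18_2 (flp_a L802684) (flp_i L802656) L813764
theorem L813776 : sm ge N61156 = N62174 := rfl
theorem L813778 : sm gb N62174 = N61157 := ded_21_1 (flp_e L802660) L802648 L813776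
theorem L813780 : sm gc N62174 = N61175 := ded_28_1 (flp_e L802844) (flp_c L802658) L813776
theorem L813782 : sm gg N62174 = N61235 := ded_41_2 (flp_e L803470) (flp_g L802652) L813776
theorem L813784 : sm gj N62174 = N61656 := ded_42_2 (flp_e L807384) (flp_j L802654) L813776
theorem L813786 : sm gi N62174 = N61160 := ded_44_2 (flp_e L802696) (flp_i L802656) L813776
theorem L813788 : sm gd N62174 = N61619 := ded_34_1 (flp_e L807116) (flp_d L801222) L801224 (flp_d L802650) L813776
theorem L813790 : sm gf N61157 = N62175 := rfl
theorem L813792 : sm gc N62175 = N61158 := ded_29_1 (flp_f L802672) (flp_c L802662) L813790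
theorem L813794 : sm gd N62175 = N61482 := ded_35_1 L805926 (flp_d L802670) L813790
theorem L813796 : sm gj N62175 = N61657 := ded_46_2 (flp_f L807392) (flp_j L802666) L813790
theorem L813798 : sm gi N62175 = N61161 := ded_48_2 (flp_f L802710) (flp_i L802668) L813790
theorem L813800 : sm gg N62175 = N61196 := ded_45_2 L803020 (flp_g L799650) L799660 (flp_g L802664) L813790
theorem L813802 : sm ge N61159 = N62176 := rfl
theorem L813804 : sm ga N62176 = N61160 := ded_13_1 (flp_e L802696) L802684 L813802
theorem L813806 : sm gc N62176 = N61179 := ded_28_1 (flp_e L802882) (flp_c L802686) L813802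
theorem L813808 : sm gg N62176 = N61680 := ded_41_2 (flp_e L807542) (flp_g L802690) L813802
theorem L813810 : sm gj N62176 = N61658 := ded_42_2 (flp_e L807398) (flp_j L802692) L813802
theorem L813812 : sm gh N62176 = N61165 := ded_43_2 (flp_e L802764) (flp_h L802694) L813802
theorem L813814 : sm gd N62176 = N61620 := ded_34_1 (flp_e L807124) (flp_d L803549) L803551 (flp_d L802688) L813802
theorem L813816 : sm gf N61160 = N62177 := rfl
theorem L813818 : sm gb N62177 = N61161 := ded_22_1 (flp_f L802710) (flp_b L802698) L813816
theorem L813820 : sm gc N62177 = N61181 := ded_29_1 (flp_f L802902) (flp_c L802700) L813816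
theorem L813822 : sm gd N62177 = N61481 := ded_35_1 L805918 (flp_d L802708) L813816
theorem L813824 : sm gj N62177 = N61659 := ded_46_2 (flp_f L807404) (flp_j L802704) L813816
theorem L813826 : sm gh N62177 = N61166 := ded_47_2 (flp_f L802776) (flp_h L802706) L813816
theorem L813828 : sm gg N62177 = N61195 := ded_45_2 L811425 L811415 L800347 (flp_g L802702) L813816
theorem L813830 : sm ge N61162 = N62178 := rfl
theorem L813832 : sm ga N62178 = N61163 := ded_13_1 (flp_e L802736) L802722 L813830
theorem L813834 : sm gb N62178 = N61646 := ded_21_1 (flp_e L807304) (flp_b L802734) L813830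
theorem L813836 : sm gc N62178 = N61186 := ded_28_1 (flp_e L802948) (flp_c L802724) L813830
theorem L813838 : sm gj N62178 = N61660 := ded_42_2 (flp_e L807410) (flp_j L802730) L813830
theorem L813840 : sm gi N62178 = N61637 := ded_44_2 (flp_e L807244) (flp_i L802732) L813830
theorem L813842 : sm gd N62178 = N61667 := ded_34_1 (flp_e L807457) L795564 (flp_e L795330) (flp_d L802726) L813830
theorem L813844 : sm gf N61163 = N62179 := rfl
theorem L813846 : sm gb N62179 = N61164 := ded_22_1 (flp_f L802748) (flp_b L802738) L813844
theorem L813848 : sm gc N62179 = N61188 := ded_29_1 (flp_f L802958) (flp_c L802740) L813844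
theorem L813850 : sm gd N62179 = N61185 := ded_35_1 L802946 (flp_d L802746) L813844
theorem L813852 : sm gj N62179 = N61661 := ded_46_2 (flp_f L807414) (flp_j L802742) L813844
theorem L813854 : sm gi N62179 = N61638 := ded_48_2 (flp_f L807252) (flp_i L802744) L813844
theorem L813856 : sm ge N62179 = N61166 := ded_40_1 (flp_f L802776) (flp_e L790398) (flp_f L790352) L802736 L813844
theorem L813858 : sm gg N62179 = N61187 := ded_45_2 (flp_f L812636) L812628 (flp_f L811787) L811779 L813844
theorem L813860 : sm gf N61165 = N62180 := rfl
theorem L813862 : sm ga N62180 = N61166 := ded_14_1 (flp_f L802776) (flp_a L802766) L813860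
theorem L813864 : sm gc N62180 = N61190 := ded_29_1 (flp_f L802970) (flp_c L802768) L813860
theorem L813866 : sm gd N62180 = N61193 := ded_35_1 L803002 (flp_d L802774) L813860
theorem L813868 : sm gj N62180 = N61662 := ded_46_2 (flp_f L807420) (flp_j L802772) L813860
theorem L813870 : sm gg N62180 = N61194 := ded_45_2 (flp_f L812301) L812303 (flp_f L807550) (flp_g L802770) L813860
theorem L813872 : sm ga N61167 = N62181 := rfl
theorem L813874 : sm gd N62181 = N61455 := ded_12_2 (flp_a L805681) (flp_d L802790) L813872
theorem L813876 : sm gf N62181 = N61174 := ded_14_2 (flp_a L802836) (flp_f L802792) L813872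
theorem L813878 : sm gi N62181 = N61170 := ded_18_2 (flp_a L802809) (flp_i L802794) L813872
theorem L813880 : sm ge N61167 = N62182 := rfl
theorem L813882 : sm gb N62182 = N61168 := ded_21_1 (flp_e L802796) L802788 L813880
theorem L813884 : sm gi N62182 = N61171 := ded_44_2 (flp_e L802817) (flp_i L802794) L813880
theorem L813886 : sm gd N61168 = N62183 := rfl
theorem L813888 : sm gi N62183 = N61172 := ded_39_2 (flp_d L802823) (flp_i L802800) L813886
theorem L813890 : sm gc N62183 = N62183 := ded_27_1 (flp_d L813886) L802798 L790432 (flp_c L802798) L813886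
theorem L813891 : sm ge N62183 = N61457 := ded_34_2 (flp_d L805693) (flp_e L793392) (flp_d L790426) L802796 L813886
theorem L813893 : sm gf N61168 = N62184 := rfl
theorem L813895 : sm gc N62184 = N61169 := ded_29_1 (flp_f L802802) (flp_c L802798) L813893
theorem L813897 : sm gi N62184 = N61173 := ded_48_2 (flp_f L802828) (flp_i L802800) L813893
theorem L813899 : sm ge N62184 = N61177 := ded_40_1 (flp_f L802864) (flp_e L790462) (flp_f L790422) L802796 L813893
theorem L813901 : sm ge N61170 = N62185 := rfl
theorem L813903 : sm ga N62185 = N61171 := ded_13_1 (flp_e L802817) L802809 L813901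
theorem L813905 : sm gh N62185 = N61186 := ded_43_2 (flp_e L802948) (flp_h L802815) L813901
theorem L813907 : sm gd N61171 = N62186 := rfl
theorem L813909 : sm gb N62186 = N61172 := ded_20_1 (flp_d L802823) (flp_b L802819) L813907
theorem L813911 : sm ge N62186 = N61459 := ded_34_2 (flp_d L805704) (flp_e L793404) (flp_d L790435) L802817 L813907
theorem L813913 : sm gf N61171 = N62187 := rfl
theorem L813915 : sm gb N62187 = N61173 := ded_22_1 (flp_f L802828) (flp_b L802819) L813913
theorem L813917 : sm gh N62187 = N61188 := ded_47_2 (flp_f L802958) (flp_h L802821) L813913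
theorem L813919 : sm ge N62187 = N61181 := ded_40_1 (flp_f L802902) (flp_e L790484) (flp_f L790437) L802817 L813913
theorem L813921 : sm gf N61172 = N62188 := rfl
theorem L813923 : sm gc N62188 = N62188 := ded_29_1 (flp_f L813921) L802825 L813921
theorem L813924 : sm gd N62188 = N61173 := ded_35_1 (flp_f L802828) L802823 L813921
theorem L813926 : sm gh N61172 = N62189 := rfl
theorem L813928 : sm gc N62189 = N62189 := ded_32_1 (flp_h L813926) L802825 L813926
theorem L813929 : sm ge N62189 = N61462 := ded_43_1 (flp_h L805727) (flp_e L802826) L813926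
theorem L813931 : sm gd N62189 = N61189 := ded_38_1 (flp_h L802964) (flp_d L790552) (flp_h L790445) L802823 L813926
theorem L813933 : sm ge N61174 = N62190 := rfl
theorem L813935 : sm ga N62190 = N61175 := ded_13_1 (flp_e L802844) L802836 L813933
theorem L813937 : sm gg N62190 = N61682 := ded_41_2 (flp_e L807556) (flp_g L802840) L813933
theorem L813939 : sm gi N62190 = N61179 := ded_44_2 (flp_e L802882) (flp_i L802842) L813933
theorem L813941 : sm gd N61175 = N62191 := rfl
theorem L813943 : sm gb N62191 = N61176 := ded_20_1 (flp_d L802852) (flp_b L802846) L813941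
theorem L813945 : sm gg N62191 = N61568 := ded_36_2 L806735 (flp_g L802848) L813941
theorem L813947 : sm gi N62191 = N61180 := ded_39_2 (flp_d L802890) (flp_i L802850) L813941
theorem L813949 : sm gc N62191 = N61563 := ded_27_1 L806685 (flp_c L807120) (flp_d L813788) L813780 L813941
theorem L813951 : sm ge N62191 = N61464 := ded_34_2 (flp_d L805748) (flp_e L793429) (flp_d L790456) L802844 L813941
theorem L813953 : sm gf N61175 = N62192 := rfl
theorem L813955 : sm gb N62192 = N61177 := ded_22_1 (flp_f L802864) (flp_b L802846) L813953
theorem L813957 : sm gi N62192 = N61181 := ded_48_2 (flp_f L802902) (flp_i L802850) L813953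
theorem L813959 : sm gf N61176 = N62193 := rfl
theorem L813961 : sm ga N62193 = N61438 := ded_14_1 L805539 (flp_a L802854) L813959
theorem L813963 : sm gc N62193 = N61199 := ded_29_1 (flp_f L803045) (flp_c L802860) L813959
theorem L813965 : sm gd N62193 = N61177 := ded_35_1 (flp_f L802864) L802852 L813959
theorem L813967 : sm gj N62193 = N61300 := ded_46_2 L809358 L809350 L813959
theorem L813969 : sm gi N62193 = N61182 := ded_48_2 (flp_f L802908) (flp_i L802858) L813959
theorem L813971 : sm gg N61177 = N62194 := rfl
theorem L813973 : sm gc N62194 = N61178 := ded_30_1 (flp_g L802870) (flp_c L802866) L813971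
theorem L813975 : sm gi N62194 = N61183 := ded_51_2 (flp_g L802920) (flp_i L802868) L813971
theorem L813977 : sm gf N62194 = N61359 := ded_45_1 L804760 L792693 (flp_g L790466) L802864 L813971
theorem L813979 : sm gj N61363 = N62194 := ded_31_0 L813973 (flp_j L802880) (flp_c L804792)
theorem L813981 : sm gd N61179 = N62195 := rfl
theorem L813983 : sm ga N62195 = N61180 := ded_12_1 (flp_d L802890) (flp_a L802884) L813981
theorem L813985 : sm gb N62195 = N61717 := ded_20_1 (flp_d L811439) L811431 L813981
theorem L813987 : sm gg N62195 = N61597 := ded_36_2 L806950 (flp_g L802886) L813981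
theorem L813989 : sm gc N62195 = N61590 := ded_27_1 L806899 (flp_c L807128) (flp_d L813814) L813806 L813981
theorem L813991 : sm ge N62195 = N61465 := ded_34_2 (flp_d L805758) (flp_e L793451) (flp_d L790478) L802882 L813981
theorem L813993 : sm gh N62195 = N61706 := ded_38_2 (flp_d L812257) L812253 L801042 (flp_h L802888) L813981
theorem L813995 : sm gf N61179 = N62196 := rfl
theorem L813997 : sm ga N62196 = N61181 := ded_14_1 (flp_f L802902) (flp_a L802884) L813995
theorem L813999 : sm gh N62196 = N61190 := ded_47_2 (flp_f L802970) (flp_h L802888) L813995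
theorem L814001 : sm gf N61180 = N62197 := rfl
theorem L814003 : sm gb N62197 = N61182 := ded_22_1 (flp_f L802908) (flp_b L802892) L814001
theorem L814005 : sm gc N62197 = N61591 := ded_29_1 (flp_f L806901) (flp_c L802896) L814001
theorem L814007 : sm gd N62197 = N61181 := ded_35_1 (flp_f L802902) L802890 L814001
theorem L814009 : sm gj N62197 = N61299 := ded_46_2 L809390 L809384 L814001
theorem L814011 : sm gh N62197 = N61286 := ded_47_2 L804045 (flp_h L802900) L814001
theorem L814013 : sm gg N61181 = N62198 := rfl
theorem L814015 : sm gb N62198 = N61183 := ded_23_1 (flp_g L802920) (flp_b L802904) L814013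
theorem L814017 : sm gc N62198 = N61195 := ded_30_1 (flp_g L813828) L813820 L814013
theorem L814019 : sm gh N62198 = N61191 := ded_50_2 (flp_g L802974) (flp_h L802906) L814013
theorem L814021 : sm gf N62198 = N61429 := ded_45_1 L805475 L793595 (flp_g L790488) L802902 L814013
theorem L814023 : sm gj N61433 = N62198 := ded_24_0 L814015 (flp_j L802928) (flp_b L805503)
theorem L814025 : sm ge N61182 = N62199 := rfl
theorem L814027 : sm ga N62199 = N61427 := ded_13_1 L805459 (flp_a L802910) L814025
theorem L814029 : sm gc N62199 = N61200 := ded_28_1 (flp_e L803057) (flp_c L802912) L814025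
theorem L814031 : sm gj N62199 = N61297 := ded_42_2 L804170 (flp_j L802916) L814025
theorem L814033 : sm gh N62199 = N61280 := ded_43_2 L804001 (flp_h L802918) L814025
theorem L814035 : sm gf N62199 = N61468 := ded_40_2 (flp_e L805792) (flp_f L793481) (flp_e L790500) L802908 L814025
theorem L814037 : sm gg N61182 = N62200 := rfl
theorem L814039 : sm ga N62200 = N61434 := ded_15_1 L805509 (flp_a L802910) L814037
theorem L814041 : sm gc N62200 = N61198 := ded_30_1 L803039 (flp_c L802912) L814037
theorem L814043 : sm gd N62200 = N61183 := ded_36_1 (flp_g L802920) (flp_d L802914) L814037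
theorem L814045 : sm gh N62200 = N61283 := ded_50_2 L804019 (flp_h L802918) L814037
theorem L814047 : sm gf N62200 = N61430 := ded_45_1 L805483 L793599 (flp_g L790496) L802908 L814037
theorem L814049 : sm gj N62200 = N61342 := ded_49_2 (flp_g L804583) (flp_j L798169) L798167 (flp_j L802916) L814037
theorem L814051 : sm ge N61184 = N62201 := rfl
theorem L814053 : sm ga N62201 = N61185 := ded_13_1 (flp_e L802938) L802930 L814051
theorem L814055 : sm gb N62201 = N61675 := ded_21_1 (flp_e L808188) L808200 L814051
theorem L814057 : sm gg N62201 = N61186 := ded_41_2 (flp_e L802948) (flp_g L802936) L814051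
theorem L814059 : sm gi N62201 = N61668 := ded_44_2 (flp_e L808168) L808178 L814051
theorem L814061 : sm gf N62201 = N61667 := ded_40_2 (flp_e L807457) (flp_f L796803) L796801 (flp_f L802934) L814051
theorem L814063 : sm gd N61186 = N62202 := rfl
theorem L814065 : sm ga N62202 = N61187 := ded_12_1 (flp_d L802952) (flp_a L802950) L814063
theorem L814067 : sm ge N62202 = N61194 := ded_34_2 (flp_d L803004) (flp_e L790610) (flp_d L790544) L802948 L814063
theorem L814069 : sm gf N61186 = N62203 := rfl
theorem L814071 : sm ga N62203 = N61188 := ded_14_1 (flp_f L802958) (flp_a L802950) L814069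
theorem L814073 : sm ge N62203 = N61190 := ded_40_1 (flp_f L802970) (flp_e L790564) (flp_f L790546) L802948 L814069
theorem L814075 : sm gh N61187 = N62204 := rfl
theorem L814077 : sm gb N62204 = N61189 := ded_25_1 (flp_h L802964) (flp_b L802954) L814075
theorem L814079 : sm ge N62204 = N61195 := ded_43_1 (flp_h L803008) (flp_e L802956) L814075
theorem L814081 : sm gi N61189 = N62205 := rfl
theorem L814083 : sm gc N62205 = N61197 := ded_33_1 (flp_i L803022) (flp_c L802966) L814081
theorem L814085 : sm ge N62205 = N61196 := ded_44_1 (flp_i L803014) (flp_e L802968) L814081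
theorem L814087 : sm gf N62205 = N61308 := ded_48_1 (flp_i L811225) L811227 L814081
theorem L814089 : sm gh N62205 = N61363 := ded_54_1 L804794 (flp_h L801672) L801674 L802964 L814081
theorem L814091 : sm gg N61190 = N62206 := rfl
theorem L814093 : sm ga N62206 = N61191 := ded_15_1 (flp_g L802974) (flp_a L802972) L814091
theorem L814095 : sm gc N62206 = N61194 := ded_30_1 (flp_g L813870) L813864 L814091
theorem L814097 : sm gf N62206 = N61683 := ded_45_1 (flp_g L807562) (flp_f L795765) (flp_g L790568) L802970 L814091
theorem L814099 : sm gh N61194 = N62207 := rfl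
theorem L814101 : sm ga N62207 = N61195 := ded_17_1 (flp_h L803008) (flp_a L803006) L814099
theorem L814103 : sm gd N62207 = N61484 := ded_38_1 (flp_h L805936) (flp_d L793629) (flp_h L790614) L803004 L814099
theorem L814105 : sm gi N61195 = N62208 := rfl
theorem L814107 : sm gb N62208 = N61196 := ded_26_1 (flp_i L803014) (flp_b L803010) L814105
theorem L814109 : sm gd N62208 = N61486 := ded_39_1 (flp_i L805948) (flp_d L803012) L814105
theorem L814111 : sm gf N62208 = N61724 := ded_48_1 (flp_i L811421) (flp_f L811425) L814105
theorem L814113 : sm ge N61198 = N62209 := rfl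
theorem L814115 : sm ga N62209 = N61488 := ded_13_1 L805962 (flp_a L803033) L814113
theorem L814117 : sm gb N62209 = N61500 := ded_21_1 (flp_e L806070) (flp_b L803035) L814113
theorem L814119 : sm gg N62209 = N61200 := ded_41_2 (flp_e L803057) (flp_g L803039) L814113
theorem L814121 : sm gj N62209 = N61339 := ded_42_2 L804571 (flp_j L803041) L814113
theorem L814123 : sm gh N62209 = N61301 := ded_43_2 L804198 (flp_h L803043) L814113
theorem L814125 : sm gd N62209 = N62209 := ded_34_1 (flp_e L814113) (flp_d L803031) L790659 L803031 L814113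
theorem L814126 : sm ge N61202 = N62210 := rfl
theorem L814128 : sm ga N62210 = N61203 := ded_13_1 (flp_e L803098) L803082 L814126
theorem L814130 : sm gb N62210 = N61636 := ded_21_1 (flp_e L807238) (flp_b L803096) L814126
theorem L814132 : sm gc N62210 = N61475 := ded_28_1 L805862 (flp_c L803084) L814126
theorem L814134 : sm gg N62210 = N61550 := ded_41_2 (flp_e L806563) (flp_g L803090) L814126
theorem L814136 : sm gh N62210 = N61745 := ded_43_2 (flp_e L807981) (flp_h L803092) L814126
theorem L814138 : sm gi N62210 = N61512 := ded_44_2 (flp_e L806216) (flp_i L803094) L814126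
theorem L814140 : sm gd N62210 = N61239 := ded_34_1 (flp_e L803515) L791292 (flp_e L790760) (flp_d L803086) L814126
theorem L814142 : sm gf N62210 = N61444 := ded_40_2 (flp_e L805592) L793307 L793315 (flp_f L803088) L814126
theorem L814144 : sm ga N61206 = N62211 := rfl
theorem L814146 : sm gd N62211 = N61642 := ded_12_2 (flp_a L807283) (flp_d L803140) L814144
theorem L814148 : sm gf N62211 = N61208 := ded_14_2 (flp_a L803160) (flp_f L803142) L814144
theorem L814150 : sm gj N62211 = N61212 := ded_16_2 (flp_a L803202) (flp_j L803144) L814144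
theorem L814152 : sm gh N62211 = N61218 := ded_17_2 (flp_a L803269) (flp_h L803146) L814144
theorem L814154 : sm gb N62211 = N61696 := ded_10_2 (flp_a L807652) (flp_b L795872) (flp_a L790812) L803138 L814144
theorem L814156 : sm ge N61206 = N62212 := rfl
theorem L814158 : sm gb N62212 = N61207 := ded_21_1 (flp_e L803148) L803138 L814156
theorem L814160 : sm gj N62212 = N61213 := ded_42_2 (flp_e L803210) (flp_j L803144) L814156
theorem L814162 : sm gh N62212 = N61219 := ded_43_2 (flp_e L803281) (flp_h L803146) L814156
theorem L814164 : sm gf N62212 = N61310 := ded_40_2 (flp_e L804288) L792099 (flp_e L790835) (flp_f L803142) L814156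
theorem L814166 : sm gd N61207 = N62213 := rfl
theorem L814168 : sm ga N62213 = N61698 := ded_12_1 (flp_d L807668) (flp_a L803150) L814166
theorem L814170 : sm gf N62213 = N61311 := ded_35_2 (flp_d L804296) (flp_f L803158) L814166
theorem L814172 : sm gj N62213 = N61214 := ded_37_2 (flp_d L803218) (flp_j L803154) L814166
theorem L814174 : sm gc N62213 = N62213 := ded_27_1 (flp_d L814166) L803152 L790830 (flp_c L803152) L814166
theorem L814175 : sm ge N62213 = N61644 := ded_34_2 (flp_d L807293) (flp_e L795399) (flp_d L790820) L803148 L814166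
theorem L814177 : sm gh N62213 = N61602 := ded_38_2 (flp_d L806992) L795021 (flp_d L790958) (flp_h L803156) L814166
theorem L814179 : sm ge N61209 = N62214 := rfl
theorem L814181 : sm ga N62214 = N61210 := ded_13_1 (flp_e L803180) L803170 L814179
theorem L814183 : sm gb N62214 = N61658 := ded_21_1 (flp_e L807398) (flp_b L803178) L814179
theorem L814185 : sm gg N62214 = N61225 := ded_41_2 (flp_e L803356) (flp_g L803174) L814179
theorem L814187 : sm gh N62214 = N61637 := ded_43_2 (flp_e L807244) (flp_h L803176) L814179
theorem L814189 : sm gd N62214 = N61340 := ded_34_1 (flp_e L804573) L792337 (flp_e L790889) (flp_d L803172) L814179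
theorem L814191 : sm gf N61210 = N62215 := rfl
theorem L814193 : sm gb N62215 = N61211 := ded_22_1 (flp_f L803190) (flp_b L803182) L814191
theorem L814195 : sm gd N62215 = N61341 := ded_35_1 (flp_f L804579) (flp_d L803188) L814191
theorem L814197 : sm gh N62215 = N61638 := ded_47_2 (flp_f L807252) (flp_h L803186) L814191
theorem L814199 : sm gg N62215 = N61433 := ded_45_2 (flp_f L805501) L793215 (flp_f L791072) (flp_g L803184) L814191
theorem L814201 : sm ge N61212 = N62216 := rfl
theorem L814203 : sm ga N62216 = N61213 := ded_13_1 (flp_e L803210) L803202 L814201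
theorem L814205 : sm gb N62216 = N61704 := ded_21_1 (flp_e L807714) (flp_b L803208) L814201
theorem L814207 : sm gh N62216 = N61220 := ded_43_2 (flp_e L803293) (flp_h L803206) L814201
theorem L814209 : sm gf N62216 = N61346 := ded_40_2 (flp_e L804622) L792381 (flp_e L790889) (flp_f L803204) L814201
theorem L814211 : sm gd N61213 = N62217 := rfl
theorem L814213 : sm gb N62217 = N61214 := ded_20_1 (flp_d L803218) (flp_b L803212) L814211
theorem L814215 : sm gf N62217 = N61347 := ded_35_2 (flp_d L804628) (flp_f L803216) L814211
theorem L814217 : sm gh N62217 = N61630 := ded_38_2 (flp_d L807204) L795249 (flp_d L790990) (flp_h L803214) L814211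
theorem L814219 : sm ga N61215 = N62218 := rfl
theorem L814221 : sm gc N62218 = N61670 := ded_11_2 (flp_a L807479) (flp_c L803239) L814219
theorem L814223 : sm gd N62218 = N61684 := ded_12_2 (flp_a L807566) (flp_d L803229) L814219
theorem L814225 : sm gf N62218 = N61217 := ded_14_2 (flp_a L803255) (flp_f L803231) L814219
theorem L814227 : sm gj N62218 = N61236 := ded_16_2 (flp_a L803480) (flp_j L803233) L814219
theorem L814229 : sm gh N62218 = N61234 := ded_17_2 (flp_a L803460) (flp_h L803235) L814219
theorem L814231 : sm gi N62218 = N61222 := ded_18_2 (flp_a L803323) (flp_i L803237) L814219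
theorem L814233 : sm gb N62218 = N61686 := ded_10_2 (flp_a L807578) (flp_b L795801) (flp_a L790899) L803227 L814219
theorem L814235 : sm ge N61215 = N62219 := rfl
theorem L814237 : sm gb N62219 = N61216 := ded_21_1 (flp_e L803241) L803227 L814235
theorem L814239 : sm gc N62219 = N61671 := ded_28_1 (flp_e L807485) (flp_c L803239) L814235
theorem L814241 : sm gj N62219 = N61237 := ded_42_2 (flp_e L803490) (flp_j L803233) L814235
theorem L814243 : sm gh N62219 = N61235 := ded_43_2 (flp_e L803470) (flp_h L803235) L814235
theorem L814245 : sm gi N62219 = N61223 := ded_44_2 (flp_e L803333) (flp_i L803237) L814235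
theorem L814247 : sm gf N62219 = N61353 := ded_40_2 (flp_e L804685) L792431 (flp_e L790930) (flp_f L803231) L814235
theorem L814249 : sm gd N61216 = N62220 := rfl
theorem L814251 : sm ga N62220 = N61688 := ded_12_1 (flp_d L807588) (flp_a L803243) L814249
theorem L814253 : sm gf N62220 = N61354 := ded_35_2 (flp_d L804693) (flp_f L803253) L814249
theorem L814255 : sm gj N62220 = N61238 := ded_37_2 (flp_d L803502) (flp_j L803247) L814249
theorem L814257 : sm gi N62220 = N61224 := ded_39_2 (flp_d L803345) (flp_i L803251) L814249
theorem L814259 : sm gc N62220 = N62220 := ded_27_1 (flp_d L814249) L803245 L790923 (flp_c L803245) L814249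
theorem L814260 : sm ge N62220 = N61407 := ded_34_2 L805270 (flp_e L795777) (flp_d L790909) L803241 L814249
theorem L814262 : sm gh N62220 = N61398 := ded_38_2 (flp_d L805175) (flp_h L800119) L800123 (flp_h L803249) L814249
theorem L814264 : sm ge N61218 = N62221 := rfl
theorem L814266 : sm ga N62221 = N61219 := ded_13_1 (flp_e L803281) L803269 L814264
theorem L814268 : sm gb N62221 = N61699 := ded_21_1 (flp_e L807673) (flp_b L803279) L814264
theorem L814270 : sm gj N62221 = N61220 := ded_42_2 (flp_e L803293) (flp_j L803275) L814264
theorem L814272 : sm gi N62221 = N61225 := ded_44_2 (flp_e L803356) (flp_i L803277) L814264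
theorem L814274 : sm gd N62221 = N61610 := ded_34_1 (flp_e L807049) L795075 (flp_e L794174) (flp_d L803271) L814264
theorem L814276 : sm gf N62221 = N61364 := ded_40_2 (flp_e L804796) L792551 (flp_e L790966) (flp_f L803273) L814264
theorem L814278 : sm ge N61222 = N62222 := rfl
theorem L814280 : sm ga N62222 = N61223 := ded_13_1 (flp_e L803333) L803323 L814278
theorem L814282 : sm gc N62222 = N61673 := ded_28_1 (flp_e L807498) (flp_c L803325) L814278
theorem L814284 : sm gj N62222 = N61692 := ded_42_2 (flp_e L807622) (flp_j L803329) L814278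
theorem L814286 : sm gh N62222 = N61669 := ded_43_2 (flp_e L807471) (flp_h L803331) L814278
theorem L814288 : sm gf N62222 = N61405 := ded_40_2 (flp_e L805249) L792991 (flp_e L791032) (flp_f L803327) L814278
theorem L814290 : sm gd N61223 = N62223 := rfl
theorem L814292 : sm gb N62223 = N61224 := ded_20_1 (flp_d L803345) (flp_b L803335) L814290
theorem L814294 : sm gf N62223 = N61406 := ded_35_2 (flp_d L805255) (flp_f L803343) L814290
theorem L814296 : sm gj N62223 = N61693 := ded_37_2 (flp_d L807628) (flp_j L803339) L814290
theorem L814298 : sm gh N62223 = N61708 := ded_38_2 (flp_d L807736) (flp_h L806166) L806170 (flp_h L803341) L814290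
theorem L814300 : sm ge N61226 = N62224 := rfl
theorem L814302 : sm ga N62224 = N61227 := ded_13_1 (flp_e L803378) L803366 L814300
theorem L814304 : sm gb N62224 = N61680 := ded_21_1 (flp_e L807542) (flp_b L803376) L814300
theorem L814306 : sm gc N62224 = N61285 := ded_28_1 (flp_e L804033) (flp_c L803368) L814300
theorem L814308 : sm gj N62224 = N61228 := ded_42_2 (flp_e L803388) (flp_j L803372) L814300
theorem L814310 : sm gh N62224 = N61679 := ded_43_2 (flp_e L807536) (flp_h L803374) L814300
theorem L814312 : sm gh N61229 = N62225 := rfl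
theorem L814314 : sm ga N62225 = N61230 := ded_17_1 (flp_h L803408) (flp_a L803398) L814312
theorem L814316 : sm ge N62225 = N61580 := ded_43_1 L806841 (flp_e L803406) L814312
theorem L814318 : sm gf N62225 = N61484 := ded_47_1 (flp_h L805936) (flp_f L803400) L814312
theorem L814320 : sm gj N62225 = N61717 := ded_52_1 L807796 (flp_j L803402) L814312
theorem L814322 : sm gi N61230 = N62226 := rfl
theorem L814324 : sm gb N62226 = N61231 := ded_26_1 (flp_i L803418) (flp_b L803410) L814322
theorem L814326 : sm gc N62226 = N61422 := ded_33_1 (flp_i L811629) L811621 L814322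
theorem L814328 : sm gd N62226 = N61724 := ded_39_1 (flp_i L811421) L811423 L814322
theorem L814330 : sm ge N62226 = N61287 := ded_44_1 L804061 (flp_e L803412) L814322
theorem L814332 : sm gf N62226 = N61486 := ded_48_1 (flp_i L805948) (flp_f L803414) L814322
theorem L814334 : sm gg N62226 = N61410 := ded_51_1 (flp_i L811335) L811329 L814322
theorem L814336 : sm gj N62226 = N61716 := ded_53_1 L807790 (flp_j L803416) L814322
theorem L814338 : sm gh N62226 = N61627 := ded_54_1 L807191 L795249 (flp_i L791178) L803408 L814322
theorem L814340 : sm ge N61234 = N62227 := rfl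
theorem L814342 : sm ga N62227 = N61235 := ded_13_1 (flp_e L803470) L803460 L814340
theorem L814344 : sm gc N62227 = N61682 := ded_28_1 (flp_e L807556) (flp_c L803462) L814340
theorem L814346 : sm gj N62227 = N61239 := ded_42_2 (flp_e L803515) (flp_j L803466) L814340
theorem L814348 : sm gi N62227 = N61680 := ded_44_2 (flp_e L807542) (flp_i L803468) L814340
theorem L814350 : sm ge N61236 = N62228 := rfl
theorem L814352 : sm ga N62228 = N61237 := ded_13_1 (flp_e L803490) L803480 L814350
theorem L814354 : sm gg N62228 = N61704 := ded_41_2 (flp_e L807714) (flp_g L803484) L814350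
theorem L814356 : sm gh N62228 = N61239 := ded_43_2 (flp_e L803515) (flp_h L803486) L814350
theorem L814358 : sm gi N62228 = N61692 := ded_44_2 (flp_e L807622) (flp_i L803488) L814350
theorem L814360 : sm gf N62228 = N61721 := ded_40_2 (flp_e L807819) L796130 (flp_e L795795) (flp_f L803482) L814350
theorem L814362 : sm gd N61237 = N62229 := rfl
theorem L814364 : sm gb N62229 = N61238 := ded_20_1 (flp_d L803502) (flp_b L803492) L814362
theorem L814366 : sm gf N62229 = N61722 := ded_35_2 (flp_d L807825) (flp_f L803500) L814362
theorem L814368 : sm gg N62229 = N61705 := ded_36_2 (flp_d L807720) (flp_g L803494) L814362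
theorem L814370 : sm gi N62229 = N61693 := ded_39_2 (flp_d L807628) (flp_i L803498) L814362
theorem L814372 : sm ge N62229 = N61751 := ded_34_2 L812373 (flp_e L812359) L801170 L803490 L814362
theorem L814374 : sm gh N62229 = N61746 := ded_38_2 (flp_d L807985) (flp_h L803106) L803110 (flp_h L803496) L814362
theorem L814376 : sm ga N61240 = N62230 := rfl
theorem L814378 : sm gc N62230 = N61686 := ded_11_2 (flp_a L807578) (flp_c L803531) L814376
theorem L814380 : sm gd N62230 = N61615 := ded_12_2 (flp_a L807091) (flp_d L803523) L814376
theorem L814382 : sm gf N62230 = N61242 := ded_14_2 (flp_a L803545) (flp_f L803525) L814376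
theorem L814384 : sm gj N62230 = N61250 := ded_16_2 (flp_a L803650) (flp_j L803527) L814376
theorem L814386 : sm gh N62230 = N61259 := ded_17_2 (flp_a L803747) (flp_h L803529) L814376
theorem L814388 : sm gb N62230 = N61309 := ded_10_2 (flp_a L804280) (flp_b L792097) (flp_a L791304) L803521 L814376
theorem L814390 : sm ge N61240 = N62231 := rfl
theorem L814392 : sm gb N62231 = N61241 := ded_21_1 (flp_e L803533) L803521 L814390
theorem L814394 : sm gc N62231 = N61687 := ded_28_1 (flp_e L807584) (flp_c L803531) L814390
theorem L814396 : sm gj N62231 = N61251 := ded_42_2 (flp_e L803658) (flp_j L803527) L814390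
theorem L814398 : sm gh N62231 = N61260 := ded_43_2 (flp_e L803759) (flp_h L803529) L814390
theorem L814400 : sm gf N62231 = N61697 := ded_40_2 (flp_e L807660) L795874 (flp_e L791331) (flp_f L803525) L814390
theorem L814402 : sm gd N61241 = N62232 := rfl
theorem L814404 : sm ga N62232 = N61311 := ded_12_1 (flp_d L804296) (flp_a L803535) L814402
theorem L814406 : sm gf N62232 = N61698 := ded_35_2 (flp_d L807668) (flp_f L803543) L814402
theorem L814408 : sm gj N62232 = N61252 := ded_37_2 (flp_d L803666) (flp_j L803539) L814402
theorem L814410 : sm gc N62232 = N62232 := ded_27_1 (flp_d L814402) L803537 L791324 (flp_c L803537) L814402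
theorem L814411 : sm ge N62232 = N61617 := ded_34_2 (flp_d L807107) (flp_e L795143) (flp_d L791312) L803533 L814402
theorem L814413 : sm ga N61243 = N62233 := rfl
theorem L814415 : sm gc N62233 = N61600 := ded_11_2 (flp_a L806974) (flp_c L803571) L814413
theorem L814417 : sm gd N62233 = N61250 := ded_12_2 (flp_a L803650) (flp_d L803563) L814413
theorem L814419 : sm gf N62233 = N61246 := ded_14_2 (flp_a L803596) (flp_f L803565) L814413
theorem L814421 : sm gj N62233 = N61615 := ded_16_2 (flp_a L807091) (flp_j L803567) L814413
theorem L814423 : sm gh N62233 = N61595 := ded_17_2 (flp_a L806920) (flp_h L803569) L814413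
theorem L814425 : sm gb N62233 = N61335 := ded_10_2 (flp_a L804547) (flp_b L792320) (flp_a L791343) L803561 L814413
theorem L814427 : sm ge N61243 = N62234 := rfl
theorem L814429 : sm gb N62234 = N61244 := ded_21_1 (flp_e L803573) L803561 L814427
theorem L814431 : sm gc N62234 = N61601 := ded_28_1 (flp_e L806984) (flp_c L803571) L814427
theorem L814433 : sm gj N62234 = N61616 := ded_42_2 (flp_e L807099) (flp_j L803567) L814427
theorem L814435 : sm gh N62234 = N61596 := ded_43_2 (flp_e L806932) (flp_h L803569) L814427
theorem L814437 : sm gd N61244 = N62235 := rfl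
theorem L814439 : sm ga N62235 = N61337 := ded_12_1 (flp_d L804557) (flp_a L803575) L814437
theorem L814441 : sm gj N62235 = N61617 := ded_37_2 (flp_d L807107) (flp_j L803579) L814437
theorem L814443 : sm gc N62235 = N62235 := ded_27_1 (flp_d L814437) L803577 L791363 (flp_c L803577) L814437
theorem L814444 : sm ge N62235 = N61252 := ded_34_2 (flp_d L803666) (flp_e L791423) (flp_d L791351) L803573 L814437
theorem L814446 : sm gf N61244 = N62236 := rfl
theorem L814448 : sm ga N62236 = N61338 := ded_14_1 (flp_f L804562) (flp_a L803575) L814446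
theorem L814450 : sm gc N62236 = N61245 := ded_29_1 (flp_f L803583) (flp_c L803577) L814446
theorem L814452 : sm gj N62236 = N61390 := ded_46_2 L805092 (flp_j L803579) L814446
theorem L814454 : sm gh N62236 = N61386 := ded_47_2 L805043 (flp_h L803581) L814446
theorem L814456 : sm ge N62236 = N61248 := ded_40_1 (flp_f L803624) (flp_e L791376) (flp_f L791345) L803573 L814446
theorem L814458 : sm gg N61245 = N62237 := rfl
theorem L814460 : sm ga N62237 = N61339 := ded_15_1 (flp_g L804568) (flp_a L803585) L814458
theorem L814462 : sm gb N62237 = N61385 := ded_23_1 L805036 (flp_b L803587) L814458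
theorem L814464 : sm gd N62237 = N62237 := ded_36_1 (flp_g L814458) L803589 L814458
theorem L814465 : sm ge N62237 = N61249 := ded_41_1 (flp_g L803636) (flp_e L803594) L814458
theorem L814467 : sm gh N62237 = N61384 := ded_50_2 L805024 (flp_h L803592) L814458
theorem L814469 : sm gj N62237 = N61488 := ded_49_2 L805964 L793681 (flp_g L792845) (flp_j L803590) L814458
theorem L814471 : sm ge N61246 = N62238 := rfl
theorem L814473 : sm ga N62238 = N61247 := ded_13_1 (flp_e L803610) L803596 L814471
theorem L814475 : sm gb N62238 = N61340 := ded_21_1 (flp_e L804573) (flp_b L803608) L814471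
theorem L814477 : sm gc N62238 = N61607 := ded_28_1 (flp_e L807027) (flp_c L803598) L814471
theorem L814479 : sm gg N62238 = N61706 := ded_41_2 (flp_e L807724) (flp_g L803602) L814471
theorem L814481 : sm gj N62238 = N61620 := ded_42_2 (flp_e L807124) (flp_j L803604) L814471
theorem L814483 : sm gh N62238 = N61597 := ded_43_2 (flp_e L806942) (flp_h L803606) L814471
theorem L814485 : sm gd N62238 = N61658 := ded_34_1 (flp_e L807398) L795494 (flp_e L791435) (flp_d L803600) L814471
theorem L814487 : sm gf N61247 = N62239 := rfl
theorem L814489 : sm gb N62239 = N61248 := ded_22_1 (flp_f L803624) (flp_b L803612) L814487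
theorem L814491 : sm gc N62239 = N61608 := ded_29_1 (flp_f L807035) (flp_c L803614) L814487
theorem L814493 : sm gd N62239 = N61659 := ded_35_1 (flp_f L807404) (flp_d L803622) L814487
theorem L814495 : sm gj N62239 = N61481 := ded_46_2 L805918 (flp_j L803618) L814487
theorem L814497 : sm gh N62239 = N61479 := ded_47_2 L805896 (flp_h L803620) L814487
theorem L814499 : sm gg N61248 = N62240 := rfl
theorem L814501 : sm ga N62240 = N61342 := ded_15_1 (flp_g L804583) (flp_a L803626) L814499
theorem L814503 : sm gc N62240 = N61249 := ded_30_1 (flp_g L803636) (flp_c L803628) L814499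
theorem L814505 : sm gd N62240 = N61284 := ded_36_1 L804031 (flp_d L803630) L814499
theorem L814507 : sm gh N62240 = N61430 := ded_50_2 L805483 (flp_h L803634) L814499
theorem L814509 : sm gf N62240 = N61283 := ded_45_1 L804019 L791818 (flp_g L791382) L803624 L814499
theorem L814511 : sm gj N62240 = N61434 := ded_49_2 L805509 L793247 (flp_g L793627) (flp_j L803632) L814499
theorem L814513 : sm ge N61250 = N62241 := rfl
theorem L814515 : sm ga N62241 = N61251 := ded_13_1 (flp_e L803658) L803650 L814513
theorem L814517 : sm gb N62241 = N61346 := ded_21_1 (flp_e L804622) (flp_b L803656) L814513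
theorem L814519 : sm gh N62241 = N61262 := ded_43_2 (flp_e L803783) (flp_h L803654) L814513
theorem L814521 : sm gf N62241 = N61704 := ded_40_2 (flp_e L807714) L795964 (flp_e L791435) (flp_f L803652) L814513
theorem L814523 : sm gd N61251 = N62242 := rfl
theorem L814525 : sm gb N62242 = N61252 := ded_20_1 (flp_d L803666) (flp_b L803660) L814523
theorem L814527 : sm gf N62242 = N61705 := ded_35_2 (flp_d L807720) (flp_f L803664) L814523
theorem L814529 : sm gh N61252 = N62243 := rfl
theorem L814531 : sm ga N62243 = N61348 := ded_17_1 (flp_h L804632) (flp_a L803668) L814529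
theorem L814533 : sm gc N62243 = N62243 := ded_32_1 (flp_h L814529) L803672 L814529
theorem L814534 : sm gf N62243 = N61547 := ded_47_1 L806545 (flp_f L803670) L814529
theorem L814536 : sm gd N62243 = N61264 := ded_38_1 (flp_h L803803) (flp_d L791560) (flp_h L791429) L803666 L814529
theorem L814538 : sm ga N61253 = N62244 := rfl
theorem L814540 : sm gc N62244 = N61696 := ded_11_2 (flp_a L807652) (flp_c L803685) L814538
theorem L814542 : sm gd N62244 = N61440 := ded_12_2 (flp_a L805553) (flp_d L803675) L814538
theorem L814544 : sm gf N62244 = N61255 := ded_14_2 (flp_a L803701) (flp_f L803677) L814538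
theorem L814546 : sm gj N62244 = N61700 := ded_16_2 (flp_a L807679) (flp_j L803679) L814538
theorem L814548 : sm gh N62244 = N61694 := ded_17_2 (flp_a L807634) (flp_h L803681) L814538
theorem L814550 : sm gi N62244 = N61270 := ded_18_2 (flp_a L803878) (flp_i L803683) L814538
theorem L814552 : sm gb N62244 = N61352 := ded_10_2 (flp_a L804677) (flp_b L792429) (flp_a L791445) L803673 L814538
theorem L814554 : sm ge N61253 = N62245 := rfl
theorem L814556 : sm gb N62245 = N61254 := ded_21_1 (flp_e L803687) L803673 L814554
theorem L814558 : sm gc N62245 = N61697 := ded_28_1 (flp_e L807660) (flp_c L803685) L814554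
theorem L814560 : sm gj N62245 = N61701 := ded_42_2 (flp_e L807691) (flp_j L803679) L814554
theorem L814562 : sm gh N62245 = N61695 := ded_43_2 (flp_e L807644) (flp_h L803681) L814554
theorem L814564 : sm gi N62245 = N61271 := ded_44_2 (flp_e L803886) (flp_i L803683) L814554
theorem L814566 : sm gf N62245 = N61687 := ded_40_2 (flp_e L807584) L795805 (flp_e L791476) (flp_f L803677) L814554
theorem L814568 : sm gd N61254 = N62246 := rfl
theorem L814570 : sm ga N62246 = N61354 := ded_12_1 (flp_d L804693) (flp_a L803689) L814568
theorem L814572 : sm gf N62246 = N61688 := ded_35_2 (flp_d L807588) (flp_f L803699) L814568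
theorem L814574 : sm gj N62246 = N61702 := ded_37_2 (flp_d L807701) (flp_j L803693) L814568
theorem L814576 : sm gi N62246 = N61272 := ded_39_2 (flp_d L803892) (flp_i L803697) L814568
theorem L814578 : sm gc N62246 = N62246 := ded_27_1 (flp_d L814568) L803691 L791469 (flp_c L803691) L814568
theorem L814579 : sm ge N62246 = N61442 := ded_34_2 (flp_d L805571) (flp_e L793273) (flp_d L791455) L803687 L814568
theorem L814581 : sm gh N62246 = N61720 := ded_38_2 (flp_d L807812) (flp_h L799303) L799307 (flp_h L803695) L814568
theorem L814583 : sm ga N61256 = N62247 := rfl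
theorem L814585 : sm gd N62247 = N61756 := ded_12_2 L808058 (flp_d L803721) L814583
theorem L814587 : sm gg N62247 = N61259 := ded_15_2 (flp_a L803747) (flp_g L803723) L814583
theorem L814589 : sm gi N62247 = N61281 := ded_18_2 (flp_a L804003) (flp_i L803725) L814583
theorem L814591 : sm gb N62247 = N61360 := ded_10_2 (flp_a L804766) (flp_b L792529) (flp_a L791490) L803719 L814583
theorem L814593 : sm ge N61256 = N62248 := rfl
theorem L814595 : sm gb N62248 = N61257 := ded_21_1 (flp_e L803727) L803719 L814593
theorem L814597 : sm gg N62248 = N61260 := ded_41_2 (flp_e L803759) (flp_g L803723) L814593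
theorem L814599 : sm gi N62248 = N61282 := ded_44_2 (flp_e L804009) (flp_i L803725) L814593
theorem L814601 : sm gd N61257 = N62249 := rfl
theorem L814603 : sm ga N62249 = N61362 := ded_12_1 (flp_d L804780) (flp_a L803729) L814601
theorem L814605 : sm gg N62249 = N61261 := ded_36_2 (flp_d L803769) (flp_g L803733) L814601
theorem L814607 : sm gi N62249 = N61283 := ded_39_2 (flp_d L804015) (flp_i L803735) L814601
theorem L814609 : sm gc N62249 = N61265 := ded_27_1 (flp_d L803813) L791576 (flp_d L791506) (flp_c L803731) L814601
theorem L814611 : sm ge N62249 = N61538 := ded_34_2 L806464 L796433 (flp_d L791496) L803727 L814601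
theorem L814613 : sm gf N61257 = N62250 := rfl
theorem L814615 : sm ga N62250 = N61363 := ded_14_1 (flp_f L804790) (flp_a L803729) L814613
theorem L814617 : sm gc N62250 = N61258 := ded_29_1 (flp_f L803737) (flp_c L803731) L814613
theorem L814619 : sm gi N62250 = N61284 := ded_48_2 (flp_f L804023) (flp_i L803735) L814613
theorem L814621 : sm gg N62250 = N61657 := ded_45_2 (flp_f L807392) L795482 (flp_f L791528) (flp_g L803733) L814613
theorem L814623 : sm ge N61259 = N62251 := rfl
theorem L814625 : sm ga N62251 = N61260 := ded_13_1 (flp_e L803759) L803747 L814623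
theorem L814627 : sm gb N62251 = N61364 := ded_21_1 (flp_e L804796) (flp_b L803757) L814623
theorem L814629 : sm gj N62251 = N61262 := ded_42_2 (flp_e L803783) (flp_j L803753) L814623
theorem L814631 : sm gi N62251 = N61285 := ded_44_2 (flp_e L804033) (flp_i L803755) L814623
theorem L814633 : sm gf N62251 = N61699 := ded_40_2 (flp_e L807673) L795898 (flp_e L791534) (flp_f L803751) L814623
theorem L814635 : sm gd N61260 = N62252 := rfl
theorem L814637 : sm gb N62252 = N61261 := ded_20_1 (flp_d L803769) (flp_b L803761) L814635
theorem L814639 : sm gf N62252 = N61535 := ded_35_2 L806438 (flp_f L803767) L814635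
theorem L814641 : sm gj N62252 = N61263 := ded_37_2 (flp_d L803793) (flp_j L803763) L814635
theorem L814643 : sm gi N62252 = N61286 := ded_39_2 (flp_d L804041) (flp_i L803765) L814635
theorem L814645 : sm ge N62252 = N61537 := ded_34_2 L806454 L796427 (flp_d L791510) L803759 L814635
theorem L814647 : sm gh N61261 = N62253 := rfl
theorem L814649 : sm ga N62253 = N61366 := ded_17_1 (flp_h L804816) (flp_a L803771) L814647
theorem L814651 : sm gc N62253 = N61266 := ded_32_1 (flp_h L803823) (flp_c L803779) L814647
theorem L814653 : sm ge N62253 = N61532 := ded_43_1 L806406 (flp_e L803781) L814647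
theorem L814655 : sm gf N62253 = N61529 := ded_47_1 L806370 (flp_f L803773) L814647
theorem L814657 : sm gj N62253 = N61264 := ded_52_1 (flp_h L803803) (flp_j L803775) L814647
theorem L814659 : sm gd N61262 = N62254 := rfl
theorem L814661 : sm ga N62254 = N61263 := ded_12_1 (flp_d L803793) (flp_a L803785) L814659
theorem L814663 : sm gb N62254 = N61379 := ded_20_1 (flp_d L804966) (flp_b L803787) L814659
theorem L814665 : sm gf N62254 = N61550 := ded_35_2 L806569 (flp_f L803791) L814659
theorem L814667 : sm gi N62254 = N61298 := ded_39_2 (flp_d L804174) (flp_i L803789) L814659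
theorem L814669 : sm ge N62254 = N61551 := ded_34_2 L806577 L796575 (flp_d L791544) L803783 L814659
theorem L814671 : sm gh N61263 = N62255 := rfl
theorem L814673 : sm gb N62255 = N61264 := ded_25_1 (flp_h L803803) (flp_b L803795) L814671
theorem L814675 : sm ge N62255 = N61549 := ded_43_1 L806561 (flp_e L803801) L814671
theorem L814677 : sm gf N62255 = N61546 := ded_47_1 L806534 (flp_f L803797) L814671
theorem L814679 : sm gh N61265 = N62256 := rfl
theorem L814681 : sm ga N62256 = N61385 := ded_17_1 (flp_h L805032) (flp_a L803815) L814679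
theorem L814683 : sm ge N62256 = N61533 := ded_43_1 L806414 (flp_e L803821) L814679
theorem L814685 : sm gg N62256 = N61266 := ded_50_1 (flp_h L803823) (flp_g L803817) L814679
theorem L814687 : sm gd N62256 = N62256 := ded_38_1 (flp_h L814679) (flp_d L803813) L791580 L803813 L814679
theorem L814688 : sm ga N61267 = N62257 := rfl
theorem L814690 : sm gc N62257 = N61455 := ded_11_2 (flp_a L805681) (flp_c L803846) L814688
theorem L814692 : sm gd N62257 = N61270 := ded_12_2 (flp_a L803878) (flp_d L803836) L814688
theorem L814694 : sm gf N62257 = N61269 := ded_14_2 (flp_a L803862) (flp_f L803838) L814688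
theorem L814696 : sm gj N62257 = N61623 := ded_16_2 (flp_a L807152) (flp_j L803840) L814688
theorem L814698 : sm gh N62257 = N61634 := ded_17_2 (flp_a L807226) (flp_h L803842) L814688
theorem L814700 : sm gi N62257 = N61440 := ded_18_2 (flp_a L805553) (flp_i L803844) L814688
theorem L814702 : sm gb N62257 = N61396 := ded_10_2 (flp_a L805161) (flp_b L792906) (flp_a L791616) L803834 L814688
theorem L814704 : sm ge N61267 = N62258 := rfl
theorem L814706 : sm gb N62258 = N61268 := ded_21_1 (flp_e L803848) L803834 L814704
theorem L814708 : sm gc N62258 = N61456 := ded_28_1 (flp_e L805687) (flp_c L803846) L814704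
theorem L814710 : sm gj N62258 = N61624 := ded_42_2 (flp_e L807164) (flp_j L803840) L814704
theorem L814712 : sm gh N62258 = N61635 := ded_43_2 (flp_e L807232) (flp_h L803842) L814704
theorem L814714 : sm gi N62258 = N61441 := ded_44_2 (flp_e L805561) (flp_i L803844) L814704
theorem L814716 : sm gf N62258 = N61719 := ded_40_2 (flp_e L807806) L796110 (flp_e L791647) (flp_f L803838) L814704
theorem L814718 : sm gd N61268 = N62259 := rfl
theorem L814720 : sm ga N62259 = N61398 := ded_12_1 (flp_d L805175) (flp_a L803850) L814718
theorem L814722 : sm gf N62259 = N61720 := ded_35_2 (flp_d L807812) (flp_f L803860) L814718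
theorem L814724 : sm gj N62259 = N61625 := ded_37_2 (flp_d L807172) (flp_j L803854) L814718
theorem L814726 : sm gi N62259 = N61442 := ded_39_2 (flp_d L805571) (flp_i L803858) L814718
theorem L814728 : sm gc N62259 = N62259 := ded_27_1 (flp_d L814718) L803852 L791640 (flp_c L803852) L814718
theorem L814729 : sm ge N62259 = N61272 := ded_34_2 (flp_d L803892) (flp_e L791663) (flp_d L791626) L803848 L814718
theorem L814731 : sm gh N62259 = N61688 := ded_38_2 (flp_d L807588) (flp_h L798380) L798384 (flp_h L803856) L814718
theorem L814733 : sm ge N61270 = N62260 := rfl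
theorem L814735 : sm ga N62260 = N61271 := ded_13_1 (flp_e L803886) L803878 L814733
theorem L814737 : sm gb N62260 = N61405 := ded_21_1 (flp_e L805249) (flp_b L803884) L814733
theorem L814739 : sm gj N62260 = N61707 := ded_42_2 (flp_e L807730) (flp_j L803882) L814733
theorem L814741 : sm gd N61271 = N62261 := rfl
theorem L814743 : sm gb N62261 = N61272 := ded_20_1 (flp_d L803892) (flp_b L803888) L814741
theorem L814745 : sm gf N62261 = N61751 := ded_35_2 L812373 L812371 L814741
theorem L814747 : sm gj N62261 = N61708 := ded_37_2 (flp_d L807736) (flp_j L803890) L814741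
theorem L814749 : sm gh N62261 = N61693 := ded_38_2 (flp_d L807628) (flp_h L806097) (flp_d L812080) L812076 L814741
theorem L814751 : sm ga N61273 = N62262 := rfl
theorem L814753 : sm gc N62262 = N61737 := ded_11_2 (flp_a L807924) (flp_c L803913) L814751
theorem L814755 : sm gf N62262 = N61275 := ded_14_2 (flp_a L803929) (flp_f L803905) L814751
theorem L814757 : sm gj N62262 = N61291 := ded_16_2 (flp_a L804105) (flp_j L803907) L814751
theorem L814759 : sm gh N62262 = N61278 := ded_17_2 (flp_a L803963) (flp_h L803909) L814751
theorem L814761 : sm gi N62262 = N61725 := ded_18_2 (flp_a L807839) (flp_i L803911) L814751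
theorem L814763 : sm gb N62262 = N61414 := ded_10_2 (flp_a L805340) (flp_b L793075) (flp_a L791681) L803903 L814751
theorem L814765 : sm ge N61273 = N62263 := rfl
theorem L814767 : sm gb N62263 = N61274 := ded_21_1 (flp_e L803915) L803903 L814765
theorem L814769 : sm gc N62263 = N61738 := ded_28_1 (flp_e L807932) (flp_c L803913) L814765
theorem L814771 : sm gj N62263 = N61292 := ded_42_2 (flp_e L804113) (flp_j L803907) L814765
theorem L814773 : sm gh N62263 = N61279 := ded_43_2 (flp_e L803977) (flp_h L803909) L814765
theorem L814775 : sm gi N62263 = N61726 := ded_44_2 (flp_e L807847) (flp_i L803911) L814765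
theorem L814777 : sm gf N62263 = N61556 := ded_40_2 (flp_e L806625) L794612 (flp_e L791708) (flp_f L803905) L814765
theorem L814779 : sm gd N61274 = N62264 := rfl
theorem L814781 : sm ga N62264 = N61416 := ded_12_1 (flp_d L805356) (flp_a L803917) L814779
theorem L814783 : sm gf N62264 = N61557 := ded_35_2 (flp_d L806633) (flp_f L803927) L814779
theorem L814785 : sm gj N62264 = N61293 := ded_37_2 (flp_d L804121) (flp_j L803921) L814779
theorem L814787 : sm gi N62264 = N61727 := ded_39_2 (flp_d L807855) (flp_i L803925) L814779
theorem L814789 : sm gc N62264 = N62264 := ded_27_1 (flp_d L814779) L803919 L791703 (flp_c L803919) L814779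
theorem L814790 : sm ga N61276 = N62265 := rfl
theorem L814792 : sm gc N62265 = N61761 := ded_11_2 (flp_a L808090) (flp_c L803951) L814790
theorem L814794 : sm gd N62265 = N61281 := ded_12_2 (flp_a L804003) (flp_d L803945) L814790
theorem L814796 : sm gg N62265 = N61278 := ded_15_2 (flp_a L803963) (flp_g L803947) L814790
theorem L814798 : sm gi N62265 = N61756 := ded_18_2 L808058 (flp_i L803949) L814790
theorem L814800 : sm gb N62265 = N61421 := ded_10_2 (flp_a L805407) (flp_b L793131) (flp_a L791720) L803943 L814790
theorem L814802 : sm ge N61276 = N62266 := rfl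
theorem L814804 : sm gb N62266 = N61277 := ded_21_1 (flp_e L803953) L803943 L814802
theorem L814806 : sm gc N62266 = N61762 := ded_28_1 (flp_e L808096) (flp_c L803951) L814802
theorem L814808 : sm gg N62266 = N61279 := ded_41_2 (flp_e L803977) (flp_g L803947) L814802
theorem L814810 : sm gi N62266 = N61755 := ded_44_2 L808052 (flp_i L803949) L814802
theorem L814812 : sm gd N61277 = N62267 := rfl
theorem L814814 : sm ga N62267 = N61423 := ded_12_1 (flp_d L805419) (flp_a L803955) L814812
theorem L814816 : sm gg N62267 = N61280 := ded_36_2 (flp_d L803989) (flp_g L803959) L814812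
theorem L814818 : sm gi N62267 = N61538 := ded_39_2 L806464 (flp_i L803961) L814812
theorem L814820 : sm gc N62267 = N61301 := ded_27_1 (flp_d L804190) L791981 (flp_d L791738) (flp_c L803957) L814812
theorem L814822 : sm ge N62267 = N61283 := ded_34_2 (flp_d L804015) (flp_e L791782) (flp_d L791726) L803953 L814812
theorem L814824 : sm ge N61278 = N62268 := rfl
theorem L814826 : sm ga N62268 = N61279 := ded_13_1 (flp_e L803977) L803963 L814824
theorem L814828 : sm gb N62268 = N61425 := ded_21_1 (flp_e L805437) (flp_b L803975) L814824
theorem L814830 : sm gc N62268 = N61764 := ded_28_1 (flp_e L808112) (flp_c L803965) L814824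
theorem L814832 : sm gj N62268 = N61295 := ded_42_2 (flp_e L804144) (flp_j L803971) L814824
theorem L814834 : sm gi N62268 = N61754 := ded_44_2 L808044 (flp_i L803973) L814824
theorem L814836 : sm gf N62268 = N61558 := ded_40_2 (flp_e L806640) L794630 (flp_e L791770) (flp_f L803969) L814824
theorem L814838 : sm gd N61279 = N62269 := rfl
theorem L814840 : sm gb N62269 = N61280 := ded_20_1 (flp_d L803989) (flp_b L803979) L814838
theorem L814842 : sm gf N62269 = N61510 := ded_35_2 L806200 (flp_f L803987) L814838
theorem L814844 : sm gj N62269 = N61296 := ded_37_2 (flp_d L804154) (flp_j L803983) L814838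
theorem L814846 : sm gi N62269 = N61537 := ded_39_2 L806454 (flp_i L803985) L814838
theorem L814848 : sm ge N62269 = N61286 := ded_34_2 (flp_d L804041) (flp_e L791808) (flp_d L791742) L803977 L814838
theorem L814850 : sm ge N61281 = N62270 := rfl
theorem L814852 : sm ga N62270 = N61282 := ded_13_1 (flp_e L804009) L804003 L814850
theorem L814854 : sm gb N62270 = N61431 := ded_21_1 (flp_e L805489) (flp_b L804007) L814850
theorem L814856 : sm gg N62270 = N61285 := ded_41_2 (flp_e L804033) (flp_g L804005) L814850
theorem L814858 : sm gd N61282 = N62271 := rfl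
theorem L814860 : sm gb N62271 = N61283 := ded_20_1 (flp_d L804015) (flp_b L804011) L814858
theorem L814862 : sm gg N62271 = N61286 := ded_36_2 (flp_d L804041) (flp_g L804013) L814858
theorem L814864 : sm gf N61282 = N62272 := rfl
theorem L814866 : sm gb N62272 = N61284 := ded_22_1 (flp_f L804023) (flp_b L804011) L814864
theorem L814868 : sm gh N62272 = N61663 := ded_47_2 (flp_f L808344) (flp_h L808356) L814864
theorem L814870 : sm gg N62272 = N61659 := ded_45_2 (flp_f L807404) (flp_g L801024) L801034 (flp_g L804013) L814864
theorem L814872 : sm gd N61285 = N62273 := rfl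
theorem L814874 : sm ga N62273 = N61286 := ded_12_1 (flp_d L804041) (flp_a L804035) L814872
theorem L814876 : sm gb N62273 = N61435 := ded_20_1 (flp_d L805511) (flp_b L804037) L814872
theorem L814878 : sm gf N62273 = N61706 := ded_35_2 (flp_d L812257) L812259 L814872
theorem L814880 : sm gj N62273 = N61298 := ded_37_2 (flp_d L804174) (flp_j L804039) L814872
theorem L814882 : sm ga N61287 = N62274 := rfl
theorem L814884 : sm gc N62274 = N61421 := ded_11_2 (flp_a L805407) (flp_c L804063) L814882
theorem L814886 : sm gd N62274 = N61288 := ded_12_2 (flp_a L804065) (flp_d L804051) L814882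
theorem L814888 : sm gf N62274 = N61581 := ded_14_2 (flp_a L806843) (flp_f L804053) L814882
theorem L814890 : sm gg N62274 = N61409 := ded_15_2 (flp_a L805286) (flp_g L804055) L814882
theorem L814892 : sm gj N62274 = N61715 := ded_16_2 (flp_a L807780) (flp_j L804057) L814882
theorem L814894 : sm gh N62274 = N61626 := ded_17_2 (flp_a L807181) (flp_h L804059) L814882
theorem L814896 : sm gi N62274 = N61580 := ded_18_2 (flp_a L806833) (flp_i L804061) L814882
theorem L814898 : sm ga N61289 = N62275 := rfl
theorem L814900 : sm gc N62275 = N61555 := ded_11_2 (flp_a L806615) (flp_c L804089) L814898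
theorem L814902 : sm gf N62275 = N61294 := ded_14_2 (flp_a L804128) (flp_f L804081) L814898
theorem L814904 : sm gj N62275 = N61725 := ded_16_2 (flp_a L807839) (flp_j L804083) L814898
theorem L814906 : sm gh N62275 = N61552 := ded_17_2 (flp_a L806579) (flp_h L804085) L814898
theorem L814908 : sm gi N62275 = N61291 := ded_18_2 (flp_a L804105) (flp_i L804087) L814898
theorem L814910 : sm gb N62275 = N61455 := ded_10_2 (flp_a L805681) (flp_b L793386) (flp_a L791866) L804079 L814898
theorem L814912 : sm ge N61289 = N62276 := rfl
theorem L814914 : sm gb N62276 = N61290 := ded_21_1 (flp_e L804091) L804079 L814912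
theorem L814916 : sm gc N62276 = N61556 := ded_28_1 (flp_e L806625) (flp_c L804089) L814912
theorem L814918 : sm gj N62276 = N61726 := ded_42_2 (flp_e L807847) (flp_j L804083) L814912
theorem L814920 : sm gh N62276 = N61553 := ded_43_2 (flp_e L806591) (flp_h L804085) L814912
theorem L814922 : sm gi N62276 = N61292 := ded_44_2 (flp_e L804113) (flp_i L804087) L814912
theorem L814924 : sm gf N62276 = N61738 := ded_40_2 (flp_e L807932) L796257 (flp_e L791909) (flp_f L804081) L814912
theorem L814926 : sm gd N61290 = N62277 := rfl
theorem L814928 : sm ga N62277 = N61457 := ded_12_1 (flp_d L805693) (flp_a L804093) L814926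
theorem L814930 : sm gf N62277 = N61739 := ded_35_2 (flp_d L807940) (flp_f L804103) L814926
theorem L814932 : sm gj N62277 = N61727 := ded_37_2 (flp_d L807855) (flp_j L804097) L814926
theorem L814934 : sm gi N62277 = N61293 := ded_39_2 (flp_d L804121) (flp_i L804101) L814926
theorem L814936 : sm gc N62277 = N62277 := ded_27_1 (flp_d L814926) L804095 L791888 (flp_c L804095) L814926
theorem L814937 : sm ge N61291 = N62278 := rfl
theorem L814939 : sm ga N62278 = N61292 := ded_13_1 (flp_e L804113) L804105 L814937
theorem L814941 : sm gb N62278 = N61458 := ded_21_1 (flp_e L805698) (flp_b L804111) L814937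
theorem L814943 : sm gh N62278 = N61295 := ded_43_2 (flp_e L804144) (flp_h L804109) L814937
theorem L814945 : sm gf N62278 = N61740 := ded_40_2 (flp_e L807945) L796273 (flp_e L791923) (flp_f L804107) L814937
theorem L814947 : sm gd N61292 = N62279 := rfl
theorem L814949 : sm gb N62279 = N61293 := ded_20_1 (flp_d L804121) (flp_b L804115) L814947
theorem L814951 : sm gf N62279 = N61741 := ded_35_2 (flp_d L807951) (flp_f L804119) L814947
theorem L814953 : sm gh N61293 = N62280 := rfl
theorem L814955 : sm ga N62280 = N61462 := ded_17_1 (flp_h L805727) (flp_a L804123) L814953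
theorem L814957 : sm gc N62280 = N62280 := ded_32_1 (flp_h L814953) L804127 L814953
theorem L814958 : sm gf N62280 = N61515 := ded_47_1 L806239 (flp_f L804125) L814953
theorem L814960 : sm gd N62280 = N61297 := ded_38_1 (flp_h L804164) (flp_d L791949) (flp_h L791903) L804121 L814953
theorem L814962 : sm gd N61295 = N62281 := rfl
theorem L814964 : sm ga N62281 = N61296 := ded_12_1 (flp_d L804154) (flp_a L804146) L814962
theorem L814966 : sm gb N62281 = N61474 := ded_20_1 (flp_d L805842) (flp_b L804148) L814962
theorem L814968 : sm gf N62281 = N61516 := ded_35_2 L806249 (flp_f L804152) L814962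
theorem L814970 : sm gi N62281 = N61551 := ded_39_2 L806577 (flp_i L804150) L814962
theorem L814972 : sm ge N62281 = N61298 := ded_34_2 (flp_d L804174) (flp_e L791961) (flp_d L791933) L804144 L814962
theorem L814974 : sm gh N61296 = N62282 := rfl
theorem L814976 : sm gb N62282 = N61297 := ded_25_1 (flp_h L804164) (flp_b L804156) L814974
theorem L814978 : sm ge N62282 = N61299 := ded_43_1 (flp_h L804180) (flp_e L804162) L814974
theorem L814980 : sm gf N62282 = N61514 := ded_47_1 L806232 (flp_f L804158) L814974
theorem L814982 : sm gh N61298 = N62283 := rfl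
theorem L814984 : sm ga N62283 = N61299 := ded_17_1 (flp_h L804180) (flp_a L804176) L814982
theorem L814986 : sm gb N62283 = N61484 := ded_25_1 (flp_h L805936) (flp_b L804178) L814982
theorem L814988 : sm gi N61299 = N62284 := rfl
theorem L814990 : sm gb N62284 = N61300 := ded_26_1 (flp_i L804184) (flp_b L804182) L814988
theorem L814992 : sm ga N61303 = N62285 := rfl
theorem L814994 : sm gc N62285 = N61306 := ded_11_2 (flp_a L804252) (flp_c L804224) L814992
theorem L814996 : sm gf N62285 = N61734 := ded_14_2 (flp_a L807905) (flp_f L804216) L814992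
theorem L814998 : sm gg N62285 = N61369 := ded_15_2 (flp_a L804854) (flp_g L804218) L814992
theorem L815000 : sm gj N62285 = N61322 := ded_16_2 (flp_a L804420) (flp_j L804220) L814992
theorem L815002 : sm gh N62285 = N61371 := ded_17_2 (flp_a L804878) (flp_h L804222) L814992
theorem L815004 : sm gb N62285 = N61539 := ded_10_2 (flp_a L806466) (flp_b L794439) (flp_a L792035) L804214 L814992
theorem L815006 : sm ga N61304 = N62286 := rfl
theorem L815008 : sm gc N62286 = N61734 := ded_11_2 (flp_a L807905) (flp_c L804238) L815006
theorem L815010 : sm gd N62286 = N61309 := ded_12_2 (flp_a L804280) (flp_d L804228) L815006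
theorem L815012 : sm gf N62286 = N61306 := ded_14_2 (flp_a L804252) (flp_f L804230) L815006
theorem L815014 : sm gg N62286 = N61725 := ded_15_2 (flp_a L807839) (flp_g L804232) L815006
theorem L815016 : sm gj N62286 = N61335 := ded_16_2 (flp_a L804547) (flp_j L804234) L815006
theorem L815018 : sm gh N62286 = N61613 := ded_17_2 (flp_a L807067) (flp_h L804236) L815006
theorem L815020 : sm gb N62286 = N61615 := ded_10_2 (flp_a L807091) (flp_b L795135) (flp_a L792047) L804226 L815006
theorem L815022 : sm ge N61304 = N62287 := rfl
theorem L815024 : sm gb N62287 = N61305 := ded_21_1 (flp_e L804240) L804226 L815022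
theorem L815026 : sm gc N62287 = N61735 := ded_28_1 (flp_e L807911) (flp_c L804238) L815022
theorem L815028 : sm gg N62287 = N61726 := ded_41_2 (flp_e L807847) (flp_g L804232) L815022
theorem L815030 : sm gj N62287 = N61336 := ded_42_2 (flp_e L804553) (flp_j L804234) L815022
theorem L815032 : sm gh N62287 = N61614 := ded_43_2 (flp_e L807081) (flp_h L804236) L815022
theorem L815034 : sm gd N61305 = N62288 := rfl
theorem L815036 : sm ga N62288 = N61617 := ded_12_1 (flp_d L807107) (flp_a L804242) L815034
theorem L815038 : sm gg N62288 = N61727 := ded_36_2 (flp_d L807855) (flp_g L804246) L815034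
theorem L815040 : sm gj N62288 = N61337 := ded_37_2 (flp_d L804557) (flp_j L804248) L815034
theorem L815042 : sm gc N62288 = N62288 := ded_27_1 (flp_d L815034) L804244 L792071 (flp_c L804244) L815034
theorem L815043 : sm ge N62288 = N61311 := ded_34_2 (flp_d L804296) (flp_e L792105) (flp_d L792057) L804240 L815034
theorem L815045 : sm ga N61307 = N62289 := rfl
theorem L815047 : sm gd N62289 = N61725 := ded_12_2 (flp_a L807839) (flp_d L804264) L815045
theorem L815049 : sm gf N62289 = N61723 := ded_14_2 (flp_a L807831) (flp_f L804266) L815045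
theorem L815051 : sm gg N62289 = N61309 := ded_15_2 (flp_a L804280) (flp_g L804268) L815045
theorem L815053 : sm gh N62289 = N61360 := ded_17_2 (flp_a L804766) (flp_h L804270) L815045
theorem L815055 : sm ge N61307 = N62290 := rfl
theorem L815057 : sm gb N62290 = N61308 := ded_21_1 (flp_e L804272) L804262 L815055
theorem L815059 : sm gg N62290 = N61310 := ded_41_2 (flp_e L804288) (flp_g L804268) L815055
theorem L815061 : sm gh N62290 = N61361 := ded_43_2 (flp_e L804772) (flp_h L804270) L815055
theorem L815063 : sm gd N61308 = N62291 := rfl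
theorem L815065 : sm gg N62291 = N61311 := ded_36_2 (flp_d L804296) (flp_g L804276) L815063
theorem L815067 : sm gc N62291 = N62291 := ded_27_1 (flp_d L815063) L804274 L792096 (flp_c L804274) L815063
theorem L815068 : sm ge N62291 = N61727 := ded_34_2 (flp_d L807855) (flp_e L796183) (flp_d L792088) L804272 L815063
theorem L815070 : sm ge N61309 = N62292 := rfl
theorem L815072 : sm ga N62292 = N61310 := ded_13_1 (flp_e L804288) L804280 L815070
theorem L815074 : sm gj N62292 = N61346 := ded_42_2 (flp_e L804622) (flp_j L804284) L815070
theorem L815076 : sm gh N62292 = N61364 := ded_43_2 (flp_e L804796) (flp_h L804286) L815070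
theorem L815078 : sm gd N61310 = N62293 := rfl
theorem L815080 : sm gb N62293 = N61311 := ded_20_1 (flp_d L804296) (flp_b L804290) L815078
theorem L815082 : sm gj N62293 = N61347 := ded_37_2 (flp_d L804628) (flp_j L804292) L815078
theorem L815084 : sm gh N61311 = N62294 := rfl
theorem L815086 : sm gc N62294 = N62294 := ded_32_1 (flp_h L815084) L804300 L815084
theorem L815087 : sm gf N62294 = N61602 := ded_47_1 (flp_h L814177) L814170 L815084
theorem L815089 : sm gj N62294 = N61348 := ded_52_1 (flp_h L804632) (flp_j L804298) L815084
theorem L815091 : sm gd N62294 = N61366 := ded_38_1 (flp_h L804816) (flp_d L792565) (flp_h L792111) L804296 L815084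
theorem L815093 : sm ga N61312 = N62295 := rfl
theorem L815095 : sm gc N62295 = N61530 := ded_11_2 (flp_a L806372) (flp_c L804309) L815093
theorem L815097 : sm gg N62295 = N61709 := ded_15_2 (flp_a L807740) (flp_g L804303) L815093
theorem L815099 : sm gj N62295 = N61539 := ded_16_2 (flp_a L806466) (flp_j L804305) L815093
theorem L815101 : sm gh N62295 = N61525 := ded_17_2 (flp_a L806328) (flp_h L804307) L815093
theorem L815103 : sm gb N62295 = N61322 := ded_10_2 (flp_a L804420) (flp_b L792201) (flp_a L792121) L804301 L815093
theorem L815105 : sm ge N61312 = N62296 := rfl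
theorem L815107 : sm gb N62296 = N61313 := ded_21_1 (flp_e L804311) L804301 L815105
theorem L815109 : sm gc N62296 = N61531 := ded_28_1 (flp_e L806384) (flp_c L804309) L815105
theorem L815111 : sm gg N62296 = N61710 := ded_41_2 (flp_e L807748) (flp_g L804303) L815105
theorem L815113 : sm gj N62296 = N61540 := ded_42_2 (flp_e L806474) (flp_j L804305) L815105
theorem L815115 : sm gh N62296 = N61526 := ded_43_2 (flp_e L806334) (flp_h L804307) L815105
theorem L815117 : sm gd N61313 = N62297 := rfl
theorem L815119 : sm ga N62297 = N61324 := ded_12_1 (flp_d L804434) (flp_a L804313) L815117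
theorem L815121 : sm gg N62297 = N61527 := ded_36_2 L806348 (flp_g L804317) L815117
theorem L815123 : sm gj N62297 = N61541 := ded_37_2 (flp_d L806484) (flp_j L804319) L815117
theorem L815125 : sm gc N62297 = N61315 := ded_27_1 (flp_d L804335) L792149 (flp_d L792141) (flp_c L804315) L815117
theorem L815127 : sm gf N61313 = N62298 := rfl
theorem L815129 : sm ga N62298 = N61325 := ded_14_1 (flp_f L804440) (flp_a L804313) L815127
theorem L815131 : sm gc N62298 = N61314 := ded_29_1 (flp_f L804323) (flp_c L804315) L815127
theorem L815133 : sm gj N62298 = N61542 := ded_46_2 (flp_f L806490) (flp_j L804319) L815127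
theorem L815135 : sm gh N62298 = N61527 := ded_47_2 (flp_f L806342) (flp_h L804321) L815127
theorem L815137 : sm gg N61314 = N62299 := rfl
theorem L815139 : sm ga N62299 = N61326 := ded_15_1 (flp_g L804446) (flp_a L804325) L815137
theorem L815141 : sm gb N62299 = N61533 := ded_23_1 (flp_g L806408) (flp_b L804327) L815137
theorem L815143 : sm gd N62299 = N61317 := ded_36_1 (flp_g L804360) (flp_d L804329) L815137
theorem L815145 : sm gh N62299 = N61315 := ded_50_2 L804341 (flp_h L804333) L815137
theorem L815147 : sm gf N62299 = N61490 := ded_45_1 L805984 L793726 (flp_g L792135) L804323 L815137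
theorem L815149 : sm gj N62299 = N61499 := ded_49_2 L806066 L794268 (flp_g L794463) (flp_j L804331) L815137
theorem L815151 : sm gf N61315 = N62300 := rfl
theorem L815153 : sm ga N62300 = N61327 := ded_14_1 (flp_f L804458) (flp_a L804337) L815151
theorem L815155 : sm gb N62300 = N61499 := ded_22_1 L806064 (flp_b L804339) L815151
theorem L815157 : sm gd N62300 = N61316 := ded_35_1 (flp_f L804345) L804335 L815151
theorem L815159 : sm gj N62300 = N61533 := ded_46_2 L806416 (flp_j L804343) L815151
theorem L815161 : sm gh N62300 = N61490 := ded_47_2 (flp_f L815147) L815145 L815151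
theorem L815163 : sm gg N62300 = N61494 := ded_45_2 L806018 L794230 L794304 (flp_g L804341) L815151
theorem L815165 : sm ga N61318 = N62301 := rfl
theorem L815167 : sm gc N62301 = N61331 := ded_11_2 (flp_a L804510) (flp_c L804389) L815165
theorem L815169 : sm gd N62301 = N61373 := ded_12_2 (flp_a L804904) (flp_d L804377) L815165
theorem L815171 : sm gf N62301 = N61742 := ded_14_2 (flp_a L807955) (flp_f L804379) L815165
theorem L815173 : sm gg N62301 = N61711 := ded_15_2 (flp_a L807756) (flp_g L804381) L815165
theorem L815175 : sm gj N62301 = N61371 := ded_16_2 (flp_a L804878) (flp_j L804383) L815165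
theorem L815177 : sm gh N62301 = N61322 := ded_17_2 (flp_a L804420) (flp_h L804385) L815165
theorem L815179 : sm gi N62301 = N61469 := ded_18_2 (flp_a L805802) (flp_i L804387) L815165
theorem L815181 : sm gb N62301 = N61525 := ded_10_2 (flp_a L806328) (flp_b L794292) (flp_a L792170) L804375 L815165
theorem L815183 : sm ga N61319 = N62302 := rfl
theorem L815185 : sm gc N62302 = N61335 := ded_11_2 (flp_a L804547) (flp_c L804399) L815183
theorem L815187 : sm gf N62302 = N61322 := ded_14_2 (flp_a L804420) (flp_f L804393) L815183
theorem L815189 : sm gj N62302 = N61734 := ded_16_2 (flp_a L807905) (flp_j L804395) L815183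
theorem L815191 : sm gh N62302 = N61742 := ded_17_2 (flp_a L807955) (flp_h L804397) L815183
theorem L815193 : sm ge N61319 = N62303 := rfl
theorem L815195 : sm gb N62303 = N61320 := ded_21_1 (flp_e L804401) L804391 L815193
theorem L815197 : sm gc N62303 = N61336 := ded_28_1 (flp_e L804553) (flp_c L804399) L815193
theorem L815199 : sm gj N62303 = N61735 := ded_42_2 (flp_e L807911) (flp_j L804395) L815193
theorem L815201 : sm gh N62303 = N61743 := ded_43_2 (flp_e L807963) (flp_h L804397) L815193
theorem L815203 : sm gd N61320 = N62304 := rfl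
theorem L815205 : sm gj N62304 = N61736 := ded_37_2 (flp_d L807919) (flp_j L804405) L815203
theorem L815207 : sm gc N62304 = N62304 := ded_27_1 (flp_d L815203) L804403 L792200 (flp_c L804403) L815203
theorem L815208 : sm gh N62304 = N61739 := ded_38_2 (flp_d L807940) L796267 (flp_d L796308) (flp_h L804407) L815203
theorem L815210 : sm gf N61320 = N62305 := rfl
theorem L815212 : sm gc N62305 = N61321 := ded_29_1 (flp_f L804409) (flp_c L804403) L815210
theorem L815214 : sm gj N62305 = N61730 := ded_46_2 L807878 (flp_j L804405) L815210
theorem L815216 : sm gh N62305 = N61554 := ded_47_2 L806605 (flp_h L804407) L815210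
theorem L815218 : sm ge N62305 = N61325 := ded_40_1 (flp_f L804440) (flp_e L792207) (flp_f L792186) L804401 L815210
theorem L815220 : sm ge N61322 = N62306 := rfl
theorem L815222 : sm ga N62306 = N61323 := ded_13_1 (flp_e L804426) L804420 L815220
theorem L815224 : sm gc N62306 = N61340 := ded_28_1 (flp_e L804573) (flp_c L804422) L815220
theorem L815226 : sm gg N62306 = N61713 := ded_41_2 (flp_e L807770) (flp_g L804424) L815220
theorem L815228 : sm gd N61323 = N62307 := rfl
theorem L815230 : sm gb N62307 = N61324 := ded_20_1 (flp_d L804434) (flp_b L804428) L815228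
theorem L815232 : sm gg N62307 = N61714 := ded_36_2 (flp_d L807776) (flp_g L804432) L815228
theorem L815234 : sm gf N61323 = N62308 := rfl
theorem L815236 : sm gb N62308 = N61325 := ded_22_1 (flp_f L804440) (flp_b L804428) L815234
theorem L815238 : sm gc N62308 = N61341 := ded_29_1 (flp_f L804579) (flp_c L804430) L815234
theorem L815240 : sm gh N62308 = N61714 := ded_47_2 (flp_f L811471) L811477 L815234
theorem L815242 : sm gf N61324 = N62309 := rfl
theorem L815244 : sm gc N62309 = N61327 := ded_29_1 (flp_f L804458) (flp_c L804438) L815242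
theorem L815246 : sm gd N62309 = N61325 := ded_35_1 (flp_f L804440) L804434 L815242
theorem L815248 : sm gj N62309 = N61609 := ded_46_2 (flp_f L809240) L809242 L815242
theorem L815250 : sm gg N62309 = N61495 := ded_45_2 L806028 (flp_g L800405) L800403 (flp_g L804436) L815242
theorem L815252 : sm gh N61491 = N62309 := ded_32_0 L815244 L804466 L805988
theorem L815254 : sm gh N61324 = N62310 := rfl
theorem L815256 : sm gc N62310 = N61326 := ded_32_1 L804452 (flp_c L804438) L815254
theorem L815258 : sm gf N62310 = N61491 := ded_47_1 L815252 (flp_f L815242) L815254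
theorem L815260 : sm gg N62310 = N61325 := ded_50_1 L804444 (flp_g L804436) L815254
theorem L815262 : sm gj N62310 = N61498 := ded_52_1 (flp_h L809238) L809242 L815254
theorem L815264 : sm gd N62310 = N61495 := ded_38_1 (flp_h L806024) (flp_d L800413) L800409 L804434 L815254
theorem L815266 : sm ge N61327 = N62311 := rfl
theorem L815268 : sm gb N62311 = N61488 := ded_21_1 L805962 (flp_b L804460) L815266
theorem L815270 : sm gg N62311 = N61388 := ded_41_2 L805066 (flp_g L804468) L815266
theorem L815272 : sm gj N62311 = N61385 := ded_42_2 L805034 (flp_j L804464) L815266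
theorem L815274 : sm gh N62311 = N61383 := ded_43_2 L805018 (flp_h L804466) L815266
theorem L815276 : sm gd N62311 = N62311 := ded_34_1 (flp_e L815266) L804462 L792235 (flp_d L804462) L815266
theorem L815277 : sm ga N61328 = N62312 := rfl
theorem L815279 : sm gc N62312 = N61742 := ded_11_2 (flp_a L807955) (flp_c L804482) L815277
theorem L815281 : sm gd N62312 = N61369 := ded_12_2 (flp_a L804854) (flp_d L804472) L815277
theorem L815283 : sm gf N62312 = N61331 := ded_14_2 (flp_a L804510) (flp_f L804474) L815277
theorem L815285 : sm gj N62312 = N61613 := ded_16_2 (flp_a L807067) (flp_j L804476) L815277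
theorem L815287 : sm gh N62312 = N61335 := ded_17_2 (flp_a L804547) (flp_h L804478) L815277
theorem L815289 : sm gi N62312 = N61709 := ded_18_2 (flp_a L807740) (flp_i L804480) L815277
theorem L815291 : sm gb N62312 = N61595 := ded_10_2 (flp_a L806920) (flp_b L794946) (flp_a L792253) L804470 L815277
theorem L815293 : sm ge N61328 = N62313 := rfl
theorem L815295 : sm gb N62313 = N61329 := ded_21_1 (flp_e L804484) L804470 L815293
theorem L815297 : sm gc N62313 = N61743 := ded_28_1 (flp_e L807963) (flp_c L804482) L815293
theorem L815299 : sm gj N62313 = N61614 := ded_42_2 (flp_e L807081) (flp_j L804476) L815293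
theorem L815301 : sm gh N62313 = N61336 := ded_43_2 (flp_e L804553) (flp_h L804478) L815293
theorem L815303 : sm gi N62313 = N61710 := ded_44_2 (flp_e L807748) (flp_i L804480) L815293
theorem L815305 : sm ga N61330 = N62314 := rfl
theorem L815307 : sm gc N62314 = N61469 := ded_11_2 (flp_a L805802) (flp_c L804508) L815305
theorem L815309 : sm gd N62314 = N61370 := ded_12_2 (flp_a L804864) (flp_d L804498) L815305
theorem L815311 : sm gf N62314 = N61709 := ded_14_2 (flp_a L807740) (flp_f L804500) L815305
theorem L815313 : sm gg N62314 = N61715 := ded_15_2 (flp_a L807780) (flp_g L804502) L815305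
theorem L815315 : sm gj N62314 = N61443 := ded_16_2 (flp_a L805578) (flp_j L804504) L815305
theorem L815317 : sm gi N62314 = N61331 := ded_18_2 (flp_a L804510) (flp_i L804506) L815305
theorem L815319 : sm gb N62314 = N61567 := ded_10_2 (flp_a L806713) (flp_b L794710) (flp_a L792281) L804496 L815305
theorem L815321 : sm ga N61332 = N62315 := rfl
theorem L815323 : sm gd N62315 = N61343 := ded_12_2 (flp_a L804591) (flp_d L804524) L815321
theorem L815325 : sm gf N62315 = N61562 := ded_14_2 (flp_a L806669) (flp_f L804526) L815321
theorem L815327 : sm gg N62315 = N61335 := ded_15_2 (flp_a L804547) (flp_g L804528) L815321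
theorem L815329 : sm gi N62315 = N61586 := ded_18_2 (flp_a L806872) (flp_i L804530) L815321
theorem L815331 : sm ge N61332 = N62316 := rfl
theorem L815333 : sm gb N62316 = N61333 := ded_21_1 (flp_e L804532) L804522 L815331
theorem L815335 : sm gg N62316 = N61336 := ded_41_2 (flp_e L804553) (flp_g L804528) L815331
theorem L815337 : sm gi N62316 = N61587 := ded_44_2 (flp_e L806878) (flp_i L804530) L815331
theorem L815339 : sm gd N61333 = N62317 := rfl
theorem L815341 : sm gg N62317 = N61337 := ded_36_2 (flp_d L804557) (flp_g L804536) L815339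
theorem L815343 : sm gi N62317 = N61588 := ded_39_2 (flp_d L806882) (flp_i L804538) L815339
theorem L815345 : sm gc N62317 = N62317 := ded_27_1 (flp_d L815339) L804534 L792319 (flp_c L804534) L815339
theorem L815346 : sm ge N62317 = N61345 := ded_34_2 (flp_d L804615) (flp_e L792369) (flp_d L792311) L804532 L815339
theorem L815348 : sm gf N61333 = N62318 := rfl
theorem L815350 : sm gc N62318 = N61334 := ded_29_1 (flp_f L804540) (flp_c L804534) L815348
theorem L815352 : sm gi N62318 = N61589 := ded_48_2 (flp_f L806887) (flp_i L804538) L815348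
theorem L815354 : sm ge N62318 = N61564 := ded_40_1 (flp_f L806687) (flp_e L794667) (flp_f L792305) L804532 L815348
theorem L815356 : sm gg N61334 = N62319 := rfl
theorem L815358 : sm gd N62319 = N62319 := ded_36_1 (flp_g L815356) L804542 L815356
theorem L815359 : sm ge N62319 = N61487 := ded_41_1 L805958 (flp_e L804545) L815356
theorem L815361 : sm gi N62319 = N61500 := ded_51_2 L806072 (flp_i L804543) L815356
theorem L815363 : sm gf N62319 = N61339 := ded_45_1 (flp_g L804568) (flp_f L792330) (flp_g L792315) L804540 L815356
theorem L815365 : sm ge N61335 = N62320 := rfl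
theorem L815367 : sm ga N62320 = N61336 := ded_13_1 (flp_e L804553) L804547 L815365
theorem L815369 : sm gd N61336 = N62321 := rfl
theorem L815371 : sm gb N62321 = N61337 := ded_20_1 (flp_d L804557) (flp_b L804555) L815369
theorem L815373 : sm ge N62321 = N61347 := ded_34_2 (flp_d L804628) (flp_e L792385) (flp_d L792322) L804553 L815369
theorem L815375 : sm gf N61336 = N62322 := rfl
theorem L815377 : sm gb N62322 = N61338 := ded_22_1 (flp_f L804562) (flp_b L804555) L815375
theorem L815379 : sm ge N62322 = N61341 := ded_40_1 (flp_f L804579) (flp_e L792341) (flp_f L792324) L804553 L815375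
theorem L815381 : sm gf N61337 = N62323 := rfl
theorem L815383 : sm gc N62323 = N62323 := ded_29_1 (flp_f L815381) L804559 L815381
theorem L815384 : sm gd N62323 = N61338 := ded_35_1 (flp_f L804562) L804557 L815381
theorem L815386 : sm ge N62323 = N61594 := ded_40_1 L813416 L813412 L803222 (flp_e L804560) L815381
theorem L815388 : sm gh N61588 = N62323 := ded_38_0 L815384 L809168 (flp_d L809154) L797649 L806882
theorem L815390 : sm gh N61337 = N62324 := rfl
theorem L815392 : sm gc N62324 = N62324 := ded_32_1 (flp_h L815390) L804559 L815390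
theorem L815393 : sm ge N62324 = N61348 := ded_43_1 (flp_h L804632) (flp_e L804560) L815390
theorem L815395 : sm gf N62324 = N61588 := ded_47_1 L815388 (flp_f L815381) L815390
theorem L815397 : sm gd N62324 = N61589 := ded_38_1 (flp_h L809180) L809176 L804492 L804557 L815390
theorem L815399 : sm gg N61338 = N62325 := rfl
theorem L815401 : sm gc N62325 = N61339 := ded_30_1 (flp_g L804568) (flp_c L804564) L815399
theorem L815403 : sm ge N62325 = N61342 := ded_41_1 (flp_g L804583) (flp_e L804566) L815399
theorem L815405 : sm gf N61340 = N62326 := rfl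
theorem L815407 : sm ga N62326 = N61341 := ded_14_1 (flp_f L804579) (flp_a L804575) L815405
theorem L815409 : sm gg N61341 = N62327 := rfl
theorem L815411 : sm gb N62327 = N61342 := ded_23_1 (flp_g L804583) (flp_b L804581) L815409
theorem L815413 : sm gd N62327 = N61433 := ded_36_1 (flp_g L814199) L814195 L815409
theorem L815415 : sm gf N62327 = N61432 := ded_45_1 L805499 L793237 (flp_g L792345) L804579 L815409
theorem L815417 : sm ge N61343 = N62328 := rfl
theorem L815419 : sm ga N62328 = N61344 := ded_13_1 (flp_e L804603) L804591 L815417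
theorem L815421 : sm gc N62328 = N61721 := ded_28_1 (flp_e L807819) (flp_c L804593) L815417
theorem L815423 : sm gg N62328 = N61346 := ded_41_2 (flp_e L804622) (flp_g L804597) L815417
theorem L815425 : sm gh N62328 = N61376 := ded_43_2 (flp_e L804934) (flp_h L804599) L815417
theorem L815427 : sm gi N62328 = N61592 := ded_44_2 (flp_e L806907) (flp_i L804601) L815417
theorem L815429 : sm gd N61344 = N62329 := rfl
theorem L815431 : sm gb N62329 = N61345 := ded_20_1 (flp_d L804615) (flp_b L804605) L815429
theorem L815433 : sm gg N62329 = N61347 := ded_36_2 (flp_d L804628) (flp_g L804609) L815429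
theorem L815435 : sm gi N62329 = N61593 := ded_39_2 (flp_d L806913) (flp_i L804613) L815429
theorem L815437 : sm gh N61345 = N62330 := rfl
theorem L815439 : sm gc N62330 = N62330 := ded_32_1 (flp_h L815437) L804621 L815437
theorem L815440 : sm gf N62330 = N61577 := ded_47_1 (flp_h L809987) L809976 L815437
theorem L815442 : sm gg N62330 = N61348 := ded_50_1 (flp_h L804632) (flp_g L804617) L815437
theorem L815444 : sm gd N62330 = N61378 := ded_38_1 (flp_h L804956) (flp_d L792711) (flp_h L792375) L804615 L815437
theorem L815446 : sm gd N61346 = N62331 := rfl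
theorem L815448 : sm ga N62331 = N61347 := ded_12_1 (flp_d L804628) (flp_a L804624) L815446
theorem L815450 : sm gc N61347 = N62332 := rfl
theorem L815452 : sm gb N62332 = N62332 := ded_19_1 (flp_c L815450) L804630 L792393 (flp_b L804630) L815450
theorem L815453 : sm gh N61347 = N62333 := rfl
theorem L815455 : sm gb N62333 = N61348 := ded_25_1 (flp_h L804632) (flp_b L804630) L815453
theorem L815457 : sm gf N62333 = N61630 := ded_47_1 (flp_h L814217) L814215 L815453

end Cfsg.Agent.Helper28.FicA
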