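import Cfsg.Agent.Helper28.FicB47

/-! # The Fi₂₃ presentation, cosets of the subgroup generated by a, …, i: the coset enumeration, part 48 (helper28; generated) -/

set_option autoImplicit false

noncomputable section

namespace Cfsg.Agent.Helper28.FicA

open Cfsg.Agent.Helper28.CosetTable

theorem L815459 : sm gd N62333 = N61381 := ded_38_1 (flp_h L804990) (flp_d L792729) (flp_h L792389) L804628 L815453
theorem L815461 : sm gi N61348 = N62334 := rfl
theorem L815463 : sm gc N62334 = N62334 := ded_33_1 (flp_i L815461) L804634 L815461
theorem L815464 : sm gd N62334 = N61382 := ded_39_1 (flp_i L804998) (flp_d L804637) L815461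
theorem L815466 : sm gf N62334 = N61628 := ded_48_1 L807195 (flp_f L804635) L815461
theorem L815468 : sm ga N61350 = N62335 := rfl
theorem L815470 : sm gd N62335 = N61575 := ded_12_2 (flp_a L806792) (flp_d L804657) L815468
theorem L815472 : sm gf N62335 = N61360 := ded_14_2 (flp_a L804766) (flp_f L804659) L815468
theorem L815474 : sm gg N62335 = N61352 := ded_15_2 (flp_a L804677) (flp_g L804661) L815468
theorem L815476 : sm gh N62335 = N61723 := ded_17_2 (flp_a L807831) (flp_h L804663) L815468
theorem L815478 : sm gi N62335 = N61402 := ded_18_2 (flp_a L805232) (flp_i L804665) L815468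
theorem L815480 : sm ge N61350 = N62336 := rfl
theorem L815482 : sm gb N62336 = N61351 := ded_21_1 (flp_e L804667) L804655 L815480
theorem L815484 : sm gg N62336 = N61353 := ded_41_2 (flp_e L804685) (flp_g L804661) L815480
theorem L815486 : sm gh N62336 = N61724 := ded_43_2 (flp_e L807835) (flp_h L804663) L815480
theorem L815488 : sm gi N62336 = N61403 := ded_44_2 (flp_e L805238) (flp_i L804665) L815480
theorem L815490 : sm gd N61351 = N62337 := rfl
theorem L815492 : sm gg N62337 = N61354 := ded_36_2 (flp_d L804693) (flp_g L804671) L815490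
theorem L815494 : sm gi N62337 = N61404 := ded_39_2 (flp_d L805244) (flp_i L804675) L815490
theorem L815496 : sm gc N62337 = N62337 := ded_27_1 (flp_d L815490) L804669 L792428 (flp_c L804669) L815490
theorem L815497 : sm ge N62337 = N61577 := ded_34_2 (flp_d L806806) (flp_e L794795) (flp_d L792418) L804667 L815490
theorem L815499 : sm gh N62337 = N61628 := ded_38_2 (flp_d L807193) (flp_h L803432) L803422 (flp_h L804673) L815490
theorem L815501 : sm ge N61352 = N62338 := rfl
theorem L815503 : sm ga N62338 = N61353 := ded_13_1 (flp_e L804685) L804677 L815501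
theorem L815505 : sm gj N62338 = N61721 := ded_42_2 (flp_e L807819) (flp_j L804681) L815501
theorem L815507 : sm gi N62338 = N61405 := ded_44_2 (flp_e L805249) (flp_i L804683) L815501
theorem L815509 : sm gd N61353 = N62339 := rfl
theorem L815511 : sm gb N62339 = N61354 := ded_20_1 (flp_d L804693) (flp_b L804687) L815509
theorem L815513 : sm gj N62339 = N61722 := ded_37_2 (flp_d L807825) (flp_j L804689) L815509
theorem L815515 : sm gi N62339 = N61406 := ded_39_2 (flp_d L805255) (flp_i L804691) L815509
theorem L815517 : sm gh N61354 = N62340 := rfl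
theorem L815519 : sm ga N62340 = N61720 := ded_17_1 (flp_h L814581) L814570 L815517
theorem L815521 : sm gc N62340 = N62340 := ded_32_1 (flp_h L815517) L804699 L815517
theorem L815522 : sm ge N62340 = N61702 := ded_43_1 (flp_h L810961) L810959 L815517
theorem L815524 : sm gf N62340 = N61398 := ded_47_1 (flp_h L814262) L814253 L815517
theorem L815526 : sm gg N62340 = N61628 := ded_50_1 (flp_h L815499) L815492 L815517
theorem L815528 : sm gj N62340 = N61442 := ded_52_1 L805576 (flp_j L804695) L815517
theorem L815530 : sm gd N62340 = N61399 := ded_38_1 L805190 (flp_d L799658) L799654 L804693 L815517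
theorem L815532 : sm gi N62340 = N61625 := ded_54_2 (flp_h L809900) L809895 (flp_h L805261) (flp_i L804697) L815517
theorem L815534 : sm ga N61356 = N62341 := rfl
theorem L815536 : sm gc N62341 = N61580 := ded_11_2 (flp_a L806833) (flp_c L804728) L815534
theorem L815538 : sm gd N62341 = N61360 := ded_12_2 (flp_a L804766) (flp_d L804716) L815534
theorem L815540 : sm gf N62341 = N61575 := ded_14_2 (flp_a L806792) (flp_f L804718) L815534
theorem L815542 : sm gg N62341 = N61357 := ded_15_2 (flp_a L804730) (flp_g L804720) L815534
theorem L815544 : sm gj N62341 = N61711 := ded_16_2 (flp_a L807756) (flp_j L804722) L815534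
theorem L815546 : sm gh N62341 = N61578 := ded_17_2 (flp_a L806809) (flp_h L804724) L815534
theorem L815548 : sm gi N62341 = N61421 := ded_18_2 (flp_a L805407) (flp_i L804726) L815534
theorem L815550 : sm gb N62341 = N61756 := ded_10_2 L808058 L796449 (flp_a L792467) L804714 L815534
theorem L815552 : sm ga N61358 = N62342 := rfl
theorem L815554 : sm gc N62342 = N61723 := ded_11_2 (flp_a L807831) (flp_c L804754) L815552
theorem L815556 : sm gd N62342 = N61711 := ded_12_2 (flp_a L807756) (flp_d L804746) L815552
theorem L815558 : sm gg N62342 = N61373 := ded_15_2 (flp_a L804904) (flp_g L804748) L815552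
theorem L815560 : sm gj N62342 = N61360 := ded_16_2 (flp_a L804766) (flp_j L804750) L815552
theorem L815562 : sm gi N62342 = N61428 := ded_18_2 (flp_a L805465) (flp_i L804752) L815552
theorem L815564 : sm ge N61358 = N62343 := rfl
theorem L815566 : sm gb N62343 = N61359 := ded_21_1 (flp_e L804756) L804744 L815564
theorem L815568 : sm gc N62343 = N61724 := ded_28_1 (flp_e L807835) (flp_c L804754) L815564
theorem L815570 : sm gg N62343 = N61374 := ded_41_2 (flp_e L804912) (flp_g L804748) L815564
theorem L815572 : sm gj N62343 = N61361 := ded_42_2 (flp_e L804772) (flp_j L804750) L815564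
theorem L815574 : sm gi N62343 = N61429 := ded_44_2 (flp_e L805471) (flp_i L804752) L815564
theorem L815576 : sm gd N61359 = N62344 := rfl
theorem L815578 : sm gg N62344 = N61375 := ded_36_2 (flp_d L804922) (flp_g L804760) L815576
theorem L815580 : sm gj N62344 = N61362 := ded_37_2 (flp_d L804780) (flp_j L804762) L815576
theorem L815582 : sm gi N62344 = N61430 := ded_39_2 (flp_d L805481) (flp_i L804764) L815576
theorem L815584 : sm gc N62344 = N61383 := ded_27_1 (flp_d L805008) L792751 (flp_d L792527) (flp_c L804758) L815576
theorem L815586 : sm ge N62344 = N61491 := ded_34_2 L805994 (flp_e L796058) (flp_d L792515) L804756 L815576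
theorem L815588 : sm ge N61360 = N62345 := rfl
theorem L815590 : sm ga N62345 = N61361 := ded_13_1 (flp_e L804772) L804766 L815588
theorem L815592 : sm gg N62345 = N61364 := ded_41_2 (flp_e L804796) (flp_g L804768) L815588
theorem L815594 : sm gi N62345 = N61431 := ded_44_2 (flp_e L805489) (flp_i L804770) L815588
theorem L815596 : sm gd N61361 = N62346 := rfl
theorem L815598 : sm gb N62346 = N61362 := ded_20_1 (flp_d L804780) (flp_b L804774) L815596
theorem L815600 : sm gg N62346 = N61365 := ded_36_2 (flp_d L804804) (flp_g L804776) L815596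
theorem L815602 : sm gi N62346 = N61432 := ded_39_2 (flp_d L805495) (flp_i L804778) L815596
theorem L815604 : sm ge N62346 = N61612 := ded_34_2 (flp_d L811623) L811625 L804716 L804772 L815596
theorem L815606 : sm gf N61361 = N62347 := rfl
theorem L815608 : sm gb N62347 = N61363 := ded_22_1 (flp_f L804790) (flp_b L804774) L815606
theorem L815610 : sm gi N62347 = N61433 := ded_48_2 (flp_f L805501) (flp_i L804778) L815606
theorem L815612 : sm gh N61362 = N62348 := rfl
theorem L815614 : sm gc N62348 = N61385 := ded_32_1 (flp_h L805032) (flp_c L804786) L815612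
theorem L815616 : sm ge N62348 = N61609 := ded_43_1 L807047 (flp_e L804788) L815612
theorem L815618 : sm gg N62348 = N61366 := ded_50_1 (flp_h L804816) (flp_g L804782) L815612
theorem L815620 : sm gd N61364 = N62349 := rfl
theorem L815622 : sm ga N62349 = N61365 := ded_12_1 (flp_d L804804) (flp_a L804798) L815620
theorem L815624 : sm gf N62349 = N61610 := ded_35_2 (flp_d L814274) L814276 L815620
theorem L815626 : sm gj N62349 = N61379 := ded_37_2 (flp_d L804966) (flp_j L804800) L815620
theorem L815628 : sm gi N62349 = N61435 := ded_39_2 (flp_d L805511) (flp_i L804802) L815620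
theorem L815630 : sm ge N62349 = N61611 := ded_34_2 (flp_d L811607) L811615 L804732 L804796 L815620
theorem L815632 : sm gc N61365 = N62350 := rfl
theorem L815634 : sm ge N62350 = N61479 := ded_28_2 (flp_c L805900) (flp_e L804814) L815632
theorem L815636 : sm gf N62350 = N61596 := ded_29_2 L806936 (flp_f L804808) L815632
theorem L815638 : sm gj N62350 = N61380 := ded_31_2 (flp_c L804976) (flp_j L804810) L815632
theorem L815640 : sm gi N62350 = N61436 := ded_33_2 (flp_c L805519) (flp_i L804812) L815632
theorem L815642 : sm gb N62350 = N61386 := ded_19_1 (flp_c L805039) L792783 (flp_c L792573) (flp_b L804806) L815632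
theorem L815644 : sm gd N62350 = N61470 := ded_27_2 (flp_c L810896) (flp_d L810884) L799427 L804804 L815632
theorem L815646 : sm gh N61365 = N62351 := rfl
theorem L815648 : sm gb N62351 = N61366 := ded_25_1 (flp_h L804816) (flp_b L804806) L815646
theorem L815650 : sm ge N62351 = N61608 := ded_43_1 L807041 (flp_e L804814) L815646
theorem L815652 : sm gf N62351 = N61601 := ded_47_1 L806990 (flp_f L804808) L815646
theorem L815654 : sm gj N62351 = N61381 := ded_52_1 (flp_h L804990) (flp_j L804810) L815646
theorem L815656 : sm gi N61366 = N62352 := rfl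
theorem L815658 : sm gc N62352 = N61387 := ded_33_1 (flp_i L805051) (flp_c L804818) L815656
theorem L815660 : sm ge N62352 = N61605 := ded_44_1 L807019 (flp_e L804820) L815656
theorem L815662 : sm gf N62352 = N61599 := ded_48_1 L806972 (flp_f L804822) L815656
theorem L815664 : sm gj N62352 = N61382 := ded_53_1 (flp_i L804998) (flp_j L804824) L815656
theorem L815666 : sm gh N62352 = N61438 := ded_54_1 (flp_i L805535) (flp_h L793241) (flp_i L792571) L804816 L815656
theorem L815668 : sm ga N61368 = N62353 := rfl
theorem L815670 : sm gc N62353 = N61634 := ded_11_2 (flp_a L807226) (flp_c L804852) L815668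
theorem L815672 : sm gd N62353 = N61709 := ded_12_2 (flp_a L807740) (flp_d L804842) L815668
theorem L815674 : sm gf N62353 = N61370 := ded_14_2 (flp_a L804864) (flp_f L804844) L815668
theorem L815676 : sm gj N62353 = N61621 := ded_16_2 (flp_a L807132) (flp_j L804846) L815668
theorem L815678 : sm gh N62353 = N61455 := ded_17_2 (flp_a L805681) (flp_h L804848) L815668
theorem L815680 : sm gi N62353 = N61369 := ded_18_2 (flp_a L804854) (flp_i L804850) L815668
theorem L815682 : sm gb N62353 = N61552 := ded_10_2 (flp_a L806579) (flp_b L794576) (flp_a L792601) L804840 L815668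
theorem L815684 : sm ge N61373 = N62354 := rfl
theorem L815686 : sm ga N62354 = N61374 := ded_13_1 (flp_e L804912) L804904 L815684
theorem L815688 : sm gj N62354 = N61376 := ded_42_2 (flp_e L804934) (flp_j L804908) L815684
theorem L815690 : sm gi N62354 = N61478 := ded_44_2 (flp_e L805882) (flp_i L804910) L815684
theorem L815692 : sm gf N62354 = N61682 := ded_40_2 (flp_e L807556) (flp_f L798552) L798550 (flp_f L804906) L815684
theorem L815694 : sm gd N61374 = N62355 := rfl
theorem L815696 : sm gb N62355 = N61375 := ded_20_1 (flp_d L804922) (flp_b L804914) L815694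
theorem L815698 : sm gf N62355 = N61568 := ded_35_2 L806735 (flp_f L804920) L815694
theorem L815700 : sm gj N62355 = N61377 := ded_37_2 (flp_d L804942) (flp_j L804916) L815694
theorem L815702 : sm gi N62355 = N61479 := ded_39_2 (flp_d L805892) (flp_i L804918) L815694
theorem L815704 : sm gc N62355 = N61426 := ded_27_1 (flp_d L805443) (flp_c L805300) (flp_d L811137) L811127 L815694
theorem L815706 : sm ge N62355 = N61436 := ded_34_2 (flp_d L811483) L811469 L804377 L804912 L815694
theorem L815708 : sm gh N61375 = N62356 := rfl
theorem L815710 : sm gc N62356 = N61388 := ded_32_1 (flp_h L805062) (flp_c L804930) L815708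
theorem L815712 : sm ge N62356 = N61495 := ded_43_1 (flp_h L806024) (flp_e L804932) L815708
theorem L815714 : sm gf N62356 = N61566 := ded_47_1 L806711 (flp_f L804924) L815708
theorem L815716 : sm gj N62356 = N61378 := ded_52_1 (flp_h L804956) (flp_j L804926) L815708
theorem L815718 : sm gd N61376 = N62357 := rfl
theorem L815720 : sm ga N62357 = N61377 := ded_12_1 (flp_d L804942) (flp_a L804936) L815718
theorem L815722 : sm gf N62357 = N61579 := ded_35_2 (flp_d L810072) L810074 L815718
theorem L815724 : sm gg N62357 = N61379 := ded_36_2 (flp_d L804966) (flp_g L804938) L815718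
theorem L815726 : sm gi N62357 = N61480 := ded_39_2 (flp_d L805902) (flp_i L804940) L815718
theorem L815728 : sm gc N62357 = N61474 := ded_27_1 (flp_d L805842) (flp_c L805596) (flp_d L811155) L811147 L815718
theorem L815730 : sm ge N62357 = N61483 := ded_34_2 (flp_d L811695) L811687 L804882 L804934 L815718
theorem L815732 : sm gh N61377 = N62358 := rfl
theorem L815734 : sm gb N62358 = N61378 := ded_25_1 (flp_h L804956) (flp_b L804944) L815732
theorem L815736 : sm gc N62358 = N61476 := ded_32_1 (flp_h L805864) (flp_c L804952) L815732
theorem L815738 : sm ge N62358 = N61485 := ded_43_1 (flp_h L805940) (flp_e L804954) L815732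
theorem L815740 : sm gf N62358 = N61576 := ded_47_1 L806804 (flp_f L804946) L815732
theorem L815742 : sm gg N62358 = N61381 := ded_50_1 (flp_h L804990) (flp_g L804948) L815732
theorem L815744 : sm gi N61378 = N62359 := rfl
theorem L815746 : sm gc N62359 = N61389 := ded_33_1 (flp_i L805073) (flp_c L804958) L815744
theorem L815748 : sm ge N62359 = N61424 := ded_44_1 L805433 (flp_e L804960) L815744
theorem L815750 : sm gf N62359 = N61395 := ded_48_1 L805159 (flp_f L804962) L815744
theorem L815752 : sm gg N62359 = N61382 := ded_51_1 (flp_i L804998) (flp_g L804964) L815744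
theorem L815754 : sm gh N62359 = N61482 := ded_54_1 (flp_i L805922) (flp_h L793621) (flp_i L792717) L804956 L815744
theorem L815756 : sm gc N61379 = N62360 := rfl
theorem L815758 : sm ga N62360 = N61380 := ded_11_1 (flp_c L804976) (flp_a L804968) L815756
theorem L815760 : sm ge N62360 = N61480 := ded_28_2 (flp_c L805910) (flp_e L804974) L815756
theorem L815762 : sm gf N62360 = N61622 := ded_29_2 L807150 (flp_f L804970) L815756
theorem L815764 : sm gg N62360 = N61474 := ded_30_2 (flp_c L815728) L815724 L815756
theorem L815766 : sm gi N62360 = N61483 := ded_33_2 (flp_c L805930) (flp_i L804972) L815756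
theorem L815768 : sm gd N62360 = N61472 := ded_27_2 L811171 (flp_d L811159) L799698 L804966 L815756
theorem L815770 : sm gh N61379 = N62361 := rfl
theorem L815772 : sm ga N62361 = N61381 := ded_17_1 (flp_h L804990) (flp_a L804968) L815770
theorem L815774 : sm ge N62361 = N61633 := ded_43_1 L807224 (flp_e L804974) L815770
theorem L815776 : sm gf N62361 = N61629 := ded_47_1 L807202 (flp_f L804970) L815770
theorem L815778 : sm gh N61380 = N62362 := rfl
theorem L815780 : sm gb N62362 = N61390 := ded_25_1 (flp_h L805086) (flp_b L804986) L815778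
theorem L815782 : sm gc N62362 = N61381 := ded_32_1 (flp_h L804990) L804976 L815778
theorem L815784 : sm ge N62362 = N61481 := ded_43_1 (flp_h L805912) (flp_e L804978) L815778
theorem L815786 : sm gf N62362 = N61616 := ded_47_1 L807105 (flp_f L804980) L815778
theorem L815788 : sm gg N62362 = N61476 := ded_50_1 (flp_h L805864) (flp_g L804982) L815778
theorem L815790 : sm gi N61381 = N62363 := rfl
theorem L815792 : sm gb N62363 = N61382 := ded_26_1 (flp_i L804998) (flp_b L804992) L815790
theorem L815794 : sm ge N62363 = N61632 := ded_44_1 L807218 (flp_e L804994) L815790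
theorem L815796 : sm gf N62363 = N61627 := ded_48_1 L807191 (flp_f L804996) L815790
theorem L815798 : sm gh N62363 = N61486 := ded_54_1 (flp_i L805948) (flp_h L793639) (flp_i L792735) L804990 L815790
theorem L815800 : sm gc N61384 = N62364 := rfl
theorem L815802 : sm ge N62364 = N61430 := ded_28_2 L805487 (flp_e L805030) L815800
theorem L815804 : sm gg N62364 = N61386 := ded_30_2 (flp_c L805039) (flp_g L805024) L815800
theorem L815806 : sm gj N62364 = N61423 := ded_31_2 L805425 (flp_j L805026) L815800
theorem L815808 : sm gi N62364 = N61491 := ded_33_2 (flp_c L805988) (flp_i L805028) L815800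
theorem L815810 : sm gd N62364 = N61419 := ded_27_2 L805389 L793129 (flp_c L792764) L805020 L815800
theorem L815812 : sm gi N61385 = N62365 := rfl
theorem L815814 : sm gd N62365 = N62365 := ded_39_1 (flp_i L815812) L805038 L815812
theorem L815815 : sm ge N62365 = N61606 := ded_44_1 L807025 (flp_e L805034) L815812
theorem L815817 : sm gg N62365 = N61387 := ded_51_1 (flp_i L805051) (flp_g L805036) L815812
theorem L815819 : sm gh N62365 = N61492 := ded_54_1 (flp_i L805996) (flp_h L793714) (flp_i L792777) L805032 L815812
theorem L815821 : sm gd N61390 = N62366 := rfl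
theorem L815823 : sm gf N62366 = N61617 := ded_35_2 (flp_d L807107) (flp_f L805092) L815821
theorem L815825 : sm gg N62366 = N61462 := ded_36_2 L805732 (flp_g L805094) L815821
theorem L815827 : sm gc N62366 = N62366 := ded_27_1 (flp_d L815821) L805088 L792847 (flp_c L805088) L815821
theorem L815828 : sm gh N62366 = N61453 := ded_38_2 (flp_d L805668) L793377 (flp_d L792835) L805086 L815821
theorem L815830 : sm gi N61390 = N62367 := rfl
theorem L815832 : sm gc N62367 = N61391 := ded_33_1 (flp_i L805096) (flp_c L805088) L815830
theorem L815834 : sm ge N62367 = N61482 := ded_44_1 (flp_i L805922) (flp_e L805090) L815830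
theorem L815836 : sm gf N62367 = N61412 := ded_48_1 L805324 (flp_f L805092) L815830
theorem L815838 : sm gg N62367 = N61477 := ded_51_1 (flp_i L805872) (flp_g L805094) L815830
theorem L815840 : sm gh N62367 = N61424 := ded_54_1 L805433 (flp_h L793795) (flp_i L792833) L805086 L815830
theorem L815842 : sm ga N61394 = N62368 := rfl
theorem L815844 : sm gc N62368 = N61581 := ded_11_2 (flp_a L806843) (flp_c L805149) L815842
theorem L815846 : sm gd N62368 = N61402 := ded_12_2 (flp_a L805232) (flp_d L805139) L815842
theorem L815848 : sm gf N62368 = N61421 := ded_14_2 (flp_a L805407) (flp_f L805141) L815842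
theorem L815850 : sm gg N62368 = N61396 := ded_15_2 (flp_a L805161) (flp_g L805143) L815842
theorem L815852 : sm gh N62368 = N61618 := ded_17_2 (flp_a L807110) (flp_h L805145) L815842
theorem L815854 : sm gi N62368 = N61575 := ded_18_2 (flp_a L806792) (flp_i L805147) L815842
theorem L815856 : sm ge N61394 = N62369 := rfl
theorem L815858 : sm gb N62369 = N61395 := ded_21_1 (flp_e L805151) L805137 L815856
theorem L815860 : sm gc N62369 = N61582 := ded_28_1 (flp_e L806849) (flp_c L805149) L815856
theorem L815862 : sm gg N62369 = N61397 := ded_41_2 (flp_e L805169) (flp_g L805143) L815856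
theorem L815864 : sm gh N62369 = N61619 := ded_43_2 (flp_e L807116) (flp_h L805145) L815856
theorem L815866 : sm gi N62369 = N61576 := ded_44_2 (flp_e L806798) (flp_i L805147) L815856
theorem L815868 : sm gd N61395 = N62370 := rfl
theorem L815870 : sm gg N62370 = N61398 := ded_36_2 (flp_d L805175) (flp_g L805155) L815868
theorem L815872 : sm gi N62370 = N61577 := ded_39_2 (flp_d L806806) (flp_i L805159) L815868
theorem L815874 : sm gc N62370 = N62370 := ded_27_1 (flp_d L815868) L805153 L792905 (flp_c L805153) L815868
theorem L815875 : sm ge N62370 = N61404 := ded_34_2 (flp_d L805244) (flp_e L792983) (flp_d L792893) L805151 L815868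
theorem L815877 : sm ge N61396 = N62371 := rfl
theorem L815879 : sm ga N62371 = N61397 := ded_13_1 (flp_e L805169) L805161 L815877
theorem L815881 : sm gj N62371 = N61745 := ded_42_2 (flp_e L807981) (flp_j L805167) L815877
theorem L815883 : sm gd N61397 = N62372 := rfl
theorem L815885 : sm gb N62372 = N61398 := ded_20_1 (flp_d L805175) (flp_b L805171) L815883
theorem L815887 : sm gj N62372 = N61746 := ded_37_2 (flp_d L807985) (flp_j L805173) L815883
theorem L815889 : sm ge N62372 = N61406 := ded_34_2 (flp_d L805255) (flp_e L792995) (flp_d L792908) L805169 L815883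
theorem L815891 : sm gf N61397 = N62373 := rfl
theorem L815893 : sm gb N62373 = N61399 := ded_22_1 (flp_f L805182) (flp_b L805171) L815891
theorem L815895 : sm gc N62373 = N61415 := ded_29_1 (flp_f L811029) L811019 L815891
theorem L815897 : sm gj N62373 = N61441 := ded_46_2 L805569 (flp_j L805173) L815891
theorem L815899 : sm gh N62373 = N61410 := ded_47_2 (flp_f L811553) L811547 L815891
theorem L815901 : sm gi N62373 = N61624 := ded_48_2 (flp_f L810944) L810942 L815891
theorem L815903 : sm ge N62373 = N61401 := ded_40_1 (flp_f L805216) (flp_e L792945) (flp_f L792910) L805169 L815891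
theorem L815905 : sm gg N61627 = N62373 := ded_23_0 L815893 (flp_g L805196) (flp_b L807189)
theorem L815907 : sm gf N61400 = N62374 := rfl
theorem L815909 : sm ga N62374 = N61401 := ded_14_1 (flp_f L805216) (flp_a L805200) L815907
theorem L815911 : sm gb N62374 = N61718 := ded_22_1 L807802 (flp_b L805202) L815907
theorem L815913 : sm gc N62374 = N61414 := ded_29_1 L805342 (flp_c L805204) L815907
theorem L815915 : sm gd N62374 = N61700 := ded_35_1 L807683 (flp_d L805214) L815907
theorem L815917 : sm gj N62374 = N61440 := ded_46_2 L805557 (flp_j L805208) L815907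
theorem L815919 : sm gh N62374 = N61409 := ded_47_2 L805292 (flp_h L805210) L815907
theorem L815921 : sm gi N62374 = N61623 := ded_48_2 L807156 (flp_i L805212) L815907
theorem L815923 : sm gg N62374 = N61626 := ded_45_2 L807183 (flp_g L800203) L800201 (flp_g L805206) L815907
theorem L815925 : sm ge N61402 = N62375 := rfl
theorem L815927 : sm ga N62375 = N61403 := ded_13_1 (flp_e L805238) L805232 L815925
theorem L815929 : sm gg N62375 = N61405 := ded_41_2 (flp_e L805249) (flp_g L805236) L815925
theorem L815931 : sm gd N61403 = N62376 := rfl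
theorem L815933 : sm gb N62376 = N61404 := ded_20_1 (flp_d L805244) (flp_b L805240) L815931
theorem L815935 : sm gg N62376 = N61406 := ded_36_2 (flp_d L805255) (flp_g L805242) L815931
theorem L815937 : sm gd N61405 = N62377 := rfl
theorem L815939 : sm ga N62377 = N61406 := ded_12_1 (flp_d L805255) (flp_a L805251) L815937
theorem L815941 : sm gj N62377 = N61749 := ded_37_2 (flp_d L808003) (flp_j L805253) L815937
theorem L815943 : sm gc N61406 = N62378 := rfl
theorem L815945 : sm gj N62378 = N61750 := ded_31_2 (flp_c L808007) (flp_j L805259) L815943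
theorem L815947 : sm gb N62378 = N62378 := ded_19_1 (flp_c L815943) L805257 L793005 (flp_b L805257) L815943
theorem L815948 : sm gh N61406 = N62379 := rfl
theorem L815950 : sm gb N62379 = N61407 := ded_25_1 (flp_h L805261) (flp_b L805257) L815948
theorem L815952 : sm gf N62379 = N61708 := ded_47_1 (flp_h L814298) L814294 L815948
theorem L815954 : sm gj N62379 = N61751 := ded_52_1 (flp_h L808010) (flp_j L805259) L815948
theorem L815956 : sm gd N62379 = N61685 := ded_38_1 (flp_h L812193) L812197 L802446 L805255 L815948
theorem L815958 : sm ge N61409 = N62380 := rfl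
theorem L815960 : sm ga N62380 = N61410 := ded_13_1 (flp_e L805296) L805286 L815958
theorem L815962 : sm gc N62380 = N61425 := ded_28_1 (flp_e L805437) (flp_c L805288) L815958
theorem L815964 : sm gj N62380 = N61444 := ded_42_2 (flp_e L805592) (flp_j L805294) L815958
theorem L815966 : sm ga N61411 = N62381 := rfl
theorem L815968 : sm gc N62381 = N61626 := ded_11_2 (flp_a L807181) (flp_c L805314) L815966
theorem L815970 : sm gf N62381 = N61618 := ded_14_2 (flp_a L807110) (flp_f L805306) L815966
theorem L815972 : sm gg N62381 = N61414 := ded_15_2 (flp_a L805340) (flp_g L805308) L815966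
theorem L815974 : sm gh N62381 = N61421 := ded_17_2 (flp_a L805407) (flp_h L805310) L815966
theorem L815976 : sm gi N62381 = N61615 := ded_18_2 (flp_a L807091) (flp_i L805312) L815966
theorem L815978 : sm ge N61411 = N62382 := rfl
theorem L815980 : sm gb N62382 = N61412 := ded_21_1 (flp_e L805316) L805304 L815978
theorem L815982 : sm gc N62382 = N61627 := ded_28_1 (flp_e L807187) (flp_c L805314) L815978
theorem L815984 : sm gg N62382 = N61415 := ded_41_2 (flp_e L805348) (flp_g L805308) L815978
theorem L815986 : sm gh N62382 = N61422 := ded_43_2 (flp_e L805413) (flp_h L805310) L815978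
theorem L815988 : sm gi N62382 = N61616 := ded_44_2 (flp_e L807099) (flp_i L805312) L815978
theorem L815990 : sm gd N61412 = N62383 := rfl
theorem L815992 : sm gg N62383 = N61416 := ded_36_2 (flp_d L805356) (flp_g L805320) L815990
theorem L815994 : sm gi N62383 = N61617 := ded_39_2 (flp_d L807107) (flp_i L805324) L815990
theorem L815996 : sm gc N62383 = N62383 := ded_27_1 (flp_d L815990) L805318 L793060 (flp_c L805318) L815990
theorem L815997 : sm ga N61413 = N62384 := rfl
theorem L815999 : sm gc N62384 = N61623 := ded_11_2 (flp_a L807152) (flp_c L805338) L815997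
theorem L816001 : sm gf N62384 = N61417 := ded_14_2 (flp_a L805361) (flp_f L805328) L815997
theorem L816003 : sm gg N62384 = N61615 := ded_15_2 (flp_a L807091) (flp_g L805330) L815997
theorem L816005 : sm gj N62384 = N61455 := ded_16_2 (flp_a L805681) (flp_j L805332) L815997
theorem L816007 : sm gh N62384 = N61621 := ded_17_2 (flp_a L807132) (flp_h L805334) L815997
theorem L816009 : sm gi N62384 = N61414 := ded_18_2 (flp_a L805340) (flp_i L805336) L815997
theorem L816011 : sm gb N62384 = N61725 := ded_10_2 (flp_a L807839) (flp_b L796175) (flp_a L793063) L805326 L815997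
theorem L816013 : sm ge N61414 = N62385 := rfl
theorem L816015 : sm ga N62385 = N61415 := ded_13_1 (flp_e L805348) L805340 L816013
theorem L816017 : sm gj N62385 = N61458 := ded_42_2 (flp_e L805698) (flp_j L805344) L816013
theorem L816019 : sm gh N62385 = N61425 := ded_43_2 (flp_e L805437) (flp_h L805346) L816013
theorem L816021 : sm gd N61415 = N62386 := rfl
theorem L816023 : sm gb N62386 = N61416 := ded_20_1 (flp_d L805356) (flp_b L805350) L816021
theorem L816025 : sm gj N62386 = N61459 := ded_37_2 (flp_d L805704) (flp_j L805352) L816021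
theorem L816027 : sm gh N61416 = N62387 := rfl
theorem L816029 : sm gc N62387 = N62387 := ded_32_1 (flp_h L816027) L805360 L816027
theorem L816030 : sm gf N62387 = N61573 := ded_47_1 (flp_h L811046) L811035 L816027
theorem L816032 : sm gj N62387 = N61462 := ded_52_1 (flp_h L805727) (flp_j L805358) L816027
theorem L816034 : sm gd N62387 = N61427 := ded_38_1 (flp_h L805455) (flp_d L793167) (flp_h L793089) L805356 L816027
theorem L816036 : sm ga N61418 = N62388 := rfl
theorem L816038 : sm gc N62388 = N61715 := ded_11_2 (flp_a L807780) (flp_c L805385) L816036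
theorem L816040 : sm gd N62388 = N61428 := ded_12_2 (flp_a L805465) (flp_d L805377) L816036
theorem L816042 : sm gg N62388 = N61469 := ded_15_2 (flp_a L805802) (flp_g L805379) L816036
theorem L816044 : sm gj N62388 = N61421 := ded_16_2 (flp_a L805407) (flp_j L805381) L816036
theorem L816046 : sm gi N62388 = N61711 := ded_18_2 (flp_a L807756) (flp_i L805383) L816036
theorem L816048 : sm ge N61418 = N62389 := rfl
theorem L816050 : sm gb N62389 = N61419 := ded_21_1 (flp_e L805387) L805375 L816048
theorem L816052 : sm gc N62389 = N61716 := ded_28_1 (flp_e L807786) (flp_c L805385) L816048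
theorem L816054 : sm gg N62389 = N61470 := ded_41_2 (flp_e L805810) (flp_g L805379) L816048
theorem L816056 : sm gj N62389 = N61422 := ded_42_2 (flp_e L805413) (flp_j L805381) L816048
theorem L816058 : sm gi N62389 = N61712 := ded_44_2 (flp_e L807762) (flp_i L805383) L816048
theorem L816060 : sm gf N61419 = N62390 := rfl
theorem L816062 : sm gc N62390 = N61420 := ded_29_1 (flp_f L805397) (flp_c L805389) L816060
theorem L816064 : sm gj N62390 = N61424 := ded_46_2 (flp_f L805429) (flp_j L805393) L816060
theorem L816066 : sm gi N62390 = N61495 := ded_48_2 L806028 (flp_i L805395) L816060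
theorem L816068 : sm ge N61421 = N62391 := rfl
theorem L816070 : sm ga N62391 = N61422 := ded_13_1 (flp_e L805413) L805407 L816068
theorem L816072 : sm gg N62391 = N61425 := ded_41_2 (flp_e L805437) (flp_g L805411) L816068
theorem L816074 : sm gd N61422 = N62392 := rfl
theorem L816076 : sm gb N62392 = N61423 := ded_20_1 (flp_d L805419) (flp_b L805415) L816074
theorem L816078 : sm gg N62392 = N61426 := ded_36_2 (flp_d L805443) (flp_g L805417) L816074
theorem L816080 : sm gi N62392 = N61612 := ded_39_2 (flp_d L811623) L811629 L816074
theorem L816082 : sm ge N62392 = N61432 := ded_34_2 (flp_d L805495) (flp_e L793211) (flp_d L793133) L805413 L816074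
theorem L816084 : sm gf N61422 = N62393 := rfl
theorem L816086 : sm gb N62393 = N61424 := ded_22_1 (flp_f L805429) (flp_b L805415) L816084
theorem L816088 : sm gc N62393 = N61486 := ded_29_1 (flp_f L814332) L814326 L816084
theorem L816090 : sm gi N62393 = N61485 := ded_48_2 (flp_f L811631) L811629 L816084
theorem L816092 : sm gg N62393 = N61632 := ded_45_2 (flp_f L807214) (flp_g L800215) L800223 (flp_g L805417) L816084
theorem L816094 : sm gf N61423 = N62394 := rfl
theorem L816096 : sm gc N62394 = N61487 := ded_29_1 (flp_f L805952) (flp_c L805425) L816094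
theorem L816098 : sm gd N62394 = N61424 := ded_35_1 (flp_f L805429) L805419 L816094
theorem L816100 : sm gi N62394 = N61498 := ded_48_2 L806054 (flp_i L805423) L816094
theorem L816102 : sm gg N62394 = N61564 := ded_45_2 (flp_f L806687) L794671 (flp_f L793169) (flp_g L805421) L816094
theorem L816104 : sm gh N61423 = N62395 := rfl
theorem L816106 : sm gc N62395 = N61488 := ded_32_1 (flp_h L805960) (flp_c L805425) L816104
theorem L816108 : sm ge N62395 = N61434 := ded_43_1 (flp_h L805505) (flp_e L805427) L816104
theorem L816110 : sm gg N62395 = N61427 := ded_50_1 (flp_h L805455) (flp_g L805421) L816104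
theorem L816112 : sm gd N61425 = N62396 := rfl
theorem L816114 : sm ga N62396 = N61426 := ded_12_1 (flp_d L805443) (flp_a L805439) L816112
theorem L816116 : sm gf N62396 = N61574 := ded_35_2 (flp_d L811597) L811599 L816112
theorem L816118 : sm gj N62396 = N61474 := ded_37_2 (flp_d L805842) (flp_j L805441) L816112
theorem L816120 : sm gi N62396 = N61611 := ded_39_2 (flp_d L811607) L811613 L816112
theorem L816122 : sm ge N62396 = N61435 := ded_34_2 (flp_d L805511) (flp_e L793227) (flp_d L793155) L805437 L816112
theorem L816124 : sm gh N61426 = N62397 := rfl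
theorem L816126 : sm gb N62397 = N61427 := ded_25_1 (flp_h L805455) (flp_b L805445) L816124
theorem L816128 : sm ge N62397 = N61437 := ded_43_1 (flp_h L805527) (flp_e L805453) L816124
theorem L816130 : sm gf N62397 = N61572 := ded_47_1 L806775 (flp_f L805447) L816124
theorem L816132 : sm gj N62397 = N61476 := ded_52_1 (flp_h L805864) (flp_j L805449) L816124
theorem L816134 : sm gi N61427 = N62398 := rfl
theorem L816136 : sm gc N62398 = N61489 := ded_33_1 (flp_i L805967) (flp_c L805457) L816134
theorem L816138 : sm ge N62398 = N61438 := ded_44_1 (flp_i L805535) (flp_e L805459) L816134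
theorem L816140 : sm gf N62398 = N61570 := ded_48_1 L806757 (flp_f L805461) L816134
theorem L816142 : sm gj N62398 = N61477 := ded_53_1 (flp_i L805872) (flp_j L805463) L816134
theorem L816144 : sm gh N62398 = N61605 := ded_54_1 L807019 L795065 (flp_i L793173) L805455 L816134
theorem L816146 : sm ge N61428 = N62399 := rfl
theorem L816148 : sm ga N62399 = N61429 := ded_13_1 (flp_e L805471) L805465 L816146
theorem L816150 : sm gg N62399 = N61478 := ded_41_2 (flp_e L805882) (flp_g L805467) L816146
theorem L816152 : sm gj N62399 = N61431 := ded_42_2 (flp_e L805489) (flp_j L805469) L816146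
theorem L816154 : sm gh N62399 = N61683 := ded_43_2 (flp_e L812689) L812697 L816146
theorem L816156 : sm gd N61429 = N62400 := rfl
theorem L816158 : sm gb N62400 = N61430 := ded_20_1 (flp_d L805481) (flp_b L805473) L816156
theorem L816160 : sm gg N62400 = N61479 := ded_36_2 (flp_d L805892) (flp_g L805475) L816156
theorem L816162 : sm gj N62400 = N61432 := ded_37_2 (flp_d L805495) (flp_j L805477) L816156
theorem L816164 : sm gc N62400 = N61612 := ded_27_1 (flp_d L811623) L811621 (flp_d L811423) L811413 L816156
theorem L816166 : sm gd N61431 = N62401 := rfl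
theorem L816168 : sm ga N62401 = N61432 := ded_12_1 (flp_d L805495) (flp_a L805491) L816166
theorem L816170 : sm gg N62401 = N61435 := ded_36_2 (flp_d L805511) (flp_g L805493) L816166
theorem L816172 : sm gf N61431 = N62402 := rfl
theorem L816174 : sm ga N62402 = N61433 := ded_14_1 (flp_f L805501) (flp_a L805491) L816172
theorem L816176 : sm gc N61432 = N62403 := rfl
theorem L816178 : sm gg N62403 = N61436 := ded_30_2 (flp_c L805519) (flp_g L805499) L816176
theorem L816180 : sm gj N62403 = N61612 := ded_31_2 (flp_c L816164) L816162 L816176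
theorem L816182 : sm gb N62403 = N61491 := ded_19_1 (flp_c L805988) L793708 (flp_c L793221) (flp_b L805497) L816176
theorem L816184 : sm gd N62403 = N61712 := ded_27_2 L807766 (flp_d L800011) L800005 L805495 L816176
theorem L816186 : sm gh N61432 = N62404 := rfl
theorem L816188 : sm gb N62404 = N61434 := ded_25_1 (flp_h L805505) (flp_b L805497) L816186
theorem L816190 : sm gg N62404 = N61437 := ded_50_1 (flp_h L805527) (flp_g L805499) L816186
theorem L816192 : sm gi N61434 = N62405 := rfl
theorem L816194 : sm gc N62405 = N61492 := ded_33_1 (flp_i L805996) (flp_c L805507) L816192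
theorem L816196 : sm gg N62405 = N61438 := ded_51_1 (flp_i L805535) (flp_g L805509) L816192
theorem L816198 : sm gc N61435 = N62406 := rfl
theorem L816200 : sm ga N62406 = N61436 := ded_11_1 (flp_c L805519) (flp_a L805513) L816198
theorem L816202 : sm gf N62406 = N61713 := ded_29_2 L807774 (flp_f L805515) L816198
theorem L816204 : sm gj N62406 = N61483 := ded_31_2 (flp_c L805930) (flp_j L805517) L816198
theorem L816206 : sm gh N61435 = N62407 := rfl
theorem L816208 : sm ga N62407 = N61437 := ded_17_1 (flp_h L805527) (flp_a L805513) L816206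
theorem L816210 : sm gf N62407 = N61717 := ded_47_1 L807796 (flp_f L805515) L816206
theorem L816212 : sm gj N62407 = N61484 := ded_52_1 (flp_h L805936) (flp_j L805517) L816206
theorem L816214 : sm gh N61436 = N62408 := rfl
theorem L816216 : sm gb N62408 = N61495 := ded_25_1 (flp_h L806024) (flp_b L805525) L816214
theorem L816218 : sm gc N62408 = N61437 := ded_32_1 (flp_h L805527) L805519 L816214
theorem L816220 : sm gf N62408 = N61712 := ded_47_1 L807768 (flp_f L805521) L816214
theorem L816222 : sm gj N62408 = N61485 := ded_52_1 (flp_h L805940) (flp_j L805523) L816214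
theorem L816224 : sm gi N61437 = N62409 := rfl
theorem L816226 : sm gb N62409 = N61438 := ded_26_1 (flp_i L805535) (flp_b L805529) L816224
theorem L816228 : sm gf N62409 = N61716 := ded_48_1 L807790 (flp_f L805531) L816224
theorem L816230 : sm gj N62409 = N61486 := ded_53_1 (flp_i L805948) (flp_j L805533) L816224
theorem L816232 : sm ga N61439 = N62410 := rfl
theorem L816234 : sm gc N62410 = N61451 := ded_11_2 (flp_a L805652) (flp_c L805551) L816232
theorem L816236 : sm gf N62410 = N61756 := ded_14_2 L808058 (flp_f L805545) L816232
theorem L816238 : sm gg N62410 = N61440 := ded_15_2 (flp_a L805553) (flp_g L805547) L816232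
theorem L816240 : sm gh N62410 = N61443 := ded_17_2 (flp_a L805578) (flp_h L805549) L816232
theorem L816242 : sm gb N62410 = N61575 := ded_10_2 (flp_a L806792) (flp_b L794789) (flp_a L793257) L805543 L816232
theorem L816244 : sm ge N61440 = N62411 := rfl
theorem L816246 : sm ga N62411 = N61441 := ded_13_1 (flp_e L805561) L805553 L816244
theorem L816248 : sm gc N62411 = N61458 := ded_28_1 (flp_e L805698) (flp_c L805555) L816244
theorem L816250 : sm gh N62411 = N61444 := ded_43_2 (flp_e L805592) (flp_h L805559) L816244
theorem L816252 : sm gf N62411 = N61745 := ded_40_2 (flp_e L807981) L796342 (flp_e L793285) (flp_f L805557) L816244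
theorem L816254 : sm gd N61441 = N62412 := rfl
theorem L816256 : sm gb N62412 = N61442 := ded_20_1 (flp_d L805571) (flp_b L805563) L816254
theorem L816258 : sm gf N62412 = N61746 := ded_35_2 (flp_d L807985) (flp_f L805569) L816254
theorem L816260 : sm gh N62412 = N61722 := ded_38_2 (flp_d L807825) (flp_h L799686) L799690 (flp_h L805567) L816254
theorem L816262 : sm ga N61445 = N62413 := rfl
theorem L816264 : sm gd N62413 = N61522 := ded_12_2 (flp_a L806309) (flp_d L805600) L816262
theorem L816266 : sm gf N62413 = N61519 := ded_14_2 (flp_a L806273) (flp_f L805602) L816262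
theorem L816268 : sm gj N62413 = N61451 := ded_16_2 (flp_a L805652) (flp_j L805604) L816262
theorem L816270 : sm gh N62413 = N61469 := ded_17_2 (flp_a L805802) (flp_h L805606) L816262
theorem L816272 : sm gb N62413 = N61586 := ded_10_2 (flp_a L806872) (flp_b L794896) (flp_a L793329) L805598 L816262
theorem L816274 : sm ge N61445 = N62414 := rfl
theorem L816276 : sm gb N62414 = N61446 := ded_21_1 (flp_e L805608) L805598 L816274
theorem L816278 : sm gj N62414 = N61452 := ded_42_2 (flp_e L805660) (flp_j L805604) L816274
theorem L816280 : sm gh N62414 = N61470 := ded_43_2 (flp_e L805810) (flp_h L805606) L816274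
theorem L816282 : sm gd N61446 = N62415 := rfl
theorem L816284 : sm ga N62415 = N61588 := ded_12_1 (flp_d L806882) (flp_a L805610) L816282
theorem L816286 : sm gj N62415 = N61453 := ded_37_2 (flp_d L805668) (flp_j L805614) L816282
theorem L816288 : sm gc N62415 = N62415 := ded_27_1 (flp_d L816282) L805612 L793347 (flp_c L805612) L816282
theorem L816289 : sm ge N62415 = N61524 := ded_34_2 (flp_d L806321) (flp_e L794276) (flp_d L793337) L805608 L816282
theorem L816291 : sm gf N61446 = N62416 := rfl
theorem L816293 : sm ga N62416 = N61589 := ded_14_1 (flp_f L806887) (flp_a L805610) L816291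
theorem L816295 : sm gc N62416 = N61447 := ded_29_1 (flp_f L805618) (flp_c L805612) L816291
theorem L816297 : sm gj N62416 = N61454 := ded_46_2 (flp_f L805673) (flp_j L805614) L816291
theorem L816299 : sm gh N62416 = N61471 := ded_47_2 (flp_f L805816) (flp_h L805616) L816291
theorem L816301 : sm ge N62416 = N61521 := ded_40_1 (flp_f L806297) (flp_e L794248) (flp_f L793331) L805608 L816291
theorem L816303 : sm ga N61448 = N62417 := rfl
theorem L816305 : sm gf N62417 = N61761 := ded_14_2 (flp_a L808090) (flp_f L805631) L816303
theorem L816307 : sm gg N62417 = N61455 := ded_15_2 (flp_a L805681) (flp_g L805633) L816303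
theorem L816309 : sm gi N62417 = N61451 := ded_18_2 (flp_a L805652) (flp_i L805635) L816303
theorem L816311 : sm ge N61448 = N62418 := rfl
theorem L816313 : sm gb N62418 = N61449 := ded_21_1 (flp_e L805637) L805629 L816311
theorem L816315 : sm gg N62418 = N61456 := ded_41_2 (flp_e L805687) (flp_g L805633) L816311
theorem L816317 : sm gi N62418 = N61452 := ded_44_2 (flp_e L805660) (flp_i L805635) L816311
theorem L816319 : sm gd N61449 = N62419 := rfl
theorem L816321 : sm gg N62419 = N61457 := ded_36_2 (flp_d L805693) (flp_g L805641) L816319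
theorem L816323 : sm gi N62419 = N61453 := ded_39_2 (flp_d L805668) (flp_i L805643) L816319
theorem L816325 : sm gc N62419 = N62419 := ded_27_1 (flp_d L816319) L805639 L793362 (flp_c L805639) L816319
theorem L816326 : sm gf N61449 = N62420 := rfl
theorem L816328 : sm gc N62420 = N61450 := ded_29_1 (flp_f L805645) (flp_c L805639) L816326
theorem L816330 : sm gi N62420 = N61454 := ded_48_2 (flp_f L805673) (flp_i L805643) L816326
theorem L816332 : sm ge N62420 = N61760 := ded_40_1 L808088 (flp_e L796505) (flp_f L793350) L805637 L816326
theorem L816334 : sm ge N61451 = N62421 := rfl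
theorem L816336 : sm ga N62421 = N61452 := ded_13_1 (flp_e L805660) L805652 L816334
theorem L816338 : sm gg N62421 = N61458 := ded_41_2 (flp_e L805698) (flp_g L805656) L816334
theorem L816340 : sm gh N62421 = N61472 := ded_43_2 (flp_e L805828) (flp_h L805658) L816334
theorem L816342 : sm gd N61452 = N62422 := rfl
theorem L816344 : sm gb N62422 = N61453 := ded_20_1 (flp_d L805668) (flp_b L805662) L816342
theorem L816346 : sm gg N62422 = N61459 := ded_36_2 (flp_d L805704) (flp_g L805664) L816342
theorem L816348 : sm gf N61452 = N62423 := rfl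
theorem L816350 : sm gb N62423 = N61454 := ded_22_1 (flp_f L805673) (flp_b L805662) L816348
theorem L816352 : sm gh N62423 = N61473 := ded_47_2 (flp_f L805834) (flp_h L805666) L816348
theorem L816354 : sm ge N62423 = N61759 := ded_40_1 L808082 (flp_e L796525) (flp_f L793365) L805660 L816348
theorem L816356 : sm gf N61453 = N62424 := rfl
theorem L816358 : sm gc N62424 = N62424 := ded_29_1 (flp_f L816356) L805672 L816356
theorem L816359 : sm gd N62424 = N61454 := ded_35_1 (flp_f L805673) L805668 L816356
theorem L816361 : sm gh N62424 = N61617 := ded_47_2 (flp_f L815823) L815828 L816356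
theorem L816363 : sm ge N61455 = N62425 := rfl
theorem L816365 : sm ga N62425 = N61456 := ded_13_1 (flp_e L805687) L805681 L816363
theorem L816367 : sm gi N62425 = N61458 := ded_44_2 (flp_e L805698) (flp_i L805685) L816363
theorem L816369 : sm gd N61456 = N62426 := rfl
theorem L816371 : sm gb N62426 = N61457 := ded_20_1 (flp_d L805693) (flp_b L805689) L816369
theorem L816373 : sm gi N62426 = N61459 := ded_39_2 (flp_d L805704) (flp_i L805691) L816369
theorem L816375 : sm gh N61457 = N62427 := rfl
theorem L816377 : sm gc N62427 = N62427 := ded_32_1 (flp_h L816375) L805697 L816375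
theorem L816378 : sm gd N61458 = N62428 := rfl
theorem L816380 : sm ga N62428 = N61459 := ded_12_1 (flp_d L805704) (flp_a L805700) L816378
theorem L816382 : sm gf N61458 = N62429 := rfl
theorem L816384 : sm ga N62429 = N61460 := ded_14_1 (flp_f L805708) (flp_a L805700) L816382
theorem L816386 : sm gb N62429 = N61740 := ded_22_1 (flp_f L814945) L814941 L816382
theorem L816388 : sm gc N62429 = N61745 := ded_29_1 (flp_f L816252) L816248 L816382
theorem L816390 : sm gh N62429 = N61475 := ded_47_2 (flp_f L805852) (flp_h L805702) L816382
theorem L816392 : sm ge N62429 = N61466 := ded_40_1 (flp_f L805770) (flp_e L793451) (flp_f L793400) L805698 L816382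
theorem L816394 : sm gc N61459 = N62430 := rfl
theorem L816396 : sm gb N62430 = N62430 := ded_19_1 (flp_c L816394) L805706 L793412 (flp_b L805706) L816394
theorem L816397 : sm gf N61459 = N62431 := rfl
theorem L816399 : sm gb N62431 = N61461 := ded_22_1 (flp_f L805718) (flp_b L805706) L816397
theorem L816401 : sm gd N62431 = N61460 := ded_35_1 (flp_f L805708) L805704 L816397
theorem L816403 : sm gh N61585 = N62431 := ded_25_0 L816399 (flp_h L805725) (flp_b L806870)
theorem L816405 : sm gh N61459 = N62432 := rfl
theorem L816407 : sm gb N62432 = N61462 := ded_25_1 (flp_h L805727) (flp_b L805706) L816405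
theorem L816409 : sm gf N62432 = N61585 := ded_47_1 L816403 (flp_f L816397) L816405
theorem L816411 : sm gd N62432 = N61476 := ded_38_1 (flp_h L805864) (flp_d L793543) (flp_h L793408) L805704 L816405
theorem L816413 : sm ge N61461 = N62433 := rfl
theorem L816415 : sm ga N62433 = N61573 := ded_13_1 L806782 (flp_a L805720) L816413
theorem L816417 : sm gc N62433 = N62433 := ded_28_1 (flp_e L816413) L805722 L816413
theorem L816418 : sm gj N62433 = N61515 := ded_42_2 (flp_e L811044) L811039 L816413
theorem L816420 : sm gh N62433 = N61557 := ded_43_2 L806638 L805725 L816413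
theorem L816422 : sm gd N62433 = N61468 := ded_34_1 (flp_e L805792) L793487 (flp_e L793421) (flp_d L805723) L816413
theorem L816424 : sm gi N61462 = N62434 := rfl
theorem L816426 : sm gc N62434 = N62434 := ded_33_1 (flp_i L816424) L805729 L816424
theorem L816427 : sm gd N62434 = N61477 := ded_39_1 (flp_i L805872) (flp_d L805732) L816424
theorem L816429 : sm gf N62434 = N61583 := ded_48_1 L806859 (flp_f L805730) L816424
theorem L816431 : sm gd N61463 = N62435 := rfl
theorem L816433 : sm ga N62435 = N61464 := ded_12_1 (flp_d L805748) (flp_a L805736) L816431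
theorem L816435 : sm gb N62435 = N61715 := ded_20_1 L807782 (flp_b L805738) L816431
theorem L816437 : sm gg N62435 = N61567 := ded_36_2 L806717 (flp_g L805742) L816431
theorem L816439 : sm gi N62435 = N61465 := ded_39_2 (flp_d L805758) (flp_i L805746) L816431
theorem L816441 : sm gc N62435 = N61562 := ded_27_1 L806671 L794685 (flp_d L796122) (flp_c L805740) L816431
theorem L816443 : sm gf N61465 = N62436 := rfl
theorem L816445 : sm ga N62436 = N61467 := ded_14_1 (flp_f L805780) (flp_a L805760) L816443
theorem L816447 : sm gb N62436 = N61571 := ded_22_1 L806763 (flp_b L805762) L816443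
theorem L816449 : sm gc N62436 = N61586 := ded_29_1 L806876 (flp_c L805766) L816443
theorem L816451 : sm gd N62436 = N61466 := ded_35_1 (flp_f L805770) L805758 L816443
theorem L816453 : sm gj N62436 = N61513 := ded_46_2 (flp_f L809366) L809370 L816443
theorem L816455 : sm gh N62436 = N61509 := ded_47_2 L806184 (flp_h L805768) L816443
theorem L816457 : sm ge N61467 = N62437 := rfl
theorem L816459 : sm gb N62437 = N61468 := ded_21_1 (flp_e L805792) (flp_b L805782) L816457
theorem L816461 : sm gc N62437 = N61587 := ded_28_1 (flp_e L806878) (flp_c L805784) L816457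
theorem L816463 : sm gj N62437 = N61514 := ded_42_2 (flp_e L806228) (flp_j L805788) L816457
theorem L816465 : sm gh N62437 = N61510 := ded_43_2 (flp_e L806192) (flp_h L805790) L816457
theorem L816467 : sm ge N61469 = N62438 := rfl
theorem L816469 : sm ga N62438 = N61470 := ded_13_1 (flp_e L805810) L805802 L816467
theorem L816471 : sm gj N62438 = N61472 := ded_42_2 (flp_e L805828) (flp_j L805808) L816467
theorem L816473 : sm gf N61470 = N62439 := rfl
theorem L816475 : sm gb N62439 = N61471 := ded_22_1 (flp_f L805816) (flp_b L805812) L816473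
theorem L816477 : sm gd N62439 = N61596 := ded_35_1 (flp_f L815636) L815644 L816473
theorem L816479 : sm gj N62439 = N61473 := ded_46_2 (flp_f L805834) (flp_j L805814) L816473
theorem L816481 : sm gi N62439 = N61714 := ded_48_2 (flp_f L811471) L811479 L816473
theorem L816483 : sm ge N62439 = N61753 := ded_40_1 L808030 L796557 (flp_f L793497) L805810 L816473
theorem L816485 : sm gf N61472 = N62440 := rfl
theorem L816487 : sm ga N62440 = N61473 := ded_14_1 (flp_f L805834) (flp_a L805830) L816485
theorem L816489 : sm gd N62440 = N61622 := ded_35_1 (flp_f L815762) L815768 L816485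
theorem L816491 : sm ge N62440 = N61758 := ded_40_1 L808076 (flp_e L796565) (flp_f L793521) L805828 L816485
theorem L816493 : sm gh N61474 = N62441 := rfl
theorem L816495 : sm ga N62441 = N61476 := ded_17_1 (flp_h L805864) (flp_a L805844) L816493
theorem L816497 : sm ge N62441 = N61484 := ded_43_1 (flp_h L805936) (flp_e L805848) L816493
theorem L816499 : sm gf N62441 = N61584 := ded_47_1 L806866 L805850 L816493
theorem L816501 : sm gi N61476 = N62442 := rfl
theorem L816503 : sm gb N62442 = N61477 := ded_26_1 (flp_i L805872) (flp_b L805866) L816501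
theorem L816505 : sm ge N62442 = N61486 := ded_44_1 (flp_i L805948) (flp_e L805868) L816501
theorem L816507 : sm gf N62442 = N61582 := ded_48_1 L806855 (flp_f L805870) L816501
theorem L816509 : sm gh N62442 = N61632 := ded_54_1 L807218 L795280 (flp_i L793547) L805864 L816501
theorem L816511 : sm gd N61478 = N62443 := rfl
theorem L816513 : sm ga N62443 = N61479 := ded_12_1 (flp_d L805892) (flp_a L805884) L816511
theorem L816515 : sm gf N62443 = N61597 := ded_35_2 L806950 (flp_f L805890) L816511
theorem L816517 : sm gj N62443 = N61480 := ded_37_2 (flp_d L805902) (flp_j L805886) L816511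
theorem L816519 : sm gc N61611 = N62443 := ded_11_0 L816513 (flp_c L805900) (flp_a L807059)
theorem L816521 : sm gh N61480 = N62444 := rfl
theorem L816523 : sm ga N62444 = N61481 := ded_17_1 (flp_h L805912) (flp_a L805904) L816521
theorem L816525 : sm gc N62444 = N61633 := ded_32_1 L807224 L805910 L816521
theorem L816527 : sm gf N62444 = N61620 := ded_47_1 L807130 (flp_f L805906) L816521
theorem L816529 : sm gg N62444 = N61484 := ded_50_1 (flp_h L805936) (flp_g L805908) L816521
theorem L816531 : sm gi N61481 = N62445 := rfl
theorem L816533 : sm gb N62445 = N61482 := ded_26_1 (flp_i L805922) (flp_b L805914) L816531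
theorem L816535 : sm gc N62445 = N61632 := ded_33_1 L807218 (flp_c L805916) L816531
theorem L816537 : sm gf N62445 = N61619 := ded_48_1 L807122 (flp_f L805918) L816531
theorem L816539 : sm gg N62445 = N61486 := ded_51_1 (flp_i L805948) (flp_g L805920) L816531
theorem L816541 : sm gb N61483 = N62446 := rfl
theorem L816543 : sm gd N62446 = N61543 := ded_20_2 (flp_b L811693) L811695 L816541
theorem L816545 : sm gf N62446 = N61757 := ded_22_2 (flp_b L811659) L811667 L816541
theorem L816547 : sm gg N62446 = N61551 := ded_23_2 L806575 (flp_g L805934) L816541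
theorem L816549 : sm ga N62446 = N61496 := ded_10_1 (flp_b L806032) L793775 (flp_b L793637) (flp_a L805932) L816541
theorem L816551 : sm gc N62446 = N61758 := ded_19_2 (flp_b L809664) L809666 L804178 L805930 L816541
theorem L816553 : sm gh N61483 = N62447 := rfl
theorem L816555 : sm ga N62447 = N61485 := ded_17_1 (flp_h L805940) (flp_a L805932) L816553
theorem L816557 : sm gc N62447 = N61484 := ded_32_1 (flp_h L805936) L805930 L816553
theorem L816559 : sm gg N62447 = N61633 := ded_50_1 L807224 (flp_g L805934) L816553
theorem L816561 : sm gi N61484 = N62448 := rfl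
theorem L816563 : sm ga N62448 = N61486 := ded_18_1 (flp_i L805948) (flp_a L805938) L816561
theorem L816565 : sm gd N61485 = N62449 := rfl
theorem L816567 : sm gb N62449 = N61498 := ded_20_1 (flp_d L806052) (flp_b L805942) L816565
theorem L816569 : sm gf N62449 = N61612 := ded_35_2 (flp_d L811623) L811631 L816565
theorem L816571 : sm gg N62449 = N61591 := ded_36_2 L806905 (flp_g L805946) L816565
theorem L816573 : sm gh N61487 = N62450 := rfl
theorem L816575 : sm gf N62450 = N61488 := ded_47_1 (flp_h L805960) L805952 L816573
theorem L816577 : sm gg N62450 = N61561 := ded_50_1 L806667 (flp_g L805958) L816573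
theorem L816579 : sm gd N62450 = N62450 := ded_38_1 (flp_h L816573) L805954 L793669 (flp_d L805954) L816573
theorem L816580 : sm gi N61488 = N62451 := rfl
theorem L816582 : sm gd N62451 = N62451 := ded_39_1 (flp_i L816580) L805966 L816580
theorem L816583 : sm ge N62451 = N61492 := ded_44_1 (flp_i L805996) (flp_e L805962) L816580
theorem L816585 : sm gg N62451 = N61489 := ded_51_1 (flp_i L805967) (flp_g L805964) L816580
theorem L816587 : sm gh N62451 = N61606 := ded_54_1 L807025 L795071 (flp_i L793661) L805960 L816580
theorem L816589 : sm gc N61490 = N62452 := rfl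
theorem L816591 : sm ga N62452 = N61491 := ded_11_1 (flp_c L805988) (flp_a L805980) L816589
theorem L816593 : sm gg N62452 = N61493 := ded_30_2 (flp_c L806002) (flp_g L805984) L816589
theorem L816595 : sm gj N62452 = N61538 := ded_31_2 L806462 (flp_j L805986) L816589
theorem L816597 : sm gd N62452 = N61518 := ded_27_2 L806265 L794236 (flp_c L793698) L805978 L816589
theorem L816599 : sm gb N61493 = N62453 := rfl
theorem L816601 : sm gd N62453 = N61526 := ded_20_2 L806336 (flp_d L806010) L816599
theorem L816603 : sm gf N62453 = N61710 := ded_22_2 L807750 (flp_f L806006) L816599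
theorem L816605 : sm gj N62453 = N61496 := ded_24_2 (flp_b L806032) (flp_j L806008) L816599
theorem L816607 : sm gc N62453 = N61753 := ded_19_2 L808028 L796409 (flp_b L793724) L806002 L816599
theorem L816609 : sm gh N61493 = N62454 := rfl
theorem L816611 : sm ga N62454 = N61495 := ded_17_1 (flp_h L806024) (flp_a L806004) L816609
theorem L816613 : sm gc N62454 = N61494 := ded_32_1 (flp_h L806012) L806002 L816609
theorem L816615 : sm gf N62454 = N61518 := ded_47_1 L806271 (flp_f L806006) L816609
theorem L816617 : sm gj N62454 = N61497 := ded_52_1 (flp_h L806042) (flp_j L806008) L816609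
theorem L816619 : sm gh N61496 = N62455 := rfl
theorem L816621 : sm gb N62455 = N61497 := ded_25_1 (flp_h L806042) L806032 L816619
theorem L816623 : sm gc N62455 = N61759 := ded_32_1 (flp_h L808078) (flp_c L806040) L816619
theorem L816625 : sm gf N62455 = N61755 := ded_47_1 L808054 (flp_f L806036) L816619
theorem L816627 : sm gg N62455 = N61549 := ded_50_1 L806561 (flp_g L806038) L816619
theorem L816629 : sm gd N61497 = N62456 := rfl
theorem L816631 : sm ga N62456 = N61498 := ded_12_1 (flp_d L806052) (flp_a L806044) L816629
theorem L816633 : sm gf N62456 = N61538 := ded_35_2 L806464 (flp_f L806048) L816629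
theorem L816635 : sm gg N62456 = N61521 := ded_36_2 L806303 (flp_g L806050) L816629
theorem L816637 : sm gc N62456 = N61499 := ded_27_1 (flp_d L806060) L793854 (flp_d L793793) (flp_c L806046) L816629
theorem L816639 : sm gh N62456 = N61541 := ded_38_2 (flp_d L806484) L794453 (flp_d L793781) L806042 L816629
theorem L816641 : sm ge N61498 = N62457 := rfl
theorem L816643 : sm gc N62457 = N61500 := ded_28_1 (flp_e L806070) (flp_c L806058) L816641
theorem L816645 : sm gg N62457 = N61589 := ded_41_2 L806891 (flp_g L806056) L816641
theorem L816647 : sm ge N61501 = N62458 := rfl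
theorem L816649 : sm ga N62458 = N61502 := ded_13_1 (flp_e L806089) L806075 L816647
theorem L816651 : sm gc N62458 = N61508 := ded_28_1 (flp_e L806172) (flp_c L806077) L816647
theorem L816653 : sm gj N62458 = N61669 := ded_42_2 (flp_e L807471) (flp_j L806083) L816647
theorem L816655 : sm gh N62458 = N61692 := ded_43_2 (flp_e L807622) (flp_h L806085) L816647
theorem L816657 : sm gi N62458 = N61678 := ded_44_2 (flp_e L807528) (flp_i L806087) L816647
theorem L816659 : sm gf N62458 = N61677 := ded_40_2 (flp_e L807522) L795663 (flp_e L793980) (flp_f L806081) L816647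
theorem L816661 : sm ge N61503 = N62459 := rfl
theorem L816663 : sm ga N62459 = N61504 := ded_13_1 (flp_e L806119) L806103 L816661
theorem L816665 : sm gb N62459 = N61747 := ded_21_1 (flp_e L807991) (flp_b L806117) L816661
theorem L816667 : sm gc N62459 = N61692 := ded_28_1 (flp_e L807622) (flp_c L806105) L816661
theorem L816669 : sm gg N62459 = N61707 := ded_41_2 (flp_e L807730) (flp_g L806111) L816661
theorem L816671 : sm gj N62459 = N61673 := ded_42_2 (flp_e L807498) (flp_j L806113) L816661
theorem L816673 : sm gh N62459 = N61508 := ded_43_2 (flp_e L806172) (flp_h L806115) L816661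
theorem L816675 : sm gf N62459 = N61592 := ded_40_2 (flp_e L806907) L794935 (flp_e L794020) (flp_f L806109) L816661
theorem L816677 : sm gd N61504 = N62460 := rfl
theorem L816679 : sm gb N62460 = N61505 := ded_20_1 (flp_d L806133) (flp_b L806121) L816677
theorem L816681 : sm gf N62460 = N61593 := ded_35_2 (flp_d L806913) (flp_f L806131) L816677
theorem L816683 : sm gg N62460 = N61708 := ded_36_2 (flp_d L807736) (flp_g L806125) L816677
theorem L816685 : sm gj N62460 = N61674 := ded_37_2 (flp_d L807504) (flp_j L806127) L816677
theorem L816687 : sm ge N62460 = N61630 := ded_34_2 (flp_d L807204) (flp_e L795245) (flp_d L793988) L806119 L816677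
theorem L816689 : sm ge N61506 = N62461 := rfl
theorem L816691 : sm ga N62461 = N61507 := ded_13_1 (flp_e L806160) L806146 L816689
theorem L816693 : sm gb N62461 = N61677 := ded_21_1 (flp_e L807522) (flp_b L806158) L816689
theorem L816695 : sm gg N62461 = N61508 := ded_41_2 (flp_e L806172) (flp_g L806152) L816689
theorem L816697 : sm gh N62461 = N61707 := ded_43_2 (flp_e L807730) (flp_h L806154) L816689
theorem L816699 : sm gi N62461 = N61676 := ded_44_2 (flp_e L807514) (flp_i L806156) L816689
theorem L816701 : sm gd N62461 = N61669 := ded_34_1 (flp_e L807471) (flp_d L796779) L796781 (flp_d L806148) L816689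
theorem L816703 : sm ge N61509 = N62462 := rfl
theorem L816705 : sm ga N62462 = N61510 := ded_13_1 (flp_e L806192) L806180 L816703
theorem L816707 : sm gb N62462 = N61574 := ded_21_1 (flp_e L806784) (flp_b L806190) L816703
theorem L816709 : sm gj N62462 = N61516 := ded_42_2 (flp_e L806241) (flp_j L806186) L816703
theorem L816711 : sm gi N62462 = N61536 := ded_44_2 (flp_e L806440) (flp_i L806188) L816703
theorem L816713 : sm gd N62462 = N61558 := ded_34_1 (flp_e L806640) L794628 (flp_e L794108) (flp_d L806182) L816703
theorem L816715 : sm ge N61513 = N62463 := rfl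
theorem L816717 : sm ga N62463 = N61514 := ded_13_1 (flp_e L806228) L806222 L816715
theorem L816719 : sm gb N62463 = N61584 := ded_21_1 (flp_e L806862) (flp_b L806226) L816715
theorem L816721 : sm gh N62463 = N61516 := ded_43_2 (flp_e L806241) (flp_h L806224) L816715
theorem L816723 : sm gd N61514 = N62464 := rfl
theorem L816725 : sm gb N62464 = N61515 := ded_20_1 (flp_d L806234) (flp_b L806230) L816723
theorem L816727 : sm gh N62464 = N61741 := ded_38_2 (flp_d L807951) L796281 (flp_d L794212) (flp_h L806232) L816723
theorem L816729 : sm ga N61517 = N62465 := rfl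
theorem L816731 : sm gc N62465 = N61519 := ded_11_2 (flp_a L806273) (flp_c L806259) L816729
theorem L816733 : sm gg N62465 = N61525 := ded_15_2 (flp_a L806328) (flp_g L806253) L816729
theorem L816735 : sm gj N62465 = N61756 := ded_16_2 L808058 (flp_j L806255) L816729
theorem L816737 : sm gh N62465 = N61709 := ded_17_2 (flp_a L807740) (flp_h L806257) L816729
theorem L816739 : sm gb N62465 = N61711 := ded_10_2 (flp_a L807756) (flp_b L796052) (flp_a L794216) L806251 L816729
theorem L816741 : sm ge N61517 = N62466 := rfl
theorem L816743 : sm gb N62466 = N61518 := ded_21_1 (flp_e L806261) L806251 L816741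
theorem L816745 : sm gc N62466 = N61520 := ded_28_1 (flp_e L806285) (flp_c L806259) L816741
theorem L816747 : sm gg N62466 = N61526 := ded_41_2 (flp_e L806334) (flp_g L806253) L816741
theorem L816749 : sm gj N62466 = N61755 := ded_42_2 L808052 (flp_j L806255) L816741
theorem L816751 : sm gh N62466 = N61710 := ded_43_2 (flp_e L807748) (flp_h L806257) L816741
theorem L816753 : sm ge N61519 = N62467 := rfl
theorem L816755 : sm ga N62467 = N61520 := ded_13_1 (flp_e L806285) L806273 L816753
theorem L816757 : sm gb N62467 = N61590 := ded_21_1 (flp_e L806893) (flp_b L806283) L816753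
theorem L816759 : sm gg N62467 = N61536 := ded_41_2 (flp_e L806440) (flp_g L806277) L816753
theorem L816761 : sm gj N62467 = N61763 := ded_42_2 (flp_e L808104) (flp_j L806279) L816753
theorem L816763 : sm gh N62467 = N61765 := ded_43_2 L808124 (flp_h L806281) L816753
theorem L816765 : sm gd N62467 = N61548 := ded_34_1 (flp_e L806547) L794509 (flp_e L794286) (flp_d L806275) L816753
theorem L816767 : sm gf N61520 = N62468 := rfl
theorem L816769 : sm gb N62468 = N61521 := ded_22_1 (flp_f L806297) (flp_b L806287) L816767
theorem L816771 : sm gd N62468 = N61549 := ded_35_1 (flp_f L806557) (flp_d L806295) L816767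
theorem L816773 : sm gj N62468 = N61759 := ded_46_2 L808082 (flp_j L806291) L816767
theorem L816775 : sm gh N62468 = N61753 := ded_47_2 L808030 (flp_h L806293) L816767
theorem L816777 : sm ge N61522 = N62469 := rfl
theorem L816779 : sm ga N62469 = N61523 := ded_13_1 (flp_e L806315) L806309 L816777
theorem L816781 : sm gb N62469 = N61592 := ded_21_1 (flp_e L806907) (flp_b L806313) L816777
theorem L816783 : sm gf N62469 = N61747 := ded_40_2 (flp_e L807991) L796355 (flp_e L794286) (flp_f L806311) L816777
theorem L816785 : sm gd N61523 = N62470 := rfl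
theorem L816787 : sm gb N62470 = N61524 := ded_20_1 (flp_d L806321) (flp_b L806317) L816785
theorem L816789 : sm gf N62470 = N61748 := ded_35_2 (flp_d L807997) (flp_f L806319) L816785
theorem L816791 : sm gh N61524 = N62471 := rfl
theorem L816793 : sm ga N62471 = N61594 := ded_17_1 (flp_h L806917) (flp_a L806323) L816791
theorem L816795 : sm gc N62471 = N62471 := ded_32_1 (flp_h L816791) L806327 L816791
theorem L816796 : sm gf N62471 = N61653 := ded_47_1 L807366 (flp_f L806325) L816791
theorem L816798 : sm gd N62471 = N61654 := ded_38_1 L807372 (flp_d L796607) L796603 L806321 L816791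
theorem L816800 : sm ge N61525 = N62472 := rfl
theorem L816802 : sm ga N62472 = N61526 := ded_13_1 (flp_e L806334) L806328 L816800
theorem L816804 : sm gc N62472 = N61536 := ded_28_1 (flp_e L806440) (flp_c L806330) L816800
theorem L816806 : sm gj N62472 = N61543 := ded_42_2 (flp_e L806498) (flp_j L806332) L816800
theorem L816808 : sm gf N61526 = N62473 := rfl
theorem L816810 : sm gb N62473 = N61527 := ded_22_1 (flp_f L806342) (flp_b L806336) L816808
theorem L816812 : sm gc N62473 = N61537 := ded_29_1 (flp_f L806450) (flp_c L806338) L816808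
theorem L816814 : sm gd N62473 = N61710 := ded_35_1 (flp_f L816603) L816601 L816808
theorem L816816 : sm gj N62473 = N61544 := ded_46_2 (flp_f L806506) (flp_j L806340) L816808
theorem L816818 : sm ga N61528 = N62474 := rfl
theorem L816820 : sm gd N62474 = N61664 := ded_12_2 (flp_a L807432) (flp_d L806354) L816818
theorem L816822 : sm gf N62474 = N61530 := ded_14_2 (flp_a L806372) (flp_f L806356) L816818
theorem L816824 : sm gj N62474 = N61545 := ded_16_2 (flp_a L806516) (flp_j L806358) L816818
theorem L816826 : sm gh N62474 = N61534 := ded_17_2 (flp_a L806418) (flp_h L806360) L816818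
theorem L816828 : sm gb N62474 = N61600 := ded_10_2 (flp_a L806974) (flp_b L795005) (flp_a L794316) L806352 L816818
theorem L816830 : sm ge N61528 = N62475 := rfl
theorem L816832 : sm gb N62475 = N61529 := ded_21_1 (flp_e L806362) L806352 L816830
theorem L816834 : sm gj N62475 = N61546 := ded_42_2 (flp_e L806528) (flp_j L806358) L816830
theorem L816836 : sm gh N62475 = N61535 := ded_43_2 (flp_e L806430) (flp_h L806360) L816830
theorem L816838 : sm gd N61529 = N62476 := rfl
theorem L816840 : sm ga N62476 = N61602 := ded_12_1 (flp_d L806992) (flp_a L806364) L816838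
theorem L816842 : sm gj N62476 = N61547 := ded_37_2 (flp_d L806536) (flp_j L806368) L816838
theorem L816844 : sm gc N62476 = N62476 := ded_27_1 (flp_d L816838) L806366 L794334 (flp_c L806366) L816838
theorem L816845 : sm ge N62476 = N61666 := ded_34_2 (flp_d L807450) (flp_e L795552) (flp_d L794324) L806362 L816838
theorem L816847 : sm gh N62476 = N61698 := ded_38_2 (flp_d L807668) L795886 (flp_d L794389) (flp_h L806370) L816838
theorem L816849 : sm ge N61530 = N62477 := rfl
theorem L816851 : sm ga N62477 = N61531 := ded_13_1 (flp_e L806384) L806372 L816849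
theorem L816853 : sm gb N62477 = N61607 := ded_21_1 (flp_e L807027) (flp_b L806382) L816849
theorem L816855 : sm gg N62477 = N61765 := ded_41_2 L808124 (flp_g L806376) L816849
theorem L816857 : sm gj N62477 = N61548 := ded_42_2 (flp_e L806547) (flp_j L806378) L816849
theorem L816859 : sm gh N62477 = N61536 := ded_43_2 (flp_e L806440) (flp_h L806380) L816849
theorem L816861 : sm gd N62477 = N61763 := ded_34_1 (flp_e L808104) (flp_d L798684) L798686 (flp_d L806374) L816849
theorem L816863 : sm gf N61531 = N62478 := rfl
theorem L816865 : sm gb N62478 = N61532 := ded_22_1 (flp_f L806396) (flp_b L806386) L816863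
theorem L816867 : sm gd N62478 = N61759 := ded_35_1 L808082 (flp_d L806394) L816863
theorem L816869 : sm gj N62478 = N61549 := ded_46_2 (flp_f L806557) (flp_j L806390) L816863
theorem L816871 : sm gh N62478 = N61537 := ded_47_2 (flp_f L806450) (flp_h L806392) L816863
theorem L816873 : sm gg N61532 = N62479 := rfl
theorem L816875 : sm ga N62479 = N61609 := ded_15_1 (flp_g L807043) (flp_a L806398) L816873
theorem L816877 : sm gc N62479 = N61533 := ded_30_1 (flp_g L806408) (flp_c L806400) L816873
theorem L816879 : sm gd N62479 = N61542 := ded_36_1 L806496 (flp_d L806402) L816873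
theorem L816881 : sm gh N62479 = N61538 := ded_50_2 (flp_g L806458) (flp_h L806406) L816873
theorem L816883 : sm gf N62479 = N61541 := ded_45_1 L806486 L796405 (flp_g L794351) L806396 L816873
theorem L816885 : sm ge N61534 = N62480 := rfl
theorem L816887 : sm ga N62480 = N61535 := ded_13_1 (flp_e L806430) L806418 L816885
theorem L816889 : sm gb N62480 = N61610 := ded_21_1 (flp_e L807049) (flp_b L806428) L816885
theorem L816891 : sm gj N62480 = N61550 := ded_42_2 (flp_e L806563) (flp_j L806424) L816885
theorem L816893 : sm gi N62480 = N61706 := ded_44_2 (flp_e L807724) (flp_i L806426) L816885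
theorem L816895 : sm gd N62480 = N61699 := ded_34_1 (flp_e L807673) L795896 (flp_e L794427) (flp_d L806420) L816885
theorem L816897 : sm gf N61536 = N62481 := rfl
theorem L816899 : sm ga N62481 = N61537 := ded_14_1 (flp_f L806450) (flp_a L806442) L816897
theorem L816901 : sm gb N62481 = N61611 := ded_22_1 (flp_f L807057) (flp_b L806444) L816897
theorem L816903 : sm gd N62481 = N61754 := ded_35_1 (flp_f L808034) (flp_d L806448) L816897
theorem L816905 : sm gj N62481 = N61551 := ded_46_2 (flp_f L806571) (flp_j L806446) L816897
theorem L816907 : sm gg N61537 = N62482 := rfl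
theorem L816909 : sm gb N62482 = N61538 := ded_23_1 (flp_g L806458) (flp_b L806452) L816907
theorem L816911 : sm gd N62482 = N61755 := ded_36_1 (flp_g L808046) (flp_d L806454) L816907
theorem L816913 : sm ge N61539 = N62483 := rfl
theorem L816915 : sm ga N62483 = N61540 := ded_13_1 (flp_e L806474) L806466 L816913
theorem L816917 : sm gc N62483 = N61548 := ded_28_1 (flp_e L806547) (flp_c L806468) L816913
theorem L816919 : sm gg N62483 = N61752 := ded_41_2 (flp_e L808014) (flp_g L806470) L816913
theorem L816921 : sm gh N62483 = N61543 := ded_43_2 (flp_e L806498) (flp_h L806472) L816913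
theorem L816923 : sm gd N61540 = N62484 := rfl
theorem L816925 : sm gb N62484 = N61541 := ded_20_1 (flp_d L806484) (flp_b L806476) L816923
theorem L816927 : sm gg N62484 = N61753 := ded_36_2 (flp_d L808026) (flp_g L806480) L816923
theorem L816929 : sm gf N61540 = N62485 := rfl
theorem L816931 : sm gb N62485 = N61542 := ded_22_1 (flp_f L806490) (flp_b L806476) L816929
theorem L816933 : sm gc N62485 = N61549 := ded_29_1 (flp_f L806557) (flp_c L806478) L816929
theorem L816935 : sm gh N62485 = N61544 := ded_47_2 (flp_f L806506) (flp_h L806482) L816929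
theorem L816937 : sm gg N62485 = N61759 := ded_45_2 L808082 L796529 (flp_f L796401) (flp_g L806480) L816929
theorem L816939 : sm gf N61543 = N62486 := rfl
theorem L816941 : sm ga N62486 = N61544 := ded_14_1 (flp_f L806506) (flp_a L806500) L816939
theorem L816943 : sm gc N62486 = N61551 := ded_29_1 (flp_f L806571) (flp_c L806502) L816939
theorem L816945 : sm gd N62486 = N61757 := ded_35_1 (flp_f L816545) L816543 L816939
theorem L816947 : sm gg N62486 = N61758 := ded_45_2 L808076 L796569 L796571 (flp_g L806504) L816939
theorem L816949 : sm ge N61545 = N62487 := rfl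
theorem L816951 : sm ga N62487 = N61546 := ded_13_1 (flp_e L806528) L806516 L816949
theorem L816953 : sm gb N62487 = N61629 := ded_21_1 (flp_e L807198) (flp_b L806526) L816949
theorem L816955 : sm gg N62487 = N61745 := ded_41_2 (flp_e L807981) (flp_g L806522) L816949
theorem L816957 : sm gh N62487 = N61550 := ded_43_2 (flp_e L806563) (flp_h L806524) L816949
theorem L816959 : sm gd N61546 = N62488 := rfl
theorem L816961 : sm gb N62488 = N61547 := ded_20_1 (flp_d L806536) (flp_b L806530) L816959
theorem L816963 : sm gg N62488 = N61746 := ded_36_2 (flp_d L807985) (flp_g L806532) L816959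
theorem L816965 : sm ge N62488 = N61748 := ded_34_2 (flp_d L807997) (flp_e L796359) (flp_d L794489) L806528 L816959
theorem L816967 : sm gh N62488 = N61705 := ded_38_2 (flp_d L807720) L795972 (flp_d L794545) (flp_h L806534) L816959
theorem L816969 : sm gf N61548 = N62489 := rfl
theorem L816971 : sm ga N62489 = N61549 := ded_14_1 (flp_f L806557) (flp_a L806549) L816969
theorem L816973 : sm gb N62489 = N61633 := ded_22_1 (flp_f L807220) (flp_b L806551) L816969
theorem L816975 : sm gh N62489 = N61551 := ded_47_2 (flp_f L806571) (flp_h L806555) L816969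
theorem L816977 : sm ge N61552 = N62490 := rfl
theorem L816979 : sm ga N62490 = N61553 := ded_13_1 (flp_e L806591) L806579 L816977
theorem L816981 : sm gc N62490 = N61558 := ded_28_1 (flp_e L806640) (flp_c L806581) L816977
theorem L816983 : sm gj N62490 = N61728 := ded_42_2 (flp_e L807858) (flp_j L806587) L816977
theorem L816985 : sm gi N62490 = N61752 := ded_44_2 (flp_e L808014) (flp_i L806589) L816977
theorem L816987 : sm gf N62490 = N61764 := ded_40_2 (flp_e L808112) L796535 (flp_e L796149) (flp_f L806585) L816977
theorem L816989 : sm gd N61553 = N62491 := rfl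
theorem L816991 : sm gb N62491 = N61554 := ded_20_1 (flp_d L806603) (flp_b L806593) L816989
theorem L816993 : sm gf N62491 = N61743 := ded_35_2 L807971 (flp_f L806601) L816989
theorem L816995 : sm gj N62491 = N61729 := ded_37_2 (flp_d L807866) (flp_j L806597) L816989
theorem L816997 : sm gi N62491 = N61753 := ded_39_2 (flp_d L808026) (flp_i L806599) L816989
theorem L816999 : sm ge N62491 = N61714 := ded_34_2 (flp_d L807776) (flp_e L796068) (flp_d L794578) L806591 L816989
theorem L817001 : sm ge N61555 = N62492 := rfl
theorem L817003 : sm ga N62492 = N61556 := ded_13_1 (flp_e L806625) L806615 L817001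
theorem L817005 : sm gj N62492 = N61740 := ded_42_2 (flp_e L807945) (flp_j L806621) L817001
theorem L817007 : sm gh N62492 = N61558 := ded_43_2 (flp_e L806640) (flp_h L806623) L817001
theorem L817009 : sm gd N61556 = N62493 := rfl
theorem L817011 : sm gb N62493 = N61557 := ded_20_1 (flp_d L806633) (flp_b L806627) L817009
theorem L817013 : sm gj N62493 = N61741 := ded_37_2 (flp_d L807951) (flp_j L806629) L817009
theorem L817015 : sm ge N62493 = N61585 := ded_34_2 (flp_d L806868) (flp_e L794859) (flp_d L794610) L806625 L817009
theorem L817017 : sm ga N61559 = N62494 := rfl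
theorem L817019 : sm gd N62494 = N61734 := ded_12_2 (flp_a L807905) (flp_d L806650) L817017
theorem L817021 : sm gg N62494 = N61571 := ded_15_2 (flp_a L806759) (flp_g L806652) L817017
theorem L817023 : sm gh N62494 = N61562 := ded_17_2 (flp_a L806669) (flp_h L806654) L817017
theorem L817025 : sm ge N61559 = N62495 := rfl
theorem L817027 : sm gb N62495 = N61560 := ded_21_1 (flp_e L806656) L806648 L817025
theorem L817029 : sm gg N62495 = N61572 := ded_41_2 (flp_e L806769) (flp_g L806652) L817025
theorem L817031 : sm gh N62495 = N61563 := ded_43_2 (flp_e L806677) (flp_h L806654) L817025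
theorem L817033 : sm gd N61560 = N62496 := rfl
theorem L817035 : sm gg N62496 = N61573 := ded_36_2 (flp_d L806777) (flp_g L806660) L817033
theorem L817037 : sm gc N62496 = N62496 := ded_27_1 (flp_d L817033) L806658 L794658 (flp_c L806658) L817033
theorem L817038 : sm ge N62496 = N61736 := ded_34_2 (flp_d L807919) (flp_e L796242) (flp_d L794650) L806656 L817033
theorem L817040 : sm gh N62496 = N61583 := ded_38_2 (flp_d L806857) L794851 (flp_d L794675) (flp_h L806662) L817033
theorem L817042 : sm gf N61560 = N62497 := rfl
theorem L817044 : sm gc N62497 = N61561 := ded_29_1 (flp_f L806664) (flp_c L806658) L817042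
theorem L817046 : sm gh N62497 = N61564 := ded_47_2 (flp_f L806687) (flp_h L806662) L817042
theorem L817048 : sm ge N61562 = N62498 := rfl
theorem L817050 : sm ga N62498 = N61563 := ded_13_1 (flp_e L806677) L806669 L817048
theorem L817052 : sm gg N62498 = N61574 := ded_41_2 (flp_e L806784) (flp_g L806673) L817048
theorem L817054 : sm gi N62498 = N61590 := ded_44_2 (flp_e L806893) (flp_i L806675) L817048
theorem L817056 : sm gd N62498 = N61631 := ded_34_1 (flp_e L807208) (flp_d L798534) L798536 (flp_d L806671) L817048
theorem L817058 : sm gf N61563 = N62499 := rfl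
theorem L817060 : sm gb N62499 = N61564 := ded_22_1 (flp_f L806687) (flp_b L806679) L817058
theorem L817062 : sm gd N62499 = N61632 := ded_35_1 (flp_f L807214) (flp_d L806685) L817058
theorem L817064 : sm gi N62499 = N61591 := ded_48_2 (flp_f L806901) (flp_i L806683) L817058
theorem L817066 : sm ga N61565 = N62500 := rfl
theorem L817068 : sm gc N62500 = N61571 := ded_11_2 (flp_a L806759) (flp_c L806703) L817066
theorem L817070 : sm gf N62500 = N61711 := ded_14_2 (flp_a L807756) (flp_f L806697) L817066
theorem L817072 : sm gj N62500 = N61575 := ded_16_2 (flp_a L806792) (flp_j L806699) L817066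
theorem L817074 : sm gh N62500 = N61567 := ded_17_2 (flp_a L806713) (flp_h L806701) L817066
theorem L817076 : sm ge N61565 = N62501 := rfl
theorem L817078 : sm gb N62501 = N61566 := ded_21_1 (flp_e L806705) L806695 L817076
theorem L817080 : sm gc N62501 = N61572 := ded_28_1 (flp_e L806769) (flp_c L806703) L817076
theorem L817082 : sm gj N62501 = N61576 := ded_42_2 (flp_e L806798) (flp_j L806699) L817076
theorem L817084 : sm gh N62501 = N61568 := ded_43_2 (flp_e L806725) (flp_h L806701) L817076
theorem L817086 : sm gd N61566 = N62502 := rfl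
theorem L817088 : sm gj N62502 = N61577 := ded_37_2 (flp_d L806806) (flp_j L806709) L817086
theorem L817090 : sm gc N62502 = N62502 := ded_27_1 (flp_d L817086) L806707 L794709 (flp_c L806707) L817086
theorem L817091 : sm gh N62502 = N61672 := ded_38_2 (flp_d L807493) L795618 (flp_d L794730) (flp_h L806711) L817086
theorem L817093 : sm ge N61567 = N62503 := rfl
theorem L817095 : sm ga N62503 = N61568 := ded_13_1 (flp_e L806725) L806713 L817093
theorem L817097 : sm gc N62503 = N61574 := ded_28_1 (flp_e L806784) (flp_c L806715) L817093
theorem L817099 : sm gj N62503 = N61579 := ded_42_2 (flp_e L806825) (flp_j L806721) L817093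
theorem L817101 : sm gi N62503 = N61597 := ded_44_2 (flp_e L806942) (flp_i L806723) L817093
theorem L817103 : sm gd N62503 = N61682 := ded_34_1 (flp_e L807556) L795735 (flp_e L796149) (flp_d L806717) L817093
theorem L817105 : sm ga N61569 = N62504 := rfl
theorem L817107 : sm gd N62504 = N61737 := ded_12_2 (flp_a L807924) (flp_d L806739) L817105
theorem L817109 : sm gf N62504 = N61715 := ded_14_2 (flp_a L807780) (flp_f L806741) L817105
theorem L817111 : sm gj N62504 = N61581 := ded_16_2 (flp_a L806843) (flp_j L806743) L817105
theorem L817113 : sm gh N62504 = N61603 := ded_17_2 (flp_a L806999) (flp_h L806745) L817105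
theorem L817115 : sm gi N62504 = N61571 := ded_18_2 (flp_a L806759) (flp_i L806747) L817105
theorem L817117 : sm ge N61569 = N62505 := rfl
theorem L817119 : sm gb N62505 = N61570 := ded_21_1 (flp_e L806749) L806737 L817117
theorem L817121 : sm gj N62505 = N61582 := ded_42_2 (flp_e L806849) (flp_j L806743) L817117
theorem L817123 : sm gh N62505 = N61604 := ded_43_2 (flp_e L807005) (flp_h L806745) L817117
theorem L817125 : sm gi N62505 = N61572 := ded_44_2 (flp_e L806769) (flp_i L806747) L817117
theorem L817127 : sm gd N61570 = N62506 := rfl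
theorem L817129 : sm gj N62506 = N61583 := ded_37_2 (flp_d L806857) (flp_j L806753) L817127
theorem L817131 : sm gi N62506 = N61573 := ded_39_2 (flp_d L806777) (flp_i L806757) L817127
theorem L817133 : sm gc N62506 = N62506 := ded_27_1 (flp_d L817127) L806751 L794752 (flp_c L806751) L817127
theorem L817134 : sm ge N62506 = N61739 := ded_34_2 (flp_d L807940) (flp_e L796263) (flp_d L794742) L806749 L817127
theorem L817136 : sm ge N61571 = N62507 := rfl
theorem L817138 : sm ga N62507 = N61572 := ded_13_1 (flp_e L806769) L806759 L817136
theorem L817140 : sm gj N62507 = N61584 := ded_42_2 (flp_e L806862) (flp_j L806765) L817136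
theorem L817142 : sm gh N62507 = N61574 := ded_43_2 (flp_e L806784) (flp_h L806767) L817136
theorem L817144 : sm gd N61572 = N62508 := rfl
theorem L817146 : sm gb N62508 = N61573 := ded_20_1 (flp_d L806777) (flp_b L806771) L817144
theorem L817148 : sm gj N62508 = N61585 := ded_37_2 (flp_d L806868) (flp_j L806773) L817144
theorem L817150 : sm ge N62508 = N61741 := ded_34_2 (flp_d L807951) (flp_e L796277) (flp_d L794755) L806769 L817144
theorem L817152 : sm ge N61575 = N62509 := rfl
theorem L817154 : sm ga N62509 = N61576 := ded_13_1 (flp_e L806798) L806792 L817152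
theorem L817156 : sm gc N62509 = N61584 := ded_28_1 (flp_e L806862) (flp_c L806794) L817152
theorem L817158 : sm gh N62509 = N61579 := ded_43_2 (flp_e L806825) (flp_h L806796) L817152
theorem L817160 : sm gd N61576 = N62510 := rfl
theorem L817162 : sm gb N62510 = N61577 := ded_20_1 (flp_d L806806) (flp_b L806800) L817160
theorem L817164 : sm ge N61581 = N62511 := rfl
theorem L817166 : sm ga N62511 = N61582 := ded_13_1 (flp_e L806849) L806843 L817164
theorem L817168 : sm gh N62511 = N61631 := ded_43_2 (flp_e L807208) (flp_h L806845) L817164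
theorem L817170 : sm gi N62511 = N61584 := ded_44_2 (flp_e L806862) (flp_i L806847) L817164
theorem L817172 : sm gd N61582 = N62512 := rfl
theorem L817174 : sm gb N62512 = N61583 := ded_20_1 (flp_d L806857) (flp_b L806851) L817172
theorem L817176 : sm gi N62512 = N61585 := ded_39_2 (flp_d L806868) (flp_i L806855) L817172
theorem L817178 : sm gd N61584 = N62513 := rfl
theorem L817180 : sm ga N62513 = N61585 := ded_12_1 (flp_d L806868) (flp_a L806864) L817178
theorem L817182 : sm gc N61585 = N62514 := rfl
theorem L817184 : sm gb N62514 = N62514 := ded_19_1 (flp_c L817182) L806870 L794867 (flp_b L806870) L817182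
theorem L817185 : sm ge N61586 = N62515 := rfl
theorem L817187 : sm ga N62515 = N61587 := ded_13_1 (flp_e L806878) L806872 L817185
theorem L817189 : sm gd N61587 = N62516 := rfl
theorem L817191 : sm gb N62516 = N61588 := ded_20_1 (flp_d L806882) (flp_b L806880) L817189
theorem L817193 : sm ge N62516 = N61593 := ded_34_2 (flp_d L806913) (flp_e L794937) (flp_d L794898) L806878 L817189
theorem L817195 : sm gf N61587 = N62517 := rfl
theorem L817197 : sm gb N62517 = N61589 := ded_22_1 (flp_f L806887) (flp_b L806880) L817195
theorem L817199 : sm ge N62517 = N61591 := ded_40_1 (flp_f L806901) (flp_e L794917) (flp_f L794900) L806878 L817195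
theorem L817201 : sm gf N61590 = N62518 := rfl
theorem L817203 : sm ga N62518 = N61591 := ded_14_1 (flp_f L806901) (flp_a L806895) L817201
theorem L817205 : sm gd N62518 = N61633 := ded_35_1 (flp_f L807220) (flp_d L806899) L817201
theorem L817207 : sm gd N61592 = N62519 := rfl
theorem L817209 : sm ga N62519 = N61593 := ded_12_1 (flp_d L806913) (flp_a L806909) L817207
theorem L817211 : sm gc N61593 = N62520 := rfl
theorem L817213 : sm gb N62520 = N62520 := ded_19_1 (flp_c L817211) L806915 L794945 (flp_b L806915) L817211
theorem L817214 : sm gd N62520 = N61750 := ded_27_2 (flp_c L808007) (flp_d L796374) (flp_c L794941) L806913 L817211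
theorem L817216 : sm gh N61593 = N62521 := rfl
theorem L817218 : sm gb N62521 = N61594 := ded_25_1 (flp_h L806917) (flp_b L806915) L817216
theorem L817220 : sm gi N61594 = N62522 := rfl
theorem L817222 : sm gc N62522 = N62522 := ded_33_1 (flp_i L817220) L806919 L817220
theorem L817223 : sm ge N61595 = N62523 := rfl
theorem L817225 : sm ga N62523 = N61596 := ded_13_1 (flp_e L806932) L806920 L817223
theorem L817227 : sm gc N62523 = N61610 := ded_28_1 (flp_e L807049) (flp_c L806922) L817223
theorem L817229 : sm gj N62523 = N61622 := ded_42_2 (flp_e L807146) (flp_j L806928) L817223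
theorem L817231 : sm gi N62523 = N61713 := ded_44_2 (flp_e L807770) (flp_i L806930) L817223
theorem L817233 : sm ga N61598 = N62524 := rfl
theorem L817235 : sm gd N62524 = N61670 := ded_12_2 (flp_a L807479) (flp_d L806954) L817233
theorem L817237 : sm gf N62524 = N61603 := ded_14_2 (flp_a L806999) (flp_f L806956) L817233
theorem L817239 : sm gj N62524 = N61626 := ded_16_2 (flp_a L807181) (flp_j L806958) L817233
theorem L817241 : sm gh N62524 = N61715 := ded_17_2 (flp_a L807780) (flp_h L806960) L817233
theorem L817243 : sm gi N62524 = N61600 := ded_18_2 (flp_a L806974) (flp_i L806962) L817233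
theorem L817245 : sm ge N61598 = N62525 := rfl
theorem L817247 : sm gb N62525 = N61599 := ded_21_1 (flp_e L806964) L806952 L817245
theorem L817249 : sm gj N62525 = N61627 := ded_42_2 (flp_e L807187) (flp_j L806958) L817245
theorem L817251 : sm gh N62525 = N61716 := ded_43_2 (flp_e L807786) (flp_h L806960) L817245
theorem L817253 : sm gi N62525 = N61601 := ded_44_2 (flp_e L806984) (flp_i L806962) L817245
theorem L817255 : sm gd N61599 = N62526 := rfl
theorem L817257 : sm gj N62526 = N61628 := ded_37_2 (flp_d L807193) (flp_j L806968) L817255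
theorem L817259 : sm gi N62526 = N61602 := ded_39_2 (flp_d L806992) (flp_i L806972) L817255
theorem L817261 : sm gc N62526 = N62526 := ded_27_1 (flp_d L817255) L806966 L795004 (flp_c L806966) L817255
theorem L817262 : sm ge N62526 = N61672 := ded_34_2 (flp_d L807493) (flp_e L795614) (flp_d L794994) L806964 L817255
theorem L817264 : sm ge N61600 = N62527 := rfl
theorem L817266 : sm ga N62527 = N61601 := ded_13_1 (flp_e L806984) L806974 L817264
theorem L817268 : sm gj N62527 = N61629 := ded_42_2 (flp_e L807198) (flp_j L806980) L817264
theorem L817270 : sm gh N62527 = N61610 := ded_43_2 (flp_e L807049) (flp_h L806982) L817264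
theorem L817272 : sm gd N61601 = N62528 := rfl
theorem L817274 : sm gb N62528 = N61602 := ded_20_1 (flp_d L806992) (flp_b L806986) L817272
theorem L817276 : sm gj N62528 = N61630 := ded_37_2 (flp_d L807204) (flp_j L806988) L817272
theorem L817278 : sm ge N62528 = N61674 := ded_34_2 (flp_d L807504) (flp_e L795626) (flp_d L795007) L806984 L817272
theorem L817280 : sm ge N61603 = N62529 := rfl
theorem L817282 : sm ga N62529 = N61604 := ded_13_1 (flp_e L807005) L806999 L817280
theorem L817284 : sm gj N62529 = N61631 := ded_42_2 (flp_e L807208) (flp_j L807001) L817280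
theorem L817286 : sm gi N62529 = N61607 := ded_44_2 (flp_e L807027) (flp_i L807003) L817280
theorem L817288 : sm gf N61604 = N62530 := rfl
theorem L817290 : sm gb N62530 = N61605 := ded_22_1 (flp_f L807013) (flp_b L807007) L817288
theorem L817292 : sm gj N62530 = N61632 := ded_46_2 (flp_f L807214) (flp_j L807009) L817288
theorem L817294 : sm gi N62530 = N61608 := ded_48_2 (flp_f L807035) (flp_i L807011) L817288
theorem L817296 : sm gg N61605 = N62531 := rfl
theorem L817298 : sm gc N62531 = N61606 := ded_30_1 (flp_g L807021) (flp_c L807015) L817296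
theorem L817300 : sm gi N62531 = N61609 := ded_51_2 (flp_g L807043) (flp_i L807019) L817296
theorem L817302 : sm gf N61607 = N62532 := rfl
theorem L817304 : sm ga N62532 = N61608 := ded_14_1 (flp_f L807035) (flp_a L807029) L817302
theorem L817306 : sm gj N62532 = N61633 := ded_46_2 (flp_f L807220) (flp_j L807031) L817302
theorem L817308 : sm gh N62532 = N61611 := ded_47_2 (flp_f L807057) (flp_h L807033) L817302
theorem L817310 : sm gg N61608 = N62533 := rfl
theorem L817312 : sm gb N62533 = N61609 := ded_23_1 (flp_g L807043) (flp_b L807037) L817310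
theorem L817314 : sm gh N62533 = N61612 := ded_50_2 (flp_g L807063) (flp_h L807041) L817310
theorem L817316 : sm gg N61611 = N62534 := rfl
theorem L817318 : sm ga N62534 = N61612 := ded_15_1 (flp_g L807063) (flp_a L807059) L817316
theorem L817320 : sm ge N61613 = N62535 := rfl
theorem L817322 : sm ga N62535 = N61614 := ded_13_1 (flp_e L807081) L807067 L817320
theorem L817324 : sm gb N62535 = N61622 := ded_21_1 (flp_e L807146) (flp_b L807079) L817320
theorem L817326 : sm gc N62535 = N61744 := ded_28_1 (flp_e L807973) (flp_c L807069) L817320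
theorem L817328 : sm gg N62535 = N61728 := ded_41_2 (flp_e L807858) (flp_g L807075) L817320
theorem L817330 : sm gi N62535 = N61757 := ded_44_2 (flp_e L808064) (flp_i L807077) L817320
theorem L817332 : sm ge N61615 = N62536 := rfl
theorem L817334 : sm ga N62536 = N61616 := ded_13_1 (flp_e L807099) L807091 L817332
theorem L817336 : sm gc N62536 = N61629 := ded_28_1 (flp_e L807198) (flp_c L807093) L817332
theorem L817338 : sm gh N62536 = N61622 := ded_43_2 (flp_e L807146) (flp_h L807097) L817332
theorem L817340 : sm gd N61616 = N62537 := rfl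
theorem L817342 : sm gb N62537 = N61617 := ded_20_1 (flp_d L807107) (flp_b L807101) L817340
theorem L817344 : sm ge N61618 = N62538 := rfl
theorem L817346 : sm ga N62538 = N61619 := ded_13_1 (flp_e L807116) L807110 L817344
theorem L817348 : sm gc N62538 = N61631 := ded_28_1 (flp_e L807208) (flp_c L807112) L817344
theorem L817350 : sm gi N62538 = N61620 := ded_44_2 (flp_e L807124) (flp_i L807114) L817344
theorem L817352 : sm ge N61623 = N62539 := rfl
theorem L817354 : sm ga N62539 = N61624 := ded_13_1 (flp_e L807164) L807152 L817352
theorem L817356 : sm gb N62539 = N61745 := ded_21_1 (flp_e L807981) (flp_b L807162) L817352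
theorem L817358 : sm gg N62539 = N61629 := ded_41_2 (flp_e L807198) (flp_g L807158) L817352
theorem L817360 : sm gh N62539 = N61636 := ded_43_2 (flp_e L807238) (flp_h L807160) L817352
theorem L817362 : sm gd N61624 = N62540 := rfl
theorem L817364 : sm gb N62540 = N61625 := ded_20_1 (flp_d L807172) (flp_b L807166) L817362
theorem L817366 : sm gg N62540 = N61630 := ded_36_2 (flp_d L807204) (flp_g L807168) L817362
theorem L817368 : sm ge N62540 = N61708 := ded_34_2 (flp_d L807736) (flp_e L796005) (flp_d L795209) L807164 L817362
theorem L817370 : sm ge N61626 = N62541 := rfl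
theorem L817372 : sm ga N62541 = N61627 := ded_13_1 (flp_e L807187) L807181 L817370
theorem L817374 : sm gi N62541 = N61629 := ded_44_2 (flp_e L807198) (flp_i L807185) L817370
theorem L817376 : sm gd N61627 = N62542 := rfl
theorem L817378 : sm gb N62542 = N61628 := ded_20_1 (flp_d L807193) (flp_b L807189) L817376
theorem L817380 : sm gi N62542 = N61630 := ded_39_2 (flp_d L807204) (flp_i L807191) L817376
theorem L817382 : sm gd N61629 = N62543 := rfl
theorem L817384 : sm ga N62543 = N61630 := ded_12_1 (flp_d L807204) (flp_a L807200) L817382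
theorem L817386 : sm gc N61630 = N62544 := rfl
theorem L817388 : sm gb N62544 = N62544 := ded_19_1 (flp_c L817386) L807206 L795253 (flp_b L807206) L817386
theorem L817389 : sm gf N61631 = N62545 := rfl
theorem L817391 : sm ga N62545 = N61632 := ded_14_1 (flp_f L807214) (flp_a L807210) L817389
theorem L817393 : sm gi N62545 = N61633 := ded_48_2 (flp_f L807220) (flp_i L807212) L817389
theorem L817395 : sm ge N61634 = N62546 := rfl
theorem L817397 : sm ga N62546 = N61635 := ded_13_1 (flp_e L807232) L807226 L817395
theorem L817399 : sm gj N62546 = N61636 := ded_42_2 (flp_e L807238) (flp_j L807230) L817395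
theorem L817401 : sm gf N61637 = N62547 := rfl
theorem L817403 : sm ga N62547 = N61638 := ded_14_1 (flp_f L807252) (flp_a L807246) L817401
theorem L817405 : sm gb N62547 = N61662 := ded_22_1 (flp_f L807420) (flp_b L807248) L817401
theorem L817407 : sm gd N62547 = N61668 := ded_35_1 (flp_f L807465) (flp_d L807250) L817401
theorem L817409 : sm ga N61639 = N62548 := rfl
theorem L817411 : sm gg N62548 = N61696 := ded_15_2 (flp_a L807652) (flp_g L807260) L817409
theorem L817413 : sm gh N62548 = N61655 := ded_17_2 (flp_a L807376) (flp_h L807262) L817409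
theorem L817415 : sm gi N62548 = N61642 := ded_18_2 (flp_a L807283) (flp_i L807264) L817409
theorem L817417 : sm ge N61639 = N62549 := rfl
theorem L817419 : sm gb N62549 = N61640 := ded_21_1 (flp_e L807266) L807258 L817417
theorem L817421 : sm gg N62549 = N61697 := ded_41_2 (flp_e L807660) (flp_g L807260) L817417
theorem L817423 : sm gh N62549 = N61656 := ded_43_2 (flp_e L807384) (flp_h L807262) L817417
theorem L817425 : sm gi N62549 = N61643 := ded_44_2 (flp_e L807287) (flp_i L807264) L817417
theorem L817427 : sm gd N61640 = N62550 := rfl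
theorem L817429 : sm gg N62550 = N61698 := ded_36_2 (flp_d L807668) (flp_g L807270) L817427
theorem L817431 : sm gi N62550 = N61644 := ded_39_2 (flp_d L807293) (flp_i L807274) L817427
theorem L817433 : sm gc N62550 = N62550 := ded_27_1 (flp_d L817427) L807268 L795394 (flp_c L807268) L817427
theorem L817434 : sm gf N61640 = N62551 := rfl
theorem L817436 : sm gc N62551 = N61641 := ded_29_1 (flp_f L807276) (flp_c L807268) L817434
theorem L817438 : sm gh N62551 = N61657 := ded_47_2 (flp_f L807392) (flp_h L807272) L817434
theorem L817440 : sm gi N62551 = N61645 := ded_48_2 (flp_f L807298) (flp_i L807274) L817434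
theorem L817442 : sm ge N61642 = N62552 := rfl
theorem L817444 : sm ga N62552 = N61643 := ded_13_1 (flp_e L807287) L807283 L817442
theorem L817446 : sm gh N62552 = N61646 := ded_43_2 (flp_e L807304) (flp_h L807285) L817442
theorem L817448 : sm gd N61643 = N62553 := rfl
theorem L817450 : sm gb N62553 = N61644 := ded_20_1 (flp_d L807293) (flp_b L807289) L817448
theorem L817452 : sm gh N62553 = N61674 := ded_38_2 (flp_d L807504) L795630 (flp_d L795422) (flp_h L807291) L817448
theorem L817454 : sm gf N61643 = N62554 := rfl
theorem L817456 : sm gb N62554 = N61645 := ded_22_1 (flp_f L807298) (flp_b L807289) L817454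
theorem L817458 : sm gh N62554 = N61647 := ded_47_2 (flp_f L807312) (flp_h L807291) L817454
theorem L817460 : sm gf N61646 = N62555 := rfl
theorem L817462 : sm ga N62555 = N61647 := ded_14_1 (flp_f L807312) (flp_a L807306) L817460
theorem L817464 : sm gd N62555 = N61675 := ded_35_1 (flp_f L807508) (flp_d L807310) L817460
theorem L817466 : sm gi N62555 = N61662 := ded_48_2 (flp_f L807420) (flp_i L807308) L817460
theorem L817468 : sm ga N61648 = N62556 := rfl
theorem L817470 : sm gd N62556 = N61689 := ded_12_2 (flp_a L807595) (flp_d L807322) L817468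
theorem L817472 : sm gf N62556 = N61655 := ded_14_2 (flp_a L807376) (flp_f L807324) L817468
theorem L817474 : sm gg N62556 = N61686 := ded_15_2 (flp_a L807578) (flp_g L807326) L817468
theorem L817476 : sm gi N62556 = N61651 := ded_18_2 (flp_a L807345) (flp_i L807328) L817468
theorem L817478 : sm ge N61648 = N62557 := rfl
theorem L817480 : sm gb N62557 = N61649 := ded_21_1 (flp_e L807330) L807320 L817478
theorem L817482 : sm gg N62557 = N61687 := ded_41_2 (flp_e L807584) (flp_g L807326) L817478
theorem L817484 : sm gi N62557 = N61652 := ded_44_2 (flp_e L807353) (flp_i L807328) L817478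
theorem L817486 : sm gd N61649 = N62558 := rfl
theorem L817488 : sm gg N62558 = N61688 := ded_36_2 (flp_d L807588) (flp_g L807334) L817486
theorem L817490 : sm gi N62558 = N61653 := ded_39_2 (flp_d L807359) (flp_i L807336) L817486
theorem L817492 : sm gc N62558 = N62558 := ded_27_1 (flp_d L817486) L807332 L795448 (flp_c L807332) L817486
theorem L817493 : sm ge N62558 = N61691 := ded_34_2 (flp_d L807615) (flp_e L795827) (flp_d L795440) L807330 L817486
theorem L817495 : sm gf N61649 = N62559 := rfl
theorem L817497 : sm gc N62559 = N61650 := ded_29_1 (flp_f L807338) (flp_c L807332) L817495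
theorem L817499 : sm gi N62559 = N61654 := ded_48_2 (flp_f L807368) (flp_i L807336) L817495
theorem L817501 : sm ge N62559 = N61657 := ded_40_1 (flp_f L807392) (flp_e L795478) (flp_f L795434) L807330 L817495
theorem L817503 : sm ge N61651 = N62560 := rfl
theorem L817505 : sm ga N62560 = N61652 := ded_13_1 (flp_e L807353) L807345 L817503
theorem L817507 : sm gh N62560 = N61660 := ded_43_2 (flp_e L807410) (flp_h L807351) L817503
theorem L817509 : sm gd N61652 = N62561 := rfl
theorem L817511 : sm gb N62561 = N61653 := ded_20_1 (flp_d L807359) (flp_b L807355) L817509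
theorem L817513 : sm gg N62561 = N61751 := ded_36_2 L812373 L812363 L817509
theorem L817515 : sm ge N62561 = N61705 := ded_34_2 (flp_d L807720) (flp_e L795968) (flp_d L795451) L807353 L817509
theorem L817517 : sm gh N62561 = N61748 := ded_38_2 (flp_d L807997) (flp_h L796843) L796847 (flp_h L807357) L817509
theorem L817519 : sm gf N61652 = N62562 := rfl
theorem L817521 : sm gb N62562 = N61654 := ded_22_1 (flp_f L807368) (flp_b L807355) L817519
theorem L817523 : sm gh N62562 = N61661 := ded_47_2 (flp_f L807414) (flp_h L807357) L817519
theorem L817525 : sm ge N62562 = N61659 := ded_40_1 (flp_f L807404) (flp_e L795498) (flp_f L795453) L807353 L817519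
theorem L817527 : sm ge N61655 = N62563 := rfl
theorem L817529 : sm ga N62563 = N61656 := ded_13_1 (flp_e L807384) L807376 L817527
theorem L817531 : sm gg N62563 = N61699 := ded_41_2 (flp_e L807673) (flp_g L807380) L817527
theorem L817533 : sm gi N62563 = N61658 := ded_44_2 (flp_e L807398) (flp_i L807382) L817527
theorem L817535 : sm gf N61656 = N62564 := rfl
theorem L817537 : sm gb N62564 = N61657 := ded_22_1 (flp_f L807392) (flp_b L807386) L817535
theorem L817539 : sm gi N62564 = N61659 := ded_48_2 (flp_f L807404) (flp_i L807390) L817535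
theorem L817541 : sm gf N61658 = N62565 := rfl
theorem L817543 : sm ga N62565 = N61659 := ded_14_1 (flp_f L807404) (flp_a L807400) L817541
theorem L817545 : sm gh N62565 = N61662 := ded_47_2 (flp_f L807420) (flp_h L807402) L817541
theorem L817547 : sm gf N61660 = N62566 := rfl
theorem L817549 : sm ga N62566 = N61661 := ded_14_1 (flp_f L807414) (flp_a L807412) L817547
theorem L817551 : sm ge N62566 = N61662 := ded_40_1 (flp_f L807420) (flp_e L795526) (flp_f L795514) L807410 L817547
theorem L817553 : sm gg N61662 = N62567 := rfl
theorem L817555 : sm ga N62567 = N61663 := ded_15_1 (flp_g L807426) (flp_a L807422) L817553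
theorem L817557 : sm gd N62567 = N61683 := ded_36_1 (flp_g L807562) (flp_d L807424) L817553
theorem L817559 : sm ge N61664 = N62568 := rfl
theorem L817561 : sm ga N62568 = N61665 := ded_13_1 (flp_e L807442) L807432 L817559
theorem L817563 : sm gb N62568 = N61673 := ded_21_1 (flp_e L807498) (flp_b L807440) L817559
theorem L817565 : sm gj N62568 = N61747 := ded_42_2 (flp_e L807991) (flp_j L807436) L817559
theorem L817567 : sm gh N62568 = N61667 := ded_43_2 (flp_e L807457) (flp_h L807438) L817559
theorem L817569 : sm gd N61665 = N62569 := rfl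
theorem L817571 : sm gb N62569 = N61666 := ded_20_1 (flp_d L807450) (flp_b L807444) L817569
theorem L817573 : sm gj N62569 = N61748 := ded_37_2 (flp_d L807997) (flp_j L807446) L817569
theorem L817575 : sm ge N61670 = N62570 := rfl
theorem L817577 : sm ga N62570 = N61671 := ded_13_1 (flp_e L807485) L807479 L817575
theorem L817579 : sm gh N62570 = N61682 := ded_43_2 (flp_e L807556) (flp_h L807481) L817575
theorem L817581 : sm gi N62570 = N61673 := ded_44_2 (flp_e L807498) (flp_i L807483) L817575
theorem L817583 : sm gd N61671 = N62571 := rfl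
theorem L817585 : sm gb N62571 = N61672 := ded_20_1 (flp_d L807493) (flp_b L807487) L817583
theorem L817587 : sm gi N62571 = N61674 := ded_39_2 (flp_d L807504) (flp_i L807491) L817583
theorem L817589 : sm gd N61673 = N62572 := rfl
theorem L817591 : sm ga N62572 = N61674 := ded_12_1 (flp_d L807504) (flp_a L807500) L817589
theorem L817593 : sm gc N61674 = N62573 := rfl
theorem L817595 : sm gb N62573 = N62573 := ded_19_1 (flp_c L817593) L807506 L795634 (flp_b L807506) L817593
theorem L817596 : sm ge N61684 = N62574 := rfl
theorem L817598 : sm ga N62574 = N61685 := ded_13_1 (flp_e L807572) L807566 L817596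
theorem L817600 : sm gb N62574 = N61692 := ded_21_1 (flp_e L807622) (flp_b L807570) L817596
theorem L817602 : sm gf N62574 = N61707 := ded_40_2 (flp_e L807730) L796001 (flp_e L795787) (flp_f L807568) L817596
theorem L817604 : sm ge N61686 = N62575 := rfl
theorem L817606 : sm ga N62575 = N61687 := ded_13_1 (flp_e L807584) L807578 L817604
theorem L817608 : sm gd N61687 = N62576 := rfl
theorem L817610 : sm gb N62576 = N61688 := ded_20_1 (flp_d L807588) (flp_b L807586) L817608
theorem L817612 : sm gi N62576 = N61751 := ded_39_2 L812373 L812369 L817608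
theorem L817614 : sm ge N62576 = N61693 := ded_34_2 (flp_d L807628) (flp_e L795839) (flp_d L795803) L807584 L817608
theorem L817616 : sm ge N61689 = N62577 := rfl
theorem L817618 : sm ga N62577 = N61690 := ded_13_1 (flp_e L807605) L807595 L817616
theorem L817620 : sm gc N62577 = N61707 := ded_28_1 (flp_e L807730) (flp_c L807597) L817616
theorem L817622 : sm gg N62577 = N61692 := ded_41_2 (flp_e L807622) (flp_g L807601) L817616
theorem L817624 : sm gi N62577 = N61704 := ded_44_2 (flp_e L807714) (flp_i L807603) L817616
theorem L817626 : sm gd N61690 = N62578 := rfl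
theorem L817628 : sm gb N62578 = N61691 := ded_20_1 (flp_d L807615) (flp_b L807607) L817626
theorem L817630 : sm gg N62578 = N61693 := ded_36_2 (flp_d L807628) (flp_g L807611) L817626
theorem L817632 : sm gi N62578 = N61705 := ded_39_2 (flp_d L807720) (flp_i L807613) L817626
theorem L817634 : sm gd N61692 = N62579 := rfl
theorem L817636 : sm ga N62579 = N61693 := ded_12_1 (flp_d L807628) (flp_a L807624) L817634
theorem L817638 : sm gf N62579 = N61749 := ded_35_2 (flp_d L808003) (flp_f L807626) L817634
theorem L817640 : sm gc N61693 = N62580 := rfl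
theorem L817642 : sm gf N62580 = N61750 := ded_29_2 (flp_c L808007) (flp_f L807632) L817640
theorem L817644 : sm gb N62580 = N62580 := ded_19_1 (flp_c L817640) L807630 L795849 (flp_b L807630) L817640
theorem L817645 : sm ge N61694 = N62581 := rfl
theorem L817647 : sm ga N62581 = N61695 := ded_13_1 (flp_e L807644) L807634 L817645
theorem L817649 : sm gc N62581 = N61699 := ded_28_1 (flp_e L807673) (flp_c L807636) L817645
theorem L817651 : sm gj N62581 = N61703 := ded_42_2 (flp_e L807708) (flp_j L807642) L817645
theorem L817653 : sm ge N61696 = N62582 := rfl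
theorem L817655 : sm ga N62582 = N61697 := ded_13_1 (flp_e L807660) L807652 L817653
theorem L817657 : sm gj N62582 = N61704 := ded_42_2 (flp_e L807714) (flp_j L807656) L817653
theorem L817659 : sm gh N62582 = N61699 := ded_43_2 (flp_e L807673) (flp_h L807658) L817653
theorem L817661 : sm gd N61697 = N62583 := rfl
theorem L817663 : sm gb N62583 = N61698 := ded_20_1 (flp_d L807668) (flp_b L807662) L817661
theorem L817665 : sm gj N62583 = N61705 := ded_37_2 (flp_d L807720) (flp_j L807664) L817661
theorem L817667 : sm ge N61700 = N62584 := rfl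
theorem L817669 : sm ga N62584 = N61701 := ded_13_1 (flp_e L807691) L807679 L817667
theorem L817671 : sm gb N62584 = N61721 := ded_21_1 (flp_e L807819) (flp_b L807689) L817667
theorem L817673 : sm gc N62584 = N61704 := ded_28_1 (flp_e L807714) (flp_c L807681) L817667
theorem L817675 : sm gh N62584 = N61703 := ded_43_2 (flp_e L807708) (flp_h L807685) L817667
theorem L817677 : sm gi N62584 = N61707 := ded_44_2 (flp_e L807730) (flp_i L807687) L817667
theorem L817679 : sm gd N61701 = N62585 := rfl
theorem L817681 : sm gb N62585 = N61702 := ded_20_1 (flp_d L807701) (flp_b L807693) L817679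
theorem L817683 : sm gi N62585 = N61708 := ded_39_2 (flp_d L807736) (flp_i L807699) L817679
theorem L817685 : sm gd N61704 = N62586 := rfl
theorem L817687 : sm ga N62586 = N61705 := ded_12_1 (flp_d L807720) (flp_a L807716) L817685
theorem L817689 : sm gc N61705 = N62587 := rfl
theorem L817691 : sm gb N62587 = N62587 := ded_19_1 (flp_c L817689) L807722 L795976 (flp_b L807722) L817689
theorem L817692 : sm gd N61707 = N62588 := rfl
theorem L817694 : sm ga N62588 = N61708 := ded_12_1 (flp_d L807736) (flp_a L807732) L817692
theorem L817696 : sm gb N62588 = N61749 := ded_20_1 (flp_d L808003) (flp_b L807734) L817692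
theorem L817698 : sm gc N61708 = N62589 := rfl
theorem L817700 : sm gb N62589 = N62589 := ded_19_1 (flp_c L817698) L807738 L796013 (flp_b L807738) L817698
theorem L817701 : sm ge N61709 = N62590 := rfl
theorem L817703 : sm ga N62590 = N61710 := ded_13_1 (flp_e L807748) L807740 L817701
theorem L817705 : sm gb N62590 = N61713 := ded_21_1 (flp_e L807770) (flp_b L807746) L817701
theorem L817707 : sm gc N62590 = N61765 := ded_28_1 L808124 (flp_c L807742) L817701
theorem L817709 : sm gj N62590 = N61757 := ded_42_2 (flp_e L808064) (flp_j L807744) L817701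
theorem L817711 : sm ge N61711 = N62591 := rfl
theorem L817713 : sm ga N62591 = N61712 := ded_13_1 (flp_e L807762) L807756 L817711
theorem L817715 : sm gc N62591 = N61717 := ded_28_1 (flp_e L807792) (flp_c L807758) L817711
theorem L817717 : sm gh N62591 = N61713 := ded_43_2 (flp_e L807770) (flp_h L807760) L817711
theorem L817719 : sm gd N61713 = N62592 := rfl
theorem L817721 : sm ga N62592 = N61714 := ded_12_1 (flp_d L807776) (flp_a L807772) L817719
theorem L817723 : sm ge N61715 = N62593 := rfl
theorem L817725 : sm ga N62593 = N61716 := ded_13_1 (flp_e L807786) L807780 L817723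
theorem L817727 : sm gi N62593 = N61717 := ded_44_2 (flp_e L807792) (flp_i L807784) L817723
theorem L817729 : sm ge N61718 = N62594 := rfl
theorem L817731 : sm ga N62594 = N61719 := ded_13_1 (flp_e L807806) L807798 L817729
theorem L817733 : sm gi N62594 = N61745 := ded_44_2 (flp_e L807981) (flp_i L807804) L817729
theorem L817735 : sm gd N61719 = N62595 := rfl
theorem L817737 : sm gb N62595 = N61720 := ded_20_1 (flp_d L807812) (flp_b L807808) L817735
theorem L817739 : sm gi N62595 = N61746 := ded_39_2 (flp_d L807985) (flp_i L807810) L817735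
theorem L817741 : sm ge N62595 = N61722 := ded_34_2 (flp_d L807825) (flp_e L796134) (flp_d L796108) L807806 L817735
theorem L817743 : sm gd N61721 = N62596 := rfl
theorem L817745 : sm ga N62596 = N61722 := ded_12_1 (flp_d L807825) (flp_a L807821) L817743
theorem L817747 : sm gi N62596 = N61749 := ded_39_2 (flp_d L808003) (flp_i L807823) L817743
theorem L817749 : sm gc N61722 = N62597 := rfl
theorem L817751 : sm gi N62597 = N61750 := ded_33_2 (flp_c L808007) (flp_i L807829) L817749
theorem L817753 : sm gb N62597 = N62597 := ded_19_1 (flp_c L817749) L807827 L796144 (flp_b L807827) L817749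
theorem L817754 : sm ge N61723 = N62598 := rfl
theorem L817756 : sm ga N62598 = N61724 := ded_13_1 (flp_e L807835) L807831 L817754
theorem L817758 : sm ge N61725 = N62599 := rfl
theorem L817760 : sm ga N62599 = N61726 := ded_13_1 (flp_e L807847) L807839 L817758
theorem L817762 : sm gc N62599 = N61740 := ded_28_1 (flp_e L807945) (flp_c L807841) L817758
theorem L817764 : sm gh N62599 = N61728 := ded_43_2 (flp_e L807858) (flp_h L807845) L817758
theorem L817766 : sm gd N61726 = N62600 := rfl
theorem L817768 : sm gb N62600 = N61727 := ded_20_1 (flp_d L807855) (flp_b L807849) L817766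
theorem L817770 : sm gh N61727 = N62601 := rfl
theorem L817772 : sm gc N62601 = N62601 := ded_32_1 (flp_h L817770) L807857 L817770
theorem L817773 : sm gf N62601 = N61736 := ded_47_1 (flp_h L810038) L810027 L817770
theorem L817775 : sm gd N62601 = N61730 := ded_38_1 (flp_h L807874) (flp_d L796211) (flp_h L796187) L807855 L817770
theorem L817777 : sm gd N61728 = N62602 := rfl
theorem L817779 : sm ga N62602 = N61729 := ded_12_1 (flp_d L807866) (flp_a L807860) L817777
theorem L817781 : sm gf N62602 = N61744 := ded_35_2 (flp_d L810054) L810056 L817777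
theorem L817783 : sm gi N62602 = N61758 := ded_39_2 (flp_d L808072) (flp_i L807864) L817777
theorem L817785 : sm gh N61729 = N62603 := rfl
theorem L817787 : sm gb N62603 = N61730 := ded_25_1 (flp_h L807874) (flp_b L807868) L817785
theorem L817789 : sm gf N62603 = N61735 := ded_47_1 L807917 (flp_f L807870) L817785
theorem L817791 : sm gi N61730 = N62604 := rfl
theorem L817793 : sm gc N62604 = N61733 := ded_33_1 L807903 (flp_c L807876) L817791
theorem L817795 : sm gf N62604 = N61732 := ded_48_1 L807896 (flp_f L807878) L817791
theorem L817797 : sm gh N62604 = N61760 := ded_54_1 (flp_i L808084) (flp_h L796493) (flp_i L796215) L807874 L817791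
theorem L817799 : sm ga N61731 = N62605 := rfl
theorem L817801 : sm gg N62605 = N61737 := ded_15_2 (flp_a L807924) (flp_g L807882) L817799
theorem L817803 : sm gh N62605 = N61761 := ded_17_2 (flp_a L808090) (flp_h L807884) L817799
theorem L817805 : sm gi N62605 = N61734 := ded_18_2 (flp_a L807905) (flp_i L807886) L817799
theorem L817807 : sm ge N61731 = N62606 := rfl
theorem L817809 : sm gb N62606 = N61732 := ded_21_1 (flp_e L807888) L807880 L817807
theorem L817811 : sm gg N62606 = N61738 := ded_41_2 (flp_e L807932) (flp_g L807882) L817807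
theorem L817813 : sm gh N62606 = N61762 := ded_43_2 (flp_e L808096) (flp_h L807884) L817807
theorem L817815 : sm gi N62606 = N61735 := ded_44_2 (flp_e L807911) (flp_i L807886) L817807
theorem L817817 : sm gd N61732 = N62607 := rfl
theorem L817819 : sm gg N62607 = N61739 := ded_36_2 (flp_d L807940) (flp_g L807892) L817817
theorem L817821 : sm gi N62607 = N61736 := ded_39_2 (flp_d L807919) (flp_i L807896) L817817
theorem L817823 : sm gc N62607 = N62607 := ded_27_1 (flp_d L817817) L807890 L796235 (flp_c L807890) L817817
theorem L817824 : sm ge N61734 = N62608 := rfl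
theorem L817826 : sm ga N62608 = N61735 := ded_13_1 (flp_e L807911) L807905 L817824
theorem L817828 : sm gg N62608 = N61740 := ded_41_2 (flp_e L807945) (flp_g L807907) L817824
theorem L817830 : sm gh N62608 = N61744 := ded_43_2 (flp_e L807973) (flp_h L807909) L817824
theorem L817832 : sm gd N61735 = N62609 := rfl
theorem L817834 : sm gb N62609 = N61736 := ded_20_1 (flp_d L807919) (flp_b L807913) L817832
theorem L817836 : sm gg N62609 = N61741 := ded_36_2 (flp_d L807951) (flp_g L807915) L817832
theorem L817838 : sm ge N61737 = N62610 := rfl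
theorem L817840 : sm ga N62610 = N61738 := ded_13_1 (flp_e L807932) L807924 L817838
theorem L817842 : sm gh N62610 = N61764 := ded_43_2 (flp_e L808112) (flp_h L807928) L817838
theorem L817844 : sm gi N62610 = N61740 := ded_44_2 (flp_e L807945) (flp_i L807930) L817838
theorem L817846 : sm gd N61738 = N62611 := rfl
theorem L817848 : sm gb N62611 = N61739 := ded_20_1 (flp_d L807940) (flp_b L807934) L817846
theorem L817850 : sm gi N62611 = N61741 := ded_39_2 (flp_d L807951) (flp_i L807938) L817846
theorem L817852 : sm gd N61740 = N62612 := rfl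
theorem L817854 : sm ga N62612 = N61741 := ded_12_1 (flp_d L807951) (flp_a L807947) L817852
theorem L817856 : sm gc N61741 = N62613 := rfl
theorem L817858 : sm gb N62613 = N62613 := ded_19_1 (flp_c L817856) L807953 L796285 (flp_b L807953) L817856
theorem L817859 : sm ge N61742 = N62614 := rfl
theorem L817861 : sm ga N62614 = N61743 := ded_13_1 (flp_e L807963) L807955 L817859
theorem L817863 : sm gj N62614 = N61744 := ded_42_2 (flp_e L807973) (flp_j L807959) L817859
theorem L817865 : sm gi N62614 = N61765 := ded_44_2 L808124 (flp_i L807961) L817859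
theorem L817867 : sm gd N62614 = N61764 := ded_34_1 (flp_e L808112) (flp_d L798548) L798550 (flp_d L807957) L817859
theorem L817869 : sm gd N61745 = N62615 := rfl
theorem L817871 : sm ga N62615 = N61746 := ded_12_1 (flp_d L807985) (flp_a L807983) L817869
theorem L817873 : sm ge N62615 = N61749 := ded_34_2 (flp_d L808003) (flp_e L796370) (flp_d L796340) L807981 L817869
theorem L817875 : sm gc N61746 = N62616 := rfl
theorem L817877 : sm ge N62616 = N61750 := ded_28_2 (flp_c L808007) (flp_e L807989) L817875
theorem L817879 : sm gb N62616 = N62616 := ded_19_1 (flp_c L817875) L807987 L796350 (flp_b L807987) L817875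
theorem L817880 : sm gd N61747 = N62617 := rfl
theorem L817882 : sm ga N62617 = N61748 := ded_12_1 (flp_d L807997) (flp_a L807993) L817880
theorem L817884 : sm gg N62617 = N61749 := ded_36_2 (flp_d L808003) (flp_g L807995) L817880
theorem L817886 : sm gc N61748 = N62618 := rfl
theorem L817888 : sm gg N62618 = N61750 := ded_30_2 (flp_c L808007) (flp_g L808001) L817886
theorem L817890 : sm gb N62618 = N62618 := ded_19_1 (flp_c L817886) L807999 L796369 (flp_b L807999) L817886
theorem L817891 : sm gc N61749 = N62619 := rfl
theorem L817893 : sm ga N62619 = N61750 := ded_11_1 (flp_c L808007) (flp_a L808005) L817891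
theorem L817895 : sm gh N61749 = N62620 := rfl
theorem L817897 : sm ga N62620 = N61751 := ded_17_1 (flp_h L808010) (flp_a L808005) L817895
theorem L817899 : sm gh N61750 = N62621 := rfl
theorem L817901 : sm gb N62621 = N62621 := ded_25_1 (flp_h L817899) L808009 L817899
theorem L817902 : sm gc N62621 = N61751 := ded_32_1 (flp_h L808010) L808007 L817899
theorem L817904 : sm gd N61752 = N62622 := rfl
theorem L817906 : sm ga N62622 = N61753 := ded_12_1 (flp_d L808026) (flp_a L808016) L817904
theorem L817908 : sm gf N62622 = N61765 := ded_35_2 (flp_d L808118) (flp_f L808024) L817904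
theorem L817910 : sm gj N62622 = N61758 := ded_37_2 (flp_d L808072) (flp_j L808020) L817904
theorem L817912 : sm gg N61754 = N62623 := rfl
theorem L817914 : sm ga N62623 = N61755 := ded_15_1 (flp_g L808046) (flp_a L808036) L817912
theorem L817916 : sm gc N62623 = N61763 := ded_30_1 L808108 (flp_c L808038) L817912
theorem L817918 : sm ge N62623 = N61756 := ded_41_1 (flp_g L808056) (flp_e L808044) L817912
theorem L817920 : sm gh N62623 = N61757 := ded_50_2 L808070 (flp_h L808042) L817912
theorem L817922 : sm gh N61758 = N62624 := rfl
theorem L817924 : sm ga N62624 = N61759 := ded_17_1 (flp_h L808078) (flp_a L808074) L817922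
theorem L817926 : sm gf N62624 = N61763 := ded_47_1 L808110 (flp_f L808076) L817922
theorem L817928 : sm gi N61759 = N62625 := rfl
theorem L817930 : sm gb N62625 = N61760 := ded_26_1 (flp_i L808084) (flp_b L808080) L817928
theorem L817932 : sm gf N62625 = N61762 := ded_48_1 L808102 (flp_f L808082) L817928
theorem L817934 : sm ge N61761 = N62626 := rfl
theorem L817936 : sm ga N62626 = N61762 := ded_13_1 (flp_e L808096) L808090 L817934
theorem L817938 : sm gg N62626 = N61764 := ded_41_2 (flp_e L808112) (flp_g L808092) L817934
theorem L817940 : sm gi N62626 = N61763 := ded_44_2 (flp_e L808104) (flp_i L808094) L817934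
theorem L817942 : sm ge N61766 = N62627 := rfl
theorem L817944 : sm ga N62627 = N61767 := ded_13_1 (flp_e L808144) L808126 L817942
theorem L817946 : sm gb N62627 = N62154 := ded_21_1 (flp_e L813542) (flp_b L808142) L817942
theorem L817948 : sm gc N62627 = N62046 := ded_28_1 (flp_e L812201) (flp_c L808128) L817942
theorem L817950 : sm gg N62627 = N62082 := ded_41_2 (flp_e L812729) (flp_g L808134) L817942
theorem L817952 : sm gj N62627 = N62201 := ded_42_2 (flp_e L814051) (flp_j L808136) L817942
theorem L817954 : sm gh N62627 = N62469 := ded_43_2 (flp_e L816777) (flp_h L808138) L817942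
theorem L817956 : sm gi N62627 = N61770 := ded_44_2 (flp_e L808202) (flp_i L808140) L817942
theorem L817958 : sm gd N62627 = N62566 := ded_34_1 L817551 L807424 (flp_e L802984) (flp_d L808130) L817942
theorem L817960 : sm gf N62627 = N61774 := ded_40_2 (flp_e L808268) L796821 (flp_e L796617) (flp_f L808132) L817942
theorem L817962 : sm gd N61770 = N62628 := rfl
theorem L817964 : sm ga N62628 = N61771 := ded_12_1 (flp_d L808218) (flp_a L808204) L817962
theorem L817966 : sm gb N62628 = N62180 := ded_20_1 L813866 (flp_b L808206) L817962
theorem L817968 : sm gf N62628 = N61777 := ded_35_2 (flp_d L808326) (flp_f L808216) L817962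
theorem L817970 : sm gg N62628 = N62095 := ded_36_2 (flp_d L812914) (flp_g L808210) L817962
theorem L817972 : sm gj N62628 = N62547 := ded_37_2 L817407 (flp_j L808212) L817962
theorem L817974 : sm gi N62628 = N62566 := ded_39_2 (flp_d L817958) L817956 L817962
theorem L817976 : sm gc N62628 = N62567 := ded_27_1 L817557 L812309 (flp_d L812295) (flp_c L808208) L817962
theorem L817978 : sm ge N62628 = N62555 := ded_34_2 L817464 (flp_e L808188) L808186 L808202 L817962
theorem L817980 : sm gh N61771 = N62629 := rfl
theorem L817982 : sm gb N62629 = N61772 := ded_25_1 (flp_h L808234) (flp_b L808220) L817980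
theorem L817984 : sm gc N62629 = N62272 := ded_32_1 L814868 (flp_c L808230) L817980
theorem L817986 : sm ge N62629 = N62554 := ded_43_1 L817458 (flp_e L808232) L817980
theorem L817988 : sm gf N62629 = N61779 := ded_47_1 (flp_h L808358) (flp_f L808222) L817980
theorem L817990 : sm gg N62629 = N62096 := ded_50_1 (flp_h L812926) (flp_g L808224) L817980
theorem L817992 : sm gj N62629 = N62215 := ded_52_1 L814197 (flp_j L808226) L817980
theorem L817994 : sm gd N62629 = N61872 := ded_38_1 (flp_h L809696) (flp_d L798151) (flp_h L796723) L808218 L817980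
theorem L817996 : sm gi N61772 = N62630 := rfl
theorem L817998 : sm ga N62630 = N62175 := ded_18_1 L813798 (flp_a L808236) L817996
theorem L818000 : sm gc N62630 = N61773 := ded_33_1 (flp_i L808250) (flp_c L808238) L817996
theorem L818002 : sm gd N62630 = N61873 := ded_39_1 (flp_i L809706) (flp_d L808248) L817996
theorem L818004 : sm ge N62630 = N62551 := ded_44_1 L817440 (flp_e L808240) L817996
theorem L818006 : sm gf N62630 = N61780 := ded_48_1 (flp_i L808372) (flp_f L808242) L817996
theorem L818008 : sm gg N62630 = N62097 := ded_51_1 (flp_i L812938) (flp_g L808244) L817996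
theorem L818010 : sm gj N62630 = N62032 := ded_53_1 L812003 (flp_j L808246) L817996
theorem L818012 : sm gh N62630 = N62559 := ded_54_1 L817499 L807372 (flp_i L796737) L808234 L817996
theorem L818014 : sm gc N61777 = N62631 := rfl
theorem L818016 : sm ga N62631 = N61778 := ded_11_1 (flp_c L808340) (flp_a L808328) L818014
theorem L818018 : sm ge N62631 = N62086 := ded_28_2 L812786 (flp_e L808338) L818014
theorem L818020 : sm gf N62631 = N62567 := ded_29_2 (flp_c L817976) L817968 L818014
theorem L818022 : sm gg N62631 = N62050 := ded_30_2 L812267 (flp_g L808332) L818014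
theorem L818024 : sm gj N62631 = N62152 := ded_31_2 L813530 (flp_j L808334) L818014
theorem L818026 : sm gi N62631 = N62167 := ded_33_2 L813695 (flp_i L808336) L818014
theorem L818028 : sm gb N62631 = N62087 := ded_19_1 L812806 L801732 (flp_c L802768) (flp_b L808330) L818014
theorem L818030 : sm gd N62631 = N62206 := ded_27_2 L814095 (flp_d L803004) (flp_c L796907) L808326 L818014
theorem L818032 : sm gh N62270 = N62631 := ded_17_0 L818016 (flp_h L808356) (flp_a L814852)
theorem L818034 : sm gh N61777 = N62632 := rfl
theorem L818036 : sm ga N62632 = N61779 := ded_17_1 (flp_h L808358) (flp_a L808328) L818034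
theorem L818038 : sm gb N62632 = N62176 := ded_25_1 L813812 (flp_b L808330) L818034
theorem L818040 : sm gc N62632 = N62270 := ded_32_1 L818032 (flp_c L818014) L818034
theorem L818042 : sm ge N62632 = N62168 := ded_43_1 L813711 (flp_e L808338) L818034
theorem L818044 : sm gg N62632 = N62224 := ded_50_1 L814310 (flp_g L808332) L818034
theorem L818046 : sm gj N62632 = N62214 := ded_52_1 L814187 (flp_j L808334) L818034
theorem L818048 : sm gd N62632 = N62013 := ded_38_1 (flp_h L811697) (flp_d L800357) (flp_h L796911) L808326 L818034
theorem L818050 : sm gi N61779 = N62633 := rfl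
theorem L818052 : sm gb N62633 = N61780 := ded_26_1 (flp_i L808372) (flp_b L808360) L818050
theorem L818054 : sm gc N62633 = N62248 := ded_33_1 L814599 (flp_c L808362) L818050
theorem L818056 : sm gd N62633 = N62014 := ded_39_1 (flp_i L811707) (flp_d L808370) L818050
theorem L818058 : sm ge N62633 = N61876 := ded_44_1 L809767 (flp_e L808364) L818050
theorem L818060 : sm gg N62633 = N61881 := ded_51_1 L809845 (flp_g L808366) L818050
theorem L818062 : sm gj N62633 = N62031 := ded_53_1 L811991 (flp_j L808368) L818050
theorem L818064 : sm gh N62633 = N62557 := ded_54_1 L817484 L807357 (flp_i L796921) L808358 L818050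
theorem L818066 : sm ga N61781 = N62634 := rfl
theorem L818068 : sm gc N62634 = N62211 := ded_11_2 (flp_a L814144) (flp_c L808402) L818066
theorem L818070 : sm gd N62634 = N62417 := ded_12_2 (flp_a L816303) (flp_d L808390) L818066
theorem L818072 : sm gf N62634 = N61783 := ded_14_2 (flp_a L808420) (flp_f L808392) L818066
theorem L818074 : sm gg N62634 = N62181 := ded_15_2 (flp_a L813872) (flp_g L808394) L818066
theorem L818076 : sm gj N62634 = N61800 := ded_16_2 (flp_a L808668) (flp_j L808396) L818066
theorem L818078 : sm gh N62634 = N61814 := ded_17_2 (flp_a L808880) (flp_h L808398) L818066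
theorem L818080 : sm gi N62634 = N61895 := ded_18_2 (flp_a L810076) (flp_i L808400) L818066
theorem L818082 : sm gb N62634 = N61944 := ded_10_2 (flp_a L810702) (flp_b L799245) (flp_a L796975) L808388 L818066
theorem L818084 : sm ge N61781 = N62635 := rfl
theorem L818086 : sm gb N62635 = N61782 := ded_21_1 (flp_e L808404) L808388 L818084
theorem L818088 : sm gc N62635 = N62212 := ded_28_1 (flp_e L814156) (flp_c L808402) L818084
theorem L818090 : sm gg N62635 = N62182 := ded_41_2 (flp_e L813880) (flp_g L808394) L818084
theorem L818092 : sm gj N62635 = N61801 := ded_42_2 (flp_e L808682) (flp_j L808396) L818084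
theorem L818094 : sm gh N62635 = N61815 := ded_43_2 (flp_e L808894) (flp_h L808398) L818084
theorem L818096 : sm gi N62635 = N61896 := ded_44_2 (flp_e L810090) (flp_i L808400) L818084
theorem L818098 : sm gf N62635 = N61918 := ded_40_2 (flp_e L810412) L798979 (flp_e L797010) (flp_f L808392) L818084
theorem L818100 : sm gd N61782 = N62636 := rfl
theorem L818102 : sm ga N62636 = N61946 := ded_12_1 (flp_d L810728) (flp_a L808406) L818100
theorem L818104 : sm gf N62636 = N61919 := ded_35_2 (flp_d L810424) (flp_f L808418) L818100
theorem L818106 : sm gg N62636 = N62183 := ded_36_2 (flp_d L813886) (flp_g L808410) L818100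
theorem L818108 : sm gj N62636 = N61802 := ded_37_2 (flp_d L808696) (flp_j L808412) L818100
theorem L818110 : sm gi N62636 = N61897 := ded_39_2 (flp_d L810102) (flp_i L808416) L818100
theorem L818112 : sm gc N62636 = N62636 := ded_27_1 (flp_d L818100) L808408 L797003 (flp_c L808408) L818100
theorem L818113 : sm ge N62636 = N62419 := ded_34_2 (flp_d L816319) (flp_e L805637) (flp_d L796987) L808404 L818100
theorem L818115 : sm ga N61784 = N62637 := rfl
theorem L818117 : sm gc N62637 = N61796 := ded_11_2 (flp_a L808622) (flp_c L808452) L818115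
theorem L818119 : sm gd N62637 = N61840 := ded_12_2 (flp_a L809244) (flp_d L808440) L818115
theorem L818121 : sm gf N62637 = N62114 := ded_14_2 (flp_a L813141) (flp_f L808442) L818115
theorem L818123 : sm gg N62637 = N61832 := ded_15_2 (flp_a L809126) (flp_g L808444) L818115
theorem L818125 : sm gj N62637 = N62265 := ded_16_2 (flp_a L814790) (flp_j L808446) L818115
theorem L818127 : sm gh N62637 = N62119 := ded_17_2 (flp_a L813177) (flp_h L808448) L818115
theorem L818129 : sm gi N62637 = N62465 := ded_18_2 (flp_a L816729) (flp_i L808450) L818115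
theorem L818131 : sm gb N62637 = N62388 := ded_10_2 (flp_a L816036) (flp_b L805375) (flp_a L797024) L808438 L818115
theorem L818133 : sm ge N61784 = N62638 := rfl
theorem L818135 : sm gb N62638 = N61785 := ded_21_1 (flp_e L808454) L808438 L818133
theorem L818137 : sm gc N62638 = N61797 := ded_28_1 (flp_e L808634) (flp_c L808452) L818133
theorem L818139 : sm gg N62638 = N61833 := ded_41_2 (flp_e L809142) (flp_g L808444) L818133
theorem L818141 : sm gj N62638 = N62266 := ded_42_2 (flp_e L814802) (flp_j L808446) L818133
theorem L818143 : sm gh N62638 = N62120 := ded_43_2 (flp_e L813187) (flp_h L808448) L818133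
theorem L818145 : sm gi N62638 = N62466 := ded_44_2 (flp_e L816741) (flp_i L808450) L818133
theorem L818147 : sm gd N61785 = N62639 := rfl
theorem L818149 : sm ga N62639 = N62364 := ded_12_1 L815810 (flp_a L808456) L818147
theorem L818151 : sm gg N62639 = N61834 := ded_36_2 (flp_d L809154) (flp_g L808460) L818147
theorem L818153 : sm gj N62639 = N62267 := ded_37_2 (flp_d L814812) (flp_j L808462) L818147
theorem L818155 : sm gi N62639 = N62452 := ded_39_2 L816597 (flp_i L808466) L818147
theorem L818157 : sm gc N62639 = N61787 := ded_27_1 (flp_d L808484) L797060 (flp_d L797052) (flp_c L808458) L818147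
theorem L818159 : sm ge N62639 = N61842 := ded_34_2 (flp_d L809270) (flp_e L797735) (flp_d L797036) L808454 L818147
theorem L818161 : sm gh N62325 = N62639 := ded_50_0 L818151 (flp_h L809168) L815399
theorem L818163 : sm gf N61785 = N62640 := rfl
theorem L818165 : sm ga N62640 = N62390 := ded_14_1 (flp_f L816060) (flp_a L808456) L818163
theorem L818167 : sm gc N62640 = N61786 := ded_29_1 (flp_f L808468) (flp_c L808458) L818163
theorem L818169 : sm gj N62640 = N61937 := ded_46_2 L810624 (flp_j L808462) L818163
theorem L818171 : sm gh N62640 = N62122 := ded_47_2 (flp_f L813204) (flp_h L808464) L818163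
theorem L818173 : sm gi N62640 = N62454 := ded_48_2 L816615 (flp_i L808466) L818163
theorem L818175 : sm ge N62640 = N62117 := ded_40_1 (flp_f L813164) (flp_e L801978) (flp_f L797026) L808454 L818163
theorem L818177 : sm gg N61786 = N62641 := rfl
theorem L818179 : sm ga N62641 = N62111 := ded_15_1 L813114 (flp_a L808470) L818177
theorem L818181 : sm gb N62641 = N61799 := ded_23_1 (flp_g L808658) (flp_b L808472) L818177
theorem L818183 : sm gd N62641 = N61789 := ded_36_1 (flp_g L808516) (flp_d L808474) L818177
theorem L818185 : sm ge N62641 = N62118 := ded_41_1 (flp_g L813170) (flp_e L808482) L818177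
theorem L818187 : sm gh N62641 = N62123 := ded_50_2 (flp_g L813212) (flp_h L808478) L818177
theorem L818189 : sm gi N62641 = N62300 := ded_51_2 L815163 (flp_i L808480) L818177
theorem L818191 : sm gf N62641 = N61836 := ded_45_1 (flp_g L809186) (flp_f L797653) (flp_g L797044) L808468 L818177
theorem L818193 : sm gj N62641 = N61913 := ded_49_2 (flp_g L810341) L798930 L799171 (flp_j L808476) L818177
theorem L818195 : sm gf N61787 = N62642 := rfl
theorem L818197 : sm ga N62642 = N62110 := ded_14_1 L813100 (flp_a L808486) L818195
theorem L818199 : sm gb N62642 = N61913 := ded_22_1 L810349 (flp_b L808488) L818195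
theorem L818201 : sm gd N62642 = N61788 := ded_35_1 (flp_f L808500) L808484 L818195
theorem L818203 : sm gj N62642 = N61799 := ded_46_2 L808666 (flp_j L808492) L818195
theorem L818205 : sm gh N62642 = N62319 := ded_47_2 L815363 L808498 L818195
theorem L818207 : sm gi N62642 = N62299 := ded_48_2 L815147 (flp_i L808494) L818195
theorem L818209 : sm ge N62642 = N62450 := ded_40_1 L816575 L805962 (flp_f L798208) (flp_e L808496) L818195
theorem L818211 : sm gg N62642 = N61903 := ded_45_2 (flp_f L810199) L798816 (flp_f L798177) (flp_g L808490) L818195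
theorem L818213 : sm ga N61790 = N62643 := rfl
theorem L818215 : sm gc N62643 = N62119 := ded_11_2 (flp_a L813177) (flp_c L808546) L818213
theorem L818217 : sm gd N62643 = N61820 := ded_12_2 (flp_a L808967) (flp_d L808534) L818213
theorem L818219 : sm gf N62643 = N62106 := ded_14_2 (flp_a L813056) (flp_f L808536) L818213
theorem L818221 : sm gg N62643 = N62436 := ded_15_2 L816445 (flp_g L808538) L818213
theorem L818223 : sm gj N62643 = N62605 := ded_16_2 (flp_a L817799) (flp_j L808540) L818213
theorem L818225 : sm gh N62643 = N61796 := ded_17_2 (flp_a L808622) (flp_h L808542) L818213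
theorem L818227 : sm gi N62643 = N62302 := ded_18_2 (flp_a L815183) (flp_i L808544) L818213
theorem L818229 : sm gb N62643 = N62494 := ded_10_2 (flp_a L817017) (flp_b L806648) (flp_a L797083) L808532 L818213
theorem L818231 : sm ge N61790 = N62644 := rfl
theorem L818233 : sm gb N62644 = N61791 := ded_21_1 (flp_e L808548) L808532 L818231
theorem L818235 : sm gc N62644 = N62120 := ded_28_1 (flp_e L813187) (flp_c L808546) L818231
theorem L818237 : sm gg N62644 = N62437 := ded_41_2 (flp_e L816457) (flp_g L808538) L818231
theorem L818239 : sm gj N62644 = N62606 := ded_42_2 (flp_e L817807) (flp_j L808540) L818231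
theorem L818241 : sm gh N62644 = N61797 := ded_43_2 (flp_e L808634) (flp_h L808542) L818231
theorem L818243 : sm gi N62644 = N62303 := ded_44_2 (flp_e L815193) (flp_i L808544) L818231
theorem L818245 : sm gd N61791 = N62645 := rfl
theorem L818247 : sm ga N62645 = N62496 := ded_12_1 (flp_d L817033) (flp_a L808550) L818245
theorem L818249 : sm gg N62645 = N62433 := ded_36_2 L816422 (flp_g L808554) L818245
theorem L818251 : sm gj N62645 = N62607 := ded_37_2 (flp_d L817817) (flp_j L808556) L818245
theorem L818253 : sm gi N62645 = N62304 := ded_39_2 (flp_d L815203) (flp_i L808560) L818245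
theorem L818255 : sm gc N62645 = N62645 := ded_27_1 (flp_d L818245) L808552 L797111 (flp_c L808552) L818245
theorem L818256 : sm ge N62645 = N61822 := ded_34_2 (flp_d L808989) (flp_e L797446) (flp_d L797095) L808548 L818245
theorem L818258 : sm gh N62645 = N61929 := ded_38_2 (flp_d L810534) L799099 (flp_d L797165) (flp_h L808558) L818245
theorem L818260 : sm gf N61791 = N62646 := rfl
theorem L818262 : sm ga N62646 = N62497 := ded_14_1 (flp_f L817042) (flp_a L808550) L818260
theorem L818264 : sm gc N62646 = N61792 := ded_29_1 (flp_f L808562) (flp_c L808552) L818260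
theorem L818266 : sm gj N62646 = N62604 := ded_46_2 L817795 (flp_j L808556) L818260
theorem L818268 : sm gh N62646 = N61798 := ded_47_2 (flp_f L808646) (flp_h L808558) L818260
theorem L818270 : sm gi N62646 = N62305 := ded_48_2 (flp_f L815210) (flp_i L808560) L818260
theorem L818272 : sm ge N62646 = N62109 := ded_40_1 (flp_f L813086) (flp_e L801902) (flp_f L797085) L808548 L818260
theorem L818274 : sm gg N61792 = N62647 := rfl
theorem L818276 : sm ga N62647 = N62450 := ded_15_1 L816577 (flp_a L808564) L818274
theorem L818278 : sm gb N62647 = N62123 := ded_23_1 (flp_g L813212) (flp_b L808566) L818274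
theorem L818280 : sm gd N62647 = N62647 := ded_36_1 (flp_g L818274) L808568 L818274
theorem L818281 : sm ge N62647 = N62110 := ded_41_1 (flp_g L813092) (flp_e L808575) L818274
theorem L818283 : sm gh N62647 = N61799 := ded_50_2 (flp_g L808658) (flp_h L808571) L818274
theorem L818285 : sm gi N62647 = N61926 := ded_51_2 L810507 (flp_i L808573) L818274
theorem L818287 : sm gf N62647 = N62209 := ded_45_1 L814119 L803068 (flp_g L797103) L808562 L818274
theorem L818289 : sm gj N62647 = N62319 := ded_49_2 (flp_g L815356) (flp_j L809447) L809455 (flp_j L808569) L818274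
theorem L818291 : sm ga N61793 = N62648 := rfl
theorem L818293 : sm gc N62648 = N62114 := ded_11_2 (flp_a L813141) (flp_c L808591) L818291
theorem L818295 : sm gd N62648 = N61800 := ded_12_2 (flp_a L808668) (flp_d L808579) L818291
theorem L818297 : sm gf N62648 = N61796 := ded_14_2 (flp_a L808622) (flp_f L808581) L818291
theorem L818299 : sm gg N62648 = N62233 := ded_15_2 (flp_a L814413) (flp_g L808583) L818291
theorem L818301 : sm gj N62648 = N62417 := ded_16_2 (flp_a L816303) (flp_j L808585) L818291
theorem L818303 : sm gh N62648 = N62106 := ded_17_2 (flp_a L813056) (flp_h L808587) L818291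
theorem L818305 : sm gi N62648 = N62413 := ded_18_2 (flp_a L816262) (flp_i L808589) L818291
theorem L818307 : sm gb N62648 = N62315 := ded_10_2 (flp_a L815321) (flp_b L804522) (flp_a L797114) L808577 L818291
theorem L818309 : sm ge N61793 = N62649 := rfl
theorem L818311 : sm gb N62649 = N61794 := ded_21_1 (flp_e L808593) L808577 L818309
theorem L818313 : sm gc N62649 = N62115 := ded_28_1 (flp_e L813149) (flp_c L808591) L818309
theorem L818315 : sm gg N62649 = N62234 := ded_41_2 (flp_e L814427) (flp_g L808583) L818309
theorem L818317 : sm gj N62649 = N62418 := ded_42_2 (flp_e L816311) (flp_j L808585) L818309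
theorem L818319 : sm gh N62649 = N62107 := ded_43_2 (flp_e L813066) (flp_h L808587) L818309
theorem L818321 : sm gi N62649 = N62414 := ded_44_2 (flp_e L816274) (flp_i L808589) L818309
theorem L818323 : sm gd N61794 = N62650 := rfl
theorem L818325 : sm ga N62650 = N62317 := ded_12_1 (flp_d L815339) (flp_a L808595) L818323
theorem L818327 : sm gg N62650 = N62235 := ded_36_2 (flp_d L814437) (flp_g L808599) L818323
theorem L818329 : sm gj N62650 = N62419 := ded_37_2 (flp_d L816319) (flp_j L808601) L818323
theorem L818331 : sm gi N62650 = N62415 := ded_39_2 (flp_d L816282) (flp_i L808605) L818323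
theorem L818333 : sm gc N62650 = N62650 := ded_27_1 (flp_d L818323) L808597 L797142 (flp_c L808597) L818323
theorem L818334 : sm ge N62650 = N61802 := ded_34_2 (flp_d L808696) (flp_e L797201) (flp_d L797126) L808593 L818323
theorem L818336 : sm gf N61794 = N62651 := rfl
theorem L818338 : sm ga N62651 = N62318 := ded_14_1 (flp_f L815348) (flp_a L808595) L818336
theorem L818340 : sm gc N62651 = N61795 := ded_29_1 (flp_f L808607) (flp_c L808597) L818336
theorem L818342 : sm gj N62651 = N62420 := ded_46_2 (flp_f L816326) (flp_j L808601) L818336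
theorem L818344 : sm gh N62651 = N62109 := ded_47_2 (flp_f L813086) (flp_h L808603) L818336
theorem L818346 : sm gi N62651 = N62416 := ded_48_2 (flp_f L816291) (flp_i L808605) L818336
theorem L818348 : sm ge N62651 = N61798 := ded_40_1 (flp_f L808646) (flp_e L797153) (flp_f L797116) L808593 L818336
theorem L818350 : sm gg N61795 = N62652 := rfl
theorem L818352 : sm ga N62652 = N62319 := ded_15_1 (flp_g L815356) (flp_a L808609) L818350
theorem L818354 : sm gb N62652 = N62118 := ded_23_1 (flp_g L813170) (flp_b L808611) L818350
theorem L818356 : sm gd N62652 = N62652 := ded_36_1 (flp_g L818350) L808613 L818350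
theorem L818357 : sm ge N62652 = N61799 := ded_41_1 (flp_g L808658) (flp_e L808620) L818350
theorem L818359 : sm gh N62652 = N62110 := ded_50_2 (flp_g L813092) (flp_h L808616) L818350
theorem L818361 : sm gi N62652 = N62112 := ded_51_2 L813122 (flp_i L808618) L818350
theorem L818363 : sm gf N62652 = N62237 := ded_45_1 (flp_g L814458) (flp_f L803583) (flp_g L797134) L808607 L818350
theorem L818365 : sm gj N62652 = N62450 := ded_49_2 L816577 (flp_j L808957) L808965 (flp_j L808614) L818350
theorem L818367 : sm ge N61796 = N62653 := rfl
theorem L818369 : sm ga N62653 = N61797 := ded_13_1 (flp_e L808634) L808622 L818367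
theorem L818371 : sm gb N62653 = N62498 := ded_21_1 (flp_e L817048) (flp_b L808632) L818367
theorem L818373 : sm gg N62653 = N62462 := ded_41_2 (flp_e L816703) (flp_g L808626) L818367
theorem L818375 : sm gj N62653 = N62626 := ded_42_2 (flp_e L817934) (flp_j L808628) L818367
theorem L818377 : sm gi N62653 = N62467 := ded_44_2 (flp_e L816753) (flp_i L808630) L818367
theorem L818379 : sm gd N62653 = N61935 := ded_34_1 (flp_e L810600) L799147 (flp_e L797219) (flp_d L808624) L818367
theorem L818381 : sm gf N61797 = N62654 := rfl
theorem L818383 : sm gb N62654 = N61798 := ded_22_1 (flp_f L808646) (flp_b L808636) L818381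
theorem L818385 : sm gd N62654 = N61936 := ded_35_1 (flp_f L810610) (flp_d L808644) L818381
theorem L818387 : sm gj N62654 = N62625 := ded_46_2 L817932 (flp_j L808640) L818381
theorem L818389 : sm gi N62654 = N62468 := ded_48_2 (flp_f L816767) (flp_i L808642) L818381
theorem L818391 : sm gg N61798 = N62655 := rfl
theorem L818393 : sm ga N62655 = N62394 := ded_15_1 L816102 (flp_a L808648) L818391
theorem L818395 : sm gc N62655 = N61799 := ded_30_1 (flp_g L808658) (flp_c L808650) L818391
theorem L818397 : sm gd N62655 = N61937 := ded_36_1 (flp_g L810616) (flp_d L808652) L818391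
theorem L818399 : sm gi N62655 = N62456 := ded_51_2 L816635 (flp_i L808656) L818391
theorem L818401 : sm gf N62655 = N62267 := ded_45_1 L814816 L803993 (flp_g L797159) L808646 L818391
theorem L818403 : sm ge N61800 = N62656 := rfl
theorem L818405 : sm ga N62656 = N61801 := ded_13_1 (flp_e L808682) L808668 L818403
theorem L818407 : sm gb N62656 = N62328 := ded_21_1 (flp_e L815417) (flp_b L808680) L818403
theorem L818409 : sm gc N62656 = N62216 := ded_28_1 (flp_e L814201) (flp_c L808670) L818403
theorem L818411 : sm gg N62656 = N62241 := ded_41_2 (flp_e L814513) (flp_g L808674) L818403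
theorem L818413 : sm gh N62656 = N61826 := ded_43_2 (flp_e L809038) (flp_h L808676) L818403
theorem L818415 : sm gi N62656 = N62469 := ded_44_2 (flp_e L816777) (flp_i L808678) L818403
theorem L818417 : sm gf N62656 = N61938 := ded_40_2 (flp_e L810626) L799187 (flp_e L797219) (flp_f L808672) L818403
theorem L818419 : sm gd N61801 = N62657 := rfl
theorem L818421 : sm gb N62657 = N61802 := ded_20_1 (flp_d L808696) (flp_b L808684) L818419
theorem L818423 : sm gf N62657 = N61939 := ded_35_2 (flp_d L810638) (flp_f L808694) L818419
theorem L818425 : sm gg N62657 = N62242 := ded_36_2 (flp_d L814523) (flp_g L808688) L818419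
theorem L818427 : sm gi N62657 = N62470 := ded_39_2 (flp_d L816785) (flp_i L808692) L818419
theorem L818429 : sm gh N61802 = N62658 := rfl
theorem L818431 : sm ga N62658 = N62330 := ded_17_1 (flp_h L815437) (flp_a L808698) L818429
theorem L818433 : sm gc N62658 = N62658 := ded_32_1 (flp_h L818429) L808706 L818429
theorem L818434 : sm gf N62658 = N61940 := ded_47_1 (flp_h L810646) (flp_f L808700) L818429
theorem L818436 : sm gg N62658 = N62243 := ded_50_1 (flp_h L814529) (flp_g L808702) L818429
theorem L818438 : sm gd N62658 = N61828 := ded_38_1 (flp_h L809066) (flp_d L797535) (flp_h L797209) L808696 L818429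
theorem L818440 : sm ga N61804 = N62659 := rfl
theorem L818442 : sm gc N62659 = N62474 := ded_11_2 (flp_a L816818) (flp_c L808741) L818440
theorem L818444 : sm gd N62659 = N62605 := ded_12_2 (flp_a L817799) (flp_d L808729) L818440
theorem L818446 : sm gf N62659 = N62295 := ded_14_2 (flp_a L815093) (flp_f L808731) L818440
theorem L818448 : sm gg N62659 = N62504 := ded_15_2 (flp_a L817105) (flp_g L808733) L818440
theorem L818450 : sm gj N62659 = N61820 := ded_16_2 (flp_a L808967) (flp_j L808735) L818440
theorem L818452 : sm gh N62659 = N61807 := ded_17_2 (flp_a L808772) (flp_h L808737) L818440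
theorem L818454 : sm gi N62659 = N62494 := ded_18_2 (flp_a L817017) (flp_i L808739) L818440
theorem L818456 : sm gb N62659 = N62302 := ded_10_2 (flp_a L815183) (flp_b L804391) (flp_a L797249) L808727 L818440
theorem L818458 : sm ge N61804 = N62660 := rfl
theorem L818460 : sm gb N62660 = N61805 := ded_21_1 (flp_e L808743) L808727 L818458
theorem L818462 : sm gc N62660 = N62475 := ded_28_1 (flp_e L816830) (flp_c L808741) L818458
theorem L818464 : sm gg N62660 = N62505 := ded_41_2 (flp_e L817117) (flp_g L808733) L818458
theorem L818466 : sm gj N62660 = N61821 := ded_42_2 (flp_e L808979) (flp_j L808735) L818458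
theorem L818468 : sm gh N62660 = N61808 := ded_43_2 (flp_e L808788) (flp_h L808737) L818458
theorem L818470 : sm gi N62660 = N62495 := ded_44_2 (flp_e L817025) (flp_i L808739) L818458
theorem L818472 : sm gd N61805 = N62661 := rfl
theorem L818474 : sm ga N62661 = N62304 := ded_12_1 (flp_d L815203) (flp_a L808745) L818472
theorem L818476 : sm gg N62661 = N62506 := ded_36_2 (flp_d L817127) (flp_g L808749) L818472
theorem L818478 : sm gj N62661 = N61822 := ded_37_2 (flp_d L808989) (flp_j L808751) L818472
theorem L818480 : sm gi N62661 = N62496 := ded_39_2 (flp_d L817033) (flp_i L808755) L818472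
theorem L818482 : sm gc N62661 = N62661 := ded_27_1 (flp_d L818472) L808747 L797277 (flp_c L808747) L818472
theorem L818483 : sm ge N62661 = N62607 := ded_34_2 (flp_d L817817) (flp_e L807888) (flp_d L797261) L808743 L818472
theorem L818485 : sm gh N62661 = N61951 := ded_38_2 (flp_d L810797) L799331 (flp_d L797304) (flp_h L808753) L818472
theorem L818487 : sm gf N62427 = N62661 := ded_47_3 L818485 L810801 L816375
theorem L818489 : sm gf N61805 = N62662 := rfl
theorem L818491 : sm ga N62662 = N62305 := ded_14_1 (flp_f L815210) (flp_a L808745) L818489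
theorem L818493 : sm gc N62662 = N61806 := ded_29_1 (flp_f L808757) (flp_c L808747) L818489
theorem L818495 : sm gd N62662 = N62427 := ded_35_1 L818487 (flp_d L818472) L818489
theorem L818497 : sm gj N62662 = N61823 := ded_46_2 (flp_f L808998) (flp_j L808751) L818489
theorem L818499 : sm gh N62662 = N61809 := ded_47_2 (flp_f L808802) (flp_h L808753) L818489
theorem L818501 : sm gi N62662 = N62497 := ded_48_2 (flp_f L817042) (flp_i L808755) L818489
theorem L818503 : sm ge N62662 = N62298 := ded_40_1 (flp_f L815127) (flp_e L804311) (flp_f L797251) L808743 L818489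
theorem L818505 : sm gg N61806 = N62663 := rfl
theorem L818507 : sm ga N62663 = N61926 := ded_15_1 L810507 (flp_a L808759) L818505
theorem L818509 : sm gb N62663 = N62256 := ded_23_1 L814685 (flp_b L808761) L818505
theorem L818511 : sm gd N62663 = N62663 := ded_36_1 (flp_g L818505) L808763 L818505
theorem L818512 : sm ge N62663 = N62299 := ded_41_1 (flp_g L815137) (flp_e L808770) L818505
theorem L818514 : sm gh N62663 = N61810 := ded_50_2 (flp_g L808816) (flp_h L808766) L818505
theorem L818516 : sm gi N62663 = N62450 := ded_51_2 L816577 (flp_i L808768) L818505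
theorem L818518 : sm gf N62663 = N62451 := ded_45_1 L816585 L805972 (flp_g L797269) L808757 L818505
theorem L818520 : sm gj N62663 = N62112 := ded_49_2 L813122 L805623 (flp_g L797467) (flp_j L808764) L818505
theorem L818522 : sm ge N61807 = N62664 := rfl
theorem L818524 : sm ga N62664 = N61808 := ded_13_1 (flp_e L808788) L808772 L818522
theorem L818526 : sm gb N62664 = N62614 := ded_21_1 (flp_e L817859) (flp_b L808786) L818522
theorem L818528 : sm gc N62664 = N62480 := ded_28_1 (flp_e L816885) (flp_c L808774) L818522
theorem L818530 : sm gg N62664 = N62529 := ded_41_2 (flp_e L817280) (flp_g L808780) L818522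
theorem L818532 : sm gj N62664 = N61824 := ded_42_2 (flp_e L809010) (flp_j L808782) L818522
theorem L818534 : sm gi N62664 = N61837 := ded_44_2 (flp_e L809202) (flp_i L808784) L818522
theorem L818536 : sm gd N62664 = N61952 := ded_34_1 (flp_e L810808) L799339 (flp_e L797397) (flp_d L808776) L818522
theorem L818538 : sm gf N61808 = N62665 := rfl
theorem L818540 : sm gb N62665 = N61809 := ded_22_1 (flp_f L808802) (flp_b L808790) L818538
theorem L818542 : sm gc N62665 = N62252 := ded_29_1 L814639 (flp_c L808792) L818538
theorem L818544 : sm gd N62665 = N61953 := ded_35_1 (flp_f L810818) (flp_d L808800) L818538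
theorem L818546 : sm gj N62665 = N61825 := ded_46_2 (flp_f L809024) (flp_j L808796) L818538
theorem L818548 : sm gi N62665 = N61838 := ded_48_2 (flp_f L809218) (flp_i L808798) L818538
theorem L818550 : sm ge N62665 = N62473 := ded_40_1 (flp_f L816808) (flp_e L806334) (flp_f L797282) L808788 L818538
theorem L818552 : sm gg N61809 = N62666 := rfl
theorem L818554 : sm ga N62666 = N61924 := ded_15_1 L810485 (flp_a L808804) L818552
theorem L818556 : sm gc N62666 = N61810 := ded_30_1 (flp_g L808816) (flp_c L808806) L818552
theorem L818558 : sm gd N62666 = N61921 := ded_36_1 L810455 (flp_d L808808) L818552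
theorem L818560 : sm ge N62666 = N62297 := ded_41_1 L815121 (flp_e L808814) L818552
theorem L818562 : sm gi N62666 = N61839 := ded_51_2 (flp_g L809230) (flp_i L808812) L818552
theorem L818564 : sm gf N62666 = N62531 := ded_45_1 (flp_g L817296) (flp_f L807013) (flp_g L797298) L808802 L818552
theorem L818566 : sm gj N62666 = N62108 := ded_49_2 L813078 L805822 (flp_g L797507) (flp_j L808810) L818552
theorem L818568 : sm ga N61811 = N62667 := rfl
theorem L818570 : sm gc N62667 = N62030 := ded_11_2 (flp_a L811975) (flp_c L808846) L818568
theorem L818572 : sm gd N62667 = N62465 := ded_12_2 (flp_a L816729) (flp_d L808834) L818568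
theorem L818574 : sm gf N62667 = N62144 := ded_14_2 (flp_a L813466) (flp_f L808836) L818568
theorem L818576 : sm gg N62667 = N61814 := ded_15_2 (flp_a L808880) (flp_g L808838) L818568
theorem L818578 : sm gj N62667 = N62247 := ded_16_2 (flp_a L814583) (flp_j L808840) L818568
theorem L818580 : sm gh N62667 = N62181 := ded_17_2 (flp_a L813872) (flp_h L808842) L818568
theorem L818582 : sm gi N62667 = N61840 := ded_18_2 (flp_a L809244) (flp_i L808844) L818568
theorem L818584 : sm gb N62667 = N62342 := ded_10_2 (flp_a L815552) (flp_b L804744) (flp_a L797339) L808832 L818568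
theorem L818586 : sm ge N61811 = N62668 := rfl
theorem L818588 : sm gb N62668 = N61812 := ded_21_1 (flp_e L808848) L808832 L818586
theorem L818590 : sm gc N62668 = N62031 := ded_28_1 (flp_e L811985) (flp_c L808846) L818586
theorem L818592 : sm gg N62668 = N61815 := ded_41_2 (flp_e L808894) (flp_g L808838) L818586
theorem L818594 : sm gj N62668 = N62248 := ded_42_2 (flp_e L814593) (flp_j L808840) L818586
theorem L818596 : sm gh N62668 = N62182 := ded_43_2 (flp_e L813880) (flp_h L808842) L818586
theorem L818598 : sm gi N62668 = N61841 := ded_44_2 (flp_e L809258) (flp_i L808844) L818586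
theorem L818600 : sm gd N61812 = N62669 := rfl
theorem L818602 : sm ga N62669 = N62344 := ded_12_1 (flp_d L815576) (flp_a L808850) L818600
theorem L818604 : sm gg N62669 = N61816 := ded_36_2 (flp_d L808906) (flp_g L808854) L818600
theorem L818606 : sm gj N62669 = N62249 := ded_37_2 (flp_d L814601) (flp_j L808856) L818600
theorem L818608 : sm gi N62669 = N61842 := ded_39_2 (flp_d L809270) (flp_i L808860) L818600
theorem L818610 : sm gc N62669 = N61829 := ded_27_1 (flp_d L809078) L797555 (flp_d L797367) (flp_c L808852) L818600
theorem L818612 : sm ge N62669 = N62452 := ded_34_2 L816597 (flp_e L806261) (flp_d L797351) L808848 L818600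
theorem L818614 : sm gf N62405 = N62669 := ded_45_5 L818604 L808910 L799437 (flp_f L805539) (flp_g L816196)
theorem L818616 : sm gf N61812 = N62670 := rfl
theorem L818618 : sm ga N62670 = N62194 := ded_14_1 L813977 (flp_a L808850) L818616
theorem L818620 : sm gc N62670 = N61813 := ded_29_1 (flp_f L808862) (flp_c L808852) L818616
theorem L818622 : sm gd N62670 = N62405 := ded_35_1 L818614 (flp_d L818600) L818616
theorem L818624 : sm gj N62670 = N62250 := ded_46_2 (flp_f L814613) (flp_j L808856) L818616
theorem L818626 : sm gh N62670 = N62184 := ded_47_2 (flp_f L813893) (flp_h L808858) L818616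
theorem L818628 : sm gi N62670 = N61843 := ded_48_2 (flp_f L809284) (flp_i L808860) L818616
theorem L818630 : sm ge N62670 = N62147 := ded_40_1 (flp_f L813491) (flp_e L802297) (flp_f L797341) L808848 L818616
theorem L818632 : sm gg N62670 = N61956 := ded_45_2 (flp_f L810860) L799389 (flp_f L797391) (flp_g L808854) L818616
theorem L818634 : sm ge N61814 = N62671 := rfl
theorem L818636 : sm ga N62671 = N61815 := ded_13_1 (flp_e L808894) L808880 L818634
theorem L818638 : sm gb N62671 = N62354 := ded_21_1 (flp_e L815684) (flp_b L808892) L818634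
theorem L818640 : sm gc N62671 = N62221 := ded_28_1 (flp_e L814264) (flp_c L808882) L818634
theorem L818642 : sm gj N62671 = N61826 := ded_42_2 (flp_e L809038) (flp_j L808888) L818634
theorem L818644 : sm gi N62671 = N61844 := ded_44_2 (flp_e L809300) (flp_i L808890) L818634
theorem L818646 : sm gf N62671 = N61957 := ded_40_2 (flp_e L810872) L799415 (flp_e L797397) (flp_f L808886) L818634
theorem L818648 : sm gd N61815 = N62672 := rfl
theorem L818650 : sm gb N62672 = N61816 := ded_20_1 (flp_d L808906) (flp_b L808896) L818648
theorem L818652 : sm gf N62672 = N61958 := ded_35_2 (flp_d L810884) (flp_f L808904) L818648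
theorem L818654 : sm gj N62672 = N61827 := ded_37_2 (flp_d L809052) (flp_j L808900) L818648
theorem L818656 : sm gi N62672 = N61845 := ded_39_2 (flp_d L809314) (flp_i L808902) L818648
theorem L818658 : sm gc N62672 = N62439 := ded_27_1 L816477 L806936 (flp_d L803289) (flp_c L808898) L818648
theorem L818660 : sm ge N62672 = N62453 := ded_34_2 L816601 (flp_e L806334) (flp_d L797371) L808894 L818648
theorem L818662 : sm gh N61816 = N62673 := rfl
theorem L818664 : sm ga N62673 = N62356 := ded_17_1 (flp_h L815708) (flp_a L808908) L818662
theorem L818666 : sm gc N62673 = N61830 := ded_32_1 (flp_h L809094) (flp_c L808916) L818662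
theorem L818668 : sm ge N62673 = N62454 := ded_43_1 (flp_h L816609) (flp_e L808918) L818662
theorem L818670 : sm gf N62673 = N61959 := ded_47_1 (flp_h L810898) (flp_f L808910) L818662
theorem L818672 : sm gj N62673 = N61828 := ded_52_1 (flp_h L809066) (flp_j L808912) L818662
theorem L818674 : sm gi N62673 = N62117 := ded_54_2 L813168 L802036 L797795 (flp_i L808914) L818662
theorem L818676 : sm ga N61817 = N62674 := rfl
theorem L818678 : sm gc N62674 = N61931 := ded_11_2 (flp_a L810557) (flp_c L808934) L818676
theorem L818680 : sm gd N62674 = N62302 := ded_12_2 (flp_a L815183) (flp_d L808922) L818676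
theorem L818682 : sm gf N62674 = N61922 := ded_14_2 (flp_a L810463) (flp_f L808924) L818676
theorem L818684 : sm gg N62674 = N61949 := ded_15_2 (flp_a L810769) (flp_g L808926) L818676
theorem L818686 : sm gj N62674 = N62494 := ded_16_2 (flp_a L817017) (flp_j L808928) L818676
theorem L818688 : sm gh N62674 = N61858 := ded_17_2 (flp_a L809510) (flp_h L808930) L818676
theorem L818690 : sm gi N62674 = N61820 := ded_18_2 (flp_a L808967) (flp_i L808932) L818676
theorem L818692 : sm gb N62674 = N62605 := ded_10_2 (flp_a L817799) (flp_b L807880) (flp_a L797407) L808920 L818676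
theorem L818694 : sm ge N61817 = N62675 := rfl
theorem L818696 : sm gb N62675 = N61818 := ded_21_1 (flp_e L808936) L808920 L818694
theorem L818698 : sm gc N62675 = N61932 := ded_28_1 (flp_e L810569) (flp_c L808934) L818694
theorem L818700 : sm gg N62675 = N61950 := ded_41_2 (flp_e L810783) (flp_g L808926) L818694
theorem L818702 : sm gj N62675 = N62495 := ded_42_2 (flp_e L817025) (flp_j L808928) L818694
theorem L818704 : sm gh N62675 = N61859 := ded_43_2 (flp_e L809522) (flp_h L808930) L818694
theorem L818706 : sm gi N62675 = N61821 := ded_44_2 (flp_e L808979) (flp_i L808932) L818694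
theorem L818708 : sm gd N61818 = N62676 := rfl
theorem L818710 : sm ga N62676 = N62607 := ded_12_1 (flp_d L817817) (flp_a L808938) L818708
theorem L818712 : sm gg N62676 = N61951 := ded_36_2 (flp_d L810797) (flp_g L808942) L818708
theorem L818714 : sm gj N62676 = N62496 := ded_37_2 (flp_d L817033) (flp_j L808944) L818708
theorem L818716 : sm gi N62676 = N61822 := ded_39_2 (flp_d L808989) (flp_i L808948) L818708
theorem L818718 : sm gc N62676 = N62676 := ded_27_1 (flp_d L818708) L808940 L797435 (flp_c L808940) L818708
theorem L818719 : sm ge N62676 = N62304 := ded_34_2 (flp_d L815203) (flp_e L804401) (flp_d L797419) L808936 L818708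
theorem L818721 : sm gh N62676 = N62506 := ded_38_2 (flp_d L817127) L806755 (flp_d L797987) (flp_h L808946) L818708
theorem L818723 : sm gf N61818 = N62677 := rfl
theorem L818725 : sm ga N62677 = N62604 := ded_14_1 L817795 (flp_a L808938) L818723
theorem L818727 : sm gc N62677 = N61819 := ded_29_1 (flp_f L808950) (flp_c L808940) L818723
theorem L818729 : sm gj N62677 = N62497 := ded_46_2 (flp_f L817042) (flp_j L808944) L818723
theorem L818731 : sm gh N62677 = N61860 := ded_47_2 (flp_f L809534) (flp_h L808946) L818723
theorem L818733 : sm gi N62677 = N61823 := ded_48_2 (flp_f L808998) (flp_i L808948) L818723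
theorem L818735 : sm ge N62677 = N61925 := ded_40_1 (flp_f L810493) (flp_e L799055) (flp_f L797409) L808936 L818723
theorem L818737 : sm gg N62677 = N62420 := ded_45_2 (flp_f L816326) L805641 (flp_f L799335) (flp_g L808942) L818723
theorem L818739 : sm ge N61820 = N62678 := rfl
theorem L818741 : sm ga N62678 = N61821 := ded_13_1 (flp_e L808979) L808967 L818739
theorem L818743 : sm gb N62678 = N62608 := ded_21_1 (flp_e L817824) (flp_b L808977) L818739
theorem L818745 : sm gc N62678 = N62487 := ded_28_1 (flp_e L816949) (flp_c L808969) L818739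
theorem L818747 : sm gg N62678 = N62429 := ded_41_2 L816392 (flp_g L808973) L818739
theorem L818749 : sm gh N62678 = N61824 := ded_43_2 (flp_e L809010) (flp_h L808975) L818739
theorem L818751 : sm gd N61821 = N62679 := rfl
theorem L818753 : sm gb N62679 = N61822 := ded_20_1 (flp_d L808989) (flp_b L808981) L818751
theorem L818755 : sm gg N62679 = N62431 := ded_36_2 L816401 (flp_g L808985) L818751
theorem L818757 : sm gh N62679 = N61969 := ded_38_2 (flp_d L811056) L799567 (flp_d L797493) (flp_h L808987) L818751
theorem L818759 : sm gf N61821 = N62680 := rfl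
theorem L818761 : sm gb N62680 = N61823 := ded_22_1 (flp_f L808998) (flp_b L808981) L818759
theorem L818763 : sm gc N62680 = N62255 := ded_29_1 L814677 (flp_c L808983) L818759
theorem L818765 : sm gh N62680 = N61825 := ded_47_2 (flp_f L809024) (flp_h L808987) L818759
theorem L818767 : sm ge N62680 = N62485 := ded_40_1 (flp_f L816929) (flp_e L806474) (flp_f L797438) L808979 L818759
theorem L818769 : sm gg N62680 = N62423 := ded_45_2 (flp_f L816348) L805664 L805708 (flp_g L808985) L818759
theorem L818771 : sm gf N61822 = N62681 := rfl
theorem L818773 : sm ga N62681 = N62601 := ded_14_1 L817773 (flp_a L808991) L818771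
theorem L818775 : sm gc N62681 = N62681 := ded_29_1 (flp_f L818771) L808995 L818771
theorem L818776 : sm gd N62681 = N61823 := ded_35_1 (flp_f L808998) L808989 L818771
theorem L818778 : sm gj N62681 = N62427 := ded_46_2 L818487 L818478 L818771
theorem L818780 : sm gh N62681 = N61971 := ded_47_2 (flp_f L811078) (flp_h L808996) L818771
theorem L818782 : sm gg N62681 = N62424 := ded_45_2 (flp_f L816356) L805670 L805718 (flp_g L808993) L818771
theorem L818784 : sm gf N61824 = N62682 := rfl
theorem L818786 : sm ga N62682 = N61825 := ded_14_1 (flp_f L809024) (flp_a L809012) L818784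
theorem L818788 : sm gb N62682 = N62602 := ded_22_1 L817781 (flp_b L809014) L818784
theorem L818790 : sm gc N62682 = N62254 := ded_29_1 L814665 (flp_c L809016) L818784
theorem L818792 : sm gd N62682 = N61972 := ded_35_1 (flp_f L811091) (flp_d L809022) L818784
theorem L818794 : sm gi N62682 = N61869 := ded_48_2 (flp_f L809660) (flp_i L809020) L818784
theorem L818796 : sm ge N62682 = N62486 := ded_40_1 (flp_f L816939) (flp_e L806498) (flp_f L797475) L809010 L818784
theorem L818798 : sm gg N62682 = N62440 := ded_45_2 (flp_f L816485) L805832 L805852 (flp_g L809018) L818784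
theorem L818800 : sm gd N61826 = N62683 := rfl
theorem L818802 : sm ga N62683 = N61827 := ded_12_1 (flp_d L809052) (flp_a L809040) L818800
theorem L818804 : sm gb N62683 = N62357 := ded_20_1 (flp_d L815718) (flp_b L809042) L818800
theorem L818806 : sm gf N62683 = N61976 := ded_35_2 (flp_d L811159) (flp_f L809050) L818800
theorem L818808 : sm gg N62683 = N62254 := ded_36_2 (flp_d L814659) (flp_g L809046) L818800
theorem L818810 : sm gi N62683 = N61871 := ded_39_2 (flp_d L809686) (flp_i L809048) L818800
theorem L818812 : sm gc N62683 = N62440 := ded_27_1 L816489 L807150 (flp_d L803301) (flp_c L809044) L818800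
theorem L818814 : sm ge N62683 = N62446 := ded_34_2 L816543 (flp_e L806498) (flp_d L797513) L809038 L818800
theorem L818816 : sm gh N61827 = N62684 := rfl
theorem L818818 : sm gb N62684 = N61828 := ded_25_1 (flp_h L809066) (flp_b L809054) L818816
theorem L818820 : sm gc N62684 = N62423 := ded_32_1 L816352 (flp_c L809062) L818816
theorem L818822 : sm ge N62684 = N62455 := ded_43_1 (flp_h L816619) (flp_e L809064) L818816
theorem L818824 : sm gf N62684 = N61977 := ded_47_1 (flp_h L811173) (flp_f L809056) L818816
theorem L818826 : sm gg N62684 = N62255 := ded_50_1 (flp_h L814671) (flp_g L809058) L818816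
theorem L818828 : sm gi N61828 = N62685 := rfl
theorem L818830 : sm ga N62685 = N62359 := ded_18_1 (flp_i L815744) (flp_a L809068) L818828
theorem L818832 : sm gc N62685 = N61831 := ded_33_1 (flp_i L809109) (flp_c L809070) L818828
theorem L818834 : sm ge N62685 = N61937 := ded_44_1 L810622 (flp_e L809072) L818828
theorem L818836 : sm gf N62685 = N61978 := ded_48_1 (flp_i L811183) (flp_f L809074) L818828
theorem L818838 : sm gg N62685 = N61934 := ded_51_1 L810596 (flp_g L809076) L818828
theorem L818840 : sm gj N62685 = N62117 := ded_53_1 (flp_i L818674) L818672 L818828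
theorem L818842 : sm gh N62685 = N61873 := ded_54_1 (flp_i L809706) (flp_h L798159) (flp_i L797543) L809066 L818828
theorem L818844 : sm gh N61829 = N62686 := rfl
theorem L818846 : sm ga N62686 = N62311 := ded_17_1 L815274 (flp_a L809080) L818844
theorem L818848 : sm gb N62686 = N62112 := ded_25_1 (flp_h L813116) (flp_b L809082) L818844
theorem L818850 : sm ge N62686 = N62300 := ded_43_1 L815161 (flp_e L809092) L818844
theorem L818852 : sm gf N62686 = N62365 := ded_47_1 L815819 (flp_f L809084) L818844
theorem L818854 : sm gg N62686 = N61830 := ded_50_1 (flp_h L809094) (flp_g L809086) L818844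
theorem L818856 : sm gj N62686 = N62256 := ded_52_1 (flp_h L814679) (flp_j L809088) L818844
theorem L818858 : sm gd N62686 = N62686 := ded_38_1 (flp_h L818844) (flp_d L809078) L797561 L809078 L818844
theorem L818859 : sm gi N62686 = N62118 := ded_54_2 L813173 L802042 (flp_h L798214) (flp_i L809090) L818844
theorem L818861 : sm ge N61832 = N62687 := rfl
theorem L818863 : sm ga N62687 = N61833 := ded_13_1 (flp_e L809142) L809126 L818861
theorem L818865 : sm gb N62687 = N62438 := ded_21_1 (flp_e L816467) (flp_b L809140) L818861
theorem L818867 : sm gc N62687 = N62462 := ded_28_1 (flp_e L816703) (flp_c L809128) L818861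
theorem L818869 : sm gj N62687 = N61865 := ded_42_2 (flp_e L809606) (flp_j L809134) L818861
theorem L818871 : sm gh N62687 = N62515 := ded_43_2 (flp_e L817185) (flp_h L809136) L818861
theorem L818873 : sm gi N62687 = N62472 := ded_44_2 (flp_e L816800) (flp_i L809138) L818861
theorem L818875 : sm gd N61833 = N62688 := rfl
theorem L818877 : sm gb N62688 = N61834 := ded_20_1 (flp_d L809154) (flp_b L809144) L818875
theorem L818879 : sm gj N62688 = N61866 := ded_37_2 (flp_d L809618) (flp_j L809148) L818875
theorem L818881 : sm gi N62688 = N62453 := ded_39_2 L816601 (flp_i L809152) L818875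
theorem L818883 : sm gc N62688 = N62491 := ded_27_1 (flp_d L816989) L806595 (flp_d L806200) (flp_c L809146) L818875
theorem L818885 : sm ge N62688 = N61845 := ded_34_2 (flp_d L809314) (flp_e L797773) (flp_d L797629) L809142 L818875
theorem L818887 : sm gf N62313 = N62688 := ded_22_0 L818877 (flp_f L809166) (flp_b L815295)
theorem L818889 : sm gh N62322 = N62688 := ded_25_0 L818877 (flp_h L809168) (flp_b L815377)
theorem L818891 : sm gf N61833 = N62689 := rfl
theorem L818893 : sm gb N62689 = N61835 := ded_22_1 (flp_f L809170) (flp_b L809144) L818891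
theorem L818895 : sm gc N62689 = N62269 := ded_29_1 L814842 (flp_c L809146) L818891
theorem L818897 : sm gd N62689 = N62313 := ded_35_1 L818887 (flp_d L818875) L818891
theorem L818899 : sm gj N62689 = N61867 := ded_46_2 (flp_f L809632) (flp_j L809148) L818891
theorem L818901 : sm gh N62689 = N62517 := ded_47_2 (flp_f L817195) (flp_h L809150) L818891
theorem L818903 : sm gi N62689 = N62473 := ded_48_2 (flp_f L816808) (flp_i L809152) L818891
theorem L818905 : sm ge N62689 = N61838 := ded_40_1 (flp_f L809218) (flp_e L797683) (flp_f L797631) L809142 L818891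
theorem L818907 : sm gg N61835 = N62690 := rfl
theorem L818909 : sm ga N62690 = N62108 := ded_15_1 L813078 (flp_a L809172) L818907
theorem L818911 : sm gc N62690 = N61836 := ded_30_1 (flp_g L809186) (flp_c L809174) L818907
theorem L818913 : sm gd N62690 = N61902 := ded_36_1 L810191 (flp_d L809176) L818907
theorem L818915 : sm ge N62690 = N61839 := ded_41_1 (flp_g L809230) (flp_e L809184) L818907
theorem L818917 : sm gh N62690 = N62457 := ded_50_2 L816645 (flp_h L809180) L818907
theorem L818919 : sm gi N62690 = N62297 := ded_51_2 L815121 (flp_i L809182) L818907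
theorem L818921 : sm gj N62690 = N61924 := ded_49_2 L810485 L806607 (flp_g L798103) (flp_j L809178) L818907
theorem L818923 : sm gf N61837 = N62691 := rfl
theorem L818925 : sm ga N62691 = N61838 := ded_14_1 (flp_f L809218) (flp_a L809204) L818923
theorem L818927 : sm gb N62691 = N62622 := ded_22_1 L817908 (flp_b L809206) L818923
theorem L818929 : sm gc N62691 = N62273 := ded_29_1 L814878 (flp_c L809208) L818923
theorem L818931 : sm gd N62691 = N61992 := ded_35_1 (flp_f L811369) (flp_d L809216) L818923
theorem L818933 : sm gj N62691 = N61869 := ded_46_2 (flp_f L809660) (flp_j L809212) L818923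
theorem L818935 : sm gh N62691 = N62518 := ded_47_2 (flp_f L817201) (flp_h L809214) L818923
theorem L818937 : sm gg N61838 = N62692 := rfl
theorem L818939 : sm gb N62692 = N61839 := ded_23_1 (flp_g L809230) (flp_b L809220) L818937
theorem L818941 : sm gc N62692 = N62271 := ded_30_1 L814862 (flp_c L809222) L818937
theorem L818943 : sm gd N62692 = N61993 := ded_36_1 (flp_g L811381) (flp_d L809224) L818937
theorem L818945 : sm gh N62692 = N62449 := ded_50_2 L816571 (flp_h L809228) L818937
theorem L818947 : sm gf N62692 = N62533 := ded_45_1 (flp_g L817310) (flp_f L807035) (flp_g L797689) L809218 L818937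
theorem L818949 : sm gj N62692 = N62307 := ded_49_2 L815232 L809684 (flp_g L809670) (flp_j L809226) L818937
theorem L818951 : sm ge N61840 = N62693 := rfl
theorem L818953 : sm ga N62693 = N61841 := ded_13_1 (flp_e L809258) L809244 L818951
theorem L818955 : sm gb N62693 = N62399 := ded_21_1 (flp_e L816146) (flp_b L809256) L818951
theorem L818957 : sm gc N62693 = N62214 := ded_28_1 (flp_e L814179) (flp_c L809246) L818951
theorem L818959 : sm gg N62693 = N61844 := ded_41_2 (flp_e L809300) (flp_g L809250) L818951
theorem L818961 : sm gj N62693 = N62270 := ded_42_2 (flp_e L814850) (flp_j L809252) L818951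
theorem L818963 : sm gh N62693 = N62152 := ded_43_2 (flp_e L813524) (flp_h L809254) L818951
theorem L818965 : sm gd N61841 = N62694 := rfl
theorem L818967 : sm gb N62694 = N61842 := ded_20_1 (flp_d L809270) (flp_b L809260) L818965
theorem L818969 : sm gg N62694 = N61845 := ded_36_2 (flp_d L809314) (flp_g L809264) L818965
theorem L818971 : sm gj N62694 = N62271 := ded_37_2 (flp_d L814858) (flp_j L809266) L818965
theorem L818973 : sm gc N62694 = N62307 := ded_27_1 (flp_d L815228) L804430 (flp_d L803188) (flp_c L809262) L818965
theorem L818975 : sm gh N62694 = N62327 := ded_38_2 L815413 (flp_h L812840) L812836 (flp_h L809268) L818965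
theorem L818977 : sm gf N62404 = N62694 := ded_22_0 L818967 (flp_f L809282) (flp_b L816188)
theorem L818979 : sm gf N61841 = N62695 := rfl
theorem L818981 : sm gb N62695 = N61843 := ded_22_1 (flp_f L809284) (flp_b L809260) L818979
theorem L818983 : sm gc N62695 = N62215 := ded_29_1 (flp_f L814191) (flp_c L809262) L818979
theorem L818985 : sm gd N62695 = N62404 := ded_35_1 L818977 (flp_d L818965) L818979
theorem L818987 : sm gj N62695 = N62272 := ded_46_2 (flp_f L814864) (flp_j L809266) L818979
theorem L818989 : sm gh N62695 = N62088 := ded_47_2 (flp_f L812828) (flp_h L809268) L818979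
theorem L818991 : sm ge N62695 = N62150 := ded_40_1 (flp_f L813513) (flp_e L802320) (flp_f L797725) L809258 L818979
theorem L818993 : sm gg N62695 = N61997 := ded_45_2 (flp_f L811441) L800007 (flp_f L797783) (flp_g L809264) L818979
theorem L818995 : sm gd N61844 = N62696 := rfl
theorem L818997 : sm ga N62696 = N61845 := ded_12_1 (flp_d L809314) (flp_a L809302) L818995
theorem L818999 : sm gb N62696 = N62443 := ded_20_1 (flp_d L816511) (flp_b L809304) L818995
theorem L819001 : sm gf N62696 = N61998 := ded_35_2 (flp_d L811453) (flp_f L809312) L818995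
theorem L819003 : sm gj N62696 = N61871 := ded_37_2 (flp_d L809686) (flp_j L809308) L818995
theorem L819005 : sm gc N62696 = N62592 := ded_27_1 (flp_d L817719) L807774 (flp_d L803362) (flp_c L809306) L818995
theorem L819007 : sm gh N62326 = N62696 := ded_17_0 L818997 (flp_h L809324) (flp_a L815407)
theorem L819009 : sm ga N61846 = N62697 := rfl
theorem L819011 : sm gc N62697 = N61858 := ded_11_2 (flp_a L809510) (flp_c L809340) L819009
theorem L819013 : sm gd N62697 = N61964 := ded_12_2 (flp_a L810979) (flp_d L809328) L819009
theorem L819015 : sm gf N62697 = N61927 := ded_14_2 (flp_a L810512) (flp_f L809330) L819009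
theorem L819017 : sm gg N62697 = N61947 := ded_15_2 (flp_a L810737) (flp_g L809332) L819009
theorem L819019 : sm gj N62697 = N62435 := ded_16_2 L816433 (flp_j L809334) L819009
theorem L819021 : sm gh N62697 = N61931 := ded_17_2 (flp_a L810557) (flp_h L809336) L819009
theorem L819023 : sm gi N62697 = N61848 := ded_18_2 (flp_a L809360) (flp_i L809338) L819009
theorem L819025 : sm gb N62697 = N62274 := ded_10_2 (flp_a L814882) (flp_b L804049) (flp_a L797799) L809326 L819009
theorem L819027 : sm ge N61846 = N62698 := rfl
theorem L819029 : sm gb N62698 = N61847 := ded_21_1 (flp_e L809342) L809326 L819027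
theorem L819031 : sm gc N62698 = N61859 := ded_28_1 (flp_e L809522) (flp_c L809340) L819027
theorem L819033 : sm gg N62698 = N61948 := ded_41_2 (flp_e L810753) (flp_g L809332) L819027
theorem L819035 : sm gj N62698 = N62191 := ded_42_2 L813951 (flp_j L809334) L819027
theorem L819037 : sm gh N62698 = N61932 := ded_43_2 (flp_e L810569) (flp_h L809336) L819027
theorem L819039 : sm gi N62698 = N61849 := ded_44_2 (flp_e L809376) (flp_i L809338) L819027
theorem L819041 : sm gd N62698 = N62165 := ded_34_1 (flp_e L813669) L802505 (flp_e L799509) (flp_d L809328) L819027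
theorem L819043 : sm gf N62284 = N62698 := ded_22_0 L819029 (flp_f L809358) (flp_b L814990)
theorem L819045 : sm ge N61848 = N62699 := rfl
theorem L819047 : sm ga N62699 = N61849 := ded_13_1 (flp_e L809376) L809360 L819045
theorem L819049 : sm gb N62699 = N62225 := ded_21_1 L814316 (flp_b L809374) L819045
theorem L819051 : sm gc N62699 = N61862 := ded_28_1 (flp_e L809564) (flp_c L809362) L819045
theorem L819053 : sm gg N62699 = N61990 := ded_41_2 (flp_e L811341) (flp_g L809368) L819045
theorem L819055 : sm gj N62699 = N62195 := ded_42_2 L813991 (flp_j L809370) L819045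
theorem L819057 : sm gh N62699 = N61850 := ded_43_2 (flp_e L809392) (flp_h L809372) L819045
theorem L819059 : sm gd N62699 = N62166 := ded_34_1 (flp_e L813681) L802531 (flp_e L805113) (flp_d L809364) L819045
theorem L819061 : sm gf N62283 = N62699 := ded_56_1 (flp_e L819045) L809364 L805111 (flp_b L803876) (flp_a L803862) (flp_h L800283) L800277 L807232 (flp_d L809847) L809839 L803761 L791520 (flp_h L792111) (flp_f L803158) (flp_e L803148) L790820 (flp_c L783215) (flp_b L777819) L777817 (flp_h L777239) L777231 L777442 L777452 (flp_c L777460) L777458 L771582 L760042 (flp_f L746685) (flp_e L730328) (flp_d L711667) L690726 L668598 L383062 (flp_h L383060) L263270 L181175 L181173 (flp_c L178008) (flp_b L258518) L592011 (flp_h L591889) (flp_f L376566) L376564 (flp_d L379547) (flp_c L666633) (flp_b L688856) (flp_a L709888) L728759 L728766 L709994 (flp_d L719241) L719248 (flp_b L707551) (flp_a L706249) (flp_h L725470) (flp_f L742442) L756550 L768376 (flp_c L779749) (flp_b L791969) (flp_a L804176) L814982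
theorem L819063 : sm ga N61851 = N62700 := rfl
theorem L819065 : sm gc N62700 = N61927 := ded_11_2 (flp_a L810512) (flp_c L809424) L819063
theorem L819067 : sm gd N62700 = N61944 := ded_12_2 (flp_a L810702) (flp_d L809412) L819063
theorem L819069 : sm gf N62700 = N61858 := ded_14_2 (flp_a L809510) (flp_f L809414) L819063
theorem L819071 : sm gg N62700 = N62275 := ded_15_2 (flp_a L814898) (flp_g L809416) L819063
theorem L819073 : sm gj N62700 = N62315 := ded_16_2 (flp_a L815321) (flp_j L809418) L819063
theorem L819075 : sm gh N62700 = N61922 := ded_17_2 (flp_a L810463) (flp_h L809420) L819063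
theorem L819077 : sm gi N62700 = N61854 := ded_18_2 (flp_a L809457) (flp_i L809422) L819063
theorem L819079 : sm gb N62700 = N62417 := ded_10_2 (flp_a L816303) (flp_b L805629) (flp_a L797895) L809410 L819063
theorem L819081 : sm ge N61851 = N62701 := rfl
theorem L819083 : sm gb N62701 = N61852 := ded_21_1 (flp_e L809426) L809410 L819081
theorem L819085 : sm gc N62701 = N61928 := ded_28_1 (flp_e L810524) (flp_c L809424) L819081
theorem L819087 : sm gg N62701 = N62276 := ded_41_2 (flp_e L814912) (flp_g L809416) L819081
theorem L819089 : sm gj N62701 = N62316 := ded_42_2 (flp_e L815331) (flp_j L809418) L819081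
theorem L819091 : sm gh N62701 = N61923 := ded_43_2 (flp_e L810473) (flp_h L809420) L819081
theorem L819093 : sm gi N62701 = N61855 := ded_44_2 (flp_e L809473) (flp_i L809422) L819081
theorem L819095 : sm gd N61852 = N62702 := rfl
theorem L819097 : sm ga N62702 = N62419 := ded_12_1 (flp_d L816319) (flp_a L809428) L819095
theorem L819099 : sm gg N62702 = N62277 := ded_36_2 (flp_d L814926) (flp_g L809432) L819095
theorem L819101 : sm gj N62702 = N62317 := ded_37_2 (flp_d L815339) (flp_j L809434) L819095
theorem L819103 : sm gi N62702 = N61856 := ded_39_2 (flp_d L809485) (flp_i L809438) L819095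
theorem L819105 : sm gc N62702 = N62702 := ded_27_1 (flp_d L819095) L809430 L797923 (flp_c L809430) L819095
theorem L819106 : sm ge N62702 = N61946 := ded_34_2 (flp_d L810728) (flp_e L799257) (flp_d L797907) L809426 L819095
theorem L819108 : sm gf N61852 = N62703 := rfl
theorem L819110 : sm ga N62703 = N62420 := ded_14_1 (flp_f L816326) (flp_a L809428) L819108
theorem L819112 : sm gc N62703 = N61853 := ded_29_1 (flp_f L809440) (flp_c L809430) L819108
theorem L819114 : sm gj N62703 = N62318 := ded_46_2 (flp_f L815348) (flp_j L809434) L819108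
theorem L819116 : sm gh N62703 = N61925 := ded_47_2 (flp_f L810493) (flp_h L809436) L819108
theorem L819118 : sm gi N62703 = N61857 := ded_48_2 (flp_f L809496) (flp_i L809438) L819108
theorem L819120 : sm ge N62703 = N61860 := ded_40_1 (flp_f L809534) (flp_e L797975) (flp_f L797897) L809426 L819108
theorem L819122 : sm gg N62703 = N62604 := ded_45_2 L817795 L807892 (flp_f L804103) (flp_g L809432) L819108
theorem L819124 : sm ge N61854 = N62704 := rfl
theorem L819126 : sm ga N62704 = N61855 := ded_13_1 (flp_e L809473) L809457 L819124
theorem L819128 : sm gb N62704 = N62421 := ded_21_1 (flp_e L816334) (flp_b L809471) L819124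
theorem L819130 : sm gc N62704 = N62463 := ded_28_1 (flp_e L816715) (flp_c L809459) L819124
theorem L819132 : sm gg N62704 = N62278 := ded_41_2 (flp_e L814937) (flp_g L809465) L819124
theorem L819134 : sm gj N62704 = N62515 := ded_42_2 (flp_e L817185) (flp_j L809467) L819124
theorem L819136 : sm gh N62704 = N61865 := ded_43_2 (flp_e L809606) (flp_h L809469) L819124
theorem L819138 : sm gd N61855 = N62705 := rfl
theorem L819140 : sm gb N62705 = N61856 := ded_20_1 (flp_d L809485) (flp_b L809475) L819138
theorem L819142 : sm gg N62705 = N62279 := ded_36_2 (flp_d L814947) (flp_g L809479) L819138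
theorem L819144 : sm gj N62705 = N62516 := ded_37_2 (flp_d L817189) (flp_j L809481) L819138
theorem L819146 : sm ge N62705 = N61986 := ded_34_2 (flp_d L811288) (flp_e L799832) (flp_d L797926) L809473 L819138
theorem L819148 : sm gf N61855 = N62706 := rfl
theorem L819150 : sm gb N62706 = N61857 := ded_22_1 (flp_f L809496) (flp_b L809475) L819148
theorem L819152 : sm gc N62706 = N62282 := ded_29_1 L814980 (flp_c L809477) L819148
theorem L819154 : sm gj N62706 = N62517 := ded_46_2 (flp_f L817195) (flp_j L809481) L819148
theorem L819156 : sm gh N62706 = N61867 := ded_47_2 (flp_f L809632) (flp_h L809483) L819148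
theorem L819158 : sm ge N62706 = N61863 := ded_40_1 (flp_f L809578) (flp_e L798013) (flp_f L797928) L809473 L819148
theorem L819160 : sm gg N62706 = N62603 := ded_45_2 L817789 L807915 (flp_f L804119) (flp_g L809479) L819148
theorem L819162 : sm gf N61856 = N62707 := rfl
theorem L819164 : sm ga N62707 = N62424 := ded_14_1 (flp_f L816356) (flp_a L809487) L819162
theorem L819166 : sm gc N62707 = N62707 := ded_29_1 (flp_f L819162) L809493 L819162
theorem L819167 : sm gd N62707 = N61857 := ded_35_1 (flp_f L809496) L809485 L819162
theorem L819169 : sm gj N62707 = N62324 := ded_46_2 L815395 (flp_j L809491) L819162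
theorem L819171 : sm ge N62707 = N62294 := ded_40_1 L815087 L806997 (flp_f L799846) (flp_e L809494) L819162
theorem L819173 : sm gg N62707 = N62601 := ded_45_2 L817773 L807921 (flp_f L804125) (flp_g L809489) L819162
theorem L819175 : sm gh N62288 = N62707 := ded_17_0 L819164 L816361 (flp_a L815036)
theorem L819177 : sm gh N61856 = N62708 := rfl
theorem L819179 : sm ga N62708 = N62366 := ded_17_1 L815828 (flp_a L809487) L819177
theorem L819181 : sm gc N62708 = N62708 := ded_32_1 (flp_h L819177) L809493 L819177
theorem L819182 : sm ge N62708 = N61987 := ded_43_1 (flp_h L811296) (flp_e L809494) L819177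
theorem L819184 : sm gf N62708 = N62288 := ded_47_1 L819175 (flp_f L819162) L819177
theorem L819186 : sm gg N62708 = N62280 := ded_50_1 (flp_h L814953) (flp_g L809489) L819177
theorem L819188 : sm gj N62708 = N62323 := ded_52_1 (flp_h L815388) (flp_j L809491) L819177
theorem L819190 : sm gd N62708 = N61868 := ded_38_1 (flp_h L809646) (flp_d L798077) (flp_h L797948) L809485 L819177
theorem L819192 : sm ge N61858 = N62709 := rfl
theorem L819194 : sm ga N62709 = N61859 := ded_13_1 (flp_e L809522) L809510 L819192
theorem L819196 : sm gb N62709 = N62626 := ded_21_1 (flp_e L817934) (flp_b L809520) L819192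
theorem L819198 : sm gg N62709 = N61952 := ded_41_2 (flp_e L810808) (flp_g L809514) L819192
theorem L819200 : sm gj N62709 = N62498 := ded_42_2 (flp_e L817048) (flp_j L809516) L819192
theorem L819202 : sm gi N62709 = N61862 := ded_44_2 (flp_e L809564) (flp_i L809518) L819192
theorem L819204 : sm gd N62709 = N62529 := ded_34_1 (flp_e L817280) (flp_d L808711) L808713 (flp_d L809512) L819192
theorem L819206 : sm gf N61859 = N62710 := rfl
theorem L819208 : sm gb N62710 = N61860 := ded_22_1 (flp_f L809534) (flp_b L809524) L819206
theorem L819210 : sm gc N62710 = N62284 := ded_29_1 L819043 L819031 L819206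
theorem L819212 : sm gd N62710 = N62530 := ded_35_1 (flp_f L817288) (flp_d L809532) L819206
theorem L819214 : sm gj N62710 = N62499 := ded_46_2 (flp_f L817058) (flp_j L809528) L819206
theorem L819216 : sm gi N62710 = N61863 := ded_48_2 (flp_f L809578) (flp_i L809530) L819206
theorem L819218 : sm gg N61860 = N62711 := rfl
theorem L819220 : sm ga N62711 = N61925 := ded_15_1 L810499 (flp_a L809536) L819218
theorem L819222 : sm gc N62711 = N61861 := ded_30_1 (flp_g L809546) (flp_c L809538) L819218
theorem L819224 : sm gd N62711 = N62531 := ded_36_1 (flp_g L817296) (flp_d L809540) L819218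
theorem L819226 : sm ge N62711 = N62604 := ded_41_1 (flp_g L819122) L819120 L819218
theorem L819228 : sm gh N62711 = N62420 := ded_50_2 (flp_g L818737) L818731 L819218
theorem L819230 : sm gi N62711 = N61864 := ded_51_2 (flp_g L809590) (flp_i L809544) L819218
theorem L819232 : sm gf N62711 = N61921 := ded_45_1 L810455 (flp_f L799357) (flp_g L797981) L809534 L819218
theorem L819234 : sm gj N62109 = N62711 := ded_31_0 L819222 (flp_j L809562) (flp_c L813088)
theorem L819236 : sm gf N61862 = N62712 := rfl
theorem L819238 : sm ga N62712 = N61863 := ded_14_1 (flp_f L809578) (flp_a L809566) L819236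
theorem L819240 : sm gb N62712 = N62624 := ded_22_1 L817926 (flp_b L809568) L819236
theorem L819242 : sm gc N62712 = N62283 := ded_29_1 L819061 L819051 L819236
theorem L819244 : sm gd N62712 = N62532 := ded_35_1 (flp_f L817302) (flp_d L809576) L819236
theorem L819246 : sm gj N62712 = N62518 := ded_46_2 (flp_f L817201) (flp_j L809572) L819236
theorem L819248 : sm gh N62712 = N61869 := ded_47_2 (flp_f L809660) (flp_h L809574) L819236
theorem L819250 : sm gg N61863 = N62713 := rfl
theorem L819252 : sm gb N62713 = N61864 := ded_23_1 (flp_g L809590) (flp_b L809580) L819250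
theorem L819254 : sm gc N62713 = N61872 := ded_30_1 L809702 (flp_c L809582) L819250
theorem L819256 : sm gd N62713 = N62533 := ded_36_1 (flp_g L817310) (flp_d L809584) L819250
theorem L819258 : sm ge N62713 = N62603 := ded_41_1 (flp_g L819160) L819158 L819250
theorem L819260 : sm gh N62713 = N61870 := ded_50_2 (flp_g L809670) (flp_h L809588) L819250
theorem L819262 : sm gf N62713 = N61993 := ded_45_1 (flp_g L811381) (flp_f L799935) (flp_g L798017) L809578 L819250
theorem L819264 : sm gj N62308 = N62713 := ded_24_0 L819252 (flp_j L809604) (flp_b L815236)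
theorem L819266 : sm gd N61865 = N62714 := rfl
theorem L819268 : sm ga N62714 = N61866 := ded_12_1 (flp_d L809618) (flp_a L809608) L819266
theorem L819270 : sm gb N62714 = N62360 := ded_20_1 L815768 (flp_b L809610) L819266
theorem L819272 : sm gg N62714 = N62281 := ded_36_2 (flp_d L814962) (flp_g L809614) L819266
theorem L819274 : sm gi N62714 = N62446 := ded_39_2 L816543 (flp_i L809616) L819266
theorem L819276 : sm gc N62714 = N62602 := ded_27_1 (flp_d L817777) L807862 (flp_d L806249) (flp_c L809612) L819266
theorem L819278 : sm ge N62714 = N61871 := ded_34_2 (flp_d L809686) (flp_e L798139) (flp_d L798057) L809606 L819266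
theorem L819280 : sm gf N62535 = N62714 := ded_14_0 L819268 (flp_f L809630) (flp_a L817322)
theorem L819282 : sm gf N61865 = N62715 := rfl
theorem L819284 : sm ga N62715 = N61867 := ded_14_1 (flp_f L809632) (flp_a L809608) L819282
theorem L819286 : sm gb N62715 = N62440 := ded_22_1 (flp_f L816485) (flp_b L809610) L819282
theorem L819288 : sm gc N62715 = N62281 := ded_29_1 L814968 (flp_c L809612) L819282
theorem L819290 : sm gd N62715 = N62535 := ded_35_1 L819280 (flp_d L819266) L819282
theorem L819292 : sm gi N62715 = N62486 := ded_48_2 (flp_f L816939) (flp_i L809616) L819282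
theorem L819294 : sm ge N62715 = N61869 := ded_40_1 (flp_f L809660) (flp_e L798105) (flp_f L798059) L809606 L819282
theorem L819296 : sm gg N62715 = N62602 := ded_45_2 L817781 L807977 (flp_f L804152) (flp_g L809614) L819282
theorem L819298 : sm gh N61866 = N62716 := rfl
theorem L819300 : sm gb N62716 = N61868 := ded_25_1 (flp_h L809646) (flp_b L809620) L819298
theorem L819302 : sm gc N62716 = N62603 := ded_32_1 (flp_h L817785) (flp_c L809626) L819298
theorem L819304 : sm ge N62716 = N61872 := ded_43_1 (flp_h L809696) (flp_e L809628) L819298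
theorem L819306 : sm gf N62716 = N62287 := ded_47_1 L815032 L809630 L819298
theorem L819308 : sm gg N62716 = N62282 := ded_50_1 (flp_h L814974) (flp_g L809622) L819298
theorem L819310 : sm gj N62716 = N62322 := ded_52_1 L818889 L818879 L819298
theorem L819312 : sm gi N61868 = N62717 := rfl
theorem L819314 : sm ga N62717 = N62367 := ded_18_1 (flp_i L815830) (flp_a L809648) L819312
theorem L819316 : sm gc N62717 = N61874 := ded_33_1 (flp_i L809718) (flp_c L809650) L819312
theorem L819318 : sm ge N62717 = N61873 := ded_44_1 (flp_i L809706) (flp_e L809652) L819312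
theorem L819320 : sm gf N62717 = N62101 := ded_48_1 L813011 (flp_f L809654) L819312
theorem L819322 : sm gg N62717 = N61930 := ded_51_1 L810553 (flp_g L809656) L819312
theorem L819324 : sm gj N62717 = N62122 := ded_53_1 L813208 (flp_j L809658) L819312
theorem L819326 : sm gh N62717 = N61937 := ded_54_1 L810622 (flp_h L806042) (flp_i L798083) L809646 L819312
theorem L819328 : sm gg N61869 = N62718 := rfl
theorem L819330 : sm ga N62718 = N61870 := ded_15_1 (flp_g L809670) (flp_a L809662) L819328
theorem L819332 : sm gb N62718 = N62486 := ded_23_1 L816947 (flp_b L809664) L819328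
theorem L819334 : sm gc N62718 = N61871 := ded_30_1 L809694 (flp_c L809666) L819328
theorem L819336 : sm gd N62718 = N62010 := ded_36_1 (flp_g L811655) (flp_d L809668) L819328
theorem L819338 : sm ge N62718 = N62602 := ded_41_1 (flp_g L819296) L819294 L819328
theorem L819340 : sm gi N62718 = N62440 := ded_51_2 (flp_g L818798) L818794 L819328
theorem L819342 : sm gf N62718 = N62012 := ded_45_1 L811689 L804900 (flp_g L798111) L809660 L819328
theorem L819344 : sm gj N62592 = N62718 := ded_16_0 L819330 (flp_j L809684) (flp_a L817721)
theorem L819346 : sm gh N61871 = N62719 := rfl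
theorem L819348 : sm ga N62719 = N61872 := ded_17_1 (flp_h L809696) (flp_a L809688) L819346
theorem L819350 : sm gb N62719 = N62444 := ded_25_1 (flp_h L816521) (flp_b L809690) L819346
theorem L819352 : sm gf N62719 = N62013 := ded_47_1 (flp_h L811697) (flp_f L809692) L819346
theorem L819354 : sm gg N62719 = N62283 := ded_50_1 (flp_h L814982) (flp_g L809694) L819346
theorem L819356 : sm gj N62719 = N62326 := ded_52_1 L819007 L819003 L819346
theorem L819358 : sm gi N61872 = N62720 := rfl
theorem L819360 : sm gb N62720 = N61873 := ded_26_1 (flp_i L809706) (flp_b L809698) L819358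
theorem L819362 : sm gf N62720 = N62014 := ded_48_1 (flp_i L811707) (flp_f L809700) L819358
theorem L819364 : sm gg N62720 = N62284 := ded_51_1 (flp_i L814988) (flp_g L809702) L819358
theorem L819366 : sm gj N62720 = N62125 := ded_53_1 L813233 (flp_j L809704) L819358
theorem L819368 : sm ga N61876 = N62721 := rfl
theorem L819370 : sm gc N62721 = N62247 := ded_11_2 (flp_a L814583) (flp_c L809769) L819368
theorem L819372 : sm gd N62721 = N61879 := ded_12_2 (flp_a L809803) (flp_d L809757) L819368
theorem L819374 : sm gf N62721 = N62548 := ded_14_2 (flp_a L817409) (flp_f L809759) L819368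
theorem L819376 : sm gg N62721 = N61880 := ded_15_2 (flp_a L809819) (flp_g L809761) L819368
theorem L819378 : sm gj N62721 = N62030 := ded_16_2 (flp_a L811975) (flp_j L809763) L819368
theorem L819380 : sm gh N62721 = N62556 := ded_17_2 (flp_a L817468) (flp_h L809765) L819368
theorem L819382 : sm gi N62721 = N62168 := ded_18_2 (flp_a L813699) (flp_i L809767) L819368
theorem L819384 : sm gb N62721 = N62173 := ded_10_2 (flp_a L813764) (flp_b L802648) (flp_a L798297) L809755 L819368
theorem L819386 : sm ga N61877 = N62722 := rfl
theorem L819388 : sm gc N62722 = N61895 := ded_11_2 (flp_a L810076) (flp_c L809785) L819386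
theorem L819390 : sm gd N62722 = N62548 := ded_12_2 (flp_a L817409) (flp_d L809773) L819386
theorem L819392 : sm gf N62722 = N61879 := ded_14_2 (flp_a L809803) (flp_f L809775) L819386
theorem L819394 : sm gg N62722 = N62169 := ded_15_2 (flp_a L813715) (flp_g L809777) L819386
theorem L819396 : sm gj N62722 = N62033 := ded_16_2 (flp_a L812007) (flp_j L809779) L819386
theorem L819398 : sm gh N62722 = N62017 := ded_17_2 (flp_a L811757) (flp_h L809781) L819386
theorem L819400 : sm gi N62722 = N62211 := ded_18_2 (flp_a L814144) (flp_i L809783) L819386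
theorem L819402 : sm gb N62722 = N62038 := ded_10_2 (flp_a L812084) (flp_b L800819) (flp_a L798313) L809771 L819386
theorem L819404 : sm ge N61877 = N62723 := rfl
theorem L819406 : sm gb N62723 = N61878 := ded_21_1 (flp_e L809787) L809771 L819404
theorem L819408 : sm gc N62723 = N61896 := ded_28_1 (flp_e L810090) (flp_c L809785) L819404
theorem L819410 : sm gg N62723 = N62170 := ded_41_2 (flp_e L813729) (flp_g L809777) L819404
theorem L819412 : sm gj N62723 = N62034 := ded_42_2 (flp_e L812021) (flp_j L809779) L819404
theorem L819414 : sm gh N62723 = N62018 := ded_43_2 (flp_e L811773) (flp_h L809781) L819404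
theorem L819416 : sm gi N62723 = N62212 := ded_44_2 (flp_e L814156) (flp_i L809783) L819404
theorem L819418 : sm gf N62723 = N62104 := ded_40_2 (flp_e L813037) L801860 (flp_e L798346) (flp_f L809775) L819404
theorem L819420 : sm gd N61878 = N62724 := rfl
theorem L819422 : sm ga N62724 = N62040 := ded_12_1 (flp_d L812112) (flp_a L809789) L819420
theorem L819424 : sm gf N62724 = N62105 := ded_35_2 (flp_d L813049) (flp_f L809801) L819420
theorem L819426 : sm gg N62724 = N62171 := ded_36_2 (flp_d L813739) (flp_g L809793) L819420
theorem L819428 : sm gj N62724 = N62035 := ded_37_2 (flp_d L812035) (flp_j L809795) L819420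
theorem L819430 : sm gi N62724 = N62213 := ded_39_2 (flp_d L814166) (flp_i L809799) L819420
theorem L819432 : sm gc N62724 = N62724 := ded_27_1 (flp_d L819420) L809791 L798341 (flp_c L809791) L819420
theorem L819433 : sm ge N62724 = N62550 := ded_34_2 (flp_d L817427) (flp_e L807266) (flp_d L798325) L809787 L819420
theorem L819435 : sm gh N62724 = N62077 := ded_38_2 (flp_d L812660) L801466 (flp_d L800495) (flp_h L809797) L819420
theorem L819437 : sm ge N61880 = N62725 := rfl
theorem L819439 : sm ga N62725 = N61881 := ded_13_1 (flp_e L809835) L809819 L819437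
theorem L819441 : sm gb N62725 = N62227 := ded_21_1 (flp_e L814340) (flp_b L809833) L819437
theorem L819443 : sm gc N62725 = N62251 := ded_28_1 (flp_e L814623) (flp_c L809821) L819437
theorem L819445 : sm gj N62725 = N61885 := ded_42_2 (flp_e L809902) (flp_j L809827) L819437
theorem L819447 : sm gh N62725 = N62575 := ded_43_2 (flp_e L817604) (flp_h L809829) L819437
theorem L819449 : sm gi N62725 = N62224 := ded_44_2 (flp_e L814300) (flp_i L809831) L819437
theorem L819451 : sm gd N62725 = N62546 := ded_34_1 (flp_e L817395) L807228 (flp_e L798392) (flp_d L809823) L819437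
theorem L819453 : sm gf N62725 = N62581 := ded_40_2 (flp_e L817645) L807640 (flp_e L803440) (flp_f L809825) L819437
theorem L819455 : sm ge N61882 = N62726 := rfl
theorem L819457 : sm ga N62726 = N61883 := ded_13_1 (flp_e L809869) L809851 L819455
theorem L819459 : sm gb N62726 = N62228 := ded_21_1 (flp_e L814350) (flp_b L809867) L819455
theorem L819461 : sm gc N62726 = N62241 := ded_28_1 (flp_e L814513) (flp_c L809853) L819455
theorem L819463 : sm gg N62726 = N62216 := ded_41_2 (flp_e L814201) (flp_g L809859) L819455
theorem L819465 : sm gj N62726 = N62575 := ded_42_2 (flp_e L817604) (flp_j L809861) L819455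
theorem L819467 : sm gh N62726 = N61885 := ded_43_2 (flp_e L809902) (flp_h L809863) L819455
theorem L819469 : sm gi N62726 = N62574 := ded_44_2 (flp_e L817596) (flp_i L809865) L819455
theorem L819471 : sm gf N62726 = N62584 := ded_40_2 (flp_e L817667) L807683 (flp_e L803311) (flp_f L809857) L819455
theorem L819473 : sm gd N61883 = N62727 := rfl
theorem L819475 : sm gb N62727 = N61884 := ded_20_1 (flp_d L809885) (flp_b L809871) L819473
theorem L819477 : sm gf N62727 = N62585 := ded_35_2 (flp_d L817679) (flp_f L809883) L819473
theorem L819479 : sm gg N62727 = N62217 := ded_36_2 (flp_d L814211) (flp_g L809875) L819473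
theorem L819481 : sm gj N62727 = N62576 := ded_37_2 (flp_d L817608) (flp_j L809877) L819473
theorem L819483 : sm gi N62727 = N62379 := ded_39_2 L815956 (flp_i L809881) L819473
theorem L819485 : sm ge N62727 = N62223 := ded_34_2 (flp_d L814290) (flp_e L803333) (flp_d L798404) L809869 L819473
theorem L819487 : sm gh N62727 = N62540 := ded_38_2 (flp_d L817362) L807170 (flp_d L798458) (flp_h L809879) L819473
theorem L819489 : sm ge N61887 = N62728 := rfl
theorem L819491 : sm ga N62728 = N61888 := ded_13_1 (flp_e L809956) L809938 L819489
theorem L819493 : sm gb N62728 = N61938 := ded_21_1 (flp_e L810626) (flp_b L809954) L819489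
theorem L819495 : sm gc N62728 = N62228 := ded_28_1 (flp_e L814350) (flp_c L809940) L819489
theorem L819497 : sm gg N62728 = N62584 := ded_41_2 (flp_e L817667) (flp_g L809946) L819489
theorem L819499 : sm gj N62728 = N62570 := ded_42_2 (flp_e L817575) (flp_j L809948) L819489
theorem L819501 : sm gh N62728 = N61894 := ded_43_2 (flp_e L810058) (flp_h L809950) L819489
theorem L819503 : sm gi N62728 = N62459 := ded_44_2 (flp_e L816661) (flp_i L809952) L819489
theorem L819505 : sm gf N62728 = N62328 := ded_40_2 (flp_e L815417) L804595 (flp_e L798536) (flp_f L809944) L819489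
theorem L819507 : sm gd N61888 = N62729 := rfl
theorem L819509 : sm gb N62729 = N61889 := ded_20_1 (flp_d L809972) (flp_b L809958) L819507
theorem L819511 : sm gf N62729 = N62329 := ded_35_2 (flp_d L815429) (flp_f L809970) L819507
theorem L819513 : sm gg N62729 = N62585 := ded_36_2 (flp_d L817679) (flp_g L809962) L819507
theorem L819515 : sm gj N62729 = N62571 := ded_37_2 (flp_d L817583) (flp_j L809964) L819507
theorem L819517 : sm gi N62729 = N62460 := ded_39_2 (flp_d L816677) (flp_i L809968) L819507
theorem L819519 : sm ge N62729 = N62542 := ded_34_2 (flp_d L817376) (flp_e L807187) (flp_d L798500) L809956 L819507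
theorem L819521 : sm gh N62729 = N62510 := ded_38_2 (flp_d L817160) L806804 (flp_d L798652) (flp_h L809966) L819507
theorem L819523 : sm ge N61890 = N62730 := rfl
theorem L819525 : sm ga N62730 = N61891 := ded_13_1 (flp_e L810007) L809989 L819523
theorem L819527 : sm gb N62730 = N61968 := ded_21_1 (flp_e L811048) (flp_b L810005) L819523
theorem L819529 : sm gc N62730 = N62278 := ded_28_1 (flp_e L814937) (flp_c L809991) L819523
theorem L819531 : sm gg N62730 = N62463 := ded_41_2 (flp_e L816715) (flp_g L809997) L819523
theorem L819533 : sm gj N62730 = N62610 := ded_42_2 (flp_e L817838) (flp_j L809999) L819523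
theorem L819535 : sm gh N62730 = N61893 := ded_43_2 (flp_e L810040) (flp_h L810001) L819523
theorem L819537 : sm gi N62730 = N62492 := ded_44_2 (flp_e L817001) (flp_i L810003) L819523
theorem L819539 : sm gf N62730 = N62599 := ded_40_2 (flp_e L817758) L807843 (flp_e L804069) (flp_f L809995) L819523
theorem L819541 : sm gd N61891 = N62731 := rfl
theorem L819543 : sm gb N62731 = N61892 := ded_20_1 (flp_d L810023) (flp_b L810009) L819541
theorem L819545 : sm gf N62731 = N62600 := ded_35_2 (flp_d L817766) (flp_f L810021) L819541
theorem L819547 : sm gg N62731 = N62464 := ded_36_2 (flp_d L816723) (flp_g L810013) L819541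
theorem L819549 : sm gj N62731 = N62611 := ded_37_2 (flp_d L817846) (flp_j L810015) L819541
theorem L819551 : sm gi N62731 = N62493 := ded_39_2 (flp_d L817009) (flp_i L810019) L819541
theorem L819553 : sm ge N62731 = N62512 := ded_34_2 (flp_d L817172) (flp_e L806849) (flp_d L798562) L810007 L819541
theorem L819555 : sm gh N62731 = N62609 := ded_38_2 (flp_d L817832) L807917 (flp_d L798620) (flp_h L810017) L819541
theorem L819557 : sm ge N61895 = N62732 := rfl
theorem L819559 : sm ga N62732 = N61896 := ded_13_1 (flp_e L810090) L810076 L819557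
theorem L819561 : sm gb N62732 = N61985 := ded_21_1 (flp_e L811276) (flp_b L810088) L819557
theorem L819563 : sm gg N62732 = N62185 := ded_41_2 (flp_e L813901) (flp_g L810082) L819557
theorem L819565 : sm gj N62732 = N62469 := ded_42_2 (flp_e L816777) (flp_j L810084) L819557
theorem L819567 : sm gh N62732 = N62201 := ded_43_2 (flp_e L814051) (flp_h L810086) L819557
theorem L819569 : sm gf N62732 = N62568 := ded_40_2 (flp_e L817559) L807434 (flp_e L798686) (flp_f L810080) L819557
theorem L819571 : sm gd N61896 = N62733 := rfl
theorem L819573 : sm gb N62733 = N61897 := ded_20_1 (flp_d L810102) (flp_b L810092) L819571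
theorem L819575 : sm gf N62733 = N62569 := ded_35_2 (flp_d L817569) (flp_f L810100) L819571
theorem L819577 : sm gg N62733 = N62186 := ded_36_2 (flp_d L813907) (flp_g L810094) L819571
theorem L819579 : sm gj N62733 = N62470 := ded_37_2 (flp_d L816785) (flp_j L810096) L819571
theorem L819581 : sm ge N62733 = N62422 := ded_34_2 (flp_d L816342) (flp_e L805660) (flp_d L798658) L810090 L819571
theorem L819583 : sm gh N61897 = N62734 := rfl
theorem L819585 : sm ga N62734 = N61987 := ded_17_1 (flp_h L811296) (flp_a L810104) L819583
theorem L819587 : sm gc N62734 = N62734 := ded_32_1 (flp_h L819583) L810112 L819583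
theorem L819588 : sm ge N62734 = N62366 := ded_43_1 L815828 (flp_e L810113) L819583
theorem L819590 : sm gf N62734 = N62171 := ded_47_1 L813748 (flp_f L810106) L819583
theorem L819592 : sm gg N62734 = N62189 := ded_50_1 (flp_h L813926) (flp_g L810108) L819583
theorem L819594 : sm gj N62734 = N62471 := ded_52_1 (flp_h L816791) (flp_j L810110) L819583
theorem L819596 : sm gd N62734 = N62172 := ded_38_1 L813758 L802754 (flp_h L798678) L810102 L819583
theorem L819598 : sm ge N61898 = N62735 := rfl
theorem L819600 : sm ga N62735 = N61899 := ded_13_1 (flp_e L810133) L810115 L819598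
theorem L819602 : sm gb N62735 = N62011 := ded_21_1 (flp_e L811671) (flp_b L810131) L819598
theorem L819604 : sm gc N62735 = N62049 := ded_28_1 (flp_e L812243) (flp_c L810117) L819598
theorem L819606 : sm gg N62735 = N62166 := ded_41_2 (flp_e L813681) (flp_g L810123) L819598
theorem L819608 : sm gj N62735 = N61900 := ded_42_2 (flp_e L810151) (flp_j L810125) L819598
theorem L819610 : sm gh N62735 = N62048 := ded_43_2 (flp_e L812227) (flp_h L810127) L819598
theorem L819612 : sm gi N62735 = N62581 := ded_44_2 (flp_e L817645) (flp_i L810129) L819598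
theorem L819614 : sm gd N62735 = N61990 := ded_34_1 (flp_e L811341) L799889 (flp_e L805127) (flp_d L810119) L819598
theorem L819616 : sm gf N62735 = N62224 := ded_40_2 (flp_e L814300) L803370 (flp_e L803074) (flp_f L810121) L819598
theorem L819618 : sm ga N61901 = N62736 := rfl
theorem L819620 : sm gc N62736 = N61910 := ded_11_2 (flp_a L810305) (flp_c L810183) L819618
theorem L819622 : sm gd N62736 = N62285 := ded_12_2 (flp_a L814992) (flp_d L810171) L819618
theorem L819624 : sm gf N62736 = N62494 := ded_14_2 (flp_a L817017) (flp_f L810173) L819618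
theorem L819626 : sm gg N62736 = N62312 := ded_15_2 (flp_a L815277) (flp_g L810175) L819618
theorem L819628 : sm gj N62736 = N61922 := ded_16_2 (flp_a L810463) (flp_j L810177) L819618
theorem L819630 : sm gh N62736 = N62315 := ded_17_2 (flp_a L815321) (flp_h L810179) L819618
theorem L819632 : sm gi N62736 = N62295 := ded_18_2 (flp_a L815093) (flp_i L810181) L819618
theorem L819634 : sm gb N62736 = N62106 := ded_10_2 (flp_a L813056) (flp_b L801892) (flp_a L798796) L810169 L819618
theorem L819636 : sm ge N61901 = N62737 := rfl
theorem L819638 : sm gb N62737 = N61902 := ded_21_1 (flp_e L810185) L810169 L819636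
theorem L819640 : sm gc N62737 = N61911 := ded_28_1 (flp_e L810317) (flp_c L810183) L819636
theorem L819642 : sm gg N62737 = N62313 := ded_41_2 (flp_e L815293) (flp_g L810175) L819636
theorem L819644 : sm gj N62737 = N61923 := ded_42_2 (flp_e L810473) (flp_j L810177) L819636
theorem L819646 : sm gh N62737 = N62316 := ded_43_2 (flp_e L815331) (flp_h L810179) L819636
theorem L819648 : sm gi N62737 = N62296 := ded_44_2 (flp_e L815105) (flp_i L810181) L819636
theorem L819650 : sm gf N61902 = N62738 := rfl
theorem L819652 : sm ga N62738 = N62109 := ded_14_1 (flp_f L813086) (flp_a L810187) L819650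
theorem L819654 : sm gc N62738 = N61903 := ded_29_1 (flp_f L810199) (flp_c L810189) L819650
theorem L819656 : sm gj N62738 = N61925 := ded_46_2 (flp_f L810493) (flp_j L810193) L819650
theorem L819658 : sm gh N62738 = N62318 := ded_47_2 (flp_f L815348) (flp_h L810195) L819650
theorem L819660 : sm gi N62738 = N62298 := ded_48_2 (flp_f L815127) (flp_i L810197) L819650
theorem L819662 : sm ge N62738 = N62497 := ded_40_1 (flp_f L817042) (flp_e L806656) (flp_f L798798) L810185 L819650
theorem L819664 : sm ga N61904 = N62739 := rfl
theorem L819666 : sm gc N62739 = N62315 := ded_11_2 (flp_a L815321) (flp_c L810229) L819664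
theorem L819668 : sm gd N62739 = N61949 := ded_12_2 (flp_a L810769) (flp_d L810217) L819664
theorem L819670 : sm gf N62739 = N62435 := ded_14_2 L816433 (flp_f L810219) L819664
theorem L819672 : sm gg N62739 = N62302 := ded_15_2 (flp_a L815183) (flp_g L810221) L819664
theorem L819674 : sm gj N62739 = N61927 := ded_16_2 (flp_a L810512) (flp_j L810223) L819664
theorem L819676 : sm gh N62739 = N61910 := ded_17_2 (flp_a L810305) (flp_h L810225) L819664
theorem L819678 : sm gi N62739 = N62436 := ded_18_2 L816445 (flp_i L810227) L819664
theorem L819680 : sm gb N62739 = N62504 := ded_10_2 (flp_a L817105) (flp_b L806737) (flp_a L798840) L810215 L819664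
theorem L819682 : sm ge N61904 = N62740 := rfl
theorem L819684 : sm gb N62740 = N61905 := ded_21_1 (flp_e L810231) L810215 L819682
theorem L819686 : sm gc N62740 = N62316 := ded_28_1 (flp_e L815331) (flp_c L810229) L819682
theorem L819688 : sm gg N62740 = N62303 := ded_41_2 (flp_e L815193) (flp_g L810221) L819682
theorem L819690 : sm gj N62740 = N61928 := ded_42_2 (flp_e L810524) (flp_j L810223) L819682
theorem L819692 : sm gh N62740 = N61911 := ded_43_2 (flp_e L810317) (flp_h L810225) L819682
theorem L819694 : sm gi N62740 = N62437 := ded_44_2 (flp_e L816457) (flp_i L810227) L819682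
theorem L819696 : sm gd N61905 = N62741 := rfl
theorem L819698 : sm ga N62741 = N62506 := ded_12_1 (flp_d L817127) (flp_a L810233) L819696
theorem L819700 : sm gg N62741 = N62304 := ded_36_2 (flp_d L815203) (flp_g L810237) L819696
theorem L819702 : sm gj N62741 = N61929 := ded_37_2 (flp_d L810534) (flp_j L810239) L819696
theorem L819704 : sm gi N62741 = N62433 := ded_39_2 L816422 (flp_i L810243) L819696
theorem L819706 : sm gc N62741 = N62741 := ded_27_1 (flp_d L819696) L810235 L798868 (flp_c L810235) L819696
theorem L819707 : sm ge N62741 = N61951 := ded_34_2 (flp_d L810797) (flp_e L799323) (flp_d L798852) L810231 L819696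
theorem L819709 : sm gh N62741 = N62607 := ded_38_2 (flp_d L817817) L807894 (flp_d L798922) (flp_h L810241) L819696
theorem L819711 : sm gf N61905 = N62742 := rfl
theorem L819713 : sm ga N62742 = N62398 := ded_14_1 L816140 (flp_a L810233) L819711
theorem L819715 : sm gc N62742 = N61906 := ded_29_1 (flp_f L810245) (flp_c L810235) L819711
theorem L819717 : sm gj N62742 = N61930 := ded_46_2 (flp_f L810545) (flp_j L810239) L819711
theorem L819719 : sm gh N62742 = N61912 := ded_47_2 (flp_f L810329) (flp_h L810241) L819711
theorem L819721 : sm gi N62742 = N62199 := ded_48_2 L814035 (flp_i L810243) L819711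
theorem L819723 : sm ge N62742 = N62193 := ded_40_1 (flp_f L813959) L802862 (flp_f L798842) L810231 L819711
theorem L819725 : sm gg N61906 = N62743 := rfl
theorem L819727 : sm ga N62743 = N62451 := ded_15_1 L816585 (flp_a L810247) L819725
theorem L819729 : sm gb N62743 = N62319 := ded_23_1 (flp_g L815356) (flp_b L810249) L819725
theorem L819731 : sm gd N62743 = N62743 := ded_36_1 (flp_g L819725) L810251 L819725
theorem L819732 : sm ge N62743 = N62127 := ded_41_1 L813257 (flp_e L810258) L819725
theorem L819734 : sm gh N62743 = N61913 := ded_50_2 (flp_g L810341) (flp_h L810254) L819725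
theorem L819736 : sm gi N62743 = N62209 := ded_51_2 L814119 (flp_i L810256) L819725
theorem L819738 : sm gf N62743 = N61926 := ded_45_1 L810507 (flp_f L804409) (flp_g L798860) L810245 L819725
theorem L819740 : sm gj N62743 = N62123 := ded_49_2 (flp_g L813212) (flp_j L809731) L809729 (flp_j L810252) L819725
theorem L819742 : sm ga N61907 = N62744 := rfl
theorem L819744 : sm gc N62744 = N62494 := ded_11_2 (flp_a L817017) (flp_c L810274) L819742
theorem L819746 : sm gd N62744 = N61917 := ded_12_2 (flp_a L810398) (flp_d L810262) L819742
theorem L819748 : sm gf N62744 = N61910 := ded_14_2 (flp_a L810305) (flp_f L810264) L819742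
theorem L819750 : sm gg N62744 = N62500 := ded_15_2 (flp_a L817066) (flp_g L810266) L819742
theorem L819752 : sm gj N62744 = N61931 := ded_16_2 (flp_a L810557) (flp_j L810268) L819742
theorem L819754 : sm gh N62744 = N62435 := ded_17_2 L816433 (flp_h L810270) L819742
theorem L819756 : sm gi N62744 = N62474 := ded_18_2 (flp_a L816818) (flp_i L810272) L819742
theorem L819758 : sm gb N62744 = N62524 := ded_10_2 (flp_a L817233) (flp_b L806952) (flp_a L798871) L810260 L819742
theorem L819760 : sm ge N61907 = N62745 := rfl
theorem L819762 : sm gb N62745 = N61908 := ded_21_1 (flp_e L810276) L810260 L819760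
theorem L819764 : sm gc N62745 = N62495 := ded_28_1 (flp_e L817025) (flp_c L810274) L819760
theorem L819766 : sm gg N62745 = N62501 := ded_41_2 (flp_e L817076) (flp_g L810266) L819760
theorem L819768 : sm gj N62745 = N61932 := ded_42_2 (flp_e L810569) (flp_j L810268) L819760
theorem L819770 : sm gh N62745 = N62191 := ded_43_2 L813951 (flp_h L810270) L819760
theorem L819772 : sm gi N62745 = N62475 := ded_44_2 (flp_e L816830) (flp_i L810272) L819760
theorem L819774 : sm gd N61908 = N62746 := rfl
theorem L819776 : sm ga N62746 = N62526 := ded_12_1 (flp_d L817255) (flp_a L810278) L819774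
theorem L819778 : sm gg N62746 = N62502 := ded_36_2 (flp_d L817086) (flp_g L810282) L819774
theorem L819780 : sm gj N62746 = N61933 := ded_37_2 (flp_d L810577) (flp_j L810284) L819774
theorem L819782 : sm gi N62746 = N62476 := ded_39_2 (flp_d L816838) (flp_i L810288) L819774
theorem L819784 : sm gc N62746 = N62746 := ded_27_1 (flp_d L819774) L810280 L798899 (flp_c L810280) L819774
theorem L819785 : sm ge N62746 = N61919 := ded_34_2 (flp_d L810424) (flp_e L798989) (flp_d L798883) L810276 L819774
theorem L819787 : sm gh N62746 = N62146 := ded_38_2 (flp_d L813484) L802303 L802852 (flp_h L810286) L819774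
theorem L819789 : sm gf N61908 = N62747 := rfl
theorem L819791 : sm ga N62747 = N62352 := ded_14_1 L815662 (flp_a L810278) L819789
theorem L819793 : sm gc N62747 = N61909 := ded_29_1 (flp_f L810290) (flp_c L810280) L819789
theorem L819795 : sm gj N62747 = N61934 := ded_46_2 (flp_f L810588) (flp_j L810284) L819789
theorem L819797 : sm gh N62747 = N62193 := ded_47_2 (flp_f L813959) (flp_h L810286) L819789
theorem L819799 : sm gi N62747 = N62253 := ded_48_2 L814655 (flp_i L810288) L819789
theorem L819801 : sm ge N62747 = N61912 := ded_40_1 (flp_f L810329) (flp_e L798910) (flp_f L798873) L810276 L819789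
theorem L819803 : sm gg N61909 = N62748 := rfl
theorem L819805 : sm ga N62748 = N62365 := ded_15_1 L815817 (flp_a L810292) L819803
theorem L819807 : sm gb N62748 = N62450 := ded_23_1 L816577 (flp_b L810294) L819803
theorem L819809 : sm gd N62748 = N62748 := ded_36_1 (flp_g L819803) L810296 L819803
theorem L819810 : sm ge N62748 = N61913 := ded_41_1 (flp_g L810341) (flp_e L810303) L819803
theorem L819812 : sm gh N62748 = N62127 := ded_50_2 L813257 (flp_h L810299) L819803
theorem L819814 : sm gi N62748 = N62256 := ded_51_2 L814685 (flp_i L810301) L819803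
theorem L819816 : sm gf N62748 = N62311 := ded_45_1 L815270 L805068 (flp_g L798891) L810290 L819803
theorem L819818 : sm gj N62748 = N62118 := ded_49_2 (flp_g L813170) (flp_j L809122) L809120 (flp_j L810297) L819803
theorem L819820 : sm ge N61910 = N62749 := rfl
theorem L819822 : sm ga N62749 = N61911 := ded_13_1 (flp_e L810317) L810305 L819820
theorem L819824 : sm gb N62749 = N62529 := ded_21_1 (flp_e L817280) (flp_b L810315) L819820
theorem L819826 : sm gg N62749 = N62614 := ded_41_2 (flp_e L817859) (flp_g L810309) L819820
theorem L819828 : sm gj N62749 = N61935 := ded_42_2 (flp_e L810600) (flp_j L810311) L819820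
theorem L819830 : sm gi N62749 = N62477 := ded_44_2 (flp_e L816849) (flp_i L810313) L819820
theorem L819832 : sm gd N62749 = N62626 := ded_34_1 (flp_e L817934) (flp_d L808424) L808426 (flp_d L810307) L819820
theorem L819834 : sm gf N61911 = N62750 := rfl
theorem L819836 : sm gb N62750 = N61912 := ded_22_1 (flp_f L810329) (flp_b L810319) L819834
theorem L819838 : sm gd N62750 = N62625 := ded_35_1 L817932 (flp_d L810327) L819834
theorem L819840 : sm gj N62750 = N61936 := ded_46_2 (flp_f L810610) (flp_j L810323) L819834
theorem L819842 : sm gi N62750 = N62478 := ded_48_2 (flp_f L816863) (flp_i L810325) L819834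
theorem L819844 : sm gg N61912 = N62751 := rfl
theorem L819846 : sm ga N62751 = N62531 := ded_15_1 (flp_g L817296) (flp_a L810331) L819844
theorem L819848 : sm gc N62751 = N61913 := ded_30_1 (flp_g L810341) (flp_c L810333) L819844
theorem L819850 : sm gd N62751 = N61925 := ded_36_1 L810499 (flp_d L810335) L819844
theorem L819852 : sm gi N62751 = N62479 := ded_51_2 (flp_g L816873) (flp_i L810339) L819844
theorem L819854 : sm gf N62751 = N61924 := ded_45_1 L810485 L806605 (flp_g L798916) L810329 L819844
theorem L819856 : sm ga N61914 = N62752 := rfl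
theorem L819858 : sm gc N62752 = N62289 := ded_11_2 (flp_a L815045) (flp_c L810365) L819856
theorem L819860 : sm gd N62752 = N62500 := ded_12_2 (flp_a L817066) (flp_d L810353) L819856
theorem L819862 : sm gf N62752 = N62342 := ded_14_2 (flp_a L815552) (flp_f L810355) L819856
theorem L819864 : sm gg N62752 = N61917 := ded_15_2 (flp_a L810398) (flp_g L810357) L819856
theorem L819866 : sm gj N62752 = N62335 := ded_16_2 (flp_a L815468) (flp_j L810359) L819856
theorem L819868 : sm gh N62752 = N61954 := ded_17_2 (flp_a L810832) (flp_h L810361) L819856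
theorem L819870 : sm gi N62752 = N62075 := ded_18_2 (flp_a L812638) (flp_i L810363) L819856
theorem L819872 : sm gb N62752 = N62144 := ded_10_2 (flp_a L813466) (flp_b L802289) (flp_a L798948) L810351 L819856
theorem L819874 : sm ge N61914 = N62753 := rfl
theorem L819876 : sm gb N62753 = N61915 := ded_21_1 (flp_e L810367) L810351 L819874
theorem L819878 : sm gc N62753 = N62290 := ded_28_1 (flp_e L815055) (flp_c L810365) L819874
theorem L819880 : sm gg N62753 = N61918 := ded_41_2 (flp_e L810412) (flp_g L810357) L819874
theorem L819882 : sm gj N62753 = N62336 := ded_42_2 (flp_e L815480) (flp_j L810359) L819874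
theorem L819884 : sm gh N62753 = N61955 := ded_43_2 (flp_e L810846) (flp_h L810361) L819874
theorem L819886 : sm gi N62753 = N62076 := ded_44_2 (flp_e L812650) (flp_i L810363) L819874
theorem L819888 : sm gd N61915 = N62754 := rfl
theorem L819890 : sm ga N62754 = N62146 := ded_12_1 (flp_d L813484) (flp_a L810369) L819888
theorem L819892 : sm gg N62754 = N61919 := ded_36_2 (flp_d L810424) (flp_g L810373) L819888
theorem L819894 : sm gj N62754 = N62337 := ded_37_2 (flp_d L815490) (flp_j L810375) L819888
theorem L819896 : sm gi N62754 = N62077 := ded_39_2 (flp_d L812660) (flp_i L810379) L819888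
theorem L819898 : sm gc N62754 = N62754 := ded_27_1 (flp_d L819888) L810371 L798976 (flp_c L810371) L819888
theorem L819899 : sm ge N62754 = N62502 := ded_34_2 (flp_d L817086) (flp_e L806705) (flp_d L798960) L810367 L819888
theorem L819901 : sm gh N62754 = N62526 := ded_38_2 (flp_d L817255) L806970 (flp_d L799395) (flp_h L810377) L819888
theorem L819903 : sm gf N61915 = N62755 := rfl
theorem L819905 : sm ga N62755 = N62147 := ded_14_1 (flp_f L813491) (flp_a L810369) L819903
theorem L819907 : sm gc N62755 = N61916 := ded_29_1 (flp_f L810381) (flp_c L810371) L819903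
theorem L819909 : sm gj N62755 = N62157 := ded_46_2 L813578 (flp_j L810375) L819903
theorem L819911 : sm gh N62755 = N61956 := ded_47_2 (flp_f L810860) (flp_h L810377) L819903
theorem L819913 : sm gi N62755 = N62078 := ded_48_2 (flp_f L812669) (flp_i L810379) L819903
theorem L819915 : sm ge N62755 = N62194 := ded_40_1 L813977 (flp_e L804756) (flp_f L798950) L810367 L819903
theorem L819917 : sm gg N62755 = N62184 := ded_45_2 (flp_f L813893) (flp_g L808410) L808418 (flp_g L810373) L819903
theorem L819919 : sm ge N61917 = N62756 := rfl
theorem L819921 : sm ga N62756 = N61918 := ded_13_1 (flp_e L810412) L810398 L819919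
theorem L819923 : sm gb N62756 = N62570 := ded_21_1 (flp_e L817575) (flp_b L810410) L819919
theorem L819925 : sm gc N62756 = N62292 := ded_28_1 (flp_e L815070) (flp_c L810400) L819919
theorem L819927 : sm gj N62756 = N61938 := ded_42_2 (flp_e L810626) (flp_j L810404) L819919
theorem L819929 : sm gh N62756 = N61957 := ded_43_2 (flp_e L810872) (flp_h L810406) L819919
theorem L819931 : sm gi N62756 = N62568 := ded_44_2 (flp_e L817559) (flp_i L810408) L819919
theorem L819933 : sm gd N61918 = N62757 := rfl
theorem L819935 : sm gb N62757 = N61919 := ded_20_1 (flp_d L810424) (flp_b L810414) L819933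
theorem L819937 : sm gj N62757 = N61939 := ded_37_2 (flp_d L810638) (flp_j L810418) L819933
theorem L819939 : sm gi N62757 = N62569 := ded_39_2 (flp_d L817569) (flp_i L810422) L819933
theorem L819941 : sm gh N61919 = N62758 := rfl
theorem L819943 : sm ga N62758 = N62502 := ded_17_1 L817091 (flp_a L810426) L819941
theorem L819945 : sm gc N62758 = N62758 := ded_32_1 (flp_h L819941) L810432 L819941
theorem L819946 : sm ge N62758 = N62146 := ded_43_1 (flp_h L819787) L819785 L819941
theorem L819948 : sm gg N62758 = N62526 := ded_50_1 (flp_h L819901) L819892 L819941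
theorem L819950 : sm gj N62758 = N61940 := ded_52_1 (flp_h L810646) (flp_j L810428) L819941
theorem L819952 : sm gd N62758 = N61959 := ded_38_1 (flp_h L810898) (flp_d L799433) (flp_h L798997) L810424 L819941
theorem L819954 : sm gi N62116 = N62758 := ded_44_0 L819946 L813488 (flp_e L813162)
theorem L819956 : sm ga N61920 = N62759 := rfl
theorem L819958 : sm gc N62759 = N62102 := ded_11_2 (flp_a L813013) (flp_c L810447) L819956
theorem L819960 : sm gd N62759 = N62295 := ded_12_2 (flp_a L815093) (flp_d L810435) L819956
theorem L819962 : sm gf N62759 = N62605 := ded_14_2 (flp_a L817799) (flp_f L810437) L819956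
theorem L819964 : sm gg N62759 = N62353 := ded_15_2 (flp_a L815668) (flp_g L810439) L819956
theorem L819966 : sm gj N62759 = N62106 := ded_16_2 (flp_a L813056) (flp_j L810441) L819956
theorem L819968 : sm gh N62759 = N62417 := ded_17_2 (flp_a L816303) (flp_h L810443) L819956
theorem L819970 : sm gi N62759 = N62285 := ded_18_2 (flp_a L814992) (flp_i L810445) L819956
theorem L819972 : sm gb N62759 = N61922 := ded_10_2 (flp_a L810463) (flp_b L799045) (flp_a L799015) L810433 L819956
theorem L819974 : sm ge N61920 = N62760 := rfl
theorem L819976 : sm gb N62760 = N61921 := ded_21_1 (flp_e L810449) L810433 L819974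
theorem L819978 : sm gc N62760 = N62014 := ded_28_1 L811711 (flp_c L810447) L819974
theorem L819980 : sm gg N62760 = N61953 := ded_41_2 L810830 (flp_g L810439) L819974
theorem L819982 : sm gj N62760 = N62107 := ded_42_2 (flp_e L813066) (flp_j L810441) L819974
theorem L819984 : sm gh N62760 = N62418 := ded_43_2 (flp_e L816311) (flp_h L810443) L819974
theorem L819986 : sm gi N62760 = N61993 := ded_44_2 L811387 (flp_i L810445) L819974
theorem L819988 : sm ge N61922 = N62761 := rfl
theorem L819990 : sm ga N62761 = N61923 := ded_13_1 (flp_e L810473) L810463 L819988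
theorem L819992 : sm gc N62761 = N61935 := ded_28_1 (flp_e L810600) (flp_c L810465) L819988
theorem L819994 : sm gg N62761 = N62490 := ded_41_2 (flp_e L816977) (flp_g L810469) L819988
theorem L819996 : sm gi N62761 = N62483 := ded_44_2 (flp_e L816913) (flp_i L810471) L819988
theorem L819998 : sm gd N61923 = N62762 := rfl
theorem L820000 : sm gb N62762 = N61924 := ded_20_1 (flp_d L810483) (flp_b L810475) L819998
theorem L820002 : sm gg N62762 = N62491 := ded_36_2 (flp_d L816989) (flp_g L810479) L819998
theorem L820004 : sm gi N62762 = N62484 := ded_39_2 (flp_d L816923) (flp_i L810481) L819998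
theorem L820006 : sm ge N62762 = N62307 := ded_34_2 (flp_d L815228) (flp_e L804426) (flp_d L799047) L810473 L819998
theorem L820008 : sm gf N61923 = N62763 := rfl
theorem L820010 : sm gb N62763 = N61925 := ded_22_1 (flp_f L810493) (flp_b L810475) L820008
theorem L820012 : sm gc N62763 = N61936 := ded_29_1 (flp_f L810610) (flp_c L810477) L820008
theorem L820014 : sm gi N62763 = N62485 := ded_48_2 (flp_f L816929) (flp_i L810481) L820008
theorem L820016 : sm gg N62763 = N62625 := ded_45_2 L817932 L808100 (flp_f L806601) (flp_g L810479) L820008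
theorem L820018 : sm gh N61924 = N62764 := rfl
theorem L820020 : sm gc N62764 = N61926 := ded_32_1 (flp_h L810501) (flp_c L810489) L820018
theorem L820022 : sm ge N62764 = N62310 := ded_43_1 (flp_h L815254) (flp_e L810491) L820018
theorem L820024 : sm gg N62764 = N62305 := ded_50_1 L815216 (flp_g L810485) L820018
theorem L820026 : sm gj N62764 = N62457 := ded_52_1 (flp_h L818917) L818921 L820018
theorem L820028 : sm ge N61927 = N62765 := rfl
theorem L820030 : sm ga N62765 = N61928 := ded_13_1 (flp_e L810524) L810512 L820028
theorem L820032 : sm gb N62765 = N62511 := ded_21_1 (flp_e L817164) (flp_b L810522) L820028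
theorem L820034 : sm gg N62765 = N62492 := ded_41_2 (flp_e L817001) (flp_g L810516) L820028
theorem L820036 : sm gh N62765 = N61935 := ded_43_2 (flp_e L810600) (flp_h L810518) L820028
theorem L820038 : sm gi N62765 = N62463 := ded_44_2 (flp_e L816715) (flp_i L810520) L820028
theorem L820040 : sm gd N61928 = N62766 := rfl
theorem L820042 : sm gb N62766 = N61929 := ded_20_1 (flp_d L810534) (flp_b L810526) L820040
theorem L820044 : sm gg N62766 = N62493 := ded_36_2 (flp_d L817009) (flp_g L810528) L820040
theorem L820046 : sm gi N62766 = N62464 := ded_39_2 (flp_d L816723) (flp_i L810532) L820040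
theorem L820048 : sm ge N62766 = N61969 := ded_34_2 (flp_d L811056) (flp_e L799561) (flp_d L799083) L810524 L820040
theorem L820050 : sm gf N61928 = N62767 := rfl
theorem L820052 : sm gb N62767 = N61930 := ded_22_1 (flp_f L810545) (flp_b L810526) L820050
theorem L820054 : sm gh N62767 = N61936 := ded_47_2 (flp_f L810610) (flp_h L810530) L820050
theorem L820056 : sm gi N62767 = N62282 := ded_48_2 L814980 (flp_i L810532) L820050
theorem L820058 : sm ge N62767 = N62284 := ded_40_1 L819043 (flp_e L819027) L809330 L810524 L820050
theorem L820060 : sm gf N61929 = N62768 := rfl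
theorem L820062 : sm ga N62768 = N62434 := ded_14_1 L816429 (flp_a L810536) L820060
theorem L820064 : sm gc N62768 = N62768 := ded_29_1 (flp_f L820060) L810542 L820060
theorem L820065 : sm gd N62768 = N61930 := ded_35_1 (flp_f L810545) L810534 L820060
theorem L820067 : sm gi N62768 = N62280 := ded_48_2 L814958 (flp_i L810540) L820060
theorem L820069 : sm ge N61931 = N62769 := rfl
theorem L820071 : sm ga N62769 = N61932 := ded_13_1 (flp_e L810569) L810557 L820069
theorem L820073 : sm gb N62769 = N62541 := ded_21_1 (flp_e L817370) (flp_b L810567) L820069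
theorem L820075 : sm gg N62769 = N62594 := ded_41_2 (flp_e L817729) (flp_g L810563) L820069
theorem L820077 : sm gi N62769 = N62487 := ded_44_2 (flp_e L816949) (flp_i L810565) L820069
theorem L820079 : sm gd N61932 = N62770 := rfl
theorem L820081 : sm gb N62770 = N61933 := ded_20_1 (flp_d L810577) (flp_b L810571) L820079
theorem L820083 : sm gg N62770 = N62595 := ded_36_2 (flp_d L817735) (flp_g L810573) L820079
theorem L820085 : sm gi N62770 = N62488 := ded_39_2 (flp_d L816959) (flp_i L810575) L820079
theorem L820087 : sm ge N62770 = N61939 := ded_34_2 (flp_d L810638) (flp_e L799195) (flp_d L799116) L810569 L820079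
theorem L820089 : sm gf N61932 = N62771 := rfl
theorem L820091 : sm gb N62771 = N61934 := ded_22_1 (flp_f L810588) (flp_b L810571) L820089
theorem L820093 : sm gh N62771 = N62284 := ded_47_2 L819043 L819037 L820089
theorem L820095 : sm gi N62771 = N62255 := ded_48_2 L814677 (flp_i L810575) L820089
theorem L820097 : sm ge N62771 = N61936 := ded_40_1 (flp_f L810610) (flp_e L799155) (flp_f L799118) L810569 L820089
theorem L820099 : sm gf N61933 = N62772 := rfl
theorem L820101 : sm ga N62772 = N62334 := ded_14_1 L815466 (flp_a L810579) L820099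
theorem L820103 : sm gc N62772 = N62772 := ded_29_1 (flp_f L820099) L810585 L820099
theorem L820104 : sm gd N62772 = N61934 := ded_35_1 (flp_f L810588) L810577 L820099
theorem L820106 : sm gi N62772 = N62243 := ded_48_2 L814534 (flp_i L810583) L820099
theorem L820108 : sm gh N61933 = N62773 := rfl
theorem L820110 : sm ga N62773 = N62337 := ded_17_1 L815499 (flp_a L810579) L820108
theorem L820112 : sm gc N62773 = N62773 := ded_32_1 (flp_h L820108) L810585 L820108
theorem L820113 : sm ge N62773 = N61940 := ded_43_1 (flp_h L810646) (flp_e L810586) L820108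
theorem L820115 : sm gg N62773 = N62246 := ded_50_1 L814581 (flp_g L810581) L820108
theorem L820117 : sm gj N62773 = N62146 := ded_52_1 (flp_h L819787) L819780 L820108
theorem L820119 : sm gd N62773 = N62132 := ded_38_1 L813314 (flp_d L809356) L809352 L810577 L820108
theorem L820121 : sm gi N62773 = N62135 := ded_54_2 L813353 L807619 (flp_h L806545) (flp_i L810583) L820108
theorem L820123 : sm gf N61935 = N62774 := rfl
theorem L820125 : sm ga N62774 = N61936 := ded_14_1 (flp_f L810610) (flp_a L810602) L820123
theorem L820127 : sm gb N62774 = N62545 := ded_22_1 (flp_f L817389) (flp_b L810604) L820123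
theorem L820129 : sm gi N62774 = N62489 := ded_48_2 (flp_f L816969) (flp_i L810608) L820123
theorem L820131 : sm gg N61936 = N62775 := rfl
theorem L820133 : sm gb N62775 = N61937 := ded_23_1 (flp_g L810616) (flp_b L810612) L820131
theorem L820135 : sm gc N62775 = N62625 := ded_30_1 (flp_g L820016) L820012 L820131
theorem L820137 : sm gi N62775 = N62455 := ded_51_2 L816627 (flp_i L810614) L820131
theorem L820139 : sm gf N62775 = N62266 := ded_45_1 L814808 L803987 (flp_g L799159) L810610 L820131
theorem L820141 : sm gd N61938 = N62776 := rfl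
theorem L820143 : sm ga N62776 = N61939 := ded_12_1 (flp_d L810638) (flp_a L810628) L820141
theorem L820145 : sm gg N62776 = N62596 := ded_36_2 (flp_d L817743) (flp_g L810632) L820141
theorem L820147 : sm gi N62776 = N62617 := ded_39_2 (flp_d L817880) (flp_i L810636) L820141
theorem L820149 : sm gc N61939 = N62777 := rfl
theorem L820151 : sm gg N62777 = N62597 := ded_30_2 (flp_c L817749) (flp_g L810642) L820149
theorem L820153 : sm gi N62777 = N62618 := ded_33_2 (flp_c L817886) (flp_i L810644) L820149
theorem L820155 : sm gb N62777 = N62777 := ded_19_1 (flp_c L820149) L810640 L799213 (flp_b L810640) L820149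
theorem L820156 : sm gd N62777 = N62332 := ded_27_2 (flp_c L815450) (flp_d L804628) (flp_c L799199) L810638 L820149
theorem L820158 : sm gh N61939 = N62778 := rfl
theorem L820160 : sm gb N62778 = N61940 := ded_25_1 (flp_h L810646) (flp_b L810640) L820158
theorem L820162 : sm gg N62778 = N62412 := ded_50_1 L816260 (flp_g L810642) L820158
theorem L820164 : sm gd N62778 = N61977 := ded_38_1 (flp_h L811173) (flp_d L799702) (flp_h L799203) L810638 L820158
theorem L820166 : sm gi N61940 = N62779 := rfl
theorem L820168 : sm ga N62779 = N62370 := ded_18_1 L815872 (flp_a L810648) L820166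
theorem L820170 : sm gc N62779 = N62779 := ded_33_1 (flp_i L820166) L810650 L820166
theorem L820171 : sm gd N62779 = N61978 := ded_39_1 (flp_i L811183) (flp_d L810653) L820166
theorem L820173 : sm ge N62779 = N62135 := ded_44_1 (flp_i L820121) L820113 L820166
theorem L820175 : sm gg N62779 = N62259 := ded_51_1 L814726 (flp_g L810651) L820166
theorem L820177 : sm gj N62779 = N62116 := ded_53_1 L819954 L819950 L820166
theorem L820179 : sm gh N62779 = N62558 := ded_54_1 L817490 L807366 (flp_i L799211) L810646 L820166
theorem L820181 : sm ga N61941 = N62780 := rfl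
theorem L820183 : sm gc N62780 = N62335 := ded_11_2 (flp_a L815468) (flp_c L810669) L820181
theorem L820185 : sm gd N62780 = N62275 := ded_12_2 (flp_a L814898) (flp_d L810657) L820181
theorem L820187 : sm gf N62780 = N61954 := ded_14_2 (flp_a L810832) (flp_f L810659) L820181
theorem L820189 : sm gg N62780 = N61944 := ded_15_2 (flp_a L810702) (flp_g L810661) L820181
theorem L820191 : sm gj N62780 = N62289 := ded_16_2 (flp_a L815045) (flp_j L810663) L820181
theorem L820193 : sm gh N62780 = N62342 := ded_17_2 (flp_a L815552) (flp_h L810665) L820181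
theorem L820195 : sm gi N62780 = N61981 := ded_18_2 (flp_a L811229) (flp_i L810667) L820181
theorem L820197 : sm gb N62780 = N62181 := ded_10_2 (flp_a L813872) (flp_b L802788) (flp_a L799216) L810655 L820181
theorem L820199 : sm ge N61941 = N62781 := rfl
theorem L820201 : sm gb N62781 = N61942 := ded_21_1 (flp_e L810671) L810655 L820199
theorem L820203 : sm gc N62781 = N62336 := ded_28_1 (flp_e L815480) (flp_c L810669) L820199
theorem L820205 : sm gg N62781 = N61945 := ded_41_2 (flp_e L810714) (flp_g L810661) L820199
theorem L820207 : sm gj N62781 = N62290 := ded_42_2 (flp_e L815055) (flp_j L810663) L820199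
theorem L820209 : sm gh N62781 = N62343 := ded_43_2 (flp_e L815564) (flp_h L810665) L820199
theorem L820211 : sm gi N62781 = N61982 := ded_44_2 (flp_e L811243) (flp_i L810667) L820199
theorem L820213 : sm gd N61942 = N62782 := rfl
theorem L820215 : sm ga N62782 = N62183 := ded_12_1 (flp_d L813886) (flp_a L810673) L820213
theorem L820217 : sm gg N62782 = N61946 := ded_36_2 (flp_d L810728) (flp_g L810677) L820213
theorem L820219 : sm gj N62782 = N62291 := ded_37_2 (flp_d L815063) (flp_j L810679) L820213
theorem L820221 : sm gi N62782 = N61983 := ded_39_2 (flp_d L811253) (flp_i L810683) L820213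
theorem L820223 : sm gc N62782 = N62782 := ded_27_1 (flp_d L820213) L810675 L799244 (flp_c L810675) L820213
theorem L820224 : sm ge N62782 = N62277 := ded_34_2 (flp_d L814926) (flp_e L804091) (flp_d L799228) L810671 L820213
theorem L820226 : sm gf N61942 = N62783 := rfl
theorem L820228 : sm ga N62783 = N62184 := ded_14_1 (flp_f L813893) (flp_a L810673) L820226
theorem L820230 : sm gc N62783 = N61943 := ded_29_1 (flp_f L810685) (flp_c L810675) L820226
theorem L820232 : sm gj N62783 = N62205 := ded_46_2 L814087 (flp_j L810679) L820226
theorem L820234 : sm gh N62783 = N62194 := ded_47_2 L813977 (flp_h L810681) L820226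
theorem L820236 : sm gi N62783 = N61984 := ded_48_2 (flp_f L811262) (flp_i L810683) L820226
theorem L820238 : sm ge N62783 = N61956 := ded_40_1 (flp_f L810860) (flp_e L799383) (flp_f L799218) L810671 L820226
theorem L820240 : sm gg N62783 = N62147 := ded_45_2 (flp_f L813491) L802301 (flp_f L799267) (flp_g L810677) L820226
theorem L820242 : sm ge N61944 = N62784 := rfl
theorem L820244 : sm ga N62784 = N61945 := ded_13_1 (flp_e L810714) L810702 L820242
theorem L820246 : sm gc N62784 = N62338 := ded_28_1 (flp_e L815501) (flp_c L810704) L820242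
theorem L820248 : sm gj N62784 = N62328 := ded_42_2 (flp_e L815417) (flp_j L810708) L820242
theorem L820250 : sm gh N62784 = N62354 := ded_43_2 (flp_e L815684) (flp_h L810710) L820242
theorem L820252 : sm gi N62784 = N61985 := ded_44_2 (flp_e L811276) (flp_i L810712) L820242
theorem L820254 : sm gf N62784 = N62570 := ded_40_2 (flp_e L817575) (flp_f L808715) L808713 (flp_f L810706) L820242
theorem L820256 : sm gd N61945 = N62785 := rfl
theorem L820258 : sm gb N62785 = N61946 := ded_20_1 (flp_d L810728) (flp_b L810716) L820256
theorem L820260 : sm gf N62785 = N62571 := ded_35_2 (flp_d L817583) (flp_f L810726) L820256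
theorem L820262 : sm gj N62785 = N62329 := ded_37_2 (flp_d L815429) (flp_j L810720) L820256
theorem L820264 : sm gi N62785 = N61986 := ded_39_2 (flp_d L811288) (flp_i L810724) L820256
theorem L820266 : sm gh N61946 = N62786 := rfl
theorem L820268 : sm gc N62786 = N62786 := ded_32_1 (flp_h L820266) L810736 L820266
theorem L820269 : sm gf N62786 = N62502 := ded_47_1 L817091 (flp_f L810730) L820266
theorem L820271 : sm gj N62786 = N62330 := ded_52_1 (flp_h L815437) (flp_j L810732) L820266
theorem L820273 : sm gd N62786 = N62356 := ded_38_1 (flp_h L815708) (flp_d L804922) (flp_h L799263) L810728 L820266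
theorem L820275 : sm ge N61947 = N62787 := rfl
theorem L820277 : sm ga N62787 = N61948 := ded_13_1 (flp_e L810753) L810737 L820275
theorem L820279 : sm gb N62787 = N62380 := ded_21_1 (flp_e L815958) (flp_b L810751) L820275
theorem L820281 : sm gc N62787 = N61952 := ded_28_1 (flp_e L810808) (flp_c L810739) L820275
theorem L820283 : sm gj N62787 = N61963 := ded_42_2 (flp_e L810963) (flp_j L810745) L820275
theorem L820285 : sm gh N62787 = N62594 := ded_43_2 (flp_e L817729) (flp_h L810747) L820275
theorem L820287 : sm gi N62787 = N61990 := ded_44_2 (flp_e L811341) (flp_i L810749) L820275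
theorem L820289 : sm gd N62787 = N62581 := ded_34_1 (flp_e L817645) L807638 (flp_e L804704) (flp_d L810741) L820275
theorem L820291 : sm gf N62787 = N62546 := ded_40_2 (flp_e L817395) (flp_f L811643) L811641 (flp_f L810743) L820275
theorem L820293 : sm ge N61949 = N62788 := rfl
theorem L820295 : sm ga N62788 = N61950 := ded_13_1 (flp_e L810783) L810769 L820293
theorem L820297 : sm gb N62788 = N62610 := ded_21_1 (flp_e L817838) (flp_b L810781) L820293
theorem L820299 : sm gc N62788 = N62594 := ded_28_1 (flp_e L817729) (flp_c L810771) L820293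
theorem L820301 : sm gj N62788 = N61968 := ded_42_2 (flp_e L811048) (flp_j L810775) L820293
theorem L820303 : sm gh N62788 = N61952 := ded_43_2 (flp_e L810808) (flp_h L810777) L820293
theorem L820305 : sm gi N62788 = N62429 := ded_44_2 L816392 (flp_i L810779) L820293
theorem L820307 : sm gf N62788 = N62425 := ded_40_2 (flp_e L816363) L805683 L805734 (flp_f L810773) L820293
theorem L820309 : sm gd N61950 = N62789 := rfl
theorem L820311 : sm gb N62789 = N61951 := ded_20_1 (flp_d L810797) (flp_b L810785) L820309
theorem L820313 : sm gf N62789 = N62426 := ded_35_2 (flp_d L816369) (flp_f L810795) L820309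
theorem L820315 : sm gj N62789 = N61969 := ded_37_2 (flp_d L811056) (flp_j L810789) L820309
theorem L820317 : sm gi N62789 = N62431 := ded_39_2 L816401 (flp_i L810793) L820309
theorem L820319 : sm gf N61952 = N62790 := rfl
theorem L820321 : sm ga N62790 = N61953 := ded_14_1 (flp_f L810818) (flp_a L810810) L820319
theorem L820323 : sm gb N62790 = N62490 := ded_22_1 L816987 (flp_b L810812) L820319
theorem L820325 : sm gc N62790 = N62546 := ded_29_1 (flp_f L820291) L820281 L820319
theorem L820327 : sm gj N62790 = N61972 := ded_46_2 (flp_f L811091) (flp_j L810814) L820319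
theorem L820329 : sm gh N62790 = N62425 := ded_47_2 (flp_f L820307) L820303 L820319
theorem L820331 : sm gi N62790 = N61992 := ded_48_2 (flp_f L811369) (flp_i L810816) L820319
theorem L820333 : sm ge N62790 = N62353 := ded_40_1 L815674 L804866 (flp_f L799341) L810808 L820319
theorem L820335 : sm ge N61954 = N62791 := rfl
theorem L820337 : sm ga N62791 = N61955 := ded_13_1 (flp_e L810846) L810832 L820335
theorem L820339 : sm gb N62791 = N62190 := ded_21_1 (flp_e L813933) (flp_b L810844) L820335
theorem L820341 : sm gc N62791 = N62345 := ded_28_1 (flp_e L815588) (flp_c L810834) L820335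
theorem L820343 : sm gg N62791 = N61957 := ded_41_2 (flp_e L810872) (flp_g L810838) L820335
theorem L820345 : sm gj N62791 = N62598 := ded_42_2 (flp_e L817754) (flp_j L810840) L820335
theorem L820347 : sm gi N62791 = N61996 := ded_44_2 (flp_e L811427) (flp_i L810842) L820335
theorem L820349 : sm gd N62791 = N62593 := ded_34_1 (flp_e L817723) L807782 (flp_e L804132) (flp_d L810836) L820335
theorem L820351 : sm gf N61955 = N62792 := rfl
theorem L820353 : sm gb N62792 = N61956 := ded_22_1 (flp_f L810860) (flp_b L810848) L820351
theorem L820355 : sm gc N62792 = N62347 := ded_29_1 (flp_f L815606) (flp_c L810850) L820351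
theorem L820357 : sm gd N62792 = N62409 := ded_35_1 L816228 (flp_d L810858) L820351
theorem L820359 : sm gj N62792 = N62208 := ded_46_2 L814111 (flp_j L810854) L820351
theorem L820361 : sm gi N62792 = N61997 := ded_48_2 (flp_f L811441) (flp_i L810856) L820351
theorem L820363 : sm gd N61957 = N62793 := rfl
theorem L820365 : sm ga N62793 = N61958 := ded_12_1 (flp_d L810884) (flp_a L810874) L820363
theorem L820367 : sm gb N62793 = N62503 := ded_20_1 L817103 (flp_b L810876) L820363
theorem L820369 : sm gg N62793 = N62593 := ded_36_2 (flp_d L820349) L820343 L820363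
theorem L820371 : sm gj N62793 = N61976 := ded_37_2 (flp_d L811159) (flp_j L810880) L820363
theorem L820373 : sm gi N62793 = N61998 := ded_39_2 (flp_d L811453) (flp_i L810882) L820363
theorem L820375 : sm ge N62793 = N62314 := ded_34_2 L815309 L804866 (flp_d L799413) L810872 L820363
theorem L820377 : sm gc N62793 = N62438 := ded_56_4 (flp_b L818865) L818863 L809150 L817195 L817199 L806905 (flp_c L805916) L805914 (flp_a L798161) (flp_h L798159) L785980 L776255 L771300 (flp_c L761154) (flp_b L760700) L760698 (flp_h L760706) (flp_f L764299) L775791 L775799 (flp_c L774990) L774988 L765625 L755823 L741653 (flp_e L727079) (flp_d L707509) L685860 (flp_b L699433) L699431 (flp_h L691425) L669314 L649992 L649099 L356989 L245761 L245759 (flp_h L245368) (flp_f L355138) (flp_e L652990) L652988 (flp_c L665492) (flp_b L687750) (flp_a L701402) L701413 (flp_f L702629) L702627 (flp_d L712380) (flp_c L724217) (flp_b L733762) L733760 L735593 L735597 (flp_e L750893) L763666 L775122 L786857 L799001 L799009 (flp_f L799415) L810872 L820363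
theorem L820379 : sm gh N61958 = N62794 := rfl
theorem L820381 : sm gb N62794 = N61959 := ded_25_1 (flp_h L810898) (flp_b L810886) L820379
theorem L820383 : sm gc N62794 = N62414 := ded_32_1 L816280 (flp_c L810896) L820379
theorem L820385 : sm ge N62794 = N62113 := ded_43_1 L813135 (flp_e L810894) L820379
theorem L820387 : sm gg N62794 = N62525 := ded_50_1 L817251 (flp_g L810888) L820379
theorem L820389 : sm gj N62794 = N61977 := ded_52_1 (flp_h L811173) (flp_j L810890) L820379
theorem L820391 : sm gi N62794 = N62115 := ded_54_2 L813155 L802030 L800047 (flp_i L810892) L820379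
theorem L820393 : sm ge N61960 = N62795 := rfl
theorem L820395 : sm ga N62795 = N61961 := ded_13_1 (flp_e L810930) L810912 L820393
theorem L820397 : sm gb N62795 = N62411 := ded_21_1 (flp_e L816244) (flp_b L810928) L820393
theorem L820399 : sm gc N62795 = N61968 := ded_28_1 (flp_e L811048) (flp_c L810914) L820393
theorem L820401 : sm gg N62795 = N62509 := ded_41_2 (flp_e L817152) (flp_g L810920) L820393
theorem L820403 : sm gj N62795 = N62594 := ded_42_2 (flp_e L817729) (flp_j L810922) L820393
theorem L820405 : sm gh N62795 = N61963 := ded_43_2 (flp_e L810963) (flp_h L810924) L820393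
theorem L820407 : sm gi N62795 = N62371 := ded_44_2 (flp_e L815877) (flp_i L810926) L820393
theorem L820409 : sm gf N62795 = N62539 := ded_40_2 (flp_e L817352) L807156 (flp_e L804643) (flp_f L810918) L820393
theorem L820411 : sm gd N61961 = N62796 := rfl
theorem L820413 : sm gb N62796 = N61962 := ded_20_1 (flp_d L810946) (flp_b L810932) L820411
theorem L820415 : sm gf N62796 = N62540 := ded_35_2 (flp_d L817362) (flp_f L810944) L820411
theorem L820417 : sm gg N62796 = N62510 := ded_36_2 (flp_d L817160) (flp_g L810936) L820411
theorem L820419 : sm gj N62796 = N62595 := ded_37_2 (flp_d L817735) (flp_j L810938) L820411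
theorem L820421 : sm gi N62796 = N62372 := ded_39_2 (flp_d L815883) (flp_i L810942) L820411
theorem L820423 : sm ge N62796 = N62339 := ded_34_2 (flp_d L815509) (flp_e L804685) (flp_d L799449) L810930 L820411
theorem L820425 : sm gh N62796 = N62585 := ded_38_2 (flp_d L817679) L807697 (flp_d L799503) (flp_h L810940) L820411
theorem L820427 : sm ge N61965 = N62797 := rfl
theorem L820429 : sm ga N62797 = N61966 := ded_13_1 (flp_e L811015) L810997 L820427
theorem L820431 : sm gb N62797 = N62492 := ded_21_1 (flp_e L817001) (flp_b L811013) L820427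
theorem L820433 : sm gc N62797 = N62371 := ded_28_1 (flp_e L815877) (flp_c L810999) L820427
theorem L820435 : sm gg N62797 = N62511 := ded_41_2 (flp_e L817164) (flp_g L811005) L820427
theorem L820437 : sm gj N62797 = N62429 := ded_42_2 L816392 (flp_j L811007) L820427
theorem L820439 : sm gh N62797 = N62006 := ded_43_2 (flp_e L811585) (flp_h L811009) L820427
theorem L820441 : sm gi N62797 = N61968 := ded_44_2 (flp_e L811048) (flp_i L811011) L820427
theorem L820443 : sm gf N62797 = N62385 := ded_40_2 (flp_e L816013) L805342 (flp_e L805113) (flp_f L811003) L820427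
theorem L820445 : sm gd N61966 = N62798 := rfl
theorem L820447 : sm gb N62798 = N61967 := ded_20_1 (flp_d L811031) (flp_b L811017) L820445
theorem L820449 : sm gf N62798 = N62386 := ded_35_2 (flp_d L816021) (flp_f L811029) L820445
theorem L820451 : sm gg N62798 = N62512 := ded_36_2 (flp_d L817172) (flp_g L811021) L820445
theorem L820453 : sm gj N62798 = N62431 := ded_37_2 L816401 (flp_j L811023) L820445
theorem L820455 : sm gi N62798 = N61969 := ded_39_2 (flp_d L811056) (flp_i L811027) L820445
theorem L820457 : sm ge N62798 = N62464 := ded_34_2 (flp_d L816723) (flp_e L806228) (flp_d L799525) L811015 L820445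
theorem L820459 : sm gh N62798 = N62508 := ded_38_2 (flp_d L817144) L806775 (flp_d L800221) (flp_h L811025) L820445
theorem L820461 : sm gd N61968 = N62799 := rfl
theorem L820463 : sm ga N62799 = N61969 := ded_12_1 (flp_d L811056) (flp_a L811050) L820461
theorem L820465 : sm gg N62799 = N62513 := ded_36_2 (flp_d L817178) (flp_g L811052) L820461
theorem L820467 : sm gf N61968 = N62800 := rfl
theorem L820469 : sm ga N62800 = N61970 := ded_14_1 (flp_f L811062) (flp_a L811050) L820467
theorem L820471 : sm gb N62800 = N62599 := ded_22_1 (flp_f L819539) L819527 L820467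
theorem L820473 : sm gc N62800 = N62539 := ded_29_1 (flp_f L820409) L820399 L820467
theorem L820475 : sm gj N62800 = N62425 := ded_46_2 (flp_f L820307) L820301 L820467
theorem L820477 : sm gh N62800 = N61972 := ded_47_2 (flp_f L811091) (flp_h L811054) L820467
theorem L820479 : sm gi N62800 = N62385 := ded_48_2 (flp_f L820443) L820441 L820467
theorem L820481 : sm ge N62800 = N62384 := ded_40_1 L816001 (flp_e L810983) L810985 L811048 L820467
theorem L820483 : sm gg N62536 = N62800 := ded_15_0 L820469 (flp_g L811076) (flp_a L817334)
theorem L820485 : sm gc N61969 = N62801 := rfl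
theorem L820487 : sm gg N62801 = N62514 := ded_30_2 (flp_c L817182) (flp_g L811060) L820485
theorem L820489 : sm gb N62801 = N62801 := ded_19_1 (flp_c L820485) L811058 L799573 (flp_b L811058) L820485
theorem L820490 : sm gf N61969 = N62802 := rfl
theorem L820492 : sm gb N62802 = N61971 := ded_22_1 (flp_f L811078) (flp_b L811058) L820490
theorem L820494 : sm gd N62802 = N61970 := ded_35_1 (flp_f L811062) L811056 L820490
theorem L820496 : sm gj N62802 = N62426 := ded_46_2 (flp_f L820313) L820315 L820490
theorem L820498 : sm gi N62802 = N62386 := ded_48_2 (flp_f L820449) L820455 L820490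
theorem L820500 : sm gg N62537 = N62802 := ded_23_0 L820492 (flp_g L811089) (flp_b L817342)
theorem L820502 : sm ge N61971 = N62803 := rfl
theorem L820504 : sm ga N62803 = N62291 := ded_13_1 L815068 (flp_a L811080) L820502
theorem L820506 : sm gc N62803 = N62803 := ded_28_1 (flp_e L820502) L811082 L820502
theorem L820507 : sm gg N62803 = N62232 := ded_41_2 L814411 L811089 L820502
theorem L820509 : sm gj N62803 = N62183 := ded_42_2 L813891 (flp_j L811085) L820502
theorem L820511 : sm gi N62803 = N62163 := ded_44_2 L813653 (flp_i L811087) L820502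
theorem L820513 : sm gd N62803 = N62160 := ded_34_1 (flp_e L813612) L802466 (flp_e L799586) (flp_d L811083) L820502
theorem L820515 : sm ge N61973 = N62804 := rfl
theorem L820517 : sm ga N62804 = N61974 := ded_13_1 (flp_e L811123) L811105 L820515
theorem L820519 : sm gb N62804 = N62581 := ded_21_1 (flp_e L817645) (flp_b L811121) L820515
theorem L820521 : sm gc N62804 = N62354 := ded_28_1 (flp_e L815684) (flp_c L811107) L820515
theorem L820523 : sm gg N62804 = N62598 := ded_41_2 (flp_e L817754) (flp_g L811113) L820515
theorem L820525 : sm gj N62804 = N61975 := ded_42_2 (flp_e L811141) (flp_j L811115) L820515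
theorem L820527 : sm gh N62804 = N62338 := ded_43_2 (flp_e L815501) (flp_h L811117) L820515
theorem L820529 : sm gi N62804 = N62011 := ded_44_2 (flp_e L811671) (flp_i L811119) L820515
theorem L820531 : sm gd N62804 = N62380 := ded_34_1 (flp_e L815958) L805290 (flp_e L804830) (flp_d L811109) L820515
theorem L820533 : sm gf N62804 = N62227 := ded_40_2 (flp_e L814340) (flp_f L809743) L809741 (flp_f L811111) L820515
theorem L820535 : sm gh N61976 = N62805 := rfl
theorem L820537 : sm ga N62805 = N61977 := ded_17_1 (flp_h L811173) (flp_a L811161) L820535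
theorem L820539 : sm gb N62805 = N62509 := ded_25_1 L817158 (flp_b L811163) L820535
theorem L820541 : sm gc N62805 = N62421 := ded_32_1 L816340 L811171 L820535
theorem L820543 : sm ge N62805 = N62410 := ded_43_1 L816240 (flp_e L811169) L820535
theorem L820545 : sm gg N62805 = N62411 := ded_50_1 L816250 (flp_g L811165) L820535
theorem L820547 : sm gi N61977 = N62806 := rfl
theorem L820549 : sm gb N62806 = N61978 := ded_26_1 (flp_i L811183) (flp_b L811175) L820547
theorem L820551 : sm gc N62806 = N62418 := ded_33_1 L816317 (flp_c L811177) L820547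
theorem L820553 : sm ge N62806 = N62099 := ded_44_1 L812979 (flp_e L811179) L820547
theorem L820555 : sm gg N62806 = N62258 := ded_51_1 L814714 (flp_g L811181) L820547
theorem L820557 : sm gj N62806 = N62115 := ded_53_1 (flp_i L820391) L820389 L820547
theorem L820559 : sm gh N62806 = N62014 := ded_54_1 (flp_i L811707) (flp_h L800377) (flp_i L799708) L811173 L820547
theorem L820561 : sm ga N61979 = N62807 := rfl
theorem L820563 : sm gc N62807 = N62075 := ded_11_2 (flp_a L812638) (flp_c L811211) L820561
theorem L820565 : sm gd N62807 = N62262 := ded_12_2 (flp_a L814751) (flp_d L811199) L820561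
theorem L820567 : sm gf N62807 = N61994 := ded_14_2 (flp_a L811393) (flp_f L811201) L820561
theorem L820569 : sm gg N62807 = N62103 := ded_15_2 (flp_a L813025) (flp_g L811203) L820561
theorem L820571 : sm gj N62807 = N61981 := ded_16_2 (flp_a L811229) (flp_j L811205) L820561
theorem L820573 : sm gh N62807 = N62073 := ded_17_2 (flp_a L812606) (flp_h L811207) L820561
theorem L820575 : sm gi N62807 = N62289 := ded_18_2 (flp_a L815045) (flp_i L811209) L820561
theorem L820577 : sm gb N62807 = N62161 := ded_10_2 (flp_a L813626) (flp_b L802483) (flp_a L799756) L811197 L820561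
theorem L820579 : sm ge N61979 = N62808 := rfl
theorem L820581 : sm gb N62808 = N61980 := ded_21_1 (flp_e L811213) L811197 L820579
theorem L820583 : sm gc N62808 = N62076 := ded_28_1 (flp_e L812650) (flp_c L811211) L820579
theorem L820585 : sm gg N62808 = N62104 := ded_41_2 (flp_e L813037) (flp_g L811203) L820579
theorem L820587 : sm gj N62808 = N61982 := ded_42_2 (flp_e L811243) (flp_j L811205) L820579
theorem L820589 : sm gh N62808 = N62074 := ded_43_2 (flp_e L812622) (flp_h L811207) L820579
theorem L820591 : sm gi N62808 = N62290 := ded_44_2 (flp_e L815055) (flp_i L811209) L820579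
theorem L820593 : sm gf N62808 = N62204 := ded_40_2 L814079 L811425 (flp_e L811409) (flp_f L811201) L820579
theorem L820595 : sm gd N61980 = N62809 := rfl
theorem L820597 : sm ga N62809 = N62163 := ded_12_1 (flp_d L813648) (flp_a L811215) L820595
theorem L820599 : sm gf N62809 = N62189 := ded_35_2 L813931 (flp_f L811227) L820595
theorem L820601 : sm gg N62809 = N62105 := ded_36_2 (flp_d L813049) (flp_g L811219) L820595
theorem L820603 : sm gj N62809 = N61983 := ded_37_2 (flp_d L811253) (flp_j L811221) L820595
theorem L820605 : sm gi N62809 = N62291 := ded_39_2 (flp_d L815063) (flp_i L811225) L820595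
theorem L820607 : sm gc N62809 = N62809 := ded_27_1 (flp_d L820595) L811217 L799784 (flp_c L811217) L820595
theorem L820608 : sm ge N62809 = N62264 := ded_34_2 (flp_d L814779) (flp_e L803915) (flp_d L799768) L811213 L820595
theorem L820610 : sm gh N62809 = N62188 := ded_38_2 L813924 L802832 (flp_d L801442) (flp_h L811223) L820595
theorem L820612 : sm ge N61981 = N62810 := rfl
theorem L820614 : sm ga N62810 = N61982 := ded_13_1 (flp_e L811243) L811229 L820612
theorem L820616 : sm gb N62810 = N62185 := ded_21_1 (flp_e L813901) (flp_b L811241) L820612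
theorem L820618 : sm gc N62810 = N62375 := ded_28_1 (flp_e L815925) (flp_c L811231) L820612
theorem L820620 : sm gg N62810 = N61985 := ded_41_2 (flp_e L811276) (flp_g L811237) L820612
theorem L820622 : sm gh N62810 = N62090 := ded_43_2 (flp_e L812848) (flp_h L811239) L820612
theorem L820624 : sm gd N61982 = N62811 := rfl
theorem L820626 : sm gb N62811 = N61983 := ded_20_1 (flp_d L811253) (flp_b L811245) L820624
theorem L820628 : sm gg N62811 = N61986 := ded_36_2 (flp_d L811288) (flp_g L811249) L820624
theorem L820630 : sm ge N62811 = N62279 := ded_34_2 (flp_d L814947) (flp_e L804113) (flp_d L799789) L811243 L820624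
theorem L820632 : sm gf N61982 = N62812 := rfl
theorem L820634 : sm gb N62812 = N61984 := ded_22_1 (flp_f L811262) (flp_b L811245) L820632
theorem L820636 : sm gc N62812 = N62156 := ded_29_1 L813570 (flp_c L811247) L820632
theorem L820638 : sm gj N62812 = N62204 := ded_46_2 (flp_f L820593) L820587 L820632
theorem L820640 : sm gh N62812 = N62092 := ded_47_2 (flp_f L812874) (flp_h L811251) L820632
theorem L820642 : sm ge N62812 = N61997 := ded_40_1 (flp_f L811441) (flp_e L800001) (flp_f L799791) L811243 L820632
theorem L820644 : sm gg N62812 = N62150 := ded_45_2 (flp_f L813513) L802324 (flp_f L799842) (flp_g L811249) L820632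
theorem L820646 : sm gf N61983 = N62813 := rfl
theorem L820648 : sm ga N62813 = N62188 := ded_14_1 (flp_f L813921) (flp_a L811255) L820646
theorem L820650 : sm gc N62813 = N62813 := ded_29_1 (flp_f L820646) L811259 L820646
theorem L820651 : sm gd N62813 = N61984 := ded_35_1 (flp_f L811262) L811253 L820646
theorem L820653 : sm gj N62813 = N62189 := ded_46_2 (flp_f L820599) L820603 L820646
theorem L820655 : sm ge N62813 = N62387 := ded_40_1 L816030 L806782 (flp_f L804125) (flp_e L811260) L820646
theorem L820657 : sm gg N62813 = N62151 := ded_45_2 (flp_f L813519) L802330 (flp_f L799846) (flp_g L811257) L820646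
theorem L820659 : sm gh N62163 = N62813 := ded_17_0 L820648 (flp_h L820610) L820597
theorem L820661 : sm gh N61983 = N62814 := rfl
theorem L820663 : sm ga N62814 = N62189 := ded_17_1 (flp_h L813926) (flp_a L811255) L820661
theorem L820665 : sm gc N62814 = N62814 := ded_32_1 (flp_h L820661) L811259 L820661
theorem L820666 : sm ge N62814 = N62280 := ded_43_1 (flp_h L814953) (flp_e L811260) L820661
theorem L820668 : sm gf N62814 = N62163 := ded_47_1 L820659 (flp_f L820646) L820661
theorem L820670 : sm gg N62814 = N61987 := ded_50_1 (flp_h L811296) (flp_g L811257) L820661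
theorem L820672 : sm gj N62814 = N62188 := ded_52_1 (flp_h L820610) L820603 L820661
theorem L820674 : sm gd N62814 = N62093 := ded_38_1 (flp_h L812890) (flp_d L801696) (flp_h L799807) L811253 L820661
theorem L820676 : sm gd N61985 = N62815 := rfl
theorem L820678 : sm ga N62815 = N61986 := ded_12_1 (flp_d L811288) (flp_a L811278) L820676
theorem L820680 : sm gf N62815 = N62572 := ded_35_2 (flp_d L817589) (flp_f L811286) L820676
theorem L820682 : sm gj N62815 = N62519 := ded_37_2 (flp_d L817207) (flp_j L811282) L820676
theorem L820684 : sm gc N61986 = N62816 := rfl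
theorem L820686 : sm gf N62816 = N62573 := ded_29_2 (flp_c L817593) (flp_f L811292) L820684
theorem L820688 : sm gj N62816 = N62520 := ded_31_2 (flp_c L817211) (flp_j L811294) L820684
theorem L820690 : sm gb N62816 = N62816 := ded_19_1 (flp_c L820684) L811290 L799850 (flp_b L811290) L820684
theorem L820691 : sm gd N62816 = N62378 := ded_27_2 (flp_c L815943) (flp_d L805255) (flp_c L799836) L811288 L820684
theorem L820693 : sm gh N61986 = N62817 := rfl
theorem L820695 : sm gb N62817 = N61987 := ded_25_1 (flp_h L811296) (flp_b L811290) L820693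
theorem L820697 : sm gf N62817 = N62553 := ded_47_1 L817452 (flp_f L811292) L820693
theorem L820699 : sm gj N62817 = N62521 := ded_52_1 (flp_h L817216) (flp_j L811294) L820693
theorem L820701 : sm gd N62817 = N62554 := ded_38_1 L817458 L807316 (flp_h L799840) L811288 L820693
theorem L820703 : sm gi N61987 = N62818 := rfl
theorem L820705 : sm gc N62818 = N62818 := ded_33_1 (flp_i L820703) L811298 L820703
theorem L820706 : sm gd N62818 = N62551 := ded_39_1 L817440 (flp_d L811303) L820703
theorem L820708 : sm gf N62818 = N62550 := ded_48_1 L817431 (flp_f L811299) L820703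
theorem L820710 : sm gj N62818 = N62522 := ded_53_1 (flp_i L817220) (flp_j L811301) L820703
theorem L820712 : sm ge N61988 = N62819 := rfl
theorem L820714 : sm ga N62819 = N61989 := ded_13_1 (flp_e L811323) L811305 L820712
theorem L820716 : sm gb N62819 = N61990 := ded_21_1 (flp_e L811341) (flp_b L811321) L820712
theorem L820718 : sm gc N62819 = N62007 := ded_28_1 L811615 (flp_c L811307) L820712
theorem L820720 : sm gg N62819 = N62225 := ded_41_2 L814316 (flp_g L811313) L820712
theorem L820722 : sm gj N62819 = N62001 := ded_42_2 (flp_e L811503) (flp_j L811315) L820712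
theorem L820724 : sm gh N62819 = N62005 := ded_43_2 L811581 (flp_h L811317) L820712
theorem L820726 : sm gi N62819 = N62380 := ded_44_2 (flp_e L815958) (flp_i L811319) L820712
theorem L820728 : sm gd N62819 = N62011 := ded_34_1 (flp_e L811671) (flp_d L811639) L811641 (flp_d L811309) L820712
theorem L820730 : sm gf N62819 = N62004 := ded_40_2 (flp_e L811555) L800133 (flp_e L804704) (flp_f L811311) L820712
theorem L820732 : sm gf N61990 = N62820 := rfl
theorem L820734 : sm ga N62820 = N61991 := ded_14_1 (flp_f L811351) (flp_a L811343) L820732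
theorem L820736 : sm gb N62820 = N62004 := ded_22_1 (flp_f L820730) L820716 L820732
theorem L820738 : sm gc N62820 = N61992 := ded_29_1 (flp_f L811369) (flp_c L811345) L820732
theorem L820740 : sm gd N62820 = N62224 := ded_35_1 (flp_f L819616) L819614 L820732
theorem L820742 : sm gj N62820 = N62005 := ded_46_2 (flp_f L811569) (flp_j L811347) L820732
theorem L820744 : sm gh N62820 = N62001 := ded_47_2 L811517 (flp_h L811349) L820732
theorem L820746 : sm gi N62820 = N62546 := ded_48_2 (flp_f L820291) L820287 L820732
theorem L820748 : sm ge N62820 = N62000 := ded_40_1 L811491 L804830 (flp_f L799891) L811341 L820732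
theorem L820750 : sm gg N62820 = N62013 := ded_45_2 (flp_f L819352) L819354 L819061 L819053 L820732
theorem L820752 : sm gg N61992 = N62821 := rfl
theorem L820754 : sm ga N62821 = N61993 := ded_15_1 (flp_g L811381) (flp_a L811371) L820752
theorem L820756 : sm gb N62821 = N62483 := ded_23_1 L816919 (flp_b L811373) L820752
theorem L820758 : sm gc N62821 = N62013 := ded_30_1 (flp_g L820750) L820738 L820752
theorem L820760 : sm ge N62821 = N62285 := ded_41_1 L814998 (flp_e L811379) L820752
theorem L820762 : sm gh N62821 = N62012 := ded_50_2 L811689 (flp_h L811377) L820752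
theorem L820764 : sm gj N62821 = N62306 := ded_49_2 L815226 L811669 (flp_g L811655) (flp_j L811375) L820752
theorem L820766 : sm ge N61994 = N62822 := rfl
theorem L820768 : sm ga N62822 = N61995 := ded_13_1 (flp_e L811409) L811393 L820766
theorem L820770 : sm gb N62822 = N62166 := ded_21_1 (flp_e L813681) (flp_b L811407) L820766
theorem L820772 : sm gc N62822 = N62399 := ded_28_1 (flp_e L816146) (flp_c L811395) L820766
theorem L820774 : sm gg N62822 = N62011 := ded_41_2 (flp_e L811671) (flp_g L811399) L820766
theorem L820776 : sm gj N62822 = N61996 := ded_42_2 (flp_e L811427) (flp_j L811401) L820766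
theorem L820778 : sm gh N62822 = N62052 := ded_43_2 L812307 (flp_h L811403) L820766
theorem L820780 : sm gi N62822 = N62598 := ded_44_2 (flp_e L817754) (flp_i L811405) L820766
theorem L820782 : sm gd N62822 = N62225 := ded_34_1 L814316 L806835 (flp_e L803933) (flp_d L811397) L820766
theorem L820784 : sm gf N62207 = N62822 := ded_56_1 (flp_e L820766) L811397 L803931 (flp_b L805738) L805736 L793437 (flp_f L787161) L799349 (flp_d L808800) L808792 L806432 L794381 (flp_h L795021) (flp_f L804822) L804820 (flp_d L798031) L798029 L785872 L779826 (flp_h L769812) (flp_f L767696) L767702 (flp_d L759390) L745784 L729147 (flp_a L728028) (flp_h L728026) L709016 L692166 L670258 L386472 (flp_b L490859) L363074 (flp_h L363072) L249754 (flp_e L249109) L249107 L171597 (flp_b L249006) L561771 L203176 (flp_f L295175) L648903 (flp_d L660726) L660724 (flp_b L654312) L654310 L663114 L663117 L672042 (flp_d L691478) (flp_c L711676) (flp_b L722605) L722596 (flp_h L723535) (flp_f L740777) L755196 L767110 (flp_c L778469) (flp_b L790618) (flp_a L803006) L814099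
theorem L820786 : sm gf N61996 = N62823 := rfl
theorem L820788 : sm ga N62823 = N61997 := ded_14_1 (flp_f L811441) (flp_a L811429) L820786
theorem L820790 : sm gb N62823 = N62196 := ded_22_1 (flp_f L813995) (flp_b L811431) L820786
theorem L820792 : sm gc N62823 = N62402 := ded_29_1 (flp_f L816172) (flp_c L811433) L820786
theorem L820794 : sm gd N62823 = N62407 := ded_35_1 L816210 (flp_d L811439) L820786
theorem L820796 : sm gj N62823 = N62207 := ded_46_2 L820784 L820776 L820786
theorem L820798 : sm gh N62823 = N62094 := ded_47_2 (flp_f L812904) (flp_h L811437) L820786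
theorem L820800 : sm gc N61998 = N62824 := rfl
theorem L820802 : sm ga N62824 = N61999 := ded_11_1 (flp_c L811467) (flp_a L811455) L820800
theorem L820804 : sm ge N62824 = N62301 := ded_28_2 L815167 (flp_e L811463) L820800
theorem L820806 : sm gf N62824 = N62592 := ded_29_2 (flp_c L819005) L819001 L820800
theorem L820808 : sm gg N62824 = N62591 := ded_30_2 L817715 (flp_g L811459) L820800
theorem L820810 : sm gj N62824 = N62012 := ded_31_2 (flp_c L811683) (flp_j L811461) L820800
theorem L820812 : sm gh N62824 = N62306 := ded_32_2 L815224 L811465 L820800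
theorem L820814 : sm gi N62824 = N62438 := ded_33_2 (flp_c L820377) L820373 L820800
theorem L820816 : sm gb N62824 = N62472 := ded_19_1 L816804 L806444 (flp_c L806946) (flp_b L811457) L820800
theorem L820818 : sm gd N62824 = N62406 := ded_27_2 (flp_c L816198) (flp_d L805511) (flp_c L800031) L811453 L820800
theorem L820820 : sm ge N62002 = N62825 := rfl
theorem L820822 : sm ga N62825 = N62003 := ded_13_1 (flp_e L811537) L811519 L820820
theorem L820824 : sm gb N62825 = N62546 := ded_21_1 (flp_e L817395) (flp_b L811535) L820820
theorem L820826 : sm gc N62825 = N62006 := ded_28_1 (flp_e L811585) (flp_c L811521) L820820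
theorem L820828 : sm gg N62825 = N62538 := ded_41_2 (flp_e L817344) (flp_g L811527) L820820
theorem L820830 : sm gj N62825 = N62210 := ded_42_2 (flp_e L814126) (flp_j L811529) L820820
theorem L820832 : sm gh N62825 = N62371 := ded_43_2 (flp_e L815877) (flp_h L811531) L820820
theorem L820834 : sm gi N62825 = N62004 := ded_44_2 (flp_e L811555) (flp_i L811533) L820820
theorem L820836 : sm gd N62825 = N62227 := ded_34_1 (flp_e L814340) L803464 (flp_e L803074) (flp_d L811523) L820820
theorem L820838 : sm gf N62825 = N62380 := ded_40_2 (flp_e L815958) L805292 (flp_e L805127) (flp_f L811525) L820820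
theorem L820840 : sm gg N62007 = N62826 := rfl
theorem L820842 : sm ga N62826 = N62008 := ded_15_1 (flp_g L811617) (flp_a L811603) L820840
theorem L820844 : sm gb N62826 = N62623 := ded_23_1 (flp_g L817912) (flp_b L811605) L820840
theorem L820846 : sm gc N62826 = N62225 := ded_30_1 (flp_g L820720) L820718 L820840
theorem L820848 : sm gd N62826 = N62534 := ded_36_1 (flp_g L817316) (flp_d L811607) L820840
theorem L820850 : sm ge N62826 = N62341 := ded_41_1 L815542 (flp_e L811615) L820840
theorem L820852 : sm gh N62826 = N62010 := ded_50_2 (flp_g L811655) (flp_h L811611) L820840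
theorem L820854 : sm gi N62826 = N62391 := ded_51_2 L816072 (flp_i L811613) L820840
theorem L820856 : sm gf N62826 = N62447 := ded_45_1 L816559 (flp_f L807220) (flp_g L800231) L811601 L820840
theorem L820858 : sm gj N62826 = N62591 := ded_49_2 (flp_g L820808) L820810 L811689 (flp_j L811609) L820840
theorem L820860 : sm gi N62013 = N62827 := rfl
theorem L820862 : sm ga N62827 = N62014 := ded_18_1 (flp_i L811707) (flp_a L811699) L820860
theorem L820864 : sm gb N62827 = N62538 := ded_26_1 L817350 (flp_b L811701) L820860
theorem L820866 : sm ge N62827 = N62102 := ded_44_1 L813021 (flp_e L811703) L820860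
theorem L820868 : sm gg N62827 = N62546 := ded_51_1 (flp_i L820746) L820750 L820860
theorem L820870 : sm gj N62827 = N62124 := ded_53_1 L813227 (flp_j L811705) L820860
theorem L820872 : sm ge N62017 = N62828 := rfl
theorem L820874 : sm ga N62828 = N62018 := ded_13_1 (flp_e L811773) L811757 L820872
theorem L820876 : sm gb N62828 = N62042 := ded_21_1 (flp_e L812139) (flp_b L811771) L820872
theorem L820878 : sm gc N62828 = N62201 := ded_28_1 (flp_e L814051) (flp_c L811759) L820872
theorem L820880 : sm gg N62828 = N62178 := ded_41_2 (flp_e L813830) (flp_g L811765) L820872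
theorem L820882 : sm gj N62828 = N62046 := ded_42_2 (flp_e L812201) (flp_j L811767) L820872
theorem L820884 : sm gi N62828 = N62022 := ded_44_2 (flp_e L811845) (flp_i L811769) L820872
theorem L820886 : sm gd N62828 = N62080 := ded_34_1 (flp_e L812703) L801503 (flp_e L800537) (flp_d L811761) L820872
theorem L820888 : sm gf N62828 = N62137 := ded_40_2 (flp_e L813365) L802186 (flp_e L800777) (flp_f L811763) L820872
theorem L820890 : sm ge N62019 = N62829 := rfl
theorem L820892 : sm ga N62829 = N62020 := ded_13_1 (flp_e L811807) L811789 L820890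
theorem L820894 : sm gb N62829 = N62046 := ded_21_1 (flp_e L812201) (flp_b L811805) L820890
theorem L820896 : sm gc N62829 = N62461 := ded_28_1 (flp_e L816689) (flp_c L811791) L820890
theorem L820898 : sm gg N62829 = N62458 := ded_41_2 (flp_e L816647) (flp_g L811797) L820890
theorem L820900 : sm gj N62829 = N62042 := ded_42_2 (flp_e L812139) (flp_j L811799) L820890
theorem L820902 : sm gh N62829 = N62577 := ded_43_2 (flp_e L817616) (flp_h L811801) L820890
theorem L820904 : sm gi N62829 = N62023 := ded_44_2 (flp_e L811863) (flp_i L811803) L820890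
theorem L820906 : sm gd N62829 = N62136 := ded_34_1 (flp_e L813355) L802166 (flp_e L800777) (flp_d L811793) L820890
theorem L820908 : sm gf N62829 = N62082 := ded_40_2 (flp_e L812729) L801537 (flp_e L800537) (flp_f L811795) L820890
theorem L820910 : sm ga N62024 = N62830 := rfl
theorem L820912 : sm gc N62830 = N62181 := ded_11_2 (flp_a L813872) (flp_c L811895) L820910
theorem L820914 : sm gd N62830 = N62038 := ded_12_2 (flp_a L812084) (flp_d L811883) L820910
theorem L820916 : sm gf N62830 = N62173 := ded_14_2 (flp_a L813764) (flp_f L811885) L820910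
theorem L820918 : sm gg N62830 = N62211 := ded_15_2 (flp_a L814144) (flp_g L811887) L820910
theorem L820920 : sm gj N62830 = N62556 := ded_16_2 (flp_a L817468) (flp_j L811889) L820910
theorem L820922 : sm gh N62830 = N62030 := ded_17_2 (flp_a L811975) (flp_h L811891) L820910
theorem L820924 : sm gi N62830 = N62169 := ded_18_2 (flp_a L813715) (flp_i L811893) L820910
theorem L820926 : sm gb N62830 = N62548 := ded_10_2 (flp_a L817409) (flp_b L807258) (flp_a L800643) L811881 L820910
theorem L820928 : sm ge N62024 = N62831 := rfl
theorem L820930 : sm gb N62831 = N62025 := ded_21_1 (flp_e L811897) L811881 L820928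
theorem L820932 : sm gc N62831 = N62182 := ded_28_1 (flp_e L813880) (flp_c L811895) L820928
theorem L820934 : sm gg N62831 = N62212 := ded_41_2 (flp_e L814156) (flp_g L811887) L820928
theorem L820936 : sm gj N62831 = N62557 := ded_42_2 (flp_e L817478) (flp_j L811889) L820928
theorem L820938 : sm gh N62831 = N62031 := ded_43_2 (flp_e L811985) (flp_h L811891) L820928
theorem L820940 : sm gi N62831 = N62170 := ded_44_2 (flp_e L813729) (flp_i L811893) L820928
theorem L820942 : sm gd N62025 = N62832 := rfl
theorem L820944 : sm ga N62832 = N62550 := ded_12_1 (flp_d L817427) (flp_a L811899) L820942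
theorem L820946 : sm gg N62832 = N62213 := ded_36_2 (flp_d L814166) (flp_g L811903) L820942
theorem L820948 : sm gj N62832 = N62558 := ded_37_2 (flp_d L817486) (flp_j L811905) L820942
theorem L820950 : sm gi N62832 = N62171 := ded_39_2 (flp_d L813739) (flp_i L811909) L820942
theorem L820952 : sm gc N62832 = N62832 := ded_27_1 (flp_d L820942) L811901 L800671 (flp_c L811901) L820942
theorem L820953 : sm ge N62832 = N62040 := ded_34_2 (flp_d L812112) (flp_e L800833) (flp_d L800655) L811897 L820942
theorem L820955 : sm gh N62832 = N62116 := ded_38_2 (flp_d L813157) L801984 (flp_d L800721) (flp_h L811907) L820942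
theorem L820957 : sm gf N62025 = N62833 := rfl
theorem L820959 : sm ga N62833 = N62551 := ded_14_1 (flp_f L817434) (flp_a L811899) L820957
theorem L820961 : sm gc N62833 = N62026 := ded_29_1 (flp_f L811911) (flp_c L811901) L820957
theorem L820963 : sm gj N62833 = N62559 := ded_46_2 (flp_f L817495) (flp_j L811905) L820957
theorem L820965 : sm gh N62833 = N62032 := ded_47_2 (flp_f L811995) (flp_h L811907) L820957
theorem L820967 : sm gi N62833 = N62172 := ded_48_2 (flp_f L813750) (flp_i L811909) L820957
theorem L820969 : sm ge N62833 = N62175 := ded_40_1 (flp_f L813790) (flp_e L802660) (flp_f L800645) L811897 L820957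
theorem L820971 : sm gg N62833 = N62205 := ded_45_2 L814087 L804276 (flp_f L803158) (flp_g L811903) L820957
theorem L820973 : sm ga N62027 = N62834 := rfl
theorem L820975 : sm gc N62834 = N62144 := ded_11_2 (flp_a L813466) (flp_c L811942) L820973
theorem L820977 : sm gd N62834 = N62033 := ded_12_2 (flp_a L812007) (flp_d L811930) L820973
theorem L820979 : sm gf N62834 = N62030 := ded_14_2 (flp_a L811975) (flp_f L811932) L820973
theorem L820981 : sm gg N62834 = N62218 := ded_15_2 (flp_a L814219) (flp_g L811934) L820973
theorem L820983 : sm gj N62834 = N62548 := ded_16_2 (flp_a L817409) (flp_j L811936) L820973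
theorem L820985 : sm gh N62834 = N62173 := ded_17_2 (flp_a L813764) (flp_h L811938) L820973
theorem L820987 : sm gi N62834 = N62138 := ded_18_2 (flp_a L813375) (flp_i L811940) L820973
theorem L820989 : sm gb N62834 = N62556 := ded_10_2 (flp_a L817468) (flp_b L807320) (flp_a L800674) L811928 L820973
theorem L820991 : sm ge N62027 = N62835 := rfl
theorem L820993 : sm gb N62835 = N62028 := ded_21_1 (flp_e L811944) L811928 L820991
theorem L820995 : sm gc N62835 = N62145 := ded_28_1 (flp_e L813474) (flp_c L811942) L820991
theorem L820997 : sm gg N62835 = N62219 := ded_41_2 (flp_e L814235) (flp_g L811934) L820991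
theorem L820999 : sm gj N62835 = N62549 := ded_42_2 (flp_e L817417) (flp_j L811936) L820991
theorem L821001 : sm gh N62835 = N62174 := ded_43_2 (flp_e L813776) (flp_h L811938) L820991
theorem L821003 : sm gi N62835 = N62139 := ded_44_2 (flp_e L813391) (flp_i L811940) L820991
theorem L821005 : sm gd N62028 = N62836 := rfl
theorem L821007 : sm ga N62836 = N62558 := ded_12_1 (flp_d L817486) (flp_a L811946) L821005
theorem L821009 : sm gg N62836 = N62220 := ded_36_2 (flp_d L814249) (flp_g L811950) L821005
theorem L821011 : sm gj N62836 = N62550 := ded_37_2 (flp_d L817427) (flp_j L811952) L821005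
theorem L821013 : sm gi N62836 = N62140 := ded_39_2 (flp_d L813403) (flp_i L811956) L821005
theorem L821015 : sm gc N62836 = N62836 := ded_27_1 (flp_d L821005) L811948 L800702 (flp_c L811948) L821005
theorem L821016 : sm ge N62836 = N62035 := ded_34_2 (flp_d L812035) (flp_e L800745) (flp_d L800686) L811944 L821005
theorem L821018 : sm gh N62836 = N62370 := ded_38_2 (flp_d L815868) L805157 (flp_d L802670) (flp_h L811954) L821005
theorem L821020 : sm gf N62522 = N62836 := ded_46_3 L821011 (flp_f L820708) L820710
theorem L821022 : sm gf N62028 = N62837 := rfl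
theorem L821024 : sm ga N62837 = N62559 := ded_14_1 (flp_f L817495) (flp_a L811946) L821022
theorem L821026 : sm gc N62837 = N62029 := ded_29_1 (flp_f L811958) (flp_c L811948) L821022
theorem L821028 : sm gd N62837 = N62522 := ded_35_1 L821020 (flp_d L821005) L821022
theorem L821030 : sm gj N62837 = N62551 := ded_46_2 (flp_f L817434) (flp_j L811952) L821022
theorem L821032 : sm gh N62837 = N62175 := ded_47_2 (flp_f L813790) (flp_h L811954) L821022
theorem L821034 : sm gi N62837 = N62141 := ded_48_2 (flp_f L813418) (flp_i L811956) L821022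
theorem L821036 : sm ge N62837 = N62032 := ded_40_1 (flp_f L811995) (flp_e L800711) (flp_f L800676) L811944 L821022
theorem L821038 : sm gg N62837 = N62157 := ded_45_2 L813578 L804671 (flp_f L803253) (flp_g L811950) L821022
theorem L821040 : sm ge N62030 = N62838 := rfl
theorem L821042 : sm ga N62838 = N62031 := ded_13_1 (flp_e L811985) L811975 L821040
theorem L821044 : sm gb N62838 = N62563 := ded_21_1 (flp_e L817527) (flp_b L811983) L821040
theorem L821046 : sm gg N62838 = N62221 := ded_41_2 (flp_e L814264) (flp_g L811979) L821040
theorem L821048 : sm gi N62838 = N62214 := ded_44_2 (flp_e L814179) (flp_i L811981) L821040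
theorem L821050 : sm gd N62838 = N62124 := ded_34_1 (flp_e L813221) L802018 (flp_e L800763) (flp_d L811977) L821040
theorem L821052 : sm gf N62031 = N62839 := rfl
theorem L821054 : sm gb N62839 = N62032 := ded_22_1 (flp_f L811995) (flp_b L811987) L821052
theorem L821056 : sm gd N62839 = N62125 := ded_35_1 (flp_f L813229) (flp_d L811993) L821052
theorem L821058 : sm gi N62839 = N62215 := ded_48_2 (flp_f L814191) (flp_i L811991) L821052
theorem L821060 : sm gg N62839 = N62347 := ded_45_2 (flp_f L815606) L804776 (flp_f L803291) (flp_g L811989) L821052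
theorem L821062 : sm ge N62033 = N62840 := rfl
theorem L821064 : sm ga N62840 = N62034 := ded_13_1 (flp_e L812021) L812007 L821062
theorem L821066 : sm gb N62840 = N62577 := ded_21_1 (flp_e L817616) (flp_b L812019) L821062
theorem L821068 : sm gc N62840 = N62469 := ded_28_1 (flp_e L816777) (flp_c L812009) L821062
theorem L821070 : sm gg N62840 = N62574 := ded_41_2 (flp_e L817596) (flp_g L812013) L821062
theorem L821072 : sm gh N62840 = N62046 := ded_43_2 (flp_e L812201) (flp_h L812015) L821062
theorem L821074 : sm gi N62840 = N62216 := ded_44_2 (flp_e L814201) (flp_i L812017) L821062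
theorem L821076 : sm gf N62840 = N62128 := ded_40_2 (flp_e L813259) L802066 (flp_e L800763) (flp_f L812011) L821062
theorem L821078 : sm gd N62034 = N62841 := rfl
theorem L821080 : sm gb N62841 = N62035 := ded_20_1 (flp_d L812035) (flp_b L812023) L821078
theorem L821082 : sm gf N62841 = N62129 := ded_35_2 (flp_d L813271) (flp_f L812033) L821078
theorem L821084 : sm gg N62841 = N62379 := ded_36_2 L815956 (flp_g L812027) L821078
theorem L821086 : sm gi N62841 = N62217 := ded_39_2 (flp_d L814211) (flp_i L812031) L821078
theorem L821088 : sm gh N62841 = N62376 := ded_38_2 (flp_d L815931) L812225 (flp_d L812209) (flp_h L812029) L821078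
theorem L821090 : sm ge N62036 = N62842 := rfl
theorem L821092 : sm ga N62842 = N62037 := ded_13_1 (flp_e L812066) L812048 L821090
theorem L821094 : sm gb N62842 = N62158 := ded_21_1 (flp_e L813582) (flp_b L812064) L821090
theorem L821096 : sm gc N62842 = N62042 := ded_28_1 (flp_e L812139) (flp_c L812050) L821090
theorem L821098 : sm gg N62842 = N62136 := ded_41_2 (flp_e L813355) (flp_g L812056) L821090
theorem L821100 : sm gj N62842 = N62461 := ded_42_2 (flp_e L816689) (flp_j L812058) L821090
theorem L821102 : sm gh N62842 = N62260 := ded_43_2 (flp_e L814733) (flp_h L812060) L821090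
theorem L821104 : sm gi N62842 = N62048 := ded_44_2 (flp_e L812227) (flp_i L812062) L821090
theorem L821106 : sm gd N62842 = N62458 := ded_34_1 (flp_e L816647) L806079 (flp_e L802097) (flp_d L812052) L821090
theorem L821108 : sm gf N62842 = N62057 := ded_40_2 (flp_e L812375) (flp_f L811833) L811831 (flp_f L812054) L821090
theorem L821110 : sm ge N62038 = N62843 := rfl
theorem L821112 : sm ga N62843 = N62039 := ded_13_1 (flp_e L812098) L812084 L821110
theorem L821114 : sm gc N62843 = N62260 := ded_28_1 (flp_e L814733) (flp_c L812086) L821110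
theorem L821116 : sm gg N62843 = N62552 := ded_41_2 (flp_e L817442) (flp_g L812090) L821110
theorem L821118 : sm gj N62843 = N62577 := ded_42_2 (flp_e L817616) (flp_j L812092) L821110
theorem L821120 : sm gh N62843 = N62042 := ded_43_2 (flp_e L812139) (flp_h L812094) L821110
theorem L821122 : sm gi N62843 = N62582 := ded_44_2 (flp_e L817653) (flp_i L812096) L821110
theorem L821124 : sm gd N62039 = N62844 := rfl
theorem L821126 : sm gb N62844 = N62040 := ded_20_1 (flp_d L812112) (flp_b L812100) L821124
theorem L821128 : sm gg N62844 = N62553 := ded_36_2 (flp_d L817448) (flp_g L812104) L821124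
theorem L821130 : sm gj N62844 = N62578 := ded_37_2 (flp_d L817626) (flp_j L812106) L821124
theorem L821132 : sm gi N62844 = N62583 := ded_39_2 (flp_d L817661) (flp_i L812110) L821124
theorem L821134 : sm gh N62844 = N62149 := ded_38_2 (flp_d L813507) L802326 (flp_d L800878) (flp_h L812108) L821124
theorem L821136 : sm gf N62039 = N62845 := rfl
theorem L821138 : sm gb N62845 = N62041 := ded_22_1 (flp_f L812123) (flp_b L812100) L821136
theorem L821140 : sm gc N62845 = N62056 := ded_29_1 L812371 (flp_c L812102) L821136
theorem L821142 : sm gj N62845 = N62070 := ded_46_2 L812575 (flp_j L812106) L821136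
theorem L821144 : sm gh N62845 = N62043 := ded_47_2 (flp_f L812149) (flp_h L812108) L821136
theorem L821146 : sm gi N62845 = N62231 := ded_48_2 L814400 (flp_i L812110) L821136
theorem L821148 : sm ge N62845 = N62053 := ded_40_1 L812315 L801224 (flp_f L800821) L812098 L821136
theorem L821150 : sm gg N62162 = N62845 := ded_23_0 L821138 (flp_g L812137) (flp_b L813640)
theorem L821152 : sm gf N62040 = N62846 := rfl
theorem L821154 : sm ga N62846 = N62105 := ded_14_1 (flp_f L819424) L819422 L821152
theorem L821156 : sm gc N62846 = N62846 := ded_29_1 (flp_f L821152) L812120 L821152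
theorem L821157 : sm gd N62846 = N62041 := ded_35_1 (flp_f L812123) L812112 L821152
theorem L821159 : sm gj N62846 = N62071 := ded_46_2 L812581 (flp_j L812116) L821152
theorem L821161 : sm gh N62846 = N62151 := ded_47_2 (flp_f L813519) (flp_h L812121) L821152
theorem L821163 : sm gi N62846 = N62232 := ded_48_2 L814406 (flp_i L812118) L821152
theorem L821165 : sm gg N62846 = N62163 := ded_45_2 (flp_f L820668) L820670 L811299 (flp_g L812114) L821152
theorem L821167 : sm ge N62846 = N62383 := ded_55_4 (flp_d L815990) (flp_b L815980) L815982 L817376 L817380 (flp_h L814217) (flp_d L814211) L803216 (flp_e L792385) (flp_d L792322) (flp_b L792320) (flp_c L780069) (flp_d L768620) (flp_i L766416) (flp_h L766407) (flp_d L761962) L761966 L754457 L754455 (flp_b L754415) L754417 L745211 (flp_i L728498) (flp_h L716553) (flp_d L734207) (flp_f L734199) L716543 (flp_d L697321) (flp_b L697297) L697299 L676230 (flp_i L686079) (flp_h L686066) (flp_d L682970) L682974 L682972 L660360 L361158 (flp_c L355822) L631858 (flp_i L258569) (flp_h L177982) (flp_d L176459) (flp_f L176455) L121651 L84063 (flp_b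 L84042) L84044 (flp_d L91336) L91338 L625322 L46918 L46921 L46919 L32596 L22701 L15865 L11088 L11092 (flp_h L15383) (flp_d L21551) L21553 L15195 L15193 (flp_b L14147) (flp_c L20246) (flp_d L29038) (flp_i L41601) L60001 L60007 (flp_f L86165) (flp_e L124780) (flp_d L637670) L248606 (flp_c L361214) (flp_d L660114) L682732 L704051 L723473 (flp_f L740556) L754983 (flp_d L766909) L766903 (flp_c L766986) (flp_d L776945) (flp_i L788674) (flp_h L800841) L812112 L821152
theorem L821169 : sm gf N62042 = N62847 := rfl
theorem L821171 : sm ga N62847 = N62043 := ded_14_1 (flp_f L812149) (flp_a L812141) L821169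
theorem L821173 : sm gb N62847 = N62137 := ded_22_1 (flp_f L820888) L820876 L821169
theorem L821175 : sm gc N62847 = N62057 := ded_29_1 (flp_f L821108) L821096 L821169
theorem L821177 : sm gd N62847 = N62153 := ded_35_1 (flp_f L813536) (flp_d L812147) L821169
theorem L821179 : sm gj N62847 = N62082 := ded_46_2 (flp_f L820908) L820900 L821169
theorem L821181 : sm gi N62847 = N62050 := ded_48_2 (flp_f L812261) (flp_i L812145) L821169
theorem L821183 : sm ge N62847 = N62054 := ded_40_1 L812333 (flp_e L811743) L811745 L812139 L821169
theorem L821185 : sm gg N62167 = N62847 := ded_15_0 L821171 (flp_g L812163) (flp_a L813693)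
theorem L821187 : sm ge N62044 = N62848 := rfl
theorem L821189 : sm ga N62848 = N62045 := ded_13_1 (flp_e L812183) L812165 L821187
theorem L821191 : sm gb N62848 = N62458 := ded_21_1 (flp_e L816647) (flp_b L812181) L821187
theorem L821193 : sm gc N62848 = N62082 := ded_28_1 (flp_e L812729) (flp_c L812167) L821187
theorem L821195 : sm gg N62848 = N62046 := ded_41_2 (flp_e L812201) (flp_g L812173) L821187
theorem L821197 : sm gj N62848 = N62057 := ded_42_2 (flp_e L812375) (flp_j L812175) L821187
theorem L821199 : sm gh N62848 = N62574 := ded_43_2 (flp_e L817596) (flp_h L812177) L821187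
theorem L821201 : sm gi N62848 = N62051 := ded_44_2 (flp_e L812277) (flp_i L812179) L821187
theorem L821203 : sm gd N62848 = N62158 := ded_34_1 (flp_e L813582) (flp_d L811721) L811723 (flp_d L812169) L821187
theorem L821205 : sm gf N62848 = N62461 := ded_40_2 (flp_e L816689) L806150 (flp_e L801116) (flp_f L812171) L821187
theorem L821207 : sm gd N62046 = N62849 := rfl
theorem L821209 : sm ga N62849 = N62047 := ded_12_1 (flp_d L812209) (flp_a L812203) L821207
theorem L821211 : sm gb N62849 = N62136 := ded_20_1 (flp_d L820906) L820894 L821207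
theorem L821213 : sm gf N62849 = N62155 := ded_35_2 (flp_d L813558) (flp_f L812207) L821207
theorem L821215 : sm gg N62849 = N62158 := ded_36_2 (flp_d L821203) L821195 L821207
theorem L821217 : sm gj N62849 = N62080 := ded_37_2 (flp_d L820886) L820882 L821207
theorem L821219 : sm gi N62849 = N62052 := ded_39_2 (flp_d L812295) (flp_i L812205) L821207
theorem L821221 : sm ge N62849 = N62072 := ded_34_2 L812592 (flp_e L811743) L811741 L812201 L821207
theorem L821223 : sm gc N62849 = N62090 := ded_56_4 L812852 L802950 (flp_h L802821) L813913 L813919 (flp_d L814007) L814005 L806903 (flp_a L806299) L806307 L796405 L784541 L772899 (flp_c L761262) (flp_b L759722) (flp_a L767260) (flp_h L776402) L776392 L776887 L776897 L765505 L760251 (flp_a L748921) L748927 (flp_f L748657) (flp_e L748644) (flp_d L733111) L715339 L715337 (flp_a L721044) (flp_h L721042) L701818 L680792 L658658 L359956 L247735 L247733 L170813 L118106 (flp_e L119017) (flp_d L172610) (flp_c L250614) (flp_b L364392) (flp_a L663313) L686227 (flp_f L707738) L707736 (flp_d L712847) L712845 (flp_b L712705) (flp_a L721130)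 L738372 L738378 (flp_e L753097) L765288 L776681 L788577 L800759 L800767 (flp_f L800932) L812201 L821207
theorem L821225 : sm gh N62375 = N62849 := ded_17_0 L821209 (flp_h L812225) (flp_a L815927)
theorem L821227 : sm ga N62053 = N62850 := rfl
theorem L821229 : sm gc N62850 = N62055 := ded_11_2 (flp_a L812343) (flp_c L812325) L821227
theorem L821231 : sm gd N62850 = N62381 := ded_12_2 (flp_a L815966) (flp_d L812313) L821227
theorem L821233 : sm gf N62850 = N62058 := ded_14_2 (flp_a L812387) (flp_f L812315) L821227
theorem L821235 : sm gg N62850 = N62161 := ded_15_2 (flp_a L813626) (flp_g L812317) L821227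
theorem L821237 : sm gj N62850 = N62069 := ded_16_2 (flp_a L812549) (flp_j L812319) L821227
theorem L821239 : sm gh N62850 = N62054 := ded_17_2 (flp_a L812327) (flp_h L812321) L821227
theorem L821241 : sm gi N62850 = N62230 := ded_18_2 (flp_a L814376) (flp_i L812323) L821227
theorem L821243 : sm gb N62850 = N62103 := ded_10_2 (flp_a L813025) (flp_b L801858) (flp_a L801140) L812311 L821227
theorem L821245 : sm ge N62055 = N62851 := rfl
theorem L821247 : sm ga N62851 = N62056 := ded_13_1 (flp_e L812359) L812343 L821245
theorem L821249 : sm gb N62851 = N62222 := ded_21_1 (flp_e L814278) (flp_b L812357) L821245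
theorem L821251 : sm gg N62851 = N62560 := ded_41_2 (flp_e L817503) (flp_g L812349) L821245
theorem L821253 : sm gj N62851 = N62574 := ded_42_2 (flp_e L817596) (flp_j L812351) L821245
theorem L821255 : sm gh N62851 = N62057 := ded_43_2 (flp_e L812375) (flp_h L812353) L821245
theorem L821257 : sm gi N62851 = N62575 := ded_44_2 (flp_e L817604) (flp_i L812355) L821245
theorem L821259 : sm gf N62851 = N62260 := ded_40_2 (flp_e L814733) L803880 (flp_e L803118) (flp_f L812347) L821245
theorem L821261 : sm gd N62620 = N62851 := ded_12_0 L821247 (flp_d L812373) (flp_a L817897)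
theorem L821263 : sm ga N62059 = N62852 := rfl
theorem L821265 : sm gc N62852 = N62504 := ded_11_2 (flp_a L817105) (flp_c L812419) L821263
theorem L821267 : sm gd N62852 = N62075 := ded_12_2 (flp_a L812638) (flp_d L812407) L821263
theorem L821269 : sm gf N62852 = N62388 := ded_14_2 (flp_a L816036) (flp_f L812409) L821263
theorem L821271 : sm gg N62852 = N62474 := ded_15_2 (flp_a L816818) (flp_g L812411) L821263
theorem L821273 : sm gj N62852 = N62368 := ded_16_2 (flp_a L815842) (flp_j L812413) L821263
theorem L821275 : sm gh N62852 = N62065 := ded_17_2 (flp_a L812495) (flp_h L812415) L821263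
theorem L821277 : sm gi N62852 = N62500 := ded_18_2 (flp_a L817066) (flp_i L812417) L821263
theorem L821279 : sm gb N62852 = N62114 := ded_10_2 (flp_a L813141) (flp_b L801970) (flp_a L801238) L812405 L821263
theorem L821281 : sm ge N62059 = N62853 := rfl
theorem L821283 : sm gb N62853 = N62060 := ded_21_1 (flp_e L812421) L812405 L821281
theorem L821285 : sm gc N62853 = N62505 := ded_28_1 (flp_e L817117) (flp_c L812419) L821281
theorem L821287 : sm gg N62853 = N62475 := ded_41_2 (flp_e L816830) (flp_g L812411) L821281
theorem L821289 : sm gj N62853 = N62369 := ded_42_2 (flp_e L815856) (flp_j L812413) L821281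
theorem L821291 : sm gh N62853 = N62066 := ded_43_2 (flp_e L812509) (flp_h L812415) L821281
theorem L821293 : sm gi N62853 = N62501 := ded_44_2 (flp_e L817076) (flp_i L812417) L821281
theorem L821295 : sm gd N62060 = N62854 := rfl
theorem L821297 : sm ga N62854 = N62116 := ded_12_1 (flp_d L813157) (flp_a L812423) L821295
theorem L821299 : sm gg N62854 = N62476 := ded_36_2 (flp_d L816838) (flp_g L812427) L821295
theorem L821301 : sm gj N62854 = N62370 := ded_37_2 (flp_d L815868) (flp_j L812429) L821295
theorem L821303 : sm gi N62854 = N62502 := ded_39_2 (flp_d L817086) (flp_i L812433) L821295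
theorem L821305 : sm gc N62854 = N62854 := ded_27_1 (flp_d L821295) L812425 L801266 (flp_c L812425) L821295
theorem L821306 : sm ge N62854 = N62077 := ded_34_2 (flp_d L812660) (flp_e L801456) (flp_d L801250) L812421 L821295
theorem L821308 : sm gh N62854 = N62550 := ded_38_2 (flp_d L817427) L807272 (flp_d L801322) (flp_h L812431) L821295
theorem L821310 : sm gf N62060 = N62855 := rfl
theorem L821312 : sm ga N62855 = N62117 := ded_14_1 (flp_f L813164) (flp_a L812423) L821310
theorem L821314 : sm gc N62855 = N62061 := ded_29_1 (flp_f L812435) (flp_c L812425) L821310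
theorem L821316 : sm gj N62855 = N62359 := ded_46_2 L815750 (flp_j L812429) L821310
theorem L821318 : sm gh N62855 = N62067 := ded_47_2 (flp_f L812523) (flp_h L812431) L821310
theorem L821320 : sm gi N62855 = N62356 := ded_48_2 L815714 (flp_i L812433) L821310
theorem L821322 : sm ge N62855 = N62390 := ded_40_1 (flp_f L816060) (flp_e L805387) (flp_f L801240) L812421 L821310
theorem L821324 : sm gg N62061 = N62856 := rfl
theorem L821326 : sm ga N62856 = N62118 := ded_15_1 (flp_g L813170) (flp_a L812437) L821324
theorem L821328 : sm gb N62856 = N62451 := ded_23_1 L816585 (flp_b L812439) L821324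
theorem L821330 : sm gd N62856 = N62856 := ded_36_1 (flp_g L821324) L812441 L821324
theorem L821331 : sm ge N62856 = N62111 := ded_41_1 L813114 (flp_e L812448) L821324
theorem L821333 : sm gh N62856 = N62068 := ded_50_2 (flp_g L812535) (flp_h L812444) L821324
theorem L821335 : sm gi N62856 = N62311 := ded_51_2 L815270 (flp_i L812446) L821324
theorem L821337 : sm gf N62856 = N62256 := ded_45_1 L814685 L803829 (flp_g L801258) L812435 L821324
theorem L821339 : sm gj N62856 = N62365 := ded_49_2 L815817 L805058 (flp_g L805082) (flp_j L812442) L821324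
theorem L821341 : sm ga N62062 = N62857 := rfl
theorem L821343 : sm gc N62857 = N62524 := ded_11_2 (flp_a L817233) (flp_c L812464) L821341
theorem L821345 : sm gd N62857 = N62069 := ded_12_2 (flp_a L812549) (flp_d L812452) L821341
theorem L821347 : sm gf N62857 = N62065 := ded_14_2 (flp_a L812495) (flp_f L812454) L821341
theorem L821349 : sm gg N62857 = N62413 := ded_15_2 (flp_a L816262) (flp_g L812456) L821341
theorem L821351 : sm gj N62857 = N62381 := ded_16_2 (flp_a L815966) (flp_j L812458) L821341
theorem L821353 : sm gh N62857 = N62388 := ded_17_2 (flp_a L816036) (flp_h L812460) L821341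
theorem L821355 : sm gi N62857 = N62233 := ded_18_2 (flp_a L814413) (flp_i L812462) L821341
theorem L821357 : sm gb N62857 = N62119 := ded_10_2 (flp_a L813177) (flp_b L801991) (flp_a L801269) L812450 L821341
theorem L821359 : sm ge N62062 = N62858 := rfl
theorem L821361 : sm gb N62858 = N62063 := ded_21_1 (flp_e L812466) L812450 L821359
theorem L821363 : sm gc N62858 = N62525 := ded_28_1 (flp_e L817245) (flp_c L812464) L821359
theorem L821365 : sm gg N62858 = N62414 := ded_41_2 (flp_e L816274) (flp_g L812456) L821359
theorem L821367 : sm gj N62858 = N62382 := ded_42_2 (flp_e L815978) (flp_j L812458) L821359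
theorem L821369 : sm gh N62858 = N62389 := ded_43_2 (flp_e L816048) (flp_h L812460) L821359
theorem L821371 : sm gi N62858 = N62234 := ded_44_2 (flp_e L814427) (flp_i L812462) L821359
theorem L821373 : sm gd N62063 = N62859 := rfl
theorem L821375 : sm ga N62859 = N62121 := ded_12_1 (flp_d L813195) (flp_a L812468) L821373
theorem L821377 : sm gg N62859 = N62415 := ded_36_2 (flp_d L816282) (flp_g L812472) L821373
theorem L821379 : sm gj N62859 = N62383 := ded_37_2 (flp_d L815990) (flp_j L812474) L821373
theorem L821381 : sm gi N62859 = N62235 := ded_39_2 (flp_d L814437) (flp_i L812478) L821373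
theorem L821383 : sm gc N62859 = N62859 := ded_27_1 (flp_d L821373) L812470 L801297 (flp_c L812470) L821373
theorem L821384 : sm ge N62859 = N62071 := ded_34_2 (flp_d L812577) (flp_e L801364) (flp_d L801281) L812466 L821373
theorem L821386 : sm gf N62063 = N62860 := rfl
theorem L821388 : sm ga N62860 = N62122 := ded_14_1 (flp_f L813204) (flp_a L812468) L821386
theorem L821390 : sm gc N62860 = N62064 := ded_29_1 (flp_f L812480) (flp_c L812470) L821386
theorem L821392 : sm gj N62860 = N62367 := ded_46_2 L815836 (flp_j L812474) L821386
theorem L821394 : sm gh N62860 = N62390 := ded_47_2 (flp_f L816060) (flp_h L812476) L821386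
theorem L821396 : sm gi N62860 = N62236 := ded_48_2 (flp_f L814446) (flp_i L812478) L821386
theorem L821398 : sm ge N62860 = N62067 := ded_40_1 (flp_f L812523) (flp_e L801310) (flp_f L801271) L812466 L821386
theorem L821400 : sm gg N62064 = N62861 := rfl
theorem L821402 : sm ga N62861 = N62123 := ded_15_1 (flp_g L813212) (flp_a L812482) L821400
theorem L821404 : sm gb N62861 = N62365 := ded_23_1 L815817 (flp_b L812484) L821400
theorem L821406 : sm gd N62861 = N62861 := ded_36_1 (flp_g L821400) L812486 L821400
theorem L821407 : sm ge N62861 = N62068 := ded_41_1 (flp_g L812535) (flp_e L812493) L821400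
theorem L821409 : sm gh N62861 = N62111 := ded_50_2 L813114 (flp_h L812489) L821400
theorem L821411 : sm gi N62861 = N62237 := ded_51_2 (flp_g L814458) (flp_i L812491) L821400
theorem L821413 : sm gf N62861 = N62112 := ded_45_1 L813122 (flp_f L805618) (flp_g L801289) L812480 L821400
theorem L821415 : sm gj N62861 = N62451 := ded_49_2 L816585 L805974 (flp_g L805105) (flp_j L812487) L821400
theorem L821417 : sm ge N62065 = N62862 := rfl
theorem L821419 : sm ga N62862 = N62066 := ded_13_1 (flp_e L812509) L812495 L821417
theorem L821421 : sm gb N62862 = N62124 := ded_21_1 (flp_e L813221) (flp_b L812507) L821417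
theorem L821423 : sm gc N62862 = N62529 := ded_28_1 (flp_e L817280) (flp_c L812497) L821417
theorem L821425 : sm gg N62862 = N62480 := ded_41_2 (flp_e L816885) (flp_g L812501) L821417
theorem L821427 : sm gj N62862 = N62538 := ded_42_2 (flp_e L817344) (flp_j L812503) L821417
theorem L821429 : sm gi N62862 = N62238 := ded_44_2 (flp_e L814471) (flp_i L812505) L821417
theorem L821431 : sm gd N62862 = N62563 := ded_34_1 (flp_e L817527) L807378 (flp_e L801382) (flp_d L812499) L821417
theorem L821433 : sm gf N62066 = N62863 := rfl
theorem L821435 : sm gb N62863 = N62067 := ded_22_1 (flp_f L812523) (flp_b L812511) L821433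
theorem L821437 : sm gc N62863 = N62530 := ded_29_1 (flp_f L817288) (flp_c L812513) L821433
theorem L821439 : sm gd N62863 = N62564 := ded_35_1 (flp_f L817535) (flp_d L812521) L821433
theorem L821441 : sm gj N62863 = N62445 := ded_46_2 L816537 (flp_j L812517) L821433
theorem L821443 : sm gi N62863 = N62239 := ded_48_2 (flp_f L814487) (flp_i L812519) L821433
theorem L821445 : sm gg N62067 = N62864 := rfl
theorem L821447 : sm ga N62864 = N62126 := ded_15_1 (flp_g L813235) (flp_a L812525) L821445
theorem L821449 : sm gc N62864 = N62068 := ded_30_1 (flp_g L812535) (flp_c L812527) L821445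
theorem L821451 : sm gd N62864 = N62250 := ded_36_1 L814621 (flp_d L812529) L821445
theorem L821453 : sm gi N62864 = N62240 := ded_51_2 (flp_g L814499) (flp_i L812533) L821445
theorem L821455 : sm gf N62864 = N62249 := ded_45_1 L814605 L803773 (flp_g L801316) L812523 L821445
theorem L821457 : sm gj N62864 = N62405 := ded_49_2 L816196 L805541 (flp_g L805928) (flp_j L812531) L821445
theorem L821459 : sm ge N62069 = N62865 := rfl
theorem L821461 : sm ga N62865 = N62070 := ded_13_1 (flp_e L812563) L812549 L821459
theorem L821463 : sm gb N62865 = N62128 := ded_21_1 (flp_e L813259) (flp_b L812561) L821459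
theorem L821465 : sm gc N62865 = N62574 := ded_28_1 (flp_e L817596) (flp_c L812551) L821459
theorem L821467 : sm gg N62865 = N62469 := ded_41_2 (flp_e L816777) (flp_g L812555) L821459
theorem L821469 : sm gh N62865 = N62082 := ded_43_2 (flp_e L812729) (flp_h L812557) L821459
theorem L821471 : sm gi N62865 = N62241 := ded_44_2 (flp_e L814513) (flp_i L812559) L821459
theorem L821473 : sm gf N62865 = N62577 := ded_40_2 (flp_e L817616) L807599 (flp_e L801382) (flp_f L812553) L821459
theorem L821475 : sm gd N62070 = N62866 := rfl
theorem L821477 : sm gb N62866 = N62071 := ded_20_1 (flp_d L812577) (flp_b L812565) L821475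
theorem L821479 : sm gf N62866 = N62578 := ded_35_2 (flp_d L817626) (flp_f L812575) L821475
theorem L821481 : sm gg N62866 = N62470 := ded_36_2 (flp_d L816785) (flp_g L812569) L821475
theorem L821483 : sm gi N62866 = N62242 := ded_39_2 (flp_d L814523) (flp_i L812573) L821475
theorem L821485 : sm gh N62071 = N62867 := rfl
theorem L821487 : sm ga N62867 = N62130 := ded_17_1 (flp_h L813279) (flp_a L812579) L821485
theorem L821489 : sm gc N62867 = N62867 := ded_32_1 (flp_h L821485) L812587 L821485
theorem L821490 : sm gf N62867 = N62135 := ded_47_1 L813353 (flp_f L812581) L821485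
theorem L821492 : sm gg N62867 = N62471 := ded_50_1 (flp_h L816791) (flp_g L812583) L821485
theorem L821494 : sm gj N62867 = N62151 := ded_52_1 (flp_h L821161) L821159 L821485
theorem L821496 : sm gd N62867 = N62084 := ded_38_1 (flp_h L812753) (flp_d L801549) (flp_h L801372) L812577 L821485
theorem L821498 : sm ge N62073 = N62868 := rfl
theorem L821500 : sm ga N62868 = N62074 := ded_13_1 (flp_e L812622) L812606 L821498
theorem L821502 : sm gb N62868 = N62167 := ded_21_1 (flp_e L813691) (flp_b L812620) L821498
theorem L821504 : sm gc N62868 = N62080 := ded_28_1 (flp_e L812703) (flp_c L812608) L821498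
theorem L821506 : sm gg N62868 = N62137 := ded_41_2 (flp_e L813365) (flp_g L812614) L821498
theorem L821508 : sm gj N62868 = N62090 := ded_42_2 (flp_e L812848) (flp_j L812616) L821498
theorem L821510 : sm gi N62868 = N62087 := ded_44_2 (flp_e L812802) (flp_i L812618) L821498
theorem L821512 : sm gd N62868 = N62203 := ded_34_1 L814073 (flp_d L812269) L812275 (flp_d L812610) L821498
theorem L821514 : sm gf N62868 = N62202 := ded_40_2 L814067 (flp_f L812301) L812307 (flp_f L812612) L821498
theorem L821516 : sm ge N62075 = N62869 := rfl
theorem L821518 : sm ga N62869 = N62076 := ded_13_1 (flp_e L812650) L812638 L821516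
theorem L821520 : sm gb N62869 = N62148 := ded_21_1 (flp_e L813499) (flp_b L812648) L821516
theorem L821522 : sm gg N62869 = N62568 := ded_41_2 (flp_e L817559) (flp_g L812642) L821516
theorem L821524 : sm gj N62869 = N62375 := ded_42_2 (flp_e L815925) (flp_j L812644) L821516
theorem L821526 : sm gh N62869 = N62080 := ded_43_2 (flp_e L812703) (flp_h L812646) L821516
theorem L821528 : sm gd N62076 = N62870 := rfl
theorem L821530 : sm gb N62870 = N62077 := ded_20_1 (flp_d L812660) (flp_b L812652) L821528
theorem L821532 : sm gg N62870 = N62569 := ded_36_2 (flp_d L817569) (flp_g L812654) L821528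
theorem L821534 : sm gj N62870 = N62376 := ded_37_2 (flp_d L815931) (flp_j L812656) L821528
theorem L821536 : sm gf N62076 = N62871 := rfl
theorem L821538 : sm gb N62871 = N62078 := ded_22_1 (flp_f L812669) (flp_b L812652) L821536
theorem L821540 : sm gc N62871 = N62204 := ded_29_1 (flp_f L820593) L820583 L821536
theorem L821542 : sm gj N62871 = N62156 := ded_46_2 L813570 (flp_j L812656) L821536
theorem L821544 : sm gh N62871 = N62081 := ded_47_2 (flp_f L812713) (flp_h L812658) L821536
theorem L821546 : sm ge N62871 = N62198 := ded_40_1 L814021 (flp_e L805471) (flp_f L801448) L812650 L821536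
theorem L821548 : sm gg N62871 = N62187 := ded_45_2 (flp_f L813913) (flp_g L810094) L810100 (flp_g L812654) L821536
theorem L821550 : sm gf N62077 = N62872 := rfl
theorem L821552 : sm ga N62872 = N62151 := ded_14_1 (flp_f L813519) (flp_a L812662) L821550
theorem L821554 : sm gc N62872 = N62872 := ded_29_1 (flp_f L821550) L812668 L821550
theorem L821555 : sm gd N62872 = N62078 := ded_35_1 (flp_f L812669) L812660 L821550
theorem L821557 : sm gj N62872 = N62130 := ded_46_2 L813282 (flp_j L812666) L821550
theorem L821559 : sm gh N62872 = N62105 := ded_47_2 (flp_f L819424) L819435 L821550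
theorem L821561 : sm gg N62872 = N62188 := ded_45_2 (flp_f L813921) (flp_g L810108) L810106 (flp_g L812664) L821550
theorem L821563 : sm gf N62080 = N62873 := rfl
theorem L821565 : sm ga N62873 = N62081 := ded_14_1 (flp_f L812713) (flp_a L812705) L821563
theorem L821567 : sm gb N62873 = N62153 := ded_22_1 (flp_f L813536) (flp_b L812707) L821563
theorem L821569 : sm gc N62873 = N62202 := ded_29_1 (flp_f L821514) L821504 L821563
theorem L821571 : sm gd N62873 = N62137 := ded_35_1 (flp_f L820888) L820886 L821563
theorem L821573 : sm gj N62873 = N62155 := ded_46_2 (flp_f L821213) L821217 L821563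
theorem L821575 : sm gi N62873 = N62094 := ded_48_2 (flp_f L812904) (flp_i L812711) L821563
theorem L821577 : sm ge N62873 = N62206 := ded_40_1 L814097 (flp_e L812689) L812691 L812703 L821563
theorem L821579 : sm gg N62873 = N62203 := ded_45_2 (flp_f L814069) (flp_g L814057) L814061 (flp_g L812709) L821563
theorem L821581 : sm gd N62082 = N62874 := rfl
theorem L821583 : sm ga N62874 = N62083 := ded_12_1 (flp_d L812737) (flp_a L812731) L821581
theorem L821585 : sm gb N62874 = N62155 := ded_20_1 (flp_d L813558) (flp_b L812733) L821581
theorem L821587 : sm gf N62874 = N62136 := ded_35_2 (flp_d L820906) L820908 L821581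
theorem L821589 : sm gg N62874 = N62566 := ded_36_2 (flp_d L817958) L817950 L821581
theorem L821591 : sm gj N62874 = N62153 := ded_37_2 (flp_d L821177) L821179 L821581
theorem L821593 : sm gi N62874 = N62095 := ded_39_2 (flp_d L812914) (flp_i L812735) L821581
theorem L821595 : sm gc N62874 = N62555 := ded_27_1 L817464 (flp_c L813586) (flp_d L821203) L821193 L821581
theorem L821597 : sm ge N62874 = N62567 := ded_34_2 L817557 (flp_e L812689) L812687 L812729 L821581
theorem L821599 : sm gh N62083 = N62875 := rfl
theorem L821601 : sm gb N62875 = N62084 := ded_25_1 (flp_h L812753) (flp_b L812739) L821599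
theorem L821603 : sm gc N62875 = N62554 := ded_32_1 L817458 (flp_c L812749) L821599
theorem L821605 : sm ge N62875 = N62272 := ded_43_1 L814868 (flp_e L812751) L821599
theorem L821607 : sm gf N62875 = N62134 := ded_47_1 L813342 (flp_f L812741) L821599
theorem L821609 : sm gg N62875 = N62562 := ded_50_1 L817523 (flp_g L812743) L821599
theorem L821611 : sm gj N62875 = N62150 := ded_52_1 L813517 (flp_j L812745) L821599
theorem L821613 : sm gi N62084 = N62876 := rfl
theorem L821615 : sm ga N62876 = N62157 := ded_18_1 (flp_i L813572) (flp_a L812755) L821613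
theorem L821617 : sm gc N62876 = N62085 := ded_33_1 (flp_i L812767) (flp_c L812757) L821613
theorem L821619 : sm ge N62876 = N62250 := ded_44_1 L814619 (flp_e L812759) L821613
theorem L821621 : sm gf N62876 = N62132 := ded_48_1 L813316 (flp_f L812761) L821613
theorem L821623 : sm gg N62876 = N62559 := ded_51_1 L817499 (flp_g L812763) L821613
theorem L821625 : sm gj N62876 = N62147 := ded_53_1 L813497 (flp_j L812765) L821613
theorem L821627 : sm gh N62876 = N62097 := ded_54_1 (flp_i L812938) (flp_h L801762) (flp_i L801559) L812753 L821613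
theorem L821629 : sm gd N62087 = N62877 := rfl
theorem L821631 : sm ga N62877 = N62088 := ded_12_1 (flp_d L812814) (flp_a L812804) L821629
theorem L821633 : sm gb N62877 = N62206 := ded_20_1 (flp_d L818030) L818028 L821629
theorem L821635 : sm gg N62877 = N62094 := ded_36_2 L812910 (flp_g L812808) L821629
theorem L821637 : sm gj N62877 = N62567 := ded_37_2 L817557 (flp_j L812810) L821629
theorem L821639 : sm gi N62877 = N62203 := ded_39_2 (flp_d L821512) L821510 L821629
theorem L821641 : sm gc N62877 = N62547 := ded_27_1 L817407 (flp_c L811851) L811859 (flp_c L812806) L821629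
theorem L821643 : sm ge N62877 = N62153 := ded_34_2 (flp_d L821177) L821183 L812331 L812802 L821629
theorem L821645 : sm gf N62152 = N62877 := ded_14_0 L821631 (flp_f L812828) (flp_a L813526)
theorem L821647 : sm gf N62087 = N62878 := rfl
theorem L821649 : sm ga N62878 = N62089 := ded_14_1 (flp_f L812830) (flp_a L812804) L821647
theorem L821651 : sm gb N62878 = N62567 := ded_22_1 (flp_f L818020) L818028 L821647
theorem L821653 : sm gc N62878 = N62094 := ded_29_1 (flp_f L812904) (flp_c L812806) L821647
theorem L821655 : sm gd N62878 = N62152 := ded_35_1 L821645 (flp_d L821629) L821647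
theorem L821657 : sm gj N62878 = N62206 := ded_46_2 L814097 (flp_j L812810) L821647
theorem L821659 : sm gh N62878 = N62402 := ded_47_2 (flp_f L816172) (flp_h L812812) L821647
theorem L821661 : sm gi N62878 = N62202 := ded_48_2 (flp_f L821514) L821510 L821647
theorem L821663 : sm ge N62878 = N62155 := ded_40_1 (flp_f L821213) L821221 L812594 L812802 L821647
theorem L821665 : sm gg N62878 = N62547 := ded_45_2 (flp_f L817401) (flp_g L811853) L811861 (flp_g L812808) L821647
theorem L821667 : sm gd N62090 = N62879 := rfl
theorem L821669 : sm ga N62879 = N62091 := ded_12_1 (flp_d L812858) (flp_a L812850) L821667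
theorem L821671 : sm gb N62879 = N62202 := ded_20_1 (flp_d L814063) (flp_b L812852) L821667
theorem L821673 : sm gg N62879 = N62555 := ded_36_2 L817464 (flp_g L812854) L821667
theorem L821675 : sm gj N62879 = N62203 := ded_37_2 (flp_d L821512) L821508 L821667
theorem L821677 : sm gi N62879 = N62567 := ded_39_2 L817557 (flp_i L812856) L821667
theorem L821679 : sm gc N62879 = N62566 := ded_27_1 (flp_d L817958) L817948 L821207 L821223 L821667
theorem L821681 : sm ge N62879 = N62095 := ded_34_2 (flp_d L812914) (flp_e L801744) (flp_d L801682) L812848 L821667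
theorem L821683 : sm gf N62167 = N62879 := ded_14_0 L821669 (flp_f L812872) (flp_a L813693)
theorem L821685 : sm gf N62090 = N62880 := rfl
theorem L821687 : sm ga N62880 = N62092 := ded_14_1 (flp_f L812874) (flp_a L812850) L821685
theorem L821689 : sm gb N62880 = N62203 := ded_22_1 (flp_f L814069) (flp_b L812852) L821685
theorem L821691 : sm gc N62880 = N62155 := ded_29_1 (flp_f L821213) L821223 L821685
theorem L821693 : sm gd N62880 = N62167 := ded_35_1 L821683 (flp_d L821667) L821685
theorem L821695 : sm gj N62880 = N62202 := ded_46_2 (flp_f L821514) L821508 L821685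
theorem L821697 : sm gi N62880 = N62206 := ded_48_2 L814097 (flp_i L812856) L821685
theorem L821699 : sm ge N62880 = N62094 := ded_40_1 (flp_f L812904) (flp_e L801728) (flp_f L801684) L812848 L821685
theorem L821701 : sm gg N62880 = N62153 := ded_45_2 (flp_f L813536) L802363 L807508 (flp_g L812854) L821685
theorem L821703 : sm gh N62091 = N62881 := rfl
theorem L821705 : sm gb N62881 = N62093 := ded_25_1 (flp_h L812890) (flp_b L812860) L821703
theorem L821707 : sm gc N62881 = N62562 := ded_32_1 L817523 (flp_c L812868) L821703
theorem L821709 : sm ge N62881 = N62096 := ded_43_1 (flp_h L812926) (flp_e L812870) L821703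
theorem L821711 : sm gf N62881 = N62162 := ded_47_1 L813646 L812872 L821703
theorem L821713 : sm gg N62881 = N62554 := ded_50_1 L817458 (flp_g L812862) L821703
theorem L821715 : sm gj N62881 = N62187 := ded_52_1 L813917 (flp_j L812864) L821703
theorem L821717 : sm gi N62093 = N62882 := rfl
theorem L821719 : sm ga N62882 = N62205 := ded_18_1 (flp_i L814081) (flp_a L812892) L821717
theorem L821721 : sm gc N62882 = N62098 := ded_33_1 (flp_i L812950) (flp_c L812894) L821717
theorem L821723 : sm ge N62882 = N62097 := ded_44_1 (flp_i L812938) (flp_e L812896) L821717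
theorem L821725 : sm gf N62882 = N62160 := ded_48_1 L813624 (flp_f L812898) L821717
theorem L821727 : sm gg N62882 = N62551 := ded_51_1 L817440 (flp_g L812900) L821717
theorem L821729 : sm gj N62882 = N62184 := ded_53_1 L813897 (flp_j L812902) L821717
theorem L821731 : sm gh N62882 = N62250 := ded_54_1 L814619 L804029 (flp_i L801704) L812890 L821717
theorem L821733 : sm gh N62095 = N62883 := rfl
theorem L821735 : sm ga N62883 = N62096 := ded_17_1 (flp_h L812926) (flp_a L812916) L821733
theorem L821737 : sm gb N62883 = N62207 := ded_25_1 (flp_h L814099) (flp_b L812918) L821733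
theorem L821739 : sm gc N62883 = N62565 := ded_32_1 L817545 (flp_c L812924) L821733
theorem L821741 : sm gf N62883 = N62166 := ded_47_1 L813689 (flp_f L812920) L821733
theorem L821743 : sm gj N62883 = N62196 := ded_52_1 L813999 (flp_j L812922) L821733
theorem L821745 : sm gd N62883 = N62283 := ded_38_1 (flp_h L814982) (flp_d L804174) (flp_h L801750) L812914 L821733
theorem L821747 : sm gi N62096 = N62884 := rfl
theorem L821749 : sm gb N62884 = N62097 := ded_26_1 (flp_i L812938) (flp_b L812928) L821747
theorem L821751 : sm gc N62884 = N62564 := ded_33_1 L817539 (flp_c L812930) L821747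
theorem L821753 : sm gd N62884 = N62284 := ded_39_1 (flp_i L814988) (flp_d L812936) L821747
theorem L821755 : sm gf N62884 = N62165 := ded_48_1 L813679 (flp_f L812932) L821747
theorem L821757 : sm gj N62884 = N62192 := ded_53_1 L813957 (flp_j L812934) L821747
theorem L821759 : sm ga N62099 = N62885 := rfl
theorem L821761 : sm gc N62885 = N62417 := ded_11_2 (flp_a L816303) (flp_c L812981) L821759
theorem L821763 : sm gd N62885 = N62133 := ded_12_2 (flp_a L813318) (flp_d L812969) L821759
theorem L821765 : sm gf N62885 = N62265 := ded_14_2 (flp_a L814790) (flp_f L812971) L821759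
theorem L821767 : sm gg N62885 = N62257 := ded_15_2 (flp_a L814688) (flp_g L812973) L821759
theorem L821769 : sm gj N62885 = N62114 := ded_16_2 (flp_a L813141) (flp_j L812975) L821759
theorem L821771 : sm gh N62885 = N62102 := ded_17_2 (flp_a L813013) (flp_h L812977) L821759
theorem L821773 : sm gi N62885 = N62410 := ded_18_2 (flp_a L816232) (flp_i L812979) L821759
theorem L821775 : sm gb N62885 = N62368 := ded_10_2 (flp_a L815842) (flp_b L805137) (flp_a L801803) L812967 L821759
theorem L821777 : sm ga N62100 = N62886 := rfl
theorem L821779 : sm gc N62886 = N62605 := ded_11_2 (flp_a L817799) (flp_c L812997) L821777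
theorem L821781 : sm gd N62886 = N62103 := ded_12_2 (flp_a L813025) (flp_d L812985) L821777
theorem L821783 : sm gf N62886 = N62102 := ded_14_2 (flp_a L813013) (flp_f L812987) L821777
theorem L821785 : sm gg N62886 = N62262 := ded_15_2 (flp_a L814751) (flp_g L812989) L821777
theorem L821787 : sm gj N62886 = N62119 := ded_16_2 (flp_a L813177) (flp_j L812991) L821777
theorem L821789 : sm gh N62886 = N62265 := ded_17_2 (flp_a L814790) (flp_h L812993) L821777
theorem L821791 : sm gi N62886 = N62286 := ded_18_2 (flp_a L815006) (flp_i L812995) L821777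
theorem L821793 : sm gb N62886 = N62381 := ded_10_2 (flp_a L815966) (flp_b L805304) (flp_a L801819) L812983 L821777
theorem L821795 : sm ge N62100 = N62887 := rfl
theorem L821797 : sm gb N62887 = N62101 := ded_21_1 (flp_e L812999) L812983 L821795
theorem L821799 : sm gc N62887 = N62606 := ded_28_1 (flp_e L817807) (flp_c L812997) L821795
theorem L821801 : sm gg N62887 = N62263 := ded_41_2 (flp_e L814765) (flp_g L812989) L821795
theorem L821803 : sm gj N62887 = N62120 := ded_42_2 (flp_e L813187) (flp_j L812991) L821795
theorem L821805 : sm gh N62887 = N62266 := ded_43_2 (flp_e L814802) (flp_h L812993) L821795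
theorem L821807 : sm gi N62887 = N62287 := ded_44_2 (flp_e L815022) (flp_i L812995) L821795
theorem L821809 : sm gd N62101 = N62888 := rfl
theorem L821811 : sm ga N62888 = N62383 := ded_12_1 (flp_d L815990) (flp_a L813001) L821809
theorem L821813 : sm gg N62888 = N62264 := ded_36_2 (flp_d L814779) (flp_g L813005) L821809
theorem L821815 : sm gj N62888 = N62121 := ded_37_2 (flp_d L813195) (flp_j L813007) L821809
theorem L821817 : sm gi N62888 = N62288 := ded_39_2 (flp_d L815034) (flp_i L813011) L821809
theorem L821819 : sm gc N62888 = N62888 := ded_27_1 (flp_d L821809) L813003 L801847 (flp_c L813003) L821809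
theorem L821820 : sm ge N62888 = N62105 := ded_34_2 (flp_d L813049) (flp_e L801870) (flp_d L801831) L812999 L821809
theorem L821822 : sm ge N62103 = N62889 := rfl
theorem L821824 : sm ga N62889 = N62104 := ded_13_1 (flp_e L813037) L813025 L821822
theorem L821826 : sm gc N62889 = N62568 := ded_28_1 (flp_e L817559) (flp_c L813027) L821822
theorem L821828 : sm gj N62889 = N62128 := ded_42_2 (flp_e L813259) (flp_j L813031) L821822
theorem L821830 : sm gh N62889 = N62137 := ded_43_2 (flp_e L813365) (flp_h L813033) L821822
theorem L821832 : sm gi N62889 = N62292 := ded_44_2 (flp_e L815070) (flp_i L813035) L821822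
theorem L821834 : sm gd N62104 = N62890 := rfl
theorem L821836 : sm gb N62890 = N62105 := ded_20_1 (flp_d L813049) (flp_b L813039) L821834
theorem L821838 : sm gj N62890 = N62129 := ded_37_2 (flp_d L813271) (flp_j L813043) L821834
theorem L821840 : sm gi N62890 = N62293 := ded_39_2 (flp_d L815078) (flp_i L813047) L821834
theorem L821842 : sm ge N62106 = N62891 := rfl
theorem L821844 : sm ga N62891 = N62107 := ded_13_1 (flp_e L813066) L813056 L821842
theorem L821846 : sm gc N62891 = N62124 := ded_28_1 (flp_e L813221) (flp_c L813058) L821842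
theorem L821848 : sm gg N62891 = N62523 := ded_41_2 (flp_e L817223) (flp_g L813062) L821842
theorem L821850 : sm gi N62891 = N62306 := ded_44_2 (flp_e L815220) (flp_i L813064) L821842
theorem L821852 : sm gd N62107 = N62892 := rfl
theorem L821854 : sm gb N62892 = N62108 := ded_20_1 (flp_d L813076) (flp_b L813068) L821852
theorem L821856 : sm gg N62892 = N62439 := ded_36_2 L816477 (flp_g L813072) L821852
theorem L821858 : sm gi N62892 = N62307 := ded_39_2 (flp_d L815228) (flp_i L813074) L821852
theorem L821860 : sm ge N62892 = N62484 := ded_34_2 (flp_d L816923) (flp_e L806474) (flp_d L801894) L813066 L821852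
theorem L821862 : sm gf N62107 = N62893 := rfl
theorem L821864 : sm gb N62893 = N62109 := ded_22_1 (flp_f L813086) (flp_b L813068) L821862
theorem L821866 : sm gc N62893 = N62125 := ded_29_1 (flp_f L813229) (flp_c L813070) L821862
theorem L821868 : sm gi N62893 = N62308 := ded_48_2 (flp_f L815234) (flp_i L813074) L821862
theorem L821870 : sm gf N62108 = N62894 := rfl
theorem L821872 : sm gc N62894 = N62111 := ded_29_1 (flp_f L813104) (flp_c L813082) L821870
theorem L821874 : sm gd N62894 = N62109 := ded_35_1 (flp_f L813086) L813076 L821870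
theorem L821876 : sm gj N62894 = N62531 := ded_46_2 (flp_f L818564) L818566 L821870
theorem L821878 : sm gi N62894 = N62309 := ded_48_2 (flp_f L815242) (flp_i L813080) L821870
theorem L821880 : sm gg N62894 = N62390 := ded_45_2 (flp_f L816060) L805391 L805816 (flp_g L813078) L821870
theorem L821882 : sm gh N62108 = N62895 := rfl
theorem L821884 : sm ga N62895 = N62457 := ded_17_1 (flp_h L818917) L818909 L821882
theorem L821886 : sm gc N62895 = N62112 := ded_32_1 (flp_h L813116) (flp_c L813082) L821882
theorem L821888 : sm ge N62895 = N62456 := ded_43_1 L816639 (flp_e L813084) L821882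
theorem L821890 : sm gg N62895 = N62416 := ded_50_1 L816299 (flp_g L813078) L821882
theorem L821892 : sm gg N62109 = N62896 := rfl
theorem L821894 : sm gc N62896 = N62110 := ded_30_1 (flp_g L813092) (flp_c L813088) L821892
theorem L821896 : sm gd N62896 = N62390 := ded_36_1 (flp_g L821880) L821874 L821892
theorem L821898 : sm gi N62896 = N62310 := ded_51_2 L815260 (flp_i L813090) L821892
theorem L821900 : sm gf N62896 = N62364 := ded_45_1 L815804 L805043 (flp_g L801906) L813086 L821892
theorem L821902 : sm gj N62896 = N62394 := ded_49_2 L816102 (flp_j L809542) L819218 (flp_j L819234) L821892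
theorem L821904 : sm ga N62113 = N62897 := rfl
theorem L821906 : sm gc N62897 = N62413 := ded_11_2 (flp_a L816262) (flp_c L813139) L821904
theorem L821908 : sm gd N62897 = N62144 := ded_12_2 (flp_a L813466) (flp_d L813127) L821904
theorem L821910 : sm gf N62897 = N62465 := ded_14_2 (flp_a L816729) (flp_f L813129) L821904
theorem L821912 : sm gg N62897 = N62524 := ded_15_2 (flp_a L817233) (flp_g L813131) L821904
theorem L821914 : sm gj N62897 = N62410 := ded_16_2 (flp_a L816232) (flp_j L813133) L821904
theorem L821916 : sm gh N62897 = N62314 := ded_17_2 (flp_a L815305) (flp_h L813135) L821904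
theorem L821918 : sm gi N62897 = N62114 := ded_18_2 (flp_a L813141) (flp_i L813137) L821904
theorem L821920 : sm gb N62897 = N62500 := ded_10_2 (flp_a L817066) (flp_b L806695) (flp_a L801956) L813125 L821904
theorem L821922 : sm ge N62114 = N62898 := rfl
theorem L821924 : sm ga N62898 = N62115 := ded_13_1 (flp_e L813149) L813141 L821922
theorem L821926 : sm gg N62898 = N62527 := ded_41_2 (flp_e L817264) (flp_g L813145) L821922
theorem L821928 : sm gh N62898 = N62124 := ded_43_2 (flp_e L813221) (flp_h L813147) L821922
theorem L821930 : sm gd N62115 = N62899 := rfl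
theorem L821932 : sm gb N62899 = N62116 := ded_20_1 (flp_d L813157) (flp_b L813151) L821930
theorem L821934 : sm gg N62899 = N62528 := ded_36_2 (flp_d L817272) (flp_g L813153) L821930
theorem L821936 : sm ge N62899 = N62149 := ded_34_2 (flp_d L813507) (flp_e L802320) (flp_d L801972) L813149 L821930
theorem L821938 : sm gf N62115 = N62900 := rfl
theorem L821940 : sm gb N62900 = N62117 := ded_22_1 (flp_f L813164) (flp_b L813151) L821938
theorem L821942 : sm gh N62900 = N62125 := ded_47_2 (flp_f L813229) (flp_h L813155) L821938
theorem L821944 : sm gf N62116 = N62901 := rfl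
theorem L821946 : sm gc N62901 = N62901 := ded_29_1 (flp_f L821944) L813161 L821944
theorem L821947 : sm gd N62901 = N62117 := ded_35_1 (flp_f L813164) L813157 L821944
theorem L821949 : sm gg N62117 = N62902 := rfl
theorem L821951 : sm gc N62902 = N62118 := ded_30_1 (flp_g L813170) (flp_c L813166) L821949
theorem L821953 : sm gh N62902 = N62126 := ded_50_2 (flp_g L813235) (flp_h L813168) L821949
theorem L821955 : sm gf N62902 = N62348 := ded_45_1 L815618 L804822 (flp_g L801982) L813164 L821949
theorem L821957 : sm ge N62119 = N62903 := rfl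
theorem L821959 : sm ga N62903 = N62120 := ded_13_1 (flp_e L813187) L813177 L821957
theorem L821961 : sm gg N62903 = N62515 := ded_41_2 (flp_e L817185) (flp_g L813183) L821957
theorem L821963 : sm gi N62903 = N62320 := ded_44_2 (flp_e L815365) (flp_i L813185) L821957
theorem L821965 : sm gd N62120 = N62904 := rfl
theorem L821967 : sm gb N62904 = N62121 := ded_20_1 (flp_d L813195) (flp_b L813189) L821965
theorem L821969 : sm gg N62904 = N62516 := ded_36_2 (flp_d L817189) (flp_g L813191) L821965
theorem L821971 : sm gi N62904 = N62321 := ded_39_2 (flp_d L815369) (flp_i L813193) L821965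
theorem L821973 : sm ge N62904 = N62129 := ded_34_2 (flp_d L813271) (flp_e L802074) (flp_d L801993) L813187 L821965
theorem L821975 : sm gf N62120 = N62905 := rfl
theorem L821977 : sm gb N62905 = N62122 := ded_22_1 (flp_f L813204) (flp_b L813189) L821975
theorem L821979 : sm gi N62905 = N62322 := ded_48_2 (flp_f L815375) (flp_i L813193) L821975
theorem L821981 : sm ge N62905 = N62125 := ded_40_1 (flp_f L813229) (flp_e L802024) (flp_f L801995) L813187 L821975
theorem L821983 : sm gf N62121 = N62906 := rfl
theorem L821985 : sm gc N62906 = N62906 := ded_29_1 (flp_f L821983) L813201 L821983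
theorem L821986 : sm gd N62906 = N62122 := ded_35_1 (flp_f L813204) L813195 L821983
theorem L821988 : sm gi N62906 = N62323 := ded_48_2 (flp_f L815381) (flp_i L813199) L821983
theorem L821990 : sm ge N62906 = N62522 := ded_40_1 L821020 L821016 L812039 (flp_e L813202) L821983
theorem L821992 : sm gh N62121 = N62907 := rfl
theorem L821994 : sm gc N62907 = N62907 := ded_32_1 (flp_h L821992) L813201 L821992
theorem L821995 : sm ge N62907 = N62130 := ded_43_1 (flp_h L813279) (flp_e L813202) L821992
theorem L821997 : sm gg N62907 = N62323 := ded_50_1 (flp_h L815388) (flp_g L813197) L821992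
theorem L821999 : sm gd N62907 = N62325 := ded_38_1 L818161 (flp_d L818147) L808464 L813195 L821992
theorem L822001 : sm gg N62122 = N62908 := rfl
theorem L822003 : sm gc N62908 = N62123 := ded_30_1 (flp_g L813212) (flp_c L813206) L822001
theorem L822005 : sm ge N62908 = N62126 := ded_41_1 (flp_g L813235) (flp_e L813210) L822001
theorem L822007 : sm gi N62908 = N62325 := ded_51_2 (flp_g L815399) (flp_i L813208) L822001
theorem L822009 : sm gf N62908 = N62457 := ded_45_1 L816645 (flp_f L806887) (flp_g L802005) L813204 L822001
theorem L822011 : sm gf N62124 = N62909 := rfl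
theorem L822013 : sm ga N62909 = N62125 := ded_14_1 (flp_f L813229) (flp_a L813223) L822011
theorem L822015 : sm gi N62909 = N62326 := ded_48_2 (flp_f L815405) (flp_i L813227) L822011
theorem L822017 : sm gg N62125 = N62910 := rfl
theorem L822019 : sm gb N62910 = N62126 := ded_23_1 (flp_g L813235) (flp_b L813231) L822017
theorem L822021 : sm gd N62910 = N62347 := ded_36_1 (flp_g L821060) L821056 L822017
theorem L822023 : sm gi N62910 = N62327 := ded_51_2 (flp_g L815409) (flp_i L813233) L822017
theorem L822025 : sm gf N62910 = N62346 := ded_45_1 L815600 L804808 (flp_g L802028) L813229 L822017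
theorem L822027 : sm gj N62126 = N62911 := rfl
theorem L822029 : sm ga N62911 = N62405 := ded_16_1 (flp_j L821457) L821447 L822027
theorem L822031 : sm gc N62911 = N62127 := ded_31_1 (flp_j L813245) (flp_c L813237) L822027
theorem L822033 : sm gd N62911 = N62194 := ded_37_1 (flp_j L813979) (flp_d L813239) L822027
theorem L822035 : sm gf N62911 = N62344 := ded_46_1 L815580 (flp_f L813243) L822027
theorem L822037 : sm gi N62911 = N62200 := ded_53_2 L814049 (flp_i L813241) L822027
theorem L822039 : sm gg N62911 = N62193 := ded_49_1 L813967 (flp_g L809714) L809716 L813235 L822027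
theorem L822041 : sm gd N62128 = N62912 := rfl
theorem L822043 : sm ga N62912 = N62129 := ded_12_1 (flp_d L813271) (flp_a L813261) L822041
theorem L822045 : sm gg N62912 = N62519 := ded_36_2 (flp_d L817207) (flp_g L813265) L822041
theorem L822047 : sm gi N62912 = N62331 := ded_39_2 (flp_d L815446) (flp_i L813269) L822041
theorem L822049 : sm gc N62129 = N62913 := rfl
theorem L822051 : sm gg N62913 = N62520 := ded_30_2 (flp_c L817211) (flp_g L813275) L822049
theorem L822053 : sm gi N62913 = N62332 := ded_33_2 (flp_c L815450) (flp_i L813277) L822049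
theorem L822055 : sm gb N62913 = N62913 := ded_19_1 (flp_c L822049) L813273 L802092 (flp_b L813273) L822049
theorem L822056 : sm gd N62913 = N62618 := ded_27_2 (flp_c L817886) (flp_d L807997) (flp_c L802078) L813271 L822049
theorem L822058 : sm gh N62129 = N62914 := rfl
theorem L822060 : sm gb N62914 = N62130 := ded_25_1 (flp_h L813279) (flp_b L813273) L822058
theorem L822062 : sm gf N62914 = N62376 := ded_47_1 (flp_h L821088) L821082 L822058
theorem L822064 : sm gg N62914 = N62521 := ded_50_1 (flp_h L817216) (flp_g L813275) L822058
theorem L822066 : sm gd N62914 = N62156 := ded_38_1 (flp_h L813564) (flp_d L802407) (flp_h L802082) L813271 L822058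
theorem L822068 : sm gi N62130 = N62915 := rfl
theorem L822070 : sm gc N62915 = N62915 := ded_33_1 (flp_i L822068) L813281 L822068
theorem L822071 : sm gd N62915 = N62157 := ded_39_1 (flp_i L813572) (flp_d L813286) L822068
theorem L822073 : sm gf N62915 = N62337 := ded_48_1 L815494 (flp_f L813282) L822068
theorem L822075 : sm gg N62915 = N62522 := ded_51_1 (flp_i L817220) (flp_g L813284) L822068
theorem L822077 : sm gh N62915 = N62334 := ded_54_1 (flp_i L815461) (flp_h L804632) (flp_i L802090) L813279 L822068
theorem L822079 : sm ga N62131 = N62916 := rfl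
theorem L822081 : sm gc N62916 = N62548 := ded_11_2 (flp_a L817409) (flp_c L813302) L822079
theorem L822083 : sm gd N62916 = N62410 := ded_12_2 (flp_a L816232) (flp_d L813290) L822079
theorem L822085 : sm gf N62916 = N62247 := ded_14_2 (flp_a L814583) (flp_f L813292) L822079
theorem L822087 : sm gg N62916 = N62244 := ded_15_2 (flp_a L814538) (flp_g L813294) L822079
theorem L822089 : sm gj N62916 = N62144 := ded_16_2 (flp_a L813466) (flp_j L813296) L822079
theorem L822091 : sm gh N62916 = N62164 := ded_17_2 (flp_a L813655) (flp_h L813298) L822079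
theorem L822093 : sm gi N62916 = N62133 := ded_18_2 (flp_a L813318) (flp_i L813300) L822079
theorem L822095 : sm gb N62916 = N62335 := ded_10_2 (flp_a L815468) (flp_b L804655) (flp_a L802109) L813288 L822079
theorem L822097 : sm ge N62131 = N62917 := rfl
theorem L822099 : sm gb N62917 = N62132 := ded_21_1 (flp_e L813304) L813288 L822097
theorem L822101 : sm gc N62917 = N62549 := ded_28_1 (flp_e L817417) (flp_c L813302) L822097
theorem L822103 : sm gg N62917 = N62245 := ded_41_2 (flp_e L814554) (flp_g L813294) L822097
theorem L822105 : sm gj N62917 = N62145 := ded_42_2 (flp_e L813474) (flp_j L813296) L822097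
theorem L822107 : sm gh N62917 = N62165 := ded_43_2 (flp_e L813669) (flp_h L813298) L822097
theorem L822109 : sm gi N62917 = N62134 := ded_44_2 (flp_e L813332) (flp_i L813300) L822097
theorem L822111 : sm ge N62133 = N62918 := rfl
theorem L822113 : sm ga N62918 = N62134 := ded_13_1 (flp_e L813332) L813318 L822111
theorem L822115 : sm gb N62918 = N62375 := ded_21_1 (flp_e L815925) (flp_b L813330) L822111
theorem L822117 : sm gc N62918 = N62552 := ded_28_1 (flp_e L817442) (flp_c L813320) L822111
theorem L822119 : sm gg N62918 = N62260 := ded_41_2 (flp_e L814733) (flp_g L813324) L822111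
theorem L822121 : sm gj N62918 = N62148 := ded_42_2 (flp_e L813499) (flp_j L813326) L822111
theorem L822123 : sm gh N62918 = N62136 := ded_43_2 (flp_e L813355) (flp_h L813328) L822111
theorem L822125 : sm gd N62134 = N62919 := rfl
theorem L822127 : sm gb N62919 = N62135 := ded_20_1 (flp_d L813344) (flp_b L813334) L822125
theorem L822129 : sm gg N62919 = N62261 := ded_36_2 (flp_d L814741) (flp_g L813338) L822125
theorem L822131 : sm gj N62919 = N62149 := ded_37_2 (flp_d L813507) (flp_j L813340) L822125
theorem L822133 : sm gh N62919 = N62578 := ded_38_2 (flp_d L817626) (flp_h L811817) L811821 (flp_h L813342) L822125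
theorem L822135 : sm ge N62138 = N62920 := rfl
theorem L822137 : sm ga N62920 = N62139 := ded_13_1 (flp_e L813391) L813375 L822135
theorem L822139 : sm gb N62920 = N62560 := ded_21_1 (flp_e L817503) (flp_b L813389) L822135
theorem L822141 : sm gc N62920 = N62148 := ded_28_1 (flp_e L813499) (flp_c L813377) L822135
theorem L822143 : sm gg N62920 = N62222 := ded_41_2 (flp_e L814278) (flp_g L813383) L822135
theorem L822145 : sm gj N62920 = N62552 := ded_42_2 (flp_e L817442) (flp_j L813385) L822135
theorem L822147 : sm gh N62920 = N62142 := ded_43_2 (flp_e L813434) (flp_h L813387) L822135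
theorem L822149 : sm gd N62139 = N62921 := rfl
theorem L822151 : sm gb N62921 = N62140 := ded_20_1 (flp_d L813403) (flp_b L813393) L822149
theorem L822153 : sm gg N62921 = N62223 := ded_36_2 (flp_d L814290) (flp_g L813397) L822149
theorem L822155 : sm gj N62921 = N62553 := ded_37_2 (flp_d L817448) (flp_j L813399) L822149
theorem L822157 : sm ge N62921 = N62217 := ded_34_2 (flp_d L814211) (flp_e L803210) (flp_d L802204) L813391 L822149
theorem L822159 : sm gh N62921 = N62460 := ded_38_2 (flp_d L816677) L806129 (flp_d L802271) (flp_h L813401) L822149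
theorem L822161 : sm gf N62521 = N62921 := ded_22_0 L822151 (flp_f L813416) (flp_b L817218)
theorem L822163 : sm gf N62139 = N62922 := rfl
theorem L822165 : sm gb N62922 = N62141 := ded_22_1 (flp_f L813418) (flp_b L813393) L822163
theorem L822167 : sm gc N62922 = N62150 := ded_29_1 (flp_f L813513) (flp_c L813395) L822163
theorem L822169 : sm gd N62922 = N62521 := ded_35_1 L822161 (flp_d L822149) L822163
theorem L822171 : sm gj N62922 = N62554 := ded_46_2 (flp_f L817454) (flp_j L813399) L822163
theorem L822173 : sm gh N62922 = N62143 := ded_47_2 (flp_f L813450) (flp_h L813401) L822163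
theorem L822175 : sm ge N62922 = N62215 := ded_40_1 (flp_f L814191) (flp_e L803180) (flp_f L802206) L813391 L822163
theorem L822177 : sm gg N62922 = N62156 := ded_45_2 L813570 L805242 (flp_f L803343) (flp_g L813397) L822163
theorem L822179 : sm gf N62142 = N62923 := rfl
theorem L822181 : sm ga N62923 = N62143 := ded_14_1 (flp_f L813450) (flp_a L813436) L822179
theorem L822183 : sm gb N62923 = N62566 := ded_22_1 (flp_f L817547) (flp_b L813438) L822179
theorem L822185 : sm gc N62923 = N62153 := ded_29_1 (flp_f L813536) (flp_c L813440) L822179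
theorem L822187 : sm gd N62923 = N62154 := ded_35_1 L813556 (flp_d L813448) L822179
theorem L822189 : sm gj N62923 = N62555 := ded_46_2 (flp_f L817460) (flp_j L813444) L822179
theorem L822191 : sm gi N62923 = N62180 := ded_48_2 (flp_f L813860) (flp_i L813446) L822179
theorem L822193 : sm ge N62923 = N62547 := ded_40_1 (flp_f L817401) (flp_e L807244) (flp_f L802249) L813434 L822179
theorem L822195 : sm gg N62923 = N62155 := ded_45_2 (flp_f L821213) L821215 L813594 (flp_g L813442) L822179
theorem L822197 : sm ge N62144 = N62924 := rfl
theorem L822199 : sm ga N62924 = N62145 := ded_13_1 (flp_e L813474) L813466 L822197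
theorem L822201 : sm gg N62924 = N62570 := ded_41_2 (flp_e L817575) (flp_g L813468) L822197
theorem L822203 : sm gh N62924 = N62190 := ded_43_2 (flp_e L813933) (flp_h L813470) L822197
theorem L822205 : sm gi N62924 = N62148 := ded_44_2 (flp_e L813499) (flp_i L813472) L822197
theorem L822207 : sm gd N62145 = N62925 := rfl
theorem L822209 : sm gb N62925 = N62146 := ded_20_1 (flp_d L813484) (flp_b L813476) L822207
theorem L822211 : sm gg N62925 = N62571 := ded_36_2 (flp_d L817583) (flp_g L813478) L822207
theorem L822213 : sm gi N62925 = N62149 := ded_39_2 (flp_d L813507) (flp_i L813482) L822207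
theorem L822215 : sm gf N62145 = N62926 := rfl
theorem L822217 : sm gb N62926 = N62147 := ded_22_1 (flp_f L813491) (flp_b L813476) L822215
theorem L822219 : sm gh N62926 = N62192 := ded_47_2 (flp_f L813953) (flp_h L813480) L822215
theorem L822221 : sm gi N62926 = N62150 := ded_48_2 (flp_f L813513) (flp_i L813482) L822215
theorem L822223 : sm gf N62146 = N62927 := rfl
theorem L822225 : sm gc N62927 = N62927 := ded_29_1 (flp_f L822223) L813490 L822223
theorem L822226 : sm gd N62927 = N62147 := ded_35_1 (flp_f L813491) L813484 L822223
theorem L822228 : sm gi N62927 = N62151 := ded_48_2 (flp_f L813519) (flp_i L813488) L822223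
theorem L822230 : sm gd N62148 = N62928 := rfl
theorem L822232 : sm ga N62928 = N62149 := ded_12_1 (flp_d L813507) (flp_a L813501) L822230
theorem L822234 : sm gg N62928 = N62572 := ded_36_2 (flp_d L817589) (flp_g L813503) L822230
theorem L822236 : sm gf N62148 = N62929 := rfl
theorem L822238 : sm ga N62929 = N62150 := ded_14_1 (flp_f L813513) (flp_a L813501) L822236
theorem L822240 : sm gh N62929 = N62153 := ded_47_2 (flp_f L813536) (flp_h L813505) L822236
theorem L822242 : sm gc N62149 = N62930 := rfl
theorem L822244 : sm gg N62930 = N62573 := ded_30_2 (flp_c L817593) (flp_g L813511) L822242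
theorem L822246 : sm gb N62930 = N62930 := ded_19_1 (flp_c L822242) L813509 L802332 (flp_b L813509) L822242
theorem L822247 : sm gf N62149 = N62931 := rfl
theorem L822249 : sm gb N62931 = N62151 := ded_22_1 (flp_f L813519) (flp_b L813509) L822247
theorem L822251 : sm gd N62931 = N62150 := ded_35_1 (flp_f L813513) L813507 L822247
theorem L822253 : sm ge N62151 = N62932 := rfl
theorem L822255 : sm gc N62932 = N62932 := ded_28_1 (flp_e L822253) L813521 L822253
theorem L822256 : sm gg N62932 = N62387 := ded_41_2 (flp_e L820655) L820657 L822253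
theorem L822258 : sm gh N62932 = N62383 := ded_43_2 (flp_e L821167) L821161 L822253
theorem L822260 : sm gd N62932 = N62395 := ded_34_1 L816108 (flp_d L809290) L809296 (flp_d L813522) L822253
theorem L822262 : sm gh N62155 = N62933 := rfl
theorem L822264 : sm ga N62933 = N62156 := ded_17_1 (flp_h L813564) (flp_a L813560) L822262
theorem L822266 : sm ge N62933 = N62402 := ded_43_1 (flp_h L821659) L821663 L822262
theorem L822268 : sm gf N62933 = N62375 := ded_47_1 L821225 L821213 L822262
theorem L822270 : sm gi N62156 = N62934 := rfl
theorem L822272 : sm gb N62934 = N62157 := ded_26_1 (flp_i L813572) (flp_b L813566) L822270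
theorem L822274 : sm ge N62934 = N62347 := ded_44_1 L815610 (flp_e L813568) L822270
theorem L822276 : sm gf N62934 = N62336 := ded_48_1 L815488 (flp_f L813570) L822270
theorem L822278 : sm gh N62934 = N62208 := ded_54_1 (flp_i L814105) (flp_h L803008) (flp_i L802411) L813564 L822270
theorem L822280 : sm ga N62159 = N62935 := rfl
theorem L822282 : sm gc N62935 = N62556 := ded_11_2 (flp_a L817468) (flp_c L813610) L822280
theorem L822284 : sm gd N62935 = N62384 := ded_12_2 (flp_a L815997) (flp_d L813598) L822280
theorem L822286 : sm gf N62935 = N62164 := ded_14_2 (flp_a L813655) (flp_f L813600) L822280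
theorem L822288 : sm gg N62935 = N62230 := ded_15_2 (flp_a L814376) (flp_g L813602) L822280
theorem L822290 : sm gj N62935 = N62181 := ded_16_2 (flp_a L813872) (flp_j L813604) L822280
theorem L822292 : sm gh N62935 = N62247 := ded_17_2 (flp_a L814583) (flp_h L813606) L822280
theorem L822294 : sm gi N62935 = N62161 := ded_18_2 (flp_a L813626) (flp_i L813608) L822280
theorem L822296 : sm gb N62935 = N62289 := ded_10_2 (flp_a L815045) (flp_b L804262) (flp_a L802454) L813596 L822280
theorem L822298 : sm ge N62159 = N62936 := rfl
theorem L822300 : sm gb N62936 = N62160 := ded_21_1 (flp_e L813612) L813596 L822298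
theorem L822302 : sm gc N62936 = N62557 := ded_28_1 (flp_e L817478) (flp_c L813610) L822298
theorem L822304 : sm gg N62936 = N62231 := ded_41_2 (flp_e L814390) (flp_g L813602) L822298
theorem L822306 : sm gj N62936 = N62182 := ded_42_2 (flp_e L813880) (flp_j L813604) L822298
theorem L822308 : sm gh N62936 = N62248 := ded_43_2 (flp_e L814593) (flp_h L813606) L822298
theorem L822310 : sm gi N62936 = N62162 := ded_44_2 (flp_e L813638) (flp_i L813608) L822298
theorem L822312 : sm ge N62161 = N62937 := rfl
theorem L822314 : sm ga N62937 = N62162 := ded_13_1 (flp_e L813638) L813626 L822312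
theorem L822316 : sm gc N62937 = N62560 := ded_28_1 (flp_e L817503) (flp_c L813628) L822312
theorem L822318 : sm gj N62937 = N62185 := ded_42_2 (flp_e L813901) (flp_j L813634) L822312
theorem L822320 : sm gh N62937 = N62167 := ded_43_2 (flp_e L813691) (flp_h L813636) L822312
theorem L822322 : sm gd N62162 = N62938 := rfl
theorem L822324 : sm gb N62938 = N62163 := ded_20_1 (flp_d L813648) (flp_b L813640) L822322
theorem L822326 : sm gj N62938 = N62186 := ded_37_2 (flp_d L813907) (flp_j L813644) L822322
theorem L822328 : sm ge N62938 = N62386 := ded_34_2 (flp_d L816021) (flp_e L805348) (flp_d L802485) L813638 L822322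
theorem L822330 : sm ge N62164 = N62939 := rfl
theorem L822332 : sm ga N62939 = N62165 := ded_13_1 (flp_e L813669) L813655 L822330
theorem L822334 : sm gb N62939 = N62598 := ded_21_1 (flp_e L817754) (flp_b L813667) L822330
theorem L822336 : sm gc N62939 = N62563 := ded_28_1 (flp_e L817527) (flp_c L813657) L822330
theorem L822338 : sm gg N62939 = N62581 := ded_41_2 (flp_e L817645) (flp_g L813661) L822330
theorem L822340 : sm gj N62939 = N62190 := ded_42_2 (flp_e L813933) (flp_j L813663) L822330
theorem L822342 : sm gi N62939 = N62166 := ded_44_2 (flp_e L813681) (flp_i L813665) L822330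
theorem L822344 : sm ge N62169 = N62940 := rfl
theorem L822346 : sm ga N62940 = N62170 := ded_13_1 (flp_e L813729) L813715 L822344
theorem L822348 : sm gb N62940 = N62552 := ded_21_1 (flp_e L817442) (flp_b L813727) L822344
theorem L822350 : sm gc N62940 = N62185 := ded_28_1 (flp_e L813901) (flp_c L813717) L822344
theorem L822352 : sm gj N62940 = N62560 := ded_42_2 (flp_e L817503) (flp_j L813723) L822344
theorem L822354 : sm gh N62940 = N62178 := ded_43_2 (flp_e L813830) (flp_h L813725) L822344
theorem L822356 : sm gd N62170 = N62941 := rfl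
theorem L822358 : sm gb N62941 = N62171 := ded_20_1 (flp_d L813739) (flp_b L813731) L822356
theorem L822360 : sm gj N62941 = N62561 := ded_37_2 (flp_d L817509) (flp_j L813735) L822356
theorem L822362 : sm ge N62941 = N62583 := ded_34_2 (flp_d L817661) (flp_e L807660) (flp_d L802613) L813729 L822356
theorem L822364 : sm gh N62941 = N62569 := ded_38_2 (flp_d L817569) L807448 (flp_d L802746) (flp_h L813737) L822356
theorem L822366 : sm gf N62170 = N62942 := rfl
theorem L822368 : sm gb N62942 = N62172 := ded_22_1 (flp_f L813750) (flp_b L813731) L822366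
theorem L822370 : sm gc N62942 = N62187 := ded_29_1 (flp_f L813913) (flp_c L813733) L822366
theorem L822372 : sm gj N62942 = N62562 := ded_46_2 (flp_f L817519) (flp_j L813735) L822366
theorem L822374 : sm gh N62942 = N62179 := ded_47_2 (flp_f L813844) (flp_h L813737) L822366
theorem L822376 : sm ge N62942 = N62177 := ded_40_1 (flp_f L813816) (flp_e L802696) (flp_f L802615) L813729 L822366
theorem L822378 : sm gg N62942 = N62204 := ded_45_2 (flp_f L820593) L820585 (flp_f L819418) L819410 L822366
theorem L822380 : sm ge N62173 = N62943 := rfl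
theorem L822382 : sm ga N62943 = N62174 := ded_13_1 (flp_e L813776) L813764 L822380
theorem L822384 : sm gc N62943 = N62190 := ded_28_1 (flp_e L813933) (flp_c L813766) L822380
theorem L822386 : sm gg N62943 = N62227 := ded_41_2 (flp_e L814340) (flp_g L813770) L822380
theorem L822388 : sm gj N62943 = N62563 := ded_42_2 (flp_e L817527) (flp_j L813772) L822380
theorem L822390 : sm gi N62943 = N62176 := ded_44_2 (flp_e L813802) (flp_i L813774) L822380
theorem L822392 : sm gd N62943 = N62538 := ded_34_1 (flp_e L817344) (flp_d L812391) L812393 (flp_d L813768) L822380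
theorem L822394 : sm gf N62174 = N62944 := rfl
theorem L822396 : sm gb N62944 = N62175 := ded_22_1 (flp_f L813790) (flp_b L813778) L822394
theorem L822398 : sm gc N62944 = N62192 := ded_29_1 (flp_f L813953) (flp_c L813780) L822394
theorem L822400 : sm gd N62944 = N62445 := ded_35_1 L816537 (flp_d L813788) L822394
theorem L822402 : sm gj N62944 = N62564 := ded_46_2 (flp_f L817535) (flp_j L813784) L822394
theorem L822404 : sm gi N62944 = N62177 := ded_48_2 (flp_f L813816) (flp_i L813786) L822394
theorem L822406 : sm gg N62944 = N62208 := ded_45_2 L814111 (flp_g L811129) L811139 (flp_g L813782) L822394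
theorem L822408 : sm gf N62176 = N62945 := rfl
theorem L822410 : sm ga N62945 = N62177 := ded_14_1 (flp_f L813816) (flp_a L813804) L822408
theorem L822412 : sm gc N62945 = N62196 := ded_29_1 (flp_f L813995) (flp_c L813806) L822408
theorem L822414 : sm gd N62945 = N62444 := ded_35_1 L816527 (flp_d L813814) L822408
theorem L822416 : sm gj N62945 = N62565 := ded_46_2 (flp_f L817541) (flp_j L813810) L822408
theorem L822418 : sm gh N62945 = N62180 := ded_47_2 (flp_f L813860) (flp_h L813812) L822408
theorem L822420 : sm gg N62945 = N62207 := ded_45_2 L820784 L820774 L811681 (flp_g L813808) L822408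
theorem L822422 : sm gf N62178 = N62946 := rfl
theorem L822424 : sm ga N62946 = N62179 := ded_14_1 (flp_f L813844) (flp_a L813832) L822422
theorem L822426 : sm gb N62946 = N62555 := ded_22_1 (flp_f L817460) (flp_b L813834) L822422
theorem L822428 : sm gc N62946 = N62203 := ded_29_1 (flp_f L814069) (flp_c L813836) L822422
theorem L822430 : sm gd N62946 = N62201 := ded_35_1 L814061 (flp_d L813842) L822422
theorem L822432 : sm gj N62946 = N62566 := ded_46_2 (flp_f L817547) (flp_j L813838) L822422
theorem L822434 : sm gi N62946 = N62547 := ded_48_2 (flp_f L817401) (flp_i L813840) L822422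
theorem L822436 : sm ge N62946 = N62180 := ded_40_1 (flp_f L813860) (flp_e L802764) (flp_f L802728) L813830 L822422
theorem L822438 : sm gg N62946 = N62202 := ded_45_2 (flp_f L821514) L821506 (flp_f L820888) L820880 L822422
theorem L822440 : sm ge N62181 = N62947 := rfl
theorem L822442 : sm ga N62947 = N62182 := ded_13_1 (flp_e L813880) L813872 L822440
theorem L822444 : sm gi N62947 = N62185 := ded_44_2 (flp_e L813901) (flp_i L813878) L822440
theorem L822446 : sm gd N62182 = N62948 := rfl
theorem L822448 : sm gb N62948 = N62183 := ded_20_1 (flp_d L813886) (flp_b L813882) L822446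
theorem L822450 : sm gi N62948 = N62186 := ded_39_2 (flp_d L813907) (flp_i L813884) L822446
theorem L822452 : sm ge N62948 = N62426 := ded_34_2 (flp_d L816369) (flp_e L805687) (flp_d L802790) L813880 L822446
theorem L822454 : sm gf N62182 = N62949 := rfl
theorem L822456 : sm gb N62949 = N62184 := ded_22_1 (flp_f L813893) (flp_b L813882) L822454
theorem L822458 : sm gi N62949 = N62187 := ded_48_2 (flp_f L813913) (flp_i L813884) L822454
theorem L822460 : sm ge N62949 = N62192 := ded_40_1 (flp_f L813953) (flp_e L802844) (flp_f L802792) L813880 L822454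
theorem L822462 : sm gf N62183 = N62950 := rfl
theorem L822464 : sm gc N62950 = N62950 := ded_29_1 (flp_f L822462) L813890 L822462
theorem L822465 : sm gd N62950 = N62184 := ded_35_1 (flp_f L813893) L813886 L822462
theorem L822467 : sm gi N62950 = N62188 := ded_48_2 (flp_f L813921) (flp_i L813888) L822462
theorem L822469 : sm gh N62183 = N62951 := rfl
theorem L822471 : sm gc N62951 = N62951 := ded_32_1 (flp_h L822469) L813890 L822469
theorem L822472 : sm ge N62951 = N62427 := ded_43_1 (flp_h L816375) (flp_e L813891) L822469
theorem L822474 : sm gd N62185 = N62952 := rfl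
theorem L822476 : sm ga N62952 = N62186 := ded_12_1 (flp_d L813907) (flp_a L813903) L822474
theorem L822478 : sm ge N62952 = N62428 := ded_34_2 (flp_d L816378) (flp_e L805698) (flp_d L802811) L813901 L822474
theorem L822480 : sm gf N62185 = N62953 := rfl
theorem L822482 : sm ga N62953 = N62187 := ded_14_1 (flp_f L813913) (flp_a L813903) L822480
theorem L822484 : sm gh N62953 = N62203 := ded_47_2 (flp_f L814069) (flp_h L813905) L822480
theorem L822486 : sm ge N62953 = N62196 := ded_40_1 (flp_f L813995) (flp_e L802882) (flp_f L802813) L813901 L822480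
theorem L822488 : sm gc N62186 = N62954 := rfl
theorem L822490 : sm ge N62954 = N62430 := ded_28_2 (flp_c L816394) (flp_e L813911) L822488
theorem L822492 : sm gb N62954 = N62954 := ded_19_1 (flp_c L822488) L813909 L802825 (flp_b L813909) L822488
theorem L822493 : sm gf N62186 = N62955 := rfl
theorem L822495 : sm gb N62955 = N62188 := ded_22_1 (flp_f L813921) (flp_b L813909) L822493
theorem L822497 : sm gd N62955 = N62187 := ded_35_1 (flp_f L813913) L813907 L822493
theorem L822499 : sm gh N62186 = N62956 := rfl
theorem L822501 : sm gb N62956 = N62189 := ded_25_1 (flp_h L813926) (flp_b L813909) L822499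
theorem L822503 : sm ge N62956 = N62432 := ded_43_1 (flp_h L816405) (flp_e L813911) L822499
theorem L822505 : sm gd N62956 = N62204 := ded_38_1 (flp_h L814075) (flp_d L802952) (flp_h L802821) L813907 L822499
theorem L822507 : sm ge N62188 = N62957 := rfl
theorem L822509 : sm ga N62957 = N62387 := ded_13_1 (flp_e L820655) L820648 L822507
theorem L822511 : sm gc N62957 = N62957 := ded_28_1 (flp_e L822507) L813923 L822507
theorem L822512 : sm gj N62957 = N62280 := ded_42_2 (flp_e L820666) L820672 L822507
theorem L822514 : sm gh N62957 = N62264 := ded_43_2 (flp_e L820608) L820610 L822507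
theorem L822516 : sm gd N62957 = N62199 := ded_34_1 (flp_e L814025) L802914 (flp_e L802834) (flp_d L813924) L822507
theorem L822518 : sm gf N62957 = N62433 := ded_40_2 (flp_e L816413) (flp_f L805718) (flp_e L802826) L813921 L822507
theorem L822520 : sm gi N62189 = N62958 := rfl
theorem L822522 : sm gc N62958 = N62958 := ded_33_1 (flp_i L822520) L813928 L822520
theorem L822523 : sm gd N62958 = N62205 := ded_39_1 (flp_i L814081) (flp_d L813931) L822520
theorem L822525 : sm ge N62958 = N62434 := ded_44_1 (flp_i L816424) (flp_e L813929) L822520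
theorem L822527 : sm gf N62958 = N62291 := ded_48_1 (flp_i L820605) L820599 L822520
theorem L822529 : sm gd N62190 = N62959 := rfl
theorem L822531 : sm ga N62959 = N62191 := ded_12_1 (flp_d L813941) (flp_a L813935) L822529
theorem L822533 : sm gb N62959 = N62593 := ded_20_1 (flp_d L820349) L820339 L822529
theorem L822535 : sm gg N62959 = N62503 := ded_36_2 L817103 (flp_g L813937) L822529
theorem L822537 : sm gi N62959 = N62195 := ded_39_2 (flp_d L813981) (flp_i L813939) L822529
theorem L822539 : sm gc N62959 = N62498 := ded_27_1 L817056 (flp_c L817348) (flp_d L822392) L822384 L822529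
theorem L822541 : sm ge N62959 = N62435 := ded_34_2 (flp_d L816431) (flp_e L805734) (flp_d L802838) L813933 L822529
theorem L822543 : sm gf N62190 = N62960 := rfl
theorem L822545 : sm ga N62960 = N62192 := ded_14_1 (flp_f L813953) (flp_a L813935) L822543
theorem L822547 : sm gi N62960 = N62196 := ded_48_2 (flp_f L813995) (flp_i L813939) L822543
theorem L822549 : sm gf N62191 = N62961 := rfl
theorem L822551 : sm gb N62961 = N62193 := ded_22_1 (flp_f L813959) (flp_b L813943) L822549
theorem L822553 : sm gc N62961 = N62499 := ded_29_1 (flp_f L817058) (flp_c L813949) L822549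
theorem L822555 : sm gd N62961 = N62192 := ded_35_1 (flp_f L813953) L813941 L822549
theorem L822557 : sm gj N62961 = N62284 := ded_46_2 L819043 L819035 L822549
theorem L822559 : sm gi N62961 = N62197 := ded_48_2 (flp_f L814001) (flp_i L813947) L822549
theorem L822561 : sm gg N62192 = N62962 := rfl
theorem L822563 : sm gb N62962 = N62194 := ded_23_1 (flp_g L813971) (flp_b L813955) L822561
theorem L822565 : sm gc N62962 = N62208 := ded_30_1 (flp_g L822406) L822398 L822561
theorem L822567 : sm gi N62962 = N62198 := ded_51_2 (flp_g L814013) (flp_i L813957) L822561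
theorem L822569 : sm gf N62962 = N62343 := ded_45_1 L815570 L804920 (flp_g L802848) L813953 L822561
theorem L822571 : sm gj N62347 = N62962 := ded_24_0 L822563 (flp_j L813979) (flp_b L815608)
theorem L822573 : sm gf N62195 = N62963 := rfl
theorem L822575 : sm ga N62963 = N62197 := ded_14_1 (flp_f L814001) (flp_a L813983) L822573
theorem L822577 : sm gb N62963 = N62407 := ded_22_1 L816210 (flp_b L813985) L822573
theorem L822579 : sm gc N62963 = N62518 := ded_29_1 (flp_f L817201) (flp_c L813989) L822573
theorem L822581 : sm gd N62963 = N62196 := ded_35_1 (flp_f L813995) L813981 L822573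
theorem L822583 : sm gj N62963 = N62283 := ded_46_2 L819061 L819055 L822573
theorem L822585 : sm gh N62963 = N62273 := ded_47_2 L814878 (flp_h L813993) L822573
theorem L822587 : sm gg N62196 = N62964 := rfl
theorem L822589 : sm ga N62964 = N62198 := ded_15_1 (flp_g L814013) (flp_a L813997) L822587
theorem L822591 : sm gc N62964 = N62207 := ded_30_1 (flp_g L822420) L822412 L822587
theorem L822593 : sm gh N62964 = N62206 := ded_50_2 (flp_g L814091) (flp_h L813999) L822587
theorem L822595 : sm gf N62964 = N62399 := ded_45_1 L816150 L805890 (flp_g L802886) L813995 L822587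
theorem L822597 : sm gj N62402 = N62964 := ded_16_0 L822589 (flp_j L814023) (flp_a L816174)
theorem L822599 : sm ge N62197 = N62965 := rfl
theorem L822601 : sm gb N62965 = N62199 := ded_21_1 (flp_e L814025) (flp_b L814003) L822599
theorem L822603 : sm gc N62965 = N62517 := ded_28_1 L817199 (flp_c L814005) L822599
theorem L822605 : sm gj N62965 = N62282 := ded_42_2 L814978 (flp_j L814009) L822599
theorem L822607 : sm gh N62965 = N62269 := ded_43_2 L814848 (flp_h L814011) L822599
theorem L822609 : sm gf N62965 = N62437 := ded_40_2 (flp_e L816457) (flp_f L805780) (flp_e L802898) L814001 L822599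
theorem L822611 : sm gg N62197 = N62966 := rfl
theorem L822613 : sm gb N62966 = N62200 := ded_23_1 (flp_g L814037) (flp_b L814003) L822611
theorem L822615 : sm gc N62966 = N62449 := ded_30_1 L816571 (flp_c L814005) L822611
theorem L822617 : sm gd N62966 = N62198 := ded_36_1 (flp_g L814013) (flp_d L814007) L822611
theorem L822619 : sm gh N62966 = N62271 := ded_50_2 L814862 (flp_h L814011) L822611
theorem L822621 : sm gf N62966 = N62400 := ded_45_1 L816160 L805896 (flp_g L802894) L814001 L822611
theorem L822623 : sm gj N62966 = N62327 := ded_49_2 (flp_g L815409) (flp_j L809704) L809702 (flp_j L814009) L822611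
theorem L822625 : sm gg N62199 = N62967 := rfl
theorem L822627 : sm ga N62967 = N62395 := ded_15_1 L816110 (flp_a L814027) L822625
theorem L822629 : sm gc N62967 = N62209 := ded_30_1 L814119 (flp_c L814029) L822625
theorem L822631 : sm ge N62967 = N62200 := ded_41_1 (flp_g L814037) L814025 L822625
theorem L822633 : sm gh N62967 = N62267 := ded_50_2 L814816 (flp_h L814033) L822625
theorem L822635 : sm gj N62967 = N62325 := ded_49_2 (flp_g L815399) (flp_j L809658) L809656 (flp_j L814031) L822625
theorem L822637 : sm gh N62202 = N62968 := rfl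
theorem L822639 : sm ga N62968 = N62204 := ded_17_1 (flp_h L814075) (flp_a L814065) L822637
theorem L822641 : sm ge N62968 = N62207 := ded_43_1 (flp_h L814099) (flp_e L814067) L822637
theorem L822643 : sm gi N62204 = N62969 := rfl
theorem L822645 : sm gb N62969 = N62205 := ded_26_1 (flp_i L814081) (flp_b L814077) L822643
theorem L822647 : sm ge N62969 = N62208 := ded_44_1 (flp_i L814105) (flp_e L814079) L822643
theorem L822649 : sm gf N62969 = N62290 := ded_48_1 (flp_i L820591) L820593 L822643
theorem L822651 : sm gh N62969 = N62347 := ded_54_1 L815610 (flp_h L812840) L812842 L814075 L822643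
theorem L822653 : sm gi N62207 = N62970 := rfl
theorem L822655 : sm ga N62970 = N62208 := ded_18_1 (flp_i L814105) (flp_a L814101) L822653
theorem L822657 : sm gd N62970 = N62448 := ded_39_1 (flp_i L816561) (flp_d L814103) L822653
theorem L822659 : sm gf N62970 = N62598 := ded_48_1 (flp_i L820780) (flp_f L820784) L822653
theorem L822661 : sm ge N62211 = N62971 := rfl
theorem L822663 : sm ga N62971 = N62212 := ded_13_1 (flp_e L814156) L814144 L822661
theorem L822665 : sm gb N62971 = N62582 := ded_21_1 (flp_e L817653) (flp_b L814154) L822661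
theorem L822667 : sm gj N62971 = N62216 := ded_42_2 (flp_e L814201) (flp_j L814150) L822661
theorem L822669 : sm gh N62971 = N62221 := ded_43_2 (flp_e L814264) (flp_h L814152) L822661
theorem L822671 : sm gf N62971 = N62292 := ded_40_2 (flp_e L815070) L804282 (flp_e L803162) (flp_f L814148) L822661
theorem L822673 : sm gd N62212 = N62972 := rfl
theorem L822675 : sm gb N62972 = N62213 := ded_20_1 (flp_d L814166) (flp_b L814158) L822673
theorem L822677 : sm gf N62972 = N62293 := ded_35_2 (flp_d L815078) (flp_f L814164) L822673
theorem L822679 : sm gj N62972 = N62217 := ded_37_2 (flp_d L814211) (flp_j L814160) L822673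
theorem L822681 : sm ge N62972 = N62553 := ded_34_2 (flp_d L817448) (flp_e L807287) (flp_d L803140) L814156 L822673
theorem L822683 : sm gh N62972 = N62528 := ded_38_2 (flp_d L817272) L806990 (flp_d L803289) (flp_h L814162) L822673
theorem L822685 : sm gf N62214 = N62973 := rfl
theorem L822687 : sm ga N62973 = N62215 := ded_14_1 (flp_f L814191) (flp_a L814181) L822685
theorem L822689 : sm gb N62973 = N62565 := ded_22_1 (flp_f L817541) (flp_b L814183) L822685
theorem L822691 : sm gd N62973 = N62326 := ded_35_1 (flp_f L815405) (flp_d L814189) L822685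
theorem L822693 : sm gh N62973 = N62547 := ded_47_2 (flp_f L817401) (flp_h L814187) L822685
theorem L822695 : sm gg N62973 = N62402 := ded_45_2 (flp_f L816172) L805493 (flp_f L803364) (flp_g L814185) L822685
theorem L822697 : sm gd N62216 = N62974 := rfl
theorem L822699 : sm ga N62974 = N62217 := ded_12_1 (flp_d L814211) (flp_a L814203) L822697
theorem L822701 : sm gb N62974 = N62586 := ded_20_1 (flp_d L817685) (flp_b L814205) L822697
theorem L822703 : sm gf N62974 = N62331 := ded_35_2 (flp_d L815446) (flp_f L814209) L822697
theorem L822705 : sm gh N62974 = N62543 := ded_38_2 (flp_d L817382) L807202 (flp_d L803301) (flp_h L814207) L822697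
theorem L822707 : sm gc N62217 = N62975 := rfl
theorem L822709 : sm gf N62975 = N62332 := ded_29_2 (flp_c L815450) (flp_f L814215) L822707
theorem L822711 : sm gh N62975 = N62544 := ded_32_2 (flp_c L817386) (flp_h L814217) L822707
theorem L822713 : sm gb N62975 = N62975 := ded_19_1 (flp_c L822707) L814213 L803224 (flp_b L814213) L822707
theorem L822714 : sm ge N62218 = N62976 := rfl
theorem L822716 : sm ga N62976 = N62219 := ded_13_1 (flp_e L814235) L814219 L822714
theorem L822718 : sm gb N62976 = N62575 := ded_21_1 (flp_e L817604) (flp_b L814233) L822714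
theorem L822720 : sm gc N62976 = N62570 := ded_28_1 (flp_e L817575) (flp_c L814221) L822714
theorem L822722 : sm gj N62976 = N62228 := ded_42_2 (flp_e L814350) (flp_j L814227) L822714
theorem L822724 : sm gh N62976 = N62227 := ded_43_2 (flp_e L814340) (flp_h L814229) L822714
theorem L822726 : sm gi N62976 = N62222 := ded_44_2 (flp_e L814278) (flp_i L814231) L822714
theorem L822728 : sm gf N62976 = N62338 := ded_40_2 (flp_e L815501) L804679 (flp_e L803259) (flp_f L814225) L822714
theorem L822730 : sm gd N62219 = N62977 := rfl
theorem L822732 : sm gb N62977 = N62220 := ded_20_1 (flp_d L814249) (flp_b L814237) L822730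
theorem L822734 : sm gf N62977 = N62339 := ded_35_2 (flp_d L815509) (flp_f L814247) L822730
theorem L822736 : sm gj N62977 = N62229 := ded_37_2 (flp_d L814362) (flp_j L814241) L822730
theorem L822738 : sm gi N62977 = N62223 := ded_39_2 (flp_d L814290) (flp_i L814245) L822730
theorem L822740 : sm ge N62977 = N62379 := ded_34_2 L815956 (flp_e L807572) (flp_d L803229) L814235 L822730
theorem L822742 : sm gh N62977 = N62372 := ded_38_2 (flp_d L815883) (flp_h L811547) L811551 (flp_h L814243) L822730
theorem L822744 : sm gd N62222 = N62978 := rfl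
theorem L822746 : sm ga N62978 = N62223 := ded_12_1 (flp_d L814290) (flp_a L814280) L822744
theorem L822748 : sm gb N62978 = N62620 := ded_20_1 L821261 L821249 L822744
theorem L822750 : sm gf N62978 = N62377 := ded_35_2 (flp_d L815937) (flp_f L814288) L822744
theorem L822752 : sm gj N62978 = N62579 := ded_37_2 (flp_d L817634) (flp_j L814284) L822744
theorem L822754 : sm gh N62978 = N62588 := ded_38_2 (flp_d L817692) (flp_h L816697) L816701 (flp_h L814286) L822744
theorem L822756 : sm gc N62223 = N62979 := rfl
theorem L822758 : sm gf N62979 = N62378 := ded_29_2 (flp_c L815943) (flp_f L814294) L822756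
theorem L822760 : sm gj N62979 = N62580 := ded_31_2 (flp_c L817640) (flp_j L814296) L822756
theorem L822762 : sm gh N62979 = N62589 := ded_32_2 (flp_c L817698) (flp_h L814298) L822756
theorem L822764 : sm gb N62979 = N62979 := ded_19_1 (flp_c L822756) L814292 L803353 (flp_b L814292) L822756
theorem L822765 : sm gd N62979 = N62573 := ded_27_2 (flp_c L817593) (flp_d L807504) (flp_c L803337) L814290 L822756
theorem L822767 : sm gi N62225 = N62980 := rfl
theorem L822769 : sm ga N62980 = N62226 := ded_18_1 (flp_i L814322) (flp_a L814314) L822767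
theorem L822771 : sm gc N62980 = N62391 := ded_33_1 (flp_i L820854) L820846 L822767
theorem L822773 : sm gd N62980 = N62598 := ded_39_1 (flp_i L820780) L820782 L822767
theorem L822775 : sm ge N62980 = N62274 := ded_44_1 L814896 (flp_e L814316) L822767
theorem L822777 : sm gf N62980 = N62448 := ded_48_1 (flp_i L816561) (flp_f L814318) L822767
theorem L822779 : sm gg N62980 = N62380 := ded_51_1 (flp_i L820726) L820720 L822767
theorem L822781 : sm gj N62980 = N62593 := ded_53_1 L817727 (flp_j L814320) L822767
theorem L822783 : sm gh N62980 = N62541 := ded_54_1 L817374 L807202 (flp_i L803404) L814312 L822767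
theorem L822785 : sm gd N62228 = N62981 := rfl
theorem L822787 : sm ga N62981 = N62229 := ded_12_1 (flp_d L814362) (flp_a L814352) L822785
theorem L822789 : sm gf N62981 = N62596 := ded_35_2 (flp_d L817743) (flp_f L814360) L822785
theorem L822791 : sm gg N62981 = N62586 := ded_36_2 (flp_d L817685) (flp_g L814354) L822785
theorem L822793 : sm gi N62981 = N62579 := ded_39_2 (flp_d L817634) (flp_i L814358) L822785
theorem L822795 : sm ge N62981 = N62620 := ded_34_2 L821261 (flp_e L821245) L812345 L814350 L822785
theorem L822797 : sm gh N62981 = N62615 := ded_38_2 (flp_d L817869) (flp_h L814136) L814140 (flp_h L814356) L822785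
theorem L822799 : sm gc N62229 = N62982 := rfl
theorem L822801 : sm ge N62982 = N62621 := ded_28_2 L817902 (flp_e L814372) L822799
theorem L822803 : sm gf N62982 = N62597 := ded_29_2 (flp_c L817749) (flp_f L814366) L822799
theorem L822805 : sm gg N62982 = N62587 := ded_30_2 (flp_c L817689) (flp_g L814368) L822799
theorem L822807 : sm gh N62982 = N62616 := ded_32_2 (flp_c L817875) (flp_h L814374) L822799
theorem L822809 : sm gi N62982 = N62580 := ded_33_2 (flp_c L817640) (flp_i L814370) L822799
theorem L822811 : sm gb N62982 = N62982 := ded_19_1 (flp_c L822799) L814364 L803510 (flp_b L814364) L822799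
theorem L822812 : sm ge N62230 = N62983 := rfl
theorem L822814 : sm ga N62983 = N62231 := ded_13_1 (flp_e L814390) L814376 L822812
theorem L822816 : sm gb N62983 = N62292 := ded_21_1 (flp_e L815070) (flp_b L814388) L822812
theorem L822818 : sm gc N62983 = N62575 := ded_28_1 (flp_e L817604) (flp_c L814378) L822812
theorem L822820 : sm gj N62983 = N62241 := ded_42_2 (flp_e L814513) (flp_j L814384) L822812
theorem L822822 : sm gh N62983 = N62251 := ded_43_2 (flp_e L814623) (flp_h L814386) L822812
theorem L822824 : sm gf N62983 = N62582 := ded_40_2 (flp_e L817653) L807654 (flp_e L803551) (flp_f L814382) L822812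
theorem L822826 : sm gd N62231 = N62984 := rfl
theorem L822828 : sm gb N62984 = N62232 := ded_20_1 (flp_d L814402) (flp_b L814392) L822826
theorem L822830 : sm gf N62984 = N62583 := ded_35_2 (flp_d L817661) (flp_f L814400) L822826
theorem L822832 : sm gj N62984 = N62242 := ded_37_2 (flp_d L814523) (flp_j L814396) L822826
theorem L822834 : sm ge N62984 = N62537 := ded_34_2 (flp_d L817340) (flp_e L807099) (flp_d L803523) L814390 L822826
theorem L822836 : sm gh N62232 = N62985 := rfl
theorem L822838 : sm ga N62985 = N62294 := ded_17_1 (flp_h L815084) (flp_a L814404) L822836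
theorem L822840 : sm gc N62985 = N62985 := ded_32_1 (flp_h L822836) L814410 L822836
theorem L822841 : sm ge N62985 = N62424 := ded_43_1 L816361 (flp_e L814411) L822836
theorem L822843 : sm gf N62985 = N62476 := ded_47_1 L816847 (flp_f L814406) L822836
theorem L822845 : sm gj N62985 = N62243 := ded_52_1 (flp_h L814529) (flp_j L814408) L822836
theorem L822847 : sm gd N62985 = N62253 := ded_38_1 (flp_h L814647) (flp_d L803769) (flp_h L803541) L814402 L822836
theorem L822849 : sm ge N62233 = N62986 := rfl
theorem L822851 : sm ga N62986 = N62234 := ded_13_1 (flp_e L814427) L814413 L822849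
theorem L822853 : sm gb N62986 = N62320 := ded_21_1 (flp_e L815365) (flp_b L814425) L822849
theorem L822855 : sm gc N62986 = N62527 := ded_28_1 (flp_e L817264) (flp_c L814415) L822849
theorem L822857 : sm gj N62986 = N62536 := ded_42_2 (flp_e L817332) (flp_j L814421) L822849
theorem L822859 : sm gh N62986 = N62523 := ded_43_2 (flp_e L817223) (flp_h L814423) L822849
theorem L822861 : sm gd N62234 = N62987 := rfl
theorem L822863 : sm gb N62987 = N62235 := ded_20_1 (flp_d L814437) (flp_b L814429) L822861
theorem L822865 : sm gj N62987 = N62537 := ded_37_2 (flp_d L817340) (flp_j L814433) L822861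
theorem L822867 : sm ge N62987 = N62242 := ded_34_2 (flp_d L814523) (flp_e L803658) (flp_d L803563) L814427 L822861
theorem L822869 : sm gf N62234 = N62988 := rfl
theorem L822871 : sm gb N62988 = N62236 := ded_22_1 (flp_f L814446) (flp_b L814429) L822869
theorem L822873 : sm gc N62988 = N62351 := ded_29_1 L815652 (flp_c L814431) L822869
theorem L822875 : sm gj N62988 = N62362 := ded_46_2 L815786 (flp_j L814433) L822869
theorem L822877 : sm gh N62988 = N62350 := ded_47_2 L815636 (flp_h L814435) L822869
theorem L822879 : sm ge N62988 = N62239 := ded_40_1 (flp_f L814487) (flp_e L803610) (flp_f L803565) L814427 L822869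
theorem L822881 : sm gf N62235 = N62989 := rfl
theorem L822883 : sm ga N62989 = N62323 := ded_14_1 (flp_f L815381) (flp_a L814439) L822881
theorem L822885 : sm gc N62989 = N62989 := ded_29_1 (flp_f L822881) L814443 L822881
theorem L822886 : sm gd N62989 = N62236 := ded_35_1 (flp_f L814446) L814437 L822881
theorem L822888 : sm gj N62989 = N62366 := ded_46_2 L815823 (flp_j L814441) L822881
theorem L822890 : sm ge N62989 = N62471 := ded_40_1 L816796 L807364 (flp_f L803670) (flp_e L814444) L822881
theorem L822892 : sm gh N62415 = N62989 := ded_17_0 L822883 (flp_h L815388) (flp_a L816284)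
theorem L822894 : sm gh N62235 = N62990 := rfl
theorem L822896 : sm ga N62990 = N62324 := ded_17_1 (flp_h L815390) (flp_a L814439) L822894
theorem L822898 : sm gc N62990 = N62990 := ded_32_1 (flp_h L822894) L814443 L822894
theorem L822899 : sm ge N62990 = N62243 := ded_43_1 (flp_h L814529) (flp_e L814444) L822894
theorem L822901 : sm gf N62990 = N62415 := ded_47_1 L822892 (flp_f L822881) L822894
theorem L822903 : sm gj N62990 = N62424 := ded_52_1 L816361 (flp_j L814441) L822894
theorem L822905 : sm gd N62990 = N62416 := ded_38_1 L816299 L805820 (flp_h L803581) L814437 L822894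
theorem L822907 : sm gg N62236 = N62991 := rfl
theorem L822909 : sm ga N62991 = N62325 := ded_15_1 (flp_g L815399) (flp_a L814448) L822907
theorem L822911 : sm gc N62991 = N62237 := ded_30_1 (flp_g L814458) (flp_c L814450) L822907
theorem L822913 : sm ge N62991 = N62240 := ded_41_1 (flp_g L814499) (flp_e L814456) L822907
theorem L822915 : sm gh N62991 = N62364 := ded_50_2 L815804 (flp_h L814454) L822907
theorem L822917 : sm gj N62991 = N62395 := ded_49_2 L816110 L805463 (flp_g L805094) (flp_j L814452) L822907
theorem L822919 : sm gf N62238 = N62992 := rfl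
theorem L822921 : sm ga N62992 = N62239 := ded_14_1 (flp_f L814487) (flp_a L814473) L822919
theorem L822923 : sm gb N62992 = N62326 := ded_22_1 (flp_f L815405) (flp_b L814475) L822919
theorem L822925 : sm gc N62992 = N62532 := ded_29_1 (flp_f L817302) (flp_c L814477) L822919
theorem L822927 : sm gd N62992 = N62565 := ded_35_1 (flp_f L817541) (flp_d L814485) L822919
theorem L822929 : sm gj N62992 = N62444 := ded_46_2 L816527 (flp_j L814481) L822919
theorem L822931 : sm gh N62992 = N62443 := ded_47_2 L816515 (flp_h L814483) L822919
theorem L822933 : sm gg N62239 = N62993 := rfl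
theorem L822935 : sm gb N62993 = N62240 := ded_23_1 (flp_g L814499) (flp_b L814489) L822933
theorem L822937 : sm gc N62993 = N62533 := ded_30_1 (flp_g L817310) (flp_c L814491) L822933
theorem L822939 : sm gd N62993 = N62272 := ded_36_1 L814870 (flp_d L814493) L822933
theorem L822941 : sm gh N62993 = N62400 := ded_50_2 L816160 (flp_h L814497) L822933
theorem L822943 : sm gf N62993 = N62271 := ded_45_1 L814862 L804045 (flp_g L803616) L814487 L822933
theorem L822945 : sm gj N62993 = N62404 := ded_49_2 L816190 L805533 (flp_g L805920) (flp_j L814495) L822933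
theorem L822947 : sm gd N62241 = N62994 := rfl
theorem L822949 : sm ga N62994 = N62242 := ded_12_1 (flp_d L814523) (flp_a L814515) L822947
theorem L822951 : sm gb N62994 = N62331 := ded_20_1 (flp_d L815446) (flp_b L814517) L822947
theorem L822953 : sm gf N62994 = N62586 := ded_35_2 (flp_d L817685) (flp_f L814521) L822947
theorem L822955 : sm gc N62242 = N62995 := rfl
theorem L822957 : sm gf N62995 = N62587 := ded_29_2 (flp_c L817689) (flp_f L814527) L822955
theorem L822959 : sm gb N62995 = N62995 := ded_19_1 (flp_c L822955) L814525 L803672 (flp_b L814525) L822955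
theorem L822960 : sm gh N62242 = N62996 := rfl
theorem L822962 : sm gb N62996 = N62243 := ded_25_1 (flp_h L814529) (flp_b L814525) L822960
theorem L822964 : sm gf N62996 = N62488 := ded_47_1 L816967 (flp_f L814527) L822960
theorem L822966 : sm gd N62996 = N62255 := ded_38_1 (flp_h L814671) (flp_d L803793) (flp_h L803662) L814523 L822960
theorem L822968 : sm ge N62244 = N62997 := rfl
theorem L822970 : sm ga N62997 = N62245 := ded_13_1 (flp_e L814554) L814538 L822968
theorem L822972 : sm gb N62997 = N62338 := ded_21_1 (flp_e L815501) (flp_b L814552) L822968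
theorem L822974 : sm gc N62997 = N62582 := ded_28_1 (flp_e L817653) (flp_c L814540) L822968
theorem L822976 : sm gj N62997 = N62584 := ded_42_2 (flp_e L817667) (flp_j L814546) L822968
theorem L822978 : sm gh N62997 = N62581 := ded_43_2 (flp_e L817645) (flp_h L814548) L822968
theorem L822980 : sm gi N62997 = N62260 := ded_44_2 (flp_e L814733) (flp_i L814550) L822968
theorem L822982 : sm gf N62997 = N62575 := ded_40_2 (flp_e L817604) L807582 (flp_e L803707) (flp_f L814544) L822968
theorem L822984 : sm gd N62245 = N62998 := rfl
theorem L822986 : sm gb N62998 = N62246 := ded_20_1 (flp_d L814568) (flp_b L814556) L822984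
theorem L822988 : sm gf N62998 = N62576 := ded_35_2 (flp_d L817608) (flp_f L814566) L822984
theorem L822990 : sm gj N62998 = N62585 := ded_37_2 (flp_d L817679) (flp_j L814560) L822984
theorem L822992 : sm gi N62998 = N62261 := ded_39_2 (flp_d L814741) (flp_i L814564) L822984
theorem L822994 : sm ge N62998 = N62412 := ded_34_2 (flp_d L816254) (flp_e L805561) (flp_d L803675) L814554 L822984
theorem L822996 : sm gh N62998 = N62595 := ded_38_2 (flp_d L817735) (flp_h L810761) L810765 (flp_h L814562) L822984
theorem L822998 : sm ge N62247 = N62999 := rfl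
theorem L823000 : sm ga N62999 = N62248 := ded_13_1 (flp_e L814593) L814583 L822998
theorem L823002 : sm gb N62999 = N62345 := ded_21_1 (flp_e L815588) (flp_b L814591) L822998
theorem L823004 : sm gg N62999 = N62251 := ded_41_2 (flp_e L814623) (flp_g L814587) L822998
theorem L823006 : sm gi N62999 = N62270 := ded_44_2 (flp_e L814850) (flp_i L814589) L822998
theorem L823008 : sm gd N62248 = N63000 := rfl
theorem L823010 : sm gb N63000 = N62249 := ded_20_1 (flp_d L814601) (flp_b L814595) L823008
theorem L823012 : sm gg N63000 = N62252 := ded_36_2 (flp_d L814635) (flp_g L814597) L823008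
theorem L823014 : sm gi N63000 = N62271 := ded_39_2 (flp_d L814858) (flp_i L814599) L823008
theorem L823016 : sm ge N63000 = N62482 := ded_34_2 L816911 L808052 (flp_d L803721) L814593 L823008
theorem L823018 : sm gf N62248 = N63001 := rfl
theorem L823020 : sm gb N63001 = N62250 := ded_22_1 (flp_f L814613) (flp_b L814595) L823018
theorem L823022 : sm gi N63001 = N62272 := ded_48_2 (flp_f L814864) (flp_i L814599) L823018
theorem L823024 : sm gg N63001 = N62564 := ded_45_2 (flp_f L817535) L807388 (flp_f L803767) (flp_g L814597) L823018
theorem L823026 : sm gh N62249 = N63002 := rfl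
theorem L823028 : sm ga N63002 = N62348 := ded_17_1 (flp_h L815612) (flp_a L814603) L823026
theorem L823030 : sm gc N63002 = N62256 := ded_32_1 (flp_h L814679) (flp_c L814609) L823026
theorem L823032 : sm ge N63002 = N62479 := ded_43_1 L816881 (flp_e L814611) L823026
theorem L823034 : sm gg N63002 = N62253 := ded_50_1 (flp_h L814647) (flp_g L814605) L823026
theorem L823036 : sm gd N62251 = N63003 := rfl
theorem L823038 : sm ga N63003 = N62252 := ded_12_1 (flp_d L814635) (flp_a L814625) L823036
theorem L823040 : sm gb N63003 = N62349 := ded_20_1 (flp_d L815620) (flp_b L814627) L823036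
theorem L823042 : sm gf N63003 = N62480 := ded_35_2 L816895 (flp_f L814633) L823036
theorem L823044 : sm gj N63003 = N62254 := ded_37_2 (flp_d L814659) (flp_j L814629) L823036
theorem L823046 : sm gi N63003 = N62273 := ded_39_2 (flp_d L814872) (flp_i L814631) L823036
theorem L823048 : sm ge N63003 = N62481 := ded_34_2 L816903 L808044 (flp_d L803749) L814623 L823036
theorem L823050 : sm gh N62252 = N63004 := rfl
theorem L823052 : sm gb N63004 = N62253 := ded_25_1 (flp_h L814647) (flp_b L814637) L823050
theorem L823054 : sm ge N63004 = N62478 := ded_43_1 L816871 (flp_e L814645) L823050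
theorem L823056 : sm gf N63004 = N62475 := ded_47_1 L816836 (flp_f L814639) L823050
theorem L823058 : sm gj N63004 = N62255 := ded_52_1 (flp_h L814671) (flp_j L814641) L823050
theorem L823060 : sm gh N62254 = N63005 := rfl
theorem L823062 : sm ga N63005 = N62255 := ded_17_1 (flp_h L814671) (flp_a L814661) L823060
theorem L823064 : sm gb N63005 = N62361 := ded_25_1 (flp_h L815770) (flp_b L814663) L823060
theorem L823066 : sm ge N63005 = N62489 := ded_43_1 L816975 (flp_e L814669) L823060
theorem L823068 : sm gf N63005 = N62487 := ded_47_1 L816957 (flp_f L814665) L823060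
theorem L823070 : sm ge N62257 = N63006 := rfl
theorem L823072 : sm ga N63006 = N62258 := ded_13_1 (flp_e L814704) L814688 L823070
theorem L823074 : sm gb N63006 = N62371 := ded_21_1 (flp_e L815877) (flp_b L814702) L823070
theorem L823076 : sm gc N63006 = N62425 := ded_28_1 (flp_e L816363) (flp_c L814690) L823070
theorem L823078 : sm gj N63006 = N62539 := ded_42_2 (flp_e L817352) (flp_j L814696) L823070
theorem L823080 : sm gh N63006 = N62546 := ded_43_2 (flp_e L817395) (flp_h L814698) L823070
theorem L823082 : sm gi N63006 = N62411 := ded_44_2 (flp_e L816244) (flp_i L814700) L823070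
theorem L823084 : sm gf N63006 = N62594 := ded_40_2 (flp_e L817729) L807802 (flp_e L803868) (flp_f L814694) L823070
theorem L823086 : sm gd N62258 = N63007 := rfl
theorem L823088 : sm gb N63007 = N62259 := ded_20_1 (flp_d L814718) (flp_b L814706) L823086
theorem L823090 : sm gf N63007 = N62595 := ded_35_2 (flp_d L817735) (flp_f L814716) L823086
theorem L823092 : sm gj N63007 = N62540 := ded_37_2 (flp_d L817362) (flp_j L814710) L823086
theorem L823094 : sm gi N63007 = N62412 := ded_39_2 (flp_d L816254) (flp_i L814714) L823086
theorem L823096 : sm ge N63007 = N62261 := ded_34_2 (flp_d L814741) (flp_e L803886) (flp_d L803836) L814704 L823086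
theorem L823098 : sm gh N63007 = N62576 := ded_38_2 (flp_d L817608) (flp_h L809843) L809847 (flp_h L814712) L823086
theorem L823100 : sm gd N62260 = N63008 := rfl
theorem L823102 : sm ga N63008 = N62261 := ded_12_1 (flp_d L814741) (flp_a L814735) L823100
theorem L823104 : sm gb N63008 = N62377 := ded_20_1 (flp_d L815937) (flp_b L814737) L823100
theorem L823106 : sm gf N63008 = N62620 := ded_35_2 L821261 L821259 L823100
theorem L823108 : sm gj N63008 = N62588 := ded_37_2 (flp_d L817692) (flp_j L814739) L823100
theorem L823110 : sm gh N63008 = N62579 := ded_38_2 (flp_d L817634) (flp_h L816655) (flp_d L821106) L821102 L823100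
theorem L823112 : sm gc N62261 = N63009 := rfl
theorem L823114 : sm gf N63009 = N62621 := ded_29_2 L817902 (flp_f L814745) L823112
theorem L823116 : sm gj N63009 = N62589 := ded_31_2 (flp_c L817698) (flp_j L814747) L823112
theorem L823118 : sm gh N63009 = N62580 := ded_32_2 (flp_c L817640) (flp_h L814749) L823112
theorem L823120 : sm gb N63009 = N63009 := ded_19_1 (flp_c L823112) L814743 L803900 (flp_b L814743) L823112
theorem L823121 : sm ge N62262 = N63010 := rfl
theorem L823123 : sm ga N63010 = N62263 := ded_13_1 (flp_e L814765) L814751 L823121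
theorem L823125 : sm gb N63010 = N62385 := ded_21_1 (flp_e L816013) (flp_b L814763) L823121
theorem L823127 : sm gc N63010 = N62610 := ded_28_1 (flp_e L817838) (flp_c L814753) L823121
theorem L823129 : sm gj N63010 = N62278 := ded_42_2 (flp_e L814937) (flp_j L814757) L823121
theorem L823131 : sm gh N63010 = N62268 := ded_43_2 (flp_e L814824) (flp_h L814759) L823121
theorem L823133 : sm gi N63010 = N62599 := ded_44_2 (flp_e L817758) (flp_i L814761) L823121
theorem L823135 : sm gf N63010 = N62492 := ded_40_2 (flp_e L817001) L806619 (flp_e L803933) (flp_f L814755) L823121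
theorem L823137 : sm gd N62263 = N63011 := rfl
theorem L823139 : sm gb N63011 = N62264 := ded_20_1 (flp_d L814779) (flp_b L814767) L823137
theorem L823141 : sm gf N63011 = N62493 := ded_35_2 (flp_d L817009) (flp_f L814777) L823137
theorem L823143 : sm gj N63011 = N62279 := ded_37_2 (flp_d L814947) (flp_j L814771) L823137
theorem L823145 : sm gi N63011 = N62600 := ded_39_2 (flp_d L817766) (flp_i L814775) L823137
theorem L823147 : sm ge N62265 = N63012 := rfl
theorem L823149 : sm ga N63012 = N62266 := ded_13_1 (flp_e L814802) L814790 L823147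
theorem L823151 : sm gb N63012 = N62391 := ded_21_1 (flp_e L816068) (flp_b L814800) L823147
theorem L823153 : sm gc N63012 = N62626 := ded_28_1 (flp_e L817934) (flp_c L814792) L823147
theorem L823155 : sm gg N63012 = N62268 := ded_41_2 (flp_e L814824) (flp_g L814796) L823147
theorem L823157 : sm gi N63012 = N62623 := ded_44_2 L817918 (flp_i L814798) L823147
theorem L823159 : sm gd N62266 = N63013 := rfl
theorem L823161 : sm gb N63013 = N62267 := ded_20_1 (flp_d L814812) (flp_b L814804) L823159
theorem L823163 : sm gg N63013 = N62269 := ded_36_2 (flp_d L814838) (flp_g L814808) L823159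
theorem L823165 : sm gi N63013 = N62482 := ded_39_2 L816911 (flp_i L814810) L823159
theorem L823167 : sm ge N63013 = N62271 := ded_34_2 (flp_d L814858) (flp_e L804009) (flp_d L803945) L814802 L823159
theorem L823169 : sm gd N62268 = N63014 := rfl
theorem L823171 : sm ga N63014 = N62269 := ded_12_1 (flp_d L814838) (flp_a L814826) L823169
theorem L823173 : sm gb N63014 = N62396 := ded_20_1 (flp_d L816112) (flp_b L814828) L823169
theorem L823175 : sm gf N63014 = N62462 := ded_35_2 L816713 (flp_f L814836) L823169
theorem L823177 : sm gj N63014 = N62281 := ded_37_2 (flp_d L814962) (flp_j L814832) L823169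
theorem L823179 : sm gi N63014 = N62481 := ded_39_2 L816903 (flp_i L814834) L823169
theorem L823181 : sm ge N63014 = N62273 := ded_34_2 (flp_d L814872) (flp_e L804033) (flp_d L803967) L814824 L823169
theorem L823183 : sm gd N62270 = N63015 := rfl
theorem L823185 : sm ga N63015 = N62271 := ded_12_1 (flp_d L814858) (flp_a L814852) L823183
theorem L823187 : sm gb N63015 = N62401 := ded_20_1 (flp_d L816166) (flp_b L814854) L823183
theorem L823189 : sm gg N63015 = N62273 := ded_36_2 (flp_d L814872) (flp_g L814856) L823183
theorem L823191 : sm gf N62270 = N63016 := rfl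
theorem L823193 : sm ga N63016 = N62272 := ded_14_1 (flp_f L814864) (flp_a L814852) L823191
theorem L823195 : sm gb N63016 = N62402 := ded_22_1 (flp_f L816172) (flp_b L814854) L823191
theorem L823197 : sm gh N63016 = N62567 := ded_47_2 (flp_f L818020) (flp_h L818032) L823191
theorem L823199 : sm gg N63016 = N62565 := ded_45_2 (flp_f L817541) (flp_g L812249) L812259 (flp_g L814856) L823191
theorem L823201 : sm ge N62275 = N63017 := rfl
theorem L823203 : sm ga N63017 = N62276 := ded_13_1 (flp_e L814912) L814898 L823201
theorem L823205 : sm gb N63017 = N62425 := ded_21_1 (flp_e L816363) (flp_b L814910) L823201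
theorem L823207 : sm gc N63017 = N62492 := ded_28_1 (flp_e L817001) (flp_c L814900) L823201
theorem L823209 : sm gj N63017 = N62599 := ded_42_2 (flp_e L817758) (flp_j L814904) L823201
theorem L823211 : sm gh N63017 = N62490 := ded_43_2 (flp_e L816977) (flp_h L814906) L823201
theorem L823213 : sm gi N63017 = N62278 := ded_44_2 (flp_e L814937) (flp_i L814908) L823201
theorem L823215 : sm gf N63017 = N62610 := ded_40_2 (flp_e L817838) L807926 (flp_e L804132) (flp_f L814902) L823201
theorem L823217 : sm gd N62276 = N63018 := rfl
theorem L823219 : sm gb N63018 = N62277 := ded_20_1 (flp_d L814926) (flp_b L814914) L823217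
theorem L823221 : sm gf N63018 = N62611 := ded_35_2 (flp_d L817846) (flp_f L814924) L823217
theorem L823223 : sm gj N63018 = N62600 := ded_37_2 (flp_d L817766) (flp_j L814918) L823217
theorem L823225 : sm gi N63018 = N62279 := ded_39_2 (flp_d L814947) (flp_i L814922) L823217
theorem L823227 : sm gh N62277 = N63019 := rfl
theorem L823229 : sm ga N63019 = N62427 := ded_17_1 (flp_h L816375) (flp_a L814928) L823227
theorem L823231 : sm gc N63019 = N63019 := ded_32_1 (flp_h L823227) L814936 L823227
theorem L823232 : sm gf N63019 = N62304 := ded_47_1 L815208 (flp_f L814930) L823227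
theorem L823234 : sm gj N63019 = N62601 := ded_52_1 (flp_h L817770) (flp_j L814932) L823227
theorem L823236 : sm gd N63019 = N62305 := ded_38_1 L815216 (flp_d L806603) (flp_h L804099) L814926 L823227
theorem L823238 : sm gd N62278 = N63020 := rfl
theorem L823240 : sm ga N63020 = N62279 := ded_12_1 (flp_d L814947) (flp_a L814939) L823238
theorem L823242 : sm gb N63020 = N62428 := ded_20_1 (flp_d L816378) (flp_b L814941) L823238
theorem L823244 : sm gf N63020 = N62612 := ded_35_2 (flp_d L817852) (flp_f L814945) L823238
theorem L823246 : sm gc N62279 = N63021 := rfl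
theorem L823248 : sm gf N63021 = N62613 := ded_29_2 (flp_c L817856) (flp_f L814951) L823246
theorem L823250 : sm gb N63021 = N63021 := ded_19_1 (flp_c L823246) L814949 L804127 (flp_b L814949) L823246
theorem L823251 : sm gh N62279 = N63022 := rfl
theorem L823253 : sm gb N63022 = N62280 := ded_25_1 (flp_h L814953) (flp_b L814949) L823251
theorem L823255 : sm gf N63022 = N62464 := ded_47_1 L816727 (flp_f L814951) L823251
theorem L823257 : sm gd N63022 = N62282 := ded_38_1 (flp_h L814974) (flp_d L804154) (flp_h L804117) L814947 L823251
theorem L823259 : sm gh N62281 = N63023 := rfl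
theorem L823261 : sm ga N63023 = N62282 := ded_17_1 (flp_h L814974) (flp_a L814964) L823259
theorem L823263 : sm gb N63023 = N62441 := ded_25_1 (flp_h L816493) (flp_b L814966) L823259
theorem L823265 : sm ge N63023 = N62283 := ded_43_1 (flp_h L814982) (flp_e L814972) L823259
theorem L823267 : sm gf N63023 = N62463 := ded_47_1 L816721 (flp_f L814968) L823259
theorem L823269 : sm gi N62283 = N63024 := rfl
theorem L823271 : sm ga N63024 = N62284 := ded_18_1 (flp_i L814988) (flp_a L814984) L823269
theorem L823273 : sm gb N63024 = N62448 := ded_26_1 (flp_i L816561) (flp_b L814986) L823269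
theorem L823275 : sm ge N62286 = N63025 := rfl
theorem L823277 : sm ga N63025 = N62287 := ded_13_1 (flp_e L815022) L815006 L823275
theorem L823279 : sm gb N63025 = N62536 := ded_21_1 (flp_e L817332) (flp_b L815020) L823275
theorem L823281 : sm gc N63025 = N62608 := ded_28_1 (flp_e L817824) (flp_c L815008) L823275
theorem L823283 : sm gg N63025 = N62599 := ded_41_2 (flp_e L817758) (flp_g L815014) L823275
theorem L823285 : sm gj N63025 = N62320 := ded_42_2 (flp_e L815365) (flp_j L815016) L823275
theorem L823287 : sm gh N63025 = N62535 := ded_43_2 (flp_e L817320) (flp_h L815018) L823275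
theorem L823289 : sm gd N62287 = N63026 := rfl
theorem L823291 : sm gb N63026 = N62288 := ded_20_1 (flp_d L815034) (flp_b L815024) L823289
theorem L823293 : sm gg N63026 = N62600 := ded_36_2 (flp_d L817766) (flp_g L815028) L823289
theorem L823295 : sm gj N63026 = N62321 := ded_37_2 (flp_d L815369) (flp_j L815030) L823289
theorem L823297 : sm ge N63026 = N62293 := ded_34_2 (flp_d L815078) (flp_e L804288) (flp_d L804228) L815022 L823289
theorem L823299 : sm ge N62289 = N63027 := rfl
theorem L823301 : sm ga N63027 = N62290 := ded_13_1 (flp_e L815055) L815045 L823299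
theorem L823303 : sm gg N63027 = N62292 := ded_41_2 (flp_e L815070) (flp_g L815051) L823299
theorem L823305 : sm gh N63027 = N62345 := ded_43_2 (flp_e L815588) (flp_h L815053) L823299
theorem L823307 : sm gd N62290 = N63028 := rfl
theorem L823309 : sm gb N63028 = N62291 := ded_20_1 (flp_d L815063) (flp_b L815057) L823307
theorem L823311 : sm gg N63028 = N62293 := ded_36_2 (flp_d L815078) (flp_g L815059) L823307
theorem L823313 : sm ge N63028 = N62600 := ded_34_2 (flp_d L817766) (flp_e L807847) (flp_d L804264) L815055 L823307
theorem L823315 : sm gh N62291 = N63029 := rfl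
theorem L823317 : sm gc N63029 = N63029 := ded_32_1 (flp_h L823315) L815067 L823315
theorem L823318 : sm ge N63029 = N62601 := ded_43_1 (flp_h L817770) (flp_e L815068) L823315
theorem L823320 : sm gg N63029 = N62294 := ded_50_1 (flp_h L815084) (flp_g L815065) L823315
theorem L823322 : sm gd N63029 = N62348 := ded_38_1 (flp_h L815612) (flp_d L804780) (flp_h L804278) L815063 L823315
theorem L823324 : sm gd N62292 = N63030 := rfl
theorem L823326 : sm ga N63030 = N62293 := ded_12_1 (flp_d L815078) (flp_a L815072) L823324
theorem L823328 : sm gj N63030 = N62331 := ded_37_2 (flp_d L815446) (flp_j L815074) L823324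
theorem L823330 : sm gc N62293 = N63031 := rfl
theorem L823332 : sm gj N63031 = N62332 := ded_31_2 (flp_c L815450) (flp_j L815082) L823330
theorem L823334 : sm gb N63031 = N63031 := ded_19_1 (flp_c L823330) L815080 L804300 (flp_b L815080) L823330
theorem L823335 : sm gh N62293 = N63032 := rfl
theorem L823337 : sm gb N63032 = N62294 := ded_25_1 (flp_h L815084) (flp_b L815080) L823335
theorem L823339 : sm gf N63032 = N62528 := ded_47_1 (flp_h L822683) L822677 L823335
theorem L823341 : sm gj N63032 = N62333 := ded_52_1 (flp_h L815453) (flp_j L815082) L823335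
theorem L823343 : sm gd N63032 = N62351 := ded_38_1 (flp_h L815646) (flp_d L804804) (flp_h L804294) L815078 L823335
theorem L823345 : sm gi N62294 = N63033 := rfl
theorem L823347 : sm gc N63033 = N63033 := ded_33_1 (flp_i L823345) L815086 L823345
theorem L823348 : sm gd N63033 = N62352 := ded_39_1 (flp_i L815656) (flp_d L815091) L823345
theorem L823350 : sm gf N63033 = N62526 := ded_48_1 L817259 (flp_f L815087) L823345
theorem L823352 : sm gj N63033 = N62334 := ded_53_1 (flp_i L815461) (flp_j L815089) L823345
theorem L823354 : sm ge N62295 = N63034 := rfl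
theorem L823356 : sm ga N63034 = N62296 := ded_13_1 (flp_e L815105) L815093 L823354
theorem L823358 : sm gb N63034 = N62306 := ded_21_1 (flp_e L815220) (flp_b L815103) L823354
theorem L823360 : sm gc N63034 = N62477 := ded_28_1 (flp_e L816849) (flp_c L815095) L823354
theorem L823362 : sm gg N63034 = N62590 := ded_41_2 (flp_e L817701) (flp_g L815097) L823354
theorem L823364 : sm gj N63034 = N62483 := ded_42_2 (flp_e L816913) (flp_j L815099) L823354
theorem L823366 : sm gh N63034 = N62472 := ded_43_2 (flp_e L816800) (flp_h L815101) L823354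
theorem L823368 : sm gd N62296 = N63035 := rfl
theorem L823370 : sm gb N63035 = N62297 := ded_20_1 (flp_d L815117) (flp_b L815107) L823368
theorem L823372 : sm gg N63035 = N62473 := ded_36_2 L816814 (flp_g L815111) L823368
theorem L823374 : sm gj N63035 = N62484 := ded_37_2 (flp_d L816923) (flp_j L815113) L823368
theorem L823376 : sm gc N63035 = N62482 := ded_27_1 L816911 L808050 (flp_d L806394) (flp_c L815109) L823368
theorem L823378 : sm gf N62296 = N63036 := rfl
theorem L823380 : sm gb N63036 = N62298 := ded_22_1 (flp_f L815127) (flp_b L815107) L823378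
theorem L823382 : sm gc N63036 = N62478 := ded_29_1 (flp_f L816863) (flp_c L815109) L823378
theorem L823384 : sm gj N63036 = N62485 := ded_46_2 (flp_f L816929) (flp_j L815113) L823378
theorem L823386 : sm gh N63036 = N62473 := ded_47_2 (flp_f L816808) (flp_h L815115) L823378
theorem L823388 : sm gf N62297 = N63037 := rfl
theorem L823390 : sm ga N63037 = N62309 := ded_14_1 (flp_f L815242) (flp_a L815119) L823388
theorem L823392 : sm gc N63037 = N62300 := ded_29_1 (flp_f L815151) (flp_c L815125) L823388
theorem L823394 : sm gd N63037 = N62298 := ded_35_1 (flp_f L815127) L815117 L823388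
theorem L823396 : sm gj N63037 = N62479 := ded_46_2 L816883 (flp_j L815123) L823388
theorem L823398 : sm gg N63037 = N62454 := ded_45_2 L816615 L806267 L806342 (flp_g L815121) L823388
theorem L823400 : sm gh N62452 = N63037 := ded_56_0 (flp_f L823388) (flp_e L818560) L818558 L810453 L799033 L788250 (flp_h L792901) (flp_f L805080) L805078 L793147 (flp_c L793667) (flp_b L802050) L802048 L793838 L797564 (flp_e L797549) L785503 L781285 L770449 L758741 L745881 L729805 L746318 (flp_d L749995) L749988 (flp_b L752214) (flp_a L764855) (flp_h L775775) L775779 (flp_e L764925) (flp_d L752279) L737080 L730977 (flp_a L724250) (flp_h L724248) L704953 (flp_e L705009) L705008 L705006 L688406 L666420 L667091 (flp_f L689384) (flp_e L710496) L729386 L745998 L759569 L771278 (flp_h L781672) L781668 (flp_e L783246) (flp_d L795412) (flp_c L802164) (flp_b L812604) (flp_a L812588) L801402 L792979 L793211 L805495 L816176 L816182 (flp_a L816591)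
theorem L823402 : sm gh N62297 = N63038 := rfl
theorem L823404 : sm ga N63038 = N62310 := ded_17_1 (flp_h L815254) (flp_a L815119) L823402
theorem L823406 : sm gc N63038 = N62299 := ded_32_1 L815145 (flp_c L815125) L823402
theorem L823408 : sm gf N63038 = N62452 := ded_47_1 L823400 (flp_f L823388) L823402
theorem L823410 : sm gg N63038 = N62298 := ded_50_1 L815135 (flp_g L815121) L823402
theorem L823412 : sm gj N63038 = N62456 := ded_52_1 L816639 (flp_j L815123) L823402
theorem L823414 : sm gd N63038 = N62454 := ded_38_1 (flp_h L816609) L806010 (flp_h L804321) L815117 L823402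
theorem L823416 : sm ge N62302 = N63039 := rfl
theorem L823418 : sm ga N63039 = N62303 := ded_13_1 (flp_e L815193) L815183 L823416
theorem L823420 : sm gc N63039 = N62320 := ded_28_1 (flp_e L815365) (flp_c L815185) L823416
theorem L823422 : sm gj N63039 = N62608 := ded_42_2 (flp_e L817824) (flp_j L815189) L823416
theorem L823424 : sm gh N63039 = N62614 := ded_43_2 (flp_e L817859) (flp_h L815191) L823416
theorem L823426 : sm gd N62303 = N63040 := rfl
theorem L823428 : sm gb N63040 = N62304 := ded_20_1 (flp_d L815203) (flp_b L815195) L823426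
theorem L823430 : sm gj N63040 = N62609 := ded_37_2 (flp_d L817832) (flp_j L815199) L823426
theorem L823432 : sm gh N63040 = N62611 := ded_38_2 (flp_d L817846) L807936 (flp_d L807971) (flp_h L815201) L823426
theorem L823434 : sm gf N62303 = N63041 := rfl
theorem L823436 : sm gb N63041 = N62305 := ded_22_1 (flp_f L815210) (flp_b L815195) L823434
theorem L823438 : sm gc N63041 = N62322 := ded_29_1 (flp_f L815375) (flp_c L815197) L823434
theorem L823440 : sm gj N63041 = N62603 := ded_46_2 L817789 (flp_j L815199) L823434
theorem L823442 : sm gh N63041 = N62491 := ded_47_2 L816993 (flp_h L815201) L823434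
theorem L823444 : sm ge N63041 = N62308 := ded_40_1 (flp_f L815234) (flp_e L804426) (flp_f L804393) L815193 L823434
theorem L823446 : sm gd N62306 = N63042 := rfl
theorem L823448 : sm ga N63042 = N62307 := ded_12_1 (flp_d L815228) (flp_a L815222) L823446
theorem L823450 : sm gg N63042 = N62592 := ded_36_2 (flp_d L817719) (flp_g L815226) L823446
theorem L823452 : sm gf N62306 = N63043 := rfl
theorem L823454 : sm ga N63043 = N62308 := ded_14_1 (flp_f L815234) (flp_a L815222) L823452
theorem L823456 : sm gc N63043 = N62326 := ded_29_1 (flp_f L815405) (flp_c L815224) L823452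
theorem L823458 : sm gh N63043 = N62592 := ded_47_2 (flp_f L820806) L820812 L823452
theorem L823460 : sm gf N62307 = N63044 := rfl
theorem L823462 : sm gb N63044 = N62309 := ded_22_1 (flp_f L815242) (flp_b L815230) L823460
theorem L823464 : sm gc N63044 = N62404 := ded_29_1 L818977 L818973 L823460
theorem L823466 : sm gd N63044 = N62308 := ded_35_1 (flp_f L815234) L815228 L823460
theorem L823468 : sm gj N63044 = N62533 := ded_46_2 (flp_f L818947) L818949 L823460
theorem L823470 : sm gg N63044 = N62408 := ded_45_2 L816220 (flp_g L811473) L811471 (flp_g L815232) L823460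
theorem L823472 : sm gh N62403 = N63044 := ded_25_0 L823462 (flp_h L815252) (flp_b L816182)
theorem L823474 : sm gh N62307 = N63045 := rfl
theorem L823476 : sm gb N63045 = N62310 := ded_25_1 (flp_h L815254) (flp_b L815230) L823474
theorem L823478 : sm gc N63045 = N62327 := ded_32_1 (flp_h L818975) L818973 L823474
theorem L823480 : sm gf N63045 = N62403 := ded_47_1 L823472 (flp_f L823460) L823474
theorem L823482 : sm gg N63045 = N62308 := ded_50_1 L815240 (flp_g L815232) L823474
theorem L823484 : sm gj N63045 = N62449 := ded_52_1 (flp_h L818945) L818949 L823474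
theorem L823486 : sm gd N63045 = N62408 := ded_38_1 (flp_h L816214) (flp_d L811483) L811477 L815228 L823474
theorem L823488 : sm ge N62309 = N63046 := rfl
theorem L823490 : sm gc N63046 = N62311 := ded_28_1 (flp_e L815266) (flp_c L815244) L823488
theorem L823492 : sm gg N63046 = N62356 := ded_41_2 L815712 (flp_g L815250) L823488
theorem L823494 : sm gj N63046 = N62348 := ded_42_2 L815616 (flp_j L815248) L823488
theorem L823496 : sm gh N63046 = N62344 := ded_43_2 L815586 L815252 L823488
theorem L823498 : sm ge N62312 = N63047 := rfl
theorem L823500 : sm ga N63047 = N62313 := ded_13_1 (flp_e L815293) L815277 L823498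
theorem L823502 : sm gb N63047 = N62523 := ded_21_1 (flp_e L817223) (flp_b L815291) L823498
theorem L823504 : sm gc N63047 = N62614 := ded_28_1 (flp_e L817859) (flp_c L815279) L823498
theorem L823506 : sm gj N63047 = N62535 := ded_42_2 (flp_e L817320) (flp_j L815285) L823498
theorem L823508 : sm gh N63047 = N62320 := ded_43_2 (flp_e L815365) (flp_h L815287) L823498
theorem L823510 : sm gi N63047 = N62590 := ded_44_2 (flp_e L817701) (flp_i L815289) L823498
theorem L823512 : sm ge N62315 = N63048 := rfl
theorem L823514 : sm ga N63048 = N62316 := ded_13_1 (flp_e L815331) L815321 L823512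
theorem L823516 : sm gg N63048 = N62320 := ded_41_2 (flp_e L815365) (flp_g L815327) L823512
theorem L823518 : sm gi N63048 = N62515 := ded_44_2 (flp_e L817185) (flp_i L815329) L823512
theorem L823520 : sm gd N62316 = N63049 := rfl
theorem L823522 : sm gb N63049 = N62317 := ded_20_1 (flp_d L815339) (flp_b L815333) L823520
theorem L823524 : sm gg N63049 = N62321 := ded_36_2 (flp_d L815369) (flp_g L815335) L823520
theorem L823526 : sm gi N63049 = N62516 := ded_39_2 (flp_d L817189) (flp_i L815337) L823520
theorem L823528 : sm ge N63049 = N62329 := ded_34_2 (flp_d L815429) (flp_e L804603) (flp_d L804524) L815331 L823520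
theorem L823530 : sm gf N62316 = N63050 := rfl
theorem L823532 : sm gb N63050 = N62318 := ded_22_1 (flp_f L815348) (flp_b L815333) L823530
theorem L823534 : sm gi N63050 = N62517 := ded_48_2 (flp_f L817195) (flp_i L815337) L823530
theorem L823536 : sm ge N63050 = N62499 := ded_40_1 (flp_f L817058) (flp_e L806677) (flp_f L804526) L815331 L823530
theorem L823538 : sm gf N62317 = N63051 := rfl
theorem L823540 : sm gc N63051 = N63051 := ded_29_1 (flp_f L823538) L815345 L823538
theorem L823541 : sm gd N63051 = N62318 := ded_35_1 (flp_f L815348) L815339 L823538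
theorem L823543 : sm gi N63051 = N62324 := ded_48_2 L815395 (flp_i L815343) L823538
theorem L823545 : sm ge N63051 = N62334 := ded_40_1 L815466 (flp_e L809985) L809976 (flp_e L815346) L823538
theorem L823547 : sm gh N62317 = N63052 := rfl
theorem L823549 : sm gc N63052 = N63052 := ded_32_1 (flp_h L823547) L815345 L823547
theorem L823550 : sm ge N63052 = N62330 := ded_43_1 (flp_h L815437) (flp_e L815346) L823547
theorem L823552 : sm gg N63052 = N62324 := ded_50_1 (flp_h L815390) (flp_g L815341) L823547
theorem L823554 : sm gd N63052 = N62457 := ded_38_1 (flp_h L818917) L818913 L810195 L815339 L823547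
theorem L823556 : sm gg N62318 = N63053 := rfl
theorem L823558 : sm gc N63053 = N62319 := ded_30_1 (flp_g L815356) (flp_c L815350) L823556
theorem L823560 : sm ge N63053 = N62394 := ded_41_1 L816102 (flp_e L815354) L823556
theorem L823562 : sm gi N63053 = N62457 := ded_51_2 L816645 (flp_i L815352) L823556
theorem L823564 : sm gf N63053 = N62325 := ded_45_1 (flp_g L815399) (flp_f L804562) (flp_g L804536) L815348 L823556
theorem L823566 : sm gd N62320 = N63054 := rfl
theorem L823568 : sm ga N63054 = N62321 := ded_12_1 (flp_d L815369) (flp_a L815367) L823566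
theorem L823570 : sm ge N63054 = N62331 := ded_34_2 (flp_d L815446) (flp_e L804622) (flp_d L804549) L815365 L823566
theorem L823572 : sm gf N62320 = N63055 := rfl
theorem L823574 : sm ga N63055 = N62322 := ded_14_1 (flp_f L815375) (flp_a L815367) L823572
theorem L823576 : sm ge N63055 = N62326 := ded_40_1 (flp_f L815405) (flp_e L804573) (flp_f L804551) L815365 L823572
theorem L823578 : sm gc N62321 = N63056 := rfl
theorem L823580 : sm ge N63056 = N62332 := ded_28_2 (flp_c L815450) (flp_e L815373) L823578
theorem L823582 : sm gb N63056 = N63056 := ded_19_1 (flp_c L823578) L815371 L804559 (flp_b L815371) L823578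
theorem L823583 : sm gf N62321 = N63057 := rfl
theorem L823585 : sm gb N63057 = N62323 := ded_22_1 (flp_f L815381) (flp_b L815371) L823583
theorem L823587 : sm gd N63057 = N62322 := ded_35_1 (flp_f L815375) L815369 L823583
theorem L823589 : sm ge N63057 = N62521 := ded_40_1 L822161 L822157 L814215 (flp_e L815373) L823583
theorem L823591 : sm gh N62516 = N63057 := ded_25_0 L823585 (flp_h L815388) (flp_b L817191)
theorem L823593 : sm gh N62321 = N63058 := rfl
theorem L823595 : sm gb N63058 = N62324 := ded_25_1 (flp_h L815390) (flp_b L815371) L823593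
theorem L823597 : sm ge N63058 = N62333 := ded_43_1 (flp_h L815453) (flp_e L815373) L823593
theorem L823599 : sm gf N63058 = N62516 := ded_47_1 L823591 (flp_f L823583) L823593
theorem L823601 : sm gd N63058 = N62517 := ded_38_1 (flp_h L818901) L818897 L815301 L815369 L823593
theorem L823603 : sm gg N62322 = N63059 := rfl
theorem L823605 : sm gb N63059 = N62325 := ded_23_1 (flp_g L815399) (flp_b L815377) L823603
theorem L823607 : sm ge N63059 = N62327 := ded_41_1 (flp_g L815409) (flp_e L815379) L823603
theorem L823609 : sm gg N62326 = N63060 := rfl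
theorem L823611 : sm ga N63060 = N62327 := ded_15_1 (flp_g L815409) (flp_a L815407) L823609
theorem L823613 : sm gd N63060 = N62402 := ded_36_1 (flp_g L822695) L822691 L823609
theorem L823615 : sm gf N63060 = N62401 := ded_45_1 L816170 L805515 (flp_g L804577) L815405 L823609
theorem L823617 : sm gd N62328 = N63061 := rfl
theorem L823619 : sm ga N63061 = N62329 := ded_12_1 (flp_d L815429) (flp_a L815419) L823617
theorem L823621 : sm gg N63061 = N62331 := ded_36_2 (flp_d L815446) (flp_g L815423) L823617
theorem L823623 : sm gi N63061 = N62519 := ded_39_2 (flp_d L817207) (flp_i L815427) L823617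
theorem L823625 : sm gc N62329 = N63062 := rfl
theorem L823627 : sm gg N63062 = N62332 := ded_30_2 (flp_c L815450) (flp_g L815433) L823625
theorem L823629 : sm gi N63062 = N62520 := ded_33_2 (flp_c L817211) (flp_i L815435) L823625
theorem L823631 : sm gb N63062 = N63062 := ded_19_1 (flp_c L823625) L815431 L804621 (flp_b L815431) L823625
theorem L823632 : sm gd N63062 = N62597 := ded_27_2 (flp_c L817749) (flp_d L807825) (flp_c L804607) L815429 L823625
theorem L823634 : sm gh N62329 = N63063 := rfl
theorem L823636 : sm gb N63063 = N62330 := ded_25_1 (flp_h L815437) (flp_b L815431) L823634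
theorem L823638 : sm gf N63063 = N62510 := ded_47_1 (flp_h L819521) L819511 L823634
theorem L823640 : sm gg N63063 = N62333 := ded_50_1 (flp_h L815453) (flp_g L815433) L823634
theorem L823642 : sm gd N63063 = N62358 := ded_38_1 (flp_h L815732) (flp_d L804942) (flp_h L804611) L815429 L823634
theorem L823644 : sm gi N62330 = N63064 := rfl
theorem L823646 : sm gc N63064 = N63064 := ded_33_1 (flp_i L823644) L815439 L823644
theorem L823647 : sm gd N63064 = N62359 := ded_39_1 (flp_i L815744) (flp_d L815444) L823644
theorem L823649 : sm gf N63064 = N62370 := ded_48_1 L815872 (flp_f L815440) L823644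
theorem L823651 : sm gg N63064 = N62334 := ded_51_1 (flp_i L815461) (flp_g L815442) L823644
theorem L823653 : sm gh N63064 = N62522 := ded_54_1 (flp_i L817220) (flp_h L806917) (flp_i L804619) L815437 L823644
theorem L823655 : sm gc N62331 = N63065 := rfl
theorem L823657 : sm ga N63065 = N62332 := ded_11_1 (flp_c L815450) (flp_a L815448) L823655
theorem L823659 : sm gh N62331 = N63066 := rfl
theorem L823661 : sm ga N63066 = N62333 := ded_17_1 (flp_h L815453) (flp_a L815448) L823659
theorem L823663 : sm gf N63066 = N62543 := ded_47_1 (flp_h L822705) L822703 L823659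
theorem L823665 : sm gd N63066 = N62361 := ded_38_1 (flp_h L815770) (flp_d L804966) (flp_h L804626) L815446 L823659
theorem L823667 : sm gh N62332 = N63067 := rfl
theorem L823669 : sm gb N63067 = N63067 := ded_25_1 (flp_h L823667) L815452 L823667
theorem L823670 : sm gc N63067 = N62333 := ded_32_1 (flp_h L815453) L815450 L823667
theorem L823672 : sm gf N63067 = N62544 := ded_47_1 (flp_h L822711) L822709 L823667
theorem L823674 : sm gi N62333 = N63068 := rfl
theorem L823676 : sm gb N63068 = N62334 := ded_26_1 (flp_i L815461) (flp_b L815455) L823674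
theorem L823678 : sm gd N63068 = N62363 := ded_39_1 (flp_i L815790) (flp_d L815459) L823674
theorem L823680 : sm gf N63068 = N62542 := ded_48_1 L817380 (flp_f L815457) L823674
theorem L823682 : sm ge N62335 = N63069 := rfl
theorem L823684 : sm ga N63069 = N62336 := ded_13_1 (flp_e L815480) L815468 L823682
theorem L823686 : sm gg N63069 = N62338 := ded_41_2 (flp_e L815501) (flp_g L815474) L823682
theorem L823688 : sm gh N63069 = N62598 := ded_43_2 (flp_e L817754) (flp_h L815476) L823682
theorem L823690 : sm gi N63069 = N62375 := ded_44_2 (flp_e L815925) (flp_i L815478) L823682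
theorem L823692 : sm gd N62336 = N63070 := rfl
theorem L823694 : sm gb N63070 = N62337 := ded_20_1 (flp_d L815490) (flp_b L815482) L823692
theorem L823696 : sm gg N63070 = N62339 := ded_36_2 (flp_d L815509) (flp_g L815484) L823692
theorem L823698 : sm gi N63070 = N62376 := ded_39_2 (flp_d L815931) (flp_i L815488) L823692
theorem L823700 : sm ge N63070 = N62510 := ded_34_2 (flp_d L817160) (flp_e L806798) (flp_d L804657) L815480 L823692
theorem L823702 : sm gh N63070 = N62542 := ded_38_2 (flp_d L817376) (flp_h L814338) L814328 (flp_h L815486) L823692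
theorem L823704 : sm gd N62338 = N63071 := rfl
theorem L823706 : sm ga N63071 = N62339 := ded_12_1 (flp_d L815509) (flp_a L815503) L823704
theorem L823708 : sm gj N63071 = N62596 := ded_37_2 (flp_d L817743) (flp_j L815505) L823704
theorem L823710 : sm gi N63071 = N62377 := ded_39_2 (flp_d L815937) (flp_i L815507) L823704
theorem L823712 : sm gc N62339 = N63072 := rfl
theorem L823714 : sm gj N63072 = N62597 := ded_31_2 (flp_c L817749) (flp_j L815513) L823712
theorem L823716 : sm gi N63072 = N62378 := ded_33_2 (flp_c L815943) (flp_i L815515) L823712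
theorem L823718 : sm gb N63072 = N63072 := ded_19_1 (flp_c L823712) L815511 L804699 (flp_b L815511) L823712
theorem L823719 : sm gh N62339 = N63073 := rfl
theorem L823721 : sm gb N63073 = N62340 := ded_25_1 (flp_h L815517) (flp_b L815511) L823719
theorem L823723 : sm ge N63073 = N62585 := ded_43_1 (flp_h L820425) L820423 L823719
theorem L823725 : sm gf N63073 = N62372 := ded_47_1 (flp_h L822742) L822734 L823719
theorem L823727 : sm gg N63073 = N62542 := ded_50_1 (flp_h L823702) L823696 L823719
theorem L823729 : sm gj N63073 = N62412 := ded_52_1 L816260 (flp_j L815513) L823719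
theorem L823731 : sm gd N63073 = N62373 := ded_38_1 L815899 (flp_d L811137) L811133 L815509 L823719
theorem L823733 : sm gi N63073 = N62540 := ded_54_2 (flp_h L819487) L819483 (flp_h L815948) (flp_i L815515) L823719
theorem L823735 : sm ge N62342 = N63074 := rfl
theorem L823737 : sm ga N63074 = N62343 := ded_13_1 (flp_e L815564) L815552 L823735
theorem L823739 : sm gc N63074 = N62598 := ded_28_1 (flp_e L817754) (flp_c L815554) L823735
theorem L823741 : sm gg N63074 = N62354 := ded_41_2 (flp_e L815684) (flp_g L815558) L823735
theorem L823743 : sm gj N63074 = N62345 := ded_42_2 (flp_e L815588) (flp_j L815560) L823735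
theorem L823745 : sm gi N63074 = N62399 := ded_44_2 (flp_e L816146) (flp_i L815562) L823735
theorem L823747 : sm gd N62343 = N63075 := rfl
theorem L823749 : sm gb N63075 = N62344 := ded_20_1 (flp_d L815576) (flp_b L815566) L823747
theorem L823751 : sm gg N63075 = N62355 := ded_36_2 (flp_d L815694) (flp_g L815570) L823747
theorem L823753 : sm gj N63075 = N62346 := ded_37_2 (flp_d L815596) (flp_j L815572) L823747
theorem L823755 : sm gi N63075 = N62400 := ded_39_2 (flp_d L816156) (flp_i L815574) L823747
theorem L823757 : sm gc N63075 = N62392 := ded_27_1 (flp_d L816074) (flp_c L814326) L814328 (flp_c L815568) L823747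
theorem L823759 : sm ge N63075 = N62403 := ded_34_2 L816184 (flp_e L807762) (flp_d L804746) L815564 L823747
theorem L823761 : sm gd N62345 = N63076 := rfl
theorem L823763 : sm ga N63076 = N62346 := ded_12_1 (flp_d L815596) (flp_a L815590) L823761
theorem L823765 : sm gg N63076 = N62349 := ded_36_2 (flp_d L815620) (flp_g L815592) L823761
theorem L823767 : sm gi N63076 = N62401 := ded_39_2 (flp_d L816166) (flp_i L815594) L823761
theorem L823769 : sm ge N63076 = N62534 := ded_34_2 (flp_d L820848) L820850 L815538 L815588 L823761
theorem L823771 : sm gf N62345 = N63077 := rfl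
theorem L823773 : sm ga N63077 = N62347 := ded_14_1 (flp_f L815606) (flp_a L815590) L823771
theorem L823775 : sm gi N63077 = N62402 := ded_48_2 (flp_f L816172) (flp_i L815594) L823771
theorem L823777 : sm gc N62346 = N63078 := rfl
theorem L823779 : sm ge N63078 = N62400 := ded_28_2 L816164 (flp_e L815604) L823777
theorem L823781 : sm gg N63078 = N62350 := ded_30_2 (flp_c L815632) (flp_g L815600) L823777
theorem L823783 : sm gj N63078 = N62392 := ded_31_2 (flp_c L823757) L823753 L823777
theorem L823785 : sm gi N63078 = N62403 := ded_33_2 (flp_c L816176) (flp_i L815602) L823777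
theorem L823787 : sm gb N63078 = N62364 := ded_19_1 (flp_c L815800) L805022 (flp_c L804786) (flp_b L815598) L823777
theorem L823789 : sm gd N63078 = N62389 := ded_27_2 L816052 (flp_d L810858) L810850 L815596 L823777
theorem L823791 : sm gh N62346 = N63079 := rfl
theorem L823793 : sm gb N63079 = N62348 := ded_25_1 (flp_h L815612) (flp_b L815598) L823791
theorem L823795 : sm ge N63079 = N62533 := ded_43_1 L817314 (flp_e L815604) L823791
theorem L823797 : sm gg N63079 = N62351 := ded_50_1 (flp_h L815646) (flp_g L815600) L823791
theorem L823799 : sm gi N62348 = N63080 := rfl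
theorem L823801 : sm gc N63080 = N62365 := ded_33_1 (flp_i L815812) (flp_c L815614) L823799
theorem L823803 : sm ge N63080 = N62531 := ded_44_1 L817300 (flp_e L815616) L823799
theorem L823805 : sm gg N63080 = N62352 := ded_51_1 (flp_i L815656) (flp_g L815618) L823799
theorem L823807 : sm gh N63080 = N62405 := ded_54_1 (flp_i L816192) (flp_h L805505) (flp_i L804784) L815612 L823799
theorem L823809 : sm gc N62349 = N63081 := rfl
theorem L823811 : sm ga N63081 = N62350 := ded_11_1 (flp_c L815632) (flp_a L815622) L823809
theorem L823813 : sm ge N63081 = N62443 := ded_28_2 (flp_c L816519) (flp_e L815630) L823809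
theorem L823815 : sm gf N63081 = N62523 := ded_29_2 L817227 (flp_f L815624) L823809
theorem L823817 : sm gj N63081 = N62360 := ded_31_2 (flp_c L815756) (flp_j L815626) L823809
theorem L823819 : sm gi N63081 = N62406 := ded_33_2 (flp_c L816198) (flp_i L815628) L823809
theorem L823821 : sm gd N63081 = N62438 := ded_27_2 (flp_c L820377) (flp_d L820363) L810878 L815620 L823809
theorem L823823 : sm gh N62349 = N63082 := rfl
theorem L823825 : sm ga N63082 = N62351 := ded_17_1 (flp_h L815646) (flp_a L815622) L823823
theorem L823827 : sm ge N63082 = N62532 := ded_43_1 L817308 (flp_e L815630) L823823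
theorem L823829 : sm gf N63082 = N62527 := ded_47_1 L817270 (flp_f L815624) L823823
theorem L823831 : sm gj N63082 = N62361 := ded_52_1 (flp_h L815770) (flp_j L815626) L823823
theorem L823833 : sm gi N62351 = N63083 := rfl
theorem L823835 : sm gb N63083 = N62352 := ded_26_1 (flp_i L815656) (flp_b L815648) L823833
theorem L823837 : sm ge N63083 = N62530 := ded_44_1 L817294 (flp_e L815650) L823833
theorem L823839 : sm gf N63083 = N62525 := ded_48_1 L817253 (flp_f L815652) L823833
theorem L823841 : sm gj N63083 = N62363 := ded_53_1 (flp_i L815790) (flp_j L815654) L823833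
theorem L823843 : sm gh N63083 = N62409 := ded_54_1 (flp_i L816224) (flp_h L805527) (flp_i L804812) L815646 L823833
theorem L823845 : sm gd N62354 = N63084 := rfl
theorem L823847 : sm ga N63084 = N62355 := ded_12_1 (flp_d L815694) (flp_a L815686) L823845
theorem L823849 : sm gf N63084 = N62503 := ded_35_2 L817103 (flp_f L815692) L823845
theorem L823851 : sm gj N63084 = N62357 := ded_37_2 (flp_d L815718) (flp_j L815688) L823845
theorem L823853 : sm gi N63084 = N62443 := ded_39_2 (flp_d L816511) (flp_i L815690) L823845
theorem L823855 : sm gc N63084 = N62396 := ded_27_1 (flp_d L816112) (flp_c L815962) (flp_d L820531) L820521 L823845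
theorem L823857 : sm ge N63084 = N62406 := ded_34_2 (flp_d L820818) L820804 L815169 L815684 L823845
theorem L823859 : sm gh N62355 = N63085 := rfl
theorem L823861 : sm gb N63085 = N62356 := ded_25_1 (flp_h L815708) (flp_b L815696) L823859
theorem L823863 : sm gc N63085 = N62397 := ded_32_1 (flp_h L816124) (flp_c L815704) L823859
theorem L823865 : sm ge N63085 = N62408 := ded_43_1 (flp_h L816214) (flp_e L815706) L823859
theorem L823867 : sm gf N63085 = N62501 := ded_47_1 L817084 (flp_f L815698) L823859
theorem L823869 : sm gj N63085 = N62358 := ded_52_1 (flp_h L815732) (flp_j L815700) L823859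
theorem L823871 : sm gh N62357 = N63086 := rfl
theorem L823873 : sm ga N63086 = N62358 := ded_17_1 (flp_h L815732) (flp_a L815720) L823871
theorem L823875 : sm gc N63086 = N62441 := ded_32_1 (flp_h L816493) (flp_c L815728) L823871
theorem L823877 : sm ge N63086 = N62447 := ded_43_1 (flp_h L816553) (flp_e L815730) L823871
theorem L823879 : sm gf N63086 = N62509 := ded_47_1 L817158 (flp_f L815722) L823871
theorem L823881 : sm gg N63086 = N62361 := ded_50_1 (flp_h L815770) (flp_g L815724) L823871
theorem L823883 : sm gi N62358 = N63087 := rfl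
theorem L823885 : sm gb N63087 = N62359 := ded_26_1 (flp_i L815744) (flp_b L815734) L823883
theorem L823887 : sm gc N63087 = N62442 := ded_33_1 (flp_i L816501) (flp_c L815736) L823883
theorem L823889 : sm ge N63087 = N62393 := ded_44_1 L816090 (flp_e L815738) L823883
theorem L823891 : sm gf N63087 = N62369 := ded_48_1 L815866 (flp_f L815740) L823883
theorem L823893 : sm gg N63087 = N62363 := ded_51_1 (flp_i L815790) (flp_g L815742) L823883
theorem L823895 : sm gh N63087 = N62445 := ded_54_1 (flp_i L816531) (flp_h L805912) (flp_i L804950) L815732 L823883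
theorem L823897 : sm gh N62360 = N63088 := rfl
theorem L823899 : sm ga N63088 = N62362 := ded_17_1 (flp_h L815778) (flp_a L815758) L823897
theorem L823901 : sm gc N63088 = N62361 := ded_32_1 (flp_h L815770) L815756 L823897
theorem L823903 : sm ge N63088 = N62444 := ded_43_1 (flp_h L816521) (flp_e L815760) L823897
theorem L823905 : sm gf N63088 = N62536 := ded_47_1 L817338 (flp_f L815762) L823897
theorem L823907 : sm gg N63088 = N62441 := ded_50_1 (flp_h L816493) (flp_g L815764) L823897
theorem L823909 : sm gi N62361 = N63089 := rfl
theorem L823911 : sm ga N63089 = N62363 := ded_18_1 (flp_i L815790) (flp_a L815772) L823909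
theorem L823913 : sm ge N63089 = N62545 := ded_44_1 L817393 (flp_e L815774) L823909
theorem L823915 : sm gf N63089 = N62541 := ded_48_1 L817374 (flp_f L815776) L823909
theorem L823917 : sm gh N63089 = N62448 := ded_54_1 (flp_i L816561) (flp_h L805936) (flp_i L804972) L815770 L823909
theorem L823919 : sm gd N62362 = N63090 := rfl
theorem L823921 : sm gb N63090 = N62366 := ded_20_1 (flp_d L815821) (flp_b L815780) L823919
theorem L823923 : sm gf N63090 = N62537 := ded_35_2 (flp_d L817340) (flp_f L815786) L823919
theorem L823925 : sm gg N63090 = N62432 := ded_36_2 L816411 (flp_g L815788) L823919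
theorem L823927 : sm gh N63090 = N62422 := ded_38_2 (flp_d L816342) L805666 (flp_d L804988) L815778 L823919
theorem L823929 : sm gi N62362 = N63091 := rfl
theorem L823931 : sm gb N63091 = N62367 := ded_26_1 (flp_i L815830) (flp_b L815780) L823929
theorem L823933 : sm gc N63091 = N62363 := ded_33_1 (flp_i L815790) (flp_c L815782) L823929
theorem L823935 : sm ge N63091 = N62445 := ded_44_1 (flp_i L816531) (flp_e L815784) L823929
theorem L823937 : sm gf N63091 = N62382 := ded_48_1 L815988 (flp_f L815786) L823929
theorem L823939 : sm gg N63091 = N62442 := ded_51_1 (flp_i L816501) (flp_g L815788) L823929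
theorem L823941 : sm gh N63091 = N62393 := ded_54_1 L816090 (flp_h L805940) (flp_i L804984) L815778 L823929
theorem L823943 : sm gi N62366 = N63092 := rfl
theorem L823945 : sm gc N63092 = N63092 := ded_33_1 (flp_i L823943) L815827 L823943
theorem L823946 : sm gd N63092 = N62367 := ded_39_1 (flp_i L815830) L815821 L823943
theorem L823948 : sm gf N63092 = N62383 := ded_48_1 L815994 (flp_f L815823) L823943
theorem L823950 : sm gg N63092 = N62434 := ded_51_1 (flp_i L816424) (flp_g L815825) L823943
theorem L823952 : sm ge N62368 = N63093 := rfl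
theorem L823954 : sm ga N63093 = N62369 := ded_13_1 (flp_e L815856) L815842 L823952
theorem L823956 : sm gc N63093 = N62511 := ded_28_1 (flp_e L817164) (flp_c L815844) L823952
theorem L823958 : sm gg N63093 = N62371 := ded_41_2 (flp_e L815877) (flp_g L815850) L823952
theorem L823960 : sm gh N63093 = N62538 := ded_43_2 (flp_e L817344) (flp_h L815852) L823952
theorem L823962 : sm gi N63093 = N62509 := ded_44_2 (flp_e L817152) (flp_i L815854) L823952
theorem L823964 : sm gd N62369 = N63094 := rfl
theorem L823966 : sm gb N63094 = N62370 := ded_20_1 (flp_d L815868) (flp_b L815858) L823964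
theorem L823968 : sm gg N63094 = N62372 := ded_36_2 (flp_d L815883) (flp_g L815862) L823964
theorem L823970 : sm gi N63094 = N62510 := ded_39_2 (flp_d L817160) (flp_i L815866) L823964
theorem L823972 : sm ge N63094 = N62376 := ded_34_2 (flp_d L815931) (flp_e L805238) (flp_d L805139) L815856 L823964
theorem L823974 : sm gd N62371 = N63095 := rfl
theorem L823976 : sm ga N63095 = N62372 := ded_12_1 (flp_d L815883) (flp_a L815879) L823974
theorem L823978 : sm gj N63095 = N62615 := ded_37_2 (flp_d L817869) (flp_j L815881) L823974
theorem L823980 : sm ge N63095 = N62377 := ded_34_2 (flp_d L815937) (flp_e L805249) (flp_d L805163) L815877 L823974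
theorem L823982 : sm gf N62371 = N63096 := rfl
theorem L823984 : sm ga N63096 = N62373 := ded_14_1 (flp_f L815891) (flp_a L815879) L823982
theorem L823986 : sm gb N63096 = N62594 := ded_22_1 (flp_f L823084) L823074 L823982
theorem L823988 : sm gc N63096 = N62385 := ded_29_1 (flp_f L820443) L820433 L823982
theorem L823990 : sm gj N63096 = N62411 := ded_46_2 L816252 (flp_j L815881) L823982
theorem L823992 : sm gh N63096 = N62380 := ded_47_2 (flp_f L820838) L820832 L823982
theorem L823994 : sm gi N63096 = N62539 := ded_48_2 (flp_f L820409) L820407 L823982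
theorem L823996 : sm ge N63096 = N62374 := ded_40_1 (flp_f L815907) (flp_e L805198) (flp_f L805165) L815877 L823982
theorem L823998 : sm gg N62541 = N63096 := ded_15_0 L823984 (flp_g L815905) (flp_a L817372)
theorem L824000 : sm gc N62372 = N63097 := rfl
theorem L824002 : sm ge N63097 = N62378 := ded_28_2 (flp_c L815943) (flp_e L815889) L824000
theorem L824004 : sm gj N63097 = N62616 := ded_31_2 (flp_c L817875) (flp_j L815887) L824000
theorem L824006 : sm gb N63097 = N63097 := ded_19_1 (flp_c L824000) L815885 L805179 (flp_b L815885) L824000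
theorem L824007 : sm gd N62375 = N63098 := rfl
theorem L824009 : sm ga N63098 = N62376 := ded_12_1 (flp_d L815931) (flp_a L815927) L824007
theorem L824011 : sm gg N63098 = N62377 := ded_36_2 (flp_d L815937) (flp_g L815929) L824007
theorem L824013 : sm gc N62376 = N63099 := rfl
theorem L824015 : sm gg N63099 = N62378 := ded_30_2 (flp_c L815943) (flp_g L815935) L824013
theorem L824017 : sm gb N63099 = N63099 := ded_19_1 (flp_c L824013) L815933 L805248 (flp_b L815933) L824013
theorem L824018 : sm gc N62377 = N63100 := rfl
theorem L824020 : sm ga N63100 = N62378 := ded_11_1 (flp_c L815943) (flp_a L815939) L824018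
theorem L824022 : sm gj N63100 = N62619 := ded_31_2 (flp_c L817891) (flp_j L815941) L824018
theorem L824024 : sm gh N62377 = N63101 := rfl
theorem L824026 : sm ga N63101 = N62379 := ded_17_1 (flp_h L815948) (flp_a L815939) L824024
theorem L824028 : sm gb N63101 = N62579 := ded_25_1 (flp_h L823110) L823104 L824024
theorem L824030 : sm gf N63101 = N62588 := ded_47_1 (flp_h L822754) L822750 L824024
theorem L824032 : sm gj N63101 = N62620 := ded_52_1 (flp_h L817895) (flp_j L815941) L824024
theorem L824034 : sm gd N63101 = N62574 := ded_38_1 (flp_h L821199) L821203 L813590 L815937 L824024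
theorem L824036 : sm gh N62378 = N63102 := rfl
theorem L824038 : sm gb N63102 = N63102 := ded_25_1 (flp_h L824036) L815947 L824036
theorem L824039 : sm gc N63102 = N62379 := ded_32_1 (flp_h L815948) L815943 L824036
theorem L824041 : sm gf N63102 = N62589 := ded_47_1 (flp_h L822762) L822758 L824036
theorem L824043 : sm gj N63102 = N62621 := ded_52_1 (flp_h L817899) (flp_j L815945) L824036
theorem L824045 : sm ge N62381 = N63103 := rfl
theorem L824047 : sm ga N63103 = N62382 := ded_13_1 (flp_e L815978) L815966 L824045
theorem L824049 : sm gc N63103 = N62541 := ded_28_1 (flp_e L817370) (flp_c L815968) L824045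
theorem L824051 : sm gg N63103 = N62385 := ded_41_2 (flp_e L816013) (flp_g L815972) L824045
theorem L824053 : sm gh N63103 = N62391 := ded_43_2 (flp_e L816068) (flp_h L815974) L824045
theorem L824055 : sm gi N63103 = N62536 := ded_44_2 (flp_e L817332) (flp_i L815976) L824045
theorem L824057 : sm gd N62382 = N63104 := rfl
theorem L824059 : sm gb N63104 = N62383 := ded_20_1 (flp_d L815990) (flp_b L815980) L824057
theorem L824061 : sm gg N63104 = N62386 := ded_36_2 (flp_d L816021) (flp_g L815984) L824057
theorem L824063 : sm gi N63104 = N62537 := ded_39_2 (flp_d L817340) (flp_i L815988) L824057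
theorem L824065 : sm gd N62385 = N63105 := rfl
theorem L824067 : sm ga N63105 = N62386 := ded_12_1 (flp_d L816021) (flp_a L816015) L824065
theorem L824069 : sm gj N63105 = N62428 := ded_37_2 (flp_d L816378) (flp_j L816017) L824065
theorem L824071 : sm gc N62386 = N63106 := rfl
theorem L824073 : sm gj N63106 = N62430 := ded_31_2 (flp_c L816394) (flp_j L816025) L824071
theorem L824075 : sm gb N63106 = N63106 := ded_19_1 (flp_c L824071) L816023 L805360 (flp_b L816023) L824071
theorem L824076 : sm gh N62386 = N63107 := rfl
theorem L824078 : sm gb N63107 = N62387 := ded_25_1 (flp_h L816027) (flp_b L816023) L824076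
theorem L824080 : sm gf N63107 = N62508 := ded_47_1 (flp_h L820459) L820449 L824076
theorem L824082 : sm gj N63107 = N62432 := ded_52_1 (flp_h L816405) (flp_j L816025) L824076
theorem L824084 : sm gd N63107 = N62397 := ded_38_1 (flp_h L816124) (flp_d L805443) (flp_h L805354) L816021 L824076
theorem L824086 : sm gi N62387 = N63108 := rfl
theorem L824088 : sm gc N63108 = N63108 := ded_33_1 (flp_i L824086) L816029 L824086
theorem L824089 : sm gd N63108 = N62398 := ded_39_1 (flp_i L816134) (flp_d L816034) L824086
theorem L824091 : sm gf N63108 = N62506 := ded_48_1 L817131 (flp_f L816030) L824086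
theorem L824093 : sm gj N63108 = N62434 := ded_53_1 (flp_i L816424) (flp_j L816032) L824086
theorem L824095 : sm ge N62388 = N63109 := rfl
theorem L824097 : sm ga N63109 = N62389 := ded_13_1 (flp_e L816048) L816036 L824095
theorem L824099 : sm gc N63109 = N62593 := ded_28_1 (flp_e L817723) (flp_c L816038) L824095
theorem L824101 : sm gg N63109 = N62438 := ded_41_2 (flp_e L816467) (flp_g L816042) L824095
theorem L824103 : sm gj N63109 = N62391 := ded_42_2 (flp_e L816068) (flp_j L816044) L824095
theorem L824105 : sm gi N63109 = N62591 := ded_44_2 (flp_e L817711) (flp_i L816046) L824095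
theorem L824107 : sm gf N62389 = N63110 := rfl
theorem L824109 : sm gb N63110 = N62390 := ded_22_1 (flp_f L816060) (flp_b L816050) L824107
theorem L824111 : sm gc N63110 = N62409 := ded_29_1 L816228 (flp_c L816052) L824107
theorem L824113 : sm gj N63110 = N62393 := ded_46_2 (flp_f L816084) (flp_j L816056) L824107
theorem L824115 : sm gi N63110 = N62408 := ded_48_2 L816220 (flp_i L816058) L824107
theorem L824117 : sm gd N62391 = N63111 := rfl
theorem L824119 : sm ga N63111 = N62392 := ded_12_1 (flp_d L816074) (flp_a L816070) L824117
theorem L824121 : sm gg N63111 = N62396 := ded_36_2 (flp_d L816112) (flp_g L816072) L824117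
theorem L824123 : sm gi N63111 = N62534 := ded_39_2 (flp_d L820848) L820854 L824117
theorem L824125 : sm ge N63111 = N62401 := ded_34_2 (flp_d L816166) (flp_e L805489) (flp_d L805409) L816068 L824117
theorem L824127 : sm gf N62391 = N63112 := rfl
theorem L824129 : sm ga N63112 = N62393 := ded_14_1 (flp_f L816084) (flp_a L816070) L824127
theorem L824131 : sm gc N63112 = N62448 := ded_29_1 (flp_f L822777) L822771 L824127
theorem L824133 : sm gi N63112 = N62447 := ded_48_2 (flp_f L820856) L820854 L824127
theorem L824135 : sm gg N63112 = N62545 := ded_45_2 (flp_f L817389) (flp_g L811591) L811599 (flp_g L816072) L824127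
theorem L824137 : sm gf N62392 = N63113 := rfl
theorem L824139 : sm gb N63113 = N62394 := ded_22_1 (flp_f L816094) (flp_b L816076) L824137
theorem L824141 : sm gd N63113 = N62393 := ded_35_1 (flp_f L816084) L816074 L824137
theorem L824143 : sm gi N63113 = N62449 := ded_48_2 L816569 (flp_i L816080) L824137
theorem L824145 : sm gg N63113 = N62499 := ded_45_2 (flp_f L817058) L806681 (flp_f L805447) (flp_g L816078) L824137
theorem L824147 : sm gh N62392 = N63114 := rfl
theorem L824149 : sm gb N63114 = N62395 := ded_25_1 (flp_h L816104) (flp_b L816076) L824147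
theorem L824151 : sm ge N63114 = N62404 := ded_43_1 (flp_h L816186) (flp_e L816082) L824147
theorem L824153 : sm gg N63114 = N62397 := ded_50_1 (flp_h L816124) (flp_g L816078) L824147
theorem L824155 : sm gh N62394 = N63115 := rfl
theorem L824157 : sm gc N63115 = N62450 := ded_32_1 (flp_h L816573) (flp_c L816096) L824155
theorem L824159 : sm gf N63115 = N62395 := ded_47_1 (flp_h L816104) L816094 L824155
theorem L824161 : sm gg N63115 = N62497 := ded_50_1 L817046 (flp_g L816102) L824155
theorem L824163 : sm gi N62395 = N63116 := rfl
theorem L824165 : sm gc N63116 = N62451 := ded_33_1 (flp_i L816580) (flp_c L816106) L824163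
theorem L824167 : sm ge N63116 = N62405 := ded_44_1 (flp_i L816192) (flp_e L816108) L824163
theorem L824169 : sm gg N63116 = N62398 := ded_51_1 (flp_i L816134) (flp_g L816110) L824163
theorem L824171 : sm gh N63116 = N62531 := ded_54_1 L817300 L807047 (flp_i L805423) L816104 L824163
theorem L824173 : sm gh N62396 = N63117 := rfl
theorem L824175 : sm ga N63117 = N62397 := ded_17_1 (flp_h L816124) (flp_a L816114) L824173
theorem L824177 : sm ge N63117 = N62407 := ded_43_1 (flp_h L816206) (flp_e L816122) L824173
theorem L824179 : sm gf N63117 = N62507 := ded_47_1 L817142 (flp_f L816116) L824173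
theorem L824181 : sm gj N63117 = N62441 := ded_52_1 (flp_h L816493) (flp_j L816118) L824173
theorem L824183 : sm gi N62397 = N63118 := rfl
theorem L824185 : sm gb N63118 = N62398 := ded_26_1 (flp_i L816134) (flp_b L816126) L824183
theorem L824187 : sm ge N63118 = N62409 := ded_44_1 (flp_i L816224) (flp_e L816128) L824183
theorem L824189 : sm gf N63118 = N62505 := ded_48_1 L817125 (flp_f L816130) L824183
theorem L824191 : sm gj N63118 = N62442 := ded_53_1 (flp_i L816501) (flp_j L816132) L824183
theorem L824193 : sm gh N63118 = N62530 := ded_54_1 L817294 L807041 (flp_i L805451) L816124 L824183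
theorem L824195 : sm gd N62399 = N63119 := rfl
theorem L824197 : sm ga N63119 = N62400 := ded_12_1 (flp_d L816156) (flp_a L816148) L824195
theorem L824199 : sm gg N63119 = N62443 := ded_36_2 (flp_d L816511) (flp_g L816150) L824195
theorem L824201 : sm gj N63119 = N62401 := ded_37_2 (flp_d L816166) (flp_j L816152) L824195
theorem L824203 : sm gc N63119 = N62534 := ded_27_1 (flp_d L820848) L820846 (flp_d L820782) L820772 L824195
theorem L824205 : sm gc N62401 = N63120 := rfl
theorem L824207 : sm ga N63120 = N62403 := ded_11_1 (flp_c L816176) (flp_a L816168) L824205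
theorem L824209 : sm gg N63120 = N62406 := ded_30_2 (flp_c L816198) (flp_g L816170) L824205
theorem L824211 : sm gj N63120 = N62534 := ded_31_2 (flp_c L824203) L824201 L824205
theorem L824213 : sm gd N63120 = N62591 := ded_27_2 L817715 (flp_d L811439) L811433 L816166 L824205
theorem L824215 : sm gh N62401 = N63121 := rfl
theorem L824217 : sm ga N63121 = N62404 := ded_17_1 (flp_h L816186) (flp_a L816168) L824215
theorem L824219 : sm gg N63121 = N62407 := ded_50_1 (flp_h L816206) (flp_g L816170) L824215
theorem L824221 : sm gi N62404 = N63122 := rfl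
theorem L824223 : sm gb N63122 = N62405 := ded_26_1 (flp_i L816192) (flp_b L816188) L824221
theorem L824225 : sm gg N63122 = N62409 := ded_51_1 (flp_i L816224) (flp_g L816190) L824221
theorem L824227 : sm gb N62406 = N63123 := rfl
theorem L824229 : sm gd N63123 = N62472 := ded_20_2 (flp_b L820816) L820818 L824227
theorem L824231 : sm gf N63123 = N62590 := ded_22_2 L817705 (flp_f L816202) L824227
theorem L824233 : sm gj N63123 = N62446 := ded_24_2 (flp_b L816541) (flp_j L816204) L824227
theorem L824235 : sm ga N63123 = N62453 := ded_10_1 (flp_b L816599) L806004 (flp_b L805525) (flp_a L816200) L824227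
theorem L824237 : sm gc N63123 = N62622 := ded_19_2 (flp_b L818927) L818929 L814876 L816198 L824227
theorem L824239 : sm gh N62406 = N63124 := rfl
theorem L824241 : sm ga N63124 = N62408 := ded_17_1 (flp_h L816214) (flp_a L816200) L824239
theorem L824243 : sm gc N63124 = N62407 := ded_32_1 (flp_h L816206) L816198 L824239
theorem L824245 : sm gf N63124 = N62591 := ded_47_1 L817717 (flp_f L816202) L824239
theorem L824247 : sm gj N63124 = N62447 := ded_52_1 (flp_h L816553) (flp_j L816204) L824239
theorem L824249 : sm gi N62407 = N63125 := rfl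
theorem L824251 : sm ga N63125 = N62409 := ded_18_1 (flp_i L816224) (flp_a L816208) L824249
theorem L824253 : sm gf N63125 = N62593 := ded_48_1 L817727 (flp_f L816210) L824249
theorem L824255 : sm gj N63125 = N62448 := ded_53_1 (flp_i L816561) (flp_j L816212) L824249
theorem L824257 : sm gd N62411 = N63126 := rfl
theorem L824259 : sm ga N63126 = N62412 := ded_12_1 (flp_d L816254) (flp_a L816246) L824257
theorem L824261 : sm gf N63126 = N62615 := ded_35_2 (flp_d L817869) (flp_f L816252) L824257
theorem L824263 : sm gh N63126 = N62596 := ded_38_2 (flp_d L817743) (flp_h L811151) L811155 (flp_h L816250) L824257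
theorem L824265 : sm gc N62412 = N63127 := rfl
theorem L824267 : sm gf N63127 = N62616 := ded_29_2 (flp_c L817875) (flp_f L816258) L824265
theorem L824269 : sm gh N63127 = N62597 := ded_32_2 (flp_c L817749) (flp_h L816260) L824265
theorem L824271 : sm gb N63127 = N63127 := ded_19_1 (flp_c L824265) L816256 L805575 (flp_b L816256) L824265
theorem L824272 : sm gd N63127 = N62430 := ded_27_2 (flp_c L816394) (flp_d L805704) (flp_c L805565) L816254 L824265
theorem L824274 : sm ge N62413 = N63128 := rfl
theorem L824276 : sm ga N63128 = N62414 := ded_13_1 (flp_e L816274) L816262 L824274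
theorem L824278 : sm gb N63128 = N62515 := ded_21_1 (flp_e L817185) (flp_b L816272) L824274
theorem L824280 : sm gj N63128 = N62421 := ded_42_2 (flp_e L816334) (flp_j L816268) L824274
theorem L824282 : sm gh N63128 = N62438 := ded_43_2 (flp_e L816467) (flp_h L816270) L824274
theorem L824284 : sm gd N62414 = N63129 := rfl
theorem L824286 : sm gb N63129 = N62415 := ded_20_1 (flp_d L816282) (flp_b L816276) L824284
theorem L824288 : sm gj N63129 = N62422 := ded_37_2 (flp_d L816342) (flp_j L816278) L824284
theorem L824290 : sm ge N63129 = N62470 := ded_34_2 (flp_d L816785) (flp_e L806315) (flp_d L805600) L816274 L824284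
theorem L824292 : sm gf N62414 = N63130 := rfl
theorem L824294 : sm gb N63130 = N62416 := ded_22_1 (flp_f L816291) (flp_b L816276) L824292
theorem L824296 : sm gj N63130 = N62423 := ded_46_2 (flp_f L816348) (flp_j L816278) L824292
theorem L824298 : sm gh N63130 = N62439 := ded_47_2 (flp_f L816473) (flp_h L816280) L824292
theorem L824300 : sm ge N63130 = N62468 := ded_40_1 (flp_f L816767) (flp_e L806285) (flp_f L805602) L816274 L824292
theorem L824302 : sm ge N62417 = N63131 := rfl
theorem L824304 : sm ga N63131 = N62418 := ded_13_1 (flp_e L816311) L816303 L824302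
theorem L824306 : sm gg N63131 = N62425 := ded_41_2 (flp_e L816363) (flp_g L816307) L824302
theorem L824308 : sm gi N63131 = N62421 := ded_44_2 (flp_e L816334) (flp_i L816309) L824302
theorem L824310 : sm gd N62418 = N63132 := rfl
theorem L824312 : sm gb N63132 = N62419 := ded_20_1 (flp_d L816319) (flp_b L816313) L824310
theorem L824314 : sm gg N63132 = N62426 := ded_36_2 (flp_d L816369) (flp_g L816315) L824310
theorem L824316 : sm gi N63132 = N62422 := ded_39_2 (flp_d L816342) (flp_i L816317) L824310
theorem L824318 : sm gf N62418 = N63133 := rfl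
theorem L824320 : sm gb N63133 = N62420 := ded_22_1 (flp_f L816326) (flp_b L816313) L824318
theorem L824322 : sm gi N63133 = N62423 := ded_48_2 (flp_f L816348) (flp_i L816317) L824318
theorem L824324 : sm ge N63133 = N62625 := ded_40_1 L817932 (flp_e L808096) (flp_f L805631) L816311 L824318
theorem L824326 : sm gf N62419 = N63134 := rfl
theorem L824328 : sm gc N63134 = N63134 := ded_29_1 (flp_f L824326) L816325 L824326
theorem L824329 : sm gd N63134 = N62420 := ded_35_1 (flp_f L816326) L816319 L824326
theorem L824331 : sm gi N63134 = N62424 := ded_48_2 (flp_f L816356) (flp_i L816323) L824326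
theorem L824333 : sm gh N62419 = N63135 := rfl
theorem L824335 : sm gc N63135 = N63135 := ded_32_1 (flp_h L824333) L816325 L824333
theorem L824336 : sm gg N63135 = N62427 := ded_50_1 (flp_h L816375) (flp_g L816321) L824333
theorem L824338 : sm gd N62421 = N63136 := rfl
theorem L824340 : sm ga N63136 = N62422 := ded_12_1 (flp_d L816342) (flp_a L816336) L824338
theorem L824342 : sm gg N63136 = N62428 := ded_36_2 (flp_d L816378) (flp_g L816338) L824338
theorem L824344 : sm gf N62421 = N63137 := rfl
theorem L824346 : sm ga N63137 = N62423 := ded_14_1 (flp_f L816348) (flp_a L816336) L824344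
theorem L824348 : sm gh N63137 = N62440 := ded_47_2 (flp_f L816485) (flp_h L816340) L824344
theorem L824350 : sm ge N63137 = N62624 := ded_40_1 L817926 (flp_e L808104) (flp_f L805654) L816334 L824344
theorem L824352 : sm gc N62422 = N63138 := rfl
theorem L824354 : sm gg N63138 = N62430 := ded_30_2 (flp_c L816394) (flp_g L816346) L824352
theorem L824356 : sm gb N63138 = N63138 := ded_19_1 (flp_c L824352) L816344 L805672 (flp_b L816344) L824352
theorem L824357 : sm gf N62422 = N63139 := rfl
theorem L824359 : sm gb N63139 = N62424 := ded_22_1 (flp_f L816356) (flp_b L816344) L824357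
theorem L824361 : sm gd N63139 = N62423 := ded_35_1 (flp_f L816348) L816342 L824357
theorem L824363 : sm gh N63139 = N62537 := ded_47_2 (flp_f L823923) L823927 L824357
theorem L824365 : sm gd N62425 = N63140 := rfl
theorem L824367 : sm ga N63140 = N62426 := ded_12_1 (flp_d L816369) (flp_a L816365) L824365
theorem L824369 : sm gi N63140 = N62428 := ded_39_2 (flp_d L816378) (flp_i L816367) L824365
theorem L824371 : sm gc N62426 = N63141 := rfl
theorem L824373 : sm gi N63141 = N62430 := ded_33_2 (flp_c L816394) (flp_i L816373) L824371
theorem L824375 : sm gb N63141 = N63141 := ded_19_1 (flp_c L824371) L816371 L805697 (flp_b L816371) L824371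
theorem L824376 : sm gh N62426 = N63142 := rfl
theorem L824378 : sm gb N63142 = N62427 := ded_25_1 (flp_h L816375) (flp_b L816371) L824376
theorem L824380 : sm gi N62427 = N63143 := rfl
theorem L824382 : sm gc N63143 = N63143 := ded_33_1 (flp_i L824380) L816377 L824380
theorem L824383 : sm gd N63143 = N62497 := ded_39_1 (flp_i L818501) L818495 L824380
theorem L824385 : sm gf N63143 = N62496 := ded_48_1 (flp_i L818480) (flp_f L818487) L824380
theorem L824387 : sm gh N63143 = N62434 := ded_54_1 (flp_i L816424) (flp_h L805727) (flp_i L805695) L816375 L824380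
theorem L824389 : sm gc N62428 = N63144 := rfl
theorem L824391 : sm ga N63144 = N62430 := ded_11_1 (flp_c L816394) (flp_a L816380) L824389
theorem L824393 : sm gf N62428 = N63145 := rfl
theorem L824395 : sm ga N63145 = N62431 := ded_14_1 (flp_f L816397) (flp_a L816380) L824393
theorem L824397 : sm gb N63145 = N62612 := ded_22_1 (flp_f L823244) L823242 L824393
theorem L824399 : sm gd N63145 = N62429 := ded_35_1 (flp_f L816382) L816378 L824393
theorem L824401 : sm gh N62513 = N63145 := ded_56_0 (flp_f L824393) (flp_e L822478) (flp_d L822474) (flp_c L822350) L822348 L817444 L807291 L807312 (flp_e L808232) (flp_d L808218) L796717 L788914 (flp_a L788462) L788470 L778704 (flp_e L768286) (flp_d L768260) (flp_c L768252) (flp_b L763291) L763289 (flp_h L764012) (flp_f L775479) L775487 (flp_d L769266) (flp_c L766752) L766750 (flp_a L765253) (flp_h L765251) (flp_f L765245) L765244 L765242 L754939 L741724 L725171 L726382 (flp_f L743436) L743435 L757410 L769189 L780682 L792989 (flp_h L802436) L802432 (flp_e L800968) L800966 L795675 (flp_b L784976) (flp_a L784964) L773389 L764671 (flp_e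 L762644) (flp_d L774150) (flp_c L785759) (flp_b L785747) L774031 (flp_h L782633) L782629 L782654 L794865 L794867 (flp_b L806870) (flp_a L817180)
theorem L824403 : sm gh N62428 = N63146 := rfl
theorem L824405 : sm ga N63146 = N62432 := ded_17_1 (flp_h L816405) (flp_a L816380) L824403
theorem L824407 : sm gf N63146 = N62513 := ded_47_1 L824401 (flp_f L824393) L824403
theorem L824409 : sm gd N63146 = N62441 := ded_38_1 (flp_h L816493) (flp_d L805842) (flp_h L805702) L816378 L824403
theorem L824411 : sm gf N62430 = N63147 := rfl
theorem L824413 : sm gb N63147 = N63147 := ded_22_1 (flp_f L824411) L816396 L824411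
theorem L824414 : sm gc N63147 = N62431 := ded_29_1 (flp_f L816397) L816394 L824411
theorem L824416 : sm gd N63147 = N62616 := ded_35_1 (flp_f L824267) L824272 L824411
theorem L824418 : sm gh N62514 = N63147 := ded_32_0 L824414 (flp_h L816403) L817182
theorem L824420 : sm gh N62430 = N63148 := rfl
theorem L824422 : sm gb N63148 = N63148 := ded_25_1 (flp_h L824420) L816396 L824420
theorem L824423 : sm gc N63148 = N62432 := ded_32_1 (flp_h L816405) L816394 L824420
theorem L824425 : sm gf N63148 = N62514 := ded_47_1 L824418 (flp_f L824411) L824420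
theorem L824427 : sm ge N62431 = N63149 := rfl
theorem L824429 : sm gb N63149 = N62433 := ded_21_1 (flp_e L816413) (flp_b L816399) L824427
theorem L824431 : sm gj N63149 = N62464 := ded_42_2 (flp_e L820457) L820453 L824427
theorem L824433 : sm gh N63149 = N62493 := ded_43_2 L817015 L816403 L824427
theorem L824435 : sm gd N63149 = N62437 := ded_34_1 (flp_e L816457) L805786 (flp_e L805716) (flp_d L816401) L824427
theorem L824437 : sm gi N62432 = N63150 := rfl
theorem L824439 : sm gb N63150 = N62434 := ded_26_1 (flp_i L816424) (flp_b L816407) L824437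
theorem L824441 : sm gd N63150 = N62442 := ded_39_1 (flp_i L816501) (flp_d L816411) L824437
theorem L824443 : sm gf N63150 = N62512 := ded_48_1 L817176 (flp_f L816409) L824437
theorem L824445 : sm ge N62436 = N63151 := rfl
theorem L824447 : sm ga N63151 = N62437 := ded_13_1 (flp_e L816457) (flp_a L816445) L824445
theorem L824449 : sm gb N63151 = N62507 := ded_21_1 (flp_e L817136) (flp_b L816447) L824445
theorem L824451 : sm gc N63151 = N62515 := ded_28_1 (flp_e L817185) (flp_c L816449) L824445
theorem L824453 : sm gj N63151 = N62463 := ded_42_2 (flp_e L816715) (flp_j L816453) L824445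
theorem L824455 : sm gh N63151 = N62462 := ded_43_2 (flp_e L816703) (flp_h L816455) L824445
theorem L824457 : sm gf N62438 = N63152 := rfl
theorem L824459 : sm ga N63152 = N62439 := ded_14_1 (flp_f L816473) (flp_a L816469) L824457
theorem L824461 : sm gd N63152 = N62523 := ded_35_1 (flp_f L823815) L823821 L824457
theorem L824463 : sm gj N63152 = N62440 := ded_46_2 (flp_f L816485) (flp_j L816471) L824457
theorem L824465 : sm gi N63152 = N62592 := ded_48_2 (flp_f L820806) L820814 L824457
theorem L824467 : sm ge N63152 = N62622 := ded_40_1 L817908 L808124 (flp_f L805806) L816467 L824457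
theorem L824469 : sm gi N62441 = N63153 := rfl
theorem L824471 : sm ga N63153 = N62442 := ded_18_1 (flp_i L816501) (flp_a L816495) L824469
theorem L824473 : sm ge N63153 = N62448 := ded_44_1 (flp_i L816561) (flp_e L816497) L824469
theorem L824475 : sm gf N63153 = N62511 := ded_48_1 L817170 (flp_f L816499) L824469
theorem L824477 : sm gh N63153 = N62545 := ded_54_1 L817393 L807224 (flp_i L805846) L816493 L824469
theorem L824479 : sm gi N62444 = N63154 := rfl
theorem L824481 : sm ga N63154 = N62445 := ded_18_1 (flp_i L816531) (flp_a L816523) L824479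
theorem L824483 : sm gc N63154 = N62545 := ded_33_1 L817393 (flp_c L816525) L824479
theorem L824485 : sm gf N63154 = N62538 := ded_48_1 L817350 (flp_f L816527) L824479
theorem L824487 : sm gg N63154 = N62448 := ded_51_1 (flp_i L816561) (flp_g L816529) L824479
theorem L824489 : sm gh N62446 = N63155 := rfl
theorem L824491 : sm ga N63155 = N62455 := ded_17_1 (flp_h L816619) (flp_a L816549) L824489
theorem L824493 : sm gb N63155 = N62447 := ded_25_1 (flp_h L816553) L816541 L824489
theorem L824495 : sm gc N63155 = N62624 := ded_32_1 (flp_h L817922) (flp_c L816551) L824489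
theorem L824497 : sm gf N63155 = N62623 := ded_47_1 L817920 (flp_f L816545) L824489
theorem L824499 : sm gg N63155 = N62489 := ded_50_1 L816975 (flp_g L816547) L824489
theorem L824501 : sm gd N62447 = N63156 := rfl
theorem L824503 : sm ga N63156 = N62449 := ded_12_1 (flp_d L816565) (flp_a L816555) L824501
theorem L824505 : sm gf N63156 = N62534 := ded_35_2 (flp_d L820848) L820856 L824501
theorem L824507 : sm gg N63156 = N62518 := ded_36_2 L817205 (flp_g L816559) L824501
theorem L824509 : sm ge N62449 = N63157 := rfl
theorem L824511 : sm gb N63157 = N62457 := ded_21_1 (flp_e L816641) (flp_b L816567) L824509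
theorem L824513 : sm gg N63157 = N62517 := ded_41_2 L817199 (flp_g L816571) L824509
theorem L824515 : sm gb N62452 = N63158 := rfl
theorem L824517 : sm gd N63158 = N62466 := ded_20_2 L816743 (flp_d L816597) L824515
theorem L824519 : sm gg N63158 = N62453 := ded_23_2 (flp_b L816599) (flp_g L816593) L824515
theorem L824521 : sm gj N63158 = N62482 := ded_24_2 L816909 (flp_j L816595) L824515
theorem L824523 : sm gc N63158 = N62484 := ded_19_2 L816925 L806488 (flp_b L805982) L816589 L824515
theorem L824525 : sm gh N62453 = N63159 := rfl
theorem L824527 : sm gb N63159 = N62454 := ded_25_1 (flp_h L816609) L816599 L824525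
theorem L824529 : sm gc N63159 = N62468 := ded_32_1 L816775 (flp_c L816607) L824525
theorem L824531 : sm gf N63159 = N62466 := ded_47_1 L816751 (flp_f L816603) L824525
theorem L824533 : sm gj N63159 = N62455 := ded_52_1 (flp_h L816619) (flp_j L816605) L824525
theorem L824535 : sm gd N62455 = N63160 := rfl
theorem L824537 : sm gb N63160 = N62456 := ded_20_1 (flp_d L816629) (flp_b L816621) L824535
theorem L824539 : sm gf N63160 = N62482 := ded_35_2 L816911 (flp_f L816625) L824535
theorem L824541 : sm gg N63160 = N62468 := ded_36_2 L816771 (flp_g L816627) L824535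
theorem L824543 : sm gh N63160 = N62484 := ded_38_2 (flp_d L816923) L806482 (flp_d L806034) L816619 L824535
theorem L824545 : sm gd N62459 = N63161 := rfl
theorem L824547 : sm ga N63161 = N62460 := ded_12_1 (flp_d L816677) (flp_a L816663) L824545
theorem L824549 : sm gb N63161 = N62617 := ded_20_1 (flp_d L817880) (flp_b L816665) L824545
theorem L824551 : sm gf N63161 = N62519 := ded_35_2 (flp_d L817207) (flp_f L816675) L824545
theorem L824553 : sm gg N63161 = N62588 := ded_36_2 (flp_d L817692) (flp_g L816669) L824545
theorem L824555 : sm gj N63161 = N62572 := ded_37_2 (flp_d L817589) (flp_j L816671) L824545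
theorem L824557 : sm ge N63161 = N62543 := ded_34_2 (flp_d L817382) (flp_e L807198) (flp_d L806107) L816661 L824545
theorem L824559 : sm gc N62460 = N63162 := rfl
theorem L824561 : sm ge N63162 = N62544 := ded_28_2 (flp_c L817386) (flp_e L816687) L824559
theorem L824563 : sm gf N63162 = N62520 := ded_29_2 (flp_c L817211) (flp_f L816681) L824559
theorem L824565 : sm gg N63162 = N62589 := ded_30_2 (flp_c L817698) (flp_g L816683) L824559
theorem L824567 : sm gj N63162 = N62573 := ded_31_2 (flp_c L817593) (flp_j L816685) L824559
theorem L824569 : sm gb N63162 = N63162 := ded_19_1 (flp_c L824559) L816679 L806143 (flp_b L816679) L824559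
theorem L824570 : sm gd N63162 = N62580 := ded_27_2 (flp_c L817640) (flp_d L807628) (flp_c L806123) L816677 L824559
theorem L824572 : sm gd N62463 = N63163 := rfl
theorem L824574 : sm ga N63163 = N62464 := ded_12_1 (flp_d L816723) (flp_a L816717) L824572
theorem L824576 : sm gb N63163 = N62513 := ded_20_1 (flp_d L817178) (flp_b L816719) L824572
theorem L824578 : sm gh N63163 = N62612 := ded_38_2 (flp_d L817852) L807949 (flp_d L806249) (flp_h L816721) L824572
theorem L824580 : sm gc N62464 = N63164 := rfl
theorem L824582 : sm gh N63164 = N62613 := ded_32_2 (flp_c L817856) (flp_h L816727) L824580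
theorem L824584 : sm gb N63164 = N63164 := ded_19_1 (flp_c L824580) L816725 L806238 (flp_b L816725) L824580
theorem L824585 : sm ge N62465 = N63165 := rfl
theorem L824587 : sm ga N63165 = N62466 := ded_13_1 (flp_e L816741) L816729 L824585
theorem L824589 : sm gb N63165 = N62591 := ded_21_1 (flp_e L817711) (flp_b L816739) L824585
theorem L824591 : sm gc N63165 = N62467 := ded_28_1 (flp_e L816753) (flp_c L816731) L824585
theorem L824593 : sm gg N63165 = N62472 := ded_41_2 (flp_e L816800) (flp_g L816733) L824585
theorem L824595 : sm gj N63165 = N62623 := ded_42_2 L817918 (flp_j L816735) L824585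
theorem L824597 : sm gh N63165 = N62590 := ded_43_2 (flp_e L817701) (flp_h L816737) L824585
theorem L824599 : sm gf N62467 = N63166 := rfl
theorem L824601 : sm ga N63166 = N62468 := ded_14_1 (flp_f L816767) (flp_a L816755) L824599
theorem L824603 : sm gb N63166 = N62518 := ded_22_1 (flp_f L817201) (flp_b L816757) L824599
theorem L824605 : sm gd N63166 = N62489 := ded_35_1 (flp_f L816969) (flp_d L816765) L824599
theorem L824607 : sm gj N63166 = N62624 := ded_46_2 L817926 (flp_j L816761) L824599
theorem L824609 : sm gh N63166 = N62622 := ded_47_2 L817908 (flp_h L816763) L824599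
theorem L824611 : sm gd N62469 = N63167 := rfl
theorem L824613 : sm ga N63167 = N62470 := ded_12_1 (flp_d L816785) (flp_a L816779) L824611
theorem L824615 : sm gb N63167 = N62519 := ded_20_1 (flp_d L817207) (flp_b L816781) L824611
theorem L824617 : sm gf N63167 = N62617 := ded_35_2 (flp_d L817880) (flp_f L816783) L824611
theorem L824619 : sm gc N62470 = N63168 := rfl
theorem L824621 : sm gf N63168 = N62618 := ded_29_2 (flp_c L817886) (flp_f L816789) L824619
theorem L824623 : sm gb N63168 = N63168 := ded_19_1 (flp_c L824619) L816787 L806327 (flp_b L816787) L824619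
theorem L824624 : sm gh N62470 = N63169 := rfl
theorem L824626 : sm gb N63169 = N62471 := ded_25_1 (flp_h L816791) (flp_b L816787) L824624
theorem L824628 : sm gf N63169 = N62561 := ded_47_1 L817517 (flp_f L816789) L824624
theorem L824630 : sm gd N63169 = N62562 := ded_38_1 L817523 (flp_d L808158) L808154 L816785 L824624
theorem L824632 : sm gi N62471 = N63170 := rfl
theorem L824634 : sm ga N63170 = N62522 := ded_18_1 (flp_i L817220) (flp_a L816793) L824632
theorem L824636 : sm gc N63170 = N63170 := ded_33_1 (flp_i L824632) L816795 L824632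
theorem L824637 : sm gd N63170 = N62559 := ded_39_1 L817499 (flp_d L816798) L824632
theorem L824639 : sm gf N63170 = N62558 := ded_48_1 L817490 (flp_f L816796) L824632
theorem L824641 : sm gf N62472 = N63171 := rfl
theorem L824643 : sm ga N63171 = N62473 := ded_14_1 (flp_f L816808) (flp_a L816802) L824641
theorem L824645 : sm gb N63171 = N62592 := ded_22_1 (flp_f L820806) L820816 L824641
theorem L824647 : sm gc N63171 = N62481 := ded_29_1 (flp_f L816897) (flp_c L816804) L824641
theorem L824649 : sm gd N63171 = N62590 := ded_35_1 (flp_f L824231) L824229 L824641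
theorem L824651 : sm gj N63171 = N62486 := ded_46_2 (flp_f L816939) (flp_j L816806) L824641
theorem L824653 : sm ge N62474 = N63172 := rfl
theorem L824655 : sm ga N63172 = N62475 := ded_13_1 (flp_e L816830) L816818 L824653
theorem L824657 : sm gb N63172 = N62527 := ded_21_1 (flp_e L817264) (flp_b L816828) L824653
theorem L824659 : sm gj N63172 = N62487 := ded_42_2 (flp_e L816949) (flp_j L816824) L824653
theorem L824661 : sm gh N63172 = N62480 := ded_43_2 (flp_e L816885) (flp_h L816826) L824653
theorem L824663 : sm gd N62475 = N63173 := rfl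
theorem L824665 : sm gb N63173 = N62476 := ded_20_1 (flp_d L816838) (flp_b L816832) L824663
theorem L824667 : sm gj N63173 = N62488 := ded_37_2 (flp_d L816959) (flp_j L816834) L824663
theorem L824669 : sm ge N63173 = N62569 := ded_34_2 (flp_d L817569) (flp_e L807442) (flp_d L806354) L816830 L824663
theorem L824671 : sm gh N63173 = N62583 := ded_38_2 (flp_d L817661) L807666 (flp_d L806438) (flp_h L816836) L824663
theorem L824673 : sm gf N62477 = N63174 := rfl
theorem L824675 : sm ga N63174 = N62478 := ded_14_1 (flp_f L816863) (flp_a L816851) L824673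
theorem L824677 : sm gb N63174 = N62532 := ded_22_1 (flp_f L817302) (flp_b L816853) L824673
theorem L824679 : sm gd N63174 = N62624 := ded_35_1 L817926 (flp_d L816861) L824673
theorem L824681 : sm gj N63174 = N62489 := ded_46_2 (flp_f L816969) (flp_j L816857) L824673
theorem L824683 : sm gh N63174 = N62481 := ded_47_2 (flp_f L816897) (flp_h L816859) L824673
theorem L824685 : sm gg N62478 = N63175 := rfl
theorem L824687 : sm gb N63175 = N62479 := ded_23_1 (flp_g L816873) (flp_b L816865) L824685
theorem L824689 : sm gd N63175 = N62485 := ded_36_1 L816937 (flp_d L816867) L824685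
theorem L824691 : sm gh N63175 = N62482 := ded_50_2 (flp_g L816907) (flp_h L816871) L824685
theorem L824693 : sm gf N63175 = N62484 := ded_45_1 L816927 L808030 (flp_g L806388) L816863 L824685
theorem L824695 : sm gg N62481 = N63176 := rfl
theorem L824697 : sm ga N63176 = N62482 := ded_15_1 (flp_g L816907) (flp_a L816899) L824695
theorem L824699 : sm gb N63176 = N62534 := ded_23_1 (flp_g L817316) (flp_b L816901) L824695
theorem L824701 : sm gd N63176 = N62623 := ded_36_1 (flp_g L817912) (flp_d L816903) L824695
theorem L824703 : sm gd N62483 = N63177 := rfl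
theorem L824705 : sm ga N63177 = N62484 := ded_12_1 (flp_d L816923) (flp_a L816915) L824703
theorem L824707 : sm gg N63177 = N62622 := ded_36_2 (flp_d L817904) (flp_g L816919) L824703
theorem L824709 : sm gf N62483 = N63178 := rfl
theorem L824711 : sm ga N63178 = N62485 := ded_14_1 (flp_f L816929) (flp_a L816915) L824709
theorem L824713 : sm gc N63178 = N62489 := ded_29_1 (flp_f L816969) (flp_c L816917) L824709
theorem L824715 : sm gh N63178 = N62486 := ded_47_2 (flp_f L816939) (flp_h L816921) L824709
theorem L824717 : sm gg N63178 = N62624 := ded_45_2 L817926 L808108 (flp_f L808024) (flp_g L816919) L824709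
theorem L824719 : sm gd N62487 = N63179 := rfl
theorem L824721 : sm ga N63179 = N62488 := ded_12_1 (flp_d L816959) (flp_a L816951) L824719
theorem L824723 : sm gb N63179 = N62543 := ded_20_1 (flp_d L817382) (flp_b L816953) L824719
theorem L824725 : sm gg N63179 = N62615 := ded_36_2 (flp_d L817869) (flp_g L816955) L824719
theorem L824727 : sm ge N63179 = N62617 := ded_34_2 (flp_d L817880) (flp_e L807991) (flp_d L806518) L816949 L824719
theorem L824729 : sm gh N63179 = N62586 := ded_38_2 (flp_d L817685) L807718 (flp_d L806569) (flp_h L816957) L824719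
theorem L824731 : sm gc N62488 = N63180 := rfl
theorem L824733 : sm ge N63180 = N62618 := ded_28_2 (flp_c L817886) (flp_e L816965) L824731
theorem L824735 : sm gg N63180 = N62616 := ded_30_2 (flp_c L817875) (flp_g L816963) L824731
theorem L824737 : sm gh N63180 = N62587 := ded_32_2 (flp_c L817689) (flp_h L816967) L824731
theorem L824739 : sm gb N63180 = N63180 := ded_19_1 (flp_c L824731) L816961 L806542 (flp_b L816961) L824731
theorem L824740 : sm gd N62490 = N63181 := rfl
theorem L824742 : sm ga N63181 = N62491 := ded_12_1 (flp_d L816989) (flp_a L816979) L824740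
theorem L824744 : sm gf N63181 = N62614 := ded_35_2 L817867 (flp_f L816987) L824740
theorem L824746 : sm gj N63181 = N62602 := ded_37_2 (flp_d L817777) (flp_j L816983) L824740
theorem L824748 : sm gi N63181 = N62622 := ded_39_2 (flp_d L817904) (flp_i L816985) L824740
theorem L824750 : sm ge N63181 = N62592 := ded_34_2 (flp_d L817719) (flp_e L807770) (flp_d L806583) L816977 L824740
theorem L824752 : sm gd N62492 = N63182 := rfl
theorem L824754 : sm ga N63182 = N62493 := ded_12_1 (flp_d L817009) (flp_a L817003) L824752
theorem L824756 : sm gj N63182 = N62612 := ded_37_2 (flp_d L817852) (flp_j L817005) L824752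
theorem L824758 : sm ge N63182 = N62513 := ded_34_2 (flp_d L817178) (flp_e L806862) (flp_d L806617) L817001 L824752
theorem L824760 : sm gc N62493 = N63183 := rfl
theorem L824762 : sm ge N63183 = N62514 := ded_28_2 (flp_c L817182) (flp_e L817015) L824760
theorem L824764 : sm gj N63183 = N62613 := ded_31_2 (flp_c L817856) (flp_j L817013) L824760
theorem L824766 : sm gb N63183 = N63183 := ded_19_1 (flp_c L824760) L817011 L806637 (flp_b L817011) L824760
theorem L824767 : sm ge N62494 = N63184 := rfl
theorem L824769 : sm ga N63184 = N62495 := ded_13_1 (flp_e L817025) L817017 L824767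
theorem L824771 : sm gg N63184 = N62507 := ded_41_2 (flp_e L817136) (flp_g L817021) L824767
theorem L824773 : sm gh N63184 = N62498 := ded_43_2 (flp_e L817048) (flp_h L817023) L824767
theorem L824775 : sm gd N62495 = N63185 := rfl
theorem L824777 : sm gb N63185 = N62496 := ded_20_1 (flp_d L817033) (flp_b L817027) L824775
theorem L824779 : sm gg N63185 = N62508 := ded_36_2 (flp_d L817144) (flp_g L817029) L824775
theorem L824781 : sm ge N63185 = N62609 := ded_34_2 (flp_d L817832) (flp_e L807911) (flp_d L806650) L817025 L824775
theorem L824783 : sm gh N63185 = N62512 := ded_38_2 (flp_d L817172) L806853 (flp_d L806685) (flp_h L817031) L824775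
theorem L824785 : sm gf N62495 = N63186 := rfl
theorem L824787 : sm gb N63186 = N62497 := ded_22_1 (flp_f L817042) (flp_b L817027) L824785
theorem L824789 : sm gh N63186 = N62499 := ded_47_2 (flp_f L817058) (flp_h L817031) L824785
theorem L824791 : sm gf N62498 = N63187 := rfl
theorem L824793 : sm ga N63187 = N62499 := ded_14_1 (flp_f L817058) (flp_a L817050) L824791
theorem L824795 : sm gd N63187 = N62545 := ded_35_1 (flp_f L817389) (flp_d L817056) L824791
theorem L824797 : sm gi N63187 = N62518 := ded_48_2 (flp_f L817201) (flp_i L817054) L824791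
theorem L824799 : sm ge N62500 = N63188 := rfl
theorem L824801 : sm ga N63188 = N62501 := ded_13_1 (flp_e L817076) L817066 L824799
theorem L824803 : sm gc N63188 = N62507 := ded_28_1 (flp_e L817136) (flp_c L817068) L824799
theorem L824805 : sm gj N63188 = N62509 := ded_42_2 (flp_e L817152) (flp_j L817072) L824799
theorem L824807 : sm gh N63188 = N62503 := ded_43_2 (flp_e L817093) (flp_h L817074) L824799
theorem L824809 : sm gd N62501 = N63189 := rfl
theorem L824811 : sm gb N63189 = N62502 := ded_20_1 (flp_d L817086) (flp_b L817078) L824809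
theorem L824813 : sm gj N63189 = N62510 := ded_37_2 (flp_d L817160) (flp_j L817082) L824809
theorem L824815 : sm gh N63189 = N62571 := ded_38_2 (flp_d L817583) L807489 (flp_d L806735) (flp_h L817084) L824809
theorem L824817 : sm ge N62504 = N63190 := rfl
theorem L824819 : sm ga N63190 = N62505 := ded_13_1 (flp_e L817117) L817105 L824817
theorem L824821 : sm gj N63190 = N62511 := ded_42_2 (flp_e L817164) (flp_j L817111) L824817
theorem L824823 : sm gh N63190 = N62529 := ded_43_2 (flp_e L817280) (flp_h L817113) L824817
theorem L824825 : sm gi N63190 = N62507 := ded_44_2 (flp_e L817136) (flp_i L817115) L824817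
theorem L824827 : sm gd N62505 = N63191 := rfl
theorem L824829 : sm gb N63191 = N62506 := ded_20_1 (flp_d L817127) (flp_b L817119) L824827
theorem L824831 : sm gj N63191 = N62512 := ded_37_2 (flp_d L817172) (flp_j L817121) L824827
theorem L824833 : sm gi N63191 = N62508 := ded_39_2 (flp_d L817144) (flp_i L817125) L824827
theorem L824835 : sm ge N63191 = N62611 := ded_34_2 (flp_d L817846) (flp_e L807932) (flp_d L806739) L817117 L824827
theorem L824837 : sm gd N62507 = N63192 := rfl
theorem L824839 : sm ga N63192 = N62508 := ded_12_1 (flp_d L817144) (flp_a L817138) L824837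
theorem L824841 : sm gj N63192 = N62513 := ded_37_2 (flp_d L817178) (flp_j L817140) L824837
theorem L824843 : sm ge N63192 = N62612 := ded_34_2 (flp_d L817852) (flp_e L807945) (flp_d L806761) L817136 L824837
theorem L824845 : sm gc N62508 = N63193 := rfl
theorem L824847 : sm ge N63193 = N62613 := ded_28_2 (flp_c L817856) (flp_e L817150) L824845
theorem L824849 : sm gj N63193 = N62514 := ded_31_2 (flp_c L817182) (flp_j L817148) L824845
theorem L824851 : sm gb N63193 = N63193 := ded_19_1 (flp_c L824845) L817146 L806781 (flp_b L817146) L824845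
theorem L824852 : sm gd N62509 = N63194 := rfl
theorem L824854 : sm ga N63194 = N62510 := ded_12_1 (flp_d L817160) (flp_a L817154) L824852
theorem L824856 : sm gc N62510 = N63195 := rfl
theorem L824858 : sm gb N63195 = N63195 := ded_19_1 (flp_c L824856) L817162 L806808 (flp_b L817162) L824856
theorem L824859 : sm gd N63195 = N62514 := ded_27_2 (flp_c L817182) (flp_d L806868) (flp_c L806802) L817160 L824856
theorem L824861 : sm gd N62511 = N63196 := rfl
theorem L824863 : sm ga N63196 = N62512 := ded_12_1 (flp_d L817172) (flp_a L817166) L824861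
theorem L824865 : sm gi N63196 = N62513 := ded_39_2 (flp_d L817178) (flp_i L817170) L824861
theorem L824867 : sm gc N62512 = N63197 := rfl
theorem L824869 : sm gi N63197 = N62514 := ded_33_2 (flp_c L817182) (flp_i L817176) L824867
theorem L824871 : sm gb N63197 = N63197 := ded_19_1 (flp_c L824867) L817174 L806861 (flp_b L817174) L824867
theorem L824872 : sm gc N62513 = N63198 := rfl
theorem L824874 : sm ga N63198 = N62514 := ded_11_1 (flp_c L817182) (flp_a L817180) L824872
theorem L824876 : sm gd N62515 = N63199 := rfl
theorem L824878 : sm ga N63199 = N62516 := ded_12_1 (flp_d L817189) (flp_a L817187) L824876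
theorem L824880 : sm ge N63199 = N62519 := ded_34_2 (flp_d L817207) (flp_e L806907) (flp_d L806874) L817185 L824876
theorem L824882 : sm gf N62515 = N63200 := rfl
theorem L824884 : sm ga N63200 = N62517 := ded_14_1 (flp_f L817195) (flp_a L817187) L824882
theorem L824886 : sm ge N63200 = N62518 := ded_40_1 (flp_f L817201) (flp_e L806893) (flp_f L806876) L817185 L824882
theorem L824888 : sm gc N62516 = N63201 := rfl
theorem L824890 : sm ge N63201 = N62520 := ded_28_2 (flp_c L817211) (flp_e L817193) L824888
theorem L824892 : sm gb N63201 = N63201 := ded_19_1 (flp_c L824888) L817191 L806884 (flp_b L817191) L824888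
theorem L824893 : sm gc N62519 = N63202 := rfl
theorem L824895 : sm ga N63202 = N62520 := ded_11_1 (flp_c L817211) (flp_a L817209) L824893
theorem L824897 : sm gd N63202 = N62619 := ded_27_2 (flp_c L817891) (flp_d L808003) (flp_c L806911) L817207 L824893
theorem L824899 : sm gh N62519 = N63203 := rfl
theorem L824901 : sm ga N63203 = N62521 := ded_17_1 (flp_h L817216) (flp_a L817209) L824899
theorem L824903 : sm gh N62520 = N63204 := rfl
theorem L824905 : sm gb N63204 = N63204 := ded_25_1 (flp_h L824903) L817213 L824903
theorem L824906 : sm gc N63204 = N62521 := ded_32_1 (flp_h L817216) L817211 L824903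
theorem L824908 : sm gi N62521 = N63205 := rfl
theorem L824910 : sm gb N63205 = N62522 := ded_26_1 (flp_i L817220) (flp_b L817218) L824908
theorem L824912 : sm ge N62524 = N63206 := rfl
theorem L824914 : sm ga N63206 = N62525 := ded_13_1 (flp_e L817245) L817233 L824912
theorem L824916 : sm gj N63206 = N62541 := ded_42_2 (flp_e L817370) (flp_j L817239) L824912
theorem L824918 : sm gh N63206 = N62593 := ded_43_2 (flp_e L817723) (flp_h L817241) L824912
theorem L824920 : sm gi N63206 = N62527 := ded_44_2 (flp_e L817264) (flp_i L817243) L824912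
theorem L824922 : sm gd N62525 = N63207 := rfl
theorem L824924 : sm gb N63207 = N62526 := ded_20_1 (flp_d L817255) (flp_b L817247) L824922
theorem L824926 : sm gj N63207 = N62542 := ded_37_2 (flp_d L817376) (flp_j L817249) L824922
theorem L824928 : sm gi N63207 = N62528 := ded_39_2 (flp_d L817272) (flp_i L817253) L824922
theorem L824930 : sm ge N63207 = N62571 := ded_34_2 (flp_d L817583) (flp_e L807485) (flp_d L806954) L817245 L824922
theorem L824932 : sm gd N62527 = N63208 := rfl
theorem L824934 : sm ga N63208 = N62528 := ded_12_1 (flp_d L817272) (flp_a L817266) L824932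
theorem L824936 : sm gj N63208 = N62543 := ded_37_2 (flp_d L817382) (flp_j L817268) L824932
theorem L824938 : sm ge N63208 = N62572 := ded_34_2 (flp_d L817589) (flp_e L807498) (flp_d L806976) L817264 L824932
theorem L824940 : sm gc N62528 = N63209 := rfl
theorem L824942 : sm ge N63209 = N62573 := ded_28_2 (flp_c L817593) (flp_e L817278) L824940
theorem L824944 : sm gj N63209 = N62544 := ded_31_2 (flp_c L817386) (flp_j L817276) L824940
theorem L824946 : sm gb N63209 = N63209 := ded_19_1 (flp_c L824940) L817274 L806996 (flp_b L817274) L824940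
theorem L824947 : sm gf N62529 = N63210 := rfl
theorem L824949 : sm ga N63210 = N62530 := ded_14_1 (flp_f L817288) (flp_a L817282) L824947
theorem L824951 : sm gj N63210 = N62545 := ded_46_2 (flp_f L817389) (flp_j L817284) L824947
theorem L824953 : sm gi N63210 = N62532 := ded_48_2 (flp_f L817302) (flp_i L817286) L824947
theorem L824955 : sm gg N62530 = N63211 := rfl
theorem L824957 : sm gb N63211 = N62531 := ded_23_1 (flp_g L817296) (flp_b L817290) L824955
theorem L824959 : sm gi N63211 = N62533 := ded_51_2 (flp_g L817310) (flp_i L817294) L824955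
theorem L824961 : sm gg N62532 = N63212 := rfl
theorem L824963 : sm ga N63212 = N62533 := ded_15_1 (flp_g L817310) (flp_a L817304) L824961
theorem L824965 : sm gh N63212 = N62534 := ded_50_2 (flp_g L817316) (flp_h L817308) L824961
theorem L824967 : sm gd N62536 = N63213 := rfl
theorem L824969 : sm ga N63213 = N62537 := ded_12_1 (flp_d L817340) (flp_a L817334) L824967
theorem L824971 : sm gc N62537 = N63214 := rfl
theorem L824973 : sm gb N63214 = N63214 := ded_19_1 (flp_c L824971) L817342 L807109 (flp_b L817342) L824971
theorem L824974 : sm gd N63214 = N62544 := ded_27_2 (flp_c L817386) (flp_d L807204) (flp_c L807103) L817340 L824971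
theorem L824976 : sm gd N62539 = N63215 := rfl
theorem L824978 : sm ga N63215 = N62540 := ded_12_1 (flp_d L817362) (flp_a L817354) L824976
theorem L824980 : sm gb N63215 = N62615 := ded_20_1 (flp_d L817869) (flp_b L817356) L824976
theorem L824982 : sm gg N63215 = N62543 := ded_36_2 (flp_d L817382) (flp_g L817358) L824976
theorem L824984 : sm ge N63215 = N62588 := ded_34_2 (flp_d L817692) (flp_e L807730) (flp_d L807154) L817352 L824976
theorem L824986 : sm gc N62540 = N63216 := rfl
theorem L824988 : sm ge N63216 = N62589 := ded_28_2 (flp_c L817698) (flp_e L817368) L824986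
theorem L824990 : sm gg N63216 = N62544 := ded_30_2 (flp_c L817386) (flp_g L817366) L824986
theorem L824992 : sm gb N63216 = N63216 := ded_19_1 (flp_c L824986) L817364 L807178 (flp_b L817364) L824986
theorem L824993 : sm gd N62541 = N63217 := rfl
theorem L824995 : sm ga N63217 = N62542 := ded_12_1 (flp_d L817376) (flp_a L817372) L824993
theorem L824997 : sm gi N63217 = N62543 := ded_39_2 (flp_d L817382) (flp_i L817374) L824993
theorem L824999 : sm gc N62542 = N63218 := rfl
theorem L825001 : sm gi N63218 = N62544 := ded_33_2 (flp_c L817386) (flp_i L817380) L824999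
theorem L825003 : sm gb N63218 = N63218 := ded_19_1 (flp_c L824999) L817378 L807197 (flp_b L817378) L824999
theorem L825004 : sm gc N62543 = N63219 := rfl
theorem L825006 : sm ga N63219 = N62544 := ded_11_1 (flp_c L817386) (flp_a L817384) L825004
theorem L825008 : sm ge N62548 = N63220 := rfl
theorem L825010 : sm ga N63220 = N62549 := ded_13_1 (flp_e L817417) L817409 L825008
theorem L825012 : sm gg N63220 = N62582 := ded_41_2 (flp_e L817653) (flp_g L817411) L825008
theorem L825014 : sm gh N63220 = N62563 := ded_43_2 (flp_e L817527) (flp_h L817413) L825008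
theorem L825016 : sm gi N63220 = N62552 := ded_44_2 (flp_e L817442) (flp_i L817415) L825008
theorem L825018 : sm gd N62549 = N63221 := rfl
theorem L825020 : sm gb N63221 = N62550 := ded_20_1 (flp_d L817427) (flp_b L817419) L825018
theorem L825022 : sm gg N63221 = N62583 := ded_36_2 (flp_d L817661) (flp_g L817421) L825018
theorem L825024 : sm gi N63221 = N62553 := ded_39_2 (flp_d L817448) (flp_i L817425) L825018
theorem L825026 : sm gf N62549 = N63222 := rfl
theorem L825028 : sm gb N63222 = N62551 := ded_22_1 (flp_f L817434) (flp_b L817419) L825026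
theorem L825030 : sm gh N63222 = N62564 := ded_47_2 (flp_f L817535) (flp_h L817423) L825026
theorem L825032 : sm gi N63222 = N62554 := ded_48_2 (flp_f L817454) (flp_i L817425) L825026
theorem L825034 : sm gd N62552 = N63223 := rfl
theorem L825036 : sm ga N63223 = N62553 := ded_12_1 (flp_d L817448) (flp_a L817444) L825034
theorem L825038 : sm gh N63223 = N62572 := ded_38_2 (flp_d L817589) L807502 (flp_d L807310) (flp_h L817446) L825034
theorem L825040 : sm gf N62552 = N63224 := rfl
theorem L825042 : sm ga N63224 = N62554 := ded_14_1 (flp_f L817454) (flp_a L817444) L825040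
theorem L825044 : sm gh N63224 = N62555 := ded_47_2 (flp_f L817460) (flp_h L817446) L825040
theorem L825046 : sm gc N62553 = N63225 := rfl
theorem L825048 : sm gh N63225 = N62573 := ded_32_2 (flp_c L817593) (flp_h L817452) L825046
theorem L825050 : sm gb N63225 = N63225 := ded_19_1 (flp_c L825046) L817450 L807295 (flp_b L817450) L825046
theorem L825051 : sm ge N62556 = N63226 := rfl
theorem L825053 : sm ga N63226 = N62557 := ded_13_1 (flp_e L817478) L817468 L825051
theorem L825055 : sm gg N63226 = N62575 := ded_41_2 (flp_e L817604) (flp_g L817474) L825051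
theorem L825057 : sm gi N63226 = N62560 := ded_44_2 (flp_e L817503) (flp_i L817476) L825051
theorem L825059 : sm gd N62557 = N63227 := rfl
theorem L825061 : sm gb N63227 = N62558 := ded_20_1 (flp_d L817486) (flp_b L817480) L825059
theorem L825063 : sm gg N63227 = N62576 := ded_36_2 (flp_d L817608) (flp_g L817482) L825059
theorem L825065 : sm gi N63227 = N62561 := ded_39_2 (flp_d L817509) (flp_i L817484) L825059
theorem L825067 : sm ge N63227 = N62578 := ded_34_2 (flp_d L817626) (flp_e L807605) (flp_d L807322) L817478 L825059
theorem L825069 : sm gf N62557 = N63228 := rfl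
theorem L825071 : sm gb N63228 = N62559 := ded_22_1 (flp_f L817495) (flp_b L817480) L825069
theorem L825073 : sm gi N63228 = N62562 := ded_48_2 (flp_f L817519) (flp_i L817484) L825069
theorem L825075 : sm ge N63228 = N62564 := ded_40_1 (flp_f L817535) (flp_e L807384) (flp_f L807324) L817478 L825069
theorem L825077 : sm gd N62560 = N63229 := rfl
theorem L825079 : sm ga N63229 = N62561 := ded_12_1 (flp_d L817509) (flp_a L817505) L825077
theorem L825081 : sm gg N63229 = N62620 := ded_36_2 L821261 L821251 L825077
theorem L825083 : sm ge N63229 = N62586 := ded_34_2 (flp_d L817685) (flp_e L807714) (flp_d L807347) L817503 L825077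
theorem L825085 : sm gh N63229 = N62617 := ded_38_2 (flp_d L817880) (flp_h L808280) L808284 (flp_h L817507) L825077
theorem L825087 : sm gf N62560 = N63230 := rfl
theorem L825089 : sm ga N63230 = N62562 := ded_14_1 (flp_f L817519) (flp_a L817505) L825087
theorem L825091 : sm gh N63230 = N62566 := ded_47_2 (flp_f L817547) (flp_h L817507) L825087
theorem L825093 : sm ge N63230 = N62565 := ded_40_1 (flp_f L817541) (flp_e L807398) (flp_f L807349) L817503 L825087
theorem L825095 : sm gc N62561 = N63231 := rfl
theorem L825097 : sm ge N63231 = N62587 := ded_28_2 (flp_c L817689) (flp_e L817515) L825095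
theorem L825099 : sm gg N63231 = N62621 := ded_30_2 L817902 (flp_g L817513) L825095
theorem L825101 : sm gh N63231 = N62618 := ded_32_2 (flp_c L817886) (flp_h L817517) L825095
theorem L825103 : sm gb N63231 = N63231 := ded_19_1 (flp_c L825095) L817511 L807363 (flp_b L817511) L825095
theorem L825104 : sm gf N62563 = N63232 := rfl
theorem L825106 : sm ga N63232 = N62564 := ded_14_1 (flp_f L817535) (flp_a L817529) L825104
theorem L825108 : sm gi N63232 = N62565 := ded_48_2 (flp_f L817541) (flp_i L817533) L825104
theorem L825110 : sm gd N62568 = N63233 := rfl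
theorem L825112 : sm ga N63233 = N62569 := ded_12_1 (flp_d L817569) (flp_a L817561) L825110
theorem L825114 : sm gb N63233 = N62572 := ded_20_1 (flp_d L817589) (flp_b L817563) L825110
theorem L825116 : sm gj N63233 = N62617 := ded_37_2 (flp_d L817880) (flp_j L817565) L825110
theorem L825118 : sm gc N62569 = N63234 := rfl
theorem L825120 : sm gj N63234 = N62618 := ded_31_2 (flp_c L817886) (flp_j L817573) L825118
theorem L825122 : sm gb N63234 = N63234 := ded_19_1 (flp_c L825118) L817571 L807456 (flp_b L817571) L825118
theorem L825123 : sm gd N62570 = N63235 := rfl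
theorem L825125 : sm ga N63235 = N62571 := ded_12_1 (flp_d L817583) (flp_a L817577) L825123
theorem L825127 : sm gi N63235 = N62572 := ded_39_2 (flp_d L817589) (flp_i L817581) L825123
theorem L825129 : sm gc N62571 = N63236 := rfl
theorem L825131 : sm gi N63236 = N62573 := ded_33_2 (flp_c L817593) (flp_i L817587) L825129
theorem L825133 : sm gb N63236 = N63236 := ded_19_1 (flp_c L825129) L817585 L807497 (flp_b L817585) L825129
theorem L825134 : sm gc N62572 = N63237 := rfl
theorem L825136 : sm ga N63237 = N62573 := ded_11_1 (flp_c L817593) (flp_a L817591) L825134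
theorem L825138 : sm gd N62575 = N63238 := rfl
theorem L825140 : sm ga N63238 = N62576 := ded_12_1 (flp_d L817608) (flp_a L817606) L825138
theorem L825142 : sm gi N63238 = N62620 := ded_39_2 L821261 L821257 L825138
theorem L825144 : sm ge N63238 = N62579 := ded_34_2 (flp_d L817634) (flp_e L807622) (flp_d L807580) L817604 L825138
theorem L825146 : sm gc N62576 = N63239 := rfl
theorem L825148 : sm ge N63239 = N62580 := ded_28_2 (flp_c L817640) (flp_e L817614) L825146
theorem L825150 : sm gi N63239 = N62621 := ded_33_2 L817902 (flp_i L817612) L825146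
theorem L825152 : sm gb N63239 = N63239 := ded_19_1 (flp_c L825146) L817610 L807592 (flp_b L817610) L825146
theorem L825153 : sm gd N62577 = N63240 := rfl
theorem L825155 : sm ga N63240 = N62578 := ded_12_1 (flp_d L817626) (flp_a L817618) L825153
theorem L825157 : sm gg N63240 = N62579 := ded_36_2 (flp_d L817634) (flp_g L817622) L825153
theorem L825159 : sm gi N63240 = N62586 := ded_39_2 (flp_d L817685) (flp_i L817624) L825153
theorem L825161 : sm gc N62578 = N63241 := rfl
theorem L825163 : sm gg N63241 = N62580 := ded_30_2 (flp_c L817640) (flp_g L817630) L825161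
theorem L825165 : sm gi N63241 = N62587 := ded_33_2 (flp_c L817689) (flp_i L817632) L825161
theorem L825167 : sm gb N63241 = N63241 := ded_19_1 (flp_c L825161) L817628 L807621 (flp_b L817628) L825161
theorem L825168 : sm gd N63241 = N62589 := ded_27_2 (flp_c L817698) (flp_d L807736) (flp_c L807609) L817626 L825161
theorem L825170 : sm gc N62579 = N63242 := rfl
theorem L825172 : sm ga N63242 = N62580 := ded_11_1 (flp_c L817640) (flp_a L817636) L825170
theorem L825174 : sm gf N63242 = N62619 := ded_29_2 (flp_c L817891) (flp_f L817638) L825170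
theorem L825176 : sm gd N62582 = N63243 := rfl
theorem L825178 : sm ga N63243 = N62583 := ded_12_1 (flp_d L817661) (flp_a L817655) L825176
theorem L825180 : sm gj N63243 = N62586 := ded_37_2 (flp_d L817685) (flp_j L817657) L825176
theorem L825182 : sm gc N62583 = N63244 := rfl
theorem L825184 : sm gj N63244 = N62587 := ded_31_2 (flp_c L817689) (flp_j L817665) L825182
theorem L825186 : sm gb N63244 = N63244 := ded_19_1 (flp_c L825182) L817663 L807672 (flp_b L817663) L825182
theorem L825187 : sm gd N62584 = N63245 := rfl
theorem L825189 : sm ga N63245 = N62585 := ded_12_1 (flp_d L817679) (flp_a L817669) L825187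
theorem L825191 : sm gb N63245 = N62596 := ded_20_1 (flp_d L817743) (flp_b L817671) L825187
theorem L825193 : sm gi N63245 = N62588 := ded_39_2 (flp_d L817692) (flp_i L817677) L825187
theorem L825195 : sm gc N62585 = N63246 := rfl
theorem L825197 : sm gi N63246 = N62589 := ded_33_2 (flp_c L817698) (flp_i L817683) L825195
theorem L825199 : sm gb N63246 = N63246 := ded_19_1 (flp_c L825195) L817681 L807707 (flp_b L817681) L825195
theorem L825200 : sm gd N63246 = N62587 := ded_27_2 (flp_c L817689) (flp_d L807720) (flp_c L807695) L817679 L825195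
theorem L825202 : sm gc N62586 = N63247 := rfl
theorem L825204 : sm ga N63247 = N62587 := ded_11_1 (flp_c L817689) (flp_a L817687) L825202
theorem L825206 : sm gc N62588 = N63248 := rfl
theorem L825208 : sm ga N63248 = N62589 := ded_11_1 (flp_c L817698) (flp_a L817694) L825206
theorem L825210 : sm gd N62594 = N63249 := rfl
theorem L825212 : sm ga N63249 = N62595 := ded_12_1 (flp_d L817735) (flp_a L817731) L825210
theorem L825214 : sm gi N63249 = N62615 := ded_39_2 (flp_d L817869) (flp_i L817733) L825210
theorem L825216 : sm ge N63249 = N62596 := ded_34_2 (flp_d L817743) (flp_e L807819) (flp_d L807800) L817729 L825210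
theorem L825218 : sm gc N62595 = N63250 := rfl
theorem L825220 : sm ge N63250 = N62597 := ded_28_2 (flp_c L817749) (flp_e L817741) L825218
theorem L825222 : sm gi N63250 = N62616 := ded_33_2 (flp_c L817875) (flp_i L817739) L825218
theorem L825224 : sm gb N63250 = N63250 := ded_19_1 (flp_c L825218) L817737 L807816 (flp_b L817737) L825218
theorem L825225 : sm gc N62596 = N63251 := rfl
theorem L825227 : sm ga N63251 = N62597 := ded_11_1 (flp_c L817749) (flp_a L817745) L825225
theorem L825229 : sm gi N63251 = N62619 := ded_33_2 (flp_c L817891) (flp_i L817747) L825225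
theorem L825231 : sm gd N62599 = N63252 := rfl
theorem L825233 : sm ga N63252 = N62600 := ded_12_1 (flp_d L817766) (flp_a L817760) L825231
theorem L825235 : sm gc N62600 = N63253 := rfl
theorem L825237 : sm gb N63253 = N63253 := ded_19_1 (flp_c L825235) L817768 L807857 (flp_b L817768) L825235
theorem L825238 : sm gd N63253 = N62613 := ded_27_2 (flp_c L817856) (flp_d L807951) (flp_c L807851) L817766 L825235
theorem L825240 : sm gh N62600 = N63254 := rfl
theorem L825242 : sm gb N63254 = N62601 := ded_25_1 (flp_h L817770) (flp_b L817768) L825240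
theorem L825244 : sm gf N63254 = N62609 := ded_47_1 (flp_h L819555) L819545 L825240
theorem L825246 : sm gd N63254 = N62603 := ded_38_1 (flp_h L817785) (flp_d L807866) (flp_h L807853) L817766 L825240
theorem L825248 : sm gi N62601 = N63255 := rfl
theorem L825250 : sm gc N63255 = N63255 := ded_33_1 (flp_i L825248) L817772 L825248
theorem L825251 : sm gd N63255 = N62604 := ded_39_1 (flp_i L817791) (flp_d L817775) L825248
theorem L825253 : sm gf N63255 = N62607 := ded_48_1 L817821 (flp_f L817773) L825248
theorem L825255 : sm gh N62602 = N63256 := rfl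
theorem L825257 : sm ga N63256 = N62603 := ded_17_1 (flp_h L817785) (flp_a L817779) L825255
theorem L825259 : sm gf N63256 = N62608 := ded_47_1 L817830 (flp_f L817781) L825255
theorem L825261 : sm gi N62603 = N63257 := rfl
theorem L825263 : sm gb N63257 = N62604 := ded_26_1 (flp_i L817791) (flp_b L817787) L825261
theorem L825265 : sm gf N63257 = N62606 := ded_48_1 L817815 (flp_f L817789) L825261
theorem L825267 : sm gh N63257 = N62625 := ded_54_1 (flp_i L817928) (flp_h L808078) (flp_i L807872) L817785 L825261
theorem L825269 : sm ge N62605 = N63258 := rfl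
theorem L825271 : sm ga N63258 = N62606 := ded_13_1 (flp_e L817807) L817799 L825269
theorem L825273 : sm gg N63258 = N62610 := ded_41_2 (flp_e L817838) (flp_g L817801) L825269
theorem L825275 : sm gh N63258 = N62626 := ded_43_2 (flp_e L817934) (flp_h L817803) L825269
theorem L825277 : sm gi N63258 = N62608 := ded_44_2 (flp_e L817824) (flp_i L817805) L825269
theorem L825279 : sm gd N62606 = N63259 := rfl
theorem L825281 : sm gb N63259 = N62607 := ded_20_1 (flp_d L817817) (flp_b L817809) L825279
theorem L825283 : sm gg N63259 = N62611 := ded_36_2 (flp_d L817846) (flp_g L817811) L825279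
theorem L825285 : sm gi N63259 = N62609 := ded_39_2 (flp_d L817832) (flp_i L817815) L825279
theorem L825287 : sm gd N62608 = N63260 := rfl
theorem L825289 : sm ga N63260 = N62609 := ded_12_1 (flp_d L817832) (flp_a L817826) L825287
theorem L825291 : sm gg N63260 = N62612 := ded_36_2 (flp_d L817852) (flp_g L817828) L825287
theorem L825293 : sm gc N62609 = N63261 := rfl
theorem L825295 : sm gg N63261 = N62613 := ded_30_2 (flp_c L817856) (flp_g L817836) L825293
theorem L825297 : sm gb N63261 = N63261 := ded_19_1 (flp_c L825293) L817834 L807923 (flp_b L817834) L825293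
theorem L825298 : sm gd N62610 = N63262 := rfl
theorem L825300 : sm ga N63262 = N62611 := ded_12_1 (flp_d L817846) (flp_a L817840) L825298
theorem L825302 : sm gi N63262 = N62612 := ded_39_2 (flp_d L817852) (flp_i L817844) L825298
theorem L825304 : sm gc N62611 = N63263 := rfl
theorem L825306 : sm gi N63263 = N62613 := ded_33_2 (flp_c L817856) (flp_i L817850) L825304
theorem L825308 : sm gb N63263 = N63263 := ded_19_1 (flp_c L825304) L817848 L807944 (flp_b L817848) L825304
theorem L825309 : sm gc N62612 = N63264 := rfl
theorem L825311 : sm ga N63264 = N62613 := ded_11_1 (flp_c L817856) (flp_a L817854) L825309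
theorem L825313 : sm gc N62615 = N63265 := rfl
theorem L825315 : sm ga N63265 = N62616 := ded_11_1 (flp_c L817875) (flp_a L817871) L825313
theorem L825317 : sm ge N63265 = N62619 := ded_28_2 (flp_c L817891) (flp_e L817873) L825313
theorem L825319 : sm gc N62617 = N63266 := rfl
theorem L825321 : sm ga N63266 = N62618 := ded_11_1 (flp_c L817886) (flp_a L817882) L825319
theorem L825323 : sm gg N63266 = N62619 := ded_30_2 (flp_c L817891) (flp_g L817884) L825319
theorem L825325 : sm gb N62619 = N63267 := rfl
theorem L825327 : sm ga N63267 = N63267 := ded_10_1 (flp_b L825325) L817893 L808009 (flp_a L817893) L825325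
theorem L825328 : sm gh N62619 = N63268 := rfl
theorem L825330 : sm ga N63268 = N62621 := ded_17_1 (flp_h L817899) (flp_a L817893) L825328
theorem L825332 : sm gc N63268 = N62620 := ded_32_1 (flp_h L817895) L817891 L825328
theorem L825334 : sm gd N62621 = N63269 := rfl
theorem L825336 : sm gb N63269 = N63269 := ded_20_1 (flp_d L825334) L817901 L825334
theorem L825337 : sm gi N62624 = N63270 := rfl
theorem L825339 : sm ga N63270 = N62625 := ded_18_1 (flp_i L817928) (flp_a L817924) L825337
theorem L825341 : sm gf N63270 = N62626 := ded_48_1 L817940 (flp_f L817926) L825337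
theorem L825343 : sm gh N62628 = N63271 := rfl
theorem L825345 : sm ga N63271 = N62629 := ded_17_1 (flp_h L817980) (flp_a L817964) L825343
theorem L825347 : sm gb N63271 = N62945 := ded_25_1 L822418 (flp_b L817966) L825343
theorem L825349 : sm gc N63271 = N63016 := ded_32_1 L823197 (flp_c L817976) L825343
theorem L825351 : sm ge N63271 = N63224 := ded_43_1 L825044 (flp_e L817978) L825343
theorem L825353 : sm gf N63271 = N62632 := ded_47_1 (flp_h L818034) (flp_f L817968) L825343
theorem L825355 : sm gg N63271 = N62883 := ded_50_1 (flp_h L821733) (flp_g L817970) L825343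
theorem L825357 : sm gj N63271 = N62973 := ded_52_1 L822693 (flp_j L817972) L825343
theorem L825359 : sm gd N63271 = N62719 := ded_38_1 (flp_h L819346) (flp_d L809686) (flp_h L808214) L817962 L825343
theorem L825361 : sm gi N62629 = N63272 := rfl
theorem L825363 : sm gb N63272 = N62630 := ded_26_1 (flp_i L817996) (flp_b L817982) L825361
theorem L825365 : sm gc N63272 = N63001 := ded_33_1 L823022 (flp_c L817984) L825361
theorem L825367 : sm gd N63272 = N62720 := ded_39_1 (flp_i L819358) (flp_d L817994) L825361
theorem L825369 : sm ge N63272 = N63222 := ded_44_1 L825032 (flp_e L817986) L825361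
theorem L825371 : sm gf N63272 = N62633 := ded_48_1 (flp_i L818050) (flp_f L817988) L825361
theorem L825373 : sm gg N63272 = N62884 := ded_51_1 (flp_i L821747) (flp_g L817990) L825361
theorem L825375 : sm gj N63272 = N62839 := ded_53_1 L821058 (flp_j L817992) L825361
theorem L825377 : sm gh N63272 = N63228 := ded_54_1 L825073 L817523 (flp_i L808228) L817980 L825361
theorem L825379 : sm gi N62632 = N63273 := rfl
theorem L825381 : sm ga N63273 = N62633 := ded_18_1 (flp_i L818050) (flp_a L818036) L825379
theorem L825383 : sm gb N63273 = N62943 := ded_26_1 L822390 (flp_b L818038) L825379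
theorem L825385 : sm gc N63273 = N62999 := ded_33_1 L823006 (flp_c L818040) L825379
theorem L825387 : sm gd N63273 = N62827 := ded_39_1 (flp_i L820860) (flp_d L818048) L825379
theorem L825389 : sm ge N63273 = N62721 := ded_44_1 L819382 (flp_e L818042) L825379
theorem L825391 : sm gg N63273 = N62725 := ded_51_1 L819449 (flp_g L818044) L825379
theorem L825393 : sm gj N63273 = N62838 := ded_53_1 L821048 (flp_j L818046) L825379
theorem L825395 : sm gh N63273 = N63226 := ded_54_1 L825057 L817507 (flp_i L808336) L818034 L825379
theorem L825397 : sm ge N62634 = N63274 := rfl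
theorem L825399 : sm ga N63274 = N62635 := ded_13_1 (flp_e L818084) L818066 L825397
theorem L825401 : sm gb N63274 = N62784 := ded_21_1 (flp_e L820242) (flp_b L818082) L825397
theorem L825403 : sm gc N63274 = N62971 := ded_28_1 (flp_e L822661) (flp_c L818068) L825397
theorem L825405 : sm gg N63274 = N62947 := ded_41_2 (flp_e L822440) (flp_g L818074) L825397
theorem L825407 : sm gj N63274 = N62656 := ded_42_2 (flp_e L818403) (flp_j L818076) L825397
theorem L825409 : sm gh N63274 = N62671 := ded_43_2 (flp_e L818634) (flp_h L818078) L825397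
theorem L825411 : sm gi N63274 = N62732 := ded_44_2 (flp_e L819557) (flp_i L818080) L825397
theorem L825413 : sm gf N63274 = N62756 := ded_40_2 (flp_e L819919) L810402 (flp_e L808426) (flp_f L818072) L825397
theorem L825415 : sm gd N62635 = N63275 := rfl
theorem L825417 : sm gb N63275 = N62636 := ded_20_1 (flp_d L818100) (flp_b L818086) L825415
theorem L825419 : sm gf N63275 = N62757 := ded_35_2 (flp_d L819933) (flp_f L818098) L825415
theorem L825421 : sm gg N63275 = N62948 := ded_36_2 (flp_d L822446) (flp_g L818090) L825415
theorem L825423 : sm gj N63275 = N62657 := ded_37_2 (flp_d L818419) (flp_j L818092) L825415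
theorem L825425 : sm gi N63275 = N62733 := ded_39_2 (flp_d L819571) (flp_i L818096) L825415
theorem L825427 : sm ge N63275 = N63132 := ded_34_2 (flp_d L824310) (flp_e L816311) (flp_d L808390) L818084 L825415
theorem L825429 : sm gh N62636 = N63276 := rfl
theorem L825431 : sm ga N63276 = N62786 := ded_17_1 (flp_h L820266) (flp_a L818102) L825429
theorem L825433 : sm gc N63276 = N63276 := ded_32_1 (flp_h L825429) L818112 L825429
theorem L825434 : sm ge N63276 = N63135 := ded_43_1 (flp_h L824333) (flp_e L818113) L825429
theorem L825436 : sm gf N63276 = N62758 := ded_47_1 (flp_h L819941) (flp_f L818104) L825429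
theorem L825438 : sm gg N63276 = N62951 := ded_50_1 (flp_h L822469) (flp_g L818106) L825429
theorem L825440 : sm gj N63276 = N62658 := ded_52_1 (flp_h L818429) (flp_j L818108) L825429
theorem L825442 : sm gd N63276 = N62673 := ded_38_1 (flp_h L818662) (flp_d L808906) (flp_h L808414) L818100 L825429
theorem L825444 : sm gi N62901 = N63276 := ded_48_0 L825436 (flp_i L819954) L821944
theorem L825446 : sm ge N62637 = N63277 := rfl
theorem L825448 : sm ga N63277 = N62638 := ded_13_1 (flp_e L818133) L818115 L825446
theorem L825450 : sm gb N63277 = N63109 := ded_21_1 (flp_e L824095) (flp_b L818131) L825446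
theorem L825452 : sm gc N63277 = N62653 := ded_28_1 (flp_e L818367) (flp_c L818117) L825446
theorem L825454 : sm gg N63277 = N62687 := ded_41_2 (flp_e L818861) (flp_g L818123) L825446
theorem L825456 : sm gj N63277 = N63012 := ded_42_2 (flp_e L823147) (flp_j L818125) L825446
theorem L825458 : sm gh N63277 = N62903 := ded_43_2 (flp_e L821957) (flp_h L818127) L825446
theorem L825460 : sm gi N63277 = N63165 := ded_44_2 (flp_e L824585) (flp_i L818129) L825446
theorem L825462 : sm gd N62638 = N63278 := rfl
theorem L825464 : sm gb N63278 = N62639 := ded_20_1 (flp_d L818147) (flp_b L818135) L825462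
theorem L825466 : sm gg N63278 = N62688 := ded_36_2 (flp_d L818875) (flp_g L818139) L825462
theorem L825468 : sm gj N63278 = N63013 := ded_37_2 (flp_d L823159) (flp_j L818141) L825462
theorem L825470 : sm gi N63278 = N63158 := ded_39_2 L824517 (flp_i L818145) L825462
theorem L825472 : sm gc N63278 = N62762 := ded_27_1 (flp_d L819998) L810477 (flp_d L808644) (flp_c L818137) L825462
theorem L825474 : sm ge N63278 = N62694 := ded_34_2 (flp_d L818965) (flp_e L809258) (flp_d L808440) L818133 L825462
theorem L825476 : sm gh N63059 = N63278 := ded_25_0 L825464 (flp_h L818161) (flp_b L823605)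
theorem L825478 : sm gf N62638 = N63279 := rfl
theorem L825480 : sm gb N63279 = N62640 := ded_22_1 (flp_f L818163) (flp_b L818135) L825478
theorem L825482 : sm gc N63279 = N62654 := ded_29_1 (flp_f L818381) (flp_c L818137) L825478
theorem L825484 : sm gj N63279 = N62775 := ded_46_2 L820139 (flp_j L818141) L825478
theorem L825486 : sm gh N63279 = N62905 := ded_47_2 (flp_f L821975) (flp_h L818143) L825478
theorem L825488 : sm gi N63279 = N63159 := ded_48_2 L824531 (flp_i L818145) L825478
theorem L825490 : sm ge N63279 = N62900 := ded_40_1 (flp_f L821938) (flp_e L813149) (flp_f L808442) L818133 L825478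
theorem L825492 : sm gf N62639 = N63280 := rfl
theorem L825494 : sm ga N63280 = N62896 := ded_14_1 L821900 (flp_a L818149) L825492
theorem L825496 : sm gc N63280 = N62642 := ded_29_1 (flp_f L818195) (flp_c L818157) L825492
theorem L825498 : sm gd N63280 = N62640 := ded_35_1 (flp_f L818163) L818147 L825492
theorem L825500 : sm gj N63280 = N62655 := ded_46_2 L818401 (flp_j L818153) L825492
theorem L825502 : sm gh N63280 = N63053 := ded_47_2 L823564 L818161 L825492
theorem L825504 : sm gi N63280 = N63038 := ded_48_2 L823408 (flp_i L818155) L825492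
theorem L825506 : sm ge N63280 = N63115 := ded_40_1 L824159 L816108 L809282 (flp_e L818159) L825492
theorem L825508 : sm gg N63280 = N62738 := ded_45_2 (flp_f L819650) L810191 L809166 (flp_g L818151) L825492
theorem L825510 : sm gg N62640 = N63281 := rfl
theorem L825512 : sm ga N63281 = N62894 := ded_15_1 L821880 (flp_a L818165) L825510
theorem L825514 : sm gc N63281 = N62641 := ded_30_1 (flp_g L818177) (flp_c L818167) L825510
theorem L825516 : sm gd N63281 = N62738 := ded_36_1 (flp_g L825508) L825498 L825510
theorem L825518 : sm ge N63281 = N62902 := ded_41_1 (flp_g L821949) (flp_e L818175) L825510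
theorem L825520 : sm gh N63281 = N62908 := ded_50_2 (flp_g L822001) (flp_h L818171) L825510
theorem L825522 : sm gi N63281 = N63037 := ded_51_2 L823398 (flp_i L818173) L825510
theorem L825524 : sm gf N63281 = N62690 := ded_45_1 (flp_g L818907) (flp_f L809170) (flp_g L808460) L818163 L825510
theorem L825526 : sm gj N63281 = N62751 := ded_49_2 (flp_g L819844) L810337 L810616 (flp_j L818169) L825510
theorem L825528 : sm ge N62643 = N63282 := rfl
theorem L825530 : sm ga N63282 = N62644 := ded_13_1 (flp_e L818231) L818213 L825528
theorem L825532 : sm gb N63282 = N63184 := ded_21_1 (flp_e L824767) (flp_b L818229) L825528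
theorem L825534 : sm gc N63282 = N62903 := ded_28_1 (flp_e L821957) (flp_c L818215) L825528
theorem L825536 : sm gg N63282 = N63151 := ded_41_2 (flp_e L824445) (flp_g L818221) L825528
theorem L825538 : sm gj N63282 = N63258 := ded_42_2 (flp_e L825269) (flp_j L818223) L825528
theorem L825540 : sm gh N63282 = N62653 := ded_43_2 (flp_e L818367) (flp_h L818225) L825528
theorem L825542 : sm gi N63282 = N63039 := ded_44_2 (flp_e L823416) (flp_i L818227) L825528
theorem L825544 : sm gd N62644 = N63283 := rfl
theorem L825546 : sm gb N63283 = N62645 := ded_20_1 (flp_d L818245) (flp_b L818233) L825544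
theorem L825548 : sm gg N63283 = N63149 := ded_36_2 L824435 (flp_g L818237) L825544
theorem L825550 : sm gj N63283 = N63259 := ded_37_2 (flp_d L825279) (flp_j L818239) L825544
theorem L825552 : sm gi N63283 = N63040 := ded_39_2 (flp_d L823426) (flp_i L818243) L825544
theorem L825554 : sm ge N63283 = N62679 := ded_34_2 (flp_d L818751) (flp_e L808979) (flp_d L808534) L818231 L825544
theorem L825556 : sm gh N63283 = N62766 := ded_38_2 (flp_d L820040) L810530 (flp_d L808644) (flp_h L818241) L825544
theorem L825558 : sm gf N62644 = N63284 := rfl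
theorem L825560 : sm gb N63284 = N62646 := ded_22_1 (flp_f L818260) (flp_b L818233) L825558
theorem L825562 : sm gc N63284 = N62905 := ded_29_1 (flp_f L821975) (flp_c L818235) L825558
theorem L825564 : sm gj N63284 = N63257 := ded_46_2 L825265 (flp_j L818239) L825558
theorem L825566 : sm gh N63284 = N62654 := ded_47_2 (flp_f L818381) (flp_h L818241) L825558
theorem L825568 : sm gi N63284 = N63041 := ded_48_2 (flp_f L823434) (flp_i L818243) L825558
theorem L825570 : sm ge N63284 = N62893 := ded_40_1 (flp_f L821862) (flp_e L813066) (flp_f L808536) L818231 L825558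
theorem L825572 : sm gf N62645 = N63285 := rfl
theorem L825574 : sm ga N63285 = N63143 := ded_14_1 L824385 (flp_a L818247) L825572
theorem L825576 : sm gc N63285 = N63285 := ded_29_1 (flp_f L825572) L818255 L825572
theorem L825577 : sm gd N63285 = N62646 := ded_35_1 (flp_f L818260) L818245 L825572
theorem L825579 : sm gj N63285 = N63255 := ded_46_2 L825253 (flp_j L818251) L825572
theorem L825581 : sm gh N63285 = N62768 := ded_47_2 (flp_f L820060) (flp_h L818258) L825572
theorem L825583 : sm gi N63285 = N63019 := ded_48_2 L823232 (flp_i L818253) L825572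
theorem L825585 : sm gg N62646 = N63286 := rfl
theorem L825587 : sm ga N63286 = N63115 := ded_15_1 L824161 (flp_a L818262) L825585
theorem L825589 : sm gc N63286 = N62647 := ded_30_1 (flp_g L818274) (flp_c L818264) L825585
theorem L825591 : sm ge N63286 = N62896 := ded_41_1 (flp_g L821892) (flp_e L818272) L825585
theorem L825593 : sm gh N63286 = N62655 := ded_50_2 (flp_g L818391) (flp_h L818268) L825585
theorem L825595 : sm gi N63286 = N62764 := ded_51_2 L820024 (flp_i L818270) L825585
theorem L825597 : sm gf N63286 = N62967 := ded_45_1 (flp_g L822625) L814035 (flp_g L808554) L818260 L825585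
theorem L825599 : sm gj N63286 = N63053 := ded_49_2 (flp_g L823556) (flp_j L819114) L819122 (flp_j L818266) L825585
theorem L825601 : sm ge N62648 = N63287 := rfl
theorem L825603 : sm ga N63287 = N62649 := ded_13_1 (flp_e L818309) L818291 L825601
theorem L825605 : sm gb N63287 = N63048 := ded_21_1 (flp_e L823512) (flp_b L818307) L825601
theorem L825607 : sm gc N63287 = N62898 := ded_28_1 (flp_e L821922) (flp_c L818293) L825601
theorem L825609 : sm gg N63287 = N62986 := ded_41_2 (flp_e L822849) (flp_g L818299) L825601
theorem L825611 : sm gj N63287 = N63131 := ded_42_2 (flp_e L824302) (flp_j L818301) L825601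
theorem L825613 : sm gh N63287 = N62891 := ded_43_2 (flp_e L821842) (flp_h L818303) L825601
theorem L825615 : sm gi N63287 = N63128 := ded_44_2 (flp_e L824274) (flp_i L818305) L825601
theorem L825617 : sm gd N62649 = N63288 := rfl
theorem L825619 : sm gb N63288 = N62650 := ded_20_1 (flp_d L818323) (flp_b L818311) L825617
theorem L825621 : sm gg N63288 = N62987 := ded_36_2 (flp_d L822861) (flp_g L818315) L825617
theorem L825623 : sm gj N63288 = N63132 := ded_37_2 (flp_d L824310) (flp_j L818317) L825617
theorem L825625 : sm gi N63288 = N63129 := ded_39_2 (flp_d L824284) (flp_i L818321) L825617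
theorem L825627 : sm ge N63288 = N62657 := ded_34_2 (flp_d L818419) (flp_e L808682) (flp_d L808579) L818309 L825617
theorem L825629 : sm gf N62649 = N63289 := rfl
theorem L825631 : sm gb N63289 = N62651 := ded_22_1 (flp_f L818336) (flp_b L818311) L825629
theorem L825633 : sm gc N63289 = N62900 := ded_29_1 (flp_f L821938) (flp_c L818313) L825629
theorem L825635 : sm gj N63289 = N63133 := ded_46_2 (flp_f L824318) (flp_j L818317) L825629
theorem L825637 : sm gh N63289 = N62893 := ded_47_2 (flp_f L821862) (flp_h L818319) L825629
theorem L825639 : sm gi N63289 = N63130 := ded_48_2 (flp_f L824292) (flp_i L818321) L825629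
theorem L825641 : sm ge N63289 = N62654 := ded_40_1 (flp_f L818381) (flp_e L808634) (flp_f L808581) L818309 L825629
theorem L825643 : sm gf N62650 = N63290 := rfl
theorem L825645 : sm ga N63290 = N63051 := ded_14_1 (flp_f L823538) (flp_a L818325) L825643
theorem L825647 : sm gc N63290 = N63290 := ded_29_1 (flp_f L825643) L818333 L825643
theorem L825648 : sm gd N63290 = N62651 := ded_35_1 (flp_f L818336) L818323 L825643
theorem L825650 : sm gj N63290 = N63134 := ded_46_2 (flp_f L824326) (flp_j L818329) L825643
theorem L825652 : sm gi N63290 = N62990 := ded_48_2 L822901 (flp_i L818331) L825643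
theorem L825654 : sm ge N63290 = N62772 := ded_40_1 (flp_f L820099) L810586 (flp_f L808700) (flp_e L818334) L825643
theorem L825656 : sm gh N62650 = N63291 := rfl
theorem L825658 : sm ga N63291 = N63052 := ded_17_1 (flp_h L823547) (flp_a L818325) L825656
theorem L825660 : sm gc N63291 = N63291 := ded_32_1 (flp_h L825656) L818333 L825656
theorem L825661 : sm ge N63291 = N62658 := ded_43_1 (flp_h L818429) (flp_e L818334) L825656
theorem L825663 : sm gg N63291 = N62990 := ded_50_1 (flp_h L822894) (flp_g L818327) L825656
theorem L825665 : sm gj N63291 = N63135 := ded_52_1 (flp_h L824333) (flp_j L818329) L825656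
theorem L825667 : sm gd N63291 = N62895 := ded_38_1 (flp_h L821882) (flp_d L813076) (flp_h L808603) L818323 L825656
theorem L825669 : sm gg N62651 = N63292 := rfl
theorem L825671 : sm ga N63292 = N63053 := ded_15_1 (flp_g L823556) (flp_a L818338) L825669
theorem L825673 : sm gc N63292 = N62652 := ded_30_1 (flp_g L818350) (flp_c L818340) L825669
theorem L825675 : sm ge N63292 = N62655 := ded_41_1 (flp_g L818391) (flp_e L818348) L825669
theorem L825677 : sm gh N63292 = N62896 := ded_50_2 (flp_g L821892) (flp_h L818344) L825669
theorem L825679 : sm gi N63292 = N62895 := ded_51_2 L821890 (flp_i L818346) L825669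
theorem L825681 : sm gf N63292 = N62991 := ded_45_1 (flp_g L822907) (flp_f L814446) (flp_g L808599) L818336 L825669
theorem L825683 : sm gj N63292 = N63115 := ded_49_2 L824161 (flp_j L818729) L818737 (flp_j L818342) L825669
theorem L825685 : sm gf N62653 = N63293 := rfl
theorem L825687 : sm ga N63293 = N62654 := ded_14_1 (flp_f L818381) (flp_a L818369) L825685
theorem L825689 : sm gb N63293 = N63187 := ded_22_1 (flp_f L824791) (flp_b L818371) L825685
theorem L825691 : sm gd N63293 = N62774 := ded_35_1 (flp_f L820123) (flp_d L818379) L825685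
theorem L825693 : sm gj N63293 = N63270 := ded_46_2 L825341 (flp_j L818375) L825685
theorem L825695 : sm gi N63293 = N63166 := ded_48_2 (flp_f L824599) (flp_i L818377) L825685
theorem L825697 : sm gg N62654 = N63294 := rfl
theorem L825699 : sm gb N63294 = N62655 := ded_23_1 (flp_g L818391) (flp_b L818383) L825697
theorem L825701 : sm gd N63294 = N62775 := ded_36_1 (flp_g L820131) (flp_d L818385) L825697
theorem L825703 : sm gi N63294 = N63160 := ded_51_2 L824541 (flp_i L818389) L825697
theorem L825705 : sm gf N63294 = N63013 := ded_45_1 L823163 L814842 (flp_g L808638) L818381 L825697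
theorem L825707 : sm gd N62656 = N63295 := rfl
theorem L825709 : sm ga N63295 = N62657 := ded_12_1 (flp_d L818419) (flp_a L818405) L825707
theorem L825711 : sm gb N63295 = N63061 := ded_20_1 (flp_d L823617) (flp_b L818407) L825707
theorem L825713 : sm gf N63295 = N62776 := ded_35_2 (flp_d L820141) (flp_f L818417) L825707
theorem L825715 : sm gg N63295 = N62994 := ded_36_2 (flp_d L822947) (flp_g L818411) L825707
theorem L825717 : sm gi N63295 = N63167 := ded_39_2 (flp_d L824611) (flp_i L818415) L825707
theorem L825719 : sm gc N62657 = N63296 := rfl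
theorem L825721 : sm gf N63296 = N62777 := ded_29_2 (flp_c L820149) (flp_f L818423) L825719
theorem L825723 : sm gg N63296 = N62995 := ded_30_2 (flp_c L822955) (flp_g L818425) L825719
theorem L825725 : sm gi N63296 = N63168 := ded_33_2 (flp_c L824619) (flp_i L818427) L825719
theorem L825727 : sm gb N63296 = N63296 := ded_19_1 (flp_c L825719) L818421 L808706 (flp_b L818421) L825719
theorem L825728 : sm gd N63296 = N62975 := ded_27_2 (flp_c L822707) (flp_d L814211) (flp_c L808686) L818419 L825719
theorem L825730 : sm gh N62657 = N63297 := rfl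
theorem L825732 : sm gb N63297 = N62658 := ded_25_1 (flp_h L818429) (flp_b L818421) L825730
theorem L825734 : sm gf N63297 = N62778 := ded_47_1 (flp_h L820158) (flp_f L818423) L825730
theorem L825736 : sm gg N63297 = N62996 := ded_50_1 (flp_h L822960) (flp_g L818425) L825730
theorem L825738 : sm gd N63297 = N62684 := ded_38_1 (flp_h L818816) (flp_d L809052) (flp_h L808690) L818419 L825730
theorem L825740 : sm gi N62658 = N63298 := rfl
theorem L825742 : sm ga N63298 = N63064 := ded_18_1 (flp_i L823644) (flp_a L818431) L825740
theorem L825744 : sm gc N63298 = N63298 := ded_33_1 (flp_i L825740) L818433 L825740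
theorem L825745 : sm gd N63298 = N62685 := ded_39_1 (flp_i L818828) (flp_d L818438) L825740
theorem L825747 : sm gf N63298 = N62779 := ded_48_1 (flp_i L820166) (flp_f L818434) L825740
theorem L825749 : sm gg N63298 = N62772 := ded_51_1 L820106 (flp_g L818436) L825740
theorem L825751 : sm gj N63298 = N62901 := ded_53_1 L825444 L825440 L825740
theorem L825753 : sm gh N63298 = N63170 := ded_54_1 (flp_i L824632) (flp_h L816791) (flp_i L808704) L818429 L825740
theorem L825755 : sm ge N62659 = N63299 := rfl
theorem L825757 : sm ga N63299 = N62660 := ded_13_1 (flp_e L818458) L818440 L825755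
theorem L825759 : sm gb N63299 = N63039 := ded_21_1 (flp_e L823416) (flp_b L818456) L825755
theorem L825761 : sm gc N63299 = N63172 := ded_28_1 (flp_e L824653) (flp_c L818442) L825755
theorem L825763 : sm gg N63299 = N63190 := ded_41_2 (flp_e L824817) (flp_g L818448) L825755
theorem L825765 : sm gj N63299 = N62678 := ded_42_2 (flp_e L818739) (flp_j L818450) L825755
theorem L825767 : sm gh N63299 = N62664 := ded_43_2 (flp_e L818522) (flp_h L818452) L825755
theorem L825769 : sm gi N63299 = N63184 := ded_44_2 (flp_e L824767) (flp_i L818454) L825755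
theorem L825771 : sm gd N62660 = N63300 := rfl
theorem L825773 : sm gb N63300 = N62661 := ded_20_1 (flp_d L818472) (flp_b L818460) L825771
theorem L825775 : sm gg N63300 = N63191 := ded_36_2 (flp_d L824827) (flp_g L818464) L825771
theorem L825777 : sm gj N63300 = N62679 := ded_37_2 (flp_d L818751) (flp_j L818466) L825771
theorem L825779 : sm gi N63300 = N63185 := ded_39_2 (flp_d L824775) (flp_i L818470) L825771
theorem L825781 : sm ge N63300 = N63259 := ded_34_2 (flp_d L825279) (flp_e L817807) (flp_d L808729) L818458 L825771
theorem L825783 : sm gh N63300 = N62789 := ded_38_2 (flp_d L820309) L810791 (flp_d L808800) (flp_h L818468) L825771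
theorem L825785 : sm gf N63142 = N63300 := ded_22_0 L825773 (flp_f L818487) (flp_b L824378)
theorem L825787 : sm gf N62660 = N63301 := rfl
theorem L825789 : sm gb N63301 = N62662 := ded_22_1 (flp_f L818489) (flp_b L818460) L825787
theorem L825791 : sm gc N63301 = N63004 := ded_29_1 L823056 (flp_c L818462) L825787
theorem L825793 : sm gd N63301 = N63142 := ded_35_1 L825785 (flp_d L825771) L825787
theorem L825795 : sm gj N63301 = N62680 := ded_46_2 (flp_f L818759) (flp_j L818466) L825787
theorem L825797 : sm gh N63301 = N62665 := ded_47_2 (flp_f L818538) (flp_h L818468) L825787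
theorem L825799 : sm gi N63301 = N63186 := ded_48_2 (flp_f L824785) (flp_i L818470) L825787
theorem L825801 : sm ge N63301 = N63036 := ded_40_1 (flp_f L823378) (flp_e L815105) (flp_f L808731) L818458 L825787
theorem L825803 : sm gg N62662 = N63302 := rfl
theorem L825805 : sm ga N63302 = N62764 := ded_15_1 L820024 (flp_a L818491) L825803
theorem L825807 : sm gc N63302 = N62663 := ded_30_1 (flp_g L818505) (flp_c L818493) L825803
theorem L825809 : sm gd N63302 = N63135 := ded_36_1 L824336 (flp_d L818495) L825803
theorem L825811 : sm ge N63302 = N63038 := ded_41_1 L823410 (flp_e L818503) L825803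
theorem L825813 : sm gh N63302 = N62666 := ded_50_2 (flp_g L818552) (flp_h L818499) L825803
theorem L825815 : sm gi N63302 = N63115 := ded_51_2 L824161 (flp_i L818501) L825803
theorem L825817 : sm gf N63302 = N63116 := ded_45_1 L824169 L816140 (flp_g L808749) L818489 L825803
theorem L825819 : sm gj N63302 = N62895 := ded_49_2 L821890 L816297 (flp_g L809008) (flp_j L818497) L825803
theorem L825821 : sm gf N62664 = N63303 := rfl
theorem L825823 : sm ga N63303 = N62665 := ded_14_1 (flp_f L818538) (flp_a L818524) L825821
theorem L825825 : sm gb N63303 = N63181 := ded_22_1 L824744 (flp_b L818526) L825821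
theorem L825827 : sm gc N63303 = N63003 := ded_29_1 L823042 (flp_c L818528) L825821
theorem L825829 : sm gd N63303 = N62790 := ded_35_1 (flp_f L820319) (flp_d L818536) L825821
theorem L825831 : sm gj N63303 = N62682 := ded_46_2 (flp_f L818784) (flp_j L818532) L825821
theorem L825833 : sm gi N63303 = N62691 := ded_48_2 (flp_f L818923) (flp_i L818534) L825821
theorem L825835 : sm ge N63303 = N63171 := ded_40_1 (flp_f L824641) (flp_e L816800) (flp_f L808778) L818522 L825821
theorem L825837 : sm gg N62665 = N63304 := rfl
theorem L825839 : sm gb N63304 = N62666 := ded_23_1 (flp_g L818552) (flp_b L818540) L825837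
theorem L825841 : sm gc N63304 = N63000 := ded_30_1 L823012 (flp_c L818542) L825837
theorem L825843 : sm gd N63304 = N62760 := ded_36_1 L819980 (flp_d L818544) L825837
theorem L825845 : sm ge N63304 = N63035 := ded_41_1 L823372 (flp_e L818550) L825837
theorem L825847 : sm gi N63304 = N62692 := ded_51_2 (flp_g L818937) (flp_i L818548) L825837
theorem L825849 : sm gf N63304 = N63211 := ded_45_1 (flp_g L824955) (flp_f L817288) (flp_g L808794) L818538 L825837
theorem L825851 : sm gj N63304 = N62892 := ded_49_2 L821856 L816479 (flp_g L809036) (flp_j L818546) L825837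
theorem L825853 : sm ge N62667 = N63305 := rfl
theorem L825855 : sm ga N63305 = N62668 := ded_13_1 (flp_e L818586) L818568 L825853
theorem L825857 : sm gb N63305 = N63074 := ded_21_1 (flp_e L823735) (flp_b L818584) L825853
theorem L825859 : sm gc N63305 = N62838 := ded_28_1 (flp_e L821040) (flp_c L818570) L825853
theorem L825861 : sm gg N63305 = N62671 := ded_41_2 (flp_e L818634) (flp_g L818576) L825853
theorem L825863 : sm gj N63305 = N62999 := ded_42_2 (flp_e L822998) (flp_j L818578) L825853
theorem L825865 : sm gh N63305 = N62947 := ded_43_2 (flp_e L822440) (flp_h L818580) L825853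
theorem L825867 : sm gi N63305 = N62693 := ded_44_2 (flp_e L818951) (flp_i L818582) L825853
theorem L825869 : sm gd N62668 = N63306 := rfl
theorem L825871 : sm gb N63306 = N62669 := ded_20_1 (flp_d L818600) (flp_b L818588) L825869
theorem L825873 : sm gg N63306 = N62672 := ded_36_2 (flp_d L818648) (flp_g L818592) L825869
theorem L825875 : sm gj N63306 = N63000 := ded_37_2 (flp_d L823008) (flp_j L818594) L825869
theorem L825877 : sm gi N63306 = N62694 := ded_39_2 (flp_d L818965) (flp_i L818598) L825869
theorem L825879 : sm gc N63306 = N62892 := ded_27_1 (flp_d L821852) L813070 (flp_d L811993) (flp_c L818590) L825869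
theorem L825881 : sm ge N63306 = N63158 := ded_34_2 L824517 (flp_e L816741) (flp_d L808834) L818586 L825869
theorem L825883 : sm gf N63122 = N63306 := ded_22_0 L825871 (flp_f L818614) (flp_b L824223)
theorem L825885 : sm gf N62668 = N63307 := rfl
theorem L825887 : sm gb N63307 = N62670 := ded_22_1 (flp_f L818616) (flp_b L818588) L825885
theorem L825889 : sm gc N63307 = N62839 := ded_29_1 (flp_f L821052) (flp_c L818590) L825885
theorem L825891 : sm gd N63307 = N63122 := ded_35_1 L825883 (flp_d L825869) L825885
theorem L825893 : sm gj N63307 = N63001 := ded_46_2 (flp_f L823018) (flp_j L818594) L825885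
theorem L825895 : sm gh N63307 = N62949 := ded_47_2 (flp_f L822454) (flp_h L818596) L825885
theorem L825897 : sm gi N63307 = N62695 := ded_48_2 (flp_f L818979) (flp_i L818598) L825885
theorem L825899 : sm ge N63307 = N62926 := ded_40_1 (flp_f L822215) (flp_e L813474) (flp_f L808836) L818586 L825885
theorem L825901 : sm gg N63307 = N62792 := ded_45_2 (flp_f L820351) L810852 (flp_f L808904) (flp_g L818592) L825885
theorem L825903 : sm gh N62669 = N63308 := rfl
theorem L825905 : sm ga N63308 = N63046 := ded_17_1 L823496 (flp_a L818602) L825903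
theorem L825907 : sm gc N63308 = N62686 := ded_32_1 (flp_h L818844) (flp_c L818610) L825903
theorem L825909 : sm ge N63308 = N63037 := ded_43_1 (flp_h L823400) (flp_e L818612) L825903
theorem L825911 : sm gf N63308 = N63080 := ded_47_1 L823807 L818614 L825903
theorem L825913 : sm gg N63308 = N62673 := ded_50_1 (flp_h L818662) (flp_g L818604) L825903
theorem L825915 : sm gj N63308 = N63002 := ded_52_1 (flp_h L823026) (flp_j L818606) L825903
theorem L825917 : sm gd N63308 = N62951 := ded_38_1 (flp_h L822469) (flp_d L813886) (flp_h L808858) L818600 L825903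
theorem L825919 : sm gi N63308 = N62902 := ded_54_2 L821953 L813241 (flp_h L809280) (flp_i L818608) L825903
theorem L825921 : sm gd N62671 = N63309 := rfl
theorem L825923 : sm ga N63309 = N62672 := ded_12_1 (flp_d L818648) (flp_a L818636) L825921
theorem L825925 : sm gb N63309 = N63084 := ded_20_1 (flp_d L823845) (flp_b L818638) L825921
theorem L825927 : sm gf N63309 = N62793 := ded_35_2 (flp_d L820363) (flp_f L818646) L825921
theorem L825929 : sm gj N63309 = N62683 := ded_37_2 (flp_d L818800) (flp_j L818642) L825921
theorem L825931 : sm gi N63309 = N62696 := ded_39_2 (flp_d L818995) (flp_i L818644) L825921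
theorem L825933 : sm gc N63309 = N63152 := ded_27_1 L824461 L817227 (flp_d L814274) (flp_c L818640) L825921
theorem L825935 : sm ge N63309 = N63123 := ded_34_2 L824229 (flp_e L816800) (flp_d L808884) L818634 L825921
theorem L825937 : sm gh N62672 = N63310 := rfl
theorem L825939 : sm gb N63310 = N62673 := ded_25_1 (flp_h L818662) (flp_b L818650) L825937
theorem L825941 : sm gc N63310 = N63130 := ded_32_1 L824298 (flp_c L818658) L825937
theorem L825943 : sm ge N63310 = N63159 := ded_43_1 (flp_h L824525) (flp_e L818660) L825937
theorem L825945 : sm gf N63310 = N62794 := ded_47_1 (flp_h L820379) (flp_f L818652) L825937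
theorem L825947 : sm gj N63310 = N62684 := ded_52_1 (flp_h L818816) (flp_j L818654) L825937
theorem L825949 : sm gi N63310 = N62900 := ded_54_2 L821942 L813233 L809324 (flp_i L818656) L825937
theorem L825951 : sm ge N62674 = N63311 := rfl
theorem L825953 : sm ga N63311 = N62675 := ded_13_1 (flp_e L818694) L818676 L825951
theorem L825955 : sm gb N63311 = N63258 := ded_21_1 (flp_e L825269) (flp_b L818692) L825951
theorem L825957 : sm gc N63311 = N62769 := ded_28_1 (flp_e L820069) (flp_c L818678) L825951
theorem L825959 : sm gg N63311 = N62788 := ded_41_2 (flp_e L820293) (flp_g L818684) L825951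
theorem L825961 : sm gj N63311 = N63184 := ded_42_2 (flp_e L824767) (flp_j L818686) L825951
theorem L825963 : sm gh N63311 = N62709 := ded_43_2 (flp_e L819192) (flp_h L818688) L825951
theorem L825965 : sm gi N63311 = N62678 := ded_44_2 (flp_e L818739) (flp_i L818690) L825951
theorem L825967 : sm gd N62675 = N63312 := rfl
theorem L825969 : sm gb N63312 = N62676 := ded_20_1 (flp_d L818708) (flp_b L818696) L825967
theorem L825971 : sm gg N63312 = N62789 := ded_36_2 (flp_d L820309) (flp_g L818700) L825967
theorem L825973 : sm gj N63312 = N63185 := ded_37_2 (flp_d L824775) (flp_j L818702) L825967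
theorem L825975 : sm gi N63312 = N62679 := ded_39_2 (flp_d L818751) (flp_i L818706) L825967
theorem L825977 : sm ge N63312 = N63040 := ded_34_2 (flp_d L823426) (flp_e L815193) (flp_d L808922) L818694 L825967
theorem L825979 : sm gh N63312 = N63191 := ded_38_2 (flp_d L824827) L817123 (flp_d L809532) (flp_h L818704) L825967
theorem L825981 : sm gf N62675 = N63313 := rfl
theorem L825983 : sm gb N63313 = N62677 := ded_22_1 (flp_f L818723) (flp_b L818696) L825981
theorem L825985 : sm gc N63313 = N62771 := ded_29_1 (flp_f L820089) (flp_c L818698) L825981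
theorem L825987 : sm gj N63313 = N63186 := ded_46_2 (flp_f L824785) (flp_j L818702) L825981
theorem L825989 : sm gh N63313 = N62710 := ded_47_2 (flp_f L819206) (flp_h L818704) L825981
theorem L825991 : sm gi N63313 = N62680 := ded_48_2 (flp_f L818759) (flp_i L818706) L825981
theorem L825993 : sm ge N63313 = N62763 := ded_40_1 (flp_f L820008) (flp_e L810473) (flp_f L808924) L818694 L825981
theorem L825995 : sm gg N63313 = N63133 := ded_45_2 (flp_f L824318) L816315 (flp_f L810795) (flp_g L818700) L825981
theorem L825997 : sm gf N62676 = N63314 := rfl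
theorem L825999 : sm ga N63314 = N63255 := ded_14_1 L825253 (flp_a L818710) L825997
theorem L826001 : sm gc N63314 = N63314 := ded_29_1 (flp_f L825997) L818718 L825997
theorem L826002 : sm gd N63314 = N62677 := ded_35_1 (flp_f L818723) L818708 L825997
theorem L826004 : sm gj N63314 = N63143 := ded_46_2 L824385 (flp_j L818714) L825997
theorem L826006 : sm gh N63314 = N63108 := ded_47_2 L824091 (flp_h L818721) L825997
theorem L826008 : sm gi N63314 = N62681 := ded_48_2 (flp_f L818771) (flp_i L818716) L825997
theorem L826010 : sm gg N63314 = N63134 := ded_45_2 (flp_f L824326) L816321 (flp_f L810801) (flp_g L818712) L825997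
theorem L826012 : sm gd N62678 = N63315 := rfl
theorem L826014 : sm ga N63315 = N62679 := ded_12_1 (flp_d L818751) (flp_a L818741) L826012
theorem L826016 : sm gb N63315 = N63260 := ded_20_1 (flp_d L825287) (flp_b L818743) L826012
theorem L826018 : sm gg N63315 = N63145 := ded_36_2 L824399 (flp_g L818747) L826012
theorem L826020 : sm gh N63315 = N62799 := ded_38_2 (flp_d L820461) L811054 (flp_d L809022) (flp_h L818749) L826012
theorem L826022 : sm gf N62678 = N63316 := rfl
theorem L826024 : sm ga N63316 = N62680 := ded_14_1 (flp_f L818759) (flp_a L818741) L826022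
theorem L826026 : sm gb N63316 = N63256 := ded_22_1 L825259 (flp_b L818743) L826022
theorem L826028 : sm gc N63316 = N63005 := ded_29_1 L823068 (flp_c L818745) L826022
theorem L826030 : sm gh N63316 = N62682 := ded_47_2 (flp_f L818784) (flp_h L818749) L826022
theorem L826032 : sm ge N63316 = N63178 := ded_40_1 (flp_f L824709) (flp_e L816913) (flp_f L808971) L818739 L826022
theorem L826034 : sm gg N63316 = N63137 := ded_45_2 (flp_f L824344) L816338 L816382 (flp_g L818747) L826022
theorem L826036 : sm gc N62679 = N63317 := rfl
theorem L826038 : sm gg N63317 = N63147 := ded_30_2 L824414 (flp_g L818755) L826036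
theorem L826040 : sm gh N63317 = N62801 := ded_32_2 (flp_c L820485) (flp_h L818757) L826036
theorem L826042 : sm gb N63317 = N63317 := ded_19_1 (flp_c L826036) L818753 L808995 (flp_b L818753) L826036
theorem L826043 : sm gd N63317 = N63180 := ded_27_2 (flp_c L824731) (flp_d L816959) (flp_c L808983) L818751 L826036
theorem L826045 : sm gf N62679 = N63318 := rfl
theorem L826047 : sm gb N63318 = N62681 := ded_22_1 (flp_f L818771) (flp_b L818753) L826045
theorem L826049 : sm gd N63318 = N62680 := ded_35_1 (flp_f L818759) L818751 L826045
theorem L826051 : sm gj N63318 = N63142 := ded_46_2 L825785 L825777 L826045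
theorem L826053 : sm gh N63318 = N62802 := ded_47_2 (flp_f L820490) (flp_h L818757) L826045
theorem L826055 : sm gg N63318 = N63139 := ded_45_2 (flp_f L824357) L816346 L816397 (flp_g L818755) L826045
theorem L826057 : sm ge N62681 = N63319 := rfl
theorem L826059 : sm ga N63319 = N63029 := ded_13_1 L823318 (flp_a L818773) L826057
theorem L826061 : sm gc N63319 = N63319 := ded_28_1 (flp_e L826057) L818775 L826057
theorem L826062 : sm gg N63319 = N62985 := ded_41_2 L822841 (flp_g L818782) L826057
theorem L826064 : sm gj N63319 = N62951 := ded_42_2 L822472 (flp_j L818778) L826057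
theorem L826066 : sm gh N63319 = N62803 := ded_43_2 (flp_e L820502) (flp_h L818780) L826057
theorem L826068 : sm gd N63319 = N63002 := ded_34_1 L823032 L816879 (flp_e L809006) (flp_d L818776) L826057
theorem L826070 : sm gh N62683 = N63320 := rfl
theorem L826072 : sm ga N63320 = N62684 := ded_17_1 (flp_h L818816) (flp_a L818802) L826070
theorem L826074 : sm gb N63320 = N63086 := ded_25_1 (flp_h L823871) (flp_b L818804) L826070
theorem L826076 : sm gc N63320 = N63137 := ded_32_1 L824348 (flp_c L818812) L826070
theorem L826078 : sm ge N63320 = N63155 := ded_43_1 (flp_h L824489) (flp_e L818814) L826070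
theorem L826080 : sm gf N63320 = N62805 := ded_47_1 (flp_h L820535) (flp_f L818806) L826070
theorem L826082 : sm gg N63320 = N63005 := ded_50_1 (flp_h L823060) (flp_g L818808) L826070
theorem L826084 : sm gi N62684 = N63321 := rfl
theorem L826086 : sm gb N63321 = N62685 := ded_26_1 (flp_i L818828) (flp_b L818818) L826084
theorem L826088 : sm gc N63321 = N63133 := ded_33_1 L824322 (flp_c L818820) L826084
theorem L826090 : sm ge N63321 = N62775 := ded_44_1 L820137 (flp_e L818822) L826084
theorem L826092 : sm gf N63321 = N62806 := ded_48_1 (flp_i L820547) (flp_f L818824) L826084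
theorem L826094 : sm gg N63321 = N62771 := ded_51_1 L820095 (flp_g L818826) L826084
theorem L826096 : sm gj N63321 = N62900 := ded_53_1 (flp_i L825949) L825947 L826084
theorem L826098 : sm gh N63321 = N62720 := ded_54_1 (flp_i L819358) (flp_h L809696) (flp_i L809060) L818816 L826084
theorem L826100 : sm gd N62687 = N63322 := rfl
theorem L826102 : sm ga N63322 = N62688 := ded_12_1 (flp_d L818875) (flp_a L818863) L826100
theorem L826104 : sm gb N63322 = N63081 := ded_20_1 L823821 (flp_b L818865) L826100
theorem L826106 : sm gj N63322 = N62714 := ded_37_2 (flp_d L819266) (flp_j L818869) L826100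
theorem L826108 : sm gi N63322 = N63123 := ded_39_2 L824229 (flp_i L818873) L826100
theorem L826110 : sm gc N63322 = N63181 := ded_27_1 (flp_d L824740) L816981 (flp_d L816713) (flp_c L818867) L826100
theorem L826112 : sm ge N63322 = N62696 := ded_34_2 (flp_d L818995) (flp_e L809300) (flp_d L809130) L818861 L826100
theorem L826114 : sm gf N63047 = N63322 := ded_14_0 L826102 (flp_f L818887) (flp_a L823500)
theorem L826116 : sm gh N63055 = N63322 := ded_17_0 L826102 (flp_h L818889) (flp_a L823574)
theorem L826118 : sm gf N62687 = N63323 := rfl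
theorem L826120 : sm ga N63323 = N62689 := ded_14_1 (flp_f L818891) (flp_a L818863) L826118
theorem L826122 : sm gb N63323 = N63152 := ded_22_1 (flp_f L824457) (flp_b L818865) L826118
theorem L826124 : sm gc N63323 = N63014 := ded_29_1 L823175 (flp_c L818867) L826118
theorem L826126 : sm gd N63323 = N63047 := ded_35_1 L826114 (flp_d L826100) L826118
theorem L826128 : sm gj N63323 = N62715 := ded_46_2 (flp_f L819282) (flp_j L818869) L826118
theorem L826130 : sm gh N63323 = N63200 := ded_47_2 (flp_f L824882) (flp_h L818871) L826118
theorem L826132 : sm gi N63323 = N63171 := ded_48_2 (flp_f L824641) (flp_i L818873) L826118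
theorem L826134 : sm ge N63323 = N62691 := ded_40_1 (flp_f L818923) (flp_e L809202) (flp_f L809132) L818861 L826118
theorem L826136 : sm gg N62689 = N63324 := rfl
theorem L826138 : sm gb N63324 = N62690 := ded_23_1 (flp_g L818907) (flp_b L818893) L826136
theorem L826140 : sm gc N63324 = N63013 := ded_30_1 L823163 (flp_c L818895) L826136
theorem L826142 : sm gd N63324 = N62737 := ded_36_1 L819642 (flp_d L818897) L826136
theorem L826144 : sm ge N63324 = N62692 := ded_41_1 (flp_g L818937) (flp_e L818905) L826136
theorem L826146 : sm gh N63324 = N63157 := ded_50_2 L824513 (flp_h L818901) L826136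
theorem L826148 : sm gi N63324 = N63035 := ded_51_2 L823372 (flp_i L818903) L826136
theorem L826150 : sm gj N63324 = N62762 := ded_49_2 L820002 L816995 (flp_g L809644) (flp_j L818899) L826136
theorem L826152 : sm gg N62691 = N63325 := rfl
theorem L826154 : sm ga N63325 = N62692 := ded_15_1 (flp_g L818937) (flp_a L818925) L826152
theorem L826156 : sm gb N63325 = N63177 := ded_23_1 L824707 (flp_b L818927) L826152
theorem L826158 : sm gc N63325 = N63015 := ded_30_1 L823189 (flp_c L818929) L826152
theorem L826160 : sm gd N63325 = N62821 := ded_36_1 (flp_g L820752) (flp_d L818931) L826152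
theorem L826162 : sm gh N63325 = N63156 := ded_50_2 L824507 (flp_h L818935) L826152
theorem L826164 : sm gf N63325 = N63212 := ded_45_1 (flp_g L824961) (flp_f L817302) (flp_g L809210) L818923 L826152
theorem L826166 : sm gj N63325 = N63042 := ded_49_2 L823450 L819344 (flp_g L819328) (flp_j L818933) L826152
theorem L826168 : sm gd N62693 = N63326 := rfl
theorem L826170 : sm ga N63326 = N62694 := ded_12_1 (flp_d L818965) (flp_a L818953) L826168
theorem L826172 : sm gb N63326 = N63119 := ded_20_1 (flp_d L824195) (flp_b L818955) L826168
theorem L826174 : sm gg N63326 = N62696 := ded_36_2 (flp_d L818995) (flp_g L818959) L826168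
theorem L826176 : sm gj N63326 = N63015 := ded_37_2 (flp_d L823183) (flp_j L818961) L826168
theorem L826178 : sm gc N63326 = N63042 := ded_27_1 (flp_d L823446) L815224 (flp_d L814189) (flp_c L818957) L826168
theorem L826180 : sm gh N63326 = N63060 := ded_38_2 L823613 (flp_h L821659) L821655 (flp_h L818963) L826168
theorem L826182 : sm gf N63121 = N63326 := ded_14_0 L826170 (flp_f L818977) (flp_a L824217)
theorem L826184 : sm gf N62693 = N63327 := rfl
theorem L826186 : sm ga N63327 = N62695 := ded_14_1 (flp_f L818979) (flp_a L818953) L826184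
theorem L826188 : sm gb N63327 = N62964 := ded_22_1 L822595 (flp_b L818955) L826184
theorem L826190 : sm gc N63327 = N62973 := ded_29_1 (flp_f L822685) (flp_c L818957) L826184
theorem L826192 : sm gd N63327 = N63121 := ded_35_1 L826182 (flp_d L826168) L826184
theorem L826194 : sm gj N63327 = N63016 := ded_46_2 (flp_f L823191) (flp_j L818961) L826184
theorem L826196 : sm gh N63327 = N62877 := ded_47_2 (flp_f L821645) (flp_h L818963) L826184
theorem L826198 : sm ge N63327 = N62929 := ded_40_1 (flp_f L822236) (flp_e L813499) (flp_f L809248) L818951 L826184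
theorem L826200 : sm gg N63327 = N62823 := ded_45_2 (flp_f L820786) L811435 (flp_f L809312) (flp_g L818959) L826184
theorem L826202 : sm ge N62697 = N63328 := rfl
theorem L826204 : sm ga N63328 = N62698 := ded_13_1 (flp_e L819027) L819009 L826202
theorem L826206 : sm gb N63328 = N62980 := ded_21_1 L822775 (flp_b L819025) L826202
theorem L826208 : sm gc N63328 = N62709 := ded_28_1 (flp_e L819192) (flp_c L819011) L826202
theorem L826210 : sm gg N63328 = N62787 := ded_41_2 (flp_e L820275) (flp_g L819017) L826202
theorem L826212 : sm gj N63328 = N62959 := ded_42_2 L822541 (flp_j L819019) L826202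
theorem L826214 : sm gh N63328 = N62769 := ded_43_2 (flp_e L820069) (flp_h L819021) L826202
theorem L826216 : sm gi N63328 = N62699 := ded_44_2 (flp_e L819045) (flp_i L819023) L826202
theorem L826218 : sm gd N63328 = N62939 := ded_34_1 (flp_e L822330) L813659 (flp_e L810983) (flp_d L819013) L826202
theorem L826220 : sm gf N63024 = N63328 := ded_14_0 L826204 (flp_f L819043) (flp_a L823271)
theorem L826222 : sm ge N62700 = N63329 := rfl
theorem L826224 : sm ga N63329 = N62701 := ded_13_1 (flp_e L819081) L819063 L826222
theorem L826226 : sm gb N63329 = N63131 := ded_21_1 (flp_e L824302) (flp_b L819079) L826222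
theorem L826228 : sm gc N63329 = N62765 := ded_28_1 (flp_e L820028) (flp_c L819065) L826222
theorem L826230 : sm gg N63329 = N63017 := ded_41_2 (flp_e L823201) (flp_g L819071) L826222
theorem L826232 : sm gj N63329 = N63048 := ded_42_2 (flp_e L823512) (flp_j L819073) L826222
theorem L826234 : sm gh N63329 = N62761 := ded_43_2 (flp_e L819988) (flp_h L819075) L826222
theorem L826236 : sm gi N63329 = N62704 := ded_44_2 (flp_e L819124) (flp_i L819077) L826222
theorem L826238 : sm gd N62701 = N63330 := rfl
theorem L826240 : sm gb N63330 = N62702 := ded_20_1 (flp_d L819095) (flp_b L819083) L826238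
theorem L826242 : sm gg N63330 = N63018 := ded_36_2 (flp_d L823217) (flp_g L819087) L826238
theorem L826244 : sm gj N63330 = N63049 := ded_37_2 (flp_d L823520) (flp_j L819089) L826238
theorem L826246 : sm gi N63330 = N62705 := ded_39_2 (flp_d L819138) (flp_i L819093) L826238
theorem L826248 : sm ge N63330 = N62785 := ded_34_2 (flp_d L820256) (flp_e L810714) (flp_d L809412) L819081 L826238
theorem L826250 : sm gf N62701 = N63331 := rfl
theorem L826252 : sm gb N63331 = N62703 := ded_22_1 (flp_f L819108) (flp_b L819083) L826250
theorem L826254 : sm gc N63331 = N62767 := ded_29_1 (flp_f L820050) (flp_c L819085) L826250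
theorem L826256 : sm gj N63331 = N63050 := ded_46_2 (flp_f L823530) (flp_j L819089) L826250
theorem L826258 : sm gh N63331 = N62763 := ded_47_2 (flp_f L820008) (flp_h L819091) L826250
theorem L826260 : sm gi N63331 = N62706 := ded_48_2 (flp_f L819148) (flp_i L819093) L826250
theorem L826262 : sm ge N63331 = N62710 := ded_40_1 (flp_f L819206) (flp_e L809522) (flp_f L809414) L819081 L826250
theorem L826264 : sm gg N63331 = N63257 := ded_45_2 L825265 L817811 (flp_f L814924) (flp_g L819087) L826250
theorem L826266 : sm gf N62702 = N63332 := rfl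
theorem L826268 : sm ga N63332 = N63134 := ded_14_1 (flp_f L824326) (flp_a L819097) L826266
theorem L826270 : sm gc N63332 = N63332 := ded_29_1 (flp_f L826266) L819105 L826266
theorem L826271 : sm gd N63332 = N62703 := ded_35_1 (flp_f L819108) L819095 L826266
theorem L826273 : sm gj N63332 = N63051 := ded_46_2 (flp_f L823538) (flp_j L819101) L826266
theorem L826275 : sm gi N63332 = N62707 := ded_48_2 (flp_f L819162) (flp_i L819103) L826266
theorem L826277 : sm ge N63332 = N63033 := ded_40_1 L823350 L817262 (flp_f L810730) (flp_e L819106) L826266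
theorem L826279 : sm gg N63332 = N63255 := ded_45_2 L825253 L817819 (flp_f L814930) (flp_g L819099) L826266
theorem L826281 : sm gh N62702 = N63333 := rfl
theorem L826283 : sm ga N63333 = N63135 := ded_17_1 (flp_h L824333) (flp_a L819097) L826281
theorem L826285 : sm gc N63333 = N63333 := ded_32_1 (flp_h L826281) L819105 L826281
theorem L826286 : sm ge N63333 = N62786 := ded_43_1 (flp_h L820266) (flp_e L819106) L826281
theorem L826288 : sm gg N63333 = N63019 := ded_50_1 (flp_h L823227) (flp_g L819099) L826281
theorem L826290 : sm gj N63333 = N63052 := ded_52_1 (flp_h L823547) (flp_j L819101) L826281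
theorem L826292 : sm gd N63333 = N62764 := ded_38_1 (flp_h L820018) (flp_d L810483) (flp_h L809436) L819095 L826281
theorem L826294 : sm gd N62704 = N63334 := rfl
theorem L826296 : sm ga N63334 = N62705 := ded_12_1 (flp_d L819138) (flp_a L819126) L826294
theorem L826298 : sm gb N63334 = N63136 := ded_20_1 (flp_d L824338) (flp_b L819128) L826294
theorem L826300 : sm gg N63334 = N63020 := ded_36_2 (flp_d L823238) (flp_g L819132) L826294
theorem L826302 : sm gj N63334 = N63199 := ded_37_2 (flp_d L824876) (flp_j L819134) L826294
theorem L826304 : sm ge N63334 = N62815 := ded_34_2 (flp_d L820676) (flp_e L811276) (flp_d L809461) L819124 L826294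
theorem L826306 : sm gf N62704 = N63335 := rfl
theorem L826308 : sm ga N63335 = N62706 := ded_14_1 (flp_f L819148) (flp_a L819126) L826306
theorem L826310 : sm gb N63335 = N63137 := ded_22_1 (flp_f L824344) (flp_b L819128) L826306
theorem L826312 : sm gc N63335 = N63023 := ded_29_1 L823267 (flp_c L819130) L826306
theorem L826314 : sm gj N63335 = N63200 := ded_46_2 (flp_f L824882) (flp_j L819134) L826306
theorem L826316 : sm gh N63335 = N62715 := ded_47_2 (flp_f L819282) (flp_h L819136) L826306
theorem L826318 : sm ge N63335 = N62712 := ded_40_1 (flp_f L819236) (flp_e L809564) (flp_f L809463) L819124 L826306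
theorem L826320 : sm gg N63335 = N63256 := ded_45_2 L825259 L817828 (flp_f L814945) (flp_g L819132) L826306
theorem L826322 : sm gc N62705 = N63336 := rfl
theorem L826324 : sm ge N63336 = N62816 := ded_28_2 (flp_c L820684) (flp_e L819146) L826322
theorem L826326 : sm gg N63336 = N63021 := ded_30_2 (flp_c L823246) (flp_g L819142) L826322
theorem L826328 : sm gj N63336 = N63201 := ded_31_2 (flp_c L824888) (flp_j L819144) L826322
theorem L826330 : sm gb N63336 = N63336 := ded_19_1 (flp_c L826322) L819140 L809493 (flp_b L819140) L826322
theorem L826331 : sm gd N63336 = N63164 := ded_27_2 (flp_c L824580) (flp_d L816723) (flp_c L809477) L819138 L826322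
theorem L826333 : sm gf N62705 = N63337 := rfl
theorem L826335 : sm gb N63337 = N62707 := ded_22_1 (flp_f L819162) (flp_b L819140) L826333
theorem L826337 : sm gd N63337 = N62706 := ded_35_1 (flp_f L819148) L819138 L826333
theorem L826339 : sm gj N63337 = N63058 := ded_46_2 L823599 (flp_j L819144) L826333
theorem L826341 : sm ge N63337 = N63032 := ded_40_1 L823339 L817278 (flp_f L811292) (flp_e L819146) L826333
theorem L826343 : sm gg N63337 = N63254 := ded_45_2 L825244 L817836 (flp_f L814951) (flp_g L819142) L826333
theorem L826345 : sm gh N63026 = N63337 := ded_25_0 L826335 (flp_h L819175) (flp_b L823291)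
theorem L826347 : sm gh N62705 = N63338 := rfl
theorem L826349 : sm gb N63338 = N62708 := ded_25_1 (flp_h L819177) (flp_b L819140) L826347
theorem L826351 : sm ge N63338 = N62817 := ded_43_1 (flp_h L820693) (flp_e L819146) L826347
theorem L826353 : sm gf N63338 = N63026 := ded_47_1 L826345 (flp_f L826333) L826347
theorem L826355 : sm gg N63338 = N63022 := ded_50_1 (flp_h L823251) (flp_g L819142) L826347
theorem L826357 : sm gj N63338 = N63057 := ded_52_1 (flp_h L823591) (flp_j L819144) L826347
theorem L826359 : sm gd N63338 = N62716 := ded_38_1 (flp_h L819298) (flp_d L809618) (flp_h L809483) L819138 L826347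
theorem L826361 : sm gi N62708 = N63339 := rfl
theorem L826363 : sm ga N63339 = N63092 := ded_18_1 (flp_i L823943) (flp_a L819179) L826361
theorem L826365 : sm gc N63339 = N63339 := ded_33_1 (flp_i L826361) L819181 L826361
theorem L826366 : sm gd N63339 = N62717 := ded_39_1 (flp_i L819312) (flp_d L819190) L826361
theorem L826368 : sm ge N63339 = N62818 := ded_44_1 (flp_i L820703) (flp_e L819182) L826361
theorem L826370 : sm gf N63339 = N62888 := ded_48_1 L821817 (flp_f L819184) L826361
theorem L826372 : sm gg N63339 = N62768 := ded_51_1 L820067 (flp_g L819186) L826361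
theorem L826374 : sm gj N63339 = N62906 := ded_53_1 L821988 (flp_j L819188) L826361
theorem L826376 : sm gf N62709 = N63340 := rfl
theorem L826378 : sm ga N63340 = N62710 := ded_14_1 (flp_f L819206) (flp_a L819194) L826376
theorem L826380 : sm gb N63340 = N63270 := ded_22_1 L825341 (flp_b L819196) L826376
theorem L826382 : sm gc N63340 = N63024 := ded_29_1 L826220 L826208 L826376
theorem L826384 : sm gd N63340 = N63210 := ded_35_1 (flp_f L824947) (flp_d L819204) L826376
theorem L826386 : sm gj N63340 = N63187 := ded_46_2 (flp_f L824791) (flp_j L819200) L826376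
theorem L826388 : sm gi N63340 = N62712 := ded_48_2 (flp_f L819236) (flp_i L819202) L826376
theorem L826390 : sm gg N62710 = N63341 := rfl
theorem L826392 : sm gb N63341 = N62711 := ded_23_1 (flp_g L819218) (flp_b L819208) L826390
theorem L826394 : sm gc N63341 = N62720 := ded_30_1 L819364 (flp_c L819210) L826390
theorem L826396 : sm gd N63341 = N63211 := ded_36_1 (flp_g L824955) (flp_d L819212) L826390
theorem L826398 : sm ge N63341 = N63257 := ded_41_1 (flp_g L826264) L826262 L826390
theorem L826400 : sm gh N63341 = N63133 := ded_50_2 (flp_g L825995) L825989 L826390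
theorem L826402 : sm gi N63341 = N62713 := ded_51_2 (flp_g L819250) (flp_i L819216) L826390
theorem L826404 : sm gf N63341 = N62760 := ded_45_1 L819980 (flp_f L810818) (flp_g L809526) L819206 L826390
theorem L826406 : sm gj N62893 = N63341 := ded_24_0 L826392 (flp_j L819234) (flp_b L821864)
theorem L826408 : sm gg N62712 = N63342 := rfl
theorem L826410 : sm ga N63342 = N62713 := ded_15_1 (flp_g L819250) (flp_a L819238) L826408
theorem L826412 : sm gb N63342 = N63178 := ded_23_1 L824717 (flp_b L819240) L826408
theorem L826414 : sm gc N63342 = N62719 := ded_30_1 L819354 (flp_c L819242) L826408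
theorem L826416 : sm gd N63342 = N63212 := ded_36_1 (flp_g L824961) (flp_d L819244) L826408
theorem L826418 : sm ge N63342 = N63256 := ded_41_1 (flp_g L826320) L826318 L826408
theorem L826420 : sm gh N63342 = N62718 := ded_50_2 (flp_g L819328) (flp_h L819248) L826408
theorem L826422 : sm gf N63342 = N62821 := ded_45_1 (flp_g L820752) (flp_f L811369) (flp_g L809570) L819236 L826408
theorem L826424 : sm gj N63043 = N63342 := ded_16_0 L826410 (flp_j L819264) (flp_a L823454)
theorem L826426 : sm gh N62714 = N63343 := rfl
theorem L826428 : sm ga N63343 = N62716 := ded_17_1 (flp_h L819298) (flp_a L819268) L826426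
theorem L826430 : sm gb N63343 = N63088 := ded_25_1 (flp_h L823897) (flp_b L819270) L826426
theorem L826432 : sm gc N63343 = N63256 := ded_32_1 (flp_h L825255) (flp_c L819276) L826426
theorem L826434 : sm ge N63343 = N62719 := ded_43_1 (flp_h L819346) (flp_e L819278) L826426
theorem L826436 : sm gf N63343 = N63025 := ded_47_1 L823287 L819280 L826426
theorem L826438 : sm gg N63343 = N63023 := ded_50_1 (flp_h L823259) (flp_g L819272) L826426
theorem L826440 : sm gj N63343 = N63055 := ded_52_1 L826116 L826106 L826426
theorem L826442 : sm gi N62716 = N63344 := rfl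
theorem L826444 : sm gb N63344 = N62717 := ded_26_1 (flp_i L819312) (flp_b L819300) L826442
theorem L826446 : sm gc N63344 = N63257 := ded_33_1 (flp_i L825261) (flp_c L819302) L826442
theorem L826448 : sm ge N63344 = N62720 := ded_44_1 (flp_i L819358) (flp_e L819304) L826442
theorem L826450 : sm gf N63344 = N62887 := ded_48_1 L821807 (flp_f L819306) L826442
theorem L826452 : sm gg N63344 = N62767 := ded_51_1 L820056 (flp_g L819308) L826442
theorem L826454 : sm gj N63344 = N62905 := ded_53_1 L821979 (flp_j L819310) L826442
theorem L826456 : sm gh N63344 = N62775 := ded_54_1 L820137 (flp_h L816619) (flp_i L809624) L819298 L826442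
theorem L826458 : sm gi N62719 = N63345 := rfl
theorem L826460 : sm ga N63345 = N62720 := ded_18_1 (flp_i L819358) (flp_a L819348) L826458
theorem L826462 : sm gb N63345 = N63154 := ded_26_1 (flp_i L824479) (flp_b L819350) L826458
theorem L826464 : sm gf N63345 = N62827 := ded_48_1 (flp_i L820860) (flp_f L819352) L826458
theorem L826466 : sm gg N63345 = N63024 := ded_51_1 (flp_i L823269) (flp_g L819354) L826458
theorem L826468 : sm gj N63345 = N62909 := ded_53_1 L822015 (flp_j L819356) L826458
theorem L826470 : sm ge N62722 = N63346 := rfl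
theorem L826472 : sm ga N63346 = N62723 := ded_13_1 (flp_e L819404) L819386 L826470
theorem L826474 : sm gb N63346 = N62843 := ded_21_1 (flp_e L821110) (flp_b L819402) L826470
theorem L826476 : sm gc N63346 = N62732 := ded_28_1 (flp_e L819557) (flp_c L819388) L826470
theorem L826478 : sm gg N63346 = N62940 := ded_41_2 (flp_e L822344) (flp_g L819394) L826470
theorem L826480 : sm gj N63346 = N62840 := ded_42_2 (flp_e L821062) (flp_j L819396) L826470
theorem L826482 : sm gh N63346 = N62828 := ded_43_2 (flp_e L820872) (flp_h L819398) L826470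
theorem L826484 : sm gi N63346 = N62971 := ded_44_2 (flp_e L822661) (flp_i L819400) L826470
theorem L826486 : sm gf N63346 = N62889 := ded_40_2 (flp_e L821822) L813029 (flp_e L809807) (flp_f L819392) L826470
theorem L826488 : sm gd N62723 = N63347 := rfl
theorem L826490 : sm gb N63347 = N62724 := ded_20_1 (flp_d L819420) (flp_b L819406) L826488
theorem L826492 : sm gf N63347 = N62890 := ded_35_2 (flp_d L821834) (flp_f L819418) L826488
theorem L826494 : sm gg N63347 = N62941 := ded_36_2 (flp_d L822356) (flp_g L819410) L826488
theorem L826496 : sm gj N63347 = N62841 := ded_37_2 (flp_d L821078) (flp_j L819412) L826488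
theorem L826498 : sm gi N63347 = N62972 := ded_39_2 (flp_d L822673) (flp_i L819416) L826488
theorem L826500 : sm ge N63347 = N63221 := ded_34_2 (flp_d L825018) (flp_e L817417) (flp_d L809773) L819404 L826488
theorem L826502 : sm gh N63347 = N62870 := ded_38_2 (flp_d L821528) L812658 (flp_d L811785) (flp_h L819414) L826488
theorem L826504 : sm gd N62726 = N63348 := rfl
theorem L826506 : sm ga N63348 = N62727 := ded_12_1 (flp_d L819473) (flp_a L819457) L826504
theorem L826508 : sm gb N63348 = N62981 := ded_20_1 (flp_d L822785) (flp_b L819459) L826504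
theorem L826510 : sm gf N63348 = N63245 := ded_35_2 (flp_d L825187) (flp_f L819471) L826504
theorem L826512 : sm gg N63348 = N62974 := ded_36_2 (flp_d L822697) (flp_g L819463) L826504
theorem L826514 : sm gj N63348 = N63238 := ded_37_2 (flp_d L825138) (flp_j L819465) L826504
theorem L826516 : sm gi N63348 = N63101 := ded_39_2 L824034 (flp_i L819469) L826504
theorem L826518 : sm ge N63348 = N62978 := ded_34_2 (flp_d L822744) (flp_e L814278) (flp_d L809855) L819455 L826504
theorem L826520 : sm gh N63348 = N63215 := ded_38_2 (flp_d L824976) L817360 (flp_d L809914) (flp_h L819467) L826504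
theorem L826522 : sm gc N62727 = N63349 := rfl
theorem L826524 : sm ge N63349 = N62979 := ded_28_2 (flp_c L822756) (flp_e L819485) L826522
theorem L826526 : sm gf N63349 = N63246 := ded_29_2 (flp_c L825195) (flp_f L819477) L826522
theorem L826528 : sm gg N63349 = N62975 := ded_30_2 (flp_c L822707) (flp_g L819479) L826522
theorem L826530 : sm gj N63349 = N63239 := ded_31_2 (flp_c L825146) (flp_j L819481) L826522
theorem L826532 : sm gh N63349 = N63216 := ded_32_2 (flp_c L824986) (flp_h L819487) L826522
theorem L826534 : sm gi N63349 = N63102 := ded_33_2 L824039 (flp_i L819483) L826522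
theorem L826536 : sm gb N63349 = N63349 := ded_19_1 (flp_c L826522) L819475 L809897 (flp_b L819475) L826522
theorem L826537 : sm gd N63349 = N62995 := ded_27_2 (flp_c L822955) (flp_d L814523) (flp_c L809873) L819473 L826522
theorem L826539 : sm gd N62728 = N63350 := rfl
theorem L826541 : sm ga N63350 = N62729 := ded_12_1 (flp_d L819507) (flp_a L819491) L826539
theorem L826543 : sm gb N63350 = N62776 := ded_20_1 (flp_d L820141) (flp_b L819493) L826539
theorem L826545 : sm gf N63350 = N63061 := ded_35_2 (flp_d L823617) (flp_f L819505) L826539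
theorem L826547 : sm gg N63350 = N63245 := ded_36_2 (flp_d L825187) (flp_g L819497) L826539
theorem L826549 : sm gj N63350 = N63235 := ded_37_2 (flp_d L825123) (flp_j L819499) L826539
theorem L826551 : sm gi N63350 = N63161 := ded_39_2 (flp_d L824545) (flp_i L819503) L826539
theorem L826553 : sm ge N63350 = N63217 := ded_34_2 (flp_d L824993) (flp_e L817370) (flp_d L809942) L819489 L826539
theorem L826555 : sm gh N63350 = N63194 := ded_38_2 (flp_d L824852) L817158 (flp_d L810072) (flp_h L819501) L826539
theorem L826557 : sm gc N62729 = N63351 := rfl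
theorem L826559 : sm ge N63351 = N63218 := ded_28_2 (flp_c L824999) (flp_e L819519) L826557
theorem L826561 : sm gf N63351 = N63062 := ded_29_2 (flp_c L823625) (flp_f L819511) L826557
theorem L826563 : sm gg N63351 = N63246 := ded_30_2 (flp_c L825195) (flp_g L819513) L826557
theorem L826565 : sm gj N63351 = N63236 := ded_31_2 (flp_c L825129) (flp_j L819515) L826557
theorem L826567 : sm gh N63351 = N63195 := ded_32_2 (flp_c L824856) (flp_h L819521) L826557
theorem L826569 : sm gi N63351 = N63162 := ded_33_2 (flp_c L824559) (flp_i L819517) L826557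
theorem L826571 : sm gb N63351 = N63351 := ded_19_1 (flp_c L826557) L819509 L809984 (flp_b L819509) L826557
theorem L826572 : sm gd N63351 = N62982 := ded_27_2 (flp_c L822799) (flp_d L814362) (flp_c L809960) L819507 L826557
theorem L826574 : sm gd N62730 = N63352 := rfl
theorem L826576 : sm ga N63352 = N62731 := ded_12_1 (flp_d L819541) (flp_a L819525) L826574
theorem L826578 : sm gb N63352 = N62799 := ded_20_1 (flp_d L820461) (flp_b L819527) L826574
theorem L826580 : sm gf N63352 = N63252 := ded_35_2 (flp_d L825231) (flp_f L819539) L826574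
theorem L826582 : sm gg N63352 = N63163 := ded_36_2 (flp_d L824572) (flp_g L819531) L826574
theorem L826584 : sm gj N63352 = N63262 := ded_37_2 (flp_d L825298) (flp_j L819533) L826574
theorem L826586 : sm gi N63352 = N63182 := ded_39_2 (flp_d L824752) (flp_i L819537) L826574
theorem L826588 : sm ge N63352 = N63196 := ded_34_2 (flp_d L824861) (flp_e L817164) (flp_d L809993) L819523 L826574
theorem L826590 : sm gh N63352 = N63260 := ded_38_2 (flp_d L825287) L817830 (flp_d L810054) (flp_h L819535) L826574
theorem L826592 : sm gc N62731 = N63353 := rfl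
theorem L826594 : sm ge N63353 = N63197 := ded_28_2 (flp_c L824867) (flp_e L819553) L826592
theorem L826596 : sm gf N63353 = N63253 := ded_29_2 (flp_c L825235) (flp_f L819545) L826592
theorem L826598 : sm gg N63353 = N63164 := ded_30_2 (flp_c L824580) (flp_g L819547) L826592
theorem L826600 : sm gj N63353 = N63263 := ded_31_2 (flp_c L825304) (flp_j L819549) L826592
theorem L826602 : sm gh N63353 = N63261 := ded_32_2 (flp_c L825293) (flp_h L819555) L826592
theorem L826604 : sm gi N63353 = N63183 := ded_33_2 (flp_c L824760) (flp_i L819551) L826592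
theorem L826606 : sm gb N63353 = N63353 := ded_19_1 (flp_c L826592) L819543 L810035 (flp_b L819543) L826592
theorem L826607 : sm gd N63353 = N63021 := ded_27_2 (flp_c L823246) (flp_d L814947) (flp_c L810011) L819541 L826592
theorem L826609 : sm gd N62732 = N63354 := rfl
theorem L826611 : sm ga N63354 = N62733 := ded_12_1 (flp_d L819571) (flp_a L819559) L826609
theorem L826613 : sm gb N63354 = N62815 := ded_20_1 (flp_d L820676) (flp_b L819561) L826609
theorem L826615 : sm gf N63354 = N63233 := ded_35_2 (flp_d L825110) (flp_f L819569) L826609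
theorem L826617 : sm gg N63354 = N62952 := ded_36_2 (flp_d L822474) (flp_g L819563) L826609
theorem L826619 : sm gj N63354 = N63167 := ded_37_2 (flp_d L824611) (flp_j L819565) L826609
theorem L826621 : sm ge N63354 = N63136 := ded_34_2 (flp_d L824338) (flp_e L816334) (flp_d L810078) L819557 L826609
theorem L826623 : sm gc N62733 = N63355 := rfl
theorem L826625 : sm ge N63355 = N63138 := ded_28_2 (flp_c L824352) (flp_e L819581) L826623
theorem L826627 : sm gf N63355 = N63234 := ded_29_2 (flp_c L825118) (flp_f L819575) L826623
theorem L826629 : sm gg N63355 = N62954 := ded_30_2 (flp_c L822488) (flp_g L819577) L826623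
theorem L826631 : sm gj N63355 = N63168 := ded_31_2 (flp_c L824619) (flp_j L819579) L826623
theorem L826633 : sm gb N63355 = N63355 := ded_19_1 (flp_c L826623) L819573 L810112 (flp_b L819573) L826623
theorem L826634 : sm gh N62733 = N63356 := rfl
theorem L826636 : sm gb N63356 = N62734 := ded_25_1 (flp_h L819583) (flp_b L819573) L826634
theorem L826638 : sm ge N63356 = N63090 := ded_43_1 L823927 (flp_e L819581) L826634
theorem L826640 : sm gf N63356 = N62941 := ded_47_1 L822364 (flp_f L819575) L826634
theorem L826642 : sm gg N63356 = N62956 := ded_50_1 (flp_h L822499) (flp_g L819577) L826634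
theorem L826644 : sm gj N63356 = N63169 := ded_52_1 (flp_h L824624) (flp_j L819579) L826634
theorem L826646 : sm gd N63356 = N62942 := ded_38_1 L822374 L813850 (flp_h L810098) L819571 L826634
theorem L826648 : sm gi N62734 = N63357 := rfl
theorem L826650 : sm ga N63357 = N62818 := ded_18_1 (flp_i L820703) (flp_a L819585) L826648
theorem L826652 : sm gc N63357 = N63357 := ded_33_1 (flp_i L826648) L819587 L826648
theorem L826653 : sm gd N63357 = N62833 := ded_39_1 L820967 (flp_d L819596) L826648
theorem L826655 : sm ge N63357 = N63092 := ded_44_1 (flp_i L823943) (flp_e L819588) L826648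
theorem L826657 : sm gf N63357 = N62832 := ded_48_1 L820950 (flp_f L819590) L826648
theorem L826659 : sm gg N63357 = N62958 := ded_51_1 (flp_i L822520) (flp_g L819592) L826648
theorem L826661 : sm gj N63357 = N63170 := ded_53_1 (flp_i L824632) (flp_j L819594) L826648
theorem L826663 : sm gh N63357 = N62901 := ded_54_1 L825444 (flp_h L825429) L818110 L819583 L826648
theorem L826665 : sm ge N62736 = N63358 := rfl
theorem L826667 : sm ga N63358 = N62737 := ded_13_1 (flp_e L819636) L819618 L826665
theorem L826669 : sm gb N63358 = N62891 := ded_21_1 (flp_e L821842) (flp_b L819634) L826665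
theorem L826671 : sm gc N63358 = N62749 := ded_28_1 (flp_e L819820) (flp_c L819620) L826665
theorem L826673 : sm gg N63358 = N63047 := ded_41_2 (flp_e L823498) (flp_g L819626) L826665
theorem L826675 : sm gj N63358 = N62761 := ded_42_2 (flp_e L819988) (flp_j L819628) L826665
theorem L826677 : sm gh N63358 = N63048 := ded_43_2 (flp_e L823512) (flp_h L819630) L826665
theorem L826679 : sm gi N63358 = N63034 := ded_44_2 (flp_e L823354) (flp_i L819632) L826665
theorem L826681 : sm gf N62737 = N63359 := rfl
theorem L826683 : sm gb N63359 = N62738 := ded_22_1 (flp_f L819650) (flp_b L819638) L826681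
theorem L826685 : sm gc N63359 = N62750 := ded_29_1 (flp_f L819834) (flp_c L819640) L826681
theorem L826687 : sm gj N63359 = N62763 := ded_46_2 (flp_f L820008) (flp_j L819644) L826681
theorem L826689 : sm gh N63359 = N63050 := ded_47_2 (flp_f L823530) (flp_h L819646) L826681
theorem L826691 : sm gi N63359 = N63036 := ded_48_2 (flp_f L823378) (flp_i L819648) L826681
theorem L826693 : sm ge N63359 = N63186 := ded_40_1 (flp_f L824785) (flp_e L817025) (flp_f L810173) L819636 L826681
theorem L826695 : sm ge N62739 = N63360 := rfl
theorem L826697 : sm ga N63360 = N62740 := ded_13_1 (flp_e L819682) L819664 L826695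
theorem L826699 : sm gb N63360 = N63190 := ded_21_1 (flp_e L824817) (flp_b L819680) L826695
theorem L826701 : sm gc N63360 = N63048 := ded_28_1 (flp_e L823512) (flp_c L819666) L826695
theorem L826703 : sm gg N63360 = N63039 := ded_41_2 (flp_e L823416) (flp_g L819672) L826695
theorem L826705 : sm gj N63360 = N62765 := ded_42_2 (flp_e L820028) (flp_j L819674) L826695
theorem L826707 : sm gh N63360 = N62749 := ded_43_2 (flp_e L819820) (flp_h L819676) L826695
theorem L826709 : sm gi N63360 = N63151 := ded_44_2 (flp_e L824445) (flp_i L819678) L826695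
theorem L826711 : sm gd N62740 = N63361 := rfl
theorem L826713 : sm gb N63361 = N62741 := ded_20_1 (flp_d L819696) (flp_b L819684) L826711
theorem L826715 : sm gg N63361 = N63040 := ded_36_2 (flp_d L823426) (flp_g L819688) L826711
theorem L826717 : sm gj N63361 = N62766 := ded_37_2 (flp_d L820040) (flp_j L819690) L826711
theorem L826719 : sm gi N63361 = N63149 := ded_39_2 L824435 (flp_i L819694) L826711
theorem L826721 : sm ge N63361 = N62789 := ded_34_2 (flp_d L820309) (flp_e L810783) (flp_d L810217) L819682 L826711
theorem L826723 : sm gh N63361 = N63259 := ded_38_2 (flp_d L825279) L817813 (flp_d L810327) (flp_h L819692) L826711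
theorem L826725 : sm gf N62740 = N63362 := rfl
theorem L826727 : sm gb N63362 = N62742 := ded_22_1 (flp_f L819711) (flp_b L819684) L826725
theorem L826729 : sm gc N63362 = N63050 := ded_29_1 (flp_f L823530) (flp_c L819686) L826725
theorem L826731 : sm gj N63362 = N62767 := ded_46_2 (flp_f L820050) (flp_j L819690) L826725
theorem L826733 : sm gh N63362 = N62750 := ded_47_2 (flp_f L819834) (flp_h L819692) L826725
theorem L826735 : sm gi N63362 = N62965 := ded_48_2 L822609 (flp_i L819694) L826725
theorem L826737 : sm ge N63362 = N62961 := ded_40_1 (flp_f L822549) L813951 (flp_f L810219) L819682 L826725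
theorem L826739 : sm gf N62741 = N63363 := rfl
theorem L826741 : sm ga N63363 = N63108 := ded_14_1 L824091 (flp_a L819698) L826739
theorem L826743 : sm gc N63363 = N63363 := ded_29_1 (flp_f L826739) L819706 L826739
theorem L826744 : sm gd N63363 = N62742 := ded_35_1 (flp_f L819711) L819696 L826739
theorem L826746 : sm gj N63363 = N62768 := ded_46_2 (flp_f L820060) (flp_j L819702) L826739
theorem L826748 : sm gh N63363 = N63255 := ded_47_2 L825253 (flp_h L819709) L826739
theorem L826750 : sm gi N63363 = N62957 := ded_48_2 L822518 (flp_i L819704) L826739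
theorem L826752 : sm ge N63363 = N62950 := ded_40_1 (flp_f L822462) L813891 (flp_f L810801) (flp_e L819707) L826739
theorem L826754 : sm gg N62742 = N63364 := rfl
theorem L826756 : sm ga N63364 = N63116 := ded_15_1 L824169 (flp_a L819713) L826754
theorem L826758 : sm gc N63364 = N62743 := ded_30_1 (flp_g L819725) (flp_c L819715) L826754
theorem L826760 : sm ge N63364 = N62911 := ded_41_1 L822039 (flp_e L819723) L826754
theorem L826762 : sm gh N63364 = N62751 := ded_50_2 (flp_g L819844) (flp_h L819719) L826754
theorem L826764 : sm gi N63364 = N62967 := ded_51_2 (flp_g L822625) (flp_i L819721) L826754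
theorem L826766 : sm gf N63364 = N62764 := ded_45_1 L820024 (flp_f L815210) (flp_g L810237) L819711 L826754
theorem L826768 : sm gj N63364 = N62908 := ded_49_2 (flp_g L822001) (flp_j L819324) L819322 (flp_j L819717) L826754
theorem L826770 : sm ge N62744 = N63365 := rfl
theorem L826772 : sm ga N63365 = N62745 := ded_13_1 (flp_e L819760) L819742 L826770
theorem L826774 : sm gb N63365 = N63206 := ded_21_1 (flp_e L824912) (flp_b L819758) L826770
theorem L826776 : sm gc N63365 = N63184 := ded_28_1 (flp_e L824767) (flp_c L819744) L826770
theorem L826778 : sm gg N63365 = N63188 := ded_41_2 (flp_e L824799) (flp_g L819750) L826770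
theorem L826780 : sm gj N63365 = N62769 := ded_42_2 (flp_e L820069) (flp_j L819752) L826770
theorem L826782 : sm gh N63365 = N62959 := ded_43_2 L822541 (flp_h L819754) L826770
theorem L826784 : sm gi N63365 = N63172 := ded_44_2 (flp_e L824653) (flp_i L819756) L826770
theorem L826786 : sm gd N62745 = N63366 := rfl
theorem L826788 : sm gb N63366 = N62746 := ded_20_1 (flp_d L819774) (flp_b L819762) L826786
theorem L826790 : sm gg N63366 = N63189 := ded_36_2 (flp_d L824809) (flp_g L819766) L826786
theorem L826792 : sm gj N63366 = N62770 := ded_37_2 (flp_d L820079) (flp_j L819768) L826786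
theorem L826794 : sm gi N63366 = N63173 := ded_39_2 (flp_d L824663) (flp_i L819772) L826786
theorem L826796 : sm ge N63366 = N62757 := ded_34_2 (flp_d L819933) (flp_e L810412) (flp_d L810262) L819760 L826786
theorem L826798 : sm gh N63366 = N62925 := ded_38_2 (flp_d L822207) L813480 L813941 (flp_h L819770) L826786
theorem L826800 : sm gf N62745 = N63367 := rfl
theorem L826802 : sm gb N63367 = N62747 := ded_22_1 (flp_f L819789) (flp_b L819762) L826800
theorem L826804 : sm gc N63367 = N63186 := ded_29_1 (flp_f L824785) (flp_c L819764) L826800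
theorem L826806 : sm gj N63367 = N62771 := ded_46_2 (flp_f L820089) (flp_j L819768) L826800
theorem L826808 : sm gh N63367 = N62961 := ded_47_2 (flp_f L822549) (flp_h L819770) L826800
theorem L826810 : sm gi N63367 = N63004 := ded_48_2 L823056 (flp_i L819772) L826800
theorem L826812 : sm ge N63367 = N62750 := ded_40_1 (flp_f L819834) (flp_e L810317) (flp_f L810264) L819760 L826800
theorem L826814 : sm gf N62746 = N63368 := rfl
theorem L826816 : sm ga N63368 = N63033 := ded_14_1 L823350 (flp_a L819776) L826814
theorem L826818 : sm gc N63368 = N63368 := ded_29_1 (flp_f L826814) L819784 L826814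
theorem L826819 : sm gd N63368 = N62747 := ded_35_1 (flp_f L819789) L819774 L826814
theorem L826821 : sm gj N63368 = N62772 := ded_46_2 (flp_f L820099) (flp_j L819780) L826814
theorem L826823 : sm gh N63368 = N62927 := ded_47_2 (flp_f L822223) (flp_h L819787) L826814
theorem L826825 : sm gi N63368 = N62985 := ded_48_2 L822843 (flp_i L819782) L826814
theorem L826827 : sm ge N63368 = N63134 := ded_40_1 (flp_f L824326) (flp_e L818113) L818104 (flp_e L819785) L826814
theorem L826829 : sm gg N62747 = N63369 := rfl
theorem L826831 : sm ga N63369 = N63080 := ded_15_1 L823805 (flp_a L819791) L826829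
theorem L826833 : sm gc N63369 = N62748 := ded_30_1 (flp_g L819803) (flp_c L819793) L826829
theorem L826835 : sm ge N63369 = N62751 := ded_41_1 (flp_g L819844) (flp_e L819801) L826829
theorem L826837 : sm gh N63369 = N62911 := ded_50_2 L822039 (flp_h L819797) L826829
theorem L826839 : sm gi N63369 = N63002 := ded_51_2 L823034 (flp_i L819799) L826829
theorem L826841 : sm gf N63369 = N63046 := ded_45_1 L823492 L815714 (flp_g L810282) L819789 L826829
theorem L826843 : sm gj N63369 = N62902 := ded_49_2 (flp_g L821949) (flp_j L818840) L818838 (flp_j L819795) L826829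
theorem L826845 : sm gf N62749 = N63370 := rfl
theorem L826847 : sm ga N63370 = N62750 := ded_14_1 (flp_f L819834) (flp_a L819822) L826845
theorem L826849 : sm gb N63370 = N63210 := ded_22_1 (flp_f L824947) (flp_b L819824) L826845
theorem L826851 : sm gd N63370 = N63270 := ded_35_1 L825341 (flp_d L819832) L826845
theorem L826853 : sm gj N63370 = N62774 := ded_46_2 (flp_f L820123) (flp_j L819828) L826845
theorem L826855 : sm gi N63370 = N63174 := ded_48_2 (flp_f L824673) (flp_i L819830) L826845
theorem L826857 : sm gg N62750 = N63371 := rfl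
theorem L826859 : sm gb N63371 = N62751 := ded_23_1 (flp_g L819844) (flp_b L819836) L826857
theorem L826861 : sm gd N63371 = N62763 := ded_36_1 L820016 (flp_d L819838) L826857
theorem L826863 : sm gi N63371 = N63175 := ded_51_2 (flp_g L824685) (flp_i L819842) L826857
theorem L826865 : sm gf N63371 = N62762 := ded_45_1 L820002 L816993 (flp_g L810321) L819834 L826857
theorem L826867 : sm ge N62752 = N63372 := rfl
theorem L826869 : sm ga N63372 = N62753 := ded_13_1 (flp_e L819874) L819856 L826867
theorem L826871 : sm gb N63372 = N62924 := ded_21_1 (flp_e L822197) (flp_b L819872) L826867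
theorem L826873 : sm gc N63372 = N63027 := ded_28_1 (flp_e L823299) (flp_c L819858) L826867
theorem L826875 : sm gg N63372 = N62756 := ded_41_2 (flp_e L819919) (flp_g L819864) L826867
theorem L826877 : sm gj N63372 = N63069 := ded_42_2 (flp_e L823682) (flp_j L819866) L826867
theorem L826879 : sm gh N63372 = N62791 := ded_43_2 (flp_e L820335) (flp_h L819868) L826867
theorem L826881 : sm gi N63372 = N62869 := ded_44_2 (flp_e L821516) (flp_i L819870) L826867
theorem L826883 : sm gd N62753 = N63373 := rfl
theorem L826885 : sm gb N63373 = N62754 := ded_20_1 (flp_d L819888) (flp_b L819876) L826883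
theorem L826887 : sm gg N63373 = N62757 := ded_36_2 (flp_d L819933) (flp_g L819880) L826883
theorem L826889 : sm gj N63373 = N63070 := ded_37_2 (flp_d L823692) (flp_j L819882) L826883
theorem L826891 : sm gi N63373 = N62870 := ded_39_2 (flp_d L821528) (flp_i L819886) L826883
theorem L826893 : sm ge N63373 = N63189 := ded_34_2 (flp_d L824809) (flp_e L817076) (flp_d L810353) L819874 L826883
theorem L826895 : sm gh N63373 = N63207 := ded_38_2 (flp_d L824922) L817251 (flp_d L810858) (flp_h L819884) L826883
theorem L826897 : sm gf N62753 = N63374 := rfl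
theorem L826899 : sm gb N63374 = N62755 := ded_22_1 (flp_f L819903) (flp_b L819876) L826897
theorem L826901 : sm gc N63374 = N62969 := ded_29_1 L822649 (flp_c L819878) L826897
theorem L826903 : sm gj N63374 = N62934 := ded_46_2 L822276 (flp_j L819882) L826897
theorem L826905 : sm gh N63374 = N62792 := ded_47_2 (flp_f L820351) (flp_h L819884) L826897
theorem L826907 : sm gi N63374 = N62871 := ded_48_2 (flp_f L821536) (flp_i L819886) L826897
theorem L826909 : sm ge N63374 = N62962 := ded_40_1 L822569 (flp_e L815564) (flp_f L810355) L819874 L826897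
theorem L826911 : sm gg N63374 = N62949 := ded_45_2 (flp_f L822454) (flp_g L818090) L818098 (flp_g L819880) L826897
theorem L826913 : sm gf N62754 = N63375 := rfl
theorem L826915 : sm ga N63375 = N62927 := ded_14_1 (flp_f L822223) (flp_a L819890) L826913
theorem L826917 : sm gc N63375 = N63375 := ded_29_1 (flp_f L826913) L819898 L826913
theorem L826918 : sm gd N63375 = N62755 := ded_35_1 (flp_f L819903) L819888 L826913
theorem L826920 : sm gj N63375 = N62915 := ded_46_2 L822073 (flp_j L819894) L826913
theorem L826922 : sm gh N63375 = N63033 := ded_47_2 L823350 (flp_h L819901) L826913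
theorem L826924 : sm gi N63375 = N62872 := ded_48_2 (flp_f L821550) (flp_i L819896) L826913
theorem L826926 : sm gg N63375 = N62950 := ded_45_2 (flp_f L822462) (flp_g L818106) L818104 (flp_g L819892) L826913
theorem L826928 : sm gd N62756 = N63376 := rfl
theorem L826930 : sm ga N63376 = N62757 := ded_12_1 (flp_d L819933) (flp_a L819921) L826928
theorem L826932 : sm gb N63376 = N63235 := ded_20_1 (flp_d L825123) (flp_b L819923) L826928
theorem L826934 : sm gj N63376 = N62776 := ded_37_2 (flp_d L820141) (flp_j L819927) L826928
theorem L826936 : sm gi N63376 = N63233 := ded_39_2 (flp_d L825110) (flp_i L819931) L826928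
theorem L826938 : sm gc N62757 = N63377 := rfl
theorem L826940 : sm gj N63377 = N62777 := ded_31_2 (flp_c L820149) (flp_j L819937) L826938
theorem L826942 : sm gi N63377 = N63234 := ded_33_2 (flp_c L825118) (flp_i L819939) L826938
theorem L826944 : sm gb N63377 = N63377 := ded_19_1 (flp_c L826938) L819935 L810432 (flp_b L819935) L826938
theorem L826945 : sm gd N63377 = N63031 := ded_27_2 (flp_c L823330) (flp_d L815078) (flp_c L810416) L819933 L826938
theorem L826947 : sm gh N62757 = N63378 := rfl
theorem L826949 : sm gb N63378 = N62758 := ded_25_1 (flp_h L819941) (flp_b L819935) L826947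
theorem L826951 : sm ge N63378 = N62925 := ded_43_1 (flp_h L826798) L826796 L826947
theorem L826953 : sm gg N63378 = N63207 := ded_50_1 (flp_h L826895) L826887 L826947
theorem L826955 : sm gj N63378 = N62778 := ded_52_1 (flp_h L820158) (flp_j L819937) L826947
theorem L826957 : sm gd N63378 = N62794 := ded_38_1 (flp_h L820379) (flp_d L810884) (flp_h L810420) L819933 L826947
theorem L826959 : sm gi N62899 = N63378 := ded_26_0 L826949 (flp_i L819954) (flp_b L821932)
theorem L826961 : sm ge N62759 = N63379 := rfl
theorem L826963 : sm ga N63379 = N62760 := ded_13_1 (flp_e L819974) L819956 L826961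
theorem L826965 : sm gb N63379 = N62761 := ded_21_1 (flp_e L819988) (flp_b L819972) L826961
theorem L826967 : sm gc N63379 = N62827 := ded_28_1 L820866 (flp_c L819958) L826961
theorem L826969 : sm gg N63379 = N62790 := ded_41_2 L820333 (flp_g L819964) L826961
theorem L826971 : sm gj N63379 = N62891 := ded_42_2 (flp_e L821842) (flp_j L819966) L826961
theorem L826973 : sm gh N63379 = N63131 := ded_43_2 (flp_e L824302) (flp_h L819968) L826961
theorem L826975 : sm gi N63379 = N62821 := ded_44_2 L820760 (flp_i L819970) L826961
theorem L826977 : sm gd N62761 = N63380 := rfl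
theorem L826979 : sm ga N63380 = N62762 := ded_12_1 (flp_d L819998) (flp_a L819990) L826977
theorem L826981 : sm gg N63380 = N63181 := ded_36_2 (flp_d L824740) (flp_g L819994) L826977
theorem L826983 : sm gi N63380 = N63177 := ded_39_2 (flp_d L824703) (flp_i L819996) L826977
theorem L826985 : sm ge N63380 = N63042 := ded_34_2 (flp_d L823446) (flp_e L815220) (flp_d L810467) L819988 L826977
theorem L826987 : sm gf N62761 = N63381 := rfl
theorem L826989 : sm ga N63381 = N62763 := ded_14_1 (flp_f L820008) (flp_a L819990) L826987
theorem L826991 : sm gc N63381 = N62774 := ded_29_1 (flp_f L820123) (flp_c L819992) L826987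
theorem L826993 : sm gi N63381 = N63178 := ded_48_2 (flp_f L824709) (flp_i L819996) L826987
theorem L826995 : sm gg N63381 = N63270 := ded_45_2 L825341 L817938 (flp_f L816987) (flp_g L819994) L826987
theorem L826997 : sm gh N62762 = N63382 := rfl
theorem L826999 : sm gb N63382 = N62764 := ded_25_1 (flp_h L820018) (flp_b L820000) L826997
theorem L827001 : sm gc N63382 = N63059 := ded_32_1 L825476 L825472 L826997
theorem L827003 : sm ge N63382 = N63045 := ded_43_1 (flp_h L823474) (flp_e L820006) L826997
theorem L827005 : sm gg N63382 = N63041 := ded_50_1 L823442 (flp_g L820002) L826997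
theorem L827007 : sm gj N63382 = N63157 := ded_52_1 (flp_h L826146) L826150 L826997
theorem L827009 : sm gd N62765 = N63383 := rfl
theorem L827011 : sm ga N63383 = N62766 := ded_12_1 (flp_d L820040) (flp_a L820030) L827009
theorem L827013 : sm gb N63383 = N63196 := ded_20_1 (flp_d L824861) (flp_b L820032) L827009
theorem L827015 : sm gg N63383 = N63182 := ded_36_2 (flp_d L824752) (flp_g L820034) L827009
theorem L827017 : sm gi N63383 = N63163 := ded_39_2 (flp_d L824572) (flp_i L820038) L827009
theorem L827019 : sm ge N63383 = N62799 := ded_34_2 (flp_d L820461) (flp_e L811048) (flp_d L810514) L820028 L827009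
theorem L827021 : sm gf N62765 = N63384 := rfl
theorem L827023 : sm ga N63384 = N62767 := ded_14_1 (flp_f L820050) (flp_a L820030) L827021
theorem L827025 : sm gb N63384 = N63153 := ded_22_1 L824475 (flp_b L820032) L827021
theorem L827027 : sm gh N63384 = N62774 := ded_47_2 (flp_f L820123) (flp_h L820036) L827021
theorem L827029 : sm gi N63384 = N63023 := ded_48_2 L823267 (flp_i L820038) L827021
theorem L827031 : sm ge N63384 = N63024 := ded_40_1 L826220 (flp_e L826202) L819015 L820028 L827021
theorem L827033 : sm gc N62766 = N63385 := rfl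
theorem L827035 : sm ge N63385 = N62801 := ded_28_2 (flp_c L820485) (flp_e L820048) L827033
theorem L827037 : sm gg N63385 = N63183 := ded_30_2 (flp_c L824760) (flp_g L820044) L827033
theorem L827039 : sm gi N63385 = N63164 := ded_33_2 (flp_c L824580) (flp_i L820046) L827033
theorem L827041 : sm gb N63385 = N63385 := ded_19_1 (flp_c L827033) L820042 L810542 (flp_b L820042) L827033
theorem L827042 : sm gf N62766 = N63386 := rfl
theorem L827044 : sm gb N63386 = N62768 := ded_22_1 (flp_f L820060) (flp_b L820042) L827042
theorem L827046 : sm gd N63386 = N62767 := ded_35_1 (flp_f L820050) L820040 L827042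
theorem L827048 : sm gi N63386 = N63022 := ded_48_2 L823255 (flp_i L820046) L827042
theorem L827050 : sm ge N62768 = N63387 := rfl
theorem L827052 : sm ga N63387 = N62958 := ded_13_1 L822525 (flp_a L820062) L827050
theorem L827054 : sm gc N63387 = N63387 := ded_28_1 (flp_e L827050) L820064 L827050
theorem L827055 : sm gg N63387 = N62818 := ded_41_2 (flp_e L826368) L826372 L827050
theorem L827057 : sm gj N63387 = N62950 := ded_42_2 (flp_e L826752) L826746 L827050
theorem L827059 : sm gi N63387 = N62814 := ded_44_2 L820666 (flp_i L820067) L827050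
theorem L827061 : sm gd N63387 = N62882 := ded_34_1 L821723 L812944 (flp_e L810555) (flp_d L820065) L827050
theorem L827063 : sm gf N63387 = N62803 := ded_40_2 (flp_e L820502) (flp_f L811078) (flp_e L810543) L820060 L827050
theorem L827065 : sm gd N62769 = N63388 := rfl
theorem L827067 : sm ga N63388 = N62770 := ded_12_1 (flp_d L820079) (flp_a L820071) L827065
theorem L827069 : sm gb N63388 = N63217 := ded_20_1 (flp_d L824993) (flp_b L820073) L827065
theorem L827071 : sm gg N63388 = N63249 := ded_36_2 (flp_d L825210) (flp_g L820075) L827065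
theorem L827073 : sm gi N63388 = N63179 := ded_39_2 (flp_d L824719) (flp_i L820077) L827065
theorem L827075 : sm ge N63388 = N62776 := ded_34_2 (flp_d L820141) (flp_e L810626) (flp_d L810559) L820069 L827065
theorem L827077 : sm gf N62769 = N63389 := rfl
theorem L827079 : sm ga N63389 = N62771 := ded_14_1 (flp_f L820089) (flp_a L820071) L827077
theorem L827081 : sm gb N63389 = N63089 := ded_22_1 L823915 (flp_b L820073) L827077
theorem L827083 : sm gh N63389 = N63024 := ded_47_2 L826220 L826214 L827077
theorem L827085 : sm gi N63389 = N63005 := ded_48_2 L823068 (flp_i L820077) L827077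
theorem L827087 : sm ge N63389 = N62774 := ded_40_1 (flp_f L820123) (flp_e L810600) (flp_f L810561) L820069 L827077
theorem L827089 : sm gc N62770 = N63390 := rfl
theorem L827091 : sm ge N63390 = N62777 := ded_28_2 (flp_c L820149) (flp_e L820087) L827089
theorem L827093 : sm gg N63390 = N63250 := ded_30_2 (flp_c L825218) (flp_g L820083) L827089
theorem L827095 : sm gi N63390 = N63180 := ded_33_2 (flp_c L824731) (flp_i L820085) L827089
theorem L827097 : sm gb N63390 = N63390 := ded_19_1 (flp_c L827089) L820081 L810585 (flp_b L820081) L827089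
theorem L827098 : sm gf N62770 = N63391 := rfl
theorem L827100 : sm gb N63391 = N62772 := ded_22_1 (flp_f L820099) (flp_b L820081) L827098
theorem L827102 : sm gd N63391 = N62771 := ded_35_1 (flp_f L820089) L820079 L827098
theorem L827104 : sm gi N63391 = N62996 := ded_48_2 L822964 (flp_i L820085) L827098
theorem L827106 : sm gh N62770 = N63392 := rfl
theorem L827108 : sm gb N63392 = N62773 := ded_25_1 (flp_h L820108) (flp_b L820081) L827106
theorem L827110 : sm ge N63392 = N62778 := ded_43_1 (flp_h L820158) (flp_e L820087) L827106
theorem L827112 : sm gg N63392 = N62998 := ded_50_1 L822996 (flp_g L820083) L827106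
theorem L827114 : sm gj N63392 = N62925 := ded_52_1 (flp_h L826798) L826792 L827106
theorem L827116 : sm gd N63392 = N62917 := ded_38_1 L822107 (flp_d L819041) L819037 L820079 L827106
theorem L827118 : sm gi N63392 = N62919 := ded_54_2 L822133 L817632 (flp_h L816967) (flp_i L820085) L827106
theorem L827120 : sm gh N62772 = N63393 := rfl
theorem L827122 : sm ga N63393 = N62915 := ded_17_1 L822077 (flp_a L820101) L827120
theorem L827124 : sm gc N63393 = N63393 := ded_32_1 (flp_h L827120) L820103 L827120
theorem L827125 : sm gf N63393 = N62773 := ded_47_1 (flp_h L820108) L820099 L827120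
theorem L827127 : sm gg N63393 = N63170 := ded_50_1 (flp_h L825753) L825749 L827120
theorem L827129 : sm gj N63393 = N62927 := ded_52_1 (flp_h L826823) L826821 L827120
theorem L827131 : sm gd N63393 = N62876 := ded_38_1 L821627 L812944 (flp_h L810594) (flp_d L820104) L827120
theorem L827133 : sm gi N63393 = N62867 := ded_54_2 (flp_h L821485) L812585 L814529 (flp_i L820106) L827120
theorem L827135 : sm gg N62774 = N63394 := rfl
theorem L827137 : sm ga N63394 = N62775 := ded_15_1 (flp_g L820131) (flp_a L820125) L827135
theorem L827139 : sm gb N63394 = N63112 := ded_23_1 L824135 (flp_b L820127) L827135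
theorem L827141 : sm gc N63394 = N63270 := ded_30_1 (flp_g L826995) L826991 L827135
theorem L827143 : sm gi N63394 = N63155 := ded_51_2 L824499 (flp_i L820129) L827135
theorem L827145 : sm gf N63394 = N63012 := ded_45_1 L823155 L814836 (flp_g L810606) L820123 L827135
theorem L827147 : sm gc N62776 = N63395 := rfl
theorem L827149 : sm ga N63395 = N62777 := ded_11_1 (flp_c L820149) (flp_a L820143) L827147
theorem L827151 : sm gg N63395 = N63251 := ded_30_2 (flp_c L825225) (flp_g L820145) L827147
theorem L827153 : sm gi N63395 = N63266 := ded_33_2 (flp_c L825319) (flp_i L820147) L827147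
theorem L827155 : sm gd N63395 = N63065 := ded_27_2 (flp_c L823655) (flp_d L815446) (flp_c L810630) L820141 L827147
theorem L827157 : sm gh N62776 = N63396 := rfl
theorem L827159 : sm ga N63396 = N62778 := ded_17_1 (flp_h L820158) (flp_a L820143) L827157
theorem L827161 : sm gb N63396 = N63194 := ded_25_1 (flp_h L826555) L826543 L827157
theorem L827163 : sm gg N63396 = N63126 := ded_50_1 L824263 (flp_g L820145) L827157
theorem L827165 : sm gd N63396 = N62805 := ded_38_1 (flp_h L820535) (flp_d L811159) (flp_h L810634) L820141 L827157
theorem L827167 : sm gh N62777 = N63397 := rfl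
theorem L827169 : sm gb N63397 = N63397 := ded_25_1 (flp_h L827167) L820155 L827167
theorem L827170 : sm gc N63397 = N62778 := ded_32_1 (flp_h L820158) L820149 L827167
theorem L827172 : sm gg N63397 = N63127 := ded_50_1 L824269 (flp_g L820151) L827167
theorem L827174 : sm gd N63138 = N63397 := ded_27_0 L827170 L820164 L811177 L816342 L824352
theorem L827176 : sm gi N62778 = N63398 := rfl
theorem L827178 : sm gb N63398 = N62779 := ded_26_1 (flp_i L820166) (flp_b L820160) L827176
theorem L827180 : sm gd N63398 = N62806 := ded_39_1 (flp_i L820547) (flp_d L820164) L827176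
theorem L827182 : sm ge N63398 = N62919 := ded_44_1 (flp_i L827118) L827110 L827176
theorem L827184 : sm gg N63398 = N63007 := ded_51_1 L823094 (flp_g L820162) L827176
theorem L827186 : sm gj N63398 = N62899 := ded_53_1 L826959 L826955 L827176
theorem L827188 : sm gh N63398 = N63227 := ded_54_1 L825065 L817517 (flp_i L810644) L820158 L827176
theorem L827190 : sm ge N62780 = N63399 := rfl
theorem L827192 : sm ga N63399 = N62781 := ded_13_1 (flp_e L820199) L820181 L827190
theorem L827194 : sm gb N63399 = N62947 := ded_21_1 (flp_e L822440) (flp_b L820197) L827190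
theorem L827196 : sm gc N63399 = N63069 := ded_28_1 (flp_e L823682) (flp_c L820183) L827190
theorem L827198 : sm gg N63399 = N62784 := ded_41_2 (flp_e L820242) (flp_g L820189) L827190
theorem L827200 : sm gj N63399 = N63027 := ded_42_2 (flp_e L823299) (flp_j L820191) L827190
theorem L827202 : sm gh N63399 = N63074 := ded_43_2 (flp_e L823735) (flp_h L820193) L827190
theorem L827204 : sm gi N63399 = N62810 := ded_44_2 (flp_e L820612) (flp_i L820195) L827190
theorem L827206 : sm gd N62781 = N63400 := rfl
theorem L827208 : sm gb N63400 = N62782 := ded_20_1 (flp_d L820213) (flp_b L820201) L827206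
theorem L827210 : sm gg N63400 = N62785 := ded_36_2 (flp_d L820256) (flp_g L820205) L827206
theorem L827212 : sm gj N63400 = N63028 := ded_37_2 (flp_d L823307) (flp_j L820207) L827206
theorem L827214 : sm gi N63400 = N62811 := ded_39_2 (flp_d L820624) (flp_i L820211) L827206
theorem L827216 : sm ge N63400 = N63018 := ded_34_2 (flp_d L823217) (flp_e L814912) (flp_d L810657) L820199 L827206
theorem L827218 : sm gf N62781 = N63401 := rfl
theorem L827220 : sm gb N63401 = N62783 := ded_22_1 (flp_f L820226) (flp_b L820201) L827218
theorem L827222 : sm gc N63401 = N62934 := ded_29_1 L822276 (flp_c L820203) L827218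
theorem L827224 : sm gj N63401 = N62969 := ded_46_2 L822649 (flp_j L820207) L827218
theorem L827226 : sm gh N63401 = N62962 := ded_47_2 L822569 (flp_h L820209) L827218
theorem L827228 : sm gi N63401 = N62812 := ded_48_2 (flp_f L820632) (flp_i L820211) L827218
theorem L827230 : sm ge N63401 = N62792 := ded_40_1 (flp_f L820351) (flp_e L810846) (flp_f L810659) L820199 L827218
theorem L827232 : sm gg N63401 = N62926 := ded_45_2 (flp_f L822215) L813478 (flp_f L810726) (flp_g L820205) L827218
theorem L827234 : sm gf N62782 = N63402 := rfl
theorem L827236 : sm ga N63402 = N62950 := ded_14_1 (flp_f L822462) (flp_a L820215) L827234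
theorem L827238 : sm gc N63402 = N63402 := ded_29_1 (flp_f L827234) L820223 L827234
theorem L827239 : sm gd N63402 = N62783 := ded_35_1 (flp_f L820226) L820213 L827234
theorem L827241 : sm gj N63402 = N62958 := ded_46_2 L822527 (flp_j L820219) L827234
theorem L827243 : sm gi N63402 = N62813 := ded_48_2 (flp_f L820646) (flp_i L820221) L827234
theorem L827245 : sm ge N63402 = N63108 := ded_40_1 L824091 L817134 (flp_f L814930) (flp_e L820224) L827234
theorem L827247 : sm gg N63402 = N62927 := ded_45_2 (flp_f L822223) L813486 (flp_f L810730) (flp_g L820217) L827234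
theorem L827249 : sm gh N62782 = N63403 := rfl
theorem L827251 : sm ga N63403 = N62951 := ded_17_1 (flp_h L822469) (flp_a L820215) L827249
theorem L827253 : sm gc N63403 = N63403 := ded_32_1 (flp_h L827249) L820223 L827249
theorem L827254 : sm ge N63403 = N63019 := ded_43_1 (flp_h L823227) (flp_e L820224) L827249
theorem L827256 : sm gg N63403 = N62786 := ded_50_1 (flp_h L820266) (flp_g L820217) L827249
theorem L827258 : sm gj N63403 = N63029 := ded_52_1 (flp_h L823315) (flp_j L820219) L827249
theorem L827260 : sm gd N63403 = N63046 := ded_38_1 L823496 (flp_d L815576) (flp_h L810681) L820213 L827249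
theorem L827262 : sm gd N62784 = N63404 := rfl
theorem L827264 : sm ga N63404 = N62785 := ded_12_1 (flp_d L820256) (flp_a L820244) L827262

end Cfsg.Agent.Helper28.FicA
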