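import Cfsg.Agent.Helper28.FicB48

/-! # The Fi₂₃ presentation, cosets of the subgroup generated by a, …, i: the coset enumeration, part 49 (helper28; generated) -/

set_option autoImplicit false

noncomputable section

namespace Cfsg.Agent.Helper28.FicA

open Cfsg.Agent.Helper28.CosetTable

theorem L827266 : sm gf N63404 = N63235 := ded_35_2 (flp_d L825123) (flp_f L820254) L827262
theorem L827268 : sm gj N63404 = N63061 := ded_37_2 (flp_d L823617) (flp_j L820248) L827262
theorem L827270 : sm gi N63404 = N62815 := ded_39_2 (flp_d L820676) (flp_i L820252) L827262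
theorem L827272 : sm gc N62785 = N63405 := rfl
theorem L827274 : sm gf N63405 = N63236 := ded_29_2 (flp_c L825129) (flp_f L820260) L827272
theorem L827276 : sm gj N63405 = N63062 := ded_31_2 (flp_c L823625) (flp_j L820262) L827272
theorem L827278 : sm gi N63405 = N62816 := ded_33_2 (flp_c L820684) (flp_i L820264) L827272
theorem L827280 : sm gb N63405 = N63405 := ded_19_1 (flp_c L827272) L820258 L810736 (flp_b L820258) L827272
theorem L827281 : sm gd N63405 = N63072 := ded_27_2 (flp_c L823712) (flp_d L815509) (flp_c L810718) L820256 L827272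
theorem L827283 : sm gh N62785 = N63406 := rfl
theorem L827285 : sm gb N63406 = N62786 := ded_25_1 (flp_h L820266) (flp_b L820258) L827283
theorem L827287 : sm gf N63406 = N63189 := ded_47_1 L824815 (flp_f L820260) L827283
theorem L827289 : sm gj N63406 = N63063 := ded_52_1 (flp_h L823634) (flp_j L820262) L827283
theorem L827291 : sm gd N63406 = N63085 := ded_38_1 (flp_h L823859) (flp_d L815694) (flp_h L810722) L820256 L827283
theorem L827293 : sm gi N62786 = N63407 := rfl
theorem L827295 : sm ga N63407 = N62901 := ded_18_1 L825444 L825431 L827293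
theorem L827297 : sm gc N63407 = N63407 := ded_33_1 (flp_i L827293) L820268 L827293
theorem L827298 : sm gd N63407 = N62855 := ded_39_1 L821320 (flp_d L820273) L827293
theorem L827300 : sm gf N63407 = N62854 := ded_48_1 L821303 (flp_f L820269) L827293
theorem L827302 : sm gj N63407 = N63064 := ded_53_1 (flp_i L823644) (flp_j L820271) L827293
theorem L827304 : sm gh N63407 = N62818 := ded_54_1 (flp_i L820703) (flp_h L811296) (flp_i L810734) L820266 L827293
theorem L827306 : sm gd N62788 = N63408 := rfl
theorem L827308 : sm ga N63408 = N62789 := ded_12_1 (flp_d L820309) (flp_a L820295) L827306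
theorem L827310 : sm gb N63408 = N63262 := ded_20_1 (flp_d L825298) (flp_b L820297) L827306
theorem L827312 : sm gf N63408 = N63140 := ded_35_2 (flp_d L824365) (flp_f L820307) L827306
theorem L827314 : sm gj N63408 = N62799 := ded_37_2 (flp_d L820461) (flp_j L820301) L827306
theorem L827316 : sm gi N63408 = N63145 := ded_39_2 L824399 (flp_i L820305) L827306
theorem L827318 : sm gc N62789 = N63409 := rfl
theorem L827320 : sm gf N63409 = N63141 := ded_29_2 (flp_c L824371) (flp_f L820313) L827318
theorem L827322 : sm gj N63409 = N62801 := ded_31_2 (flp_c L820485) (flp_j L820315) L827318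
theorem L827324 : sm gi N63409 = N63147 := ded_33_2 L824414 (flp_i L820317) L827318
theorem L827326 : sm gb N63409 = N63409 := ded_19_1 (flp_c L827318) L820311 L810807 (flp_b L820311) L827318
theorem L827327 : sm gd N63409 = N63250 := ded_27_2 (flp_c L825218) (flp_d L817735) (flp_c L810787) L820309 L827318
theorem L827329 : sm gf N62791 = N63410 := rfl
theorem L827331 : sm ga N63410 = N62792 := ded_14_1 (flp_f L820351) (flp_a L820337) L827329
theorem L827333 : sm gb N63410 = N62960 := ded_22_1 (flp_f L822543) (flp_b L820339) L827329
theorem L827335 : sm gc N63410 = N63077 := ded_29_1 (flp_f L823771) (flp_c L820341) L827329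
theorem L827337 : sm gd N63410 = N63125 := ded_35_1 L824253 (flp_d L820349) L827329
theorem L827339 : sm gj N63410 = N62970 := ded_46_2 L822659 (flp_j L820345) L827329
theorem L827341 : sm gi N63410 = N62823 := ded_48_2 (flp_f L820786) (flp_i L820347) L827329
theorem L827343 : sm gh N62793 = N63411 := rfl
theorem L827345 : sm ga N63411 = N62794 := ded_17_1 (flp_h L820379) (flp_a L820365) L827343
theorem L827347 : sm gb N63411 = N63188 := ded_25_1 L824807 (flp_b L820367) L827343
theorem L827349 : sm gc N63411 = N63128 := ded_32_1 L824282 (flp_c L820377) L827343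
theorem L827351 : sm ge N63411 = N62897 := ded_43_1 L821916 (flp_e L820375) L827343
theorem L827353 : sm gg N63411 = N63206 := ded_50_1 L824918 (flp_g L820369) L827343
theorem L827355 : sm gj N63411 = N62805 := ded_52_1 (flp_h L820535) (flp_j L820371) L827343
theorem L827357 : sm gi N63411 = N62898 := ded_54_2 L821928 L813227 L811465 (flp_i L820373) L827343
theorem L827359 : sm gd N62795 = N63412 := rfl
theorem L827361 : sm ga N63412 = N62796 := ded_12_1 (flp_d L820411) (flp_a L820395) L827359
theorem L827363 : sm gb N63412 = N63126 := ded_20_1 (flp_d L824257) (flp_b L820397) L827359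
theorem L827365 : sm gf N63412 = N63215 := ded_35_2 (flp_d L824976) (flp_f L820409) L827359
theorem L827367 : sm gg N63412 = N63194 := ded_36_2 (flp_d L824852) (flp_g L820401) L827359
theorem L827369 : sm gj N63412 = N63249 := ded_37_2 (flp_d L825210) (flp_j L820403) L827359
theorem L827371 : sm gi N63412 = N63095 := ded_39_2 (flp_d L823974) (flp_i L820407) L827359
theorem L827373 : sm ge N63412 = N63071 := ded_34_2 (flp_d L823704) (flp_e L815501) (flp_d L810916) L820393 L827359
theorem L827375 : sm gh N63412 = N63245 := ded_38_2 (flp_d L825187) L817675 (flp_d L810975) (flp_h L820405) L827359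
theorem L827377 : sm gc N62796 = N63413 := rfl
theorem L827379 : sm ge N63413 = N63072 := ded_28_2 (flp_c L823712) (flp_e L820423) L827377
theorem L827381 : sm gf N63413 = N63216 := ded_29_2 (flp_c L824986) (flp_f L820415) L827377
theorem L827383 : sm gg N63413 = N63195 := ded_30_2 (flp_c L824856) (flp_g L820417) L827377
theorem L827385 : sm gj N63413 = N63250 := ded_31_2 (flp_c L825218) (flp_j L820419) L827377
theorem L827387 : sm gh N63413 = N63246 := ded_32_2 (flp_c L825195) (flp_h L820425) L827377
theorem L827389 : sm gi N63413 = N63097 := ded_33_2 (flp_c L824000) (flp_i L820421) L827377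
theorem L827391 : sm gb N63413 = N63413 := ded_19_1 (flp_c L827377) L820413 L810958 (flp_b L820413) L827377
theorem L827392 : sm gd N63413 = N62801 := ded_27_2 (flp_c L820485) (flp_d L811056) (flp_c L810934) L820411 L827377
theorem L827394 : sm gd N62797 = N63414 := rfl
theorem L827396 : sm ga N63414 = N62798 := ded_12_1 (flp_d L820445) (flp_a L820429) L827394
theorem L827398 : sm gb N63414 = N63182 := ded_20_1 (flp_d L824752) (flp_b L820431) L827394
theorem L827400 : sm gf N63414 = N63105 := ded_35_2 (flp_d L824065) (flp_f L820443) L827394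
theorem L827402 : sm gg N63414 = N63196 := ded_36_2 (flp_d L824861) (flp_g L820435) L827394
theorem L827404 : sm gj N63414 = N63145 := ded_37_2 L824399 (flp_j L820437) L827394
theorem L827406 : sm gi N63414 = N62799 := ded_39_2 (flp_d L820461) (flp_i L820441) L827394
theorem L827408 : sm ge N63414 = N63163 := ded_34_2 (flp_d L824572) (flp_e L816715) (flp_d L811001) L820427 L827394
theorem L827410 : sm gh N63414 = N63192 := ded_38_2 (flp_d L824837) L817142 (flp_d L811597) (flp_h L820439) L827394
theorem L827412 : sm gc N62798 = N63415 := rfl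
theorem L827414 : sm ge N63415 = N63164 := ded_28_2 (flp_c L824580) (flp_e L820457) L827412
theorem L827416 : sm gf N63415 = N63106 := ded_29_2 (flp_c L824071) (flp_f L820449) L827412
theorem L827418 : sm gg N63415 = N63197 := ded_30_2 (flp_c L824867) (flp_g L820451) L827412
theorem L827420 : sm gj N63415 = N63147 := ded_31_2 L824414 (flp_j L820453) L827412
theorem L827422 : sm gh N63415 = N63193 := ded_32_2 (flp_c L824845) (flp_h L820459) L827412
theorem L827424 : sm gi N63415 = N62801 := ded_33_2 (flp_c L820485) (flp_i L820455) L827412
theorem L827426 : sm gb N63415 = N63415 := ded_19_1 (flp_c L827412) L820447 L811043 (flp_b L820447) L827412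
theorem L827427 : sm gd N63415 = N63097 := ded_27_2 (flp_c L824000) (flp_d L815883) (flp_c L811019) L820445 L827412
theorem L827429 : sm gc N62799 = N63416 := rfl
theorem L827431 : sm ga N63416 = N62801 := ded_11_1 (flp_c L820485) (flp_a L820463) L827429
theorem L827433 : sm gg N63416 = N63198 := ded_30_2 (flp_c L824872) (flp_g L820465) L827429
theorem L827435 : sm gf N62799 = N63417 := rfl
theorem L827437 : sm ga N63417 = N62802 := ded_14_1 (flp_f L820490) (flp_a L820463) L827435
theorem L827439 : sm gb N63417 = N63252 := ded_22_1 (flp_f L826580) L826578 L827435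
theorem L827441 : sm gd N63417 = N62800 := ded_35_1 (flp_f L820467) L820461 L827435
theorem L827443 : sm gj N63417 = N63140 := ded_46_2 (flp_f L827312) L827314 L827435
theorem L827445 : sm gi N63417 = N63105 := ded_48_2 (flp_f L827400) L827406 L827435
theorem L827447 : sm gg N63213 = N63417 := ded_15_0 L827437 (flp_g L820500) (flp_a L824969)
theorem L827449 : sm gf N62801 = N63418 := rfl
theorem L827451 : sm gb N63418 = N63418 := ded_22_1 (flp_f L827449) L820489 L827449
theorem L827452 : sm gc N63418 = N62802 := ded_29_1 (flp_f L820490) L820485 L827449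
theorem L827454 : sm gd N63418 = N63216 := ded_35_1 (flp_f L827381) L827392 L827449
theorem L827456 : sm gj N63418 = N63141 := ded_46_2 (flp_f L827320) L827322 L827449
theorem L827458 : sm gi N63418 = N63106 := ded_48_2 (flp_f L827416) L827424 L827449
theorem L827460 : sm gg N63214 = N63418 := ded_30_0 L827452 (flp_g L820500) L824971
theorem L827462 : sm ge N62802 = N63419 := rfl
theorem L827464 : sm gb N63419 = N62803 := ded_21_1 (flp_e L820502) (flp_b L820492) L827462
theorem L827466 : sm gg N63419 = N62984 := ded_41_2 L822834 L820500 L827462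
theorem L827468 : sm gj N63419 = N62948 := ded_42_2 L822452 (flp_j L820496) L827462
theorem L827470 : sm gi N63419 = N62938 := ded_44_2 L822328 (flp_i L820498) L827462
theorem L827472 : sm gd N63419 = N62936 := ded_34_1 (flp_e L822298) L813598 (flp_e L811074) (flp_d L820494) L827462
theorem L827474 : sm gi N62805 = N63420 := rfl
theorem L827476 : sm ga N63420 = N62806 := ded_18_1 (flp_i L820547) (flp_a L820537) L827474
theorem L827478 : sm gb N63420 = N63093 := ded_26_1 L823962 (flp_b L820539) L827474
theorem L827480 : sm gc N63420 = N63131 := ded_33_1 L824308 (flp_c L820541) L827474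
theorem L827482 : sm ge N63420 = N62885 := ded_44_1 L821773 (flp_e L820543) L827474
theorem L827484 : sm gg N63420 = N63006 := ded_51_1 L823082 (flp_g L820545) L827474
theorem L827486 : sm gj N63420 = N62898 := ded_53_1 (flp_i L827357) L827355 L827474
theorem L827488 : sm gh N63420 = N62827 := ded_54_1 (flp_i L820860) (flp_h L811697) (flp_i L811167) L820535 L827474
theorem L827490 : sm ge N62807 = N63421 := rfl
theorem L827492 : sm ga N63421 = N62808 := ded_13_1 (flp_e L820579) L820561 L827490
theorem L827494 : sm gb N63421 = N62937 := ded_21_1 (flp_e L822312) (flp_b L820577) L827490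
theorem L827496 : sm gc N63421 = N62869 := ded_28_1 (flp_e L821516) (flp_c L820563) L827490
theorem L827498 : sm gg N63421 = N62889 := ded_41_2 (flp_e L821822) (flp_g L820569) L827490
theorem L827500 : sm gj N63421 = N62810 := ded_42_2 (flp_e L820612) (flp_j L820571) L827490
theorem L827502 : sm gh N63421 = N62868 := ded_43_2 (flp_e L821498) (flp_h L820573) L827490
theorem L827504 : sm gi N63421 = N63027 := ded_44_2 (flp_e L823299) (flp_i L820575) L827490
theorem L827506 : sm gf N63421 = N62968 := ded_40_2 L822641 L820784 (flp_e L820766) (flp_f L820567) L827490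
theorem L827508 : sm gd N62808 = N63422 := rfl
theorem L827510 : sm gb N63422 = N62809 := ded_20_1 (flp_d L820595) (flp_b L820581) L827508
theorem L827512 : sm gf N63422 = N62956 := ded_35_2 L822505 (flp_f L820593) L827508
theorem L827514 : sm gg N63422 = N62890 := ded_36_2 (flp_d L821834) (flp_g L820585) L827508
theorem L827516 : sm gj N63422 = N62811 := ded_37_2 (flp_d L820624) (flp_j L820587) L827508
theorem L827518 : sm gi N63422 = N63028 := ded_39_2 (flp_d L823307) (flp_i L820591) L827508
theorem L827520 : sm ge N63422 = N63011 := ded_34_2 (flp_d L823137) (flp_e L814765) (flp_d L811199) L820579 L827508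
theorem L827522 : sm gh N63422 = N62955 := ded_38_2 L822497 L813917 (flp_d L812634) (flp_h L820589) L827508
theorem L827524 : sm gd N62810 = N63423 := rfl
theorem L827526 : sm ga N63423 = N62811 := ded_12_1 (flp_d L820624) (flp_a L820614) L827524
theorem L827528 : sm gb N63423 = N62952 := ded_20_1 (flp_d L822474) (flp_b L820616) L827524
theorem L827530 : sm gg N63423 = N62815 := ded_36_2 (flp_d L820676) (flp_g L820620) L827524
theorem L827532 : sm ge N63423 = N63020 := ded_34_2 (flp_d L823238) (flp_e L814937) (flp_d L811233) L820612 L827524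
theorem L827534 : sm gf N62810 = N63424 := rfl
theorem L827536 : sm ga N63424 = N62812 := ded_14_1 (flp_f L820632) (flp_a L820614) L827534
theorem L827538 : sm gb N63424 = N62953 := ded_22_1 (flp_f L822480) (flp_b L820616) L827534
theorem L827540 : sm gc N63424 = N62933 := ded_29_1 L822268 (flp_c L820618) L827534
theorem L827542 : sm gj N63424 = N62968 := ded_46_2 (flp_f L827506) L827500 L827534
theorem L827544 : sm gh N63424 = N62880 := ded_47_2 (flp_f L821685) (flp_h L820622) L827534
theorem L827546 : sm ge N63424 = N62823 := ded_40_1 (flp_f L820786) (flp_e L811427) (flp_f L811235) L820612 L827534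
theorem L827548 : sm gg N63424 = N62929 := ded_45_2 (flp_f L822236) L813503 (flp_f L811286) (flp_g L820620) L827534
theorem L827550 : sm gc N62811 = N63425 := rfl
theorem L827552 : sm ge N63425 = N63021 := ded_28_2 (flp_c L823246) (flp_e L820630) L827550
theorem L827554 : sm gg N63425 = N62816 := ded_30_2 (flp_c L820684) (flp_g L820628) L827550
theorem L827556 : sm gb N63425 = N63425 := ded_19_1 (flp_c L827550) L820626 L811259 (flp_b L820626) L827550
theorem L827557 : sm gd N63425 = N63099 := ded_27_2 (flp_c L824013) (flp_d L815931) (flp_c L811247) L820624 L827550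
theorem L827559 : sm gf N62811 = N63426 := rfl
theorem L827561 : sm gb N63426 = N62813 := ded_22_1 (flp_f L820646) (flp_b L820626) L827559
theorem L827563 : sm gd N63426 = N62812 := ded_35_1 (flp_f L820632) L820624 L827559
theorem L827565 : sm gj N63426 = N62956 := ded_46_2 (flp_f L827512) L827516 L827559
theorem L827567 : sm ge N63426 = N63107 := ded_40_1 L824080 L817150 (flp_f L814951) (flp_e L820630) L827559
theorem L827569 : sm gg N63426 = N62931 := ded_45_2 (flp_f L822247) L813511 (flp_f L811292) (flp_g L820628) L827559
theorem L827571 : sm gh N62938 = N63426 := ded_25_0 L827561 (flp_h L820659) (flp_b L822324)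
theorem L827573 : sm gh N62811 = N63427 := rfl
theorem L827575 : sm gb N63427 = N62814 := ded_25_1 (flp_h L820661) (flp_b L820626) L827573
theorem L827577 : sm ge N63427 = N63022 := ded_43_1 (flp_h L823251) (flp_e L820630) L827573
theorem L827579 : sm gf N63427 = N62938 := ded_47_1 L827571 (flp_f L827559) L827573
theorem L827581 : sm gg N63427 = N62817 := ded_50_1 (flp_h L820693) (flp_g L820628) L827573
theorem L827583 : sm gj N63427 = N62955 := ded_52_1 (flp_h L827522) L827516 L827573
theorem L827585 : sm gd N63427 = N62881 := ded_38_1 (flp_h L821703) (flp_d L812858) (flp_h L811251) L820624 L827573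
theorem L827587 : sm gc N62815 = N63428 := rfl
theorem L827589 : sm ga N63428 = N62816 := ded_11_1 (flp_c L820684) (flp_a L820678) L827587
theorem L827591 : sm gf N63428 = N63237 := ded_29_2 (flp_c L825134) (flp_f L820680) L827587
theorem L827593 : sm gj N63428 = N63202 := ded_31_2 (flp_c L824893) (flp_j L820682) L827587
theorem L827595 : sm gd N63428 = N63100 := ded_27_2 (flp_c L824018) (flp_d L815937) (flp_c L811280) L820676 L827587
theorem L827597 : sm gh N62815 = N63429 := rfl
theorem L827599 : sm ga N63429 = N62817 := ded_17_1 (flp_h L820693) (flp_a L820678) L827597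
theorem L827601 : sm gf N63429 = N63223 := ded_47_1 L825038 (flp_f L820680) L827597
theorem L827603 : sm gj N63429 = N63203 := ded_52_1 (flp_h L824899) (flp_j L820682) L827597
theorem L827605 : sm gd N63429 = N63224 := ded_38_1 L825044 L817464 (flp_h L811284) L820676 L827597
theorem L827607 : sm gh N62816 = N63430 := rfl
theorem L827609 : sm gb N63430 = N63430 := ded_25_1 (flp_h L827607) L820690 L827607
theorem L827610 : sm gc N63430 = N62817 := ded_32_1 (flp_h L820693) L820684 L827607
theorem L827612 : sm gf N63430 = N63225 := ded_47_1 L825048 (flp_f L820686) L827607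
theorem L827614 : sm gj N63430 = N63204 := ded_52_1 (flp_h L824903) (flp_j L820688) L827607
theorem L827616 : sm gi N62817 = N63431 := rfl
theorem L827618 : sm gb N63431 = N62818 := ded_26_1 (flp_i L820703) (flp_b L820695) L827616
theorem L827620 : sm gd N63431 = N63222 := ded_39_1 L825032 (flp_d L820701) L827616
theorem L827622 : sm gf N63431 = N63221 := ded_48_1 L825024 (flp_f L820697) L827616
theorem L827624 : sm gj N63431 = N63205 := ded_53_1 (flp_i L824908) (flp_j L820699) L827616
theorem L827626 : sm ge N62830 = N63432 := rfl
theorem L827628 : sm ga N63432 = N62831 := ded_13_1 (flp_e L820928) L820910 L827626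
theorem L827630 : sm gb N63432 = N63220 := ded_21_1 (flp_e L825008) (flp_b L820926) L827626
theorem L827632 : sm gc N63432 = N62947 := ded_28_1 (flp_e L822440) (flp_c L820912) L827626
theorem L827634 : sm gg N63432 = N62971 := ded_41_2 (flp_e L822661) (flp_g L820918) L827626
theorem L827636 : sm gj N63432 = N63226 := ded_42_2 (flp_e L825051) (flp_j L820920) L827626
theorem L827638 : sm gh N63432 = N62838 := ded_43_2 (flp_e L821040) (flp_h L820922) L827626
theorem L827640 : sm gi N63432 = N62940 := ded_44_2 (flp_e L822344) (flp_i L820924) L827626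
theorem L827642 : sm gd N62831 = N63433 := rfl
theorem L827644 : sm gb N63433 = N62832 := ded_20_1 (flp_d L820942) (flp_b L820930) L827642
theorem L827646 : sm gg N63433 = N62972 := ded_36_2 (flp_d L822673) (flp_g L820934) L827642
theorem L827648 : sm gj N63433 = N63227 := ded_37_2 (flp_d L825059) (flp_j L820936) L827642
theorem L827650 : sm gi N63433 = N62941 := ded_39_2 (flp_d L822356) (flp_i L820940) L827642
theorem L827652 : sm ge N63433 = N62844 := ded_34_2 (flp_d L821124) (flp_e L812098) (flp_d L811883) L820928 L827642
theorem L827654 : sm gh N63433 = N62899 := ded_38_2 (flp_d L821930) L813155 (flp_d L811993) (flp_h L820938) L827642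
theorem L827656 : sm gf N62831 = N63434 := rfl
theorem L827658 : sm gb N63434 = N62833 := ded_22_1 (flp_f L820957) (flp_b L820930) L827656
theorem L827660 : sm gc N63434 = N62949 := ded_29_1 (flp_f L822454) (flp_c L820932) L827656
theorem L827662 : sm gj N63434 = N63228 := ded_46_2 (flp_f L825069) (flp_j L820936) L827656
theorem L827664 : sm gh N63434 = N62839 := ded_47_2 (flp_f L821052) (flp_h L820938) L827656
theorem L827666 : sm gi N63434 = N62942 := ded_48_2 (flp_f L822366) (flp_i L820940) L827656
theorem L827668 : sm ge N63434 = N62944 := ded_40_1 (flp_f L822394) (flp_e L813776) (flp_f L811885) L820928 L827656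
theorem L827670 : sm gg N63434 = N62969 := ded_45_2 L822649 L815059 (flp_f L814164) (flp_g L820934) L827656
theorem L827672 : sm ge N62834 = N63435 := rfl
theorem L827674 : sm ga N63435 = N62835 := ded_13_1 (flp_e L820991) L820973 L827672
theorem L827676 : sm gb N63435 = N63226 := ded_21_1 (flp_e L825051) (flp_b L820989) L827672
theorem L827678 : sm gc N63435 = N62924 := ded_28_1 (flp_e L822197) (flp_c L820975) L827672
theorem L827680 : sm gg N63435 = N62976 := ded_41_2 (flp_e L822714) (flp_g L820981) L827672
theorem L827682 : sm gj N63435 = N63220 := ded_42_2 (flp_e L825008) (flp_j L820983) L827672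
theorem L827684 : sm gh N63435 = N62943 := ded_43_2 (flp_e L822380) (flp_h L820985) L827672
theorem L827686 : sm gi N63435 = N62920 := ded_44_2 (flp_e L822135) (flp_i L820987) L827672
theorem L827688 : sm gd N62835 = N63436 := rfl
theorem L827690 : sm gb N63436 = N62836 := ded_20_1 (flp_d L821005) (flp_b L820993) L827688
theorem L827692 : sm gg N63436 = N62977 := ded_36_2 (flp_d L822730) (flp_g L820997) L827688
theorem L827694 : sm gj N63436 = N63221 := ded_37_2 (flp_d L825018) (flp_j L820999) L827688
theorem L827696 : sm gi N63436 = N62921 := ded_39_2 (flp_d L822149) (flp_i L821003) L827688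
theorem L827698 : sm ge N63436 = N62841 := ded_34_2 (flp_d L821078) (flp_e L812021) (flp_d L811930) L820991 L827688
theorem L827700 : sm gh N63436 = N63094 := ded_38_2 (flp_d L823964) L815864 (flp_d L813788) (flp_h L821001) L827688
theorem L827702 : sm gf N63205 = N63436 := ded_22_0 L827690 (flp_f L821020) (flp_b L824910)
theorem L827704 : sm gf N62835 = N63437 := rfl
theorem L827706 : sm gb N63437 = N62837 := ded_22_1 (flp_f L821022) (flp_b L820993) L827704
theorem L827708 : sm gc N63437 = N62926 := ded_29_1 (flp_f L822215) (flp_c L820995) L827704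
theorem L827710 : sm gd N63437 = N63205 := ded_35_1 L827702 (flp_d L827688) L827704
theorem L827712 : sm gj N63437 = N63222 := ded_46_2 (flp_f L825026) (flp_j L820999) L827704
theorem L827714 : sm gh N63437 = N62944 := ded_47_2 (flp_f L822394) (flp_h L821001) L827704
theorem L827716 : sm gi N63437 = N62922 := ded_48_2 (flp_f L822163) (flp_i L821003) L827704
theorem L827718 : sm ge N63437 = N62839 := ded_40_1 (flp_f L821052) (flp_e L811985) (flp_f L811932) L820991 L827704
theorem L827720 : sm gg N63437 = N62934 := ded_45_2 L822276 L815484 (flp_f L814247) (flp_g L820997) L827704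
theorem L827722 : sm gf N62838 = N63438 := rfl
theorem L827724 : sm ga N63438 = N62839 := ded_14_1 (flp_f L821052) (flp_a L821042) L827722
theorem L827726 : sm gb N63438 = N63232 := ded_22_1 (flp_f L825104) (flp_b L821044) L827722
theorem L827728 : sm gd N63438 = N62909 := ded_35_1 (flp_f L822011) (flp_d L821050) L827722
theorem L827730 : sm gi N63438 = N62973 := ded_48_2 (flp_f L822685) (flp_i L821048) L827722
theorem L827732 : sm gg N63438 = N63077 := ded_45_2 (flp_f L823771) L815592 (flp_f L814276) (flp_g L821046) L827722
theorem L827734 : sm gd N62840 = N63439 := rfl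
theorem L827736 : sm ga N63439 = N62841 := ded_12_1 (flp_d L821078) (flp_a L821064) L827734
theorem L827738 : sm gb N63439 = N63240 := ded_20_1 (flp_d L825153) (flp_b L821066) L827734
theorem L827740 : sm gf N63439 = N62912 := ded_35_2 (flp_d L822041) (flp_f L821076) L827734
theorem L827742 : sm gg N63439 = N63101 := ded_36_2 L824034 (flp_g L821070) L827734
theorem L827744 : sm gi N63439 = N62974 := ded_39_2 (flp_d L822697) (flp_i L821074) L827734
theorem L827746 : sm gh N63439 = N63098 := ded_38_2 (flp_d L824007) L821225 (flp_d L821207) (flp_h L821072) L827734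
theorem L827748 : sm gc N62841 = N63440 := rfl
theorem L827750 : sm gf N63440 = N62913 := ded_29_2 (flp_c L822049) (flp_f L821082) L827748
theorem L827752 : sm gg N63440 = N63102 := ded_30_2 L824039 (flp_g L821084) L827748
theorem L827754 : sm gh N63440 = N63099 := ded_32_2 (flp_c L824013) (flp_h L821088) L827748
theorem L827756 : sm gi N63440 = N62975 := ded_33_2 (flp_c L822707) (flp_i L821086) L827748
theorem L827758 : sm gb N63440 = N63440 := ded_19_1 (flp_c L827748) L821080 L812045 (flp_b L821080) L827748
theorem L827759 : sm gd N63440 = N63168 := ded_27_2 (flp_c L824619) (flp_d L816785) (flp_c L812025) L821078 L827748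
theorem L827761 : sm gd N62843 = N63441 := rfl
theorem L827763 : sm ga N63441 = N62844 := ded_12_1 (flp_d L821124) (flp_a L821112) L827761
theorem L827765 : sm gg N63441 = N63223 := ded_36_2 (flp_d L825034) (flp_g L821116) L827761
theorem L827767 : sm gj N63441 = N63240 := ded_37_2 (flp_d L825153) (flp_j L821118) L827761
theorem L827769 : sm gi N63441 = N63243 := ded_39_2 (flp_d L825176) (flp_i L821122) L827761
theorem L827771 : sm gh N63441 = N62928 := ded_38_2 (flp_d L822230) L813505 (flp_d L812147) (flp_h L821120) L827761
theorem L827773 : sm gf N62843 = N63442 := rfl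
theorem L827775 : sm ga N63442 = N62845 := ded_14_1 (flp_f L821136) (flp_a L821112) L827773
theorem L827777 : sm gb N63442 = N62889 := ded_22_1 (flp_f L826486) L826474 L827773
theorem L827779 : sm gc N63442 = N62851 := ded_29_1 L821259 (flp_c L821114) L827773
theorem L827781 : sm gj N63442 = N62865 := ded_46_2 L821473 (flp_j L821118) L827773
theorem L827783 : sm gh N63442 = N62847 := ded_47_2 (flp_f L821169) (flp_h L821120) L827773
theorem L827785 : sm gi N63442 = N62983 := ded_48_2 L822824 (flp_i L821122) L827773
theorem L827787 : sm ge N63442 = N62850 := ded_40_1 L821233 L812393 (flp_f L812088) L821110 L827773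
theorem L827789 : sm gg N62937 = N63442 := ded_15_0 L827775 (flp_g L821150) (flp_a L822314)
theorem L827791 : sm gc N62844 = N63443 := rfl
theorem L827793 : sm gg N63443 = N63225 := ded_30_2 (flp_c L825046) (flp_g L821128) L827791
theorem L827795 : sm gj N63443 = N63241 := ded_31_2 (flp_c L825161) (flp_j L821130) L827791
theorem L827797 : sm gh N63443 = N62930 := ded_32_2 (flp_c L822242) (flp_h L821134) L827791
theorem L827799 : sm gi N63443 = N63244 := ded_33_2 (flp_c L825182) (flp_i L821132) L827791
theorem L827801 : sm gb N63443 = N63443 := ded_19_1 (flp_c L827791) L821126 L812120 (flp_b L821126) L827791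
theorem L827802 : sm gd N63443 = N63009 := ded_27_2 (flp_c L823112) (flp_d L814741) (flp_c L812102) L821124 L827791
theorem L827804 : sm gf N63269 = N63443 := ded_35_0 L827802 L823114 L825334
theorem L827806 : sm gf N62844 = N63444 := rfl
theorem L827808 : sm gb N63444 = N62846 := ded_22_1 (flp_f L821152) (flp_b L821126) L827806
theorem L827810 : sm gc N63444 = N63269 := ded_29_1 L827804 (flp_c L827791) L827806
theorem L827812 : sm gd N63444 = N62845 := ded_35_1 (flp_f L821136) L821124 L827806
theorem L827814 : sm gj N63444 = N62866 := ded_46_2 L821479 (flp_j L821130) L827806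
theorem L827816 : sm gh N63444 = N62931 := ded_47_2 (flp_f L822247) (flp_h L821134) L827806
theorem L827818 : sm gi N63444 = N62984 := ded_48_2 L822830 (flp_i L821132) L827806
theorem L827820 : sm gg N63444 = N62938 := ded_45_2 (flp_f L827579) L827581 L820697 (flp_g L821128) L827806
theorem L827822 : sm ge N63444 = N63104 := ded_55_4 (flp_d L824057) L815980 L805318 L793060 L793058 L782936 L771350 (flp_f L769085) (flp_e L769074) L757301 (flp_b L744066) L743254 (flp_d L743244) L726185 (flp_h L707320) L685678 L685679 L662912 L364079 (flp_b L364392) L364394 (flp_d L357681) (flp_i L357677) L246117 L246113 (flp_f L250704) L364519 L663491 L663495 L645627 (flp_d L637016) L660545 L683180 L683192 L667585 L667583 L667587 (flp_b L689956) (flp_c L698374) L717903 L717911 (flp_h L735423) (flp_d L735413) L717808 L698265 L676949 (flp_b L689738) (flp_c L710905) L729798 (flp_i L736728) L736726 L719495 (flp_f L728193) (flp_e L737001) (flp_d L752166) L752164 L744966 L729888 L729891 (flp_h L746231) (flp_d L757219) L757212 L743204 (flp_d L729647) (flp_b L729615) L729617 L732030 (flp_i L747715) L747719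 (flp_d L747708) (flp_f L745548) (flp_e L759160) L770837 L770839 L770877 L770885 L759211 (flp_h L758341) (flp_d L761669) L761659 L771910 (flp_d L778296) (flp_b L790400) L790402 (flp_d L788862) (flp_i L800876) (flp_h L812108) L821124 L827806
theorem L827824 : sm ge N62852 = N63445 := rfl
theorem L827826 : sm ga N63445 = N62853 := ded_13_1 (flp_e L821281) L821263 L827824
theorem L827828 : sm gb N63445 = N62898 := ded_21_1 (flp_e L821922) (flp_b L821279) L827824
theorem L827830 : sm gc N63445 = N63190 := ded_28_1 (flp_e L824817) (flp_c L821265) L827824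
theorem L827832 : sm gg N63445 = N63172 := ded_41_2 (flp_e L824653) (flp_g L821271) L827824
theorem L827834 : sm gj N63445 = N63093 := ded_42_2 (flp_e L823952) (flp_j L821273) L827824
theorem L827836 : sm gh N63445 = N62862 := ded_43_2 (flp_e L821417) (flp_h L821275) L827824
theorem L827838 : sm gi N63445 = N63188 := ded_44_2 (flp_e L824799) (flp_i L821277) L827824
theorem L827840 : sm gd N62853 = N63446 := rfl
theorem L827842 : sm gb N63446 = N62854 := ded_20_1 (flp_d L821295) (flp_b L821283) L827840
theorem L827844 : sm gg N63446 = N63173 := ded_36_2 (flp_d L824663) (flp_g L821287) L827840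
theorem L827846 : sm gj N63446 = N63094 := ded_37_2 (flp_d L823964) (flp_j L821289) L827840
theorem L827848 : sm gi N63446 = N63189 := ded_39_2 (flp_d L824809) (flp_i L821293) L827840
theorem L827850 : sm ge N63446 = N62870 := ded_34_2 (flp_d L821528) (flp_e L812650) (flp_d L812407) L821281 L827840
theorem L827852 : sm gh N63446 = N63221 := ded_38_2 (flp_d L825018) L817423 (flp_d L812521) (flp_h L821291) L827840
theorem L827854 : sm gf N62853 = N63447 := rfl
theorem L827856 : sm gb N63447 = N62855 := ded_22_1 (flp_f L821310) (flp_b L821283) L827854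
theorem L827858 : sm gc N63447 = N63118 := ded_29_1 L824189 (flp_c L821285) L827854
theorem L827860 : sm gj N63447 = N63087 := ded_46_2 L823891 (flp_j L821289) L827854
theorem L827862 : sm gh N63447 = N62863 := ded_47_2 (flp_f L821433) (flp_h L821291) L827854
theorem L827864 : sm gi N63447 = N63085 := ded_48_2 L823867 (flp_i L821293) L827854
theorem L827866 : sm ge N63447 = N63110 := ded_40_1 (flp_f L824107) (flp_e L816048) (flp_f L812409) L821281 L827854
theorem L827868 : sm gg N62855 = N63448 := rfl
theorem L827870 : sm ga N63448 = N62902 := ded_15_1 (flp_g L821949) (flp_a L821312) L827868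
theorem L827872 : sm gc N63448 = N62856 := ded_30_1 (flp_g L821324) (flp_c L821314) L827868
theorem L827874 : sm ge N63448 = N62894 := ded_41_1 L821880 (flp_e L821322) L827868
theorem L827876 : sm gh N63448 = N62864 := ded_50_2 (flp_g L821445) (flp_h L821318) L827868
theorem L827878 : sm gi N63448 = N63046 := ded_51_2 L823492 (flp_i L821320) L827868
theorem L827880 : sm gf N63448 = N63002 := ded_45_1 L823034 L814655 (flp_g L812427) L821310 L827868
theorem L827882 : sm gj N63448 = N63080 := ded_49_2 L823805 L815664 (flp_g L815752) (flp_j L821316) L827868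
theorem L827884 : sm ge N62857 = N63449 := rfl
theorem L827886 : sm ga N63449 = N62858 := ded_13_1 (flp_e L821359) L821341 L827884
theorem L827888 : sm gb N63449 = N62903 := ded_21_1 (flp_e L821957) (flp_b L821357) L827884
theorem L827890 : sm gc N63449 = N63206 := ded_28_1 (flp_e L824912) (flp_c L821343) L827884
theorem L827892 : sm gg N63449 = N63128 := ded_41_2 (flp_e L824274) (flp_g L821349) L827884
theorem L827894 : sm gj N63449 = N63103 := ded_42_2 (flp_e L824045) (flp_j L821351) L827884
theorem L827896 : sm gh N63449 = N63109 := ded_43_2 (flp_e L824095) (flp_h L821353) L827884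
theorem L827898 : sm gi N63449 = N62986 := ded_44_2 (flp_e L822849) (flp_i L821355) L827884
theorem L827900 : sm gd N62858 = N63450 := rfl
theorem L827902 : sm gb N63450 = N62859 := ded_20_1 (flp_d L821373) (flp_b L821361) L827900
theorem L827904 : sm gg N63450 = N63129 := ded_36_2 (flp_d L824284) (flp_g L821365) L827900
theorem L827906 : sm gj N63450 = N63104 := ded_37_2 (flp_d L824057) (flp_j L821367) L827900
theorem L827908 : sm gi N63450 = N62987 := ded_39_2 (flp_d L822861) (flp_i L821371) L827900
theorem L827910 : sm ge N63450 = N62866 := ded_34_2 (flp_d L821475) (flp_e L812563) (flp_d L812452) L821359 L827900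
theorem L827912 : sm gf N62858 = N63451 := rfl
theorem L827914 : sm gb N63451 = N62860 := ded_22_1 (flp_f L821386) (flp_b L821361) L827912
theorem L827916 : sm gc N63451 = N63083 := ded_29_1 L823839 (flp_c L821363) L827912
theorem L827918 : sm gj N63451 = N63091 := ded_46_2 L823937 (flp_j L821367) L827912
theorem L827920 : sm gh N63451 = N63110 := ded_47_2 (flp_f L824107) (flp_h L821369) L827912
theorem L827922 : sm gi N63451 = N62988 := ded_48_2 (flp_f L822869) (flp_i L821371) L827912
theorem L827924 : sm ge N63451 = N62863 := ded_40_1 (flp_f L821433) (flp_e L812509) (flp_f L812454) L821359 L827912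
theorem L827926 : sm gf N62859 = N63452 := rfl
theorem L827928 : sm ga N63452 = N62906 := ded_14_1 (flp_f L821983) (flp_a L821375) L827926
theorem L827930 : sm gc N63452 = N63452 := ded_29_1 (flp_f L827926) L821383 L827926
theorem L827931 : sm gd N63452 = N62860 := ded_35_1 (flp_f L821386) L821373 L827926
theorem L827933 : sm gj N63452 = N63092 := ded_46_2 L823948 (flp_j L821379) L827926
theorem L827935 : sm gi N63452 = N62989 := ded_48_2 (flp_f L822881) (flp_i L821381) L827926
theorem L827937 : sm ge N63452 = N63170 := ded_40_1 L824639 L817493 (flp_f L812581) (flp_e L821384) L827926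
theorem L827939 : sm gh N62859 = N63453 := rfl
theorem L827941 : sm ga N63453 = N62907 := ded_17_1 (flp_h L821992) (flp_a L821375) L827939
theorem L827943 : sm gc N63453 = N63453 := ded_32_1 (flp_h L827939) L821383 L827939
theorem L827944 : sm ge N63453 = N62867 := ded_43_1 (flp_h L821485) (flp_e L821384) L827939
theorem L827946 : sm gg N63453 = N62989 := ded_50_1 (flp_h L822892) (flp_g L821377) L827939
theorem L827948 : sm gj N63453 = N62932 := ded_52_1 L822258 (flp_j L821379) L827939
theorem L827950 : sm gd N63453 = N62991 := ded_38_1 L822915 L815810 (flp_h L812476) L821373 L827939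
theorem L827952 : sm gg N62860 = N63454 := rfl
theorem L827954 : sm ga N63454 = N62908 := ded_15_1 (flp_g L822001) (flp_a L821388) L827952
theorem L827956 : sm gc N63454 = N62861 := ded_30_1 (flp_g L821400) (flp_c L821390) L827952
theorem L827958 : sm ge N63454 = N62864 := ded_41_1 (flp_g L821445) (flp_e L821398) L827952
theorem L827960 : sm gh N63454 = N62894 := ded_50_2 L821880 (flp_h L821394) L827952
theorem L827962 : sm gi N63454 = N62991 := ded_51_2 (flp_g L822907) (flp_i L821396) L827952
theorem L827964 : sm gf N63454 = N62895 := ded_45_1 L821890 (flp_f L816291) (flp_g L812472) L821386 L827952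
theorem L827966 : sm gj N63454 = N63116 := ded_49_2 L824169 L816142 (flp_g L815838) (flp_j L821392) L827952
theorem L827968 : sm gf N62862 = N63455 := rfl
theorem L827970 : sm ga N63455 = N62863 := ded_14_1 (flp_f L821433) (flp_a L821419) L827968
theorem L827972 : sm gb N63455 = N62909 := ded_22_1 (flp_f L822011) (flp_b L821421) L827968
theorem L827974 : sm gc N63455 = N63210 := ded_29_1 (flp_f L824947) (flp_c L821423) L827968
theorem L827976 : sm gd N63455 = N63232 := ded_35_1 (flp_f L825104) (flp_d L821431) L827968
theorem L827978 : sm gj N63455 = N63154 := ded_46_2 L824485 (flp_j L821427) L827968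
theorem L827980 : sm gi N63455 = N62992 := ded_48_2 (flp_f L822919) (flp_i L821429) L827968
theorem L827982 : sm gg N62863 = N63456 := rfl
theorem L827984 : sm gb N63456 = N62864 := ded_23_1 (flp_g L821445) (flp_b L821435) L827982
theorem L827986 : sm gc N63456 = N63211 := ded_30_1 (flp_g L824955) (flp_c L821437) L827982
theorem L827988 : sm gd N63456 = N63001 := ded_36_1 L823024 (flp_d L821439) L827982
theorem L827990 : sm gi N63456 = N62993 := ded_51_2 (flp_g L822933) (flp_i L821443) L827982
theorem L827992 : sm gf N63456 = N63000 := ded_45_1 L823012 L814639 (flp_g L812515) L821433 L827982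
theorem L827994 : sm gj N63456 = N63122 := ded_49_2 L824225 L816230 (flp_g L816539) (flp_j L821441) L827982
theorem L827996 : sm gd N62865 = N63457 := rfl
theorem L827998 : sm ga N63457 = N62866 := ded_12_1 (flp_d L821475) (flp_a L821461) L827996
theorem L828000 : sm gb N63457 = N62912 := ded_20_1 (flp_d L822041) (flp_b L821463) L827996
theorem L828002 : sm gf N63457 = N63240 := ded_35_2 (flp_d L825153) (flp_f L821473) L827996
theorem L828004 : sm gg N63457 = N63167 := ded_36_2 (flp_d L824611) (flp_g L821467) L827996
theorem L828006 : sm gi N63457 = N62994 := ded_39_2 (flp_d L822947) (flp_i L821471) L827996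
theorem L828008 : sm gc N62866 = N63458 := rfl
theorem L828010 : sm gf N63458 = N63241 := ded_29_2 (flp_c L825161) (flp_f L821479) L828008
theorem L828012 : sm gg N63458 = N63168 := ded_30_2 (flp_c L824619) (flp_g L821481) L828008
theorem L828014 : sm gj N63458 = N63269 := ded_31_2 (flp_c L827810) L827814 L828008
theorem L828016 : sm gi N63458 = N62995 := ded_33_2 (flp_c L822955) (flp_i L821483) L828008
theorem L828018 : sm gb N63458 = N63458 := ded_19_1 (flp_c L828008) L821477 L812587 (flp_b L821477) L828008
theorem L828019 : sm gd N63458 = N63102 := ded_27_2 L824039 L815956 (flp_c L812567) L821475 L828008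
theorem L828021 : sm gh N62866 = N63459 := rfl
theorem L828023 : sm gb N63459 = N62867 := ded_25_1 (flp_h L821485) (flp_b L821477) L828021
theorem L828025 : sm gf N63459 = N62919 := ded_47_1 L822133 (flp_f L821479) L828021
theorem L828027 : sm gg N63459 = N63169 := ded_50_1 (flp_h L824624) (flp_g L821481) L828021
theorem L828029 : sm gj N63459 = N62931 := ded_52_1 (flp_h L827816) L827814 L828021
theorem L828031 : sm gd N63459 = N62875 := ded_38_1 (flp_h L821599) (flp_d L812737) (flp_h L812571) L821475 L828021
theorem L828033 : sm gd N62869 = N63460 := rfl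
theorem L828035 : sm ga N63460 = N62870 := ded_12_1 (flp_d L821528) (flp_a L821518) L828033
theorem L828037 : sm gb N63460 = N62928 := ded_20_1 (flp_d L822230) (flp_b L821520) L828033
theorem L828039 : sm gg N63460 = N63233 := ded_36_2 (flp_d L825110) (flp_g L821522) L828033
theorem L828041 : sm gj N63460 = N63098 := ded_37_2 (flp_d L824007) (flp_j L821524) L828033
theorem L828043 : sm gf N62869 = N63461 := rfl
theorem L828045 : sm ga N63461 = N62871 := ded_14_1 (flp_f L821536) (flp_a L821518) L828043
theorem L828047 : sm gb N63461 = N62929 := ded_22_1 (flp_f L822236) (flp_b L821520) L828043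
theorem L828049 : sm gc N63461 = N62968 := ded_29_1 (flp_f L827506) L827496 L828043
theorem L828051 : sm gj N63461 = N62933 := ded_46_2 L822268 (flp_j L821524) L828043
theorem L828053 : sm gh N63461 = N62873 := ded_47_2 (flp_f L821563) (flp_h L821526) L828043
theorem L828055 : sm ge N63461 = N62964 := ded_40_1 L822595 (flp_e L816146) (flp_f L812640) L821516 L828043
theorem L828057 : sm gg N63461 = N62953 := ded_45_2 (flp_f L822480) (flp_g L819563) L819569 (flp_g L821522) L828043
theorem L828059 : sm gc N62870 = N63462 := rfl
theorem L828061 : sm gg N63462 = N63234 := ded_30_2 (flp_c L825118) (flp_g L821532) L828059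
theorem L828063 : sm gj N63462 = N63099 := ded_31_2 (flp_c L824013) (flp_j L821534) L828059
theorem L828065 : sm gb N63462 = N63462 := ded_19_1 (flp_c L828059) L821530 L812668 (flp_b L821530) L828059
theorem L828066 : sm gf N62870 = N63463 := rfl
theorem L828068 : sm gb N63463 = N62872 := ded_22_1 (flp_f L821550) (flp_b L821530) L828066
theorem L828070 : sm gd N63463 = N62871 := ded_35_1 (flp_f L821536) L821528 L828066
theorem L828072 : sm gj N63463 = N62914 := ded_46_2 L822062 (flp_j L821534) L828066
theorem L828074 : sm gh N63463 = N62890 := ded_47_2 (flp_f L826492) L826502 L828066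
theorem L828076 : sm gg N63463 = N62955 := ded_45_2 (flp_f L822493) (flp_g L819577) L819575 (flp_g L821532) L828066
theorem L828078 : sm ge N62872 = N63464 := rfl
theorem L828080 : sm ga N63464 = N62932 := ded_13_1 (flp_e L822253) (flp_a L821552) L828078
theorem L828082 : sm gc N63464 = N63464 := ded_28_1 (flp_e L828078) L821554 L828078
theorem L828083 : sm gg N63464 = N62957 := ded_41_2 (flp_e L822507) (flp_g L821561) L828078
theorem L828085 : sm gj N63464 = N62907 := ded_42_2 L821995 (flp_j L821557) L828078
theorem L828087 : sm gh N63464 = N62888 := ded_43_2 L821820 (flp_h L821559) L828078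
theorem L828089 : sm gd N63464 = N62967 := ded_34_1 L822631 L814043 (flp_e L812679) (flp_d L821555) L828078
theorem L828091 : sm gh N62874 = N63465 := rfl
theorem L828093 : sm ga N63465 = N62875 := ded_17_1 (flp_h L821599) (flp_a L821583) L828091
theorem L828095 : sm gb N63465 = N62933 := ded_25_1 (flp_h L822262) (flp_b L821585) L828091
theorem L828097 : sm gc N63465 = N63224 := ded_32_1 L825044 (flp_c L821595) L828091
theorem L828099 : sm ge N63465 = N63016 := ded_43_1 L823197 (flp_e L821597) L828091
theorem L828101 : sm gf N63465 = N62918 := ded_47_1 L822123 (flp_f L821587) L828091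
theorem L828103 : sm gg N63465 = N63230 := ded_50_1 L825091 (flp_g L821589) L828091
theorem L828105 : sm gj N63465 = N62929 := ded_52_1 L822240 (flp_j L821591) L828091
theorem L828107 : sm gi N62875 = N63466 := rfl
theorem L828109 : sm gb N63466 = N62876 := ded_26_1 (flp_i L821613) (flp_b L821601) L828107
theorem L828111 : sm gc N63466 = N63222 := ded_33_1 L825032 (flp_c L821603) L828107
theorem L828113 : sm ge N63466 = N63001 := ded_44_1 L823022 (flp_e L821605) L828107
theorem L828115 : sm gf N63466 = N62917 := ded_48_1 L822109 (flp_f L821607) L828107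
theorem L828117 : sm gg N63466 = N63228 := ded_51_1 L825073 (flp_g L821609) L828107
theorem L828119 : sm gj N63466 = N62926 := ded_53_1 L822221 (flp_j L821611) L828107
theorem L828121 : sm gh N63466 = N62884 := ded_54_1 (flp_i L821747) (flp_h L812926) (flp_i L812747) L821599 L828107
theorem L828123 : sm gh N62879 = N63467 := rfl
theorem L828125 : sm ga N63467 = N62881 := ded_17_1 (flp_h L821703) (flp_a L821669) L828123
theorem L828127 : sm gb N63467 = N62968 := ded_25_1 (flp_h L822637) (flp_b L821671) L828123
theorem L828129 : sm gc N63467 = N63230 := ded_32_1 L825091 (flp_c L821679) L828123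
theorem L828131 : sm ge N63467 = N62883 := ded_43_1 (flp_h L821733) (flp_e L821681) L828123
theorem L828133 : sm gf N63467 = N62937 := ded_47_1 L822320 L821683 L828123
theorem L828135 : sm gg N63467 = N63224 := ded_50_1 L825044 (flp_g L821673) L828123
theorem L828137 : sm gj N63467 = N62953 := ded_52_1 L822484 (flp_j L821675) L828123
theorem L828139 : sm gi N62881 = N63468 := rfl
theorem L828141 : sm gb N63468 = N62882 := ded_26_1 (flp_i L821717) (flp_b L821705) L828139
theorem L828143 : sm gc N63468 = N63228 := ded_33_1 L825073 (flp_c L821707) L828139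
theorem L828145 : sm ge N63468 = N62884 := ded_44_1 (flp_i L821747) (flp_e L821709) L828139
theorem L828147 : sm gf N63468 = N62936 := ded_48_1 L822310 (flp_f L821711) L828139
theorem L828149 : sm gg N63468 = N63222 := ded_51_1 L825032 (flp_g L821713) L828139
theorem L828151 : sm gj N63468 = N62949 := ded_53_1 L822458 (flp_j L821715) L828139
theorem L828153 : sm gh N63468 = N63001 := ded_54_1 L823022 L814868 (flp_i L812866) L821703 L828139
theorem L828155 : sm gi N62883 = N63469 := rfl
theorem L828157 : sm ga N63469 = N62884 := ded_18_1 (flp_i L821747) (flp_a L821735) L828155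
theorem L828159 : sm gb N63469 = N62970 := ded_26_1 (flp_i L822653) (flp_b L821737) L828155
theorem L828161 : sm gc N63469 = N63232 := ded_33_1 L825108 (flp_c L821739) L828155
theorem L828163 : sm gd N63469 = N63024 := ded_39_1 (flp_i L823269) (flp_d L821745) L828155
theorem L828165 : sm gf N63469 = N62939 := ded_48_1 L822342 (flp_f L821741) L828155
theorem L828167 : sm gj N63469 = N62960 := ded_53_1 L822547 (flp_j L821743) L828155
theorem L828169 : sm ge N62886 = N63470 := rfl
theorem L828171 : sm ga N63470 = N62887 := ded_13_1 (flp_e L821795) L821777 L828169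
theorem L828173 : sm gb N63470 = N63103 := ded_21_1 (flp_e L824045) (flp_b L821793) L828169
theorem L828175 : sm gc N63470 = N63258 := ded_28_1 (flp_e L825269) (flp_c L821779) L828169
theorem L828177 : sm gg N63470 = N63010 := ded_41_2 (flp_e L823121) (flp_g L821785) L828169
theorem L828179 : sm gj N63470 = N62903 := ded_42_2 (flp_e L821957) (flp_j L821787) L828169
theorem L828181 : sm gh N63470 = N63012 := ded_43_2 (flp_e L823147) (flp_h L821789) L828169
theorem L828183 : sm gi N63470 = N63025 := ded_44_2 (flp_e L823275) (flp_i L821791) L828169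
theorem L828185 : sm gd N62887 = N63471 := rfl
theorem L828187 : sm gb N63471 = N62888 := ded_20_1 (flp_d L821809) (flp_b L821797) L828185
theorem L828189 : sm gg N63471 = N63011 := ded_36_2 (flp_d L823137) (flp_g L821801) L828185
theorem L828191 : sm gj N63471 = N62904 := ded_37_2 (flp_d L821965) (flp_j L821803) L828185
theorem L828193 : sm gi N63471 = N63026 := ded_39_2 (flp_d L823289) (flp_i L821807) L828185
theorem L828195 : sm ge N63471 = N62890 := ded_34_2 (flp_d L821834) (flp_e L813037) (flp_d L812985) L821795 L828185
theorem L828197 : sm gd N62889 = N63472 := rfl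
theorem L828199 : sm ga N63472 = N62890 := ded_12_1 (flp_d L821834) (flp_a L821824) L828197
theorem L828201 : sm gj N63472 = N62912 := ded_37_2 (flp_d L822041) (flp_j L821828) L828197
theorem L828203 : sm gi N63472 = N63030 := ded_39_2 (flp_d L823324) (flp_i L821832) L828197
theorem L828205 : sm gc N62890 = N63473 := rfl
theorem L828207 : sm gj N63473 = N62913 := ded_31_2 (flp_c L822049) (flp_j L821838) L828205
theorem L828209 : sm gi N63473 = N63031 := ded_33_2 (flp_c L823330) (flp_i L821840) L828205
theorem L828211 : sm gb N63473 = N63473 := ded_19_1 (flp_c L828205) L821836 L813055 (flp_b L821836) L828205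
theorem L828212 : sm gd N63473 = N63234 := ded_27_2 (flp_c L825118) (flp_d L817569) (flp_c L813041) L821834 L828205
theorem L828214 : sm gd N62891 = N63474 := rfl
theorem L828216 : sm ga N63474 = N62892 := ded_12_1 (flp_d L821852) (flp_a L821844) L828214
theorem L828218 : sm gg N63474 = N63152 := ded_36_2 L824461 (flp_g L821848) L828214
theorem L828220 : sm gi N63474 = N63042 := ded_39_2 (flp_d L823446) (flp_i L821850) L828214
theorem L828222 : sm ge N63474 = N63177 := ded_34_2 (flp_d L824703) (flp_e L816913) (flp_d L813060) L821842 L828214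
theorem L828224 : sm gf N62891 = N63475 := rfl
theorem L828226 : sm ga N63475 = N62893 := ded_14_1 (flp_f L821862) (flp_a L821844) L828224
theorem L828228 : sm gc N63475 = N62909 := ded_29_1 (flp_f L822011) (flp_c L821846) L828224
theorem L828230 : sm gi N63475 = N63043 := ded_48_2 (flp_f L823452) (flp_i L821850) L828224
theorem L828232 : sm gf N62892 = N63476 := rfl
theorem L828234 : sm gb N63476 = N62894 := ded_22_1 (flp_f L821870) (flp_b L821854) L828232
theorem L828236 : sm gc N63476 = N63122 := ded_29_1 L825883 L825879 L828232
theorem L828238 : sm gd N63476 = N62893 := ded_35_1 (flp_f L821862) L821852 L828232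
theorem L828240 : sm gj N63476 = N63211 := ded_46_2 (flp_f L825849) L825851 L828232
theorem L828242 : sm gi N63476 = N63044 := ded_48_2 (flp_f L823460) (flp_i L821858) L828232
theorem L828244 : sm gg N63476 = N63110 := ded_45_2 (flp_f L824107) L816054 L816473 (flp_g L821856) L828232
theorem L828246 : sm gh N62892 = N63477 := rfl
theorem L828248 : sm gb N63477 = N62895 := ded_25_1 (flp_h L821882) (flp_b L821854) L828246
theorem L828250 : sm ge N63477 = N63160 := ded_43_1 L824543 (flp_e L821860) L828246
theorem L828252 : sm gg N63477 = N63130 := ded_50_1 L824298 (flp_g L821856) L828246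
theorem L828254 : sm gg N62893 = N63478 := rfl
theorem L828256 : sm gb N63478 = N62896 := ded_23_1 (flp_g L821892) (flp_b L821864) L828254
theorem L828258 : sm gc N63478 = N62910 := ded_30_1 (flp_g L822017) (flp_c L821866) L828254
theorem L828260 : sm gd N63478 = N63110 := ded_36_1 (flp_g L828244) L828238 L828254
theorem L828262 : sm gi N63478 = N63045 := ded_51_2 L823482 (flp_i L821868) L828254
theorem L828264 : sm gf N63478 = N63078 := ded_45_1 L823781 L815636 (flp_g L813072) L821862 L828254
theorem L828266 : sm gj N63478 = N63113 := ded_49_2 L824145 (flp_j L819214) L826390 (flp_j L826406) L828254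
theorem L828268 : sm gd N62898 = N63479 := rfl
theorem L828270 : sm ga N63479 = N62899 := ded_12_1 (flp_d L821930) (flp_a L821924) L828268
theorem L828272 : sm gg N63479 = N63208 := ded_36_2 (flp_d L824932) (flp_g L821926) L828268
theorem L828274 : sm ge N63479 = N62928 := ded_34_2 (flp_d L822230) (flp_e L813499) (flp_d L813143) L821922 L828268
theorem L828276 : sm gf N62898 = N63480 := rfl
theorem L828278 : sm ga N63480 = N62900 := ded_14_1 (flp_f L821938) (flp_a L821924) L828276
theorem L828280 : sm gh N63480 = N62909 := ded_47_2 (flp_f L822011) (flp_h L821928) L828276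
theorem L828282 : sm gc N62899 = N63481 := rfl
theorem L828284 : sm ge N63481 = N62930 := ded_28_2 (flp_c L822242) (flp_e L821936) L828282
theorem L828286 : sm gg N63481 = N63209 := ded_30_2 (flp_c L824940) (flp_g L821934) L828282
theorem L828288 : sm gb N63481 = N63481 := ded_19_1 (flp_c L828282) L821932 L813161 (flp_b L821932) L828282
theorem L828289 : sm gf N62899 = N63482 := rfl
theorem L828291 : sm gb N63482 = N62901 := ded_22_1 (flp_f L821944) (flp_b L821932) L828289
theorem L828293 : sm gd N63482 = N62900 := ded_35_1 (flp_f L821938) L821930 L828289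
theorem L828295 : sm gg N62900 = N63483 := rfl
theorem L828297 : sm gb N63483 = N62902 := ded_23_1 (flp_g L821949) (flp_b L821940) L828295
theorem L828299 : sm gh N63483 = N62910 := ded_50_2 (flp_g L822017) (flp_h L821942) L828295
theorem L828301 : sm gf N63483 = N63079 := ded_45_1 L823797 L815652 (flp_g L813153) L821938 L828295
theorem L828303 : sm ge N62901 = N63484 := rfl
theorem L828305 : sm gc N63484 = N63484 := ded_28_1 (flp_e L828303) L821946 L828303
theorem L828306 : sm gh N63484 = N63092 := ded_43_2 (flp_e L826655) L826663 L828303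
theorem L828308 : sm gi N63484 = N63135 := ded_44_2 (flp_e L825434) (flp_i L825444) L828303
theorem L828310 : sm gd N63484 = N63115 := ded_34_1 (flp_e L825506) L825498 L818175 (flp_d L821947) L828303
theorem L828312 : sm gf N63484 = N62932 := ded_40_2 (flp_e L822253) (flp_f L813519) (flp_e L813162) L821944 L828303
theorem L828314 : sm gg N63143 = N63484 := ded_50_3 L828306 L823950 (flp_h L824387)
theorem L828316 : sm gg N62901 = N63485 := rfl
theorem L828318 : sm gc N63485 = N63485 := ded_30_1 (flp_g L828316) L821946 L828316
theorem L828319 : sm gd N63485 = N62902 := ded_36_1 (flp_g L821949) (flp_d L821947) L828316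
theorem L828321 : sm ge N63485 = N63143 := ded_41_1 L828314 (flp_e L828303) L828316
theorem L828323 : sm gh N63485 = N62958 := ded_50_2 (flp_g L826659) L826663 L828316
theorem L828325 : sm gi N63485 = N62951 := ded_51_2 (flp_g L825438) (flp_i L825444) L828316
theorem L828327 : sm gf N63485 = N63029 := ded_45_1 L823320 L815087 (flp_g L813159) L821944 L828316
theorem L828329 : sm gd N62903 = N63486 := rfl
theorem L828331 : sm ga N63486 = N62904 := ded_12_1 (flp_d L821965) (flp_a L821959) L828329
theorem L828333 : sm gg N63486 = N63199 := ded_36_2 (flp_d L824876) (flp_g L821961) L828329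
theorem L828335 : sm gi N63486 = N63054 := ded_39_2 (flp_d L823566) (flp_i L821963) L828329
theorem L828337 : sm ge N63486 = N62912 := ded_34_2 (flp_d L822041) (flp_e L813259) (flp_d L813179) L821957 L828329
theorem L828339 : sm gf N62903 = N63487 := rfl
theorem L828341 : sm ga N63487 = N62905 := ded_14_1 (flp_f L821975) (flp_a L821959) L828339
theorem L828343 : sm gi N63487 = N63055 := ded_48_2 (flp_f L823572) (flp_i L821963) L828339
theorem L828345 : sm ge N63487 = N62909 := ded_40_1 (flp_f L822011) (flp_e L813221) (flp_f L813181) L821957 L828339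
theorem L828347 : sm gc N62904 = N63488 := rfl
theorem L828349 : sm ge N63488 = N62913 := ded_28_2 (flp_c L822049) (flp_e L821973) L828347
theorem L828351 : sm gg N63488 = N63201 := ded_30_2 (flp_c L824888) (flp_g L821969) L828347
theorem L828353 : sm gi N63488 = N63056 := ded_33_2 (flp_c L823578) (flp_i L821971) L828347
theorem L828355 : sm gb N63488 = N63488 := ded_19_1 (flp_c L828347) L821967 L813201 (flp_b L821967) L828347
theorem L828356 : sm gf N62904 = N63489 := rfl
theorem L828358 : sm gb N63489 = N62906 := ded_22_1 (flp_f L821983) (flp_b L821967) L828356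
theorem L828360 : sm gd N63489 = N62905 := ded_35_1 (flp_f L821975) L821965 L828356
theorem L828362 : sm gi N63489 = N63057 := ded_48_2 (flp_f L823583) (flp_i L821971) L828356
theorem L828364 : sm ge N63489 = N63205 := ded_40_1 L827702 L827698 L821082 (flp_e L821973) L828356
theorem L828366 : sm gh N62904 = N63490 := rfl
theorem L828368 : sm gb N63490 = N62907 := ded_25_1 (flp_h L821992) (flp_b L821967) L828366
theorem L828370 : sm ge N63490 = N62914 := ded_43_1 (flp_h L822058) (flp_e L821973) L828366
theorem L828372 : sm gg N63490 = N63057 := ded_50_1 (flp_h L823591) (flp_g L821969) L828366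
theorem L828374 : sm gd N63490 = N63059 := ded_38_1 L825476 (flp_d L825462) L818143 L821965 L828366
theorem L828376 : sm gg N62905 = N63491 := rfl
theorem L828378 : sm gb N63491 = N62908 := ded_23_1 (flp_g L822001) (flp_b L821977) L828376
theorem L828380 : sm ge N63491 = N62910 := ded_41_1 (flp_g L822017) (flp_e L821981) L828376
theorem L828382 : sm gi N63491 = N63059 := ded_51_2 (flp_g L823603) (flp_i L821979) L828376
theorem L828384 : sm gf N63491 = N63157 := ded_45_1 L824513 (flp_f L817195) (flp_g L813191) L821975 L828376
theorem L828386 : sm gg N62906 = N63492 := rfl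
theorem L828388 : sm gc N63492 = N63492 := ded_30_1 (flp_g L828386) L821985 L828386
theorem L828389 : sm gd N63492 = N62908 := ded_36_1 (flp_g L822001) (flp_d L821986) L828386
theorem L828391 : sm ge N63492 = N62915 := ded_41_1 L822075 (flp_e L821990) L828386
theorem L828393 : sm gi N63492 = N62907 := ded_51_2 L821997 (flp_i L821988) L828386
theorem L828395 : sm gf N63492 = N63052 := ded_45_1 L823552 L815395 (flp_g L813197) L821983 L828386
theorem L828397 : sm gh N63051 = N63492 := ded_38_0 L828389 (flp_h L825520) L825516 L819658 (flp_d L823541)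
theorem L828399 : sm gh N62906 = N63493 := rfl
theorem L828401 : sm gc N63493 = N63493 := ded_32_1 (flp_h L828399) L821985 L828399
theorem L828402 : sm ge N63493 = N63064 := ded_43_1 L823653 (flp_e L821990) L828399
theorem L828404 : sm gf N63493 = N62907 := ded_47_1 (flp_h L821992) L821983 L828399
theorem L828406 : sm gg N63493 = N63051 := ded_50_1 L828397 (flp_g L828386) L828399
theorem L828408 : sm gd N63493 = N63053 := ded_38_1 (flp_h L825502) L825498 L818171 (flp_d L821986) L828399
theorem L828410 : sm gi N63493 = N63052 := ded_54_2 (flp_h L823547) L815343 L815388 (flp_i L821988) L828399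
theorem L828412 : sm gg N62909 = N63494 := rfl
theorem L828414 : sm ga N63494 = N62910 := ded_15_1 (flp_g L822017) (flp_a L822013) L828412
theorem L828416 : sm gd N63494 = N63077 := ded_36_1 (flp_g L827732) L827728 L828412
theorem L828418 : sm gi N63494 = N63060 := ded_51_2 (flp_g L823609) (flp_i L822015) L828412
theorem L828420 : sm gf N63494 = N63076 := ded_45_1 L823765 L815624 (flp_g L813225) L822011 L828412
theorem L828422 : sm gj N62910 = N63495 := rfl
theorem L828424 : sm gb N63495 = N62911 := ded_24_1 (flp_j L822027) (flp_b L822019) L828422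
theorem L828426 : sm gc N63495 = N63113 := ded_31_1 (flp_j L828266) L828258 L828422
theorem L828428 : sm gd N63495 = N62962 := ded_37_1 (flp_j L822571) (flp_d L822021) L828422
theorem L828430 : sm gf N63495 = N63075 := ded_46_1 L823753 (flp_f L822025) L828422
theorem L828432 : sm gi N63495 = N62966 := ded_53_2 L822623 (flp_i L822023) L828422
theorem L828434 : sm gg N63495 = N62961 := ded_49_1 L822557 (flp_g L819364) L819366 L822017 L828422
theorem L828436 : sm gc N62912 = N63496 := rfl
theorem L828438 : sm ga N63496 = N62913 := ded_11_1 (flp_c L822049) (flp_a L822043) L828436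
theorem L828440 : sm gg N63496 = N63202 := ded_30_2 (flp_c L824893) (flp_g L822045) L828436
theorem L828442 : sm gi N63496 = N63065 := ded_33_2 (flp_c L823655) (flp_i L822047) L828436
theorem L828444 : sm gd N63496 = N63266 := ded_27_2 (flp_c L825319) (flp_d L817880) (flp_c L813263) L822041 L828436
theorem L828446 : sm gh N62912 = N63497 := rfl
theorem L828448 : sm ga N63497 = N62914 := ded_17_1 (flp_h L822058) (flp_a L822043) L828446
theorem L828450 : sm gf N63497 = N63098 := ded_47_1 (flp_h L827746) L827740 L828446
theorem L828452 : sm gg N63497 = N63203 := ded_50_1 (flp_h L824899) (flp_g L822045) L828446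
theorem L828454 : sm gd N63497 = N62933 := ded_38_1 (flp_h L822262) (flp_d L813558) (flp_h L813267) L822041 L828446
theorem L828456 : sm gh N62913 = N63498 := rfl
theorem L828458 : sm gb N63498 = N63498 := ded_25_1 (flp_h L828456) L822055 L828456
theorem L828459 : sm gc N63498 = N62914 := ded_32_1 (flp_h L822058) L822049 L828456
theorem L828461 : sm gf N63498 = N63099 := ded_47_1 (flp_h L827754) L827750 L828456
theorem L828463 : sm gg N63498 = N63204 := ded_50_1 (flp_h L824903) (flp_g L822051) L828456
theorem L828465 : sm gi N62914 = N63499 := rfl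
theorem L828467 : sm gb N63499 = N62915 := ded_26_1 (flp_i L822068) (flp_b L822060) L828465
theorem L828469 : sm gd N63499 = N62934 := ded_39_1 (flp_i L822270) (flp_d L822066) L828465
theorem L828471 : sm gf N63499 = N63070 := ded_48_1 L823698 (flp_f L822062) L828465
theorem L828473 : sm gg N63499 = N63205 := ded_51_1 (flp_i L824908) (flp_g L822064) L828465
theorem L828475 : sm gh N63499 = N63068 := ded_54_1 (flp_i L823674) (flp_h L815453) (flp_i L813277) L822058 L828465
theorem L828477 : sm ge N62916 = N63500 := rfl
theorem L828479 : sm ga N63500 = N62917 := ded_13_1 (flp_e L822097) L822079 L828477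
theorem L828481 : sm gb N63500 = N63069 := ded_21_1 (flp_e L823682) (flp_b L822095) L828477
theorem L828483 : sm gc N63500 = N63220 := ded_28_1 (flp_e L825008) (flp_c L822081) L828477
theorem L828485 : sm gg N63500 = N62997 := ded_41_2 (flp_e L822968) (flp_g L822087) L828477
theorem L828487 : sm gj N63500 = N62924 := ded_42_2 (flp_e L822197) (flp_j L822089) L828477
theorem L828489 : sm gh N63500 = N62939 := ded_43_2 (flp_e L822330) (flp_h L822091) L828477
theorem L828491 : sm gi N63500 = N62918 := ded_44_2 (flp_e L822111) (flp_i L822093) L828477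
theorem L828493 : sm gd N62918 = N63501 := rfl
theorem L828495 : sm ga N63501 = N62919 := ded_12_1 (flp_d L822125) (flp_a L822113) L828493
theorem L828497 : sm gb N63501 = N63098 := ded_20_1 (flp_d L824007) (flp_b L822115) L828493
theorem L828499 : sm gg N63501 = N63008 := ded_36_2 (flp_d L823100) (flp_g L822119) L828493
theorem L828501 : sm gj N63501 = N62928 := ded_37_2 (flp_d L822230) (flp_j L822121) L828493
theorem L828503 : sm gh N63501 = N63240 := ded_38_2 (flp_d L825153) (flp_h L820902) L820906 (flp_h L822123) L828493
theorem L828505 : sm gc N62919 = N63502 := rfl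
theorem L828507 : sm gg N63502 = N63009 := ded_30_2 (flp_c L823112) (flp_g L822129) L828505
theorem L828509 : sm gj N63502 = N62930 := ded_31_2 (flp_c L822242) (flp_j L822131) L828505
theorem L828511 : sm gh N63502 = N63241 := ded_32_2 (flp_c L825161) (flp_h L822133) L828505
theorem L828513 : sm gb N63502 = N63502 := ded_19_1 (flp_c L828505) L822127 L813352 (flp_b L822127) L828505
theorem L828514 : sm gd N63502 = N63225 := ded_27_2 (flp_c L825046) (flp_d L817448) (flp_c L813336) L822125 L828505
theorem L828516 : sm gd N62920 = N63503 := rfl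
theorem L828518 : sm ga N63503 = N62921 := ded_12_1 (flp_d L822149) (flp_a L822137) L828516
theorem L828520 : sm gb N63503 = N63229 := ded_20_1 (flp_d L825077) (flp_b L822139) L828516
theorem L828522 : sm gg N63503 = N62978 := ded_36_2 (flp_d L822744) (flp_g L822143) L828516
theorem L828524 : sm gj N63503 = N63223 := ded_37_2 (flp_d L825034) (flp_j L822145) L828516
theorem L828526 : sm ge N63503 = N62974 := ded_34_2 (flp_d L822697) (flp_e L814201) (flp_d L813379) L822135 L828516
theorem L828528 : sm gh N63503 = N63161 := ded_38_2 (flp_d L824545) L816673 (flp_d L813448) (flp_h L822147) L828516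
theorem L828530 : sm gf N63203 = N63503 := ded_14_0 L828518 (flp_f L822161) (flp_a L824901)
theorem L828532 : sm gf N62920 = N63504 := rfl
theorem L828534 : sm ga N63504 = N62922 := ded_14_1 (flp_f L822163) (flp_a L822137) L828532
theorem L828536 : sm gb N63504 = N63230 := ded_22_1 (flp_f L825087) (flp_b L822139) L828532
theorem L828538 : sm gc N63504 = N62929 := ded_29_1 (flp_f L822236) (flp_c L822141) L828532
theorem L828540 : sm gd N63504 = N63203 := ded_35_1 L828530 (flp_d L828516) L828532
theorem L828542 : sm gj N63504 = N63224 := ded_46_2 (flp_f L825040) (flp_j L822145) L828532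
theorem L828544 : sm gh N63504 = N62923 := ded_47_2 (flp_f L822179) (flp_h L822147) L828532
theorem L828546 : sm ge N63504 = N62973 := ded_40_1 (flp_f L822685) (flp_e L814179) (flp_f L813381) L822135 L828532
theorem L828548 : sm gg N63504 = N62933 := ded_45_2 L822268 L815929 (flp_f L814288) (flp_g L822143) L828532
theorem L828550 : sm gc N62921 = N63505 := rfl
theorem L828552 : sm ge N63505 = N62975 := ded_28_2 (flp_c L822707) (flp_e L822157) L828550
theorem L828554 : sm gf N63505 = N63204 := ded_29_2 L824906 L822161 L828550
theorem L828556 : sm gg N63505 = N62979 := ded_30_2 (flp_c L822756) (flp_g L822153) L828550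
theorem L828558 : sm gj N63505 = N63225 := ded_31_2 (flp_c L825046) (flp_j L822155) L828550
theorem L828560 : sm gh N63505 = N63162 := ded_32_2 (flp_c L824559) (flp_h L822159) L828550
theorem L828562 : sm gb N63505 = N63505 := ded_19_1 (flp_c L828550) L822151 L813411 (flp_b L822151) L828550
theorem L828563 : sm gd N63505 = N62930 := ded_27_2 (flp_c L822242) (flp_d L813507) (flp_c L813395) L822149 L828550
theorem L828565 : sm gd N62924 = N63506 := rfl
theorem L828567 : sm ga N63506 = N62925 := ded_12_1 (flp_d L822207) (flp_a L822199) L828565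
theorem L828569 : sm gg N63506 = N63235 := ded_36_2 (flp_d L825123) (flp_g L822201) L828565
theorem L828571 : sm gi N63506 = N62928 := ded_39_2 (flp_d L822230) (flp_i L822205) L828565
theorem L828573 : sm gf N62924 = N63507 := rfl
theorem L828575 : sm ga N63507 = N62926 := ded_14_1 (flp_f L822215) (flp_a L822199) L828573
theorem L828577 : sm gh N63507 = N62960 := ded_47_2 (flp_f L822543) (flp_h L822203) L828573
theorem L828579 : sm gi N63507 = N62929 := ded_48_2 (flp_f L822236) (flp_i L822205) L828573
theorem L828581 : sm gc N62925 = N63508 := rfl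
theorem L828583 : sm gg N63508 = N63236 := ded_30_2 (flp_c L825129) (flp_g L822211) L828581
theorem L828585 : sm gi N63508 = N62930 := ded_33_2 (flp_c L822242) (flp_i L822213) L828581
theorem L828587 : sm gb N63508 = N63508 := ded_19_1 (flp_c L828581) L822209 L813490 (flp_b L822209) L828581
theorem L828588 : sm gf N62925 = N63509 := rfl
theorem L828590 : sm gb N63509 = N62927 := ded_22_1 (flp_f L822223) (flp_b L822209) L828588
theorem L828592 : sm gd N63509 = N62926 := ded_35_1 (flp_f L822215) L822207 L828588
theorem L828594 : sm gi N63509 = N62931 := ded_48_2 (flp_f L822247) (flp_i L822213) L828588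
theorem L828596 : sm ge N62927 = N63510 := rfl
theorem L828598 : sm gc N63510 = N63510 := ded_28_1 (flp_e L828596) L822225 L828596
theorem L828599 : sm gg N63510 = N63108 := ded_41_2 (flp_e L827245) L827247 L828596
theorem L828601 : sm gh N63510 = N63134 := ded_43_2 (flp_e L826827) L826823 L828596
theorem L828603 : sm gi N63510 = N62932 := ded_44_2 (flp_e L822253) (flp_i L822228) L828596
theorem L828605 : sm gd N63510 = N63116 := ded_34_1 L824167 (flp_d L818622) L818630 (flp_d L822226) L828596
theorem L828607 : sm gf N63510 = N63135 := ded_40_2 (flp_e L825434) L825436 L819946 L822223 L828596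
theorem L828609 : sm gc N62928 = N63511 := rfl
theorem L828611 : sm ga N63511 = N62930 := ded_11_1 (flp_c L822242) (flp_a L822232) L828609
theorem L828613 : sm gg N63511 = N63237 := ded_30_2 (flp_c L825134) (flp_g L822234) L828609
theorem L828615 : sm gf N62928 = N63512 := rfl
theorem L828617 : sm ga N63512 = N62931 := ded_14_1 (flp_f L822247) (flp_a L822232) L828615
theorem L828619 : sm gd N63512 = N62929 := ded_35_1 (flp_f L822236) L822230 L828615
theorem L828621 : sm gf N62930 = N63513 := rfl
theorem L828623 : sm gb N63513 = N63513 := ded_22_1 (flp_f L828621) L822246 L828621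
theorem L828624 : sm gc N63513 = N62931 := ded_29_1 (flp_f L822247) L822242 L828621
theorem L828626 : sm gd N63513 = N63204 := ded_35_1 (flp_f L828554) L828563 L828621
theorem L828628 : sm gh N63513 = N63269 := ded_47_2 L827804 L827797 L828621
theorem L828630 : sm ge N62931 = N63514 := rfl
theorem L828632 : sm gb N63514 = N62932 := ded_21_1 (flp_e L822253) (flp_b L822249) L828630
theorem L828634 : sm gg N63514 = N63107 := ded_41_2 (flp_e L827567) L827569 L828630
theorem L828636 : sm gh N63514 = N63104 := ded_43_2 (flp_e L827822) L827816 L828630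
theorem L828638 : sm gd N63514 = N63114 := ded_34_1 L824151 (flp_d L818985) L818991 (flp_d L822251) L828630
theorem L828640 : sm gi N62933 = N63515 := rfl
theorem L828642 : sm ga N63515 = N62934 := ded_18_1 (flp_i L822270) (flp_a L822264) L828640
theorem L828644 : sm ge N63515 = N63077 := ded_44_1 L823775 (flp_e L822266) L828640
theorem L828646 : sm gf N63515 = N63069 := ded_48_1 L823690 (flp_f L822268) L828640
theorem L828648 : sm gh N63515 = N62970 := ded_54_1 (flp_i L822653) (flp_h L814099) (flp_i L813562) L822262 L828640
theorem L828650 : sm ge N62935 = N63516 := rfl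
theorem L828652 : sm ga N63516 = N62936 := ded_13_1 (flp_e L822298) L822280 L828650
theorem L828654 : sm gb N63516 = N63027 := ded_21_1 (flp_e L823299) (flp_b L822296) L828650
theorem L828656 : sm gc N63516 = N63226 := ded_28_1 (flp_e L825051) (flp_c L822282) L828650
theorem L828658 : sm gg N63516 = N62983 := ded_41_2 (flp_e L822812) (flp_g L822288) L828650
theorem L828660 : sm gj N63516 = N62947 := ded_42_2 (flp_e L822440) (flp_j L822290) L828650
theorem L828662 : sm gh N63516 = N62999 := ded_43_2 (flp_e L822998) (flp_h L822292) L828650
theorem L828664 : sm gi N63516 = N62937 := ded_44_2 (flp_e L822312) (flp_i L822294) L828650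
theorem L828666 : sm gd N62937 = N63517 := rfl
theorem L828668 : sm ga N63517 = N62938 := ded_12_1 (flp_d L822322) (flp_a L822314) L828666
theorem L828670 : sm gj N63517 = N62952 := ded_37_2 (flp_d L822474) (flp_j L822318) L828666
theorem L828672 : sm ge N63517 = N63105 := ded_34_2 (flp_d L824065) (flp_e L816013) (flp_d L813630) L822312 L828666
theorem L828674 : sm gc N62938 = N63518 := rfl
theorem L828676 : sm ge N63518 = N63106 := ded_28_2 (flp_c L824071) (flp_e L822328) L828674
theorem L828678 : sm gg N63518 = N63269 := ded_30_2 (flp_c L827810) L827820 L828674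
theorem L828680 : sm gj N63518 = N62954 := ded_31_2 (flp_c L822488) (flp_j L822326) L828674
theorem L828682 : sm gb N63518 = N63518 := ded_19_1 (flp_c L828674) L822324 L813652 (flp_b L822324) L828674
theorem L828683 : sm gd N63518 = N63231 := ded_27_2 (flp_c L825095) (flp_d L817509) (flp_c L813642) L822322 L828674
theorem L828685 : sm gd N62940 = N63519 := rfl
theorem L828687 : sm ga N63519 = N62941 := ded_12_1 (flp_d L822356) (flp_a L822346) L828685
theorem L828689 : sm gb N63519 = N63223 := ded_20_1 (flp_d L825034) (flp_b L822348) L828685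
theorem L828691 : sm gj N63519 = N63229 := ded_37_2 (flp_d L825077) (flp_j L822352) L828685
theorem L828693 : sm ge N63519 = N63243 := ded_34_2 (flp_d L825176) (flp_e L817653) (flp_d L813719) L822344 L828685
theorem L828695 : sm gh N63519 = N63233 := ded_38_2 (flp_d L825110) L817567 (flp_d L813842) (flp_h L822354) L828685
theorem L828697 : sm gf N62940 = N63520 := rfl
theorem L828699 : sm ga N63520 = N62942 := ded_14_1 (flp_f L822366) (flp_a L822346) L828697
theorem L828701 : sm gb N63520 = N63224 := ded_22_1 (flp_f L825040) (flp_b L822348) L828697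
theorem L828703 : sm gc N63520 = N62953 := ded_29_1 (flp_f L822480) (flp_c L822350) L828697
theorem L828705 : sm gj N63520 = N63230 := ded_46_2 (flp_f L825087) (flp_j L822352) L828697
theorem L828707 : sm gh N63520 = N62946 := ded_47_2 (flp_f L822422) (flp_h L822354) L828697
theorem L828709 : sm ge N63520 = N62945 := ded_40_1 (flp_f L822408) (flp_e L813802) (flp_f L813721) L822344 L828697
theorem L828711 : sm gg N63520 = N62968 := ded_45_2 (flp_f L827506) L827498 (flp_f L826486) L826478 L828697
theorem L828713 : sm gc N62941 = N63521 := rfl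
theorem L828715 : sm ge N63521 = N63244 := ded_28_2 (flp_c L825182) (flp_e L822362) L828713
theorem L828717 : sm gj N63521 = N63231 := ded_31_2 (flp_c L825095) (flp_j L822360) L828713
theorem L828719 : sm gh N63521 = N63234 := ded_32_2 (flp_c L825118) (flp_h L822364) L828713
theorem L828721 : sm gb N63521 = N63521 := ded_19_1 (flp_c L828713) L822358 L813745 (flp_b L822358) L828713
theorem L828722 : sm gd N63521 = N62954 := ded_27_2 (flp_c L822488) (flp_d L813907) (flp_c L813733) L822356 L828713
theorem L828724 : sm gf N62943 = N63522 := rfl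
theorem L828726 : sm ga N63522 = N62944 := ded_14_1 (flp_f L822394) (flp_a L822382) L828724
theorem L828728 : sm gc N63522 = N62960 := ded_29_1 (flp_f L822543) (flp_c L822384) L828724
theorem L828730 : sm gd N63522 = N63154 := ded_35_1 L824485 (flp_d L822392) L828724
theorem L828732 : sm gj N63522 = N63232 := ded_46_2 (flp_f L825104) (flp_j L822388) L828724
theorem L828734 : sm gi N63522 = N62945 := ded_48_2 (flp_f L822408) (flp_i L822390) L828724
theorem L828736 : sm gg N63522 = N62970 := ded_45_2 L822659 (flp_g L820523) L820533 (flp_g L822386) L828724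
theorem L828738 : sm gd N62947 = N63523 := rfl
theorem L828740 : sm ga N63523 = N62948 := ded_12_1 (flp_d L822446) (flp_a L822442) L828738
theorem L828742 : sm gi N63523 = N62952 := ded_39_2 (flp_d L822474) (flp_i L822444) L828738
theorem L828744 : sm ge N63523 = N63140 := ded_34_2 (flp_d L824365) (flp_e L816363) (flp_d L813874) L822440 L828738
theorem L828746 : sm gf N62947 = N63524 := rfl
theorem L828748 : sm ga N63524 = N62949 := ded_14_1 (flp_f L822454) (flp_a L822442) L828746
theorem L828750 : sm gi N63524 = N62953 := ded_48_2 (flp_f L822480) (flp_i L822444) L828746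
theorem L828752 : sm ge N63524 = N62960 := ded_40_1 (flp_f L822543) (flp_e L813933) (flp_f L813876) L822440 L828746
theorem L828754 : sm gc N62948 = N63525 := rfl
theorem L828756 : sm ge N63525 = N63141 := ded_28_2 (flp_c L824371) (flp_e L822452) L828754
theorem L828758 : sm gi N63525 = N62954 := ded_33_2 (flp_c L822488) (flp_i L822450) L828754
theorem L828760 : sm gb N63525 = N63525 := ded_19_1 (flp_c L828754) L822448 L813890 (flp_b L822448) L828754
theorem L828761 : sm gf N62948 = N63526 := rfl
theorem L828763 : sm gb N63526 = N62950 := ded_22_1 (flp_f L822462) (flp_b L822448) L828761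
theorem L828765 : sm gd N63526 = N62949 := ded_35_1 (flp_f L822454) L822446 L828761
theorem L828767 : sm gi N63526 = N62955 := ded_48_2 (flp_f L822493) (flp_i L822450) L828761
theorem L828769 : sm gh N62948 = N63527 := rfl
theorem L828771 : sm gb N63527 = N62951 := ded_25_1 (flp_h L822469) (flp_b L822448) L828769
theorem L828773 : sm ge N63527 = N63142 := ded_43_1 (flp_h L824376) (flp_e L822452) L828769
theorem L828775 : sm gh N62950 = N63528 := rfl
theorem L828777 : sm gc N63528 = N63528 := ded_32_1 (flp_h L828775) L822464 L828775
theorem L828778 : sm ge N63528 = N63255 := ded_43_1 (flp_h L826748) L826752 L828775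
theorem L828780 : sm gf N63528 = N62951 := ded_47_1 (flp_h L822469) L822462 L828775
theorem L828782 : sm gg N63528 = N63033 := ded_50_1 (flp_h L826922) L826926 L828775
theorem L828784 : sm gd N63528 = N63080 := ded_38_1 L823807 (flp_d L818622) L818626 (flp_d L822465) L828775
theorem L828786 : sm gi N63528 = N63029 := ded_54_2 (flp_h L823315) (flp_i L820605) L820610 (flp_i L822467) L828775
theorem L828788 : sm gc N62952 = N63529 := rfl
theorem L828790 : sm ga N63529 = N62954 := ded_11_1 (flp_c L822488) (flp_a L822476) L828788
theorem L828792 : sm ge N63529 = N63144 := ded_28_2 (flp_c L824389) (flp_e L822478) L828788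
theorem L828794 : sm gf N62952 = N63530 := rfl
theorem L828796 : sm ga N63530 = N62955 := ded_14_1 (flp_f L822493) (flp_a L822476) L828794
theorem L828798 : sm gd N63530 = N62953 := ded_35_1 (flp_f L822480) L822474 L828794
theorem L828800 : sm gh N62952 = N63531 := rfl
theorem L828802 : sm ga N63531 = N62956 := ded_17_1 (flp_h L822499) (flp_a L822476) L828800
theorem L828804 : sm ge N63531 = N63146 := ded_43_1 (flp_h L824403) (flp_e L822478) L828800
theorem L828806 : sm gd N63531 = N62968 := ded_38_1 (flp_h L822637) (flp_d L814063) (flp_h L813905) L822474 L828800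
theorem L828808 : sm gf N62954 = N63532 := rfl
theorem L828810 : sm gb N63532 = N63532 := ded_22_1 (flp_f L828808) L822492 L828808
theorem L828811 : sm gc N63532 = N62955 := ded_29_1 (flp_f L822493) L822488 L828808
theorem L828813 : sm gh N62954 = N63533 := rfl
theorem L828815 : sm gb N63533 = N63533 := ded_25_1 (flp_h L828813) L822492 L828813
theorem L828816 : sm gc N63533 = N62956 := ded_32_1 (flp_h L822499) L822488 L828813
theorem L828818 : sm ge N63533 = N63148 := ded_43_1 (flp_h L824420) (flp_e L822490) L828813
theorem L828820 : sm ge N62955 = N63534 := rfl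
theorem L828822 : sm gb N63534 = N62957 := ded_21_1 (flp_e L822507) (flp_b L822495) L828820
theorem L828824 : sm gj N63534 = N63022 := ded_42_2 (flp_e L827577) L827583 L828820
theorem L828826 : sm gh N63534 = N63011 := ded_43_2 (flp_e L827520) L827522 L828820
theorem L828828 : sm gd N63534 = N62965 := ded_34_1 (flp_e L822599) L814007 (flp_e L813919) (flp_d L822497) L828820
theorem L828830 : sm gf N63534 = N63149 := ded_40_2 (flp_e L824427) (flp_f L816397) (flp_e L813911) L822493 L828820
theorem L828832 : sm gi N62956 = N63535 := rfl
theorem L828834 : sm gb N63535 = N62958 := ded_26_1 (flp_i L822520) (flp_b L822501) L828832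
theorem L828836 : sm gd N63535 = N62969 := ded_39_1 (flp_i L822643) (flp_d L822505) L828832
theorem L828838 : sm ge N63535 = N63150 := ded_44_1 (flp_i L824437) (flp_e L822503) L828832
theorem L828840 : sm gf N63535 = N63028 := ded_48_1 (flp_i L827518) L827512 L828832
theorem L828842 : sm gf N62959 = N63536 := rfl
theorem L828844 : sm ga N63536 = N62961 := ded_14_1 (flp_f L822549) (flp_a L822531) L828842
theorem L828846 : sm gb N63536 = N63125 := ded_22_1 L824253 (flp_b L822533) L828842
theorem L828848 : sm gc N63536 = N63187 := ded_29_1 (flp_f L824791) (flp_c L822539) L828842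
theorem L828850 : sm gd N63536 = N62960 := ded_35_1 (flp_f L822543) L822529 L828842
theorem L828852 : sm gj N63536 = N63024 := ded_46_2 L826220 L826212 L828842
theorem L828854 : sm gi N63536 = N62963 := ded_48_2 (flp_f L822573) (flp_i L822537) L828842
theorem L828856 : sm gg N62960 = N63537 := rfl
theorem L828858 : sm ga N63537 = N62962 := ded_15_1 (flp_g L822561) (flp_a L822545) L828856
theorem L828860 : sm gc N63537 = N62970 := ded_30_1 (flp_g L828736) L828728 L828856
theorem L828862 : sm gi N63537 = N62964 := ded_51_2 (flp_g L822587) (flp_i L822547) L828856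
theorem L828864 : sm gf N63537 = N63074 := ded_45_1 L823741 L815692 (flp_g L813937) L822543 L828856
theorem L828866 : sm gj N63077 = N63537 := ded_16_0 L828858 (flp_j L822571) (flp_a L823773)
theorem L828868 : sm ge N62963 = N63538 := rfl
theorem L828870 : sm ga N63538 = N62965 := ded_13_1 (flp_e L822599) (flp_a L822575) L828868
theorem L828872 : sm gb N63538 = N63117 := ded_21_1 L824177 (flp_b L822577) L828868
theorem L828874 : sm gc N63538 = N63200 := ded_28_1 L824886 (flp_c L822579) L828868
theorem L828876 : sm gj N63538 = N63023 := ded_42_2 L823265 (flp_j L822583) L828868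
theorem L828878 : sm gh N63538 = N63014 := ded_43_2 L823181 (flp_h L822585) L828868
theorem L828880 : sm gf N63538 = N63151 := ded_40_2 (flp_e L824445) (flp_f L816443) (flp_e L813991) L822573 L828868
theorem L828882 : sm gg N62963 = N63539 := rfl
theorem L828884 : sm ga N63539 = N62966 := ded_15_1 (flp_g L822611) (flp_a L822575) L828882
theorem L828886 : sm gb N63539 = N63121 := ded_23_1 L824219 (flp_b L822577) L828882
theorem L828888 : sm gc N63539 = N63156 := ded_30_1 L824507 (flp_c L822579) L828882
theorem L828890 : sm gd N63539 = N62964 := ded_36_1 (flp_g L822587) (flp_d L822581) L828882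
theorem L828892 : sm gh N63539 = N63015 := ded_50_2 L823189 (flp_h L822585) L828882
theorem L828894 : sm gf N63539 = N63119 := ded_45_1 L824199 L816515 (flp_g L813987) L822573 L828882
theorem L828896 : sm gj N63539 = N63060 := ded_49_2 (flp_g L823609) (flp_j L819356) L819354 (flp_j L822583) L828882
theorem L828898 : sm gg N62965 = N63540 := rfl
theorem L828900 : sm gb N63540 = N62967 := ded_23_1 (flp_g L822625) (flp_b L822601) L828898
theorem L828902 : sm gc N63540 = N63157 := ded_30_1 L824513 (flp_c L822603) L828898
theorem L828904 : sm ge N63540 = N62966 := ded_41_1 (flp_g L822611) L822599 L828898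
theorem L828906 : sm gh N63540 = N63013 := ded_50_2 L823163 (flp_h L822607) L828898
theorem L828908 : sm gj N63540 = N63059 := ded_49_2 (flp_g L823603) (flp_j L819310) L819308 (flp_j L822605) L828898
theorem L828910 : sm gi N62968 = N63541 := rfl
theorem L828912 : sm ga N63541 = N62969 := ded_18_1 (flp_i L822643) (flp_a L822639) L828910
theorem L828914 : sm ge N63541 = N62970 := ded_44_1 (flp_i L822653) (flp_e L822641) L828910
theorem L828916 : sm gf N63541 = N63027 := ded_48_1 (flp_i L827504) L827506 L828910
theorem L828918 : sm gh N63541 = N63077 := ded_54_1 L823775 (flp_h L821659) L821661 L822637 L828910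
theorem L828920 : sm gd N62971 = N63542 := rfl
theorem L828922 : sm ga N63542 = N62972 := ded_12_1 (flp_d L822673) (flp_a L822663) L828920
theorem L828924 : sm gb N63542 = N63243 := ded_20_1 (flp_d L825176) (flp_b L822665) L828920
theorem L828926 : sm gf N63542 = N63030 := ded_35_2 (flp_d L823324) (flp_f L822671) L828920
theorem L828928 : sm gj N63542 = N62974 := ded_37_2 (flp_d L822697) (flp_j L822667) L828920
theorem L828930 : sm ge N63542 = N63223 := ded_34_2 (flp_d L825034) (flp_e L817442) (flp_d L814146) L822661 L828920
theorem L828932 : sm gh N63542 = N63208 := ded_38_2 (flp_d L824932) L817270 (flp_d L814274) (flp_h L822669) L828920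
theorem L828934 : sm gc N62972 = N63543 := rfl
theorem L828936 : sm ge N63543 = N63225 := ded_28_2 (flp_c L825046) (flp_e L822681) L828934
theorem L828938 : sm gf N63543 = N63031 := ded_29_2 (flp_c L823330) (flp_f L822677) L828934
theorem L828940 : sm gj N63543 = N62975 := ded_31_2 (flp_c L822707) (flp_j L822679) L828934
theorem L828942 : sm gh N63543 = N63209 := ded_32_2 (flp_c L824940) (flp_h L822683) L828934
theorem L828944 : sm gb N63543 = N63543 := ded_19_1 (flp_c L828934) L822675 L814174 (flp_b L822675) L828934
theorem L828945 : sm gc N62974 = N63544 := rfl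
theorem L828947 : sm ga N63544 = N62975 := ded_11_1 (flp_c L822707) (flp_a L822699) L828945
theorem L828949 : sm gf N63544 = N63065 := ded_29_2 (flp_c L823655) (flp_f L822703) L828945
theorem L828951 : sm gh N63544 = N63219 := ded_32_2 (flp_c L825004) (flp_h L822705) L828945
theorem L828953 : sm gd N62976 = N63545 := rfl
theorem L828955 : sm ga N63545 = N62977 := ded_12_1 (flp_d L822730) (flp_a L822716) L828953
theorem L828957 : sm gb N63545 = N63238 := ded_20_1 (flp_d L825138) (flp_b L822718) L828953
theorem L828959 : sm gf N63545 = N63071 := ded_35_2 (flp_d L823704) (flp_f L822728) L828953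
theorem L828961 : sm gj N63545 = N62981 := ded_37_2 (flp_d L822785) (flp_j L822722) L828953
theorem L828963 : sm gi N63545 = N62978 := ded_39_2 (flp_d L822744) (flp_i L822726) L828953
theorem L828965 : sm ge N63545 = N63101 := ded_34_2 L824034 (flp_e L817596) (flp_d L814223) L822714 L828953
theorem L828967 : sm gh N63545 = N63095 := ded_38_2 (flp_d L823974) (flp_h L820832) L820836 (flp_h L822724) L828953
theorem L828969 : sm gc N62977 = N63546 := rfl
theorem L828971 : sm ge N63546 = N63102 := ded_28_2 L824039 (flp_e L822740) L828969
theorem L828973 : sm gf N63546 = N63072 := ded_29_2 (flp_c L823712) (flp_f L822734) L828969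
theorem L828975 : sm gj N63546 = N62982 := ded_31_2 (flp_c L822799) (flp_j L822736) L828969
theorem L828977 : sm gh N63546 = N63097 := ded_32_2 (flp_c L824000) (flp_h L822742) L828969
theorem L828979 : sm gi N63546 = N62979 := ded_33_2 (flp_c L822756) (flp_i L822738) L828969
theorem L828981 : sm gb N63546 = N63546 := ded_19_1 (flp_c L828969) L822732 L814259 (flp_b L822732) L828969
theorem L828982 : sm gd N63546 = N63236 := ded_27_2 (flp_c L825129) (flp_d L817583) (flp_c L814239) L822730 L828969
theorem L828984 : sm gc N62978 = N63547 := rfl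
theorem L828986 : sm ga N63547 = N62979 := ded_11_1 (flp_c L822756) (flp_a L822746) L828984
theorem L828988 : sm gf N63547 = N63100 := ded_29_2 (flp_c L824018) (flp_f L822750) L828984
theorem L828990 : sm gj N63547 = N63242 := ded_31_2 (flp_c L825170) (flp_j L822752) L828984
theorem L828992 : sm gh N63547 = N63248 := ded_32_2 (flp_c L825206) (flp_h L822754) L828984
theorem L828994 : sm gd N63547 = N63237 := ded_27_2 (flp_c L825134) (flp_d L817589) (flp_c L814282) L822744 L828984
theorem L828996 : sm gc N62981 = N63548 := rfl
theorem L828998 : sm ga N63548 = N62982 := ded_11_1 (flp_c L822799) (flp_a L822787) L828996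
theorem L829000 : sm ge N63548 = N63268 := ded_28_2 L825332 (flp_e L822795) L828996
theorem L829002 : sm gf N63548 = N63251 := ded_29_2 (flp_c L825225) (flp_f L822789) L828996
theorem L829004 : sm gg N63548 = N63247 := ded_30_2 (flp_c L825202) (flp_g L822791) L828996
theorem L829006 : sm gh N63548 = N63265 := ded_32_2 (flp_c L825313) (flp_h L822797) L828996
theorem L829008 : sm gi N63548 = N63242 := ded_33_2 (flp_c L825170) (flp_i L822793) L828996
theorem L829010 : sm gd N62983 = N63549 := rfl
theorem L829012 : sm ga N63549 = N62984 := ded_12_1 (flp_d L822826) (flp_a L822814) L829010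
theorem L829014 : sm gb N63549 = N63030 := ded_20_1 (flp_d L823324) (flp_b L822816) L829010
theorem L829016 : sm gf N63549 = N63243 := ded_35_2 (flp_d L825176) (flp_f L822824) L829010
theorem L829018 : sm gj N63549 = N62994 := ded_37_2 (flp_d L822947) (flp_j L822820) L829010
theorem L829020 : sm ge N63549 = N63213 := ded_34_2 (flp_d L824967) (flp_e L817332) (flp_d L814380) L822812 L829010
theorem L829022 : sm gc N62984 = N63550 := rfl
theorem L829024 : sm ge N63550 = N63214 := ded_28_2 (flp_c L824971) (flp_e L822834) L829022
theorem L829026 : sm gf N63550 = N63244 := ded_29_2 (flp_c L825182) (flp_f L822830) L829022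
theorem L829028 : sm gj N63550 = N62995 := ded_31_2 (flp_c L822955) (flp_j L822832) L829022
theorem L829030 : sm gi N63550 = N63269 := ded_33_2 (flp_c L827810) L827818 L829022
theorem L829032 : sm gb N63550 = N63550 := ded_19_1 (flp_c L829022) L822828 L814410 (flp_b L822828) L829022
theorem L829033 : sm gd N63550 = N63239 := ded_27_2 (flp_c L825146) (flp_d L817608) (flp_c L814394) L822826 L829022
theorem L829035 : sm gh N62984 = N63551 := rfl
theorem L829037 : sm gb N63551 = N62985 := ded_25_1 (flp_h L822836) (flp_b L822828) L829035
theorem L829039 : sm ge N63551 = N63139 := ded_43_1 L824363 (flp_e L822834) L829035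
theorem L829041 : sm gf N63551 = N63173 := ded_47_1 L824671 (flp_f L822830) L829035
theorem L829043 : sm gj N63551 = N62996 := ded_52_1 (flp_h L822960) (flp_j L822832) L829035
theorem L829045 : sm gd N63551 = N63004 := ded_38_1 (flp_h L823050) (flp_d L814635) (flp_h L814398) L822826 L829035
theorem L829047 : sm gd N62986 = N63552 := rfl
theorem L829049 : sm ga N63552 = N62987 := ded_12_1 (flp_d L822861) (flp_a L822851) L829047
theorem L829051 : sm gb N63552 = N63054 := ded_20_1 (flp_d L823566) (flp_b L822853) L829047
theorem L829053 : sm gj N63552 = N63213 := ded_37_2 (flp_d L824967) (flp_j L822857) L829047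
theorem L829055 : sm ge N63552 = N62994 := ded_34_2 (flp_d L822947) (flp_e L814513) (flp_d L814417) L822849 L829047
theorem L829057 : sm gf N62986 = N63553 := rfl
theorem L829059 : sm ga N63553 = N62988 := ded_14_1 (flp_f L822869) (flp_a L822851) L829057
theorem L829061 : sm gb N63553 = N63055 := ded_22_1 (flp_f L823572) (flp_b L822853) L829057
theorem L829063 : sm gc N63553 = N63082 := ded_29_1 L823829 (flp_c L822855) L829057
theorem L829065 : sm gj N63553 = N63088 := ded_46_2 L823905 (flp_j L822857) L829057
theorem L829067 : sm gh N63553 = N63081 := ded_47_2 L823815 (flp_h L822859) L829057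
theorem L829069 : sm ge N63553 = N62992 := ded_40_1 (flp_f L822919) (flp_e L814471) (flp_f L814419) L822849 L829057
theorem L829071 : sm gc N62987 = N63554 := rfl
theorem L829073 : sm ge N63554 = N62995 := ded_28_2 (flp_c L822955) (flp_e L822867) L829071
theorem L829075 : sm gj N63554 = N63214 := ded_31_2 (flp_c L824971) (flp_j L822865) L829071
theorem L829077 : sm gb N63554 = N63554 := ded_19_1 (flp_c L829071) L822863 L814443 (flp_b L822863) L829071
theorem L829078 : sm gd N63554 = N63209 := ded_27_2 (flp_c L824940) (flp_d L817272) (flp_c L814431) L822861 L829071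
theorem L829080 : sm gf N62987 = N63555 := rfl
theorem L829082 : sm gb N63555 = N62989 := ded_22_1 (flp_f L822881) (flp_b L822863) L829080
theorem L829084 : sm gd N63555 = N62988 := ded_35_1 (flp_f L822869) L822861 L829080
theorem L829086 : sm gj N63555 = N63090 := ded_46_2 L823923 (flp_j L822865) L829080
theorem L829088 : sm ge N63555 = N63169 := ded_40_1 L824628 L817515 (flp_f L814527) (flp_e L822867) L829080
theorem L829090 : sm gh N63129 = N63555 := ded_25_0 L829082 (flp_h L822892) (flp_b L824286)
theorem L829092 : sm gh N62987 = N63556 := rfl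
theorem L829094 : sm gb N63556 = N62990 := ded_25_1 (flp_h L822894) (flp_b L822863) L829092
theorem L829096 : sm ge N63556 = N62996 := ded_43_1 (flp_h L822960) (flp_e L822867) L829092
theorem L829098 : sm gf N63556 = N63129 := ded_47_1 L829090 (flp_f L829080) L829092
theorem L829100 : sm gj N63556 = N63139 := ded_52_1 L824363 (flp_j L822865) L829092
theorem L829102 : sm gd N63556 = N63130 := ded_38_1 L824298 L816477 (flp_h L814435) L822861 L829092
theorem L829104 : sm gg N62988 = N63557 := rfl
theorem L829106 : sm gb N63557 = N62991 := ded_23_1 (flp_g L822907) (flp_b L822871) L829104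
theorem L829108 : sm gc N63557 = N63079 := ded_30_1 L823797 (flp_c L822873) L829104
theorem L829110 : sm ge N63557 = N62993 := ded_41_1 (flp_g L822933) (flp_e L822879) L829104
theorem L829112 : sm gh N63557 = N63078 := ded_50_2 L823781 (flp_h L822877) L829104
theorem L829114 : sm gj N63557 = N63114 := ded_49_2 L824153 L816132 (flp_g L815788) (flp_j L822875) L829104
theorem L829116 : sm gg N62992 = N63558 := rfl
theorem L829118 : sm ga N63558 = N62993 := ded_15_1 (flp_g L822933) (flp_a L822921) L829116
theorem L829120 : sm gb N63558 = N63060 := ded_23_1 (flp_g L823609) (flp_b L822923) L829116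
theorem L829122 : sm gc N63558 = N63212 := ded_30_1 (flp_g L824961) (flp_c L822925) L829116
theorem L829124 : sm gd N63558 = N63016 := ded_36_1 L823199 (flp_d L822927) L829116
theorem L829126 : sm gh N63558 = N63119 := ded_50_2 L824199 (flp_h L822931) L829116
theorem L829128 : sm gf N63558 = N63015 := ded_45_1 L823189 L814878 (flp_g L814479) L822919 L829116
theorem L829130 : sm gj N63558 = N63121 := ded_49_2 L824219 L816212 (flp_g L816529) (flp_j L822929) L829116
theorem L829132 : sm gc N62994 = N63559 := rfl
theorem L829134 : sm ga N63559 = N62995 := ded_11_1 (flp_c L822955) (flp_a L822949) L829132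
theorem L829136 : sm gf N63559 = N63247 := ded_29_2 (flp_c L825202) (flp_f L822953) L829132
theorem L829138 : sm gh N62994 = N63560 := rfl
theorem L829140 : sm ga N63560 = N62996 := ded_17_1 (flp_h L822960) (flp_a L822949) L829138
theorem L829142 : sm gb N63560 = N63066 := ded_25_1 (flp_h L823659) (flp_b L822951) L829138
theorem L829144 : sm gf N63560 = N63179 := ded_47_1 L824729 (flp_f L822953) L829138
theorem L829146 : sm gd N63560 = N63005 := ded_38_1 (flp_h L823060) (flp_d L814659) (flp_h L814519) L822947 L829138
theorem L829148 : sm gh N62995 = N63561 := rfl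
theorem L829150 : sm gb N63561 = N63561 := ded_25_1 (flp_h L829148) L822959 L829148
theorem L829151 : sm gc N63561 = N62996 := ded_32_1 (flp_h L822960) L822955 L829148
theorem L829153 : sm gf N63561 = N63180 := ded_47_1 L824737 (flp_f L822957) L829148
theorem L829155 : sm gd N62997 = N63562 := rfl
theorem L829157 : sm ga N63562 = N62998 := ded_12_1 (flp_d L822984) (flp_a L822970) L829155
theorem L829159 : sm gb N63562 = N63071 := ded_20_1 (flp_d L823704) (flp_b L822972) L829155
theorem L829161 : sm gf N63562 = N63238 := ded_35_2 (flp_d L825138) (flp_f L822982) L829155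
theorem L829163 : sm gj N63562 = N63245 := ded_37_2 (flp_d L825187) (flp_j L822976) L829155
theorem L829165 : sm gi N63562 = N63008 := ded_39_2 (flp_d L823100) (flp_i L822980) L829155
theorem L829167 : sm ge N63562 = N63126 := ded_34_2 (flp_d L824257) (flp_e L816244) (flp_d L814542) L822968 L829155
theorem L829169 : sm gh N63562 = N63249 := ded_38_2 (flp_d L825210) (flp_h L820285) L820289 (flp_h L822978) L829155
theorem L829171 : sm gc N62998 = N63563 := rfl
theorem L829173 : sm ge N63563 = N63127 := ded_28_2 (flp_c L824265) (flp_e L822994) L829171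
theorem L829175 : sm gf N63563 = N63239 := ded_29_2 (flp_c L825146) (flp_f L822988) L829171
theorem L829177 : sm gj N63563 = N63246 := ded_31_2 (flp_c L825195) (flp_j L822990) L829171
theorem L829179 : sm gh N63563 = N63250 := ded_32_2 (flp_c L825218) (flp_h L822996) L829171
theorem L829181 : sm gi N63563 = N63009 := ded_33_2 (flp_c L823112) (flp_i L822992) L829171
theorem L829183 : sm gb N63563 = N63563 := ded_19_1 (flp_c L829171) L822986 L814578 (flp_b L822986) L829171
theorem L829184 : sm gd N63563 = N63244 := ded_27_2 (flp_c L825182) (flp_d L817661) (flp_c L814558) L822984 L829171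
theorem L829186 : sm gd N62999 = N63564 := rfl
theorem L829188 : sm ga N63564 = N63000 := ded_12_1 (flp_d L823008) (flp_a L823000) L829186
theorem L829190 : sm gb N63564 = N63076 := ded_20_1 (flp_d L823761) (flp_b L823002) L829186
theorem L829192 : sm gg N63564 = N63003 := ded_36_2 (flp_d L823036) (flp_g L823004) L829186
theorem L829194 : sm gi N63564 = N63015 := ded_39_2 (flp_d L823183) (flp_i L823006) L829186
theorem L829196 : sm ge N63564 = N63176 := ded_34_2 L824701 L817918 (flp_d L814585) L822998 L829186
theorem L829198 : sm gf N62999 = N63565 := rfl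
theorem L829200 : sm ga N63565 = N63001 := ded_14_1 (flp_f L823018) (flp_a L823000) L829198
theorem L829202 : sm gb N63565 = N63077 := ded_22_1 (flp_f L823771) (flp_b L823002) L829198
theorem L829204 : sm gi N63565 = N63016 := ded_48_2 (flp_f L823191) (flp_i L823006) L829198
theorem L829206 : sm gg N63565 = N63232 := ded_45_2 (flp_f L825104) L817531 (flp_f L814633) (flp_g L823004) L829198
theorem L829208 : sm gh N63000 = N63566 := rfl
theorem L829210 : sm gb N63566 = N63002 := ded_25_1 (flp_h L823026) (flp_b L823010) L829208
theorem L829212 : sm ge N63566 = N63175 := ded_43_1 L824691 (flp_e L823016) L829208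
theorem L829214 : sm gg N63566 = N63004 := ded_50_1 (flp_h L823050) (flp_g L823012) L829208
theorem L829216 : sm gh N63003 = N63567 := rfl
theorem L829218 : sm ga N63567 = N63004 := ded_17_1 (flp_h L823050) (flp_a L823038) L829216
theorem L829220 : sm gb N63567 = N63082 := ded_25_1 (flp_h L823823) (flp_b L823040) L829216
theorem L829222 : sm ge N63567 = N63174 := ded_43_1 L824683 (flp_e L823048) L829216
theorem L829224 : sm gf N63567 = N63172 := ded_47_1 L824661 (flp_f L823042) L829216
theorem L829226 : sm gj N63567 = N63005 := ded_52_1 (flp_h L823060) (flp_j L823044) L829216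
theorem L829228 : sm gd N63006 = N63568 := rfl
theorem L829230 : sm ga N63568 = N63007 := ded_12_1 (flp_d L823086) (flp_a L823072) L829228
theorem L829232 : sm gb N63568 = N63095 := ded_20_1 (flp_d L823974) (flp_b L823074) L829228
theorem L829234 : sm gf N63568 = N63249 := ded_35_2 (flp_d L825210) (flp_f L823084) L829228
theorem L829236 : sm gj N63568 = N63215 := ded_37_2 (flp_d L824976) (flp_j L823078) L829228
theorem L829238 : sm gi N63568 = N63126 := ded_39_2 (flp_d L824257) (flp_i L823082) L829228
theorem L829240 : sm ge N63568 = N63008 := ded_34_2 (flp_d L823100) (flp_e L814733) (flp_d L814692) L823070 L829228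
theorem L829242 : sm gh N63568 = N63238 := ded_38_2 (flp_d L825138) (flp_h L819447) L819451 (flp_h L823080) L829228
theorem L829244 : sm gc N63007 = N63569 := rfl
theorem L829246 : sm ge N63569 = N63009 := ded_28_2 (flp_c L823112) (flp_e L823096) L829244
theorem L829248 : sm gf N63569 = N63250 := ded_29_2 (flp_c L825218) (flp_f L823090) L829244
theorem L829250 : sm gj N63569 = N63216 := ded_31_2 (flp_c L824986) (flp_j L823092) L829244
theorem L829252 : sm gh N63569 = N63239 := ded_32_2 (flp_c L825146) (flp_h L823098) L829244
theorem L829254 : sm gi N63569 = N63127 := ded_33_2 (flp_c L824265) (flp_i L823094) L829244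
theorem L829256 : sm gb N63569 = N63569 := ded_19_1 (flp_c L829244) L823088 L814728 (flp_b L823088) L829244
theorem L829257 : sm gd N63569 = N63141 := ded_27_2 (flp_c L824371) (flp_d L816369) (flp_c L814708) L823086 L829244
theorem L829259 : sm gc N63008 = N63570 := rfl
theorem L829261 : sm ga N63570 = N63009 := ded_11_1 (flp_c L823112) (flp_a L823102) L829259
theorem L829263 : sm gf N63570 = N63268 := ded_29_2 L825332 (flp_f L823106) L829259
theorem L829265 : sm gj N63570 = N63248 := ded_31_2 (flp_c L825206) (flp_j L823108) L829259
theorem L829267 : sm gh N63570 = N63242 := ded_32_2 (flp_c L825170) (flp_h L823110) L829259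
theorem L829269 : sm gd N63010 = N63571 := rfl
theorem L829271 : sm ga N63571 = N63011 := ded_12_1 (flp_d L823137) (flp_a L823123) L829269
theorem L829273 : sm gb N63571 = N63105 := ded_20_1 (flp_d L824065) (flp_b L823125) L829269
theorem L829275 : sm gf N63571 = N63182 := ded_35_2 (flp_d L824752) (flp_f L823135) L829269
theorem L829277 : sm gj N63571 = N63020 := ded_37_2 (flp_d L823238) (flp_j L823129) L829269
theorem L829279 : sm gi N63571 = N63252 := ded_39_2 (flp_d L825231) (flp_i L823133) L829269
theorem L829281 : sm gc N63011 = N63572 := rfl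
theorem L829283 : sm gf N63572 = N63183 := ded_29_2 (flp_c L824760) (flp_f L823141) L829281
theorem L829285 : sm gj N63572 = N63021 := ded_31_2 (flp_c L823246) (flp_j L823143) L829281
theorem L829287 : sm gi N63572 = N63253 := ded_33_2 (flp_c L825235) (flp_i L823145) L829281
theorem L829289 : sm gb N63572 = N63572 := ded_19_1 (flp_c L829281) L823139 L814789 (flp_b L823139) L829281
theorem L829290 : sm gd N63572 = N63263 := ded_27_2 (flp_c L825304) (flp_d L817846) (flp_c L814769) L823137 L829281
theorem L829292 : sm gd N63012 = N63573 := rfl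
theorem L829294 : sm ga N63573 = N63013 := ded_12_1 (flp_d L823159) (flp_a L823149) L829292
theorem L829296 : sm gb N63573 = N63111 := ded_20_1 (flp_d L824117) (flp_b L823151) L829292
theorem L829298 : sm gg N63573 = N63014 := ded_36_2 (flp_d L823169) (flp_g L823155) L829292
theorem L829300 : sm gi N63573 = N63176 := ded_39_2 L824701 (flp_i L823157) L829292
theorem L829302 : sm ge N63573 = N63015 := ded_34_2 (flp_d L823183) (flp_e L814850) (flp_d L814794) L823147 L829292
theorem L829304 : sm gd N63017 = N63574 := rfl
theorem L829306 : sm ga N63574 = N63018 := ded_12_1 (flp_d L823217) (flp_a L823203) L829304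
theorem L829308 : sm gb N63574 = N63140 := ded_20_1 (flp_d L824365) (flp_b L823205) L829304
theorem L829310 : sm gf N63574 = N63262 := ded_35_2 (flp_d L825298) (flp_f L823215) L829304
theorem L829312 : sm gj N63574 = N63252 := ded_37_2 (flp_d L825231) (flp_j L823209) L829304
theorem L829314 : sm gi N63574 = N63020 := ded_39_2 (flp_d L823238) (flp_i L823213) L829304
theorem L829316 : sm gc N63018 = N63575 := rfl
theorem L829318 : sm gf N63575 = N63263 := ded_29_2 (flp_c L825304) (flp_f L823221) L829316
theorem L829320 : sm gj N63575 = N63253 := ded_31_2 (flp_c L825235) (flp_j L823223) L829316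
theorem L829322 : sm gi N63575 = N63021 := ded_33_2 (flp_c L823246) (flp_i L823225) L829316
theorem L829324 : sm gb N63575 = N63575 := ded_19_1 (flp_c L829316) L823219 L814936 (flp_b L823219) L829316
theorem L829325 : sm gd N63575 = N63183 := ded_27_2 (flp_c L824760) (flp_d L817009) (flp_c L814916) L823217 L829316
theorem L829327 : sm gh N63018 = N63576 := rfl
theorem L829329 : sm gb N63576 = N63019 := ded_25_1 (flp_h L823227) (flp_b L823219) L829327
theorem L829331 : sm gf N63576 = N63040 := ded_47_1 L823432 (flp_f L823221) L829327
theorem L829333 : sm gj N63576 = N63254 := ded_52_1 (flp_h L825240) (flp_j L823223) L829327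
theorem L829335 : sm gd N63576 = N63041 := ded_38_1 L823442 (flp_d L816989) (flp_h L814920) L823217 L829327
theorem L829337 : sm gc N63020 = N63577 := rfl
theorem L829339 : sm ga N63577 = N63021 := ded_11_1 (flp_c L823246) (flp_a L823240) L829337
theorem L829341 : sm gf N63577 = N63264 := ded_29_2 (flp_c L825309) (flp_f L823244) L829337
theorem L829343 : sm gh N63020 = N63578 := rfl
theorem L829345 : sm ga N63578 = N63022 := ded_17_1 (flp_h L823251) (flp_a L823240) L829343
theorem L829347 : sm gb N63578 = N63146 := ded_25_1 (flp_h L824403) (flp_b L823242) L829343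
theorem L829349 : sm gf N63578 = N63163 := ded_47_1 L824578 (flp_f L823244) L829343
theorem L829351 : sm gd N63578 = N63023 := ded_38_1 (flp_h L823259) (flp_d L814962) (flp_h L814943) L823238 L829343
theorem L829353 : sm gh N63021 = N63579 := rfl
theorem L829355 : sm gb N63579 = N63579 := ded_25_1 (flp_h L829353) L823250 L829353
theorem L829356 : sm gc N63579 = N63022 := ded_32_1 (flp_h L823251) L823246 L829353
theorem L829358 : sm gf N63579 = N63164 := ded_47_1 L824582 (flp_f L823248) L829353
theorem L829360 : sm gd N63025 = N63580 := rfl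
theorem L829362 : sm ga N63580 = N63026 := ded_12_1 (flp_d L823289) (flp_a L823277) L829360
theorem L829364 : sm gb N63580 = N63213 := ded_20_1 (flp_d L824967) (flp_b L823279) L829360
theorem L829366 : sm gg N63580 = N63252 := ded_36_2 (flp_d L825231) (flp_g L823283) L829360
theorem L829368 : sm gj N63580 = N63054 := ded_37_2 (flp_d L823566) (flp_j L823285) L829360
theorem L829370 : sm ge N63580 = N63030 := ded_34_2 (flp_d L823324) (flp_e L815070) (flp_d L815010) L823275 L829360
theorem L829372 : sm gc N63026 = N63581 := rfl
theorem L829374 : sm ge N63581 = N63031 := ded_28_2 (flp_c L823330) (flp_e L823297) L829372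
theorem L829376 : sm gg N63581 = N63253 := ded_30_2 (flp_c L825235) (flp_g L823293) L829372
theorem L829378 : sm gj N63581 = N63056 := ded_31_2 (flp_c L823578) (flp_j L823295) L829372
theorem L829380 : sm gb N63581 = N63581 := ded_19_1 (flp_c L829372) L823291 L815042 (flp_b L823291) L829372
theorem L829381 : sm gd N63581 = N63261 := ded_27_2 (flp_c L825293) (flp_d L817832) (flp_c L815026) L823289 L829372
theorem L829383 : sm gd N63027 = N63582 := rfl
theorem L829385 : sm ga N63582 = N63028 := ded_12_1 (flp_d L823307) (flp_a L823301) L829383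
theorem L829387 : sm gg N63582 = N63030 := ded_36_2 (flp_d L823324) (flp_g L823303) L829383
theorem L829389 : sm ge N63582 = N63252 := ded_34_2 (flp_d L825231) (flp_e L817758) (flp_d L815047) L823299 L829383
theorem L829391 : sm gc N63028 = N63583 := rfl
theorem L829393 : sm ge N63583 = N63253 := ded_28_2 (flp_c L825235) (flp_e L823313) L829391
theorem L829395 : sm gg N63583 = N63031 := ded_30_2 (flp_c L823330) (flp_g L823311) L829391
theorem L829397 : sm gb N63583 = N63583 := ded_19_1 (flp_c L829391) L823309 L815067 (flp_b L823309) L829391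
theorem L829398 : sm gh N63028 = N63584 := rfl
theorem L829400 : sm gb N63584 = N63029 := ded_25_1 (flp_h L823315) (flp_b L823309) L829398
theorem L829402 : sm ge N63584 = N63254 := ded_43_1 (flp_h L825240) (flp_e L823313) L829398
theorem L829404 : sm gg N63584 = N63032 := ded_50_1 (flp_h L823335) (flp_g L823311) L829398
theorem L829406 : sm gd N63584 = N63079 := ded_38_1 (flp_h L823791) (flp_d L815596) (flp_h L815061) L823307 L829398
theorem L829408 : sm gc N63030 = N63585 := rfl
theorem L829410 : sm ga N63585 = N63031 := ded_11_1 (flp_c L823330) (flp_a L823326) L829408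
theorem L829412 : sm gj N63585 = N63065 := ded_31_2 (flp_c L823655) (flp_j L823328) L829408
theorem L829414 : sm gh N63030 = N63586 := rfl
theorem L829416 : sm ga N63586 = N63032 := ded_17_1 (flp_h L823335) (flp_a L823326) L829414
theorem L829418 : sm gf N63586 = N63208 := ded_47_1 (flp_h L828932) L828926 L829414
theorem L829420 : sm gj N63586 = N63066 := ded_52_1 (flp_h L823659) (flp_j L823328) L829414
theorem L829422 : sm gd N63586 = N63082 := ded_38_1 (flp_h L823823) (flp_d L815620) (flp_h L815076) L823324 L829414
theorem L829424 : sm gh N63031 = N63587 := rfl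
theorem L829426 : sm gb N63587 = N63587 := ded_25_1 (flp_h L829424) L823334 L829424
theorem L829427 : sm gc N63587 = N63032 := ded_32_1 (flp_h L823335) L823330 L829424
theorem L829429 : sm gf N63587 = N63209 := ded_47_1 (flp_h L828942) L828938 L829424
theorem L829431 : sm gj N63587 = N63067 := ded_52_1 (flp_h L823667) (flp_j L823332) L829424
theorem L829433 : sm gi N63032 = N63588 := rfl
theorem L829435 : sm gb N63588 = N63033 := ded_26_1 (flp_i L823345) (flp_b L823337) L829433
theorem L829437 : sm gd N63588 = N63083 := ded_39_1 (flp_i L823833) (flp_d L823343) L829433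
theorem L829439 : sm gf N63588 = N63207 := ded_48_1 L824928 (flp_f L823339) L829433
theorem L829441 : sm gj N63588 = N63068 := ded_53_1 (flp_i L823674) (flp_j L823341) L829433
theorem L829443 : sm gd N63034 = N63589 := rfl
theorem L829445 : sm ga N63589 = N63035 := ded_12_1 (flp_d L823368) (flp_a L823356) L829443
theorem L829447 : sm gb N63589 = N63042 := ded_20_1 (flp_d L823446) (flp_b L823358) L829443
theorem L829449 : sm gg N63589 = N63171 := ded_36_2 L824649 (flp_g L823362) L829443
theorem L829451 : sm gj N63589 = N63177 := ded_37_2 (flp_d L824703) (flp_j L823364) L829443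
theorem L829453 : sm gc N63589 = N63176 := ded_27_1 L824701 L817916 (flp_d L816861) (flp_c L823360) L829443
theorem L829455 : sm gf N63034 = N63590 := rfl
theorem L829457 : sm ga N63590 = N63036 := ded_14_1 (flp_f L823378) (flp_a L823356) L829455
theorem L829459 : sm gb N63590 = N63043 := ded_22_1 (flp_f L823452) (flp_b L823358) L829455
theorem L829461 : sm gc N63590 = N63174 := ded_29_1 (flp_f L824673) (flp_c L823360) L829455
theorem L829463 : sm gj N63590 = N63178 := ded_46_2 (flp_f L824709) (flp_j L823364) L829455
theorem L829465 : sm gh N63590 = N63171 := ded_47_2 (flp_f L824641) (flp_h L823366) L829455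
theorem L829467 : sm gf N63035 = N63591 := rfl
theorem L829469 : sm gb N63591 = N63037 := ded_22_1 (flp_f L823388) (flp_b L823370) L829467
theorem L829471 : sm gc N63591 = N63160 := ded_29_1 L824539 (flp_c L823376) L829467
theorem L829473 : sm gd N63591 = N63036 := ded_35_1 (flp_f L823378) L823368 L829467
theorem L829475 : sm gj N63591 = N63175 := ded_46_2 L824693 (flp_j L823374) L829467
theorem L829477 : sm gg N63591 = N63159 := ded_45_2 L824531 L816747 L816808 (flp_g L823372) L829467
theorem L829479 : sm gh N63158 = N63591 := ded_25_0 L829469 (flp_h L823400) L824515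
theorem L829481 : sm gh N63035 = N63592 := rfl
theorem L829483 : sm gb N63592 = N63038 := ded_25_1 (flp_h L823402) (flp_b L823370) L829481
theorem L829485 : sm gc N63592 = N63175 := ded_32_1 L824691 (flp_c L823376) L829481
theorem L829487 : sm gf N63592 = N63158 := ded_47_1 L829479 (flp_f L829467) L829481
theorem L829489 : sm gg N63592 = N63036 := ded_50_1 L823386 (flp_g L823372) L829481
theorem L829491 : sm gj N63592 = N63160 := ded_52_1 L824543 (flp_j L823374) L829481
theorem L829493 : sm gd N63592 = N63159 := ded_38_1 (flp_h L824525) L816601 (flp_h L815115) L823368 L829481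
theorem L829495 : sm gd N63039 = N63593 := rfl
theorem L829497 : sm ga N63593 = N63040 := ded_12_1 (flp_d L823426) (flp_a L823418) L829495
theorem L829499 : sm gj N63593 = N63260 := ded_37_2 (flp_d L825287) (flp_j L823422) L829495
theorem L829501 : sm gh N63593 = N63262 := ded_38_2 (flp_d L825298) L817842 (flp_d L817867) (flp_h L823424) L829495
theorem L829503 : sm gf N63039 = N63594 := rfl
theorem L829505 : sm ga N63594 = N63041 := ded_14_1 (flp_f L823434) (flp_a L823418) L829503
theorem L829507 : sm gc N63594 = N63055 := ded_29_1 (flp_f L823572) (flp_c L823420) L829503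
theorem L829509 : sm gj N63594 = N63256 := ded_46_2 L825259 (flp_j L823422) L829503
theorem L829511 : sm gh N63594 = N63181 := ded_47_2 L824744 (flp_h L823424) L829503
theorem L829513 : sm ge N63594 = N63043 := ded_40_1 (flp_f L823452) (flp_e L815220) (flp_f L815187) L823416 L829503
theorem L829515 : sm gc N63040 = N63595 := rfl
theorem L829517 : sm gj N63595 = N63261 := ded_31_2 (flp_c L825293) (flp_j L823430) L829515
theorem L829519 : sm gh N63595 = N63263 := ded_32_2 (flp_c L825304) (flp_h L823432) L829515
theorem L829521 : sm gb N63595 = N63595 := ded_19_1 (flp_c L829515) L823428 L815207 (flp_b L823428) L829515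
theorem L829522 : sm gd N63595 = N63056 := ded_27_2 (flp_c L823578) (flp_d L815369) (flp_c L815197) L823426 L829515
theorem L829524 : sm gf N63042 = N63596 := rfl
theorem L829526 : sm ga N63596 = N63044 := ded_14_1 (flp_f L823460) (flp_a L823448) L829524
theorem L829528 : sm gc N63596 = N63121 := ded_29_1 L826182 L826178 L829524
theorem L829530 : sm gd N63596 = N63043 := ded_35_1 (flp_f L823452) L823446 L829524
theorem L829532 : sm gj N63596 = N63212 := ded_46_2 (flp_f L826164) L826166 L829524
theorem L829534 : sm gg N63596 = N63124 := ded_45_2 L824245 (flp_g L820808) L820806 (flp_g L823450) L829524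
theorem L829536 : sm gh N63120 = N63596 := ded_56_0 (flp_f L829524) (flp_e L826985) (flp_d L826977) L819992 L810604 L807210 (flp_h L806853) (flp_f L816507) L816505 (flp_d L814109) (flp_c L822565) L822563 (flp_a L818618) L818626 (flp_f L813893) (flp_e L802796) L790426 (flp_c L781011) (flp_b L779461) L779459 (flp_h L775983) L775975 L769119 (flp_d L757465) (flp_c L751571) L751569 L736296 (flp_h L731937) L713630 L692943 L671304 L387777 L266419 L183384 L646950 L266566 L647346 L129669 (flp_c L647353) (flp_b L129534) (flp_a L187612) L272717 L646679 (flp_e L266677) (flp_d L380365) (flp_c L667447) (flp_b L688937) L688935 L688943 (flp_f L709919) (flp_e L728785) L745442 L759076 (flp_b L769849) (flp_a L769838) (flp_h L769707) L769702 L781296 L793706 L805988 (flp_b L816182) (flp_a L824207)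
theorem L829538 : sm gh N63042 = N63597 := rfl
theorem L829540 : sm ga N63597 = N63045 := ded_17_1 (flp_h L823474) (flp_a L823448) L829538
theorem L829542 : sm gc N63597 = N63060 := ded_32_1 (flp_h L826180) L826178 L829538
theorem L829544 : sm gf N63597 = N63120 := ded_47_1 L829536 (flp_f L829524) L829538
theorem L829546 : sm gg N63597 = N63043 := ded_50_1 L823458 (flp_g L823450) L829538
theorem L829548 : sm gj N63597 = N63156 := ded_52_1 (flp_h L826162) L826166 L829538
theorem L829550 : sm gd N63597 = N63124 := ded_38_1 (flp_h L824239) (flp_d L820818) L820812 L823446 L829538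
theorem L829552 : sm ge N63044 = N63598 := rfl
theorem L829554 : sm gb N63598 = N63046 := ded_21_1 (flp_e L823488) (flp_b L823462) L829552
theorem L829556 : sm gc N63598 = N63114 := ded_28_1 L824151 (flp_c L823464) L829552
theorem L829558 : sm gg N63598 = N63085 := ded_41_2 L823865 (flp_g L823470) L829552
theorem L829560 : sm gj N63598 = N63079 := ded_42_2 L823795 (flp_j L823468) L829552
theorem L829562 : sm gh N63598 = N63075 := ded_43_2 L823759 L823472 L829552
theorem L829564 : sm gd N63048 = N63599 := rfl
theorem L829566 : sm ga N63599 = N63049 := ded_12_1 (flp_d L823520) (flp_a L823514) L829564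
theorem L829568 : sm gg N63599 = N63054 := ded_36_2 (flp_d L823566) (flp_g L823516) L829564
theorem L829570 : sm gi N63599 = N63199 := ded_39_2 (flp_d L824876) (flp_i L823518) L829564
theorem L829572 : sm ge N63599 = N63061 := ded_34_2 (flp_d L823617) (flp_e L815417) (flp_d L815323) L823512 L829564
theorem L829574 : sm gf N63048 = N63600 := rfl
theorem L829576 : sm ga N63600 = N63050 := ded_14_1 (flp_f L823530) (flp_a L823514) L829574
theorem L829578 : sm gi N63600 = N63200 := ded_48_2 (flp_f L824882) (flp_i L823518) L829574
theorem L829580 : sm ge N63600 = N63187 := ded_40_1 (flp_f L824791) (flp_e L817048) (flp_f L815325) L823512 L829574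
theorem L829582 : sm gc N63049 = N63601 := rfl
theorem L829584 : sm ge N63601 = N63062 := ded_28_2 (flp_c L823625) (flp_e L823528) L829582
theorem L829586 : sm gg N63601 = N63056 := ded_30_2 (flp_c L823578) (flp_g L823524) L829582
theorem L829588 : sm gi N63601 = N63201 := ded_33_2 (flp_c L824888) (flp_i L823526) L829582
theorem L829590 : sm gb N63601 = N63601 := ded_19_1 (flp_c L829582) L823522 L815345 (flp_b L823522) L829582
theorem L829591 : sm gf N63049 = N63602 := rfl
theorem L829593 : sm gb N63602 = N63051 := ded_22_1 (flp_f L823538) (flp_b L823522) L829591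
theorem L829595 : sm gd N63602 = N63050 := ded_35_1 (flp_f L823530) L823520 L829591
theorem L829597 : sm gi N63602 = N63058 := ded_48_2 L823599 (flp_i L823526) L829591
theorem L829599 : sm ge N63602 = N63068 := ded_40_1 L823680 (flp_e L819519) L819511 (flp_e L823528) L829591
theorem L829601 : sm gh N63049 = N63603 := rfl
theorem L829603 : sm gb N63603 = N63052 := ded_25_1 (flp_h L823547) (flp_b L823522) L829601
theorem L829605 : sm ge N63603 = N63063 := ded_43_1 (flp_h L823634) (flp_e L823528) L829601
theorem L829607 : sm gg N63603 = N63058 := ded_50_1 (flp_h L823593) (flp_g L823524) L829601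
theorem L829609 : sm gd N63603 = N63157 := ded_38_1 (flp_h L826146) L826142 L819646 L823520 L829601
theorem L829611 : sm gg N63050 = N63604 := rfl
theorem L829613 : sm gb N63604 = N63053 := ded_23_1 (flp_g L823556) (flp_b L823532) L829611
theorem L829615 : sm ge N63604 = N63113 := ded_41_1 L824145 (flp_e L823536) L829611
theorem L829617 : sm gi N63604 = N63157 := ded_51_2 L824513 (flp_i L823534) L829611
theorem L829619 : sm gf N63604 = N63059 := ded_45_1 (flp_g L823603) (flp_f L815375) (flp_g L815335) L823530 L829611
theorem L829621 : sm gc N63054 = N63605 := rfl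
theorem L829623 : sm ga N63605 = N63056 := ded_11_1 (flp_c L823578) (flp_a L823568) L829621
theorem L829625 : sm ge N63605 = N63065 := ded_28_2 (flp_c L823655) (flp_e L823570) L829621
theorem L829627 : sm gf N63054 = N63606 := rfl
theorem L829629 : sm ga N63606 = N63057 := ded_14_1 (flp_f L823583) (flp_a L823568) L829627
theorem L829631 : sm gd N63606 = N63055 := ded_35_1 (flp_f L823572) L823566 L829627
theorem L829633 : sm ge N63606 = N63203 := ded_40_1 L828530 L828526 L822703 (flp_e L823570) L829627
theorem L829635 : sm gh N63199 = N63606 := ded_17_0 L829629 (flp_h L823591) (flp_a L824878)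
theorem L829637 : sm gh N63054 = N63607 := rfl
theorem L829639 : sm ga N63607 = N63058 := ded_17_1 (flp_h L823593) (flp_a L823568) L829637
theorem L829641 : sm ge N63607 = N63066 := ded_43_1 (flp_h L823659) (flp_e L823570) L829637
theorem L829643 : sm gf N63607 = N63199 := ded_47_1 L829635 (flp_f L829627) L829637
theorem L829645 : sm gd N63607 = N63200 := ded_38_1 (flp_h L826130) L826126 L823508 L823566 L829637
theorem L829647 : sm gg N63055 = N63608 := rfl
theorem L829649 : sm ga N63608 = N63059 := ded_15_1 (flp_g L823603) (flp_a L823574) L829647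
theorem L829651 : sm ge N63608 = N63060 := ded_41_1 (flp_g L823609) (flp_e L823576) L829647
theorem L829653 : sm gf N63056 = N63609 := rfl
theorem L829655 : sm gb N63609 = N63609 := ded_22_1 (flp_f L829653) L823582 L829653
theorem L829656 : sm gc N63609 = N63057 := ded_29_1 (flp_f L823583) L823578 L829653
theorem L829658 : sm ge N63609 = N63204 := ded_40_1 (flp_f L828554) L828552 L822709 (flp_e L823580) L829653
theorem L829660 : sm gh N63201 = N63609 := ded_32_0 L829656 (flp_h L823591) L824888
theorem L829662 : sm gh N63056 = N63610 := rfl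
theorem L829664 : sm gb N63610 = N63610 := ded_25_1 (flp_h L829662) L823582 L829662
theorem L829665 : sm gc N63610 = N63058 := ded_32_1 (flp_h L823593) L823578 L829662
theorem L829667 : sm ge N63610 = N63067 := ded_43_1 (flp_h L823667) (flp_e L823580) L829662
theorem L829669 : sm gf N63610 = N63201 := ded_47_1 L829660 (flp_f L829653) L829662
theorem L829671 : sm gc N63061 = N63611 := rfl
theorem L829673 : sm ga N63611 = N63062 := ded_11_1 (flp_c L823625) (flp_a L823619) L829671
theorem L829675 : sm gg N63611 = N63065 := ded_30_2 (flp_c L823655) (flp_g L823621) L829671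
theorem L829677 : sm gi N63611 = N63202 := ded_33_2 (flp_c L824893) (flp_i L823623) L829671
theorem L829679 : sm gd N63611 = N63251 := ded_27_2 (flp_c L825225) (flp_d L817743) (flp_c L815421) L823617 L829671
theorem L829681 : sm gh N63061 = N63612 := rfl
theorem L829683 : sm ga N63612 = N63063 := ded_17_1 (flp_h L823634) (flp_a L823619) L829681
theorem L829685 : sm gf N63612 = N63194 := ded_47_1 (flp_h L826555) L826545 L829681
theorem L829687 : sm gg N63612 = N63066 := ded_50_1 (flp_h L823659) (flp_g L823621) L829681
theorem L829689 : sm gd N63612 = N63086 := ded_38_1 (flp_h L823871) (flp_d L815718) (flp_h L815425) L823617 L829681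
theorem L829691 : sm gh N63062 = N63613 := rfl
theorem L829693 : sm gb N63613 = N63613 := ded_25_1 (flp_h L829691) L823631 L829691
theorem L829694 : sm gc N63613 = N63063 := ded_32_1 (flp_h L823634) L823625 L829691
theorem L829696 : sm gf N63613 = N63195 := ded_47_1 (flp_h L826567) L826561 L829691
theorem L829698 : sm gg N63613 = N63067 := ded_50_1 (flp_h L823667) (flp_g L823627) L829691
theorem L829700 : sm gd N63613 = N63148 := ded_38_1 (flp_h L824420) (flp_d L824272) L824269 (flp_d L823632) L829691
theorem L829702 : sm gi N63063 = N63614 := rfl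
theorem L829704 : sm gb N63614 = N63064 := ded_26_1 (flp_i L823644) (flp_b L823636) L829702
theorem L829706 : sm gd N63614 = N63087 := ded_39_1 (flp_i L823883) (flp_d L823642) L829702
theorem L829708 : sm gf N63614 = N63094 := ded_48_1 L823970 (flp_f L823638) L829702
theorem L829710 : sm gg N63614 = N63068 := ded_51_1 (flp_i L823674) (flp_g L823640) L829702
theorem L829712 : sm gh N63614 = N63205 := ded_54_1 (flp_i L824908) (flp_h L817216) (flp_i L815435) L823634 L829702
theorem L829714 : sm gb N63065 = N63615 := rfl
theorem L829716 : sm ga N63615 = N63615 := ded_10_1 (flp_b L829714) L823657 L815452 (flp_a L823657) L829714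
theorem L829717 : sm gh N63065 = N63616 := rfl
theorem L829719 : sm ga N63616 = N63067 := ded_17_1 (flp_h L823667) (flp_a L823657) L829717
theorem L829721 : sm gc N63616 = N63066 := ded_32_1 (flp_h L823659) L823655 L829717
theorem L829723 : sm gf N63616 = N63219 := ded_47_1 (flp_h L828951) L828949 L829717
theorem L829725 : sm gi N63066 = N63617 := rfl
theorem L829727 : sm ga N63617 = N63068 := ded_18_1 (flp_i L823674) (flp_a L823661) L829725
theorem L829729 : sm gd N63617 = N63089 := ded_39_1 (flp_i L823909) (flp_d L823665) L829725
theorem L829731 : sm gf N63617 = N63217 := ded_48_1 L824997 (flp_f L823663) L829725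
theorem L829733 : sm gd N63067 = N63618 := rfl
theorem L829735 : sm gb N63618 = N63618 := ded_20_1 (flp_d L829733) L823669 L829733
theorem L829736 : sm gf N63618 = N63214 := ded_35_2 L824974 (flp_f L823672) L829733
theorem L829738 : sm gg N63618 = N63148 := ded_36_2 (flp_d L829700) L829698 L829733
theorem L829740 : sm gc N63618 = N63090 := ded_27_1 (flp_d L823919) L815782 (flp_d L815459) (flp_c L823670) L829733
theorem L829742 : sm gh N63618 = N63138 := ded_38_2 L827174 (flp_h L827167) L820156 L823667 L829733
theorem L829744 : sm gi N63067 = N63619 := rfl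
theorem L829746 : sm gb N63619 = N63619 := ded_26_1 (flp_i L829744) L823669 L829744
theorem L829747 : sm gc N63619 = N63068 := ded_33_1 (flp_i L823674) (flp_c L823670) L829744
theorem L829749 : sm gf N63619 = N63218 := ded_48_1 L825001 (flp_f L823672) L829744
theorem L829751 : sm gd N63069 = N63620 := rfl
theorem L829753 : sm ga N63620 = N63070 := ded_12_1 (flp_d L823692) (flp_a L823684) L829751
theorem L829755 : sm gg N63620 = N63071 := ded_36_2 (flp_d L823704) (flp_g L823686) L829751
theorem L829757 : sm gi N63620 = N63098 := ded_39_2 (flp_d L824007) (flp_i L823690) L829751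
theorem L829759 : sm ge N63620 = N63194 := ded_34_2 (flp_d L824852) (flp_e L817152) (flp_d L815470) L823682 L829751
theorem L829761 : sm gh N63620 = N63217 := ded_38_2 (flp_d L824993) (flp_h L822783) L822773 (flp_h L823688) L829751
theorem L829763 : sm gc N63070 = N63621 := rfl
theorem L829765 : sm ge N63621 = N63195 := ded_28_2 (flp_c L824856) (flp_e L823700) L829763
theorem L829767 : sm gg N63621 = N63072 := ded_30_2 (flp_c L823712) (flp_g L823696) L829763
theorem L829769 : sm gh N63621 = N63218 := ded_32_2 (flp_c L824999) (flp_h L823702) L829763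
theorem L829771 : sm gi N63621 = N63099 := ded_33_2 (flp_c L824013) (flp_i L823698) L829763
theorem L829773 : sm gb N63621 = N63621 := ded_19_1 (flp_c L829763) L823694 L815496 (flp_b L823694) L829763
theorem L829774 : sm gc N63071 = N63622 := rfl
theorem L829776 : sm ga N63622 = N63072 := ded_11_1 (flp_c L823712) (flp_a L823706) L829774
theorem L829778 : sm gj N63622 = N63251 := ded_31_2 (flp_c L825225) (flp_j L823708) L829774
theorem L829780 : sm gi N63622 = N63100 := ded_33_2 (flp_c L824018) (flp_i L823710) L829774
theorem L829782 : sm gh N63071 = N63623 := rfl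
theorem L829784 : sm ga N63623 = N63073 := ded_17_1 (flp_h L823719) (flp_a L823706) L829782
theorem L829786 : sm gb N63623 = N63249 := ded_25_1 (flp_h L829169) L829159 L829782
theorem L829788 : sm ge N63623 = N63245 := ded_43_1 (flp_h L827375) L827373 L829782
theorem L829790 : sm gf N63623 = N63095 := ded_47_1 (flp_h L828967) L828959 L829782
theorem L829792 : sm gg N63623 = N63217 := ded_50_1 (flp_h L829761) L829755 L829782
theorem L829794 : sm gj N63623 = N63126 := ded_52_1 L824263 (flp_j L823708) L829782
theorem L829796 : sm gd N63623 = N63096 := ded_38_1 L823992 (flp_d L820531) L820527 L823704 L829782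
theorem L829798 : sm gi N63623 = N63215 := ded_54_2 (flp_h L826520) L826516 (flp_h L824024) (flp_i L823710) L829782
theorem L829800 : sm gh N63072 = N63624 := rfl
theorem L829802 : sm gb N63624 = N63624 := ded_25_1 (flp_h L829800) L823718 L829800
theorem L829803 : sm gc N63624 = N63073 := ded_32_1 (flp_h L823719) L823712 L829800
theorem L829805 : sm ge N63624 = N63246 := ded_43_1 (flp_h L827387) L827379 L829800
theorem L829807 : sm gf N63624 = N63097 := ded_47_1 (flp_h L828977) L828973 L829800
theorem L829809 : sm gg N63624 = N63218 := ded_50_1 (flp_h L829769) L829767 L829800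
theorem L829811 : sm gj N63624 = N63127 := ded_52_1 L824269 (flp_j L823714) L829800
theorem L829813 : sm gi N63624 = N63216 := ded_54_2 (flp_h L826532) L826534 (flp_h L824036) (flp_i L823716) L829800
theorem L829815 : sm gd N63106 = N63624 := ded_27_0 L829803 L823731 L815895 L816021 L824071
theorem L829817 : sm gd N63074 = N63625 := rfl
theorem L829819 : sm ga N63625 = N63075 := ded_12_1 (flp_d L823747) (flp_a L823737) L829817
theorem L829821 : sm gg N63625 = N63084 := ded_36_2 (flp_d L823845) (flp_g L823741) L829817
theorem L829823 : sm gj N63625 = N63076 := ded_37_2 (flp_d L823761) (flp_j L823743) L829817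
theorem L829825 : sm gi N63625 = N63119 := ded_39_2 (flp_d L824195) (flp_i L823745) L829817
theorem L829827 : sm gc N63625 = N63111 := ded_27_1 (flp_d L824117) (flp_c L822771) L822773 (flp_c L823739) L829817
theorem L829829 : sm ge N63625 = N63120 := ded_34_2 L824213 (flp_e L817711) (flp_d L815556) L823735 L829817
theorem L829831 : sm gc N63076 = N63626 := rfl
theorem L829833 : sm ga N63626 = N63078 := ded_11_1 (flp_c L823777) (flp_a L823763) L829831
theorem L829835 : sm ge N63626 = N63119 := ded_28_2 L824203 (flp_e L823769) L829831
theorem L829837 : sm gg N63626 = N63081 := ded_30_2 (flp_c L823809) (flp_g L823765) L829831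
theorem L829839 : sm gj N63626 = N63111 := ded_31_2 (flp_c L829827) L829823 L829831
theorem L829841 : sm gi N63626 = N63120 := ded_33_2 (flp_c L824205) (flp_i L823767) L829831
theorem L829843 : sm gd N63626 = N63109 := ded_27_2 L824099 (flp_d L820349) L820341 L823761 L829831
theorem L829845 : sm gh N63076 = N63627 := rfl
theorem L829847 : sm ga N63627 = N63079 := ded_17_1 (flp_h L823791) (flp_a L823763) L829845
theorem L829849 : sm ge N63627 = N63212 := ded_43_1 L824965 (flp_e L823769) L829845
theorem L829851 : sm gg N63627 = N63082 := ded_50_1 (flp_h L823823) (flp_g L823765) L829845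
theorem L829853 : sm gi N63079 = N63628 := rfl
theorem L829855 : sm gb N63628 = N63080 := ded_26_1 (flp_i L823799) (flp_b L823793) L829853
theorem L829857 : sm ge N63628 = N63211 := ded_44_1 L824959 (flp_e L823795) L829853
theorem L829859 : sm gg N63628 = N63083 := ded_51_1 (flp_i L823833) (flp_g L823797) L829853
theorem L829861 : sm gh N63628 = N63122 := ded_54_1 (flp_i L824221) (flp_h L816186) (flp_i L815602) L823791 L829853
theorem L829863 : sm gi N63082 = N63629 := rfl
theorem L829865 : sm ga N63629 = N63083 := ded_18_1 (flp_i L823833) (flp_a L823825) L829863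
theorem L829867 : sm ge N63629 = N63210 := ded_44_1 L824953 (flp_e L823827) L829863
theorem L829869 : sm gf N63629 = N63206 := ded_48_1 L824920 (flp_f L823829) L829863
theorem L829871 : sm gj N63629 = N63089 := ded_53_1 (flp_i L823909) (flp_j L823831) L829863
theorem L829873 : sm gh N63629 = N63125 := ded_54_1 (flp_i L824249) (flp_h L816206) (flp_i L815628) L823823 L829863
theorem L829875 : sm gh N63084 = N63630 := rfl
theorem L829877 : sm ga N63630 = N63085 := ded_17_1 (flp_h L823859) (flp_a L823847) L829875
theorem L829879 : sm gc N63630 = N63117 := ded_32_1 (flp_h L824173) (flp_c L823855) L829875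
theorem L829881 : sm ge N63630 = N63124 := ded_43_1 (flp_h L824239) (flp_e L823857) L829875
theorem L829883 : sm gf N63630 = N63188 := ded_47_1 L824807 (flp_f L823849) L829875
theorem L829885 : sm gj N63630 = N63086 := ded_52_1 (flp_h L823871) (flp_j L823851) L829875
theorem L829887 : sm gi N63086 = N63631 := rfl
theorem L829889 : sm ga N63631 = N63087 := ded_18_1 (flp_i L823883) (flp_a L823873) L829887
theorem L829891 : sm gc N63631 = N63153 := ded_33_1 (flp_i L824469) (flp_c L823875) L829887
theorem L829893 : sm ge N63631 = N63112 := ded_44_1 L824133 (flp_e L823877) L829887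
theorem L829895 : sm gf N63631 = N63093 := ded_48_1 L823962 (flp_f L823879) L829887
theorem L829897 : sm gg N63631 = N63089 := ded_51_1 (flp_i L823909) (flp_g L823881) L829887
theorem L829899 : sm gh N63631 = N63154 := ded_54_1 (flp_i L824479) (flp_h L816521) (flp_i L815726) L823871 L829887
theorem L829901 : sm gd N63088 = N63632 := rfl
theorem L829903 : sm ga N63632 = N63090 := ded_12_1 (flp_d L823919) (flp_a L823899) L829901
theorem L829905 : sm gf N63632 = N63213 := ded_35_2 (flp_d L824967) (flp_f L823905) L829901
theorem L829907 : sm gg N63632 = N63146 := ded_36_2 L824409 (flp_g L823907) L829901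
theorem L829909 : sm gh N63632 = N63136 := ded_38_2 (flp_d L824338) L816340 (flp_d L815768) L823897 L829901
theorem L829911 : sm gi N63088 = N63633 := rfl
theorem L829913 : sm ga N63633 = N63091 := ded_18_1 (flp_i L823929) (flp_a L823899) L829911
theorem L829915 : sm gc N63633 = N63089 := ded_33_1 (flp_i L823909) (flp_c L823901) L829911
theorem L829917 : sm ge N63633 = N63154 := ded_44_1 (flp_i L824479) (flp_e L823903) L829911
theorem L829919 : sm gf N63633 = N63103 := ded_48_1 L824055 (flp_f L823905) L829911
theorem L829921 : sm gg N63633 = N63153 := ded_51_1 (flp_i L824469) (flp_g L823907) L829911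
theorem L829923 : sm gh N63633 = N63112 := ded_54_1 L824133 (flp_h L816553) (flp_i L815766) L823897 L829911
theorem L829925 : sm gi N63090 = N63634 := rfl
theorem L829927 : sm gb N63634 = N63092 := ded_26_1 (flp_i L823943) (flp_b L823921) L829925
theorem L829929 : sm gd N63634 = N63091 := ded_39_1 (flp_i L823929) L823919 L829925
theorem L829931 : sm gf N63634 = N63104 := ded_48_1 L824063 (flp_f L823923) L829925
theorem L829933 : sm gg N63634 = N63150 := ded_51_1 (flp_i L824437) (flp_g L823925) L829925
theorem L829935 : sm gd N63093 = N63635 := rfl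
theorem L829937 : sm ga N63635 = N63094 := ded_12_1 (flp_d L823964) (flp_a L823954) L829935
theorem L829939 : sm gg N63635 = N63095 := ded_36_2 (flp_d L823974) (flp_g L823958) L829935
theorem L829941 : sm gi N63635 = N63194 := ded_39_2 (flp_d L824852) (flp_i L823962) L829935
theorem L829943 : sm ge N63635 = N63098 := ded_34_2 (flp_d L824007) (flp_e L815925) (flp_d L815846) L823952 L829935
theorem L829945 : sm gc N63094 = N63636 := rfl
theorem L829947 : sm ge N63636 = N63099 := ded_28_2 (flp_c L824013) (flp_e L823972) L829945
theorem L829949 : sm gg N63636 = N63097 := ded_30_2 (flp_c L824000) (flp_g L823968) L829945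
theorem L829951 : sm gi N63636 = N63195 := ded_33_2 (flp_c L824856) (flp_i L823970) L829945
theorem L829953 : sm gb N63636 = N63636 := ded_19_1 (flp_c L829945) L823966 L815874 (flp_b L823966) L829945
theorem L829954 : sm gd N63636 = N63197 := ded_27_2 (flp_c L824867) (flp_d L817172) (flp_c L815860) L823964 L829945
theorem L829956 : sm gc N63095 = N63637 := rfl
theorem L829958 : sm ga N63637 = N63097 := ded_11_1 (flp_c L824000) (flp_a L823976) L829956
theorem L829960 : sm ge N63637 = N63100 := ded_28_2 (flp_c L824018) (flp_e L823980) L829956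
theorem L829962 : sm gj N63637 = N63265 := ded_31_2 (flp_c L825313) (flp_j L823978) L829956
theorem L829964 : sm gc N63098 = N63638 := rfl
theorem L829966 : sm ga N63638 = N63099 := ded_11_1 (flp_c L824013) (flp_a L824009) L829964
theorem L829968 : sm gg N63638 = N63100 := ded_30_2 (flp_c L824018) (flp_g L824011) L829964
theorem L829970 : sm gb N63100 = N63639 := rfl
theorem L829972 : sm gj N63639 = N63267 := ded_24_2 (flp_b L825325) (flp_j L824022) L829970
theorem L829974 : sm ga N63639 = N63639 := ded_10_1 (flp_b L829970) L824020 L815947 (flp_a L824020) L829970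
theorem L829975 : sm gh N63100 = N63640 := rfl
theorem L829977 : sm ga N63640 = N63102 := ded_17_1 (flp_h L824036) (flp_a L824020) L829975
theorem L829979 : sm gc N63640 = N63101 := ded_32_1 (flp_h L824024) L824018 L829975
theorem L829981 : sm gf N63640 = N63248 := ded_47_1 (flp_h L828992) L828988 L829975
theorem L829983 : sm gj N63640 = N63268 := ded_52_1 (flp_h L825328) (flp_j L824022) L829975
theorem L829985 : sm gd N63103 = N63641 := rfl
theorem L829987 : sm ga N63641 = N63104 := ded_12_1 (flp_d L824057) (flp_a L824047) L829985
theorem L829989 : sm gg N63641 = N63105 := ded_36_2 (flp_d L824065) (flp_g L824051) L829985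
theorem L829991 : sm gi N63641 = N63213 := ded_39_2 (flp_d L824967) (flp_i L824055) L829985
theorem L829993 : sm gc N63104 = N63642 := rfl
theorem L829995 : sm ge N63642 = N63269 := ded_28_2 (flp_c L827810) L827822 L829993
theorem L829997 : sm gg N63642 = N63106 := ded_30_2 (flp_c L824071) (flp_g L824061) L829993
theorem L829999 : sm gi N63642 = N63214 := ded_33_2 (flp_c L824971) (flp_i L824063) L829993
theorem L830001 : sm gb N63642 = N63642 := ded_19_1 (flp_c L829993) L824059 L815996 (flp_b L824059) L829993
theorem L830002 : sm gd N63642 = N63218 := ded_27_2 (flp_c L824999) (flp_d L817376) (flp_c L815982) L824057 L829993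
theorem L830004 : sm gc N63105 = N63643 := rfl
theorem L830006 : sm ga N63643 = N63106 := ded_11_1 (flp_c L824071) (flp_a L824067) L830004
theorem L830008 : sm gj N63643 = N63144 := ded_31_2 (flp_c L824389) (flp_j L824069) L830004
theorem L830010 : sm gh N63105 = N63644 := rfl
theorem L830012 : sm ga N63644 = N63107 := ded_17_1 (flp_h L824076) (flp_a L824067) L830010
theorem L830014 : sm gf N63644 = N63192 := ded_47_1 (flp_h L827410) L827400 L830010
theorem L830016 : sm gj N63644 = N63146 := ded_52_1 (flp_h L824403) (flp_j L824069) L830010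
theorem L830018 : sm gd N63644 = N63117 := ded_38_1 (flp_h L824173) (flp_d L816112) (flp_h L816019) L824065 L830010
theorem L830020 : sm gh N63106 = N63645 := rfl
theorem L830022 : sm gb N63645 = N63645 := ded_25_1 (flp_h L830020) L824075 L830020
theorem L830023 : sm gc N63645 = N63107 := ded_32_1 (flp_h L824076) L824071 L830020
theorem L830025 : sm gf N63645 = N63193 := ded_47_1 (flp_h L827422) L827416 L830020
theorem L830027 : sm gj N63645 = N63148 := ded_52_1 (flp_h L824420) (flp_j L824073) L830020
theorem L830029 : sm gi N63107 = N63646 := rfl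
theorem L830031 : sm gb N63646 = N63108 := ded_26_1 (flp_i L824086) (flp_b L824078) L830029
theorem L830033 : sm gd N63646 = N63118 := ded_39_1 (flp_i L824183) (flp_d L824084) L830029
theorem L830035 : sm gf N63646 = N63191 := ded_48_1 L824833 (flp_f L824080) L830029
theorem L830037 : sm gj N63646 = N63150 := ded_53_1 (flp_i L824437) (flp_j L824082) L830029
theorem L830039 : sm gf N63109 = N63647 := rfl
theorem L830041 : sm ga N63647 = N63110 := ded_14_1 (flp_f L824107) (flp_a L824097) L830039
theorem L830043 : sm gc N63647 = N63125 := ded_29_1 L824253 (flp_c L824099) L830039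
theorem L830045 : sm gj N63647 = N63112 := ded_46_2 (flp_f L824127) (flp_j L824103) L830039
theorem L830047 : sm gi N63647 = N63124 := ded_48_2 L824245 (flp_i L824105) L830039
theorem L830049 : sm gf N63111 = N63648 := rfl
theorem L830051 : sm ga N63648 = N63113 := ded_14_1 (flp_f L824137) (flp_a L824119) L830049
theorem L830053 : sm gd N63648 = N63112 := ded_35_1 (flp_f L824127) L824117 L830049
theorem L830055 : sm gi N63648 = N63156 := ded_48_2 L824505 (flp_i L824123) L830049
theorem L830057 : sm gg N63648 = N63187 := ded_45_2 (flp_f L824791) L817052 (flp_f L816116) (flp_g L824121) L830049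
theorem L830059 : sm gh N63111 = N63649 := rfl
theorem L830061 : sm ga N63649 = N63114 := ded_17_1 (flp_h L824147) (flp_a L824119) L830059
theorem L830063 : sm ge N63649 = N63121 := ded_43_1 (flp_h L824215) (flp_e L824125) L830059
theorem L830065 : sm gg N63649 = N63117 := ded_50_1 (flp_h L824173) (flp_g L824121) L830059
theorem L830067 : sm gh N63113 = N63650 := rfl
theorem L830069 : sm gb N63650 = N63115 := ded_25_1 (flp_h L824155) (flp_b L824139) L830067
theorem L830071 : sm gf N63650 = N63114 := ded_47_1 (flp_h L824147) L824137 L830067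
theorem L830073 : sm gg N63650 = N63186 := ded_50_1 L824789 (flp_g L824145) L830067
theorem L830075 : sm gi N63114 = N63651 := rfl
theorem L830077 : sm gb N63651 = N63116 := ded_26_1 (flp_i L824163) (flp_b L824149) L830075
theorem L830079 : sm ge N63651 = N63122 := ded_44_1 (flp_i L824221) (flp_e L824151) L830075
theorem L830081 : sm gg N63651 = N63118 := ded_51_1 (flp_i L824183) (flp_g L824153) L830075
theorem L830083 : sm gh N63651 = N63211 := ded_54_1 L824959 L817314 (flp_i L816080) L824147 L830075
theorem L830085 : sm gi N63117 = N63652 := rfl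
theorem L830087 : sm ga N63652 = N63118 := ded_18_1 (flp_i L824183) (flp_a L824175) L830085
theorem L830089 : sm ge N63652 = N63125 := ded_44_1 (flp_i L824249) (flp_e L824177) L830085
theorem L830091 : sm gf N63652 = N63190 := ded_48_1 L824825 (flp_f L824179) L830085
theorem L830093 : sm gj N63652 = N63153 := ded_53_1 (flp_i L824469) (flp_j L824181) L830085
theorem L830095 : sm gh N63652 = N63210 := ded_54_1 L824953 L817308 (flp_i L816120) L824173 L830085
theorem L830097 : sm gb N63120 = N63653 := rfl
theorem L830099 : sm gd N63653 = N63165 := ded_20_2 L824589 (flp_d L824213) L830097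
theorem L830101 : sm gg N63653 = N63123 := ded_23_2 (flp_b L824227) (flp_g L824209) L830097
theorem L830103 : sm gj N63653 = N63176 := ded_24_2 L824699 (flp_j L824211) L830097
theorem L830105 : sm ga N63653 = N63158 := ded_10_1 (flp_b L824515) L816591 (flp_b L816182) (flp_a L824207) L830097
theorem L830107 : sm gc N63653 = N63177 := ded_19_2 (flp_b L826156) L826158 L823187 L824205 L830097
theorem L830109 : sm gi N63121 = N63654 := rfl
theorem L830111 : sm ga N63654 = N63122 := ded_18_1 (flp_i L824221) (flp_a L824217) L830109
theorem L830113 : sm gg N63654 = N63125 := ded_51_1 (flp_i L824249) (flp_g L824219) L830109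
theorem L830115 : sm gh N63123 = N63655 := rfl
theorem L830117 : sm ga N63655 = N63159 := ded_17_1 (flp_h L824525) (flp_a L824235) L830115
theorem L830119 : sm gb N63655 = N63124 := ded_25_1 (flp_h L824239) L824227 L830115
theorem L830121 : sm gc N63655 = N63166 := ded_32_1 L824609 (flp_c L824237) L830115
theorem L830123 : sm gf N63655 = N63165 := ded_47_1 L824597 (flp_f L824231) L830115
theorem L830125 : sm gj N63655 = N63155 := ded_52_1 (flp_h L824489) (flp_j L824233) L830115
theorem L830127 : sm gc N63126 = N63656 := rfl
theorem L830129 : sm ga N63656 = N63127 := ded_11_1 (flp_c L824265) (flp_a L824259) L830127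
theorem L830131 : sm gf N63656 = N63265 := ded_29_2 (flp_c L825313) (flp_f L824261) L830127
theorem L830133 : sm gh N63656 = N63251 := ded_32_2 (flp_c L825225) (flp_h L824263) L830127
theorem L830135 : sm gd N63656 = N63144 := ded_27_2 (flp_c L824389) (flp_d L816378) (flp_c L816248) L824257 L830127
theorem L830137 : sm gd N63128 = N63657 := rfl
theorem L830139 : sm ga N63657 = N63129 := ded_12_1 (flp_d L824284) (flp_a L824276) L830137
theorem L830141 : sm gb N63657 = N63199 := ded_20_1 (flp_d L824876) (flp_b L824278) L830137
theorem L830143 : sm gj N63657 = N63136 := ded_37_2 (flp_d L824338) (flp_j L824280) L830137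
theorem L830145 : sm ge N63657 = N63167 := ded_34_2 (flp_d L824611) (flp_e L816777) (flp_d L816264) L824274 L830137
theorem L830147 : sm gf N63128 = N63658 := rfl
theorem L830149 : sm ga N63658 = N63130 := ded_14_1 (flp_f L824292) (flp_a L824276) L830147
theorem L830151 : sm gb N63658 = N63200 := ded_22_1 (flp_f L824882) (flp_b L824278) L830147
theorem L830153 : sm gj N63658 = N63137 := ded_46_2 (flp_f L824344) (flp_j L824280) L830147
theorem L830155 : sm gh N63658 = N63152 := ded_47_2 (flp_f L824457) (flp_h L824282) L830147
theorem L830157 : sm ge N63658 = N63166 := ded_40_1 (flp_f L824599) (flp_e L816753) (flp_f L816266) L824274 L830147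
theorem L830159 : sm gc N63129 = N63659 := rfl
theorem L830161 : sm ge N63659 = N63168 := ded_28_2 (flp_c L824619) (flp_e L824290) L830159
theorem L830163 : sm gj N63659 = N63138 := ded_31_2 (flp_c L824352) (flp_j L824288) L830159
theorem L830165 : sm gb N63659 = N63659 := ded_19_1 (flp_c L830159) L824286 L816288 (flp_b L824286) L830159
theorem L830166 : sm gd N63131 = N63660 := rfl
theorem L830168 : sm ga N63660 = N63132 := ded_12_1 (flp_d L824310) (flp_a L824304) L830166
theorem L830170 : sm gg N63660 = N63140 := ded_36_2 (flp_d L824365) (flp_g L824306) L830166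
theorem L830172 : sm gi N63660 = N63136 := ded_39_2 (flp_d L824338) (flp_i L824308) L830166
theorem L830174 : sm gf N63131 = N63661 := rfl
theorem L830176 : sm ga N63661 = N63133 := ded_14_1 (flp_f L824318) (flp_a L824304) L830174
theorem L830178 : sm gi N63661 = N63137 := ded_48_2 (flp_f L824344) (flp_i L824308) L830174
theorem L830180 : sm ge N63661 = N63270 := ded_40_1 L825341 (flp_e L817934) (flp_f L816305) L824302 L830174
theorem L830182 : sm gc N63132 = N63662 := rfl
theorem L830184 : sm gg N63662 = N63141 := ded_30_2 (flp_c L824371) (flp_g L824314) L830182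
theorem L830186 : sm gi N63662 = N63138 := ded_33_2 (flp_c L824352) (flp_i L824316) L830182
theorem L830188 : sm gb N63662 = N63662 := ded_19_1 (flp_c L830182) L824312 L816325 (flp_b L824312) L830182
theorem L830189 : sm gf N63132 = N63663 := rfl
theorem L830191 : sm gb N63663 = N63134 := ded_22_1 (flp_f L824326) (flp_b L824312) L830189
theorem L830193 : sm gd N63663 = N63133 := ded_35_1 (flp_f L824318) L824310 L830189
theorem L830195 : sm gi N63663 = N63139 := ded_48_2 (flp_f L824357) (flp_i L824316) L830189
theorem L830197 : sm gh N63132 = N63664 := rfl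
theorem L830199 : sm gb N63664 = N63135 := ded_25_1 (flp_h L824333) (flp_b L824312) L830197
theorem L830201 : sm gg N63664 = N63142 := ded_50_1 (flp_h L824376) (flp_g L824314) L830197
theorem L830203 : sm gc N63136 = N63665 := rfl
theorem L830205 : sm ga N63665 = N63138 := ded_11_1 (flp_c L824352) (flp_a L824340) L830203
theorem L830207 : sm gg N63665 = N63144 := ded_30_2 (flp_c L824389) (flp_g L824342) L830203
theorem L830209 : sm gf N63136 = N63666 := rfl
theorem L830211 : sm ga N63666 = N63139 := ded_14_1 (flp_f L824357) (flp_a L824340) L830209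
theorem L830213 : sm gd N63666 = N63137 := ded_35_1 (flp_f L824344) L824338 L830209
theorem L830215 : sm gh N63666 = N63213 := ded_47_2 (flp_f L829905) L829909 L830209
theorem L830217 : sm gf N63138 = N63667 := rfl
theorem L830219 : sm gb N63667 = N63667 := ded_22_1 (flp_f L830217) L824356 L830217
theorem L830220 : sm gc N63667 = N63139 := ded_29_1 (flp_f L824357) L824352 L830217
theorem L830222 : sm gh N63667 = N63214 := ded_47_2 (flp_f L829736) L829742 L830217
theorem L830224 : sm gc N63140 = N63668 := rfl
theorem L830226 : sm ga N63668 = N63141 := ded_11_1 (flp_c L824371) (flp_a L824367) L830224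
theorem L830228 : sm gi N63668 = N63144 := ded_33_2 (flp_c L824389) (flp_i L824369) L830224
theorem L830230 : sm gh N63140 = N63669 := rfl
theorem L830232 : sm ga N63669 = N63142 := ded_17_1 (flp_h L824376) (flp_a L824367) L830230
theorem L830234 : sm gh N63141 = N63670 := rfl
theorem L830236 : sm gb N63670 = N63670 := ded_25_1 (flp_h L830234) L824375 L830234
theorem L830237 : sm gc N63670 = N63142 := ded_32_1 (flp_h L824376) L824371 L830234
theorem L830239 : sm gi N63142 = N63671 := rfl
theorem L830241 : sm gb N63671 = N63143 := ded_26_1 (flp_i L824380) (flp_b L824378) L830239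
theorem L830243 : sm gd N63671 = N63186 := ded_39_1 (flp_i L825799) L825793 L830239
theorem L830245 : sm gf N63671 = N63185 := ded_48_1 (flp_i L825779) (flp_f L825785) L830239
theorem L830247 : sm gh N63671 = N63150 := ded_54_1 (flp_i L824437) (flp_h L816405) (flp_i L816373) L824376 L830239
theorem L830249 : sm gb N63144 = N63672 := rfl
theorem L830251 : sm ga N63672 = N63672 := ded_10_1 (flp_b L830249) L824391 L816396 (flp_a L824391) L830249
theorem L830252 : sm gf N63144 = N63673 := rfl
theorem L830254 : sm ga N63673 = N63147 := ded_14_1 (flp_f L824411) (flp_a L824391) L830252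
theorem L830256 : sm gc N63673 = N63145 := ded_29_1 (flp_f L824393) L824389 L830252
theorem L830258 : sm gd N63673 = N63265 := ded_35_1 (flp_f L830131) L830135 L830252
theorem L830260 : sm gh N63198 = N63673 := ded_17_0 L830254 (flp_h L824418) (flp_a L824874)
theorem L830262 : sm gh N63144 = N63674 := rfl
theorem L830264 : sm ga N63674 = N63148 := ded_17_1 (flp_h L824420) (flp_a L824391) L830262
theorem L830266 : sm gc N63674 = N63146 := ded_32_1 (flp_h L824403) L824389 L830262
theorem L830268 : sm gf N63674 = N63198 := ded_47_1 L830260 (flp_f L830252) L830262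
theorem L830270 : sm ge N63145 = N63675 := rfl
theorem L830272 : sm ga N63675 = N63149 := ded_13_1 (flp_e L824427) (flp_a L824395) L830270
theorem L830274 : sm gb N63675 = N63192 := ded_21_1 L824843 (flp_b L824397) L830270
theorem L830276 : sm gj N63675 = N63163 := ded_42_2 (flp_e L827408) L827404 L830270
theorem L830278 : sm gh N63675 = N63182 := ded_43_2 L824758 L824401 L830270
theorem L830280 : sm gd N63675 = N63151 := ded_34_1 (flp_e L824445) L816451 (flp_e L816392) (flp_d L824399) L830270
theorem L830282 : sm gi N63146 = N63676 := rfl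
theorem L830284 : sm ga N63676 = N63150 := ded_18_1 (flp_i L824437) (flp_a L824405) L830282
theorem L830286 : sm gd N63676 = N63153 := ded_39_1 (flp_i L824469) (flp_d L824409) L830282
theorem L830288 : sm gf N63676 = N63196 := ded_48_1 L824865 (flp_f L824407) L830282
theorem L830290 : sm ge N63147 = N63677 := rfl
theorem L830292 : sm gb N63677 = N63677 := ded_21_1 (flp_e L830290) L824413 L830290
theorem L830293 : sm gc N63677 = N63149 := ded_28_1 (flp_e L824427) (flp_c L824414) L830290
theorem L830295 : sm gj N63677 = N63164 := ded_42_2 (flp_e L827414) L827420 L830290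
theorem L830297 : sm gh N63677 = N63183 := ded_43_2 L824762 L824418 L830290
theorem L830299 : sm gd N63677 = N63201 := ded_34_1 L824890 L817214 (flp_e L817877) (flp_d L824416) L830290
theorem L830301 : sm gi N63148 = N63678 := rfl
theorem L830303 : sm gb N63678 = N63678 := ded_26_1 (flp_i L830301) L824422 L830301
theorem L830304 : sm gc N63678 = N63150 := ded_33_1 (flp_i L824437) (flp_c L824423) L830301
theorem L830306 : sm gf N63678 = N63197 := ded_48_1 L824869 (flp_f L824425) L830301
theorem L830308 : sm gd N63155 = N63679 := rfl
theorem L830310 : sm ga N63679 = N63160 := ded_12_1 (flp_d L824535) (flp_a L824491) L830308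
theorem L830312 : sm gb N63679 = N63156 := ded_20_1 (flp_d L824501) (flp_b L824493) L830308
theorem L830314 : sm gf N63679 = N63176 := ded_35_2 L824701 (flp_f L824497) L830308
theorem L830316 : sm gg N63679 = N63166 := ded_36_2 L824605 (flp_g L824499) L830308
theorem L830318 : sm gh N63679 = N63177 := ded_38_2 (flp_d L824703) L816921 (flp_d L816543) L824489 L830308
theorem L830320 : sm ge N63156 = N63680 := rfl
theorem L830322 : sm ga N63680 = N63157 := ded_13_1 (flp_e L824509) (flp_a L824503) L830320
theorem L830324 : sm gg N63680 = N63200 := ded_41_2 L824886 (flp_g L824507) L830320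
theorem L830326 : sm gc N63161 = N63681 := rfl
theorem L830328 : sm ga N63681 = N63162 := ded_11_1 (flp_c L824559) (flp_a L824547) L830326
theorem L830330 : sm ge N63681 = N63219 := ded_28_2 (flp_c L825004) (flp_e L824557) L830326
theorem L830332 : sm gf N63681 = N63202 := ded_29_2 (flp_c L824893) (flp_f L824551) L830326
theorem L830334 : sm gg N63681 = N63248 := ded_30_2 (flp_c L825206) (flp_g L824553) L830326
theorem L830336 : sm gj N63681 = N63237 := ded_31_2 (flp_c L825134) (flp_j L824555) L830326
theorem L830338 : sm gd N63681 = N63242 := ded_27_2 (flp_c L825170) (flp_d L817634) (flp_c L816667) L824545 L830326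
theorem L830340 : sm gc N63163 = N63682 := rfl
theorem L830342 : sm ga N63682 = N63164 := ded_11_1 (flp_c L824580) (flp_a L824574) L830340
theorem L830344 : sm gh N63682 = N63264 := ded_32_2 (flp_c L825309) (flp_h L824578) L830340
theorem L830346 : sm gc N63167 = N63683 := rfl
theorem L830348 : sm ga N63683 = N63168 := ded_11_1 (flp_c L824619) (flp_a L824613) L830346
theorem L830350 : sm gf N63683 = N63266 := ded_29_2 (flp_c L825319) (flp_f L824617) L830346
theorem L830352 : sm gh N63167 = N63684 := rfl
theorem L830354 : sm ga N63684 = N63169 := ded_17_1 (flp_h L824624) (flp_a L824613) L830352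
theorem L830356 : sm gb N63684 = N63203 := ded_25_1 (flp_h L824899) (flp_b L824615) L830352
theorem L830358 : sm gf N63684 = N63229 := ded_47_1 L825085 (flp_f L824617) L830352
theorem L830360 : sm gd N63684 = N63230 := ded_38_1 L825091 (flp_d L817958) L817954 L824611 L830352
theorem L830362 : sm gh N63168 = N63685 := rfl
theorem L830364 : sm gb N63685 = N63685 := ded_25_1 (flp_h L830362) L824623 L830362
theorem L830365 : sm gc N63685 = N63169 := ded_32_1 (flp_h L824624) L824619 L830362
theorem L830367 : sm gf N63685 = N63231 := ded_47_1 L825101 (flp_f L824621) L830362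
theorem L830369 : sm gi N63169 = N63686 := rfl
theorem L830371 : sm gb N63686 = N63170 := ded_26_1 (flp_i L824632) (flp_b L824626) L830369
theorem L830373 : sm gd N63686 = N63228 := ded_39_1 L825073 (flp_d L824630) L830369
theorem L830375 : sm gf N63686 = N63227 := ded_48_1 L825065 (flp_f L824628) L830369
theorem L830377 : sm gd N63172 = N63687 := rfl
theorem L830379 : sm ga N63687 = N63173 := ded_12_1 (flp_d L824663) (flp_a L824655) L830377
theorem L830381 : sm gb N63687 = N63208 := ded_20_1 (flp_d L824932) (flp_b L824657) L830377
theorem L830383 : sm gj N63687 = N63179 := ded_37_2 (flp_d L824719) (flp_j L824659) L830377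
theorem L830385 : sm ge N63687 = N63233 := ded_34_2 (flp_d L825110) (flp_e L817559) (flp_d L816820) L824653 L830377
theorem L830387 : sm gh N63687 = N63243 := ded_38_2 (flp_d L825176) L817659 (flp_d L816895) (flp_h L824661) L830377
theorem L830389 : sm gc N63173 = N63688 := rfl
theorem L830391 : sm ge N63688 = N63234 := ded_28_2 (flp_c L825118) (flp_e L824669) L830389
theorem L830393 : sm gj N63688 = N63180 := ded_31_2 (flp_c L824731) (flp_j L824667) L830389
theorem L830395 : sm gh N63688 = N63244 := ded_32_2 (flp_c L825182) (flp_h L824671) L830389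
theorem L830397 : sm gb N63688 = N63688 := ded_19_1 (flp_c L830389) L824665 L816844 (flp_b L824665) L830389
theorem L830398 : sm gg N63174 = N63689 := rfl
theorem L830400 : sm ga N63689 = N63175 := ded_15_1 (flp_g L824685) (flp_a L824675) L830398
theorem L830402 : sm gb N63689 = N63212 := ded_23_1 (flp_g L824961) (flp_b L824677) L830398
theorem L830404 : sm gd N63689 = N63178 := ded_36_1 L824717 (flp_d L824679) L830398
theorem L830406 : sm gh N63689 = N63176 := ded_50_2 (flp_g L824695) (flp_h L824683) L830398
theorem L830408 : sm gf N63689 = N63177 := ded_45_1 L824707 L817908 (flp_g L816855) L824673 L830398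
theorem L830410 : sm gc N63179 = N63690 := rfl
theorem L830412 : sm ga N63690 = N63180 := ded_11_1 (flp_c L824731) (flp_a L824721) L830410
theorem L830414 : sm ge N63690 = N63266 := ded_28_2 (flp_c L825319) (flp_e L824727) L830410
theorem L830416 : sm gg N63690 = N63265 := ded_30_2 (flp_c L825313) (flp_g L824725) L830410
theorem L830418 : sm gh N63690 = N63247 := ded_32_2 (flp_c L825202) (flp_h L824729) L830410
theorem L830420 : sm gc N63182 = N63691 := rfl
theorem L830422 : sm ga N63691 = N63183 := ded_11_1 (flp_c L824760) (flp_a L824754) L830420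
theorem L830424 : sm ge N63691 = N63198 := ded_28_2 (flp_c L824872) (flp_e L824758) L830420
theorem L830426 : sm gj N63691 = N63264 := ded_31_2 (flp_c L825309) (flp_j L824756) L830420
theorem L830428 : sm gd N63184 = N63692 := rfl
theorem L830430 : sm ga N63692 = N63185 := ded_12_1 (flp_d L824775) (flp_a L824769) L830428
theorem L830432 : sm gg N63692 = N63192 := ded_36_2 (flp_d L824837) (flp_g L824771) L830428
theorem L830434 : sm ge N63692 = N63260 := ded_34_2 (flp_d L825287) (flp_e L817824) (flp_d L817019) L824767 L830428
theorem L830436 : sm gh N63692 = N63196 := ded_38_2 (flp_d L824861) L817168 (flp_d L817056) (flp_h L824773) L830428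
theorem L830438 : sm gf N63184 = N63693 := rfl
theorem L830440 : sm ga N63693 = N63186 := ded_14_1 (flp_f L824785) (flp_a L824769) L830438
theorem L830442 : sm gh N63693 = N63187 := ded_47_2 (flp_f L824791) (flp_h L824773) L830438
theorem L830444 : sm gc N63185 = N63694 := rfl
theorem L830446 : sm ge N63694 = N63261 := ded_28_2 (flp_c L825293) (flp_e L824781) L830444
theorem L830448 : sm gg N63694 = N63193 := ded_30_2 (flp_c L824845) (flp_g L824779) L830444
theorem L830450 : sm gh N63694 = N63197 := ded_32_2 (flp_c L824867) (flp_h L824783) L830444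
theorem L830452 : sm gb N63694 = N63694 := ded_19_1 (flp_c L830444) L824777 L817037 (flp_b L824777) L830444
theorem L830453 : sm gd N63188 = N63695 := rfl
theorem L830455 : sm ga N63695 = N63189 := ded_12_1 (flp_d L824809) (flp_a L824801) L830453
theorem L830457 : sm gj N63695 = N63194 := ded_37_2 (flp_d L824852) (flp_j L824805) L830453
theorem L830459 : sm gh N63695 = N63235 := ded_38_2 (flp_d L825123) L817579 (flp_d L817103) (flp_h L824807) L830453
theorem L830461 : sm gc N63189 = N63696 := rfl
theorem L830463 : sm gj N63696 = N63195 := ded_31_2 (flp_c L824856) (flp_j L824813) L830461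
theorem L830465 : sm gh N63696 = N63236 := ded_32_2 (flp_c L825129) (flp_h L824815) L830461
theorem L830467 : sm gb N63696 = N63696 := ded_19_1 (flp_c L830461) L824811 L817090 (flp_b L824811) L830461
theorem L830468 : sm gd N63696 = N63193 := ded_27_2 (flp_c L824845) (flp_d L817144) (flp_c L817080) L824809 L830461
theorem L830470 : sm gd N63190 = N63697 := rfl
theorem L830472 : sm ga N63697 = N63191 := ded_12_1 (flp_d L824827) (flp_a L824819) L830470
theorem L830474 : sm gj N63697 = N63196 := ded_37_2 (flp_d L824861) (flp_j L824821) L830470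
theorem L830476 : sm gi N63697 = N63192 := ded_39_2 (flp_d L824837) (flp_i L824825) L830470
theorem L830478 : sm ge N63697 = N63262 := ded_34_2 (flp_d L825298) (flp_e L817838) (flp_d L817107) L824817 L830470
theorem L830480 : sm gc N63191 = N63698 := rfl
theorem L830482 : sm ge N63698 = N63263 := ded_28_2 (flp_c L825304) (flp_e L824835) L830480
theorem L830484 : sm gj N63698 = N63197 := ded_31_2 (flp_c L824867) (flp_j L824831) L830480
theorem L830486 : sm gi N63698 = N63193 := ded_33_2 (flp_c L824845) (flp_i L824833) L830480
theorem L830488 : sm gb N63698 = N63698 := ded_19_1 (flp_c L830480) L824829 L817133 (flp_b L824829) L830480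
theorem L830489 : sm gc N63192 = N63699 := rfl
theorem L830491 : sm ga N63699 = N63193 := ded_11_1 (flp_c L824845) (flp_a L824839) L830489
theorem L830493 : sm ge N63699 = N63264 := ded_28_2 (flp_c L825309) (flp_e L824843) L830489
theorem L830495 : sm gj N63699 = N63198 := ded_31_2 (flp_c L824872) (flp_j L824841) L830489
theorem L830497 : sm gc N63194 = N63700 := rfl
theorem L830499 : sm ga N63700 = N63195 := ded_11_1 (flp_c L824856) (flp_a L824854) L830497
theorem L830501 : sm gd N63700 = N63198 := ded_27_2 (flp_c L824872) (flp_d L817178) (flp_c L817156) L824852 L830497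
theorem L830503 : sm gc N63196 = N63701 := rfl
theorem L830505 : sm ga N63701 = N63197 := ded_11_1 (flp_c L824867) (flp_a L824863) L830503
theorem L830507 : sm gi N63701 = N63198 := ded_33_2 (flp_c L824872) (flp_i L824865) L830503
theorem L830509 : sm gb N63198 = N63702 := rfl
theorem L830511 : sm ga N63702 = N63702 := ded_10_1 (flp_b L830509) L824874 L817184 (flp_a L824874) L830509
theorem L830512 : sm gc N63199 = N63703 := rfl
theorem L830514 : sm ga N63703 = N63201 := ded_11_1 (flp_c L824888) (flp_a L824878) L830512
theorem L830516 : sm ge N63703 = N63202 := ded_28_2 (flp_c L824893) (flp_e L824880) L830512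
theorem L830518 : sm gb N63202 = N63704 := rfl
theorem L830520 : sm gd N63704 = N63267 := ded_20_2 (flp_b L825325) (flp_d L824897) L830518
theorem L830522 : sm ga N63704 = N63704 := ded_10_1 (flp_b L830518) L824895 L817213 (flp_a L824895) L830518
theorem L830523 : sm gh N63202 = N63705 := rfl
theorem L830525 : sm ga N63705 = N63204 := ded_17_1 (flp_h L824903) (flp_a L824895) L830523
theorem L830527 : sm gc N63705 = N63203 := ded_32_1 (flp_h L824899) L824893 L830523
theorem L830529 : sm gi N63203 = N63706 := rfl
theorem L830531 : sm ga N63706 = N63205 := ded_18_1 (flp_i L824908) (flp_a L824901) L830529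
theorem L830533 : sm gi N63204 = N63707 := rfl
theorem L830535 : sm gb N63707 = N63707 := ded_26_1 (flp_i L830533) L824905 L830533
theorem L830536 : sm gc N63707 = N63205 := ded_33_1 (flp_i L824908) (flp_c L824906) L830533
theorem L830538 : sm gd N63206 = N63708 := rfl
theorem L830540 : sm ga N63708 = N63207 := ded_12_1 (flp_d L824922) (flp_a L824914) L830538
theorem L830542 : sm gj N63708 = N63217 := ded_37_2 (flp_d L824993) (flp_j L824916) L830538
theorem L830544 : sm gi N63708 = N63208 := ded_39_2 (flp_d L824932) (flp_i L824920) L830538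
theorem L830546 : sm ge N63708 = N63235 := ded_34_2 (flp_d L825123) (flp_e L817575) (flp_d L817235) L824912 L830538
theorem L830548 : sm gc N63207 = N63709 := rfl
theorem L830550 : sm ge N63709 = N63236 := ded_28_2 (flp_c L825129) (flp_e L824930) L830548
theorem L830552 : sm gj N63709 = N63218 := ded_31_2 (flp_c L824999) (flp_j L824926) L830548
theorem L830554 : sm gi N63709 = N63209 := ded_33_2 (flp_c L824940) (flp_i L824928) L830548
theorem L830556 : sm gb N63709 = N63709 := ded_19_1 (flp_c L830548) L824924 L817261 (flp_b L824924) L830548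
theorem L830557 : sm gc N63208 = N63710 := rfl
theorem L830559 : sm ga N63710 = N63209 := ded_11_1 (flp_c L824940) (flp_a L824934) L830557
theorem L830561 : sm ge N63710 = N63237 := ded_28_2 (flp_c L825134) (flp_e L824938) L830557
theorem L830563 : sm gj N63710 = N63219 := ded_31_2 (flp_c L825004) (flp_j L824936) L830557
theorem L830565 : sm gg N63210 = N63711 := rfl
theorem L830567 : sm ga N63711 = N63211 := ded_15_1 (flp_g L824955) (flp_a L824949) L830565
theorem L830569 : sm gi N63711 = N63212 := ded_51_2 (flp_g L824961) (flp_i L824953) L830565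
theorem L830571 : sm gc N63213 = N63712 := rfl
theorem L830573 : sm ga N63712 = N63214 := ded_11_1 (flp_c L824971) (flp_a L824969) L830571
theorem L830575 : sm gd N63712 = N63219 := ded_27_2 (flp_c L825004) (flp_d L817382) (flp_c L817336) L824967 L830571
theorem L830577 : sm gc N63215 = N63713 := rfl
theorem L830579 : sm ga N63713 = N63216 := ded_11_1 (flp_c L824986) (flp_a L824978) L830577
theorem L830581 : sm ge N63713 = N63248 := ded_28_2 (flp_c L825206) (flp_e L824984) L830577
theorem L830583 : sm gg N63713 = N63219 := ded_30_2 (flp_c L825004) (flp_g L824982) L830577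
theorem L830585 : sm gc N63217 = N63714 := rfl
theorem L830587 : sm ga N63714 = N63218 := ded_11_1 (flp_c L824999) (flp_a L824995) L830585
theorem L830589 : sm gi N63714 = N63219 := ded_33_2 (flp_c L825004) (flp_i L824997) L830585
theorem L830591 : sm gb N63219 = N63715 := rfl
theorem L830593 : sm ga N63715 = N63715 := ded_10_1 (flp_b L830591) L825006 L817388 (flp_a L825006) L830591
theorem L830594 : sm gd N63220 = N63716 := rfl
theorem L830596 : sm ga N63716 = N63221 := ded_12_1 (flp_d L825018) (flp_a L825010) L830594
theorem L830598 : sm gg N63716 = N63243 := ded_36_2 (flp_d L825176) (flp_g L825012) L830594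
theorem L830600 : sm gi N63716 = N63223 := ded_39_2 (flp_d L825034) (flp_i L825016) L830594
theorem L830602 : sm gf N63220 = N63717 := rfl
theorem L830604 : sm ga N63717 = N63222 := ded_14_1 (flp_f L825026) (flp_a L825010) L830602
theorem L830606 : sm gh N63717 = N63232 := ded_47_2 (flp_f L825104) (flp_h L825014) L830602
theorem L830608 : sm gi N63717 = N63224 := ded_48_2 (flp_f L825040) (flp_i L825016) L830602
theorem L830610 : sm gc N63221 = N63718 := rfl
theorem L830612 : sm gg N63718 = N63244 := ded_30_2 (flp_c L825182) (flp_g L825022) L830610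
theorem L830614 : sm gi N63718 = N63225 := ded_33_2 (flp_c L825046) (flp_i L825024) L830610
theorem L830616 : sm gb N63718 = N63718 := ded_19_1 (flp_c L830610) L825020 L817433 (flp_b L825020) L830610
theorem L830617 : sm gc N63223 = N63719 := rfl
theorem L830619 : sm ga N63719 = N63225 := ded_11_1 (flp_c L825046) (flp_a L825036) L830617
theorem L830621 : sm gh N63719 = N63237 := ded_32_2 (flp_c L825134) (flp_h L825038) L830617
theorem L830623 : sm gd N63226 = N63720 := rfl
theorem L830625 : sm ga N63720 = N63227 := ded_12_1 (flp_d L825059) (flp_a L825053) L830623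
theorem L830627 : sm gg N63720 = N63238 := ded_36_2 (flp_d L825138) (flp_g L825055) L830623
theorem L830629 : sm gi N63720 = N63229 := ded_39_2 (flp_d L825077) (flp_i L825057) L830623
theorem L830631 : sm ge N63720 = N63240 := ded_34_2 (flp_d L825153) (flp_e L817616) (flp_d L817470) L825051 L830623
theorem L830633 : sm gf N63226 = N63721 := rfl
theorem L830635 : sm ga N63721 = N63228 := ded_14_1 (flp_f L825069) (flp_a L825053) L830633
theorem L830637 : sm gi N63721 = N63230 := ded_48_2 (flp_f L825087) (flp_i L825057) L830633
theorem L830639 : sm ge N63721 = N63232 := ded_40_1 (flp_f L825104) (flp_e L817527) (flp_f L817472) L825051 L830633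
theorem L830641 : sm gc N63227 = N63722 := rfl
theorem L830643 : sm ge N63722 = N63241 := ded_28_2 (flp_c L825161) (flp_e L825067) L830641
theorem L830645 : sm gg N63722 = N63239 := ded_30_2 (flp_c L825146) (flp_g L825063) L830641
theorem L830647 : sm gi N63722 = N63231 := ded_33_2 (flp_c L825095) (flp_i L825065) L830641
theorem L830649 : sm gb N63722 = N63722 := ded_19_1 (flp_c L830641) L825061 L817492 (flp_b L825061) L830641
theorem L830650 : sm gc N63229 = N63723 := rfl
theorem L830652 : sm ga N63723 = N63231 := ded_11_1 (flp_c L825095) (flp_a L825079) L830650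
theorem L830654 : sm ge N63723 = N63247 := ded_28_2 (flp_c L825202) (flp_e L825083) L830650
theorem L830656 : sm gg N63723 = N63268 := ded_30_2 L825332 (flp_g L825081) L830650
theorem L830658 : sm gh N63723 = N63266 := ded_32_2 (flp_c L825319) (flp_h L825085) L830650
theorem L830660 : sm gc N63233 = N63724 := rfl
theorem L830662 : sm ga N63724 = N63234 := ded_11_1 (flp_c L825118) (flp_a L825112) L830660
theorem L830664 : sm gj N63724 = N63266 := ded_31_2 (flp_c L825319) (flp_j L825116) L830660
theorem L830666 : sm gc N63235 = N63725 := rfl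
theorem L830668 : sm ga N63725 = N63236 := ded_11_1 (flp_c L825129) (flp_a L825125) L830666
theorem L830670 : sm gi N63725 = N63237 := ded_33_2 (flp_c L825134) (flp_i L825127) L830666
theorem L830672 : sm gb N63237 = N63726 := rfl
theorem L830674 : sm ga N63726 = N63726 := ded_10_1 (flp_b L830672) L825136 L817595 (flp_a L825136) L830672
theorem L830675 : sm gc N63238 = N63727 := rfl
theorem L830677 : sm ga N63727 = N63239 := ded_11_1 (flp_c L825146) (flp_a L825140) L830675
theorem L830679 : sm ge N63727 = N63242 := ded_28_2 (flp_c L825170) (flp_e L825144) L830675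
theorem L830681 : sm gi N63727 = N63268 := ded_33_2 L825332 (flp_i L825142) L830675
theorem L830683 : sm gc N63240 = N63728 := rfl
theorem L830685 : sm ga N63728 = N63241 := ded_11_1 (flp_c L825161) (flp_a L825155) L830683
theorem L830687 : sm gg N63728 = N63242 := ded_30_2 (flp_c L825170) (flp_g L825157) L830683
theorem L830689 : sm gi N63728 = N63247 := ded_33_2 (flp_c L825202) (flp_i L825159) L830683
theorem L830691 : sm gd N63728 = N63248 := ded_27_2 (flp_c L825206) (flp_d L817692) (flp_c L817620) L825153 L830683
theorem L830693 : sm gb N63242 = N63729 := rfl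
theorem L830695 : sm gf N63729 = N63267 := ded_22_2 (flp_b L825325) (flp_f L825174) L830693
theorem L830697 : sm ga N63729 = N63729 := ded_10_1 (flp_b L830693) L825172 L817644 (flp_a L825172) L830693
theorem L830698 : sm gc N63243 = N63730 := rfl
theorem L830700 : sm ga N63730 = N63244 := ded_11_1 (flp_c L825182) (flp_a L825178) L830698
theorem L830702 : sm gj N63730 = N63247 := ded_31_2 (flp_c L825202) (flp_j L825180) L830698
theorem L830704 : sm gc N63245 = N63731 := rfl
theorem L830706 : sm ga N63731 = N63246 := ded_11_1 (flp_c L825195) (flp_a L825189) L830704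
theorem L830708 : sm gi N63731 = N63248 := ded_33_2 (flp_c L825206) (flp_i L825193) L830704
theorem L830710 : sm gd N63731 = N63247 := ded_27_2 (flp_c L825202) (flp_d L817685) (flp_c L817673) L825187 L830704
theorem L830712 : sm gb N63247 = N63732 := rfl
theorem L830714 : sm ga N63732 = N63732 := ded_10_1 (flp_b L830712) L825204 L817691 (flp_a L825204) L830712
theorem L830715 : sm gb N63248 = N63733 := rfl
theorem L830717 : sm ga N63733 = N63733 := ded_10_1 (flp_b L830715) L825208 L817700 (flp_a L825208) L830715
theorem L830718 : sm gc N63733 = N63267 := ded_19_2 (flp_b L825325) (flp_c L817891) (flp_b L817696) L825206 L830715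
theorem L830720 : sm gc N63249 = N63734 := rfl
theorem L830722 : sm ga N63734 = N63250 := ded_11_1 (flp_c L825218) (flp_a L825212) L830720
theorem L830724 : sm ge N63734 = N63251 := ded_28_2 (flp_c L825225) (flp_e L825216) L830720
theorem L830726 : sm gi N63734 = N63265 := ded_33_2 (flp_c L825313) (flp_i L825214) L830720
theorem L830728 : sm gb N63251 = N63735 := rfl
theorem L830730 : sm gi N63735 = N63267 := ded_26_2 (flp_b L825325) (flp_i L825229) L830728
theorem L830732 : sm ga N63735 = N63735 := ded_10_1 (flp_b L830728) L825227 L817753 (flp_a L825227) L830728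
theorem L830733 : sm gc N63252 = N63736 := rfl
theorem L830735 : sm ga N63736 = N63253 := ded_11_1 (flp_c L825235) (flp_a L825233) L830733
theorem L830737 : sm gd N63736 = N63264 := ded_27_2 (flp_c L825309) (flp_d L817852) (flp_c L817762) L825231 L830733
theorem L830739 : sm gh N63252 = N63737 := rfl
theorem L830741 : sm ga N63737 = N63254 := ded_17_1 (flp_h L825240) (flp_a L825233) L830739
theorem L830743 : sm gf N63737 = N63260 := ded_47_1 (flp_h L826590) L826580 L830739
theorem L830745 : sm gd N63737 = N63256 := ded_38_1 (flp_h L825255) (flp_d L817777) (flp_h L817764) L825231 L830739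
theorem L830747 : sm gh N63253 = N63738 := rfl
theorem L830749 : sm gb N63738 = N63738 := ded_25_1 (flp_h L830747) L825237 L830747
theorem L830750 : sm gc N63738 = N63254 := ded_32_1 (flp_h L825240) L825235 L830747
theorem L830752 : sm gf N63738 = N63261 := ded_47_1 (flp_h L826602) L826596 L830747
theorem L830754 : sm gi N63254 = N63739 := rfl
theorem L830756 : sm gb N63739 = N63255 := ded_26_1 (flp_i L825248) (flp_b L825242) L830754
theorem L830758 : sm gd N63739 = N63257 := ded_39_1 (flp_i L825261) (flp_d L825246) L830754
theorem L830760 : sm gf N63739 = N63259 := ded_48_1 L825285 (flp_f L825244) L830754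
theorem L830762 : sm gi N63256 = N63740 := rfl
theorem L830764 : sm ga N63740 = N63257 := ded_18_1 (flp_i L825261) (flp_a L825257) L830762
theorem L830766 : sm gf N63740 = N63258 := ded_48_1 L825277 (flp_f L825259) L830762
theorem L830768 : sm gh N63740 = N63270 := ded_54_1 (flp_i L825337) (flp_h L817922) (flp_i L817783) L825255 L830762
theorem L830770 : sm gd N63258 = N63741 := rfl
theorem L830772 : sm ga N63741 = N63259 := ded_12_1 (flp_d L825279) (flp_a L825271) L830770
theorem L830774 : sm gg N63741 = N63262 := ded_36_2 (flp_d L825298) (flp_g L825273) L830770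
theorem L830776 : sm gi N63741 = N63260 := ded_39_2 (flp_d L825287) (flp_i L825277) L830770
theorem L830778 : sm gc N63259 = N63742 := rfl
theorem L830780 : sm gg N63742 = N63263 := ded_30_2 (flp_c L825304) (flp_g L825283) L830778
theorem L830782 : sm gi N63742 = N63261 := ded_33_2 (flp_c L825293) (flp_i L825285) L830778
theorem L830784 : sm gb N63742 = N63742 := ded_19_1 (flp_c L830778) L825281 L817823 (flp_b L825281) L830778
theorem L830785 : sm gc N63260 = N63743 := rfl
theorem L830787 : sm ga N63743 = N63261 := ded_11_1 (flp_c L825293) (flp_a L825289) L830785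
theorem L830789 : sm gg N63743 = N63264 := ded_30_2 (flp_c L825309) (flp_g L825291) L830785
theorem L830791 : sm gc N63262 = N63744 := rfl
theorem L830793 : sm ga N63744 = N63263 := ded_11_1 (flp_c L825304) (flp_a L825300) L830791
theorem L830795 : sm gi N63744 = N63264 := ded_33_2 (flp_c L825309) (flp_i L825302) L830791
theorem L830797 : sm gb N63264 = N63745 := rfl
theorem L830799 : sm ga N63745 = N63745 := ded_10_1 (flp_b L830797) L825311 L817858 (flp_a L825311) L830797
theorem L830800 : sm gb N63265 = N63746 := rfl
theorem L830802 : sm ge N63746 = N63267 := ded_21_2 (flp_b L825325) (flp_e L825317) L830800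
theorem L830804 : sm ga N63746 = N63746 := ded_10_1 (flp_b L830800) L825315 L817879 (flp_a L825315) L830800
theorem L830805 : sm gb N63266 = N63747 := rfl
theorem L830807 : sm gg N63747 = N63267 := ded_23_2 (flp_b L825325) (flp_g L825323) L830805
theorem L830809 : sm ga N63747 = N63747 := ded_10_1 (flp_b L830805) L825321 L817890 (flp_a L825321) L830805
theorem L830810 : sm gh N63267 = N63748 := rfl
theorem L830812 : sm ga N63748 = N63748 := ded_17_1 (flp_h L830810) L825327 L830810
theorem L830813 : sm gb N63748 = N63268 := ded_25_1 (flp_h L825328) L825325 L830810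
theorem L830815 : sm gd N63268 = N63749 := rfl
theorem L830817 : sm ga N63749 = N63269 := ded_12_1 (flp_d L825334) (flp_a L825330) L830815
theorem L830819 : sm gi N63271 = N63750 := rfl
theorem L830821 : sm ga N63750 = N63272 := ded_18_1 (flp_i L825361) (flp_a L825345) L830819
theorem L830823 : sm gb N63750 = N63522 := ded_26_1 L828734 (flp_b L825347) L830819
theorem L830825 : sm gc N63750 = N63565 := ded_33_1 L829204 (flp_c L825349) L830819
theorem L830827 : sm gd N63750 = N63345 := ded_39_1 (flp_i L826458) (flp_d L825359) L830819
theorem L830829 : sm ge N63750 = N63717 := ded_44_1 L830608 (flp_e L825351) L830819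
theorem L830831 : sm gf N63750 = N63273 := ded_48_1 (flp_i L825379) (flp_f L825353) L830819
theorem L830833 : sm gg N63750 = N63469 := ded_51_1 (flp_i L828155) (flp_g L825355) L830819
theorem L830835 : sm gj N63750 = N63438 := ded_53_1 L827730 (flp_j L825357) L830819
theorem L830837 : sm gh N63750 = N63721 := ded_54_1 L830637 L825091 (flp_i L817974) L825343 L830819
theorem L830839 : sm gd N63274 = N63751 := rfl
theorem L830841 : sm ga N63751 = N63275 := ded_12_1 (flp_d L825415) (flp_a L825399) L830839
theorem L830843 : sm gb N63751 = N63404 := ded_20_1 (flp_d L827262) (flp_b L825401) L830839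
theorem L830845 : sm gf N63751 = N63376 := ded_35_2 (flp_d L826928) (flp_f L825413) L830839
theorem L830847 : sm gg N63751 = N63523 := ded_36_2 (flp_d L828738) (flp_g L825405) L830839
theorem L830849 : sm gj N63751 = N63295 := ded_37_2 (flp_d L825707) (flp_j L825407) L830839
theorem L830851 : sm gi N63751 = N63354 := ded_39_2 (flp_d L826609) (flp_i L825411) L830839
theorem L830853 : sm ge N63751 = N63660 := ded_34_2 (flp_d L830166) (flp_e L824302) (flp_d L818070) L825397 L830839
theorem L830855 : sm gc N63275 = N63752 := rfl
theorem L830857 : sm ge N63752 = N63662 := ded_28_2 (flp_c L830182) (flp_e L825427) L830855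
theorem L830859 : sm gf N63752 = N63377 := ded_29_2 (flp_c L826938) (flp_f L825419) L830855
theorem L830861 : sm gg N63752 = N63525 := ded_30_2 (flp_c L828754) (flp_g L825421) L830855
theorem L830863 : sm gj N63752 = N63296 := ded_31_2 (flp_c L825719) (flp_j L825423) L830855
theorem L830865 : sm gi N63752 = N63355 := ded_33_2 (flp_c L826623) (flp_i L825425) L830855
theorem L830867 : sm gb N63752 = N63752 := ded_19_1 (flp_c L830855) L825417 L818112 (flp_b L825417) L830855
theorem L830868 : sm gd N63752 = N63543 := ded_27_2 (flp_c L828934) (flp_d L822673) (flp_c L818088) L825415 L830855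
theorem L830870 : sm gh N63275 = N63753 := rfl
theorem L830872 : sm gb N63753 = N63276 := ded_25_1 (flp_h L825429) (flp_b L825417) L830870
theorem L830874 : sm ge N63753 = N63664 := ded_43_1 (flp_h L830197) (flp_e L825427) L830870
theorem L830876 : sm gf N63753 = N63378 := ded_47_1 (flp_h L826947) (flp_f L825419) L830870
theorem L830878 : sm gg N63753 = N63527 := ded_50_1 (flp_h L828769) (flp_g L825421) L830870
theorem L830880 : sm gj N63753 = N63297 := ded_52_1 (flp_h L825730) (flp_j L825423) L830870
theorem L830882 : sm gd N63753 = N63310 := ded_38_1 (flp_h L825937) (flp_d L818648) (flp_h L818094) L825415 L830870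
theorem L830884 : sm gi N63482 = N63753 := ded_55_0 (flp_h L830870) (flp_d L825415) L818098 (flp_e L810412) (flp_d L810262) (flp_b L810260) (flp_c L798869) (flp_d L786764) L775066 (flp_h L770508) L758791 L745159 L728454 L709543 (flp_b L709829) L709831 (flp_d L728418) (flp_i L728414) (flp_h L716612) L716609 (flp_f L716601) (flp_e L697002) L675776 L654452 (flp_c L651213) (flp_d L295720) L295727 (flp_h L651196) (flp_d L672924) (flp_f L681385) L681383 L659100 L360274 (flp_c L355176) (flp_d L653083) (flp_i L653078) L644253 (flp_d L631818) L353352 L243236 L167704 (flp_b L243196) L644722 L205300 (flp_i L141493) (flp_h L97702) L67584 L46860 L46857 (flp_d L42518) L42515 L42516 L29556 L20594 (flp_h L28803) (flp_d L41419) L41421 (flp_e L41722) L41720 L29302 L20444 (flp_d L29025) (flp_i L41588) L59979 L86717 (flp_f L125633) L182419 (flp_d L263262) (flp_b L382919) (flp_c L668577) L690712 L711652 L730319 L746675 L746677 L760082 (flp_d L771675) (flp_b L778120) (flp_c L790183) (flp_d L797857) (flp_i L809354) L809352 L810577 L820099 (flp_e L825654) L825648 (flp_b L825631) L825633 (flp_d L828293)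
theorem L830886 : sm gd N63277 = N63754 := rfl
theorem L830888 : sm ga N63754 = N63278 := ded_12_1 (flp_d L825462) (flp_a L825448) L830886
theorem L830890 : sm gb N63754 = N63626 := ded_20_1 L829843 (flp_b L825450) L830886
theorem L830892 : sm gg N63754 = N63322 := ded_36_2 (flp_d L826100) (flp_g L825454) L830886
theorem L830894 : sm gj N63754 = N63573 := ded_37_2 (flp_d L829292) (flp_j L825456) L830886
theorem L830896 : sm gi N63754 = N63653 := ded_39_2 L830099 (flp_i L825460) L830886
theorem L830898 : sm gc N63754 = N63380 := ded_27_1 (flp_d L826977) L819992 (flp_d L818379) (flp_c L825452) L830886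
theorem L830900 : sm ge N63754 = N63326 := ded_34_2 (flp_d L826168) (flp_e L818951) (flp_d L818119) L825446 L830886
theorem L830902 : sm gh N63608 = N63754 := ded_17_0 L830888 (flp_h L825476) (flp_a L829649)
theorem L830904 : sm gf N63277 = N63755 := rfl
theorem L830906 : sm ga N63755 = N63279 := ded_14_1 (flp_f L825478) (flp_a L825448) L830904
theorem L830908 : sm gb N63755 = N63647 := ded_22_1 (flp_f L830039) (flp_b L825450) L830904
theorem L830910 : sm gc N63755 = N63293 := ded_29_1 (flp_f L825685) (flp_c L825452) L830904
theorem L830912 : sm gj N63755 = N63394 := ded_46_2 L827145 (flp_j L825456) L830904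
theorem L830914 : sm gh N63755 = N63487 := ded_47_2 (flp_f L828339) (flp_h L825458) L830904
theorem L830916 : sm gi N63755 = N63655 := ded_48_2 L830123 (flp_i L825460) L830904
theorem L830918 : sm ge N63755 = N63480 := ded_40_1 (flp_f L828276) (flp_e L821922) (flp_f L818121) L825446 L830904
theorem L830920 : sm gf N63278 = N63756 := rfl
theorem L830922 : sm gb N63756 = N63280 := ded_22_1 (flp_f L825492) (flp_b L825464) L830920
theorem L830924 : sm gc N63756 = N63371 := ded_29_1 L826865 (flp_c L825472) L830920
theorem L830926 : sm gd N63756 = N63279 := ded_35_1 (flp_f L825478) L825462 L830920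
theorem L830928 : sm gj N63756 = N63294 := ded_46_2 L825705 (flp_j L825468) L830920
theorem L830930 : sm gh N63756 = N63604 := ded_47_2 L829619 L825476 L830920
theorem L830932 : sm gi N63756 = N63592 := ded_48_2 L829487 (flp_i L825470) L830920
theorem L830934 : sm ge N63756 = N63650 := ded_40_1 L830071 L824151 L818977 (flp_e L825474) L830920
theorem L830936 : sm gg N63756 = N63359 := ded_45_2 (flp_f L826681) L819642 L818887 (flp_g L825466) L830920
theorem L830938 : sm gg N63279 = N63757 := rfl
theorem L830940 : sm gb N63757 = N63281 := ded_23_1 (flp_g L825510) (flp_b L825480) L830938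
theorem L830942 : sm gc N63757 = N63294 := ded_30_1 (flp_g L825697) (flp_c L825482) L830938
theorem L830944 : sm gd N63757 = N63359 := ded_36_1 (flp_g L830936) L830926 L830938
theorem L830946 : sm ge N63757 = N63483 := ded_41_1 (flp_g L828295) (flp_e L825490) L830938
theorem L830948 : sm gh N63757 = N63491 := ded_50_2 (flp_g L828376) (flp_h L825486) L830938
theorem L830950 : sm gi N63757 = N63591 := ded_51_2 L829477 (flp_i L825488) L830938
theorem L830952 : sm gf N63757 = N63324 := ded_45_1 (flp_g L826136) (flp_f L818891) (flp_g L818139) L825478 L830938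
theorem L830954 : sm gj N63757 = N63371 := ded_49_2 (flp_g L826857) L819840 L820131 (flp_j L825484) L830938
theorem L830956 : sm gd N63282 = N63758 := rfl
theorem L830958 : sm ga N63758 = N63283 := ded_12_1 (flp_d L825544) (flp_a L825530) L830956
theorem L830960 : sm gb N63758 = N63692 := ded_20_1 (flp_d L830428) (flp_b L825532) L830956
theorem L830962 : sm gg N63758 = N63675 := ded_36_2 L830280 (flp_g L825536) L830956
theorem L830964 : sm gj N63758 = N63741 := ded_37_2 (flp_d L830770) (flp_j L825538) L830956
theorem L830966 : sm gi N63758 = N63593 := ded_39_2 (flp_d L829495) (flp_i L825542) L830956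
theorem L830968 : sm ge N63758 = N63315 := ded_34_2 (flp_d L826012) (flp_e L818739) (flp_d L818217) L825528 L830956
theorem L830970 : sm gh N63758 = N63383 := ded_38_2 (flp_d L827009) L820036 (flp_d L818379) (flp_h L825540) L830956
theorem L830972 : sm gf N63282 = N63759 := rfl
theorem L830974 : sm ga N63759 = N63284 := ded_14_1 (flp_f L825558) (flp_a L825530) L830972
theorem L830976 : sm gb N63759 = N63693 := ded_22_1 (flp_f L830438) (flp_b L825532) L830972
theorem L830978 : sm gc N63759 = N63487 := ded_29_1 (flp_f L828339) (flp_c L825534) L830972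
theorem L830980 : sm gj N63759 = N63740 := ded_46_2 L830766 (flp_j L825538) L830972
theorem L830982 : sm gh N63759 = N63293 := ded_47_2 (flp_f L825685) (flp_h L825540) L830972
theorem L830984 : sm gi N63759 = N63594 := ded_48_2 (flp_f L829503) (flp_i L825542) L830972
theorem L830986 : sm ge N63759 = N63475 := ded_40_1 (flp_f L828224) (flp_e L821842) (flp_f L818219) L825528 L830972
theorem L830988 : sm gc N63283 = N63760 := rfl
theorem L830990 : sm ge N63760 = N63317 := ded_28_2 (flp_c L826036) (flp_e L825554) L830988
theorem L830992 : sm gg N63760 = N63677 := ded_30_2 L830293 (flp_g L825548) L830988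
theorem L830994 : sm gj N63760 = N63742 := ded_31_2 (flp_c L830778) (flp_j L825550) L830988
theorem L830996 : sm gh N63760 = N63385 := ded_32_2 (flp_c L827033) (flp_h L825556) L830988
theorem L830998 : sm gi N63760 = N63595 := ded_33_2 (flp_c L829515) (flp_i L825552) L830988
theorem L831000 : sm gb N63760 = N63760 := ded_19_1 (flp_c L830988) L825546 L818255 (flp_b L825546) L830988
theorem L831001 : sm gd N63760 = N63488 := ded_27_2 (flp_c L828347) (flp_d L821965) (flp_c L818235) L825544 L830988
theorem L831003 : sm gf N63283 = N63761 := rfl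
theorem L831005 : sm gb N63761 = N63285 := ded_22_1 (flp_f L825572) (flp_b L825546) L831003
theorem L831007 : sm gd N63761 = N63284 := ded_35_1 (flp_f L825558) L825544 L831003
theorem L831009 : sm gj N63761 = N63739 := ded_46_2 L830760 (flp_j L825550) L831003
theorem L831011 : sm gh N63761 = N63386 := ded_47_2 (flp_f L827042) (flp_h L825556) L831003
theorem L831013 : sm gi N63761 = N63576 := ded_48_2 L829331 (flp_i L825552) L831003
theorem L831015 : sm gg N63284 = N63762 := rfl
theorem L831017 : sm gb N63762 = N63286 := ded_23_1 (flp_g L825585) (flp_b L825560) L831015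
theorem L831019 : sm gc N63762 = N63491 := ded_30_1 (flp_g L828376) (flp_c L825562) L831015
theorem L831021 : sm ge N63762 = N63478 := ded_41_1 (flp_g L828254) (flp_e L825570) L831015
theorem L831023 : sm gh N63762 = N63294 := ded_50_2 (flp_g L825697) (flp_h L825566) L831015
theorem L831025 : sm gi N63762 = N63382 := ded_51_2 L827005 (flp_i L825568) L831015
theorem L831027 : sm gf N63762 = N63540 := ded_45_1 (flp_g L828898) L822609 (flp_g L818237) L825558 L831015
theorem L831029 : sm gj N63762 = N63604 := ded_49_2 (flp_g L829611) (flp_j L826256) L826264 (flp_j L825564) L831015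
theorem L831031 : sm ge N63285 = N63763 := rfl
theorem L831033 : sm ga N63763 = N63485 := ded_13_1 L828321 (flp_a L825574) L831031
theorem L831035 : sm gc N63763 = N63763 := ded_28_1 (flp_e L831031) L825576 L831031
theorem L831036 : sm gj N63763 = N63528 := ded_42_2 L828778 (flp_j L825579) L831031
theorem L831038 : sm gh N63763 = N63387 := ded_43_2 (flp_e L827050) (flp_h L825581) L831031
theorem L831040 : sm gi N63763 = N63403 := ded_44_2 L827254 (flp_i L825583) L831031
theorem L831042 : sm gd N63763 = N63448 := ded_34_1 L827874 L821874 (flp_e L818272) (flp_d L825577) L831031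
theorem L831044 : sm gf N63763 = N63319 := ded_40_2 (flp_e L826057) (flp_f L818771) (flp_e L818256) L825572 L831031
theorem L831046 : sm gg N63407 = N63763 := ded_15_0 L831033 (flp_g L828316) (flp_a L827295)
theorem L831048 : sm gg N63285 = N63764 := rfl
theorem L831050 : sm ga N63764 = N63484 := ded_15_1 (flp_g L828314) (flp_a L825574) L831048
theorem L831052 : sm gc N63764 = N63764 := ded_30_1 (flp_g L831048) L825576 L831048
theorem L831053 : sm gd N63764 = N63286 := ded_36_1 (flp_g L825585) (flp_d L825577) L831048
theorem L831055 : sm ge N63764 = N63407 := ded_41_1 L831046 (flp_e L831031) L831048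
theorem L831057 : sm gh N63764 = N63339 := ded_50_2 L826372 (flp_h L825581) L831048
theorem L831059 : sm gi N63764 = N63333 := ded_51_2 L826288 (flp_i L825583) L831048
theorem L831061 : sm gf N63764 = N63464 := ded_45_1 L828083 L822518 (flp_g L818249) L825572 L831048
theorem L831063 : sm gj N63764 = N63493 := ded_49_2 L828406 (flp_j L826273) L826279 (flp_j L825579) L831048
theorem L831065 : sm gd N63287 = N63765 := rfl
theorem L831067 : sm ga N63765 = N63288 := ded_12_1 (flp_d L825617) (flp_a L825603) L831065
theorem L831069 : sm gb N63765 = N63599 := ded_20_1 (flp_d L829564) (flp_b L825605) L831065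
theorem L831071 : sm gg N63765 = N63552 := ded_36_2 (flp_d L829047) (flp_g L825609) L831065
theorem L831073 : sm gj N63765 = N63660 := ded_37_2 (flp_d L830166) (flp_j L825611) L831065
theorem L831075 : sm gi N63765 = N63657 := ded_39_2 (flp_d L830137) (flp_i L825615) L831065
theorem L831077 : sm ge N63765 = N63295 := ded_34_2 (flp_d L825707) (flp_e L818403) (flp_d L818295) L825601 L831065
theorem L831079 : sm gf N63287 = N63766 := rfl
theorem L831081 : sm ga N63766 = N63289 := ded_14_1 (flp_f L825629) (flp_a L825603) L831079
theorem L831083 : sm gb N63766 = N63600 := ded_22_1 (flp_f L829574) (flp_b L825605) L831079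
theorem L831085 : sm gc N63766 = N63480 := ded_29_1 (flp_f L828276) (flp_c L825607) L831079
theorem L831087 : sm gj N63766 = N63661 := ded_46_2 (flp_f L830174) (flp_j L825611) L831079
theorem L831089 : sm gh N63766 = N63475 := ded_47_2 (flp_f L828224) (flp_h L825613) L831079
theorem L831091 : sm gi N63766 = N63658 := ded_48_2 (flp_f L830147) (flp_i L825615) L831079
theorem L831093 : sm ge N63766 = N63293 := ded_40_1 (flp_f L825685) (flp_e L818367) (flp_f L818297) L825601 L831079
theorem L831095 : sm gc N63288 = N63767 := rfl
theorem L831097 : sm ge N63767 = N63296 := ded_28_2 (flp_c L825719) (flp_e L825627) L831095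
theorem L831099 : sm gg N63767 = N63554 := ded_30_2 (flp_c L829071) (flp_g L825621) L831095
theorem L831101 : sm gj N63767 = N63662 := ded_31_2 (flp_c L830182) (flp_j L825623) L831095
theorem L831103 : sm gi N63767 = N63659 := ded_33_2 (flp_c L830159) (flp_i L825625) L831095
theorem L831105 : sm gb N63767 = N63767 := ded_19_1 (flp_c L831095) L825619 L818333 (flp_b L825619) L831095
theorem L831106 : sm gd N63767 = N63481 := ded_27_2 (flp_c L828282) (flp_d L821930) (flp_c L818313) L825617 L831095
theorem L831108 : sm gf N63288 = N63768 := rfl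
theorem L831110 : sm gb N63768 = N63290 := ded_22_1 (flp_f L825643) (flp_b L825619) L831108
theorem L831112 : sm gd N63768 = N63289 := ded_35_1 (flp_f L825629) L825617 L831108
theorem L831114 : sm gj N63768 = N63663 := ded_46_2 (flp_f L830189) (flp_j L825623) L831108
theorem L831116 : sm gi N63768 = N63556 := ded_48_2 L829098 (flp_i L825625) L831108
theorem L831118 : sm ge N63768 = N63391 := ded_40_1 (flp_f L827098) L820087 (flp_f L818423) (flp_e L825627) L831108
theorem L831120 : sm gh N63288 = N63769 := rfl
theorem L831122 : sm gb N63769 = N63291 := ded_25_1 (flp_h L825656) (flp_b L825619) L831120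
theorem L831124 : sm ge N63769 = N63297 := ded_43_1 (flp_h L825730) (flp_e L825627) L831120
theorem L831126 : sm gg N63769 = N63556 := ded_50_1 (flp_h L829092) (flp_g L825621) L831120
theorem L831128 : sm gj N63769 = N63664 := ded_52_1 (flp_h L830197) (flp_j L825623) L831120
theorem L831130 : sm gd N63769 = N63477 := ded_38_1 (flp_h L828246) (flp_d L821852) (flp_h L818319) L825617 L831120
theorem L831132 : sm gg N63289 = N63770 := rfl
theorem L831134 : sm gb N63770 = N63292 := ded_23_1 (flp_g L825669) (flp_b L825631) L831132
theorem L831136 : sm gc N63770 = N63483 := ded_30_1 (flp_g L828295) (flp_c L825633) L831132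
theorem L831138 : sm ge N63770 = N63294 := ded_41_1 (flp_g L825697) (flp_e L825641) L831132
theorem L831140 : sm gh N63770 = N63478 := ded_50_2 (flp_g L828254) (flp_h L825637) L831132
theorem L831142 : sm gi N63770 = N63477 := ded_51_2 L828252 (flp_i L825639) L831132
theorem L831144 : sm gf N63770 = N63557 := ded_45_1 (flp_g L829104) (flp_f L822869) (flp_g L818315) L825629 L831132
theorem L831146 : sm gj N63770 = N63650 := ded_49_2 L830073 (flp_j L825987) L825995 (flp_j L825635) L831132
theorem L831148 : sm gg N63290 = N63771 := rfl
theorem L831150 : sm ga N63771 = N63493 := ded_15_1 L828406 (flp_a L825645) L831148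
theorem L831152 : sm gc N63771 = N63771 := ded_30_1 (flp_g L831148) L825647 L831148
theorem L831153 : sm gd N63771 = N63292 := ded_36_1 (flp_g L825669) (flp_d L825648) L831148
theorem L831155 : sm ge N63771 = N63298 := ded_41_1 L825749 (flp_e L825654) L831148
theorem L831157 : sm gi N63771 = N63291 := ded_51_2 L825663 (flp_i L825652) L831148
theorem L831159 : sm gf N63771 = N63453 := ded_45_1 L827946 (flp_f L822881) (flp_g L818327) L825643 L831148
theorem L831161 : sm gj N63771 = N63484 := ded_49_2 (flp_g L828314) (flp_j L826004) L826010 (flp_j L825650) L831148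
theorem L831163 : sm gh N63452 = N63771 := ded_17_0 L831150 (flp_h L828399) (flp_a L827928)
theorem L831165 : sm gh N63290 = N63772 := rfl
theorem L831167 : sm ga N63772 = N63492 := ded_17_1 (flp_h L828397) (flp_a L825645) L831165
theorem L831169 : sm gc N63772 = N63772 := ded_32_1 (flp_h L831165) L825647 L831165
theorem L831170 : sm ge N63772 = N63393 := ded_43_1 (flp_h L827120) (flp_e L825654) L831165
theorem L831172 : sm gf N63772 = N63291 := ded_47_1 (flp_h L825656) L825643 L831165
theorem L831174 : sm gg N63772 = N63452 := ded_50_1 L831163 (flp_g L831148) L831165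
theorem L831176 : sm gj N63772 = N63510 := ded_52_1 L828601 (flp_j L825650) L831165
theorem L831178 : sm gd N63772 = N63454 := ded_38_1 L827960 L821874 (flp_h L818344) (flp_d L825648) L831165
theorem L831180 : sm gi N63772 = N63453 := ded_54_2 (flp_h L827939) L821381 L822894 (flp_i L825652) L831165
theorem L831182 : sm gg N63293 = N63773 := rfl
theorem L831184 : sm ga N63773 = N63294 := ded_15_1 (flp_g L825697) (flp_a L825687) L831182
theorem L831186 : sm gb N63773 = N63648 := ded_23_1 L830057 (flp_b L825689) L831182
theorem L831188 : sm gd N63773 = N63394 := ded_36_1 (flp_g L827135) (flp_d L825691) L831182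
theorem L831190 : sm gi N63773 = N63679 := ded_51_2 L830316 (flp_i L825695) L831182
theorem L831192 : sm gf N63773 = N63573 := ded_45_1 L829298 L823175 (flp_g L818373) L825685 L831182
theorem L831194 : sm gc N63295 = N63774 := rfl
theorem L831196 : sm ga N63774 = N63296 := ded_11_1 (flp_c L825719) (flp_a L825709) L831194
theorem L831198 : sm gf N63774 = N63395 := ded_29_2 (flp_c L827147) (flp_f L825713) L831194
theorem L831200 : sm gg N63774 = N63559 := ded_30_2 (flp_c L829132) (flp_g L825715) L831194
theorem L831202 : sm gi N63774 = N63683 := ded_33_2 (flp_c L830346) (flp_i L825717) L831194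
theorem L831204 : sm gd N63774 = N63544 := ded_27_2 (flp_c L828945) (flp_d L822697) (flp_c L818409) L825707 L831194
theorem L831206 : sm gh N63295 = N63775 := rfl
theorem L831208 : sm ga N63775 = N63297 := ded_17_1 (flp_h L825730) (flp_a L825709) L831206
theorem L831210 : sm gb N63775 = N63612 := ded_25_1 (flp_h L829681) (flp_b L825711) L831206
theorem L831212 : sm gf N63775 = N63396 := ded_47_1 (flp_h L827157) (flp_f L825713) L831206
theorem L831214 : sm gg N63775 = N63560 := ded_50_1 (flp_h L829138) (flp_g L825715) L831206
theorem L831216 : sm gd N63775 = N63320 := ded_38_1 (flp_h L826070) (flp_d L818800) (flp_h L818413) L825707 L831206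
theorem L831218 : sm gh N63296 = N63776 := rfl
theorem L831220 : sm gb N63776 = N63776 := ded_25_1 (flp_h L831218) L825727 L831218
theorem L831221 : sm gc N63776 = N63297 := ded_32_1 (flp_h L825730) L825719 L831218
theorem L831223 : sm gf N63776 = N63397 := ded_47_1 (flp_h L827167) (flp_f L825721) L831218
theorem L831225 : sm gg N63776 = N63561 := ded_50_1 (flp_h L829148) (flp_g L825723) L831218
theorem L831227 : sm gd N63776 = N63667 := ded_38_1 L830222 L824974 (flp_h L822711) (flp_d L825728) L831218
theorem L831229 : sm gi N63297 = N63777 := rfl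
theorem L831231 : sm gb N63777 = N63298 := ded_26_1 (flp_i L825740) (flp_b L825732) L831229
theorem L831233 : sm gd N63777 = N63321 := ded_39_1 (flp_i L826084) (flp_d L825738) L831229
theorem L831235 : sm gf N63777 = N63398 := ded_48_1 (flp_i L827176) (flp_f L825734) L831229
theorem L831237 : sm gg N63777 = N63391 := ded_51_1 L827104 (flp_g L825736) L831229
theorem L831239 : sm gj N63777 = N63482 := ded_53_1 L830884 L830880 L831229
theorem L831241 : sm gh N63777 = N63686 := ded_54_1 (flp_i L830369) (flp_h L824624) (flp_i L818427) L825730 L831229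
theorem L831243 : sm gd N63299 = N63778 := rfl
theorem L831245 : sm ga N63778 = N63300 := ded_12_1 (flp_d L825771) (flp_a L825757) L831243
theorem L831247 : sm gb N63778 = N63593 := ded_20_1 (flp_d L829495) (flp_b L825759) L831243
theorem L831249 : sm gg N63778 = N63697 := ded_36_2 (flp_d L830470) (flp_g L825763) L831243
theorem L831251 : sm gj N63778 = N63315 := ded_37_2 (flp_d L826012) (flp_j L825765) L831243
theorem L831253 : sm gi N63778 = N63692 := ded_39_2 (flp_d L830428) (flp_i L825769) L831243
theorem L831255 : sm ge N63778 = N63741 := ded_34_2 (flp_d L830770) (flp_e L825269) (flp_d L818444) L825755 L831243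
theorem L831257 : sm gh N63778 = N63408 := ded_38_2 (flp_d L827306) L820303 (flp_d L818536) (flp_h L825767) L831243
theorem L831259 : sm gf N63669 = N63778 := ded_14_0 L831245 (flp_f L825785) (flp_a L830232)
theorem L831261 : sm gf N63299 = N63779 := rfl
theorem L831263 : sm ga N63779 = N63301 := ded_14_1 (flp_f L825787) (flp_a L825757) L831261
theorem L831265 : sm gb N63779 = N63594 := ded_22_1 (flp_f L829503) (flp_b L825759) L831261
theorem L831267 : sm gc N63779 = N63567 := ded_29_1 L829224 (flp_c L825761) L831261
theorem L831269 : sm gd N63779 = N63669 := ded_35_1 L831259 (flp_d L831243) L831261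
theorem L831271 : sm gj N63779 = N63316 := ded_46_2 (flp_f L826022) (flp_j L825765) L831261
theorem L831273 : sm gh N63779 = N63303 := ded_47_2 (flp_f L825821) (flp_h L825767) L831261
theorem L831275 : sm gi N63779 = N63693 := ded_48_2 (flp_f L830438) (flp_i L825769) L831261
theorem L831277 : sm ge N63779 = N63590 := ded_40_1 (flp_f L829455) (flp_e L823354) (flp_f L818446) L825755 L831261
theorem L831279 : sm gc N63300 = N63780 := rfl
theorem L831281 : sm ge N63780 = N63742 := ded_28_2 (flp_c L830778) (flp_e L825781) L831279
theorem L831283 : sm gf N63780 = N63670 := ded_29_2 L830237 L825785 L831279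
theorem L831285 : sm gg N63780 = N63698 := ded_30_2 (flp_c L830480) (flp_g L825775) L831279
theorem L831287 : sm gj N63780 = N63317 := ded_31_2 (flp_c L826036) (flp_j L825777) L831279
theorem L831289 : sm gh N63780 = N63409 := ded_32_2 (flp_c L827318) (flp_h L825783) L831279
theorem L831291 : sm gi N63780 = N63694 := ded_33_2 (flp_c L830444) (flp_i L825779) L831279
theorem L831293 : sm gb N63780 = N63780 := ded_19_1 (flp_c L831279) L825773 L818482 (flp_b L825773) L831279
theorem L831294 : sm gd N63780 = N63688 := ded_27_2 (flp_c L830389) (flp_d L824663) (flp_c L818462) L825771 L831279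
theorem L831296 : sm gg N63301 = N63781 := rfl
theorem L831298 : sm gb N63781 = N63302 := ded_23_1 (flp_g L825803) (flp_b L825789) L831296
theorem L831300 : sm gc N63781 = N63566 := ded_30_1 L829214 (flp_c L825791) L831296
theorem L831302 : sm gd N63781 = N63664 := ded_36_1 L830201 (flp_d L825793) L831296
theorem L831304 : sm ge N63781 = N63592 := ded_41_1 L829489 (flp_e L825801) L831296
theorem L831306 : sm gh N63781 = N63304 := ded_50_2 (flp_g L825837) (flp_h L825797) L831296
theorem L831308 : sm gi N63781 = N63650 := ded_51_2 L830073 (flp_i L825799) L831296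
theorem L831310 : sm gf N63781 = N63651 := ded_45_1 L830081 L824189 (flp_g L818464) L825787 L831296
theorem L831312 : sm gj N63781 = N63477 := ded_49_2 L828252 L824296 (flp_g L818769) (flp_j L825795) L831296
theorem L831314 : sm gg N63303 = N63782 := rfl
theorem L831316 : sm ga N63782 = N63304 := ded_15_1 (flp_g L825837) (flp_a L825823) L831314
theorem L831318 : sm gb N63782 = N63380 := ded_23_1 L826981 (flp_b L825825) L831314
theorem L831320 : sm gc N63782 = N63564 := ded_30_1 L829192 (flp_c L825827) L831314
theorem L831322 : sm gd N63782 = N63379 := ded_36_1 L826969 (flp_d L825829) L831314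
theorem L831324 : sm ge N63782 = N63589 := ded_41_1 L829449 (flp_e L825835) L831314
theorem L831326 : sm gi N63782 = N63325 := ded_51_2 (flp_g L826152) (flp_i L825833) L831314
theorem L831328 : sm gf N63782 = N63711 := ded_45_1 (flp_g L830565) (flp_f L824947) (flp_g L818530) L825821 L831314
theorem L831330 : sm gj N63782 = N63474 := ded_49_2 L828218 L824463 (flp_g L818798) (flp_j L825831) L831314
theorem L831332 : sm gd N63305 = N63783 := rfl
theorem L831334 : sm ga N63783 = N63306 := ded_12_1 (flp_d L825869) (flp_a L825855) L831332
theorem L831336 : sm gb N63783 = N63625 := ded_20_1 (flp_d L829817) (flp_b L825857) L831332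
theorem L831338 : sm gg N63783 = N63309 := ded_36_2 (flp_d L825921) (flp_g L825861) L831332
theorem L831340 : sm gj N63783 = N63564 := ded_37_2 (flp_d L829186) (flp_j L825863) L831332
theorem L831342 : sm gi N63783 = N63326 := ded_39_2 (flp_d L826168) (flp_i L825867) L831332
theorem L831344 : sm gc N63783 = N63474 := ded_27_1 (flp_d L828214) L821846 (flp_d L821050) (flp_c L825859) L831332
theorem L831346 : sm ge N63783 = N63653 := ded_34_2 L830099 (flp_e L824585) (flp_d L818572) L825853 L831332
theorem L831348 : sm gf N63654 = N63783 := ded_14_0 L831334 (flp_f L825883) (flp_a L830111)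
theorem L831350 : sm gf N63305 = N63784 := rfl
theorem L831352 : sm ga N63784 = N63307 := ded_14_1 (flp_f L825885) (flp_a L825855) L831350
theorem L831354 : sm gb N63784 = N63537 := ded_22_1 L828864 (flp_b L825857) L831350
theorem L831356 : sm gc N63784 = N63438 := ded_29_1 (flp_f L827722) (flp_c L825859) L831350
theorem L831358 : sm gd N63784 = N63654 := ded_35_1 L831348 (flp_d L831332) L831350
theorem L831360 : sm gj N63784 = N63565 := ded_46_2 (flp_f L829198) (flp_j L825863) L831350
theorem L831362 : sm gh N63784 = N63524 := ded_47_2 (flp_f L828746) (flp_h L825865) L831350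
theorem L831364 : sm gi N63784 = N63327 := ded_48_2 (flp_f L826184) (flp_i L825867) L831350
theorem L831366 : sm ge N63784 = N63507 := ded_40_1 (flp_f L828573) (flp_e L822197) (flp_f L818574) L825853 L831350
theorem L831368 : sm gg N63784 = N63410 := ded_45_2 (flp_f L827329) L820343 (flp_f L818646) (flp_g L825861) L831350
theorem L831370 : sm gh N63306 = N63785 := rfl
theorem L831372 : sm gb N63785 = N63308 := ded_25_1 (flp_h L825903) (flp_b L825871) L831370
theorem L831374 : sm gc N63785 = N63477 := ded_32_1 (flp_h L828246) (flp_c L825879) L831370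
theorem L831376 : sm ge N63785 = N63591 := ded_43_1 (flp_h L829479) (flp_e L825881) L831370
theorem L831378 : sm gf N63785 = N63628 := ded_47_1 L829861 L825883 L831370
theorem L831380 : sm gg N63785 = N63310 := ded_50_1 (flp_h L825937) (flp_g L825873) L831370
theorem L831382 : sm gj N63785 = N63566 := ded_52_1 (flp_h L829208) (flp_j L825875) L831370
theorem L831384 : sm gd N63785 = N63527 := ded_38_1 (flp_h L828769) (flp_d L822446) (flp_h L818596) L825869 L831370
theorem L831386 : sm gi N63785 = N63483 := ded_54_2 L828299 L822023 (flp_h L818975) (flp_i L825877) L831370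
theorem L831388 : sm gh N63309 = N63786 := rfl
theorem L831390 : sm ga N63786 = N63310 := ded_17_1 (flp_h L825937) (flp_a L825923) L831388
theorem L831392 : sm gb N63786 = N63630 := ded_25_1 (flp_h L829875) (flp_b L825925) L831388
theorem L831394 : sm gc N63786 = N63658 := ded_32_1 L830155 (flp_c L825933) L831388
theorem L831396 : sm ge N63786 = N63655 := ded_43_1 (flp_h L830115) (flp_e L825935) L831388
theorem L831398 : sm gf N63786 = N63411 := ded_47_1 (flp_h L827343) (flp_f L825927) L831388
theorem L831400 : sm gj N63786 = N63320 := ded_52_1 (flp_h L826070) (flp_j L825929) L831388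
theorem L831402 : sm gi N63786 = N63480 := ded_54_2 L828280 L822015 L819007 (flp_i L825931) L831388
theorem L831404 : sm gd N63311 = N63787 := rfl
theorem L831406 : sm ga N63787 = N63312 := ded_12_1 (flp_d L825967) (flp_a L825953) L831404
theorem L831408 : sm gb N63787 = N63741 := ded_20_1 (flp_d L830770) (flp_b L825955) L831404
theorem L831410 : sm gg N63787 = N63408 := ded_36_2 (flp_d L827306) (flp_g L825959) L831404
theorem L831412 : sm gj N63787 = N63692 := ded_37_2 (flp_d L830428) (flp_j L825961) L831404
theorem L831414 : sm gi N63787 = N63315 := ded_39_2 (flp_d L826012) (flp_i L825965) L831404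
theorem L831416 : sm ge N63787 = N63593 := ded_34_2 (flp_d L829495) (flp_e L823416) (flp_d L818680) L825951 L831404
theorem L831418 : sm gh N63787 = N63697 := ded_38_2 (flp_d L830470) L824823 (flp_d L819204) (flp_h L825963) L831404
theorem L831420 : sm gf N63311 = N63788 := rfl
theorem L831422 : sm ga N63788 = N63313 := ded_14_1 (flp_f L825981) (flp_a L825953) L831420
theorem L831424 : sm gb N63788 = N63740 := ded_22_1 L830766 (flp_b L825955) L831420
theorem L831426 : sm gc N63788 = N63389 := ded_29_1 (flp_f L827077) (flp_c L825957) L831420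
theorem L831428 : sm gj N63788 = N63693 := ded_46_2 (flp_f L830438) (flp_j L825961) L831420
theorem L831430 : sm gh N63788 = N63340 := ded_47_2 (flp_f L826376) (flp_h L825963) L831420
theorem L831432 : sm gi N63788 = N63316 := ded_48_2 (flp_f L826022) (flp_i L825965) L831420
theorem L831434 : sm ge N63788 = N63381 := ded_40_1 (flp_f L826987) (flp_e L819988) (flp_f L818682) L825951 L831420
theorem L831436 : sm gg N63788 = N63661 := ded_45_2 (flp_f L830174) L824306 (flp_f L820307) (flp_g L825959) L831420
theorem L831438 : sm gc N63312 = N63789 := rfl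
theorem L831440 : sm ge N63789 = N63595 := ded_28_2 (flp_c L829515) (flp_e L825977) L831438
theorem L831442 : sm gg N63789 = N63409 := ded_30_2 (flp_c L827318) (flp_g L825971) L831438
theorem L831444 : sm gj N63789 = N63694 := ded_31_2 (flp_c L830444) (flp_j L825973) L831438
theorem L831446 : sm gh N63789 = N63698 := ded_32_2 (flp_c L830480) (flp_h L825979) L831438
theorem L831448 : sm gi N63789 = N63317 := ded_33_2 (flp_c L826036) (flp_i L825975) L831438
theorem L831450 : sm gb N63789 = N63789 := ded_19_1 (flp_c L831438) L825969 L818718 (flp_b L825969) L831438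
theorem L831451 : sm gd N63789 = N63390 := ded_27_2 (flp_c L827089) (flp_d L820079) (flp_c L818698) L825967 L831438
theorem L831453 : sm gf N63312 = N63790 := rfl
theorem L831455 : sm gb N63790 = N63314 := ded_22_1 (flp_f L825997) (flp_b L825969) L831453
theorem L831457 : sm gd N63790 = N63313 := ded_35_1 (flp_f L825981) L825967 L831453
theorem L831459 : sm gj N63790 = N63671 := ded_46_2 L830245 (flp_j L825973) L831453
theorem L831461 : sm gh N63790 = N63646 := ded_47_2 L830035 (flp_h L825979) L831453
theorem L831463 : sm gi N63790 = N63318 := ded_48_2 (flp_f L826045) (flp_i L825975) L831453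
theorem L831465 : sm gg N63790 = N63663 := ded_45_2 (flp_f L830189) L824314 (flp_f L820313) (flp_g L825971) L831453
theorem L831467 : sm ge N63314 = N63791 := rfl
theorem L831469 : sm ga N63791 = N63528 := ded_13_1 L828778 (flp_a L825999) L831467
theorem L831471 : sm gc N63791 = N63791 := ded_28_1 (flp_e L831467) L826001 L831467
theorem L831472 : sm gg N63791 = N63368 := ded_41_2 L826827 (flp_g L826010) L831467
theorem L831474 : sm gj N63791 = N63485 := ded_42_2 L828321 (flp_j L826004) L831467
theorem L831476 : sm gh N63791 = N63402 := ded_43_2 L827245 (flp_h L826006) L831467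
theorem L831478 : sm gi N63791 = N63319 := ded_44_2 (flp_e L826057) (flp_i L826008) L831467
theorem L831480 : sm gd N63791 = N63369 := ded_34_1 L826835 L819850 (flp_e L818735) (flp_d L826002) L831467
theorem L831482 : sm gf N63791 = N63403 := ded_40_2 L827254 L823232 (flp_e L818719) L825997 L831467
theorem L831484 : sm gc N63315 = N63792 := rfl
theorem L831486 : sm ga N63792 = N63317 := ded_11_1 (flp_c L826036) (flp_a L826014) L831484
theorem L831488 : sm gg N63792 = N63673 := ded_30_2 L830256 (flp_g L826018) L831484
theorem L831490 : sm gh N63792 = N63416 := ded_32_2 (flp_c L827429) (flp_h L826020) L831484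
theorem L831492 : sm gd N63792 = N63690 := ded_27_2 (flp_c L830410) (flp_d L824719) (flp_c L818745) L826012 L831484
theorem L831494 : sm gf N63315 = N63793 := rfl
theorem L831496 : sm ga N63793 = N63318 := ded_14_1 (flp_f L826045) (flp_a L826014) L831494
theorem L831498 : sm gb N63793 = N63737 := ded_22_1 L830743 (flp_b L826016) L831494
theorem L831500 : sm gd N63793 = N63316 := ded_35_1 (flp_f L826022) L826012 L831494
theorem L831502 : sm gj N63793 = N63669 := ded_46_2 L831259 L831251 L831494
theorem L831504 : sm gh N63793 = N63417 := ded_47_2 (flp_f L827435) (flp_h L826020) L831494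
theorem L831506 : sm gg N63793 = N63666 := ded_45_2 (flp_f L830209) L824342 L824393 (flp_g L826018) L831494
theorem L831508 : sm gf N63317 = N63794 := rfl
theorem L831510 : sm gb N63794 = N63794 := ded_22_1 (flp_f L831508) L826042 L831508
theorem L831511 : sm gc N63794 = N63318 := ded_29_1 (flp_f L826045) L826036 L831508
theorem L831513 : sm gd N63794 = N63561 := ded_35_1 L829153 (flp_d L826043) L831508
theorem L831515 : sm gj N63794 = N63670 := ded_46_2 (flp_f L831283) L831287 L831508
theorem L831517 : sm gh N63794 = N63418 := ded_47_2 (flp_f L827449) (flp_h L826040) L831508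
theorem L831519 : sm gg N63794 = N63667 := ded_45_2 (flp_f L830217) L824354 L824411 (flp_g L826038) L831508
theorem L831521 : sm ge N63318 = N63795 := rfl
theorem L831523 : sm gb N63795 = N63319 := ded_21_1 (flp_e L826057) (flp_b L826047) L831521
theorem L831525 : sm gg N63795 = N63551 := ded_41_2 L829039 (flp_g L826055) L831521
theorem L831527 : sm gj N63795 = N63527 := ded_42_2 L828773 (flp_j L826051) L831521
theorem L831529 : sm gh N63795 = N63419 := ded_43_2 (flp_e L827462) (flp_h L826053) L831521
theorem L831531 : sm gd N63795 = N63566 := ded_34_1 L829212 L824689 (flp_e L818767) (flp_d L826049) L831521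
theorem L831533 : sm gi N63320 = N63796 := rfl
theorem L831535 : sm ga N63796 = N63321 := ded_18_1 (flp_i L826084) (flp_a L826072) L831533
theorem L831537 : sm gb N63796 = N63631 := ded_26_1 (flp_i L829887) (flp_b L826074) L831533
theorem L831539 : sm gc N63796 = N63661 := ded_33_1 L830178 (flp_c L826076) L831533
theorem L831541 : sm ge N63796 = N63394 := ded_44_1 L827143 (flp_e L826078) L831533
theorem L831543 : sm gf N63796 = N63420 := ded_48_1 (flp_i L827474) (flp_f L826080) L831533
theorem L831545 : sm gg N63796 = N63389 := ded_51_1 L827085 (flp_g L826082) L831533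
theorem L831547 : sm gj N63796 = N63480 := ded_53_1 (flp_i L831402) L831400 L831533
theorem L831549 : sm gh N63796 = N63345 := ded_54_1 (flp_i L826458) (flp_h L819346) (flp_i L818810) L826070 L831533
theorem L831551 : sm gg N63323 = N63797 := rfl
theorem L831553 : sm ga N63797 = N63324 := ded_15_1 (flp_g L826136) (flp_a L826120) L831551
theorem L831555 : sm gb N63797 = N63474 := ded_23_1 L828218 (flp_b L826122) L831551
theorem L831557 : sm gc N63797 = N63573 := ded_30_1 L829298 (flp_c L826124) L831551
theorem L831559 : sm gd N63797 = N63358 := ded_36_1 L826673 (flp_d L826126) L831551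
theorem L831561 : sm ge N63797 = N63325 := ded_41_1 (flp_g L826152) (flp_e L826134) L831551
theorem L831563 : sm gh N63797 = N63680 := ded_50_2 L830324 (flp_h L826130) L831551
theorem L831565 : sm gi N63797 = N63589 := ded_51_2 L829449 (flp_i L826132) L831551
theorem L831567 : sm gj N63797 = N63380 := ded_49_2 L826981 L824746 (flp_g L819296) (flp_j L826128) L831551
theorem L831569 : sm gd N63329 = N63798 := rfl
theorem L831571 : sm ga N63798 = N63330 := ded_12_1 (flp_d L826238) (flp_a L826224) L831569
theorem L831573 : sm gb N63798 = N63660 := ded_20_1 (flp_d L830166) (flp_b L826226) L831569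
theorem L831575 : sm gg N63798 = N63574 := ded_36_2 (flp_d L829304) (flp_g L826230) L831569
theorem L831577 : sm gj N63798 = N63599 := ded_37_2 (flp_d L829564) (flp_j L826232) L831569
theorem L831579 : sm gi N63798 = N63334 := ded_39_2 (flp_d L826294) (flp_i L826236) L831569
theorem L831581 : sm ge N63798 = N63404 := ded_34_2 (flp_d L827262) (flp_e L820242) (flp_d L819067) L826222 L831569
theorem L831583 : sm gf N63329 = N63799 := rfl
theorem L831585 : sm ga N63799 = N63331 := ded_14_1 (flp_f L826250) (flp_a L826224) L831583
theorem L831587 : sm gb N63799 = N63661 := ded_22_1 (flp_f L830174) (flp_b L826226) L831583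
theorem L831589 : sm gc N63799 = N63384 := ded_29_1 (flp_f L827021) (flp_c L826228) L831583
theorem L831591 : sm gj N63799 = N63600 := ded_46_2 (flp_f L829574) (flp_j L826232) L831583
theorem L831593 : sm gh N63799 = N63381 := ded_47_2 (flp_f L826987) (flp_h L826234) L831583
theorem L831595 : sm gi N63799 = N63335 := ded_48_2 (flp_f L826306) (flp_i L826236) L831583
theorem L831597 : sm ge N63799 = N63340 := ded_40_1 (flp_f L826376) (flp_e L819192) (flp_f L819069) L826222 L831583
theorem L831599 : sm gg N63799 = N63740 := ded_45_2 L830766 L825273 (flp_f L823215) (flp_g L826230) L831583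
theorem L831601 : sm gc N63330 = N63800 := rfl
theorem L831603 : sm ge N63800 = N63405 := ded_28_2 (flp_c L827272) (flp_e L826248) L831601
theorem L831605 : sm gg N63800 = N63575 := ded_30_2 (flp_c L829316) (flp_g L826242) L831601
theorem L831607 : sm gj N63800 = N63601 := ded_31_2 (flp_c L829582) (flp_j L826244) L831601
theorem L831609 : sm gi N63800 = N63336 := ded_33_2 (flp_c L826322) (flp_i L826246) L831601
theorem L831611 : sm gb N63800 = N63800 := ded_19_1 (flp_c L831601) L826240 L819105 (flp_b L826240) L831601
theorem L831612 : sm gd N63800 = N63385 := ded_27_2 (flp_c L827033) (flp_d L820040) (flp_c L819085) L826238 L831601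
theorem L831614 : sm gf N63330 = N63801 := rfl
theorem L831616 : sm gb N63801 = N63332 := ded_22_1 (flp_f L826266) (flp_b L826240) L831614
theorem L831618 : sm gd N63801 = N63331 := ded_35_1 (flp_f L826250) L826238 L831614
theorem L831620 : sm gj N63801 = N63602 := ded_46_2 (flp_f L829591) (flp_j L826244) L831614
theorem L831622 : sm gi N63801 = N63337 := ded_48_2 (flp_f L826333) (flp_i L826246) L831614
theorem L831624 : sm ge N63801 = N63588 := ded_40_1 L829439 L824930 (flp_f L820260) (flp_e L826248) L831614
theorem L831626 : sm gg N63801 = N63739 := ded_45_2 L830760 L825283 (flp_f L823221) (flp_g L826242) L831614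
theorem L831628 : sm gh N63330 = N63802 := rfl
theorem L831630 : sm gb N63802 = N63333 := ded_25_1 (flp_h L826281) (flp_b L826240) L831628
theorem L831632 : sm ge N63802 = N63406 := ded_43_1 (flp_h L827283) (flp_e L826248) L831628
theorem L831634 : sm gg N63802 = N63576 := ded_50_1 (flp_h L829327) (flp_g L826242) L831628
theorem L831636 : sm gj N63802 = N63603 := ded_52_1 (flp_h L829601) (flp_j L826244) L831628
theorem L831638 : sm gd N63802 = N63382 := ded_38_1 (flp_h L826997) (flp_d L819998) (flp_h L819091) L826238 L831628
theorem L831640 : sm gh N63332 = N63803 := rfl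
theorem L831642 : sm ga N63803 = N63510 := ded_17_1 L828601 (flp_a L826268) L831640
theorem L831644 : sm gc N63803 = N63803 := ded_32_1 (flp_h L831640) L826270 L831640
theorem L831645 : sm ge N63803 = N63375 := ded_43_1 L826922 (flp_e L826277) L831640
theorem L831647 : sm gf N63803 = N63333 := ded_47_1 (flp_h L826281) L826266 L831640
theorem L831649 : sm gg N63803 = N63363 := ded_50_1 L826748 (flp_g L826279) L831640
theorem L831651 : sm gj N63803 = N63492 := ded_52_1 (flp_h L828397) (flp_j L826273) L831640
theorem L831653 : sm gd N63803 = N63364 := ded_38_1 L826762 L819850 (flp_h L819116) (flp_d L826271) L831640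
theorem L831655 : sm gi N63803 = N63464 := ded_54_2 L828087 L821817 L819175 (flp_i L826275) L831640
theorem L831657 : sm gc N63334 = N63804 := rfl
theorem L831659 : sm ga N63804 = N63336 := ded_11_1 (flp_c L826322) (flp_a L826296) L831657
theorem L831661 : sm ge N63804 = N63428 := ded_28_2 (flp_c L827587) (flp_e L826304) L831657
theorem L831663 : sm gg N63804 = N63577 := ded_30_2 (flp_c L829337) (flp_g L826300) L831657
theorem L831665 : sm gj N63804 = N63703 := ded_31_2 (flp_c L830512) (flp_j L826302) L831657
theorem L831667 : sm gd N63804 = N63682 := ded_27_2 (flp_c L830340) (flp_d L824572) (flp_c L819130) L826294 L831657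
theorem L831669 : sm gf N63334 = N63805 := rfl
theorem L831671 : sm ga N63805 = N63337 := ded_14_1 (flp_f L826333) (flp_a L826296) L831669
theorem L831673 : sm gb N63805 = N63666 := ded_22_1 (flp_f L830209) (flp_b L826298) L831669
theorem L831675 : sm gd N63805 = N63335 := ded_35_1 (flp_f L826306) L826294 L831669
theorem L831677 : sm gj N63805 = N63607 := ded_46_2 L829643 (flp_j L826302) L831669
theorem L831679 : sm ge N63805 = N63586 := ded_40_1 L829418 L824938 (flp_f L820680) (flp_e L826304) L831669
theorem L831681 : sm gg N63805 = N63737 := ded_45_2 L830743 L825291 (flp_f L823244) (flp_g L826300) L831669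
theorem L831683 : sm gh N63580 = N63805 := ded_56_0 (flp_f L831669) L826304 (flp_d L820676) L811280 (flp_b L814737) L814735 (flp_h L812076) L812082 (flp_e L801210) L789021 L777120 (flp_b L766151) L754153 L740654 (flp_f L743859) L757806 L769632 L769634 (flp_b L769808) (flp_a L781380) L793783 L793789 L784399 L772789 (flp_c L767924) (flp_b L774522) L774520 (flp_h L766857) (flp_f L765228) L765227 L765225 L753061 L738364 L728393 L729285 (flp_f L745888) L745887 L759457 L771146 L782731 L794931 (flp_h L802381) L802377 L793930 L781801 L770244 (flp_b L771804) (flp_a L771800) L760165 (flp_f L758632) L758630 (flp_d L759710) (flp_c L771356) (flp_b L771352) (flp_a L771298) (flp_h L779898) (flp_f L792049) L804240 L815034 L815042 (flp_b L823291) (flp_a L829362)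
theorem L831685 : sm gh N63334 = N63806 := rfl
theorem L831687 : sm ga N63806 = N63338 := ded_17_1 (flp_h L826347) (flp_a L826296) L831685
theorem L831689 : sm gb N63806 = N63632 := ded_25_1 L829909 (flp_b L826298) L831685
theorem L831691 : sm ge N63806 = N63429 := ded_43_1 (flp_h L827597) (flp_e L826304) L831685
theorem L831693 : sm gf N63806 = N63580 := ded_47_1 L831683 (flp_f L831669) L831685
theorem L831695 : sm gg N63806 = N63578 := ded_50_1 (flp_h L829343) (flp_g L826300) L831685
theorem L831697 : sm gj N63806 = N63606 := ded_52_1 (flp_h L829635) (flp_j L826302) L831685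
theorem L831699 : sm gd N63806 = N63343 := ded_38_1 (flp_h L826426) (flp_d L819266) (flp_h L819136) L826294 L831685
theorem L831701 : sm gf N63336 = N63807 := rfl
theorem L831703 : sm gb N63807 = N63807 := ded_22_1 (flp_f L831701) L826330 L831701
theorem L831704 : sm gc N63807 = N63337 := ded_29_1 (flp_f L826333) L826322 L831701
theorem L831706 : sm gd N63807 = N63579 := ded_35_1 L829358 (flp_d L826331) L831701
theorem L831708 : sm gj N63807 = N63610 := ded_46_2 L829669 (flp_j L826328) L831701
theorem L831710 : sm ge N63807 = N63587 := ded_40_1 L829429 L824942 (flp_f L820686) (flp_e L826324) L831701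
theorem L831712 : sm gg N63807 = N63738 := ded_45_2 L830752 L825295 (flp_f L823248) (flp_g L826326) L831701
theorem L831714 : sm gh N63581 = N63807 := ded_32_0 L831704 (flp_h L826345) L829372
theorem L831716 : sm gh N63336 = N63808 := rfl
theorem L831718 : sm gb N63808 = N63808 := ded_25_1 (flp_h L831716) L826330 L831716
theorem L831719 : sm gc N63808 = N63338 := ded_32_1 (flp_h L826347) L826322 L831716
theorem L831721 : sm ge N63808 = N63430 := ded_43_1 (flp_h L827607) (flp_e L826324) L831716
theorem L831723 : sm gf N63808 = N63581 := ded_47_1 L831714 (flp_f L831701) L831716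
theorem L831725 : sm gg N63808 = N63579 := ded_50_1 (flp_h L829353) (flp_g L826326) L831716
theorem L831727 : sm gj N63808 = N63609 := ded_52_1 (flp_h L829660) (flp_j L826328) L831716
theorem L831729 : sm gd N63808 = N63738 := ded_38_1 (flp_h L830747) L825238 (flp_h L824582) (flp_d L826331) L831716
theorem L831731 : sm gi N63338 = N63809 := rfl
theorem L831733 : sm gb N63809 = N63339 := ded_26_1 (flp_i L826361) (flp_b L826349) L831731
theorem L831735 : sm gd N63809 = N63344 := ded_39_1 (flp_i L826442) (flp_d L826359) L831731
theorem L831737 : sm ge N63809 = N63431 := ded_44_1 (flp_i L827616) (flp_e L826351) L831731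
theorem L831739 : sm gf N63809 = N63471 := ded_48_1 L828193 (flp_f L826353) L831731
theorem L831741 : sm gg N63809 = N63386 := ded_51_1 L827048 (flp_g L826355) L831731
theorem L831743 : sm gj N63809 = N63489 := ded_53_1 L828362 (flp_j L826357) L831731
theorem L831745 : sm gg N63340 = N63810 := rfl
theorem L831747 : sm ga N63810 = N63341 := ded_15_1 (flp_g L826390) (flp_a L826378) L831745
theorem L831749 : sm gb N63810 = N63381 := ded_23_1 L826995 (flp_b L826380) L831745
theorem L831751 : sm gc N63810 = N63345 := ded_30_1 L826466 (flp_c L826382) L831745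
theorem L831753 : sm gd N63810 = N63711 := ded_36_1 (flp_g L830565) (flp_d L826384) L831745
theorem L831755 : sm ge N63810 = N63740 := ded_41_1 (flp_g L831599) L831597 L831745
theorem L831757 : sm gh N63810 = N63661 := ded_50_2 (flp_g L831436) L831430 L831745
theorem L831759 : sm gi N63810 = N63342 := ded_51_2 (flp_g L826408) (flp_i L826388) L831745
theorem L831761 : sm gf N63810 = N63379 := ded_45_1 L826969 (flp_f L820319) (flp_g L819198) L826376 L831745
theorem L831763 : sm gj N63475 = N63810 := ded_16_0 L831747 (flp_j L826406) (flp_a L828226)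
theorem L831765 : sm gi N63343 = N63811 := rfl
theorem L831767 : sm ga N63811 = N63344 := ded_18_1 (flp_i L826442) (flp_a L826428) L831765
theorem L831769 : sm gb N63811 = N63633 := ded_26_1 (flp_i L829911) (flp_b L826430) L831765
theorem L831771 : sm gc N63811 = N63740 := ded_33_1 (flp_i L830762) (flp_c L826432) L831765
theorem L831773 : sm ge N63811 = N63345 := ded_44_1 (flp_i L826458) (flp_e L826434) L831765
theorem L831775 : sm gf N63811 = N63470 := ded_48_1 L828183 (flp_f L826436) L831765
theorem L831777 : sm gg N63811 = N63384 := ded_51_1 L827029 (flp_g L826438) L831765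
theorem L831779 : sm gj N63811 = N63487 := ded_53_1 L828343 (flp_j L826440) L831765
theorem L831781 : sm gh N63811 = N63394 := ded_54_1 L827143 (flp_h L824489) (flp_i L819274) L826426 L831765
theorem L831783 : sm gd N63346 = N63812 := rfl
theorem L831785 : sm ga N63812 = N63347 := ded_12_1 (flp_d L826488) (flp_a L826472) L831783
theorem L831787 : sm gb N63812 = N63441 := ded_20_1 (flp_d L827761) (flp_b L826474) L831783
theorem L831789 : sm gf N63812 = N63472 := ded_35_2 (flp_d L828197) (flp_f L826486) L831783
theorem L831791 : sm gg N63812 = N63519 := ded_36_2 (flp_d L828685) (flp_g L826478) L831783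
theorem L831793 : sm gj N63812 = N63439 := ded_37_2 (flp_d L827734) (flp_j L826480) L831783
theorem L831795 : sm gi N63812 = N63542 := ded_39_2 (flp_d L828920) (flp_i L826484) L831783
theorem L831797 : sm ge N63812 = N63716 := ded_34_2 (flp_d L830594) (flp_e L825008) (flp_d L819390) L826470 L831783
theorem L831799 : sm gh N63812 = N63460 := ded_38_2 (flp_d L828033) L821526 (flp_d L820886) (flp_h L826482) L831783
theorem L831801 : sm gc N63347 = N63813 := rfl
theorem L831803 : sm ge N63813 = N63718 := ded_28_2 (flp_c L830610) (flp_e L826500) L831801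
theorem L831805 : sm gf N63813 = N63473 := ded_29_2 (flp_c L828205) (flp_f L826492) L831801
theorem L831807 : sm gg N63813 = N63521 := ded_30_2 (flp_c L828713) (flp_g L826494) L831801
theorem L831809 : sm gj N63813 = N63440 := ded_31_2 (flp_c L827748) (flp_j L826496) L831801
theorem L831811 : sm gh N63813 = N63462 := ded_32_2 (flp_c L828059) (flp_h L826502) L831801
theorem L831813 : sm gi N63813 = N63543 := ded_33_2 (flp_c L828934) (flp_i L826498) L831801
theorem L831815 : sm gb N63813 = N63813 := ded_19_1 (flp_c L831801) L826490 L819432 (flp_b L826490) L831801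
theorem L831816 : sm gd N63813 = N63355 := ded_27_2 (flp_c L826623) (flp_d L819571) (flp_c L819408) L826488 L831801
theorem L831818 : sm gc N63348 = N63814 := rfl
theorem L831820 : sm ga N63814 = N63349 := ded_11_1 (flp_c L826522) (flp_a L826506) L831818
theorem L831822 : sm ge N63814 = N63547 := ded_28_2 (flp_c L828984) (flp_e L826518) L831818
theorem L831824 : sm gf N63814 = N63731 := ded_29_2 (flp_c L830704) (flp_f L826510) L831818
theorem L831826 : sm gg N63814 = N63544 := ded_30_2 (flp_c L828945) (flp_g L826512) L831818
theorem L831828 : sm gj N63814 = N63727 := ded_31_2 (flp_c L830675) (flp_j L826514) L831818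
theorem L831830 : sm gh N63814 = N63713 := ded_32_2 (flp_c L830577) (flp_h L826520) L831818
theorem L831832 : sm gi N63814 = N63640 := ded_33_2 L829979 (flp_i L826516) L831818
theorem L831834 : sm gd N63814 = N63559 := ded_27_2 (flp_c L829132) (flp_d L822947) (flp_c L819461) L826504 L831818
theorem L831836 : sm gc N63350 = N63815 := rfl
theorem L831838 : sm ga N63815 = N63351 := ded_11_1 (flp_c L826557) (flp_a L826541) L831836
theorem L831840 : sm ge N63815 = N63714 := ded_28_2 (flp_c L830585) (flp_e L826553) L831836
theorem L831842 : sm gf N63815 = N63611 := ded_29_2 (flp_c L829671) (flp_f L826545) L831836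
theorem L831844 : sm gg N63815 = N63731 := ded_30_2 (flp_c L830704) (flp_g L826547) L831836
theorem L831846 : sm gj N63815 = N63725 := ded_31_2 (flp_c L830666) (flp_j L826549) L831836
theorem L831848 : sm gh N63815 = N63700 := ded_32_2 (flp_c L830497) (flp_h L826555) L831836
theorem L831850 : sm gi N63815 = N63681 := ded_33_2 (flp_c L830326) (flp_i L826551) L831836
theorem L831852 : sm gd N63815 = N63548 := ded_27_2 (flp_c L828996) (flp_d L822785) (flp_c L819495) L826539 L831836
theorem L831854 : sm gc N63352 = N63816 := rfl
theorem L831856 : sm ga N63816 = N63353 := ded_11_1 (flp_c L826592) (flp_a L826576) L831854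
theorem L831858 : sm ge N63816 = N63701 := ded_28_2 (flp_c L830503) (flp_e L826588) L831854
theorem L831860 : sm gf N63816 = N63736 := ded_29_2 (flp_c L830733) (flp_f L826580) L831854
theorem L831862 : sm gg N63816 = N63682 := ded_30_2 (flp_c L830340) (flp_g L826582) L831854
theorem L831864 : sm gj N63816 = N63744 := ded_31_2 (flp_c L830791) (flp_j L826584) L831854
theorem L831866 : sm gh N63816 = N63743 := ded_32_2 (flp_c L830785) (flp_h L826590) L831854
theorem L831868 : sm gi N63816 = N63691 := ded_33_2 (flp_c L830420) (flp_i L826586) L831854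
theorem L831870 : sm gd N63816 = N63577 := ded_27_2 (flp_c L829337) (flp_d L823238) (flp_c L819529) L826574 L831854
theorem L831872 : sm gc N63354 = N63817 := rfl
theorem L831874 : sm ga N63817 = N63355 := ded_11_1 (flp_c L826623) (flp_a L826611) L831872
theorem L831876 : sm ge N63817 = N63665 := ded_28_2 (flp_c L830203) (flp_e L826621) L831872
theorem L831878 : sm gf N63817 = N63724 := ded_29_2 (flp_c L830660) (flp_f L826615) L831872
theorem L831880 : sm gg N63817 = N63529 := ded_30_2 (flp_c L828788) (flp_g L826617) L831872
theorem L831882 : sm gj N63817 = N63683 := ded_31_2 (flp_c L830346) (flp_j L826619) L831872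
theorem L831884 : sm gh N63354 = N63818 := rfl
theorem L831886 : sm ga N63818 = N63356 := ded_17_1 (flp_h L826634) (flp_a L826611) L831884
theorem L831888 : sm gb N63818 = N63429 := ded_25_1 (flp_h L827597) (flp_b L826613) L831884
theorem L831890 : sm ge N63818 = N63632 := ded_43_1 L829909 (flp_e L826621) L831884
theorem L831892 : sm gf N63818 = N63519 := ded_47_1 L828695 (flp_f L826615) L831884
theorem L831894 : sm gg N63818 = N63531 := ded_50_1 (flp_h L828800) (flp_g L826617) L831884
theorem L831896 : sm gj N63818 = N63684 := ded_52_1 (flp_h L830352) (flp_j L826619) L831884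
theorem L831898 : sm gd N63818 = N63520 := ded_38_1 L828707 L822430 (flp_h L819567) L826609 L831884
theorem L831900 : sm gh N63355 = N63819 := rfl
theorem L831902 : sm gb N63819 = N63819 := ded_25_1 (flp_h L831900) L826633 L831900
theorem L831903 : sm gc N63819 = N63356 := ded_32_1 (flp_h L826634) L826623 L831900
theorem L831905 : sm ge N63819 = N63618 := ded_43_1 L829742 (flp_e L826625) L831900
theorem L831907 : sm gf N63819 = N63521 := ded_47_1 L828719 (flp_f L826627) L831900
theorem L831909 : sm gg N63819 = N63533 := ded_50_1 (flp_h L828813) (flp_g L826629) L831900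
theorem L831911 : sm gj N63819 = N63685 := ded_52_1 (flp_h L830362) (flp_j L826631) L831900
theorem L831913 : sm gd N63819 = N63532 := ded_55_2 (flp_f L828808) L822490 (flp_d L824272) L824271 (flp_c L824265) (flp_d L816254) (flp_i L814714) L814712 (flp_d L809847) L809849 (flp_e L807644) L795852 (flp_b L783946) (flp_c L772328) (flp_d L760678) (flp_i L757357) (flp_h L757347) L743369 (flp_f L743395) L743394 (flp_d L751709) L751705 L736488 L728004 (flp_i L709432) L688440 (flp_d L687214) L708504 L708516 L687230 L664986 L382391 L382561 L668348 L690484 L690491 L668855 L383791 L271157 L271154 (flp_c L649725) L671835 L671841 L674471 L674463 L652845 (flp_e L654198) (flp_d L675795) L675793 (flp_c L683903) L683905 (flp_i L661700) L362932 L546939 (flp_f L264482) (flp_e L382381) L612521 L263349 L181293 L124943 (flp_i L180879) L262911 L382561 L382566 L262936 (flp_d L262929) L180897 (flp_c L262803) L382407 L668306 L690456 L690462 (flp_f L690884) (flp_e L711796) L730436 (flp_b L746630) L760046 (flp_d L771681) (flp_i L778206) (flp_h L790251) L790253 (flp_f L790814) L803148 L814166 (flp_b L822675)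 L828934 (flp_d L830868) L830865 L831900
theorem L831915 : sm gi N63356 = N63820 := rfl
theorem L831917 : sm gb N63820 = N63357 := ded_26_1 (flp_i L826648) (flp_b L826636) L831915
theorem L831919 : sm gd N63820 = N63434 := ded_39_1 L827666 (flp_d L826646) L831915
theorem L831921 : sm ge N63820 = N63634 := ded_44_1 (flp_i L829925) (flp_e L826638) L831915
theorem L831923 : sm gf N63820 = N63433 := ded_48_1 L827650 (flp_f L826640) L831915
theorem L831925 : sm gg N63820 = N63535 := ded_51_1 (flp_i L828832) (flp_g L826642) L831915
theorem L831927 : sm gj N63820 = N63686 := ded_53_1 (flp_i L830369) (flp_j L826644) L831915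
theorem L831929 : sm gh N63820 = N63482 := ded_54_1 L830884 (flp_h L830870) L825425 L826634 L831915
theorem L831931 : sm gf N63358 = N63821 := rfl
theorem L831933 : sm ga N63821 = N63359 := ded_14_1 (flp_f L826681) (flp_a L826667) L831931
theorem L831935 : sm gb N63821 = N63475 := ded_22_1 (flp_f L828224) (flp_b L826669) L831931
theorem L831937 : sm gc N63821 = N63370 := ded_29_1 (flp_f L826845) (flp_c L826671) L831931
theorem L831939 : sm gj N63821 = N63381 := ded_46_2 (flp_f L826987) (flp_j L826675) L831931
theorem L831941 : sm gh N63821 = N63600 := ded_47_2 (flp_f L829574) (flp_h L826677) L831931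
theorem L831943 : sm gi N63821 = N63590 := ded_48_2 (flp_f L829455) (flp_i L826679) L831931
theorem L831945 : sm ge N63821 = N63693 := ded_40_1 (flp_f L830438) (flp_e L824767) (flp_f L819624) L826665 L831931
theorem L831947 : sm gd N63360 = N63822 := rfl
theorem L831949 : sm ga N63822 = N63361 := ded_12_1 (flp_d L826711) (flp_a L826697) L831947
theorem L831951 : sm gb N63822 = N63697 := ded_20_1 (flp_d L830470) (flp_b L826699) L831947
theorem L831953 : sm gg N63822 = N63593 := ded_36_2 (flp_d L829495) (flp_g L826703) L831947
theorem L831955 : sm gj N63822 = N63383 := ded_37_2 (flp_d L827009) (flp_j L826705) L831947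
theorem L831957 : sm gi N63822 = N63675 := ded_39_2 L830280 (flp_i L826709) L831947
theorem L831959 : sm ge N63822 = N63408 := ded_34_2 (flp_d L827306) (flp_e L820293) (flp_d L819668) L826695 L831947
theorem L831961 : sm gh N63822 = N63741 := ded_38_2 (flp_d L830770) L825275 (flp_d L819832) (flp_h L826707) L831947
theorem L831963 : sm gf N63360 = N63823 := rfl
theorem L831965 : sm ga N63823 = N63362 := ded_14_1 (flp_f L826725) (flp_a L826697) L831963
theorem L831967 : sm gb N63823 = N63652 := ded_22_1 L830091 (flp_b L826699) L831963
theorem L831969 : sm gc N63823 = N63600 := ded_29_1 (flp_f L829574) (flp_c L826701) L831963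
theorem L831971 : sm gj N63823 = N63384 := ded_46_2 (flp_f L827021) (flp_j L826705) L831963
theorem L831973 : sm gh N63823 = N63370 := ded_47_2 (flp_f L826845) (flp_h L826707) L831963
theorem L831975 : sm gi N63823 = N63538 := ded_48_2 L828880 (flp_i L826709) L831963
theorem L831977 : sm ge N63823 = N63536 := ded_40_1 (flp_f L828842) L822541 (flp_f L819670) L826695 L831963
theorem L831979 : sm gc N63361 = N63824 := rfl
theorem L831981 : sm ge N63824 = N63409 := ded_28_2 (flp_c L827318) (flp_e L826721) L831979
theorem L831983 : sm gg N63824 = N63595 := ded_30_2 (flp_c L829515) (flp_g L826715) L831979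
theorem L831985 : sm gj N63824 = N63385 := ded_31_2 (flp_c L827033) (flp_j L826717) L831979
theorem L831987 : sm gh N63824 = N63742 := ded_32_2 (flp_c L830778) (flp_h L826723) L831979
theorem L831989 : sm gi N63824 = N63677 := ded_33_2 L830293 (flp_i L826719) L831979
theorem L831991 : sm gb N63824 = N63824 := ded_19_1 (flp_c L831979) L826713 L819706 (flp_b L826713) L831979
theorem L831992 : sm gd N63824 = N63601 := ded_27_2 (flp_c L829582) (flp_d L823520) (flp_c L819686) L826711 L831979
theorem L831994 : sm gf N63361 = N63825 := rfl
theorem L831996 : sm gb N63825 = N63363 := ded_22_1 (flp_f L826739) (flp_b L826713) L831994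
theorem L831998 : sm gd N63825 = N63362 := ded_35_1 (flp_f L826725) L826711 L831994
theorem L832000 : sm gj N63825 = N63386 := ded_46_2 (flp_f L827042) (flp_j L826717) L831994
theorem L832002 : sm gh N63825 = N63739 := ded_47_2 L830760 (flp_h L826723) L831994
theorem L832004 : sm gi N63825 = N63534 := ded_48_2 L828830 (flp_i L826719) L831994
theorem L832006 : sm ge N63825 = N63526 := ded_40_1 (flp_f L828761) L822452 (flp_f L820313) (flp_e L826721) L831994
theorem L832008 : sm gg N63362 = N63826 := rfl
theorem L832010 : sm gb N63826 = N63364 := ded_23_1 (flp_g L826754) (flp_b L826727) L832008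
theorem L832012 : sm gc N63826 = N63604 := ded_30_1 (flp_g L829611) (flp_c L826729) L832008
theorem L832014 : sm ge N63826 = N63495 := ded_41_1 L828434 (flp_e L826737) L832008
theorem L832016 : sm gh N63826 = N63371 := ded_50_2 (flp_g L826857) (flp_h L826733) L832008
theorem L832018 : sm gi N63826 = N63540 := ded_51_2 (flp_g L828898) (flp_i L826735) L832008
theorem L832020 : sm gf N63826 = N63382 := ded_45_1 L827005 (flp_f L823434) (flp_g L819688) L826725 L832008
theorem L832022 : sm gj N63826 = N63491 := ded_49_2 (flp_g L828376) (flp_j L826454) L826452 (flp_j L826731) L832008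
theorem L832024 : sm gd N63365 = N63827 := rfl
theorem L832026 : sm ga N63827 = N63366 := ded_12_1 (flp_d L826786) (flp_a L826772) L832024
theorem L832028 : sm gb N63827 = N63708 := ded_20_1 (flp_d L830538) (flp_b L826774) L832024
theorem L832030 : sm gg N63827 = N63695 := ded_36_2 (flp_d L830453) (flp_g L826778) L832024
theorem L832032 : sm gj N63827 = N63388 := ded_37_2 (flp_d L827065) (flp_j L826780) L832024
theorem L832034 : sm gi N63827 = N63687 := ded_39_2 (flp_d L830377) (flp_i L826784) L832024
theorem L832036 : sm ge N63827 = N63376 := ded_34_2 (flp_d L826928) (flp_e L819919) (flp_d L819746) L826770 L832024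
theorem L832038 : sm gh N63827 = N63506 := ded_38_2 (flp_d L828565) L822203 L822529 (flp_h L826782) L832024
theorem L832040 : sm gf N63365 = N63828 := rfl
theorem L832042 : sm ga N63828 = N63367 := ded_14_1 (flp_f L826800) (flp_a L826772) L832040
theorem L832044 : sm gb N63828 = N63629 := ded_22_1 L829869 (flp_b L826774) L832040
theorem L832046 : sm gc N63828 = N63693 := ded_29_1 (flp_f L830438) (flp_c L826776) L832040
theorem L832048 : sm gj N63828 = N63389 := ded_46_2 (flp_f L827077) (flp_j L826780) L832040
theorem L832050 : sm gh N63828 = N63536 := ded_47_2 (flp_f L828842) (flp_h L826782) L832040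
theorem L832052 : sm gi N63828 = N63567 := ded_48_2 L829224 (flp_i L826784) L832040
theorem L832054 : sm ge N63828 = N63370 := ded_40_1 (flp_f L826845) (flp_e L819820) (flp_f L819748) L826770 L832040
theorem L832056 : sm gc N63366 = N63829 := rfl
theorem L832058 : sm ge N63829 = N63377 := ded_28_2 (flp_c L826938) (flp_e L826796) L832056
theorem L832060 : sm gg N63829 = N63696 := ded_30_2 (flp_c L830461) (flp_g L826790) L832056
theorem L832062 : sm gj N63829 = N63390 := ded_31_2 (flp_c L827089) (flp_j L826792) L832056
theorem L832064 : sm gh N63829 = N63508 := ded_32_2 (flp_c L828581) (flp_h L826798) L832056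
theorem L832066 : sm gi N63829 = N63688 := ded_33_2 (flp_c L830389) (flp_i L826794) L832056
theorem L832068 : sm gb N63829 = N63829 := ded_19_1 (flp_c L832056) L826788 L819784 (flp_b L826788) L832056
theorem L832069 : sm gd N63829 = N63694 := ded_27_2 (flp_c L830444) (flp_d L824775) (flp_c L819764) L826786 L832056
theorem L832071 : sm gf N63366 = N63830 := rfl
theorem L832073 : sm gb N63830 = N63368 := ded_22_1 (flp_f L826814) (flp_b L826788) L832071
theorem L832075 : sm gd N63830 = N63367 := ded_35_1 (flp_f L826800) L826786 L832071
theorem L832077 : sm gj N63830 = N63391 := ded_46_2 (flp_f L827098) (flp_j L826792) L832071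
theorem L832079 : sm gh N63830 = N63509 := ded_47_2 (flp_f L828588) (flp_h L826798) L832071
theorem L832081 : sm gi N63830 = N63551 := ded_48_2 L829041 (flp_i L826794) L832071
theorem L832083 : sm ge N63830 = N63663 := ded_40_1 (flp_f L830189) (flp_e L825427) L825419 (flp_e L826796) L832071
theorem L832085 : sm gg N63367 = N63831 := rfl
theorem L832087 : sm gb N63831 = N63369 := ded_23_1 (flp_g L826829) (flp_b L826802) L832085
theorem L832089 : sm gc N63831 = N63650 := ded_30_1 L830073 (flp_c L826804) L832085
theorem L832091 : sm ge N63831 = N63371 := ded_41_1 (flp_g L826857) (flp_e L826812) L832085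
theorem L832093 : sm gh N63831 = N63495 := ded_50_2 L828434 (flp_h L826808) L832085
theorem L832095 : sm gi N63831 = N63566 := ded_51_2 L829214 (flp_i L826810) L832085
theorem L832097 : sm gf N63831 = N63598 := ded_45_1 L829558 L823867 (flp_g L819766) L826800 L832085
theorem L832099 : sm gj N63831 = N63483 := ded_49_2 (flp_g L828295) (flp_j L826096) L826094 (flp_j L826806) L832085
theorem L832101 : sm gg N63370 = N63832 := rfl
theorem L832103 : sm ga N63832 = N63371 := ded_15_1 (flp_g L826857) (flp_a L826847) L832101
theorem L832105 : sm gb N63832 = N63711 := ded_23_1 (flp_g L830565) (flp_b L826849) L832101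
theorem L832107 : sm gd N63832 = N63381 := ded_36_1 L826995 (flp_d L826851) L832101
theorem L832109 : sm gi N63832 = N63689 := ded_51_2 (flp_g L830398) (flp_i L826855) L832101
theorem L832111 : sm gf N63832 = N63380 := ded_45_1 L826981 L824744 (flp_g L819826) L826845 L832101
theorem L832113 : sm gd N63372 = N63833 := rfl
theorem L832115 : sm ga N63833 = N63373 := ded_12_1 (flp_d L826883) (flp_a L826869) L832113
theorem L832117 : sm gb N63833 = N63506 := ded_20_1 (flp_d L828565) (flp_b L826871) L832113
theorem L832119 : sm gg N63833 = N63376 := ded_36_2 (flp_d L826928) (flp_g L826875) L832113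
theorem L832121 : sm gj N63833 = N63620 := ded_37_2 (flp_d L829751) (flp_j L826877) L832113
theorem L832123 : sm gi N63833 = N63460 := ded_39_2 (flp_d L828033) (flp_i L826881) L832113
theorem L832125 : sm ge N63833 = N63695 := ded_34_2 (flp_d L830453) (flp_e L824799) (flp_d L819860) L826867 L832113
theorem L832127 : sm gh N63833 = N63708 := ded_38_2 (flp_d L830538) L824918 (flp_d L820349) (flp_h L826879) L832113
theorem L832129 : sm gf N63372 = N63834 := rfl
theorem L832131 : sm ga N63834 = N63374 := ded_14_1 (flp_f L826897) (flp_a L826869) L832129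
theorem L832133 : sm gb N63834 = N63507 := ded_22_1 (flp_f L828573) (flp_b L826871) L832129
theorem L832135 : sm gc N63834 = N63541 := ded_29_1 L828916 (flp_c L826873) L832129
theorem L832137 : sm gj N63834 = N63515 := ded_46_2 L828646 (flp_j L826877) L832129
theorem L832139 : sm gh N63834 = N63410 := ded_47_2 (flp_f L827329) (flp_h L826879) L832129
theorem L832141 : sm gi N63834 = N63461 := ded_48_2 (flp_f L828043) (flp_i L826881) L832129
theorem L832143 : sm ge N63834 = N63537 := ded_40_1 L828864 (flp_e L823735) (flp_f L819862) L826867 L832129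
theorem L832145 : sm gg N63834 = N63524 := ded_45_2 (flp_f L828746) (flp_g L825405) L825413 (flp_g L826875) L832129
theorem L832147 : sm gc N63373 = N63835 := rfl
theorem L832149 : sm ge N63835 = N63696 := ded_28_2 (flp_c L830461) (flp_e L826893) L832147
theorem L832151 : sm gg N63835 = N63377 := ded_30_2 (flp_c L826938) (flp_g L826887) L832147
theorem L832153 : sm gj N63835 = N63621 := ded_31_2 (flp_c L829763) (flp_j L826889) L832147
theorem L832155 : sm gh N63835 = N63709 := ded_32_2 (flp_c L830548) (flp_h L826895) L832147
theorem L832157 : sm gi N63835 = N63462 := ded_33_2 (flp_c L828059) (flp_i L826891) L832147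
theorem L832159 : sm gb N63835 = N63835 := ded_19_1 (flp_c L832147) L826885 L819898 (flp_b L826885) L832147
theorem L832160 : sm gd N63835 = N63583 := ded_27_2 (flp_c L829391) (flp_d L823307) (flp_c L819878) L826883 L832147
theorem L832162 : sm gf N63373 = N63836 := rfl
theorem L832164 : sm gb N63836 = N63375 := ded_22_1 (flp_f L826913) (flp_b L826885) L832162
theorem L832166 : sm gd N63836 = N63374 := ded_35_1 (flp_f L826897) L826883 L832162
theorem L832168 : sm gj N63836 = N63499 := ded_46_2 L828471 (flp_j L826889) L832162
theorem L832170 : sm gh N63836 = N63588 := ded_47_2 L829439 (flp_h L826895) L832162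
theorem L832172 : sm gi N63836 = N63463 := ded_48_2 (flp_f L828066) (flp_i L826891) L832162
theorem L832174 : sm gg N63836 = N63526 := ded_45_2 (flp_f L828761) (flp_g L825421) L825419 (flp_g L826887) L832162
theorem L832176 : sm gc N63376 = N63837 := rfl
theorem L832178 : sm ga N63837 = N63377 := ded_11_1 (flp_c L826938) (flp_a L826930) L832176
theorem L832180 : sm gj N63837 = N63395 := ded_31_2 (flp_c L827147) (flp_j L826934) L832176
theorem L832182 : sm gi N63837 = N63724 := ded_33_2 (flp_c L830660) (flp_i L826936) L832176
theorem L832184 : sm gd N63837 = N63585 := ded_27_2 (flp_c L829408) (flp_d L823324) (flp_c L819925) L826928 L832176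
theorem L832186 : sm gh N63376 = N63838 := rfl
theorem L832188 : sm ga N63838 = N63378 := ded_17_1 (flp_h L826947) (flp_a L826930) L832186
theorem L832190 : sm gb N63838 = N63695 := ded_25_1 L830459 (flp_b L826932) L832186
theorem L832192 : sm ge N63838 = N63506 := ded_43_1 (flp_h L832038) L832036 L832186
theorem L832194 : sm gg N63838 = N63708 := ded_50_1 (flp_h L832127) L832119 L832186
theorem L832196 : sm gj N63838 = N63396 := ded_52_1 (flp_h L827157) (flp_j L826934) L832186
theorem L832198 : sm gd N63838 = N63411 := ded_38_1 (flp_h L827343) (flp_d L820363) (flp_h L819929) L826928 L832186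
theorem L832200 : sm gi N63479 = N63838 := ded_18_0 L832188 (flp_i L826959) (flp_a L828270)
theorem L832202 : sm gh N63377 = N63839 := rfl
theorem L832204 : sm gb N63839 = N63839 := ded_25_1 (flp_h L832202) L826944 L832202
theorem L832205 : sm gc N63839 = N63378 := ded_32_1 (flp_h L826947) L826938 L832202
theorem L832207 : sm ge N63839 = N63508 := ded_43_1 (flp_h L832064) L832058 L832202
theorem L832209 : sm gg N63839 = N63709 := ded_50_1 (flp_h L832155) L832151 L832202
theorem L832211 : sm gj N63839 = N63397 := ded_52_1 (flp_h L827167) (flp_j L826940) L832202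
theorem L832213 : sm gi N63481 = N63839 := ded_55_0 (flp_h L832202) L826945 (flp_f L828938) L828936 (flp_d L828514) L828513 (flp_c L828505) (flp_d L822125) (flp_i L822109) L822107 (flp_d L819041) (flp_f L819043) (flp_e L820058) (flp_d L827046) L827044 L820064 L820065 L810553 (flp_h L804164) (flp_d L791949) L779721 (flp_e L772609) L760949 L760975 (flp_c L771115) (flp_d L782662) L782668 (flp_h L783035) (flp_d L793988) L793990 L781747 (flp_d L782715) (flp_b L782713) (flp_c L771127) (flp_d L759445) (flp_i L759230) (flp_h L759222) (flp_d L759217) (flp_f L763553) L763551 L750794 L750790 L735560 L717984 (flp_i L698493) (flp_h L677187) L655437 L651180 (flp_e L653574) L653572 L355573 L248324 L171167 (flp_i L247859) L360253 L659053 L659057 (flp_e L657996) (flp_d L657982) L614344 L247494 L359721 L658335 L680340 L680351 (flp_f L697576) (flp_e L697561) (flp_d L676308) (flp_b L676300) (flp_c L697391) L716995 L717005 (flp_h L734389) (flp_d L734375) (flp_f L734191) (flp_e L749616) L762494 L762498 L762594 L762600 (flp_i L762265) (flp_h L773599) (flp_d L785168) (flp_f L797116) L808593 L818323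 (flp_b L825619) L831095 L831106
theorem L832215 : sm gd N63659 = N63839 := ded_27_0 L832205 L826957 L820383 L824284 L830159
theorem L832217 : sm gh N63380 = N63840 := rfl
theorem L832219 : sm ga N63840 = N63382 := ded_17_1 (flp_h L826997) (flp_a L826979) L832217
theorem L832221 : sm gc N63840 = N63608 := ded_32_1 L830902 L830898 L832217
theorem L832223 : sm ge N63840 = N63597 := ded_43_1 (flp_h L829538) (flp_e L826985) L832217
theorem L832225 : sm gg N63840 = N63594 := ded_50_1 L829511 (flp_g L826981) L832217
theorem L832227 : sm gj N63840 = N63680 := ded_52_1 (flp_h L831563) L831567 L832217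
theorem L832229 : sm gc N63383 = N63841 := rfl
theorem L832231 : sm ga N63841 = N63385 := ded_11_1 (flp_c L827033) (flp_a L827011) L832229
theorem L832233 : sm ge N63841 = N63416 := ded_28_2 (flp_c L827429) (flp_e L827019) L832229
theorem L832235 : sm gg N63841 = N63691 := ded_30_2 (flp_c L830420) (flp_g L827015) L832229
theorem L832237 : sm gi N63841 = N63682 := ded_33_2 (flp_c L830340) (flp_i L827017) L832229
theorem L832239 : sm gf N63383 = N63842 := rfl
theorem L832241 : sm ga N63842 = N63386 := ded_14_1 (flp_f L827042) (flp_a L827011) L832239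
theorem L832243 : sm gb N63842 = N63676 := ded_22_1 L830288 (flp_b L827013) L832239
theorem L832245 : sm gd N63842 = N63384 := ded_35_1 (flp_f L827021) L827009 L832239
theorem L832247 : sm gi N63842 = N63578 := ded_48_2 L829349 (flp_i L827017) L832239
theorem L832249 : sm gf N63385 = N63843 := rfl
theorem L832251 : sm gb N63843 = N63843 := ded_22_1 (flp_f L832249) L827041 L832249
theorem L832252 : sm gc N63843 = N63386 := ded_29_1 (flp_f L827042) L827033 L832249
theorem L832254 : sm gi N63843 = N63579 := ded_48_2 L829358 (flp_i L827039) L832249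
theorem L832256 : sm ge N63386 = N63844 := rfl
theorem L832258 : sm gb N63844 = N63387 := ded_21_1 (flp_e L827050) (flp_b L827044) L832256
theorem L832260 : sm gg N63844 = N63431 := ded_41_2 (flp_e L831737) L831741 L832256
theorem L832262 : sm gj N63844 = N63526 := ded_42_2 (flp_e L832006) L832000 L832256
theorem L832264 : sm gi N63844 = N63427 := ded_44_2 L827577 (flp_i L827048) L832256
theorem L832266 : sm gd N63844 = N63468 := ded_34_1 L828145 L821753 (flp_e L820058) (flp_d L827046) L832256
theorem L832268 : sm gf N63844 = N63419 := ded_40_2 (flp_e L827462) (flp_f L820490) (flp_e L820048) L827042 L832256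
theorem L832270 : sm gc N63388 = N63845 := rfl
theorem L832272 : sm ga N63845 = N63390 := ded_11_1 (flp_c L827089) (flp_a L827067) L832270
theorem L832274 : sm ge N63845 = N63395 := ded_28_2 (flp_c L827147) (flp_e L827075) L832270
theorem L832276 : sm gg N63845 = N63734 := ded_30_2 (flp_c L830720) (flp_g L827071) L832270
theorem L832278 : sm gi N63845 = N63690 := ded_33_2 (flp_c L830410) (flp_i L827073) L832270
theorem L832280 : sm gf N63388 = N63846 := rfl
theorem L832282 : sm ga N63846 = N63391 := ded_14_1 (flp_f L827098) (flp_a L827067) L832280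
theorem L832284 : sm gb N63846 = N63617 := ded_22_1 L829731 (flp_b L827069) L832280
theorem L832286 : sm gd N63846 = N63389 := ded_35_1 (flp_f L827077) L827065 L832280
theorem L832288 : sm gi N63846 = N63560 := ded_48_2 L829144 (flp_i L827073) L832280
theorem L832290 : sm gh N63388 = N63847 := rfl
theorem L832292 : sm ga N63847 = N63392 := ded_17_1 (flp_h L827106) (flp_a L827067) L832290
theorem L832294 : sm gb N63847 = N63620 := ded_25_1 L829761 (flp_b L827069) L832290
theorem L832296 : sm ge N63847 = N63396 := ded_43_1 (flp_h L827157) (flp_e L827075) L832290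
theorem L832298 : sm gg N63847 = N63562 := ded_50_1 L829169 (flp_g L827071) L832290
theorem L832300 : sm gj N63847 = N63506 := ded_52_1 (flp_h L832038) L832032 L832290
theorem L832302 : sm gd N63847 = N63500 := ded_38_1 L828489 (flp_d L826218) L826214 L827065 L832290
theorem L832304 : sm gi N63847 = N63501 := ded_54_2 L828503 L825159 (flp_h L824729) (flp_i L827073) L832290
theorem L832306 : sm gf N63390 = N63848 := rfl
theorem L832308 : sm gb N63848 = N63848 := ded_22_1 (flp_f L832306) L827097 L832306
theorem L832309 : sm gc N63848 = N63391 := ded_29_1 (flp_f L827098) L827089 L832306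
theorem L832311 : sm gi N63848 = N63561 := ded_48_2 L829153 (flp_i L827095) L832306
theorem L832313 : sm gh N63390 = N63849 := rfl
theorem L832315 : sm gb N63849 = N63849 := ded_25_1 (flp_h L832313) L827097 L832313
theorem L832316 : sm gc N63849 = N63392 := ded_32_1 (flp_h L827106) L827089 L832313
theorem L832318 : sm ge N63849 = N63397 := ded_43_1 (flp_h L827167) (flp_e L827091) L832313
theorem L832320 : sm gg N63849 = N63563 := ded_50_1 L829179 (flp_g L827093) L832313
theorem L832322 : sm gj N63849 = N63508 := ded_52_1 (flp_h L832064) L832062 L832313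
theorem L832324 : sm gi N63849 = N63502 := ded_54_2 L828511 L825165 (flp_h L824737) (flp_i L827095) L832313
theorem L832326 : sm gd N63718 = N63849 := ded_27_0 L832316 L827116 L822101 L825018 L830610
theorem L832328 : sm gh N63391 = N63850 := rfl
theorem L832330 : sm gb N63850 = N63393 := ded_25_1 (flp_h L827120) (flp_b L827100) L832328
theorem L832332 : sm gf N63850 = N63392 := ded_47_1 (flp_h L827106) L827098 L832328
theorem L832334 : sm gg N63850 = N63686 := ded_50_1 (flp_h L831241) L831237 L832328
theorem L832336 : sm gj N63850 = N63509 := ded_52_1 (flp_h L832079) L832077 L832328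
theorem L832338 : sm gd N63850 = N63466 := ded_38_1 L828121 L821753 (flp_h L820093) (flp_d L827102) L832328
theorem L832340 : sm gi N63850 = N63459 := ded_54_2 (flp_h L828021) L821483 L822960 (flp_i L827104) L832328
theorem L832342 : sm gb N63395 = N63851 := rfl
theorem L832344 : sm gd N63851 = N63615 := ded_20_2 (flp_b L829714) (flp_d L827155) L832342
theorem L832346 : sm gg N63851 = N63735 := ded_23_2 (flp_b L830728) (flp_g L827151) L832342
theorem L832348 : sm gi N63851 = N63747 := ded_26_2 (flp_b L830805) (flp_i L827153) L832342
theorem L832350 : sm ga N63851 = N63851 := ded_10_1 (flp_b L832342) L827149 L820155 (flp_a L827149) L832342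
theorem L832351 : sm gh N63395 = N63852 := rfl
theorem L832353 : sm ga N63852 = N63397 := ded_17_1 (flp_h L827167) (flp_a L827149) L832351
theorem L832355 : sm gc N63852 = N63396 := ded_32_1 (flp_h L827157) L827147 L832351
theorem L832357 : sm gg N63852 = N63656 := ded_50_1 L830133 (flp_g L827151) L832351
theorem L832359 : sm gd N63665 = N63852 := ded_12_0 L832353 (flp_d L827174) (flp_a L830205)
theorem L832361 : sm gi N63396 = N63853 := rfl
theorem L832363 : sm ga N63853 = N63398 := ded_18_1 (flp_i L827176) (flp_a L827159) L832361
theorem L832365 : sm gb N63853 = N63635 := ded_26_1 L829941 (flp_b L827161) L832361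
theorem L832367 : sm gd N63853 = N63420 := ded_39_1 (flp_i L827474) (flp_d L827165) L832361
theorem L832369 : sm ge N63853 = N63501 := ded_44_1 (flp_i L832304) L832296 L832361
theorem L832371 : sm gg N63853 = N63568 := ded_51_1 L829238 (flp_g L827163) L832361
theorem L832373 : sm gj N63853 = N63479 := ded_53_1 L832200 L832196 L832361
theorem L832375 : sm gh N63853 = N63720 := ded_54_1 L830629 L825085 (flp_i L820147) L827157 L832361
theorem L832377 : sm gi N63397 = N63854 := rfl
theorem L832379 : sm gb N63854 = N63854 := ded_26_1 (flp_i L832377) L827169 L832377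
theorem L832380 : sm gc N63854 = N63398 := ded_33_1 (flp_i L827176) (flp_c L827170) L832377
theorem L832382 : sm gd N63854 = N63662 := ded_39_1 L830186 L827174 L832377
theorem L832384 : sm ge N63854 = N63502 := ded_44_1 (flp_i L832324) L832318 L832377
theorem L832386 : sm gg N63854 = N63569 := ded_51_1 L829254 (flp_g L827172) L832377
theorem L832388 : sm gj N63854 = N63481 := ded_53_1 L832213 L832211 L832377
theorem L832390 : sm gh N63854 = N63722 := ded_54_1 L830647 L825101 (flp_i L820153) L827167 L832377
theorem L832392 : sm gd N63399 = N63855 := rfl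
theorem L832394 : sm ga N63855 = N63400 := ded_12_1 (flp_d L827206) (flp_a L827192) L832392
theorem L832396 : sm gb N63855 = N63523 := ded_20_1 (flp_d L828738) (flp_b L827194) L832392
theorem L832398 : sm gg N63855 = N63404 := ded_36_2 (flp_d L827262) (flp_g L827198) L832392
theorem L832400 : sm gj N63855 = N63582 := ded_37_2 (flp_d L829383) (flp_j L827200) L832392
theorem L832402 : sm gi N63855 = N63423 := ded_39_2 (flp_d L827524) (flp_i L827204) L832392
theorem L832404 : sm ge N63855 = N63574 := ded_34_2 (flp_d L829304) (flp_e L823201) (flp_d L820185) L827190 L832392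
theorem L832406 : sm gf N63399 = N63856 := rfl
theorem L832408 : sm ga N63856 = N63401 := ded_14_1 (flp_f L827218) (flp_a L827192) L832406
theorem L832410 : sm gb N63856 = N63524 := ded_22_1 (flp_f L828746) (flp_b L827194) L832406
theorem L832412 : sm gc N63856 = N63515 := ded_29_1 L828646 (flp_c L827196) L832406
theorem L832414 : sm gj N63856 = N63541 := ded_46_2 L828916 (flp_j L827200) L832406
theorem L832416 : sm gh N63856 = N63537 := ded_47_2 L828864 (flp_h L827202) L832406
theorem L832418 : sm gi N63856 = N63424 := ded_48_2 (flp_f L827534) (flp_i L827204) L832406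
theorem L832420 : sm ge N63856 = N63410 := ded_40_1 (flp_f L827329) (flp_e L820335) (flp_f L820187) L827190 L832406
theorem L832422 : sm gg N63856 = N63507 := ded_45_2 (flp_f L828573) L822201 (flp_f L820254) (flp_g L827198) L832406
theorem L832424 : sm gc N63400 = N63857 := rfl
theorem L832426 : sm ge N63857 = N63575 := ded_28_2 (flp_c L829316) (flp_e L827216) L832424
theorem L832428 : sm gg N63857 = N63405 := ded_30_2 (flp_c L827272) (flp_g L827210) L832424
theorem L832430 : sm gj N63857 = N63583 := ded_31_2 (flp_c L829391) (flp_j L827212) L832424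
theorem L832432 : sm gi N63857 = N63425 := ded_33_2 (flp_c L827550) (flp_i L827214) L832424
theorem L832434 : sm gb N63857 = N63857 := ded_19_1 (flp_c L832424) L827208 L820223 (flp_b L827208) L832424
theorem L832435 : sm gd N63857 = N63621 := ded_27_2 (flp_c L829763) (flp_d L823692) (flp_c L820203) L827206 L832424
theorem L832437 : sm gf N63400 = N63858 := rfl
theorem L832439 : sm gb N63858 = N63402 := ded_22_1 (flp_f L827234) (flp_b L827208) L832437
theorem L832441 : sm gd N63858 = N63401 := ded_35_1 (flp_f L827218) L827206 L832437
theorem L832443 : sm gj N63858 = N63535 := ded_46_2 L828840 (flp_j L827212) L832437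
theorem L832445 : sm gi N63858 = N63426 := ded_48_2 (flp_f L827559) (flp_i L827214) L832437
theorem L832447 : sm ge N63858 = N63646 := ded_40_1 L830035 L824835 (flp_f L823221) (flp_e L827216) L832437
theorem L832449 : sm gg N63858 = N63509 := ded_45_2 (flp_f L828588) L822211 (flp_f L820260) (flp_g L827210) L832437
theorem L832451 : sm gh N63400 = N63859 := rfl
theorem L832453 : sm gb N63859 = N63403 := ded_25_1 (flp_h L827249) (flp_b L827208) L832451
theorem L832455 : sm ge N63859 = N63576 := ded_43_1 (flp_h L829327) (flp_e L827216) L832451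
theorem L832457 : sm gg N63859 = N63406 := ded_50_1 (flp_h L827283) (flp_g L827210) L832451
theorem L832459 : sm gj N63859 = N63584 := ded_52_1 (flp_h L829398) (flp_j L827212) L832451
theorem L832461 : sm gd N63859 = N63598 := ded_38_1 L829562 (flp_d L823747) (flp_h L820209) L827206 L832451
theorem L832463 : sm gc N63404 = N63860 := rfl
theorem L832465 : sm ga N63860 = N63405 := ded_11_1 (flp_c L827272) (flp_a L827264) L832463
theorem L832467 : sm gf N63860 = N63725 := ded_29_2 (flp_c L830666) (flp_f L827266) L832463
theorem L832469 : sm gj N63860 = N63611 := ded_31_2 (flp_c L829671) (flp_j L827268) L832463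
theorem L832471 : sm gi N63860 = N63428 := ded_33_2 (flp_c L827587) (flp_i L827270) L832463
theorem L832473 : sm gd N63860 = N63622 := ded_27_2 (flp_c L829774) (flp_d L823704) (flp_c L820246) L827262 L832463
theorem L832475 : sm gh N63404 = N63861 := rfl
theorem L832477 : sm ga N63861 = N63406 := ded_17_1 (flp_h L827283) (flp_a L827264) L832475
theorem L832479 : sm gf N63861 = N63695 := ded_47_1 L830459 (flp_f L827266) L832475
theorem L832481 : sm gj N63861 = N63612 := ded_52_1 (flp_h L829681) (flp_j L827268) L832475
theorem L832483 : sm gd N63861 = N63630 := ded_38_1 (flp_h L829875) (flp_d L823845) (flp_h L820250) L827262 L832475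
theorem L832485 : sm gh N63405 = N63862 := rfl
theorem L832487 : sm gb N63862 = N63862 := ded_25_1 (flp_h L832485) L827280 L832485
theorem L832488 : sm gc N63862 = N63406 := ded_32_1 (flp_h L827283) L827272 L832485
theorem L832490 : sm gf N63862 = N63696 := ded_47_1 L830465 (flp_f L827274) L832485
theorem L832492 : sm gj N63862 = N63613 := ded_52_1 (flp_h L829691) (flp_j L827276) L832485
theorem L832494 : sm gd N63862 = N63645 := ded_38_1 (flp_h L830020) L829815 (flp_h L829800) (flp_d L827281) L832485
theorem L832496 : sm gi N63406 = N63863 := rfl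
theorem L832498 : sm gb N63863 = N63407 := ded_26_1 (flp_i L827293) (flp_b L827285) L832496
theorem L832500 : sm gd N63863 = N63447 := ded_39_1 L827864 (flp_d L827291) L832496
theorem L832502 : sm gf N63863 = N63446 := ded_48_1 L827848 (flp_f L827287) L832496
theorem L832504 : sm gj N63863 = N63614 := ded_53_1 (flp_i L829702) (flp_j L827289) L832496
theorem L832506 : sm gh N63863 = N63431 := ded_54_1 (flp_i L827616) (flp_h L820693) (flp_i L820264) L827283 L832496
theorem L832508 : sm gc N63408 = N63864 := rfl
theorem L832510 : sm ga N63864 = N63409 := ded_11_1 (flp_c L827318) (flp_a L827308) L832508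
theorem L832512 : sm gf N63864 = N63668 := ded_29_2 (flp_c L830224) (flp_f L827312) L832508
theorem L832514 : sm gj N63864 = N63416 := ded_31_2 (flp_c L827429) (flp_j L827314) L832508
theorem L832516 : sm gi N63864 = N63673 := ded_33_2 L830256 (flp_i L827316) L832508
theorem L832518 : sm gd N63864 = N63734 := ded_27_2 (flp_c L830720) (flp_d L825210) (flp_c L820299) L827306 L832508
theorem L832520 : sm gc N63412 = N63865 := rfl
theorem L832522 : sm ga N63865 = N63413 := ded_11_1 (flp_c L827377) (flp_a L827361) L832520
theorem L832524 : sm ge N63865 = N63622 := ded_28_2 (flp_c L829774) (flp_e L827373) L832520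
theorem L832526 : sm gf N63865 = N63713 := ded_29_2 (flp_c L830577) (flp_f L827365) L832520
theorem L832528 : sm gg N63865 = N63700 := ded_30_2 (flp_c L830497) (flp_g L827367) L832520
theorem L832530 : sm gj N63865 = N63734 := ded_31_2 (flp_c L830720) (flp_j L827369) L832520
theorem L832532 : sm gh N63865 = N63731 := ded_32_2 (flp_c L830704) (flp_h L827375) L832520
theorem L832534 : sm gi N63865 = N63637 := ded_33_2 (flp_c L829956) (flp_i L827371) L832520
theorem L832536 : sm gd N63865 = N63416 := ded_27_2 (flp_c L827429) (flp_d L820461) (flp_c L820399) L827359 L832520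
theorem L832538 : sm gc N63414 = N63866 := rfl
theorem L832540 : sm ga N63866 = N63415 := ded_11_1 (flp_c L827412) (flp_a L827396) L832538
theorem L832542 : sm ge N63866 = N63682 := ded_28_2 (flp_c L830340) (flp_e L827408) L832538
theorem L832544 : sm gf N63866 = N63643 := ded_29_2 (flp_c L830004) (flp_f L827400) L832538
theorem L832546 : sm gg N63866 = N63701 := ded_30_2 (flp_c L830503) (flp_g L827402) L832538
theorem L832548 : sm gj N63866 = N63673 := ded_31_2 L830256 (flp_j L827404) L832538
theorem L832550 : sm gh N63866 = N63699 := ded_32_2 (flp_c L830489) (flp_h L827410) L832538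
theorem L832552 : sm gi N63866 = N63416 := ded_33_2 (flp_c L827429) (flp_i L827406) L832538
theorem L832554 : sm gd N63866 = N63637 := ded_27_2 (flp_c L829956) (flp_d L823974) (flp_c L820433) L827394 L832538
theorem L832556 : sm gb N63416 = N63867 := rfl
theorem L832558 : sm gg N63867 = N63702 := ded_23_2 (flp_b L830509) (flp_g L827433) L832556
theorem L832560 : sm ga N63867 = N63867 := ded_10_1 (flp_b L832556) L827431 L820489 (flp_a L827431) L832556
theorem L832561 : sm gf N63416 = N63868 := rfl
theorem L832563 : sm ga N63868 = N63418 := ded_14_1 (flp_f L827449) (flp_a L827431) L832561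
theorem L832565 : sm gc N63868 = N63417 := ded_29_1 (flp_f L827435) L827429 L832561
theorem L832567 : sm gd N63868 = N63713 := ded_35_1 (flp_f L832526) L832536 L832561
theorem L832569 : sm gj N63868 = N63668 := ded_46_2 (flp_f L832512) L832514 L832561
theorem L832571 : sm gi N63868 = N63643 := ded_48_2 (flp_f L832544) L832552 L832561
theorem L832573 : sm gg N63712 = N63868 := ded_15_0 L832563 (flp_g L827460) (flp_a L830573)
theorem L832575 : sm ge N63417 = N63869 := rfl
theorem L832577 : sm ga N63869 = N63419 := ded_13_1 (flp_e L827462) (flp_a L827437) L832575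
theorem L832579 : sm gb N63869 = N63582 := ded_21_1 L829389 (flp_b L827439) L832575
theorem L832581 : sm gg N63869 = N63549 := ded_41_2 L829020 L827447 L832575
theorem L832583 : sm gj N63869 = N63523 := ded_42_2 L828744 (flp_j L827443) L832575
theorem L832585 : sm gi N63869 = N63517 := ded_44_2 L828672 (flp_i L827445) L832575
theorem L832587 : sm gd N63869 = N63516 := ded_34_1 (flp_e L828650) L822284 (flp_e L820481) (flp_d L827441) L832575
theorem L832589 : sm ge N63418 = N63870 := rfl
theorem L832591 : sm gb N63870 = N63870 := ded_21_1 (flp_e L832589) L827451 L832589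
theorem L832592 : sm gc N63870 = N63419 := ded_28_1 (flp_e L827462) (flp_c L827452) L832589
theorem L832594 : sm gg N63870 = N63550 := ded_41_2 L829024 L827460 L832589
theorem L832596 : sm gj N63870 = N63525 := ded_42_2 L828756 (flp_j L827456) L832589
theorem L832598 : sm gi N63870 = N63518 := ded_44_2 L828676 (flp_i L827458) L832589
theorem L832600 : sm gd N63870 = N63722 := ded_34_1 L830643 L825168 (flp_e L824988) (flp_d L827454) L832589
theorem L832602 : sm gd N63421 = N63871 := rfl
theorem L832604 : sm ga N63871 = N63422 := ded_12_1 (flp_d L827508) (flp_a L827492) L832602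
theorem L832606 : sm gb N63871 = N63517 := ded_20_1 (flp_d L828666) (flp_b L827494) L832602
theorem L832608 : sm gf N63871 = N63531 := ded_35_2 L828806 (flp_f L827506) L832602
theorem L832610 : sm gg N63871 = N63472 := ded_36_2 (flp_d L828197) (flp_g L827498) L832602
theorem L832612 : sm gj N63871 = N63423 := ded_37_2 (flp_d L827524) (flp_j L827500) L832602
theorem L832614 : sm gi N63871 = N63582 := ded_39_2 (flp_d L829383) (flp_i L827504) L832602
theorem L832616 : sm ge N63871 = N63571 := ded_34_2 (flp_d L829269) (flp_e L823121) (flp_d L820565) L827490 L832602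
theorem L832618 : sm gh N63871 = N63530 := ded_38_2 L828798 L822484 (flp_d L821512) (flp_h L827502) L832602
theorem L832620 : sm gc N63422 = N63872 := rfl
theorem L832622 : sm ge N63872 = N63572 := ded_28_2 (flp_c L829281) (flp_e L827520) L832620
theorem L832624 : sm gf N63872 = N63533 := ded_29_2 L828816 (flp_f L827512) L832620
theorem L832626 : sm gg N63872 = N63473 := ded_30_2 (flp_c L828205) (flp_g L827514) L832620
theorem L832628 : sm gj N63872 = N63425 := ded_31_2 (flp_c L827550) (flp_j L827516) L832620
theorem L832630 : sm gh N63872 = N63532 := ded_32_2 L828811 (flp_h L827522) L832620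
theorem L832632 : sm gi N63872 = N63583 := ded_33_2 (flp_c L829391) (flp_i L827518) L832620
theorem L832634 : sm gb N63872 = N63872 := ded_19_1 (flp_c L832620) L827510 L820607 (flp_b L827510) L832620
theorem L832635 : sm gd N63872 = N63462 := ded_27_2 (flp_c L828059) (flp_d L821528) (flp_c L820583) L827508 L832620
theorem L832637 : sm gc N63423 = N63873 := rfl
theorem L832639 : sm ga N63873 = N63425 := ded_11_1 (flp_c L827550) (flp_a L827526) L832637
theorem L832641 : sm ge N63873 = N63577 := ded_28_2 (flp_c L829337) (flp_e L827532) L832637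
theorem L832643 : sm gg N63873 = N63428 := ded_30_2 (flp_c L827587) (flp_g L827530) L832637
theorem L832645 : sm gd N63873 = N63638 := ded_27_2 (flp_c L829964) (flp_d L824007) (flp_c L820618) L827524 L832637
theorem L832647 : sm gf N63423 = N63874 := rfl
theorem L832649 : sm ga N63874 = N63426 := ded_14_1 (flp_f L827559) (flp_a L827526) L832647
theorem L832651 : sm gb N63874 = N63530 := ded_22_1 (flp_f L828794) (flp_b L827528) L832647
theorem L832653 : sm gd N63874 = N63424 := ded_35_1 (flp_f L827534) L827524 L832647
theorem L832655 : sm gj N63874 = N63531 := ded_46_2 (flp_f L832608) L832612 L832647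
theorem L832657 : sm ge N63874 = N63644 := ded_40_1 L830014 L824843 (flp_f L823244) (flp_e L827532) L832647
theorem L832659 : sm gg N63874 = N63512 := ded_45_2 (flp_f L828615) L822234 (flp_f L820680) (flp_g L827530) L832647
theorem L832661 : sm gh N63517 = N63874 := ded_17_0 L832649 (flp_h L827571) (flp_a L828668)
theorem L832663 : sm gh N63423 = N63875 := rfl
theorem L832665 : sm ga N63875 = N63427 := ded_17_1 (flp_h L827573) (flp_a L827526) L832663
theorem L832667 : sm gb N63875 = N63531 := ded_25_1 (flp_h L828800) (flp_b L827528) L832663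
theorem L832669 : sm ge N63875 = N63578 := ded_43_1 (flp_h L829343) (flp_e L827532) L832663
theorem L832671 : sm gf N63875 = N63517 := ded_47_1 L832661 (flp_f L832647) L832663
theorem L832673 : sm gg N63875 = N63429 := ded_50_1 (flp_h L827597) (flp_g L827530) L832663
theorem L832675 : sm gj N63875 = N63530 := ded_52_1 (flp_h L832618) L832612 L832663
theorem L832677 : sm gd N63875 = N63467 := ded_38_1 (flp_h L828123) (flp_d L821667) (flp_h L820622) L827524 L832663
theorem L832679 : sm gf N63425 = N63876 := rfl
theorem L832681 : sm gb N63876 = N63876 := ded_22_1 (flp_f L832679) L827556 L832679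
theorem L832682 : sm gc N63876 = N63426 := ded_29_1 (flp_f L827559) L827550 L832679
theorem L832684 : sm gd N63876 = N63498 := ded_35_1 L828461 (flp_d L827557) L832679
theorem L832686 : sm gj N63876 = N63533 := ded_46_2 (flp_f L832624) L832628 L832679
theorem L832688 : sm ge N63876 = N63645 := ded_40_1 L830025 L824847 (flp_f L823248) (flp_e L827552) L832679
theorem L832690 : sm gg N63876 = N63513 := ded_45_2 (flp_f L828621) L822244 (flp_f L820686) (flp_g L827554) L832679
theorem L832692 : sm gh N63518 = N63876 := ded_32_0 L832682 (flp_h L827571) L828674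
theorem L832694 : sm gh N63425 = N63877 := rfl
theorem L832696 : sm gb N63877 = N63877 := ded_25_1 (flp_h L832694) L827556 L832694
theorem L832697 : sm gc N63877 = N63427 := ded_32_1 (flp_h L827573) L827550 L832694
theorem L832699 : sm ge N63877 = N63579 := ded_43_1 (flp_h L829353) (flp_e L827552) L832694
theorem L832701 : sm gf N63877 = N63518 := ded_47_1 L832692 (flp_f L832679) L832694
theorem L832703 : sm gg N63877 = N63430 := ded_50_1 (flp_h L827607) (flp_g L827554) L832694
theorem L832705 : sm gj N63877 = N63532 := ded_52_1 (flp_h L832630) L832628 L832694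
theorem L832707 : sm gd N63877 = N63685 := ded_38_1 (flp_h L830362) (flp_d L827759) L827754 (flp_d L827557) L832694
theorem L832709 : sm gb N63428 = N63878 := rfl
theorem L832711 : sm gd N63878 = N63639 := ded_20_2 (flp_b L829970) (flp_d L827595) L832709
theorem L832713 : sm gf N63878 = N63726 := ded_22_2 (flp_b L830672) (flp_f L827591) L832709
theorem L832715 : sm gj N63878 = N63704 := ded_24_2 (flp_b L830518) (flp_j L827593) L832709
theorem L832717 : sm ga N63878 = N63878 := ded_10_1 (flp_b L832709) L827589 L820690 (flp_a L827589) L832709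
theorem L832718 : sm gh N63428 = N63879 := rfl
theorem L832720 : sm ga N63879 = N63430 := ded_17_1 (flp_h L827607) (flp_a L827589) L832718
theorem L832722 : sm gc N63879 = N63429 := ded_32_1 (flp_h L827597) L827587 L832718
theorem L832724 : sm gf N63879 = N63719 := ded_47_1 L830621 (flp_f L827591) L832718
theorem L832726 : sm gj N63879 = N63705 := ded_52_1 (flp_h L830523) (flp_j L827593) L832718
theorem L832728 : sm gi N63429 = N63880 := rfl
theorem L832730 : sm ga N63880 = N63431 := ded_18_1 (flp_i L827616) (flp_a L827599) L832728
theorem L832732 : sm gd N63880 = N63717 := ded_39_1 L830608 (flp_d L827605) L832728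
theorem L832734 : sm gf N63880 = N63716 := ded_48_1 L830600 (flp_f L827601) L832728
theorem L832736 : sm gj N63880 = N63706 := ded_53_1 (flp_i L830529) (flp_j L827603) L832728
theorem L832738 : sm gd N63430 = N63881 := rfl
theorem L832740 : sm gb N63881 = N63881 := ded_20_1 (flp_d L832738) L827609 L832738
theorem L832741 : sm gf N63881 = N63502 := ded_35_2 L828514 (flp_f L827612) L832738
theorem L832743 : sm gg N63881 = N63685 := ded_36_2 (flp_d L832707) L832703 L832738
theorem L832745 : sm gj N63881 = N63513 := ded_37_2 L828626 (flp_j L827614) L832738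
theorem L832747 : sm gc N63881 = N63459 := ded_27_1 L828031 L821603 (flp_d L820701) (flp_c L827610) L832738
theorem L832749 : sm gh N63881 = N63458 := ded_38_2 L828019 (flp_h L824036) (flp_d L820691) L827607 L832738
theorem L832751 : sm gi N63430 = N63882 := rfl
theorem L832753 : sm gb N63882 = N63882 := ded_26_1 (flp_i L832751) L827609 L832751
theorem L832754 : sm gc N63882 = N63431 := ded_33_1 (flp_i L827616) (flp_c L827610) L832751
theorem L832756 : sm gf N63882 = N63718 := ded_48_1 L830614 (flp_f L827612) L832751
theorem L832758 : sm gj N63882 = N63707 := ded_53_1 (flp_i L830533) (flp_j L827614) L832751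
theorem L832760 : sm gd N63432 = N63883 := rfl
theorem L832762 : sm ga N63883 = N63433 := ded_12_1 (flp_d L827642) (flp_a L827628) L832760
theorem L832764 : sm gb N63883 = N63716 := ded_20_1 (flp_d L830594) (flp_b L827630) L832760
theorem L832766 : sm gg N63883 = N63542 := ded_36_2 (flp_d L828920) (flp_g L827634) L832760
theorem L832768 : sm gj N63883 = N63720 := ded_37_2 (flp_d L830623) (flp_j L827636) L832760
theorem L832770 : sm gi N63883 = N63519 := ded_39_2 (flp_d L828685) (flp_i L827640) L832760
theorem L832772 : sm ge N63883 = N63441 := ded_34_2 (flp_d L827761) (flp_e L821110) (flp_d L820914) L827626 L832760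
theorem L832774 : sm gh N63883 = N63479 := ded_38_2 (flp_d L828268) L821928 (flp_d L821050) (flp_h L827638) L832760
theorem L832776 : sm gf N63432 = N63884 := rfl
theorem L832778 : sm ga N63884 = N63434 := ded_14_1 (flp_f L827656) (flp_a L827628) L832776
theorem L832780 : sm gb N63884 = N63717 := ded_22_1 (flp_f L830602) (flp_b L827630) L832776
theorem L832782 : sm gc N63884 = N63524 := ded_29_1 (flp_f L828746) (flp_c L827632) L832776
theorem L832784 : sm gj N63884 = N63721 := ded_46_2 (flp_f L830633) (flp_j L827636) L832776
theorem L832786 : sm gh N63884 = N63438 := ded_47_2 (flp_f L827722) (flp_h L827638) L832776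
theorem L832788 : sm gi N63884 = N63520 := ded_48_2 (flp_f L828697) (flp_i L827640) L832776
theorem L832790 : sm ge N63884 = N63522 := ded_40_1 (flp_f L828724) (flp_e L822380) (flp_f L820916) L827626 L832776
theorem L832792 : sm gg N63884 = N63541 := ded_45_2 L828916 L823303 (flp_f L822671) (flp_g L827634) L832776
theorem L832794 : sm gc N63433 = N63885 := rfl
theorem L832796 : sm ge N63885 = N63443 := ded_28_2 (flp_c L827791) (flp_e L827652) L832794
theorem L832798 : sm gg N63885 = N63543 := ded_30_2 (flp_c L828934) (flp_g L827646) L832794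
theorem L832800 : sm gj N63885 = N63722 := ded_31_2 (flp_c L830641) (flp_j L827648) L832794
theorem L832802 : sm gh N63885 = N63481 := ded_32_2 (flp_c L828282) (flp_h L827654) L832794
theorem L832804 : sm gi N63885 = N63521 := ded_33_2 (flp_c L828713) (flp_i L827650) L832794
theorem L832806 : sm gb N63885 = N63885 := ded_19_1 (flp_c L832794) L827644 L820952 (flp_b L827644) L832794
theorem L832807 : sm gd N63885 = N63525 := ded_27_2 (flp_c L828754) (flp_d L822446) (flp_c L820932) L827642 L832794
theorem L832809 : sm gd N63435 = N63886 := rfl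
theorem L832811 : sm ga N63886 = N63436 := ded_12_1 (flp_d L827688) (flp_a L827674) L832809
theorem L832813 : sm gb N63886 = N63720 := ded_20_1 (flp_d L830623) (flp_b L827676) L832809
theorem L832815 : sm gg N63886 = N63545 := ded_36_2 (flp_d L828953) (flp_g L827680) L832809
theorem L832817 : sm gj N63886 = N63716 := ded_37_2 (flp_d L830594) (flp_j L827682) L832809
theorem L832819 : sm gi N63886 = N63503 := ded_39_2 (flp_d L828516) (flp_i L827686) L832809
theorem L832821 : sm ge N63886 = N63439 := ded_34_2 (flp_d L827734) (flp_e L821062) (flp_d L820977) L827672 L832809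
theorem L832823 : sm gh N63886 = N63635 := ded_38_2 (flp_d L829935) L823960 (flp_d L822392) (flp_h L827684) L832809
theorem L832825 : sm gf N63706 = N63886 := ded_14_0 L832811 (flp_f L827702) (flp_a L830531)
theorem L832827 : sm gf N63435 = N63887 := rfl
theorem L832829 : sm ga N63887 = N63437 := ded_14_1 (flp_f L827704) (flp_a L827674) L832827
theorem L832831 : sm gb N63887 = N63721 := ded_22_1 (flp_f L830633) (flp_b L827676) L832827
theorem L832833 : sm gc N63887 = N63507 := ded_29_1 (flp_f L828573) (flp_c L827678) L832827
theorem L832835 : sm gd N63887 = N63706 := ded_35_1 L832825 (flp_d L832809) L832827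
theorem L832837 : sm gj N63887 = N63717 := ded_46_2 (flp_f L830602) (flp_j L827682) L832827
theorem L832839 : sm gh N63887 = N63522 := ded_47_2 (flp_f L828724) (flp_h L827684) L832827
theorem L832841 : sm gi N63887 = N63504 := ded_48_2 (flp_f L828532) (flp_i L827686) L832827
theorem L832843 : sm ge N63887 = N63438 := ded_40_1 (flp_f L827722) (flp_e L821040) (flp_f L820979) L827672 L832827
theorem L832845 : sm gg N63887 = N63515 := ded_45_2 L828646 L823686 (flp_f L822728) (flp_g L827680) L832827
theorem L832847 : sm gc N63436 = N63888 := rfl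
theorem L832849 : sm ge N63888 = N63440 := ded_28_2 (flp_c L827748) (flp_e L827698) L832847
theorem L832851 : sm gf N63888 = N63707 := ded_29_2 L830536 L827702 L832847
theorem L832853 : sm gg N63888 = N63546 := ded_30_2 (flp_c L828969) (flp_g L827692) L832847
theorem L832855 : sm gj N63888 = N63718 := ded_31_2 (flp_c L830610) (flp_j L827694) L832847
theorem L832857 : sm gh N63888 = N63636 := ded_32_2 (flp_c L829945) (flp_h L827700) L832847
theorem L832859 : sm gi N63888 = N63505 := ded_33_2 (flp_c L828550) (flp_i L827696) L832847
theorem L832861 : sm gb N63888 = N63888 := ded_19_1 (flp_c L832847) L827690 L821015 (flp_b L827690) L832847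
theorem L832862 : sm gd N63888 = N63508 := ded_27_2 (flp_c L828581) (flp_d L822207) (flp_c L820995) L827688 L832847
theorem L832864 : sm gc N63439 = N63889 := rfl
theorem L832866 : sm ga N63889 = N63440 := ded_11_1 (flp_c L827748) (flp_a L827736) L832864
theorem L832868 : sm gf N63889 = N63496 := ded_29_2 (flp_c L828436) (flp_f L827740) L832864
theorem L832870 : sm gg N63889 = N63640 := ded_30_2 L829979 (flp_g L827742) L832864
theorem L832872 : sm gh N63889 = N63638 := ded_32_2 (flp_c L829964) (flp_h L827746) L832864
theorem L832874 : sm gi N63889 = N63544 := ded_33_2 (flp_c L828945) (flp_i L827744) L832864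
theorem L832876 : sm gd N63889 = N63683 := ded_27_2 (flp_c L830346) (flp_d L824611) (flp_c L821068) L827734 L832864
theorem L832878 : sm gc N63441 = N63890 := rfl
theorem L832880 : sm ga N63890 = N63443 := ded_11_1 (flp_c L827791) (flp_a L827763) L832878
theorem L832882 : sm gg N63890 = N63719 := ded_30_2 (flp_c L830617) (flp_g L827765) L832878
theorem L832884 : sm gj N63890 = N63728 := ded_31_2 (flp_c L830683) (flp_j L827767) L832878
theorem L832886 : sm gh N63890 = N63511 := ded_32_2 (flp_c L828609) (flp_h L827771) L832878
theorem L832888 : sm gi N63890 = N63730 := ded_33_2 (flp_c L830698) (flp_i L827769) L832878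
theorem L832890 : sm gd N63890 = N63570 := ded_27_2 (flp_c L829259) (flp_d L823100) (flp_c L821114) L827761 L832878
theorem L832892 : sm gf N63749 = N63890 := ded_14_0 L832880 (flp_f L827804) (flp_a L830817)
theorem L832894 : sm gf N63441 = N63891 := rfl
theorem L832896 : sm ga N63891 = N63444 := ded_14_1 (flp_f L827806) (flp_a L827763) L832894
theorem L832898 : sm gb N63891 = N63472 := ded_22_1 (flp_f L831789) L831787 L832894
theorem L832900 : sm gc N63891 = N63749 := ded_29_1 L832892 (flp_c L832878) L832894
theorem L832902 : sm gd N63891 = N63442 := ded_35_1 (flp_f L827773) L827761 L832894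
theorem L832904 : sm gj N63891 = N63457 := ded_46_2 L828002 (flp_j L827767) L832894
theorem L832906 : sm gh N63891 = N63512 := ded_47_2 (flp_f L828615) (flp_h L827771) L832894
theorem L832908 : sm gi N63891 = N63549 := ded_48_2 L829016 (flp_i L827769) L832894
theorem L832910 : sm gg N63891 = N63517 := ded_45_2 (flp_f L832671) L832673 L827601 (flp_g L827765) L832894
theorem L832912 : sm ge N63641 = N63891 := ded_13_0 L832896 L827822 (flp_a L829987)
theorem L832914 : sm gd N63445 = N63892 := rfl
theorem L832916 : sm ga N63892 = N63446 := ded_12_1 (flp_d L827840) (flp_a L827826) L832914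
theorem L832918 : sm gb N63892 = N63479 := ded_20_1 (flp_d L828268) (flp_b L827828) L832914
theorem L832920 : sm gg N63892 = N63687 := ded_36_2 (flp_d L830377) (flp_g L827832) L832914
theorem L832922 : sm gj N63892 = N63635 := ded_37_2 (flp_d L829935) (flp_j L827834) L832914
theorem L832924 : sm gi N63892 = N63695 := ded_39_2 (flp_d L830453) (flp_i L827838) L832914
theorem L832926 : sm ge N63892 = N63460 := ded_34_2 (flp_d L828033) (flp_e L821516) (flp_d L821267) L827824 L832914
theorem L832928 : sm gh N63892 = N63716 := ded_38_2 (flp_d L830594) L825014 (flp_d L821431) (flp_h L827836) L832914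
theorem L832930 : sm gf N63445 = N63893 := rfl
theorem L832932 : sm ga N63893 = N63447 := ded_14_1 (flp_f L827854) (flp_a L827826) L832930
theorem L832934 : sm gb N63893 = N63480 := ded_22_1 (flp_f L828276) (flp_b L827828) L832930
theorem L832936 : sm gc N63893 = N63652 := ded_29_1 L830091 (flp_c L827830) L832930
theorem L832938 : sm gj N63893 = N63631 := ded_46_2 L829895 (flp_j L827834) L832930
theorem L832940 : sm gh N63893 = N63455 := ded_47_2 (flp_f L827968) (flp_h L827836) L832930
theorem L832942 : sm gi N63893 = N63630 := ded_48_2 L829883 (flp_i L827838) L832930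
theorem L832944 : sm ge N63893 = N63647 := ded_40_1 (flp_f L830039) (flp_e L824095) (flp_f L821269) L827824 L832930
theorem L832946 : sm gc N63446 = N63894 := rfl
theorem L832948 : sm ge N63894 = N63462 := ded_28_2 (flp_c L828059) (flp_e L827850) L832946
theorem L832950 : sm gg N63894 = N63688 := ded_30_2 (flp_c L830389) (flp_g L827844) L832946
theorem L832952 : sm gj N63894 = N63636 := ded_31_2 (flp_c L829945) (flp_j L827846) L832946
theorem L832954 : sm gh N63894 = N63718 := ded_32_2 (flp_c L830610) (flp_h L827852) L832946
theorem L832956 : sm gi N63894 = N63696 := ded_33_2 (flp_c L830461) (flp_i L827848) L832946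
theorem L832958 : sm gb N63894 = N63894 := ded_19_1 (flp_c L832946) L827842 L821305 (flp_b L827842) L832946
theorem L832959 : sm gd N63894 = N63698 := ded_27_2 (flp_c L830480) (flp_d L824827) (flp_c L821285) L827840 L832946
theorem L832961 : sm gg N63447 = N63895 := rfl
theorem L832963 : sm gb N63895 = N63448 := ded_23_1 (flp_g L827868) (flp_b L827856) L832961
theorem L832965 : sm gc N63895 = N63651 := ded_30_1 L830081 (flp_c L827858) L832961
theorem L832967 : sm ge N63895 = N63476 := ded_41_1 L828244 (flp_e L827866) L832961
theorem L832969 : sm gh N63895 = N63456 := ded_50_2 (flp_g L827982) (flp_h L827862) L832961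
theorem L832971 : sm gi N63895 = N63598 := ded_51_2 L829558 (flp_i L827864) L832961
theorem L832973 : sm gf N63895 = N63566 := ded_45_1 L829214 L823056 (flp_g L821287) L827854 L832961
theorem L832975 : sm gj N63895 = N63628 := ded_49_2 L829859 L823841 (flp_g L823893) (flp_j L827860) L832961
theorem L832977 : sm gd N63449 = N63896 := rfl
theorem L832979 : sm ga N63896 = N63450 := ded_12_1 (flp_d L827900) (flp_a L827886) L832977
theorem L832981 : sm gb N63896 = N63486 := ded_20_1 (flp_d L828329) (flp_b L827888) L832977
theorem L832983 : sm gg N63896 = N63657 := ded_36_2 (flp_d L830137) (flp_g L827892) L832977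
theorem L832985 : sm gj N63896 = N63641 := ded_37_2 (flp_d L829985) (flp_j L827894) L832977
theorem L832987 : sm gi N63896 = N63552 := ded_39_2 (flp_d L829047) (flp_i L827898) L832977
theorem L832989 : sm ge N63896 = N63457 := ded_34_2 (flp_d L827996) (flp_e L821459) (flp_d L821345) L827884 L832977
theorem L832991 : sm gf N63449 = N63897 := rfl
theorem L832993 : sm ga N63897 = N63451 := ded_14_1 (flp_f L827912) (flp_a L827886) L832991
theorem L832995 : sm gb N63897 = N63487 := ded_22_1 (flp_f L828339) (flp_b L827888) L832991
theorem L832997 : sm gc N63897 = N63629 := ded_29_1 L829869 (flp_c L827890) L832991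
theorem L832999 : sm gj N63897 = N63633 := ded_46_2 L829919 (flp_j L827894) L832991
theorem L833001 : sm gh N63897 = N63647 := ded_47_2 (flp_f L830039) (flp_h L827896) L832991
theorem L833003 : sm gi N63897 = N63553 := ded_48_2 (flp_f L829057) (flp_i L827898) L832991
theorem L833005 : sm ge N63897 = N63455 := ded_40_1 (flp_f L827968) (flp_e L821417) (flp_f L821347) L827884 L832991
theorem L833007 : sm gc N63450 = N63898 := rfl
theorem L833009 : sm ge N63898 = N63458 := ded_28_2 (flp_c L828008) (flp_e L827910) L833007
theorem L833011 : sm gg N63898 = N63659 := ded_30_2 (flp_c L830159) (flp_g L827904) L833007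
theorem L833013 : sm gj N63898 = N63642 := ded_31_2 (flp_c L829993) (flp_j L827906) L833007
theorem L833015 : sm gi N63898 = N63554 := ded_33_2 (flp_c L829071) (flp_i L827908) L833007
theorem L833017 : sm gb N63898 = N63898 := ded_19_1 (flp_c L833007) L827902 L821383 (flp_b L827902) L833007
theorem L833018 : sm gd N63898 = N63709 := ded_27_2 (flp_c L830548) (flp_d L824922) (flp_c L821363) L827900 L833007
theorem L833020 : sm gf N63450 = N63899 := rfl
theorem L833022 : sm gb N63899 = N63452 := ded_22_1 (flp_f L827926) (flp_b L827902) L833020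
theorem L833024 : sm gd N63899 = N63451 := ded_35_1 (flp_f L827912) L827900 L833020
theorem L833026 : sm gj N63899 = N63634 := ded_46_2 L829931 (flp_j L827906) L833020
theorem L833028 : sm gi N63899 = N63555 := ded_48_2 (flp_f L829080) (flp_i L827908) L833020
theorem L833030 : sm ge N63899 = N63686 := ded_40_1 L830375 L825067 (flp_f L821479) (flp_e L827910) L833020
theorem L833032 : sm gh N63450 = N63900 := rfl
theorem L833034 : sm gb N63900 = N63453 := ded_25_1 (flp_h L827939) (flp_b L827902) L833032
theorem L833036 : sm ge N63900 = N63459 := ded_43_1 (flp_h L828021) (flp_e L827910) L833032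
theorem L833038 : sm gg N63900 = N63555 := ded_50_1 (flp_h L829090) (flp_g L827904) L833032
theorem L833040 : sm gj N63900 = N63514 := ded_52_1 L828636 (flp_j L827906) L833032
theorem L833042 : sm gd N63900 = N63557 := ded_38_1 L829112 L823789 (flp_h L821369) L827900 L833032
theorem L833044 : sm gg N63451 = N63901 := rfl
theorem L833046 : sm gb N63901 = N63454 := ded_23_1 (flp_g L827952) (flp_b L827914) L833044
theorem L833048 : sm gc N63901 = N63628 := ded_30_1 L829859 (flp_c L827916) L833044
theorem L833050 : sm ge N63901 = N63456 := ded_41_1 (flp_g L827982) (flp_e L827924) L833044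
theorem L833052 : sm gh N63901 = N63476 := ded_50_2 L828244 (flp_h L827920) L833044
theorem L833054 : sm gi N63901 = N63557 := ded_51_2 (flp_g L829104) (flp_i L827922) L833044
theorem L833056 : sm gf N63901 = N63477 := ded_45_1 L828252 (flp_f L824292) (flp_g L821365) L827912 L833044
theorem L833058 : sm gj N63901 = N63651 := ded_49_2 L830081 L824191 (flp_g L823939) (flp_j L827918) L833044
theorem L833060 : sm gg N63455 = N63902 := rfl
theorem L833062 : sm ga N63902 = N63456 := ded_15_1 (flp_g L827982) (flp_a L827970) L833060
theorem L833064 : sm gb N63902 = N63494 := ded_23_1 (flp_g L828412) (flp_b L827972) L833060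
theorem L833066 : sm gc N63902 = N63711 := ded_30_1 (flp_g L830565) (flp_c L827974) L833060
theorem L833068 : sm gd N63902 = N63565 := ded_36_1 L829206 (flp_d L827976) L833060
theorem L833070 : sm gi N63902 = N63558 := ded_51_2 (flp_g L829116) (flp_i L827980) L833060
theorem L833072 : sm gf N63902 = N63564 := ded_45_1 L829192 L823042 (flp_g L821425) L827968 L833060
theorem L833074 : sm gj N63902 = N63654 := ded_49_2 L830113 L824255 (flp_g L824487) (flp_j L827978) L833060
theorem L833076 : sm gc N63457 = N63903 := rfl
theorem L833078 : sm ga N63903 = N63458 := ded_11_1 (flp_c L828008) (flp_a L827998) L833076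
theorem L833080 : sm gf N63903 = N63728 := ded_29_2 (flp_c L830683) (flp_f L828002) L833076
theorem L833082 : sm gg N63903 = N63683 := ded_30_2 (flp_c L830346) (flp_g L828004) L833076
theorem L833084 : sm gj N63903 = N63749 := ded_31_2 (flp_c L832900) L832904 L833076
theorem L833086 : sm gi N63903 = N63559 := ded_33_2 (flp_c L829132) (flp_i L828006) L833076
theorem L833088 : sm gd N63903 = N63640 := ded_27_2 L829979 L824034 (flp_c L821465) L827996 L833076
theorem L833090 : sm gh N63457 = N63904 := rfl
theorem L833092 : sm ga N63904 = N63459 := ded_17_1 (flp_h L828021) (flp_a L827998) L833090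
theorem L833094 : sm gb N63904 = N63497 := ded_25_1 (flp_h L828446) (flp_b L828000) L833090
theorem L833096 : sm gf N63904 = N63501 := ded_47_1 L828503 (flp_f L828002) L833090
theorem L833098 : sm gg N63904 = N63684 := ded_50_1 (flp_h L830352) (flp_g L828004) L833090
theorem L833100 : sm gj N63904 = N63512 := ded_52_1 (flp_h L832906) L832904 L833090
theorem L833102 : sm gd N63904 = N63465 := ded_38_1 (flp_h L828091) (flp_d L821581) (flp_h L821469) L827996 L833090
theorem L833104 : sm gc N63460 = N63905 := rfl
theorem L833106 : sm ga N63905 = N63462 := ded_11_1 (flp_c L828059) (flp_a L828035) L833104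
theorem L833108 : sm gg N63905 = N63724 := ded_30_2 (flp_c L830660) (flp_g L828039) L833104
theorem L833110 : sm gj N63905 = N63638 := ded_31_2 (flp_c L829964) (flp_j L828041) L833104
theorem L833112 : sm gf N63460 = N63906 := rfl
theorem L833114 : sm ga N63906 = N63463 := ded_14_1 (flp_f L828066) (flp_a L828035) L833112
theorem L833116 : sm gb N63906 = N63512 := ded_22_1 (flp_f L828615) (flp_b L828037) L833112
theorem L833118 : sm gd N63906 = N63461 := ded_35_1 (flp_f L828043) L828033 L833112
theorem L833120 : sm gj N63906 = N63497 := ded_46_2 L828450 (flp_j L828041) L833112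
theorem L833122 : sm gh N63906 = N63472 := ded_47_2 (flp_f L831789) L831799 L833112
theorem L833124 : sm gg N63906 = N63530 := ded_45_2 (flp_f L828794) (flp_g L826617) L826615 (flp_g L828039) L833112
theorem L833126 : sm gf N63462 = N63907 := rfl
theorem L833128 : sm gb N63907 = N63907 := ded_22_1 (flp_f L833126) L828065 L833126
theorem L833129 : sm gc N63907 = N63463 := ded_29_1 (flp_f L828066) L828059 L833126
theorem L833131 : sm gd N63907 = N63533 := ded_35_1 (flp_f L832624) L832635 L833126
theorem L833133 : sm gj N63907 = N63498 := ded_46_2 L828461 (flp_j L828063) L833126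
theorem L833135 : sm gh N63907 = N63473 := ded_47_2 (flp_f L831805) L831811 L833126
theorem L833137 : sm gg N63907 = N63532 := ded_45_2 (flp_f L828808) (flp_g L826629) L826627 (flp_g L828061) L833126
theorem L833139 : sm ge N63463 = N63908 := rfl
theorem L833141 : sm gb N63908 = N63464 := ded_21_1 (flp_e L828078) (flp_b L828068) L833139
theorem L833143 : sm gg N63908 = N63534 := ded_41_2 (flp_e L828820) (flp_g L828076) L833139
theorem L833145 : sm gj N63908 = N63490 := ded_42_2 L828370 (flp_j L828072) L833139
theorem L833147 : sm gh N63908 = N63471 := ded_43_2 L828195 (flp_h L828074) L833139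
theorem L833149 : sm gd N63908 = N63540 := ded_34_1 L828904 L822617 (flp_e L821546) (flp_d L828070) L833139
theorem L833151 : sm gi N63465 = N63909 := rfl
theorem L833153 : sm ga N63909 = N63466 := ded_18_1 (flp_i L828107) (flp_a L828093) L833151
theorem L833155 : sm gb N63909 = N63515 := ded_26_1 (flp_i L828640) (flp_b L828095) L833151
theorem L833157 : sm gc N63909 = N63717 := ded_33_1 L830608 (flp_c L828097) L833151
theorem L833159 : sm ge N63909 = N63565 := ded_44_1 L829204 (flp_e L828099) L833151
theorem L833161 : sm gf N63909 = N63500 := ded_48_1 L828491 (flp_f L828101) L833151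
theorem L833163 : sm gg N63909 = N63721 := ded_51_1 L830637 (flp_g L828103) L833151
theorem L833165 : sm gj N63909 = N63507 := ded_53_1 L828579 (flp_j L828105) L833151
theorem L833167 : sm gh N63909 = N63469 := ded_54_1 (flp_i L828155) (flp_h L821733) (flp_i L821593) L828091 L833151
theorem L833169 : sm gi N63467 = N63910 := rfl
theorem L833171 : sm ga N63910 = N63468 := ded_18_1 (flp_i L828139) (flp_a L828125) L833169
theorem L833173 : sm gb N63910 = N63541 := ded_26_1 (flp_i L828910) (flp_b L828127) L833169
theorem L833175 : sm gc N63910 = N63721 := ded_33_1 L830637 (flp_c L828129) L833169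
theorem L833177 : sm ge N63910 = N63469 := ded_44_1 (flp_i L828155) (flp_e L828131) L833169
theorem L833179 : sm gf N63910 = N63516 := ded_48_1 L828664 (flp_f L828133) L833169
theorem L833181 : sm gg N63910 = N63717 := ded_51_1 L830608 (flp_g L828135) L833169
theorem L833183 : sm gj N63910 = N63524 := ded_53_1 L828750 (flp_j L828137) L833169
theorem L833185 : sm gh N63910 = N63565 := ded_54_1 L829204 L823197 (flp_i L821677) L828123 L833169
theorem L833187 : sm gd N63470 = N63911 := rfl
theorem L833189 : sm ga N63911 = N63471 := ded_12_1 (flp_d L828185) (flp_a L828171) L833187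
theorem L833191 : sm gb N63911 = N63641 := ded_20_1 (flp_d L829985) (flp_b L828173) L833187
theorem L833193 : sm gg N63911 = N63571 := ded_36_2 (flp_d L829269) (flp_g L828177) L833187
theorem L833195 : sm gj N63911 = N63486 := ded_37_2 (flp_d L828329) (flp_j L828179) L833187
theorem L833197 : sm gi N63911 = N63580 := ded_39_2 (flp_d L829360) (flp_i L828183) L833187
theorem L833199 : sm ge N63911 = N63472 := ded_34_2 (flp_d L828197) (flp_e L821822) (flp_d L821781) L828169 L833187
theorem L833201 : sm gc N63471 = N63912 := rfl
theorem L833203 : sm ge N63912 = N63473 := ded_28_2 (flp_c L828205) (flp_e L828195) L833201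
theorem L833205 : sm gg N63912 = N63572 := ded_30_2 (flp_c L829281) (flp_g L828189) L833201
theorem L833207 : sm gj N63912 = N63488 := ded_31_2 (flp_c L828347) (flp_j L828191) L833201
theorem L833209 : sm gi N63912 = N63581 := ded_33_2 (flp_c L829372) (flp_i L828193) L833201
theorem L833211 : sm gb N63912 = N63912 := ded_19_1 (flp_c L833201) L828187 L821819 (flp_b L828187) L833201
theorem L833212 : sm gd N63912 = N63742 := ded_27_2 (flp_c L830778) (flp_d L825279) (flp_c L821799) L828185 L833201
theorem L833214 : sm gc N63472 = N63913 := rfl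
theorem L833216 : sm ga N63913 = N63473 := ded_11_1 (flp_c L828205) (flp_a L828199) L833214
theorem L833218 : sm gj N63913 = N63496 := ded_31_2 (flp_c L828436) (flp_j L828201) L833214
theorem L833220 : sm gi N63913 = N63585 := ded_33_2 (flp_c L829408) (flp_i L828203) L833214
theorem L833222 : sm gd N63913 = N63724 := ded_27_2 (flp_c L830660) (flp_d L825110) (flp_c L821826) L828197 L833214
theorem L833224 : sm gf N63474 = N63914 := rfl
theorem L833226 : sm ga N63914 = N63476 := ded_14_1 (flp_f L828232) (flp_a L828216) L833224
theorem L833228 : sm gc N63914 = N63654 := ded_29_1 L831348 L831344 L833224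
theorem L833230 : sm gd N63914 = N63475 := ded_35_1 (flp_f L828224) L828214 L833224
theorem L833232 : sm gj N63914 = N63711 := ded_46_2 (flp_f L831328) L831330 L833224
theorem L833234 : sm gi N63914 = N63596 := ded_48_2 (flp_f L829524) (flp_i L828220) L833224
theorem L833236 : sm gg N63914 = N63647 := ded_45_2 (flp_f L830039) L824101 L824457 (flp_g L828218) L833224
theorem L833238 : sm gh N63474 = N63915 := rfl
theorem L833240 : sm ga N63915 = N63477 := ded_17_1 (flp_h L828246) (flp_a L828216) L833238
theorem L833242 : sm gb N63915 = N63680 := ded_25_1 (flp_h L831563) L831555 L833238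
theorem L833244 : sm ge N63915 = N63679 := ded_43_1 L830318 (flp_e L828222) L833238
theorem L833246 : sm gg N63915 = N63658 := ded_50_1 L830155 (flp_g L828218) L833238
theorem L833248 : sm gg N63475 = N63916 := rfl
theorem L833250 : sm ga N63916 = N63478 := ded_15_1 (flp_g L828254) (flp_a L828226) L833248
theorem L833252 : sm gc N63916 = N63494 := ded_30_1 (flp_g L828412) (flp_c L828228) L833248
theorem L833254 : sm gd N63916 = N63647 := ded_36_1 (flp_g L833236) L833230 L833248
theorem L833256 : sm gi N63916 = N63597 := ded_51_2 L829546 (flp_i L828230) L833248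
theorem L833258 : sm gf N63916 = N63626 := ded_45_1 L829837 L823815 (flp_g L821848) L828224 L833248
theorem L833260 : sm gj N63916 = N63648 := ded_49_2 L830057 (flp_j L826386) L831745 (flp_j L831763) L833248
theorem L833262 : sm gc N63479 = N63917 := rfl
theorem L833264 : sm ga N63917 = N63481 := ded_11_1 (flp_c L828282) (flp_a L828270) L833262
theorem L833266 : sm ge N63917 = N63511 := ded_28_2 (flp_c L828609) (flp_e L828274) L833262
theorem L833268 : sm gg N63917 = N63710 := ded_30_2 (flp_c L830557) (flp_g L828272) L833262
theorem L833270 : sm gf N63479 = N63918 := rfl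
theorem L833272 : sm ga N63918 = N63482 := ded_14_1 (flp_f L828289) (flp_a L828270) L833270
theorem L833274 : sm gd N63918 = N63480 := ded_35_1 (flp_f L828276) L828268 L833270
theorem L833276 : sm gg N63480 = N63919 := rfl
theorem L833278 : sm ga N63919 = N63483 := ded_15_1 (flp_g L828295) (flp_a L828278) L833276
theorem L833280 : sm gh N63919 = N63494 := ded_50_2 (flp_g L828412) (flp_h L828280) L833276
theorem L833282 : sm gf N63919 = N63627 := ded_45_1 L829851 L823829 (flp_g L821926) L828276 L833276
theorem L833284 : sm gf N63481 = N63920 := rfl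
theorem L833286 : sm gb N63920 = N63920 := ded_22_1 (flp_f L833284) L828288 L833284
theorem L833287 : sm gc N63920 = N63482 := ded_29_1 (flp_f L828289) L828282 L833284
theorem L833289 : sm ge N63482 = N63921 := rfl
theorem L833291 : sm gb N63921 = N63484 := ded_21_1 (flp_e L828303) (flp_b L828291) L833289
theorem L833293 : sm gh N63921 = N63634 := ded_43_2 (flp_e L831921) L831929 L833289
theorem L833295 : sm gi N63921 = N63664 := ded_44_2 (flp_e L830874) (flp_i L830884) L833289
theorem L833297 : sm gd N63921 = N63650 := ded_34_1 (flp_e L830934) L830926 L825490 (flp_d L828293) L833289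
theorem L833299 : sm gf N63921 = N63514 := ded_40_2 (flp_e L828630) (flp_f L822247) (flp_e L821936) L828289 L833289
theorem L833301 : sm gg N63671 = N63921 := ded_23_0 L833291 (flp_g L828314) (flp_b L830241)
theorem L833303 : sm gg N63482 = N63922 := rfl
theorem L833305 : sm gb N63922 = N63485 := ded_23_1 (flp_g L828316) (flp_b L828291) L833303
theorem L833307 : sm gd N63922 = N63483 := ded_36_1 (flp_g L828295) (flp_d L828293) L833303
theorem L833309 : sm ge N63922 = N63671 := ded_41_1 L833301 (flp_e L833289) L833303
theorem L833311 : sm gh N63922 = N63535 := ded_50_2 (flp_g L831925) L831929 L833303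
theorem L833313 : sm gi N63922 = N63527 := ded_51_2 (flp_g L830878) (flp_i L830884) L833303
theorem L833315 : sm gf N63922 = N63584 := ded_45_1 L829404 L823339 (flp_g L821934) L828289 L833303
theorem L833317 : sm gc N63486 = N63923 := rfl
theorem L833319 : sm ga N63923 = N63488 := ded_11_1 (flp_c L828347) (flp_a L828331) L833317
theorem L833321 : sm ge N63923 = N63496 := ded_28_2 (flp_c L828436) (flp_e L828337) L833317
theorem L833323 : sm gg N63923 = N63703 := ded_30_2 (flp_c L830512) (flp_g L828333) L833317
theorem L833325 : sm gi N63923 = N63605 := ded_33_2 (flp_c L829621) (flp_i L828335) L833317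
theorem L833327 : sm gf N63486 = N63924 := rfl
theorem L833329 : sm ga N63924 = N63489 := ded_14_1 (flp_f L828356) (flp_a L828331) L833327
theorem L833331 : sm gd N63924 = N63487 := ded_35_1 (flp_f L828339) L828329 L833327
theorem L833333 : sm gi N63924 = N63606 := ded_48_2 (flp_f L829627) (flp_i L828335) L833327
theorem L833335 : sm ge N63924 = N63706 := ded_40_1 L832825 L832821 L827740 (flp_e L828337) L833327
theorem L833337 : sm gh N63486 = N63925 := rfl
theorem L833339 : sm ga N63925 = N63490 := ded_17_1 (flp_h L828366) (flp_a L828331) L833337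
theorem L833341 : sm ge N63925 = N63497 := ded_43_1 (flp_h L828446) (flp_e L828337) L833337
theorem L833343 : sm gg N63925 = N63606 := ded_50_1 (flp_h L829635) (flp_g L828333) L833337
theorem L833345 : sm gd N63925 = N63608 := ded_38_1 L830902 (flp_d L830886) L825458 L828329 L833337
theorem L833347 : sm gg N63487 = N63926 := rfl
theorem L833349 : sm ga N63926 = N63491 := ded_15_1 (flp_g L828376) (flp_a L828341) L833347
theorem L833351 : sm ge N63926 = N63494 := ded_41_1 (flp_g L828412) (flp_e L828345) L833347
theorem L833353 : sm gi N63926 = N63608 := ded_51_2 (flp_g L829647) (flp_i L828343) L833347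
theorem L833355 : sm gf N63926 = N63680 := ded_45_1 L830324 (flp_f L824882) (flp_g L821961) L828339 L833347
theorem L833357 : sm gf N63488 = N63927 := rfl
theorem L833359 : sm gb N63927 = N63927 := ded_22_1 (flp_f L833357) L828355 L833357
theorem L833360 : sm gc N63927 = N63489 := ded_29_1 (flp_f L828356) L828347 L833357
theorem L833362 : sm gi N63927 = N63609 := ded_48_2 (flp_f L829653) (flp_i L828353) L833357
theorem L833364 : sm ge N63927 = N63707 := ded_40_1 (flp_f L832851) L832849 L827750 (flp_e L828349) L833357
theorem L833366 : sm gh N63488 = N63928 := rfl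
theorem L833368 : sm gb N63928 = N63928 := ded_25_1 (flp_h L833366) L828355 L833366
theorem L833369 : sm gc N63928 = N63490 := ded_32_1 (flp_h L828366) L828347 L833366
theorem L833371 : sm ge N63928 = N63498 := ded_43_1 (flp_h L828456) (flp_e L828349) L833366
theorem L833373 : sm gg N63928 = N63609 := ded_50_1 (flp_h L829660) (flp_g L828351) L833366
theorem L833375 : sm gg N63489 = N63929 := rfl
theorem L833377 : sm gb N63929 = N63492 := ded_23_1 (flp_g L828386) (flp_b L828358) L833375
theorem L833379 : sm gd N63929 = N63491 := ded_36_1 (flp_g L828376) (flp_d L828360) L833375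
theorem L833381 : sm ge N63929 = N63499 := ded_41_1 L828473 (flp_e L828364) L833375
theorem L833383 : sm gi N63929 = N63490 := ded_51_2 L828372 (flp_i L828362) L833375
theorem L833385 : sm gf N63929 = N63603 := ded_45_1 L829607 L823599 (flp_g L821969) L828356 L833375
theorem L833387 : sm gh N63602 = N63929 := ded_25_0 L833377 (flp_h L828397) (flp_b L829593)
theorem L833389 : sm gh N63489 = N63930 := rfl
theorem L833391 : sm gb N63930 = N63493 := ded_25_1 (flp_h L828399) (flp_b L828358) L833389
theorem L833393 : sm ge N63930 = N63614 := ded_43_1 L829712 (flp_e L828364) L833389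
theorem L833395 : sm gf N63930 = N63490 := ded_47_1 (flp_h L828366) L828356 L833389
theorem L833397 : sm gg N63930 = N63602 := ded_50_1 L833387 (flp_g L833375) L833389
theorem L833399 : sm gd N63930 = N63604 := ded_38_1 (flp_h L830930) L830926 L825486 (flp_d L828360) L833389
theorem L833401 : sm gi N63930 = N63603 := ded_54_2 (flp_h L829601) L823526 L823591 (flp_i L828362) L833389
theorem L833403 : sm gj N63494 = N63931 := rfl
theorem L833405 : sm ga N63931 = N63495 := ded_16_1 (flp_j L828422) (flp_a L828414) L833403
theorem L833407 : sm gb N63931 = N63654 := ded_24_1 (flp_j L833074) L833064 L833403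
theorem L833409 : sm gc N63931 = N63648 := ded_31_1 (flp_j L833260) L833252 L833403
theorem L833411 : sm gd N63931 = N63537 := ded_37_1 (flp_j L828866) (flp_d L828416) L833403
theorem L833413 : sm gf N63931 = N63625 := ded_46_1 L829823 (flp_f L828420) L833403
theorem L833415 : sm gi N63931 = N63539 := ded_53_2 L828896 (flp_i L828418) L833403
theorem L833417 : sm gg N63931 = N63536 := ded_49_1 L828852 (flp_g L826466) L826468 L828412 L833403
theorem L833419 : sm gb N63496 = N63932 := rfl
theorem L833421 : sm gd N63932 = N63747 := ded_20_2 (flp_b L830805) (flp_d L828444) L833419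
theorem L833423 : sm gg N63932 = N63704 := ded_23_2 (flp_b L830518) (flp_g L828440) L833419
theorem L833425 : sm gi N63932 = N63615 := ded_26_2 (flp_b L829714) (flp_i L828442) L833419
theorem L833427 : sm ga N63932 = N63932 := ded_10_1 (flp_b L833419) L828438 L822055 (flp_a L828438) L833419
theorem L833428 : sm gh N63496 = N63933 := rfl
theorem L833430 : sm ga N63933 = N63498 := ded_17_1 (flp_h L828456) (flp_a L828438) L833428
theorem L833432 : sm gc N63933 = N63497 := ded_32_1 (flp_h L828446) L828436 L833428
theorem L833434 : sm gf N63933 = N63638 := ded_47_1 (flp_h L832872) L832868 L833428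
theorem L833436 : sm gg N63933 = N63705 := ded_50_1 (flp_h L830523) (flp_g L828440) L833428
theorem L833438 : sm gi N63497 = N63934 := rfl
theorem L833440 : sm ga N63934 = N63499 := ded_18_1 (flp_i L828465) (flp_a L828448) L833438
theorem L833442 : sm gd N63934 = N63515 := ded_39_1 (flp_i L828640) (flp_d L828454) L833438
theorem L833444 : sm gf N63934 = N63620 := ded_48_1 L829757 (flp_f L828450) L833438
theorem L833446 : sm gg N63934 = N63706 := ded_51_1 (flp_i L830529) (flp_g L828452) L833438
theorem L833448 : sm gh N63934 = N63617 := ded_54_1 (flp_i L829725) (flp_h L823659) (flp_i L822047) L828446 L833438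
theorem L833450 : sm gi N63498 = N63935 := rfl
theorem L833452 : sm gb N63935 = N63935 := ded_26_1 (flp_i L833450) L828458 L833450
theorem L833453 : sm gc N63935 = N63499 := ded_33_1 (flp_i L828465) (flp_c L828459) L833450
theorem L833455 : sm gf N63935 = N63621 := ded_48_1 L829771 (flp_f L828461) L833450
theorem L833457 : sm gg N63935 = N63707 := ded_51_1 (flp_i L830533) (flp_g L828463) L833450
theorem L833459 : sm gh N63935 = N63619 := ded_54_1 (flp_i L829744) (flp_h L823667) (flp_i L822053) L828456 L833450
theorem L833461 : sm gc N63501 = N63936 := rfl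
theorem L833463 : sm ga N63936 = N63502 := ded_11_1 (flp_c L828505) (flp_a L828495) L833461
theorem L833465 : sm gg N63936 = N63570 := ded_30_2 (flp_c L829259) (flp_g L828499) L833461
theorem L833467 : sm gj N63936 = N63511 := ded_31_2 (flp_c L828609) (flp_j L828501) L833461
theorem L833469 : sm gh N63936 = N63728 := ded_32_2 (flp_c L830683) (flp_h L828503) L833461
theorem L833471 : sm gd N63936 = N63719 := ded_27_2 (flp_c L830617) (flp_d L825034) (flp_c L822117) L828493 L833461
theorem L833473 : sm gc N63503 = N63937 := rfl
theorem L833475 : sm ga N63937 = N63505 := ded_11_1 (flp_c L828550) (flp_a L828518) L833473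
theorem L833477 : sm ge N63937 = N63544 := ded_28_2 (flp_c L828945) (flp_e L828526) L833473
theorem L833479 : sm gf N63937 = N63705 := ded_29_2 L830527 L828530 L833473
theorem L833481 : sm gg N63937 = N63547 := ded_30_2 (flp_c L828984) (flp_g L828522) L833473
theorem L833483 : sm gj N63937 = N63719 := ded_31_2 (flp_c L830617) (flp_j L828524) L833473
theorem L833485 : sm gh N63937 = N63681 := ded_32_2 (flp_c L830326) (flp_h L828528) L833473
theorem L833487 : sm gd N63937 = N63511 := ded_27_2 (flp_c L828609) (flp_d L822230) (flp_c L822141) L828516 L833473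
theorem L833489 : sm gc N63506 = N63938 := rfl
theorem L833491 : sm ga N63938 = N63508 := ded_11_1 (flp_c L828581) (flp_a L828567) L833489
theorem L833493 : sm gg N63938 = N63725 := ded_30_2 (flp_c L830666) (flp_g L828569) L833489
theorem L833495 : sm gi N63938 = N63511 := ded_33_2 (flp_c L828609) (flp_i L828571) L833489
theorem L833497 : sm gf N63506 = N63939 := rfl
theorem L833499 : sm ga N63939 = N63509 := ded_14_1 (flp_f L828588) (flp_a L828567) L833497
theorem L833501 : sm gd N63939 = N63507 := ded_35_1 (flp_f L828573) L828565 L833497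
theorem L833503 : sm gi N63939 = N63512 := ded_48_2 (flp_f L828615) (flp_i L828571) L833497
theorem L833505 : sm gf N63508 = N63940 := rfl
theorem L833507 : sm gb N63940 = N63940 := ded_22_1 (flp_f L833505) L828587 L833505
theorem L833508 : sm gc N63940 = N63509 := ded_29_1 (flp_f L828588) L828581 L833505
theorem L833510 : sm gd N63940 = N63707 := ded_35_1 (flp_f L832851) L832862 L833505
theorem L833512 : sm gi N63940 = N63513 := ded_48_2 (flp_f L828621) (flp_i L828585) L833505
theorem L833514 : sm ge N63509 = N63941 := rfl
theorem L833516 : sm gb N63941 = N63510 := ded_21_1 (flp_e L828596) (flp_b L828590) L833514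
theorem L833518 : sm gg N63941 = N63646 := ded_41_2 (flp_e L832447) L832449 L833514
theorem L833520 : sm gh N63941 = N63663 := ded_43_2 (flp_e L832083) L832079 L833514
theorem L833522 : sm gi N63941 = N63514 := ded_44_2 (flp_e L828630) (flp_i L828594) L833514
theorem L833524 : sm gd N63941 = N63651 := ded_34_1 L830079 (flp_d L825891) L825899 (flp_d L828592) L833514
theorem L833526 : sm gf N63941 = N63664 := ded_40_2 (flp_e L830874) L830876 L826951 L828588 L833514
theorem L833528 : sm gb N63511 = N63942 := rfl
theorem L833530 : sm gg N63942 = N63726 := ded_23_2 (flp_b L830672) (flp_g L828613) L833528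
theorem L833532 : sm ga N63942 = N63942 := ded_10_1 (flp_b L833528) L828611 L822246 (flp_a L828611) L833528
theorem L833533 : sm gf N63511 = N63943 := rfl
theorem L833535 : sm ga N63943 = N63513 := ded_14_1 (flp_f L828621) (flp_a L828611) L833533
theorem L833537 : sm gc N63943 = N63512 := ded_29_1 (flp_f L828615) L828609 L833533
theorem L833539 : sm gd N63943 = N63705 := ded_35_1 (flp_f L833479) L833487 L833533
theorem L833541 : sm gh N63943 = N63749 := ded_47_2 L832892 L832886 L833533
theorem L833543 : sm ge N63512 = N63944 := rfl
theorem L833545 : sm ga N63944 = N63514 := ded_13_1 (flp_e L828630) (flp_a L828617) L833543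
theorem L833547 : sm gg N63944 = N63644 := ded_41_2 (flp_e L832657) L832659 L833543
theorem L833549 : sm gh N63944 = N63641 := ded_43_2 L832912 L832906 L833543
theorem L833551 : sm gd N63944 = N63649 := ded_34_1 L830063 (flp_d L826192) L826198 (flp_d L828619) L833543
theorem L833553 : sm ge N63513 = N63945 := rfl
theorem L833555 : sm gb N63945 = N63945 := ded_21_1 (flp_e L833553) L828623 L833553
theorem L833556 : sm gc N63945 = N63514 := ded_28_1 (flp_e L828630) (flp_c L828624) L833553
theorem L833558 : sm gg N63945 = N63645 := ded_41_2 (flp_e L832688) L832690 L833553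
theorem L833560 : sm gh N63945 = N63642 := ded_43_2 L829995 (flp_h L828628) L833553
theorem L833562 : sm gc N63517 = N63946 := rfl
theorem L833564 : sm ga N63946 = N63518 := ded_11_1 (flp_c L828674) (flp_a L828668) L833562
theorem L833566 : sm ge N63946 = N63643 := ded_28_2 (flp_c L830004) (flp_e L828672) L833562
theorem L833568 : sm gg N63946 = N63749 := ded_30_2 (flp_c L832900) L832910 L833562
theorem L833570 : sm gj N63946 = N63529 := ded_31_2 (flp_c L828788) (flp_j L828670) L833562
theorem L833572 : sm gd N63946 = N63723 := ded_27_2 (flp_c L830650) (flp_d L825077) (flp_c L822316) L828666 L833562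
theorem L833574 : sm gc N63519 = N63947 := rfl
theorem L833576 : sm ga N63947 = N63521 := ded_11_1 (flp_c L828713) (flp_a L828687) L833574
theorem L833578 : sm ge N63947 = N63730 := ded_28_2 (flp_c L830698) (flp_e L828693) L833574
theorem L833580 : sm gj N63947 = N63723 := ded_31_2 (flp_c L830650) (flp_j L828691) L833574
theorem L833582 : sm gh N63947 = N63724 := ded_32_2 (flp_c L830660) (flp_h L828695) L833574
theorem L833584 : sm gd N63947 = N63529 := ded_27_2 (flp_c L828788) (flp_d L822474) (flp_c L822350) L828685 L833574
theorem L833586 : sm gc N63523 = N63948 := rfl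
theorem L833588 : sm ga N63948 = N63525 := ded_11_1 (flp_c L828754) (flp_a L828740) L833586
theorem L833590 : sm ge N63948 = N63668 := ded_28_2 (flp_c L830224) (flp_e L828744) L833586
theorem L833592 : sm gi N63948 = N63529 := ded_33_2 (flp_c L828788) (flp_i L828742) L833586
theorem L833594 : sm gf N63523 = N63949 := rfl
theorem L833596 : sm ga N63949 = N63526 := ded_14_1 (flp_f L828761) (flp_a L828740) L833594
theorem L833598 : sm gd N63949 = N63524 := ded_35_1 (flp_f L828746) L828738 L833594
theorem L833600 : sm gi N63949 = N63530 := ded_48_2 (flp_f L828794) (flp_i L828742) L833594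
theorem L833602 : sm gh N63523 = N63950 := rfl
theorem L833604 : sm ga N63950 = N63527 := ded_17_1 (flp_h L828769) (flp_a L828740) L833602
theorem L833606 : sm ge N63950 = N63669 := ded_43_1 (flp_h L830230) (flp_e L828744) L833602
theorem L833608 : sm gf N63525 = N63951 := rfl
theorem L833610 : sm gb N63951 = N63951 := ded_22_1 (flp_f L833608) L828760 L833608
theorem L833611 : sm gc N63951 = N63526 := ded_29_1 (flp_f L828761) L828754 L833608
theorem L833613 : sm gi N63951 = N63532 := ded_48_2 (flp_f L828808) (flp_i L828758) L833608
theorem L833615 : sm gh N63525 = N63952 := rfl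
theorem L833617 : sm gb N63952 = N63952 := ded_25_1 (flp_h L833615) L828760 L833615
theorem L833618 : sm gc N63952 = N63527 := ded_32_1 (flp_h L828769) L828754 L833615
theorem L833620 : sm ge N63952 = N63670 := ded_43_1 (flp_h L830234) (flp_e L828756) L833615
theorem L833622 : sm gh N63526 = N63953 := rfl
theorem L833624 : sm gb N63953 = N63528 := ded_25_1 (flp_h L828775) (flp_b L828763) L833622
theorem L833626 : sm ge N63953 = N63739 := ded_43_1 (flp_h L832002) L832006 L833622
theorem L833628 : sm gf N63953 = N63527 := ded_47_1 (flp_h L828769) L828761 L833622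
theorem L833630 : sm gg N63953 = N63588 := ded_50_1 (flp_h L832170) L832174 L833622
theorem L833632 : sm gd N63953 = N63628 := ded_38_1 L829861 (flp_d L825891) L825895 (flp_d L828765) L833622
theorem L833634 : sm gi N63953 = N63584 := ded_54_2 (flp_h L829398) (flp_i L827518) L827522 (flp_i L828767) L833622
theorem L833636 : sm gb N63529 = N63954 := rfl
theorem L833638 : sm ge N63954 = N63672 := ded_21_2 (flp_b L830249) (flp_e L828792) L833636
theorem L833640 : sm ga N63954 = N63954 := ded_10_1 (flp_b L833636) L828790 L822492 (flp_a L828790) L833636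
theorem L833641 : sm gf N63529 = N63955 := rfl
theorem L833643 : sm ga N63955 = N63532 := ded_14_1 (flp_f L828808) (flp_a L828790) L833641
theorem L833645 : sm gc N63955 = N63530 := ded_29_1 (flp_f L828794) L828788 L833641
theorem L833647 : sm gh N63529 = N63956 := rfl
theorem L833649 : sm ga N63956 = N63533 := ded_17_1 (flp_h L828813) (flp_a L828790) L833647
theorem L833651 : sm gc N63956 = N63531 := ded_32_1 (flp_h L828800) L828788 L833647
theorem L833653 : sm ge N63956 = N63674 := ded_43_1 (flp_h L830262) (flp_e L828792) L833647
theorem L833655 : sm ge N63530 = N63957 := rfl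
theorem L833657 : sm ga N63957 = N63534 := ded_13_1 (flp_e L828820) (flp_a L828796) L833655
theorem L833659 : sm gb N63957 = N63644 := ded_21_1 (flp_e L832657) L832651 L833655
theorem L833661 : sm gj N63957 = N63578 := ded_42_2 (flp_e L832669) L832675 L833655
theorem L833663 : sm gh N63957 = N63571 := ded_43_2 (flp_e L832616) L832618 L833655
theorem L833665 : sm gd N63957 = N63538 := ded_34_1 (flp_e L828868) L822581 (flp_e L822486) (flp_d L828798) L833655
theorem L833667 : sm gf N63957 = N63675 := ded_40_2 (flp_e L830270) (flp_f L824393) (flp_e L822478) L828794 L833655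
theorem L833669 : sm gi N63531 = N63958 := rfl
theorem L833671 : sm ga N63958 = N63535 := ded_18_1 (flp_i L828832) (flp_a L828802) L833669
theorem L833673 : sm gd N63958 = N63541 := ded_39_1 (flp_i L828910) (flp_d L828806) L833669
theorem L833675 : sm ge N63958 = N63676 := ded_44_1 (flp_i L830282) (flp_e L828804) L833669
theorem L833677 : sm gf N63958 = N63582 := ded_48_1 (flp_i L832614) L832608 L833669
theorem L833679 : sm ge N63532 = N63959 := rfl
theorem L833681 : sm gb N63959 = N63959 := ded_21_1 (flp_e L833679) L828810 L833679
theorem L833682 : sm gc N63959 = N63534 := ded_28_1 (flp_e L828820) (flp_c L828811) L833679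
theorem L833684 : sm gj N63959 = N63579 := ded_42_2 (flp_e L832699) L832705 L833679
theorem L833686 : sm gh N63959 = N63572 := ded_43_2 (flp_e L832622) L832630 L833679
theorem L833688 : sm gd N63959 = N63610 := ded_34_1 L829667 L829733 (flp_e L831905) L831913 L833679
theorem L833690 : sm gf N63959 = N63677 := ded_40_2 (flp_e L830290) (flp_f L824411) (flp_e L822490) L828808 L833679
theorem L833692 : sm gi N63533 = N63960 := rfl
theorem L833694 : sm gb N63960 = N63960 := ded_26_1 (flp_i L833692) L828815 L833692
theorem L833695 : sm gc N63960 = N63535 := ded_33_1 (flp_i L828832) (flp_c L828816) L833692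
theorem L833697 : sm ge N63960 = N63678 := ded_44_1 (flp_i L830301) (flp_e L828818) L833692
theorem L833699 : sm gf N63960 = N63583 := ded_48_1 (flp_i L832632) L832624 L833692
theorem L833701 : sm gg N63538 = N63961 := rfl
theorem L833703 : sm ga N63961 = N63540 := ded_15_1 (flp_g L828898) (flp_a L828870) L833701
theorem L833705 : sm gb N63961 = N63649 := ded_23_1 L830065 (flp_b L828872) L833701
theorem L833707 : sm gc N63961 = N63680 := ded_30_1 L830324 (flp_c L828874) L833701
theorem L833709 : sm ge N63961 = N63539 := ded_41_1 (flp_g L828882) L828868 L833701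
theorem L833711 : sm gh N63961 = N63573 := ded_50_2 L829298 (flp_h L828878) L833701
theorem L833713 : sm gj N63961 = N63608 := ded_49_2 (flp_g L829647) (flp_j L826440) L826438 (flp_j L828876) L833701
theorem L833715 : sm gc N63542 = N63962 := rfl
theorem L833717 : sm ga N63962 = N63543 := ded_11_1 (flp_c L828934) (flp_a L828922) L833715
theorem L833719 : sm ge N63962 = N63719 := ded_28_2 (flp_c L830617) (flp_e L828930) L833715
theorem L833721 : sm gf N63962 = N63585 := ded_29_2 (flp_c L829408) (flp_f L828926) L833715
theorem L833723 : sm gj N63962 = N63544 := ded_31_2 (flp_c L828945) (flp_j L828928) L833715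
theorem L833725 : sm gh N63962 = N63710 := ded_32_2 (flp_c L830557) (flp_h L828932) L833715
theorem L833727 : sm gb N63544 = N63963 := rfl
theorem L833729 : sm gf N63963 = N63615 := ded_22_2 (flp_b L829714) (flp_f L828949) L833727
theorem L833731 : sm gh N63963 = N63715 := ded_25_2 (flp_b L830591) (flp_h L828951) L833727
theorem L833733 : sm ga N63963 = N63963 := ded_10_1 (flp_b L833727) L828947 L822713 (flp_a L828947) L833727
theorem L833734 : sm gc N63963 = N63732 := ded_19_2 (flp_b L830712) (flp_c L825202) (flp_b L822701) L828945 L833727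
theorem L833736 : sm gc N63545 = N63964 := rfl
theorem L833738 : sm ga N63964 = N63546 := ded_11_1 (flp_c L828969) (flp_a L828955) L833736
theorem L833740 : sm ge N63964 = N63640 := ded_28_2 L829979 (flp_e L828965) L833736
theorem L833742 : sm gf N63964 = N63622 := ded_29_2 (flp_c L829774) (flp_f L828959) L833736
theorem L833744 : sm gj N63964 = N63548 := ded_31_2 (flp_c L828996) (flp_j L828961) L833736
theorem L833746 : sm gh N63964 = N63637 := ded_32_2 (flp_c L829956) (flp_h L828967) L833736
theorem L833748 : sm gi N63964 = N63547 := ded_33_2 (flp_c L828984) (flp_i L828963) L833736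
theorem L833750 : sm gd N63964 = N63725 := ded_27_2 (flp_c L830666) (flp_d L825123) (flp_c L822720) L828953 L833736
theorem L833752 : sm gb N63547 = N63965 := rfl
theorem L833754 : sm gd N63965 = N63726 := ded_20_2 (flp_b L830672) (flp_d L828994) L833752
theorem L833756 : sm gf N63965 = N63639 := ded_22_2 (flp_b L829970) (flp_f L828988) L833752
theorem L833758 : sm gj N63965 = N63729 := ded_24_2 (flp_b L830693) (flp_j L828990) L833752
theorem L833760 : sm gh N63965 = N63733 := ded_25_2 (flp_b L830715) (flp_h L828992) L833752
theorem L833762 : sm ga N63965 = N63965 := ded_10_1 (flp_b L833752) L828986 L822764 (flp_a L828986) L833752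
theorem L833763 : sm gc N63965 = N63748 := ded_19_2 L830813 L825332 (flp_b L822748) L828984 L833752
theorem L833765 : sm gb N63548 = N63966 := rfl
theorem L833767 : sm ge N63966 = N63748 := ded_21_2 L830813 (flp_e L829000) L833765
theorem L833769 : sm gf N63966 = N63735 := ded_22_2 (flp_b L830728) (flp_f L829002) L833765
theorem L833771 : sm gg N63966 = N63732 := ded_23_2 (flp_b L830712) (flp_g L829004) L833765
theorem L833773 : sm gh N63966 = N63746 := ded_25_2 (flp_b L830800) (flp_h L829006) L833765
theorem L833775 : sm gi N63966 = N63729 := ded_26_2 (flp_b L830693) (flp_i L829008) L833765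
theorem L833777 : sm ga N63966 = N63966 := ded_10_1 (flp_b L833765) L828998 L822811 (flp_a L828998) L833765
theorem L833778 : sm gc N63549 = N63967 := rfl
theorem L833780 : sm ga N63967 = N63550 := ded_11_1 (flp_c L829022) (flp_a L829012) L833778
theorem L833782 : sm ge N63967 = N63712 := ded_28_2 (flp_c L830571) (flp_e L829020) L833778
theorem L833784 : sm gf N63967 = N63730 := ded_29_2 (flp_c L830698) (flp_f L829016) L833778
theorem L833786 : sm gj N63967 = N63559 := ded_31_2 (flp_c L829132) (flp_j L829018) L833778
theorem L833788 : sm gi N63967 = N63749 := ded_33_2 (flp_c L832900) L832908 L833778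
theorem L833790 : sm gd N63967 = N63727 := ded_27_2 (flp_c L830675) (flp_d L825138) (flp_c L822818) L829010 L833778
theorem L833792 : sm gh N63549 = N63968 := rfl
theorem L833794 : sm ga N63968 = N63551 := ded_17_1 (flp_h L829035) (flp_a L829012) L833792
theorem L833796 : sm gb N63968 = N63586 := ded_25_1 (flp_h L829414) (flp_b L829014) L833792
theorem L833798 : sm ge N63968 = N63666 := ded_43_1 L830215 (flp_e L829020) L833792
theorem L833800 : sm gf N63968 = N63687 := ded_47_1 L830387 (flp_f L829016) L833792
theorem L833802 : sm gj N63968 = N63560 := ded_52_1 (flp_h L829138) (flp_j L829018) L833792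
theorem L833804 : sm gd N63968 = N63567 := ded_38_1 (flp_h L829216) (flp_d L823036) (flp_h L822822) L829010 L833792
theorem L833806 : sm gh N63550 = N63969 := rfl
theorem L833808 : sm gb N63969 = N63969 := ded_25_1 (flp_h L833806) L829032 L833806
theorem L833809 : sm gc N63969 = N63551 := ded_32_1 (flp_h L829035) L829022 L833806
theorem L833811 : sm ge N63969 = N63667 := ded_43_1 L830222 (flp_e L829024) L833806
theorem L833813 : sm gf N63969 = N63688 := ded_47_1 L830395 (flp_f L829026) L833806
theorem L833815 : sm gj N63969 = N63561 := ded_52_1 (flp_h L829148) (flp_j L829028) L833806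
theorem L833817 : sm gd N63969 = N63670 := ded_38_1 (flp_h L830234) (flp_d L829257) L829252 (flp_d L829033) L833806
theorem L833819 : sm gc N63552 = N63970 := rfl
theorem L833821 : sm ga N63970 = N63554 := ded_11_1 (flp_c L829071) (flp_a L829049) L833819
theorem L833823 : sm ge N63970 = N63559 := ded_28_2 (flp_c L829132) (flp_e L829055) L833819
theorem L833825 : sm gj N63970 = N63712 := ded_31_2 (flp_c L830571) (flp_j L829053) L833819
theorem L833827 : sm gd N63970 = N63710 := ded_27_2 (flp_c L830557) (flp_d L824932) (flp_c L822855) L829047 L833819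
theorem L833829 : sm gf N63552 = N63971 := rfl
theorem L833831 : sm ga N63971 = N63555 := ded_14_1 (flp_f L829080) (flp_a L829049) L833829
theorem L833833 : sm gb N63971 = N63606 := ded_22_1 (flp_f L829627) (flp_b L829051) L833829
theorem L833835 : sm gd N63971 = N63553 := ded_35_1 (flp_f L829057) L829047 L833829
theorem L833837 : sm gj N63971 = N63632 := ded_46_2 L829905 (flp_j L829053) L833829
theorem L833839 : sm ge N63971 = N63684 := ded_40_1 L830358 L825083 (flp_f L822953) (flp_e L829055) L833829
theorem L833841 : sm gh N63657 = N63971 := ded_56_0 (flp_f L833829) L829055 (flp_d L822947) (flp_c L819461) L819459 L814352 L803496 (flp_f L799692) (flp_e L799678) L787468 L783962 (flp_b L772815) L761156 (flp_h L761108) L772777 (flp_e L784391) (flp_d L794413) L794411 (flp_b L794308) L794306 (flp_h L792219) (flp_f L792213) (flp_e L779998) (flp_d L768544) (flp_c L763715) L763713 L750978 (flp_h L746102) (flp_f L746095) L746094 (flp_d L756349) L756347 L742248 L725325 L726651 (flp_f L743775) L743774 L757702 L769473 L781022 L793398 L793402 L781135 L781163 L781173 (flp_c L783694) (flp_b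 L791126) (flp_a L791110) L779013 (flp_f L778991) L778989 (flp_d L783902) (flp_c L785601) (flp_b L785591) L773915 (flp_h L782030) (flp_f L793331) L805608 L816282 L816288 (flp_b L824286) (flp_a L830139)
theorem L833843 : sm gh N63552 = N63972 := rfl
theorem L833845 : sm ga N63972 = N63556 := ded_17_1 (flp_h L829092) (flp_a L829049) L833843
theorem L833847 : sm gb N63972 = N63607 := ded_25_1 (flp_h L829637) (flp_b L829051) L833843
theorem L833849 : sm ge N63972 = N63560 := ded_43_1 (flp_h L829138) (flp_e L829055) L833843
theorem L833851 : sm gf N63972 = N63657 := ded_47_1 L833841 (flp_f L833829) L833843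
theorem L833853 : sm gj N63972 = N63666 := ded_52_1 L830215 (flp_j L829053) L833843
theorem L833855 : sm gd N63972 = N63658 := ded_38_1 L830155 L824461 (flp_h L822859) L829047 L833843
theorem L833857 : sm gg N63553 = N63973 := rfl
theorem L833859 : sm ga N63973 = N63557 := ded_15_1 (flp_g L829104) (flp_a L829059) L833857
theorem L833861 : sm gb N63973 = N63608 := ded_23_1 (flp_g L829647) (flp_b L829061) L833857
theorem L833863 : sm gc N63973 = N63627 := ded_30_1 L829851 (flp_c L829063) L833857
theorem L833865 : sm ge N63973 = N63558 := ded_41_1 (flp_g L829116) (flp_e L829069) L833857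
theorem L833867 : sm gh N63973 = N63626 := ded_50_2 L829837 (flp_h L829067) L833857
theorem L833869 : sm gj N63973 = N63649 := ded_49_2 L830065 L824181 (flp_g L823907) (flp_j L829065) L833857
theorem L833871 : sm gf N63554 = N63974 := rfl
theorem L833873 : sm gb N63974 = N63974 := ded_22_1 (flp_f L833871) L829077 L833871
theorem L833874 : sm gc N63974 = N63555 := ded_29_1 (flp_f L829080) L829071 L833871
theorem L833876 : sm gd N63974 = N63587 := ded_35_1 L829429 (flp_d L829078) L833871
theorem L833878 : sm gj N63974 = N63618 := ded_46_2 L829736 (flp_j L829075) L833871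
theorem L833880 : sm ge N63974 = N63685 := ded_40_1 L830367 L825097 (flp_f L822957) (flp_e L829073) L833871
theorem L833882 : sm gh N63659 = N63974 := ded_32_0 L833874 (flp_h L829090) L830159
theorem L833884 : sm gh N63554 = N63975 := rfl
theorem L833886 : sm gb N63975 = N63975 := ded_25_1 (flp_h L833884) L829077 L833884
theorem L833887 : sm gc N63975 = N63556 := ded_32_1 (flp_h L829092) L829071 L833884
theorem L833889 : sm ge N63975 = N63561 := ded_43_1 (flp_h L829148) (flp_e L829073) L833884
theorem L833891 : sm gf N63975 = N63659 := ded_47_1 L833882 (flp_f L833871) L833884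
theorem L833893 : sm gj N63975 = N63667 := ded_52_1 L830222 (flp_j L829075) L833884
theorem L833895 : sm gb N63559 = N63976 := rfl
theorem L833897 : sm gf N63976 = N63732 := ded_22_2 (flp_b L830712) (flp_f L829136) L833895
theorem L833899 : sm ga N63976 = N63976 := ded_10_1 (flp_b L833895) L829134 L822959 (flp_a L829134) L833895
theorem L833900 : sm gc N63976 = N63615 := ded_19_2 (flp_b L829714) (flp_c L823655) (flp_b L822951) L829132 L833895
theorem L833902 : sm gh N63559 = N63977 := rfl
theorem L833904 : sm ga N63977 = N63561 := ded_17_1 (flp_h L829148) (flp_a L829134) L833902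
theorem L833906 : sm gc N63977 = N63560 := ded_32_1 (flp_h L829138) L829132 L833902
theorem L833908 : sm gf N63977 = N63690 := ded_47_1 L830418 (flp_f L829136) L833902
theorem L833910 : sm gc N63562 = N63978 := rfl
theorem L833912 : sm ga N63978 = N63563 := ded_11_1 (flp_c L829171) (flp_a L829157) L833910
theorem L833914 : sm ge N63978 = N63656 := ded_28_2 (flp_c L830127) (flp_e L829167) L833910
theorem L833916 : sm gf N63978 = N63727 := ded_29_2 (flp_c L830675) (flp_f L829161) L833910
theorem L833918 : sm gj N63978 = N63731 := ded_31_2 (flp_c L830704) (flp_j L829163) L833910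
theorem L833920 : sm gh N63978 = N63734 := ded_32_2 (flp_c L830720) (flp_h L829169) L833910
theorem L833922 : sm gi N63978 = N63570 := ded_33_2 (flp_c L829259) (flp_i L829165) L833910
theorem L833924 : sm gd N63978 = N63730 := ded_27_2 (flp_c L830698) (flp_d L825176) (flp_c L822974) L829155 L833910
theorem L833926 : sm gh N63564 = N63979 := rfl
theorem L833928 : sm ga N63979 = N63566 := ded_17_1 (flp_h L829208) (flp_a L829188) L833926
theorem L833930 : sm gb N63979 = N63627 := ded_25_1 (flp_h L829845) (flp_b L829190) L833926
theorem L833932 : sm ge N63979 = N63689 := ded_43_1 L830406 (flp_e L829196) L833926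
theorem L833934 : sm gg N63979 = N63567 := ded_50_1 (flp_h L829216) (flp_g L829192) L833926
theorem L833936 : sm gc N63568 = N63980 := rfl
theorem L833938 : sm ga N63980 = N63569 := ded_11_1 (flp_c L829244) (flp_a L829230) L833936
theorem L833940 : sm ge N63980 = N63570 := ded_28_2 (flp_c L829259) (flp_e L829240) L833936
theorem L833942 : sm gf N63980 = N63734 := ded_29_2 (flp_c L830720) (flp_f L829234) L833936
theorem L833944 : sm gj N63980 = N63713 := ded_31_2 (flp_c L830577) (flp_j L829236) L833936
theorem L833946 : sm gh N63980 = N63727 := ded_32_2 (flp_c L830675) (flp_h L829242) L833936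
theorem L833948 : sm gi N63980 = N63656 := ded_33_2 (flp_c L830127) (flp_i L829238) L833936
theorem L833950 : sm gd N63980 = N63668 := ded_27_2 (flp_c L830224) (flp_d L824365) (flp_c L823076) L829228 L833936
theorem L833952 : sm gb N63570 = N63981 := rfl
theorem L833954 : sm gf N63981 = N63748 := ded_22_2 L830813 (flp_f L829263) L833952
theorem L833956 : sm gj N63981 = N63733 := ded_24_2 (flp_b L830715) (flp_j L829265) L833952
theorem L833958 : sm gh N63981 = N63729 := ded_25_2 (flp_b L830693) (flp_h L829267) L833952
theorem L833960 : sm ga N63981 = N63981 := ded_10_1 (flp_b L833952) L829261 L823120 (flp_a L829261) L833952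
theorem L833961 : sm gc N63981 = N63639 := ded_19_2 (flp_b L829970) (flp_c L824018) (flp_b L823104) L829259 L833952
theorem L833963 : sm gc N63571 = N63982 := rfl
theorem L833965 : sm ga N63982 = N63572 := ded_11_1 (flp_c L829281) (flp_a L829271) L833963
theorem L833967 : sm gf N63982 = N63691 := ded_29_2 (flp_c L830420) (flp_f L829275) L833963
theorem L833969 : sm gj N63982 = N63577 := ded_31_2 (flp_c L829337) (flp_j L829277) L833963
theorem L833971 : sm gi N63982 = N63736 := ded_33_2 (flp_c L830733) (flp_i L829279) L833963
theorem L833973 : sm gd N63982 = N63744 := ded_27_2 (flp_c L830791) (flp_d L825298) (flp_c L823127) L829269 L833963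
theorem L833975 : sm gc N63574 = N63983 := rfl
theorem L833977 : sm ga N63983 = N63575 := ded_11_1 (flp_c L829316) (flp_a L829306) L833975
theorem L833979 : sm gf N63983 = N63744 := ded_29_2 (flp_c L830791) (flp_f L829310) L833975
theorem L833981 : sm gj N63983 = N63736 := ded_31_2 (flp_c L830733) (flp_j L829312) L833975
theorem L833983 : sm gi N63983 = N63577 := ded_33_2 (flp_c L829337) (flp_i L829314) L833975
theorem L833985 : sm gd N63983 = N63691 := ded_27_2 (flp_c L830420) (flp_d L824752) (flp_c L823207) L829304 L833975
theorem L833987 : sm gh N63574 = N63984 := rfl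
theorem L833989 : sm ga N63984 = N63576 := ded_17_1 (flp_h L829327) (flp_a L829306) L833987
theorem L833991 : sm gb N63984 = N63669 := ded_25_1 (flp_h L830230) (flp_b L829308) L833987
theorem L833993 : sm gf N63984 = N63593 := ded_47_1 L829501 (flp_f L829310) L833987
theorem L833995 : sm gj N63984 = N63737 := ded_52_1 (flp_h L830739) (flp_j L829312) L833987
theorem L833997 : sm gd N63984 = N63594 := ded_38_1 L829511 (flp_d L824740) (flp_h L823211) L829304 L833987
theorem L833999 : sm gh N63575 = N63985 := rfl
theorem L834001 : sm gb N63985 = N63985 := ded_25_1 (flp_h L833999) L829324 L833999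
theorem L834002 : sm gc N63985 = N63576 := ded_32_1 (flp_h L829327) L829316 L833999
theorem L834004 : sm gf N63985 = N63595 := ded_47_1 L829519 (flp_f L829318) L833999
theorem L834006 : sm gj N63985 = N63738 := ded_52_1 (flp_h L830747) (flp_j L829320) L833999
theorem L834008 : sm gd N63985 = N63609 := ded_38_1 (flp_h L829660) (flp_d L830299) L830297 (flp_d L829325) L833999
theorem L834010 : sm gb N63577 = N63986 := rfl
theorem L834012 : sm gf N63986 = N63745 := ded_22_2 (flp_b L830797) (flp_f L829341) L834010
theorem L834014 : sm ga N63986 = N63986 := ded_10_1 (flp_b L834010) L829339 L823250 (flp_a L829339) L834010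
theorem L834015 : sm gc N63986 = N63672 := ded_19_2 (flp_b L830249) (flp_c L824389) (flp_b L823242) L829337 L834010
theorem L834017 : sm gh N63577 = N63987 := rfl
theorem L834019 : sm ga N63987 = N63579 := ded_17_1 (flp_h L829353) (flp_a L829339) L834017
theorem L834021 : sm gc N63987 = N63578 := ded_32_1 (flp_h L829343) L829337 L834017
theorem L834023 : sm gf N63987 = N63682 := ded_47_1 L830344 (flp_f L829341) L834017
theorem L834025 : sm gc N63580 = N63988 := rfl
theorem L834027 : sm ga N63988 = N63581 := ded_11_1 (flp_c L829372) (flp_a L829362) L834025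
theorem L834029 : sm ge N63988 = N63585 := ded_28_2 (flp_c L829408) (flp_e L829370) L834025
theorem L834031 : sm gg N63988 = N63736 := ded_30_2 (flp_c L830733) (flp_g L829366) L834025
theorem L834033 : sm gj N63988 = N63605 := ded_31_2 (flp_c L829621) (flp_j L829368) L834025
theorem L834035 : sm gd N63988 = N63743 := ded_27_2 (flp_c L830785) (flp_d L825287) (flp_c L823281) L829360 L834025
theorem L834037 : sm gc N63582 = N63989 := rfl
theorem L834039 : sm ga N63989 = N63583 := ded_11_1 (flp_c L829391) (flp_a L829385) L834037
theorem L834041 : sm ge N63989 = N63736 := ded_28_2 (flp_c L830733) (flp_e L829389) L834037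
theorem L834043 : sm gg N63989 = N63585 := ded_30_2 (flp_c L829408) (flp_g L829387) L834037
theorem L834045 : sm gh N63582 = N63990 := rfl
theorem L834047 : sm ga N63990 = N63584 := ded_17_1 (flp_h L829398) (flp_a L829385) L834045
theorem L834049 : sm ge N63990 = N63737 := ded_43_1 (flp_h L830739) (flp_e L829389) L834045
theorem L834051 : sm gg N63990 = N63586 := ded_50_1 (flp_h L829414) (flp_g L829387) L834045
theorem L834053 : sm gd N63990 = N63627 := ded_38_1 (flp_h L829845) (flp_d L823761) (flp_h L823305) L829383 L834045
theorem L834055 : sm gh N63583 = N63991 := rfl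
theorem L834057 : sm gb N63991 = N63991 := ded_25_1 (flp_h L834055) L829397 L834055
theorem L834058 : sm gc N63991 = N63584 := ded_32_1 (flp_h L829398) L829391 L834055
theorem L834060 : sm ge N63991 = N63738 := ded_43_1 (flp_h L830747) (flp_e L829393) L834055
theorem L834062 : sm gg N63991 = N63587 := ded_50_1 (flp_h L829424) (flp_g L829395) L834055
theorem L834064 : sm gb N63585 = N63992 := rfl
theorem L834066 : sm gj N63992 = N63615 := ded_24_2 (flp_b L829714) (flp_j L829412) L834064
theorem L834068 : sm ga N63992 = N63992 := ded_10_1 (flp_b L834064) L829410 L823334 (flp_a L829410) L834064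
theorem L834069 : sm gh N63585 = N63993 := rfl
theorem L834071 : sm ga N63993 = N63587 := ded_17_1 (flp_h L829424) (flp_a L829410) L834069
theorem L834073 : sm gc N63993 = N63586 := ded_32_1 (flp_h L829414) L829408 L834069
theorem L834075 : sm gf N63993 = N63710 := ded_47_1 (flp_h L833725) L833721 L834069
theorem L834077 : sm gj N63993 = N63616 := ded_52_1 (flp_h L829717) (flp_j L829412) L834069
theorem L834079 : sm gi N63586 = N63994 := rfl
theorem L834081 : sm ga N63994 = N63588 := ded_18_1 (flp_i L829433) (flp_a L829416) L834079
theorem L834083 : sm gd N63994 = N63629 := ded_39_1 (flp_i L829863) (flp_d L829422) L834079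
theorem L834085 : sm gf N63994 = N63708 := ded_48_1 L830544 (flp_f L829418) L834079
theorem L834087 : sm gj N63994 = N63617 := ded_53_1 (flp_i L829725) (flp_j L829420) L834079
theorem L834089 : sm gi N63587 = N63995 := rfl
theorem L834091 : sm gb N63995 = N63995 := ded_26_1 (flp_i L834089) L829426 L834089
theorem L834092 : sm gc N63995 = N63588 := ded_33_1 (flp_i L829433) (flp_c L829427) L834089
theorem L834094 : sm gf N63995 = N63709 := ded_48_1 L830554 (flp_f L829429) L834089
theorem L834096 : sm gj N63995 = N63619 := ded_53_1 (flp_i L829744) (flp_j L829431) L834089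
theorem L834098 : sm gf N63589 = N63996 := rfl
theorem L834100 : sm ga N63996 = N63591 := ded_14_1 (flp_f L829467) (flp_a L829445) L834098
theorem L834102 : sm gb N63996 = N63596 := ded_22_1 (flp_f L829524) (flp_b L829447) L834098
theorem L834104 : sm gc N63996 = N63679 := ded_29_1 L830314 (flp_c L829453) L834098
theorem L834106 : sm gd N63996 = N63590 := ded_35_1 (flp_f L829455) L829443 L834098
theorem L834108 : sm gj N63996 = N63689 := ded_46_2 L830408 (flp_j L829451) L834098
theorem L834110 : sm gg N63996 = N63655 := ded_45_2 L830123 L824593 L824641 (flp_g L829449) L834098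
theorem L834112 : sm gh N63653 = N63996 := ded_56_0 (flp_f L834098) (flp_e L831324) L831322 L826967 L820864 L817346 (flp_h L815864) (flp_f L823891) L823889 (flp_d L824141) (flp_c L828426) L828424 L822029 (flp_h L823807) (flp_f L825911) L825909 L823394 L815131 L804327 L794361 L782844 (flp_f L771254) (flp_e L759545) (flp_d L745976) L729360 L710494 (flp_a L712910) (flp_h L712908) (flp_f L709053) L709051 L687987 L665797 L378664 L260371 L260378 L179849 L123935 L85604 L85602 (flp_b L87096) (flp_a L125976) (flp_h L182125) (flp_f L262969) (flp_e L382594) (flp_d L660587) (flp_c L683072) (flp_b L703448) L703446 L703456 (flp_f L722660) L722658 L727065 L744149 L758055 L769838 (flp_h L781292) L781287 L793692 L805978 L816589 L824515 (flp_a L830105)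
theorem L834114 : sm gh N63589 = N63997 := rfl
theorem L834116 : sm ga N63997 = N63592 := ded_17_1 (flp_h L829481) (flp_a L829445) L834114
theorem L834118 : sm gb N63997 = N63597 := ded_25_1 (flp_h L829538) (flp_b L829447) L834114
theorem L834120 : sm gc N63997 = N63689 := ded_32_1 L830406 (flp_c L829453) L834114
theorem L834122 : sm gf N63997 = N63653 := ded_47_1 L834112 (flp_f L834098) L834114
theorem L834124 : sm gg N63997 = N63590 := ded_50_1 L829465 (flp_g L829449) L834114
theorem L834126 : sm gj N63997 = N63679 := ded_52_1 L830318 (flp_j L829451) L834114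
theorem L834128 : sm gd N63997 = N63655 := ded_38_1 (flp_h L830115) L824229 (flp_h L823366) L829443 L834114
theorem L834130 : sm gc N63593 = N63998 := rfl
theorem L834132 : sm ga N63998 = N63595 := ded_11_1 (flp_c L829515) (flp_a L829497) L834130
theorem L834134 : sm gj N63998 = N63743 := ded_31_2 (flp_c L830785) (flp_j L829499) L834130
theorem L834136 : sm gh N63998 = N63744 := ded_32_2 (flp_c L830791) (flp_h L829501) L834130
theorem L834138 : sm gd N63998 = N63605 := ded_27_2 (flp_c L829621) (flp_d L823566) (flp_c L823420) L829495 L834130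
theorem L834140 : sm ge N63596 = N63999 := rfl
theorem L834142 : sm ga N63999 = N63598 := ded_13_1 (flp_e L829552) (flp_a L829526) L834140
theorem L834144 : sm gc N63999 = N63649 := ded_28_1 L830063 (flp_c L829528) L834140
theorem L834146 : sm gg N63999 = N63630 := ded_41_2 L829881 (flp_g L829534) L834140
theorem L834148 : sm gj N63999 = N63627 := ded_42_2 L829849 (flp_j L829532) L834140
theorem L834150 : sm gh N63999 = N63625 := ded_43_2 L829829 L829536 L834140
theorem L834152 : sm gc N63599 = N64000 := rfl
theorem L834154 : sm ga N64000 = N63601 := ded_11_1 (flp_c L829582) (flp_a L829566) L834152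
theorem L834156 : sm ge N64000 = N63611 := ded_28_2 (flp_c L829671) (flp_e L829572) L834152
theorem L834158 : sm gg N64000 = N63605 := ded_30_2 (flp_c L829621) (flp_g L829568) L834152
theorem L834160 : sm gi N64000 = N63703 := ded_33_2 (flp_c L830512) (flp_i L829570) L834152
theorem L834162 : sm gf N63599 = N64001 := rfl
theorem L834164 : sm ga N64001 = N63602 := ded_14_1 (flp_f L829591) (flp_a L829566) L834162
theorem L834166 : sm gd N64001 = N63600 := ded_35_1 (flp_f L829574) L829564 L834162
theorem L834168 : sm gi N64001 = N63607 := ded_48_2 L829643 (flp_i L829570) L834162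
theorem L834170 : sm ge N64001 = N63617 := ded_40_1 L829731 (flp_e L826553) L826545 (flp_e L829572) L834162
theorem L834172 : sm gh N63599 = N64002 := rfl
theorem L834174 : sm ga N64002 = N63603 := ded_17_1 (flp_h L829601) (flp_a L829566) L834172
theorem L834176 : sm ge N64002 = N63612 := ded_43_1 (flp_h L829681) (flp_e L829572) L834172
theorem L834178 : sm gg N64002 = N63607 := ded_50_1 (flp_h L829637) (flp_g L829568) L834172
theorem L834180 : sm gd N64002 = N63680 := ded_38_1 (flp_h L831563) L831559 L826677 L829564 L834172
theorem L834182 : sm gg N63600 = N64003 := rfl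
theorem L834184 : sm ga N64003 = N63604 := ded_15_1 (flp_g L829611) (flp_a L829576) L834182
theorem L834186 : sm ge N64003 = N63648 := ded_41_1 L830057 (flp_e L829580) L834182
theorem L834188 : sm gi N64003 = N63680 := ded_51_2 L830324 (flp_i L829578) L834182
theorem L834190 : sm gf N64003 = N63608 := ded_45_1 (flp_g L829647) (flp_f L823572) (flp_g L823516) L829574 L834182
theorem L834192 : sm gf N63601 = N64004 := rfl
theorem L834194 : sm gb N64004 = N64004 := ded_22_1 (flp_f L834192) L829590 L834192
theorem L834195 : sm gc N64004 = N63602 := ded_29_1 (flp_f L829591) L829582 L834192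
theorem L834197 : sm gi N64004 = N63610 := ded_48_2 L829669 (flp_i L829588) L834192
theorem L834199 : sm ge N64004 = N63619 := ded_40_1 L829749 (flp_e L826559) L826561 (flp_e L829584) L834192
theorem L834201 : sm gh N63601 = N64005 := rfl
theorem L834203 : sm gb N64005 = N64005 := ded_25_1 (flp_h L834201) L829590 L834201
theorem L834204 : sm gc N64005 = N63603 := ded_32_1 (flp_h L829601) L829582 L834201
theorem L834206 : sm ge N64005 = N63613 := ded_43_1 (flp_h L829691) (flp_e L829584) L834201
theorem L834208 : sm gg N64005 = N63610 := ded_50_1 (flp_h L829662) (flp_g L829586) L834201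
theorem L834210 : sm gb N63605 = N64006 := rfl
theorem L834212 : sm ge N64006 = N63615 := ded_21_2 (flp_b L829714) (flp_e L829625) L834210
theorem L834214 : sm ga N64006 = N64006 := ded_10_1 (flp_b L834210) L829623 L823582 (flp_a L829623) L834210
theorem L834215 : sm gf N63605 = N64007 := rfl
theorem L834217 : sm ga N64007 = N63609 := ded_14_1 (flp_f L829653) (flp_a L829623) L834215
theorem L834219 : sm gc N64007 = N63606 := ded_29_1 (flp_f L829627) L829621 L834215
theorem L834221 : sm ge N64007 = N63705 := ded_40_1 (flp_f L833479) L833477 L828949 (flp_e L829625) L834215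
theorem L834223 : sm gh N63703 = N64007 := ded_17_0 L834217 (flp_h L829660) (flp_a L830514)
theorem L834225 : sm gh N63605 = N64008 := rfl
theorem L834227 : sm ga N64008 = N63610 := ded_17_1 (flp_h L829662) (flp_a L829623) L834225
theorem L834229 : sm gc N64008 = N63607 := ded_32_1 (flp_h L829637) L829621 L834225
theorem L834231 : sm ge N64008 = N63616 := ded_43_1 (flp_h L829717) (flp_e L829625) L834225
theorem L834233 : sm gf N64008 = N63703 := ded_47_1 L834223 (flp_f L834215) L834225
theorem L834235 : sm gb N63611 = N64009 := rfl
theorem L834237 : sm gd N64009 = N63735 := ded_20_2 (flp_b L830728) (flp_d L829679) L834235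
theorem L834239 : sm gg N64009 = N63615 := ded_23_2 (flp_b L829714) (flp_g L829675) L834235
theorem L834241 : sm gi N64009 = N63704 := ded_26_2 (flp_b L830518) (flp_i L829677) L834235
theorem L834243 : sm ga N64009 = N64009 := ded_10_1 (flp_b L834235) L829673 L823631 (flp_a L829673) L834235
theorem L834244 : sm gh N63611 = N64010 := rfl
theorem L834246 : sm ga N64010 = N63613 := ded_17_1 (flp_h L829691) (flp_a L829673) L834244
theorem L834248 : sm gc N64010 = N63612 := ded_32_1 (flp_h L829681) L829671 L834244
theorem L834250 : sm gf N64010 = N63700 := ded_47_1 (flp_h L831848) L831842 L834244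
theorem L834252 : sm gg N64010 = N63616 := ded_50_1 (flp_h L829717) (flp_g L829675) L834244
theorem L834254 : sm gd N64010 = N63674 := ded_38_1 (flp_h L830262) (flp_d L830135) L830133 (flp_d L829679) L834244
theorem L834256 : sm gi N63612 = N64011 := rfl
theorem L834258 : sm ga N64011 = N63614 := ded_18_1 (flp_i L829702) (flp_a L829683) L834256
theorem L834260 : sm gd N64011 = N63631 := ded_39_1 (flp_i L829887) (flp_d L829689) L834256
theorem L834262 : sm gf N64011 = N63635 := ded_48_1 L829941 (flp_f L829685) L834256
theorem L834264 : sm gg N64011 = N63617 := ded_51_1 (flp_i L829725) (flp_g L829687) L834256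
theorem L834266 : sm gh N64011 = N63706 := ded_54_1 (flp_i L830529) (flp_h L824899) (flp_i L823623) L829681 L834256
theorem L834268 : sm gi N63613 = N64012 := rfl
theorem L834270 : sm gb N64012 = N64012 := ded_26_1 (flp_i L834268) L829693 L834268
theorem L834271 : sm gc N64012 = N63614 := ded_33_1 (flp_i L829702) (flp_c L829694) L834268
theorem L834273 : sm gd N64012 = N63678 := ded_39_1 (flp_i L830301) (flp_d L829700) L834268
theorem L834275 : sm gf N64012 = N63636 := ded_48_1 L829951 (flp_f L829696) L834268
theorem L834277 : sm gg N64012 = N63619 := ded_51_1 (flp_i L829744) (flp_g L829698) L834268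
theorem L834279 : sm gh N64012 = N63707 := ded_54_1 (flp_i L830533) (flp_h L824903) (flp_i L823629) L829691 L834268
theorem L834281 : sm gh N63615 = N64013 := rfl
theorem L834283 : sm ga N64013 = N64013 := ded_17_1 (flp_h L834281) L829716 L834281
theorem L834284 : sm gb N64013 = N63616 := ded_25_1 (flp_h L829717) L829714 L834281
theorem L834286 : sm gf N64013 = N63715 := ded_47_1 (flp_h L833731) L833729 L834281
theorem L834288 : sm gd N63616 = N64014 := rfl
theorem L834290 : sm ga N64014 = N63618 := ded_12_1 (flp_d L829733) (flp_a L829719) L834288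
theorem L834292 : sm gf N64014 = N63712 := ded_35_2 L830575 (flp_f L829723) L834288
theorem L834294 : sm gg N64014 = N63674 := ded_36_2 (flp_d L834254) L834252 L834288
theorem L834296 : sm gc N64014 = N63632 := ded_27_1 (flp_d L829901) L823901 (flp_d L823665) (flp_c L829721) L834288
theorem L834298 : sm gh N64014 = N63665 := ded_38_2 L832359 (flp_h L832351) L827155 L829717 L834288
theorem L834300 : sm gi N63616 = N64015 := rfl
theorem L834302 : sm ga N64015 = N63619 := ded_18_1 (flp_i L829744) (flp_a L829719) L834300
theorem L834304 : sm gc N64015 = N63617 := ded_33_1 (flp_i L829725) (flp_c L829721) L834300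
theorem L834306 : sm gf N64015 = N63714 := ded_48_1 L830589 (flp_f L829723) L834300
theorem L834308 : sm gi N63618 = N64016 := rfl
theorem L834310 : sm gb N64016 = N64016 := ded_26_1 (flp_i L834308) L829735 L834308
theorem L834311 : sm gc N64016 = N63634 := ded_33_1 (flp_i L829925) (flp_c L829740) L834308
theorem L834313 : sm gd N64016 = N63619 := ded_39_1 (flp_i L829744) L829733 L834308
theorem L834315 : sm gf N64016 = N63642 := ded_48_1 L829999 (flp_f L829736) L834308
theorem L834317 : sm gg N64016 = N63678 := ded_51_1 (flp_i L830301) (flp_g L829738) L834308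
theorem L834319 : sm gc N63620 = N64017 := rfl
theorem L834321 : sm ga N64017 = N63621 := ded_11_1 (flp_c L829763) (flp_a L829753) L834319
theorem L834323 : sm ge N64017 = N63700 := ded_28_2 (flp_c L830497) (flp_e L829759) L834319
theorem L834325 : sm gg N64017 = N63622 := ded_30_2 (flp_c L829774) (flp_g L829755) L834319
theorem L834327 : sm gh N64017 = N63714 := ded_32_2 (flp_c L830585) (flp_h L829761) L834319
theorem L834329 : sm gi N64017 = N63638 := ded_33_2 (flp_c L829964) (flp_i L829757) L834319
theorem L834331 : sm gb N63622 = N64018 := rfl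
theorem L834333 : sm gj N64018 = N63735 := ded_24_2 (flp_b L830728) (flp_j L829778) L834331
theorem L834335 : sm gi N64018 = N63639 := ded_26_2 (flp_b L829970) (flp_i L829780) L834331
theorem L834337 : sm ga N64018 = N64018 := ded_10_1 (flp_b L834331) L829776 L823718 (flp_a L829776) L834331
theorem L834338 : sm gh N63622 = N64019 := rfl
theorem L834340 : sm ga N64019 = N63624 := ded_17_1 (flp_h L829800) (flp_a L829776) L834338
theorem L834342 : sm gc N64019 = N63623 := ded_32_1 (flp_h L829782) L829774 L834338
theorem L834344 : sm ge N64019 = N63731 := ded_43_1 (flp_h L832532) L832524 L834338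
theorem L834346 : sm gf N64019 = N63637 := ded_47_1 (flp_h L833746) L833742 L834338
theorem L834348 : sm gg N64019 = N63714 := ded_50_1 (flp_h L834327) L834325 L834338
theorem L834350 : sm gj N64019 = N63656 := ded_52_1 L830133 (flp_j L829778) L834338
theorem L834352 : sm gi N64019 = N63713 := ded_54_2 (flp_h L831830) L831832 (flp_h L829975) (flp_i L829780) L834338
theorem L834354 : sm gd N63643 = N64019 := ded_12_0 L834340 (flp_d L829815) (flp_a L830006)
theorem L834356 : sm gi N63627 = N64020 := rfl
theorem L834358 : sm ga N64020 = N63628 := ded_18_1 (flp_i L829853) (flp_a L829847) L834356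
theorem L834360 : sm ge N64020 = N63711 := ded_44_1 L830569 (flp_e L829849) L834356
theorem L834362 : sm gg N64020 = N63629 := ded_51_1 (flp_i L829863) (flp_g L829851) L834356
theorem L834364 : sm gh N64020 = N63654 := ded_54_1 (flp_i L830109) (flp_h L824215) (flp_i L823767) L829845 L834356
theorem L834366 : sm gi N63632 = N64021 := rfl
theorem L834368 : sm ga N64021 = N63634 := ded_18_1 (flp_i L829925) (flp_a L829903) L834366
theorem L834370 : sm gd N64021 = N63633 := ded_39_1 (flp_i L829911) L829901 L834366
theorem L834372 : sm gf N64021 = N63641 := ded_48_1 L829991 (flp_f L829905) L834366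
theorem L834374 : sm gg N64021 = N63676 := ded_51_1 (flp_i L830282) (flp_g L829907) L834366
theorem L834376 : sm gc N63635 = N64022 := rfl
theorem L834378 : sm ga N64022 = N63636 := ded_11_1 (flp_c L829945) (flp_a L829937) L834376
theorem L834380 : sm ge N64022 = N63638 := ded_28_2 (flp_c L829964) (flp_e L829943) L834376
theorem L834382 : sm gg N64022 = N63637 := ded_30_2 (flp_c L829956) (flp_g L829939) L834376
theorem L834384 : sm gi N64022 = N63700 := ded_33_2 (flp_c L830497) (flp_i L829941) L834376
theorem L834386 : sm gd N64022 = N63701 := ded_27_2 (flp_c L830503) (flp_d L824861) (flp_c L823956) L829935 L834376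
theorem L834388 : sm gb N63637 = N64023 := rfl
theorem L834390 : sm ge N64023 = N63639 := ded_21_2 (flp_b L829970) (flp_e L829960) L834388
theorem L834392 : sm gj N64023 = N63746 := ded_24_2 (flp_b L830800) (flp_j L829962) L834388
theorem L834394 : sm ga N64023 = N64023 := ded_10_1 (flp_b L834388) L829958 L824006 (flp_a L829958) L834388
theorem L834395 : sm gb N63638 = N64024 := rfl
theorem L834397 : sm gg N64024 = N63639 := ded_23_2 (flp_b L829970) (flp_g L829968) L834395
theorem L834399 : sm ga N64024 = N64024 := ded_10_1 (flp_b L834395) L829966 L824017 (flp_a L829966) L834395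
theorem L834400 : sm gh N63639 = N64025 := rfl
theorem L834402 : sm ga N64025 = N64025 := ded_17_1 (flp_h L834400) L829974 L834400
theorem L834403 : sm gb N64025 = N63640 := ded_25_1 (flp_h L829975) L829970 L834400
theorem L834405 : sm gc N64025 = N63729 := ded_32_1 (flp_h L833958) L833961 L834400
theorem L834407 : sm gf N64025 = N63733 := ded_47_1 (flp_h L833760) L833756 L834400
theorem L834409 : sm gj N64025 = N63748 := ded_52_1 (flp_h L830810) (flp_j L829972) L834400
theorem L834411 : sm gc N63641 = N64026 := rfl
theorem L834413 : sm ga N64026 = N63642 := ded_11_1 (flp_c L829993) (flp_a L829987) L834411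
theorem L834415 : sm ge N64026 = N63749 := ded_28_2 (flp_c L832900) (flp_e L832912) L834411
theorem L834417 : sm gg N64026 = N63643 := ded_30_2 (flp_c L830004) (flp_g L829989) L834411
theorem L834419 : sm gi N64026 = N63712 := ded_33_2 (flp_c L830571) (flp_i L829991) L834411
theorem L834421 : sm gd N64026 = N63714 := ded_27_2 (flp_c L830585) (flp_d L824993) (flp_c L824049) L829985 L834411
theorem L834423 : sm gb N63643 = N64027 := rfl
theorem L834425 : sm gj N64027 = N63672 := ded_24_2 (flp_b L830249) (flp_j L830008) L834423
theorem L834427 : sm ga N64027 = N64027 := ded_10_1 (flp_b L834423) L830006 L824075 (flp_a L830006) L834423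
theorem L834428 : sm gh N63643 = N64028 := rfl
theorem L834430 : sm ga N64028 = N63645 := ded_17_1 (flp_h L830020) (flp_a L830006) L834428
theorem L834432 : sm gc N64028 = N63644 := ded_32_1 (flp_h L830010) L830004 L834428
theorem L834434 : sm gf N64028 = N63699 := ded_47_1 (flp_h L832550) L832544 L834428
theorem L834436 : sm gj N64028 = N63674 := ded_52_1 (flp_h L830262) (flp_j L830008) L834428
theorem L834438 : sm gi N63644 = N64029 := rfl
theorem L834440 : sm ga N64029 = N63646 := ded_18_1 (flp_i L830029) (flp_a L830012) L834438
theorem L834442 : sm gd N64029 = N63652 := ded_39_1 (flp_i L830085) (flp_d L830018) L834438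
theorem L834444 : sm gf N64029 = N63697 := ded_48_1 L830476 (flp_f L830014) L834438
theorem L834446 : sm gj N64029 = N63676 := ded_53_1 (flp_i L830282) (flp_j L830016) L834438
theorem L834448 : sm gi N63645 = N64030 := rfl
theorem L834450 : sm gb N64030 = N64030 := ded_26_1 (flp_i L834448) L830022 L834448
theorem L834451 : sm gc N64030 = N63646 := ded_33_1 (flp_i L830029) (flp_c L830023) L834448
theorem L834453 : sm gf N64030 = N63698 := ded_48_1 L830486 (flp_f L830025) L834448
theorem L834455 : sm gj N64030 = N63678 := ded_53_1 (flp_i L830301) (flp_j L830027) L834448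
theorem L834457 : sm gh N63648 = N64031 := rfl
theorem L834459 : sm ga N64031 = N63650 := ded_17_1 (flp_h L830067) (flp_a L830051) L834457
theorem L834461 : sm gf N64031 = N63649 := ded_47_1 (flp_h L830059) L830049 L834457
theorem L834463 : sm gg N64031 = N63693 := ded_50_1 L830442 (flp_g L830057) L834457
theorem L834465 : sm gi N63649 = N64032 := rfl
theorem L834467 : sm ga N64032 = N63651 := ded_18_1 (flp_i L830075) (flp_a L830061) L834465
theorem L834469 : sm ge N64032 = N63654 := ded_44_1 (flp_i L830109) (flp_e L830063) L834465
theorem L834471 : sm gg N64032 = N63652 := ded_51_1 (flp_i L830085) (flp_g L830065) L834465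
theorem L834473 : sm gh N64032 = N63711 := ded_54_1 L830569 L824965 (flp_i L824123) L830059 L834465
theorem L834475 : sm gb N63656 = N64033 := rfl
theorem L834477 : sm gd N64033 = N63672 := ded_20_2 (flp_b L830249) (flp_d L830135) L834475
theorem L834479 : sm gf N64033 = N63746 := ded_22_2 (flp_b L830800) (flp_f L830131) L834475
theorem L834481 : sm gh N64033 = N63735 := ded_25_2 (flp_b L830728) (flp_h L830133) L834475
theorem L834483 : sm ga N64033 = N64033 := ded_10_1 (flp_b L834475) L830129 L824271 (flp_a L830129) L834475
theorem L834484 : sm gc N63657 = N64034 := rfl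
theorem L834486 : sm ga N64034 = N63659 := ded_11_1 (flp_c L830159) (flp_a L830139) L834484
theorem L834488 : sm ge N64034 = N63683 := ded_28_2 (flp_c L830346) (flp_e L830145) L834484
theorem L834490 : sm gj N64034 = N63665 := ded_31_2 (flp_c L830203) (flp_j L830143) L834484
theorem L834492 : sm gc N63660 = N64035 := rfl
theorem L834494 : sm ga N64035 = N63662 := ded_11_1 (flp_c L830182) (flp_a L830168) L834492
theorem L834496 : sm gg N64035 = N63668 := ded_30_2 (flp_c L830224) (flp_g L830170) L834492
theorem L834498 : sm gi N64035 = N63665 := ded_33_2 (flp_c L830203) (flp_i L830172) L834492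
theorem L834500 : sm gf N63660 = N64036 := rfl
theorem L834502 : sm ga N64036 = N63663 := ded_14_1 (flp_f L830189) (flp_a L830168) L834500
theorem L834504 : sm gd N64036 = N63661 := ded_35_1 (flp_f L830174) L830166 L834500
theorem L834506 : sm gi N64036 = N63666 := ded_48_2 (flp_f L830209) (flp_i L830172) L834500
theorem L834508 : sm gh N63660 = N64037 := rfl
theorem L834510 : sm ga N64037 = N63664 := ded_17_1 (flp_h L830197) (flp_a L830168) L834508
theorem L834512 : sm gg N64037 = N63669 := ded_50_1 (flp_h L830230) (flp_g L830170) L834508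
theorem L834514 : sm gf N63662 = N64038 := rfl
theorem L834516 : sm gb N64038 = N64038 := ded_22_1 (flp_f L834514) L830188 L834514
theorem L834517 : sm gc N64038 = N63663 := ded_29_1 (flp_f L830189) L830182 L834514
theorem L834519 : sm gi N64038 = N63667 := ded_48_2 (flp_f L830217) (flp_i L830186) L834514
theorem L834521 : sm gh N63662 = N64039 := rfl
theorem L834523 : sm gb N64039 = N64039 := ded_25_1 (flp_h L834521) L830188 L834521
theorem L834524 : sm gc N64039 = N63664 := ded_32_1 (flp_h L830197) L830182 L834521
theorem L834526 : sm gg N64039 = N63670 := ded_50_1 (flp_h L830234) (flp_g L830184) L834521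
theorem L834528 : sm gb N63665 = N64040 := rfl
theorem L834530 : sm gg N64040 = N63672 := ded_23_2 (flp_b L830249) (flp_g L830207) L834528
theorem L834532 : sm ga N64040 = N64040 := ded_10_1 (flp_b L834528) L830205 L824356 (flp_a L830205) L834528
theorem L834533 : sm gf N63665 = N64041 := rfl
theorem L834535 : sm ga N64041 = N63667 := ded_14_1 (flp_f L830217) (flp_a L830205) L834533
theorem L834537 : sm gc N64041 = N63666 := ded_29_1 (flp_f L830209) L830203 L834533
theorem L834539 : sm gh N64041 = N63712 := ded_47_2 (flp_f L834292) L834298 L834533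
theorem L834541 : sm gb N63668 = N64042 := rfl
theorem L834543 : sm gi N64042 = N63672 := ded_26_2 (flp_b L830249) (flp_i L830228) L834541
theorem L834545 : sm ga N64042 = N64042 := ded_10_1 (flp_b L834541) L830226 L824375 (flp_a L830226) L834541
theorem L834546 : sm gh N63668 = N64043 := rfl
theorem L834548 : sm ga N64043 = N63670 := ded_17_1 (flp_h L830234) (flp_a L830226) L834546
theorem L834550 : sm gc N64043 = N63669 := ded_32_1 (flp_h L830230) L830224 L834546
theorem L834552 : sm gi N63669 = N64044 := rfl
theorem L834554 : sm ga N64044 = N63671 := ded_18_1 (flp_i L830239) (flp_a L830232) L834552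
theorem L834556 : sm gd N64044 = N63693 := ded_39_1 (flp_i L831275) L831269 L834552
theorem L834558 : sm gf N64044 = N63692 := ded_48_1 (flp_i L831253) (flp_f L831259) L834552
theorem L834560 : sm gh N64044 = N63676 := ded_54_1 (flp_i L830282) (flp_h L824403) (flp_i L824369) L830230 L834552
theorem L834562 : sm gi N63670 = N64045 := rfl
theorem L834564 : sm gb N64045 = N64045 := ded_26_1 (flp_i L834562) L830236 L834562
theorem L834565 : sm gc N64045 = N63671 := ded_33_1 (flp_i L830239) (flp_c L830237) L834562
theorem L834567 : sm gf N64045 = N63694 := ded_48_1 (flp_i L831291) L831283 L834562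
theorem L834569 : sm gh N64045 = N63678 := ded_54_1 (flp_i L830301) (flp_h L824420) (flp_i L824373) L830234 L834562
theorem L834571 : sm gf N63672 = N64046 := rfl
theorem L834573 : sm ga N64046 = N64046 := ded_14_1 (flp_f L834571) L830251 L834571
theorem L834574 : sm gb N64046 = N63673 := ded_22_1 (flp_f L830252) L830249 L834571
theorem L834576 : sm gc N64046 = N63745 := ded_29_1 (flp_f L834012) L834015 L834571
theorem L834578 : sm gd N64046 = N63746 := ded_35_1 (flp_f L834479) L834477 L834571
theorem L834580 : sm gh N63702 = N64046 := ded_25_0 L834574 (flp_h L830260) L830509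
theorem L834582 : sm gh N63672 = N64047 := rfl
theorem L834584 : sm ga N64047 = N64047 := ded_17_1 (flp_h L834582) L830251 L834582
theorem L834585 : sm gb N64047 = N63674 := ded_25_1 (flp_h L830262) L830249 L834582
theorem L834587 : sm gf N64047 = N63702 := ded_47_1 L834580 (flp_f L834571) L834582
theorem L834589 : sm ge N63673 = N64048 := rfl
theorem L834591 : sm ga N64048 = N63677 := ded_13_1 (flp_e L830290) (flp_a L830254) L834589
theorem L834593 : sm gc N64048 = N63675 := ded_28_1 (flp_e L830270) (flp_c L830256) L834589
theorem L834595 : sm gj N64048 = N63682 := ded_42_2 (flp_e L832542) L832548 L834589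
theorem L834597 : sm gh N64048 = N63691 := ded_43_2 L830424 L830260 L834589
theorem L834599 : sm gd N64048 = N63703 := ded_34_1 L830516 L824897 (flp_e L825317) (flp_d L830258) L834589
theorem L834601 : sm gi N63674 = N64049 := rfl
theorem L834603 : sm ga N64049 = N63678 := ded_18_1 (flp_i L830301) (flp_a L830264) L834601
theorem L834605 : sm gc N64049 = N63676 := ded_33_1 (flp_i L830282) (flp_c L830266) L834601
theorem L834607 : sm gf N64049 = N63701 := ded_48_1 L830507 (flp_f L830268) L834601
theorem L834609 : sm gb N63681 = N64050 := rfl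
theorem L834611 : sm gd N64050 = N63729 := ded_20_2 (flp_b L830693) (flp_d L830338) L834609
theorem L834613 : sm ge N64050 = N63715 := ded_21_2 (flp_b L830591) (flp_e L830330) L834609
theorem L834615 : sm gf N64050 = N63704 := ded_22_2 (flp_b L830518) (flp_f L830332) L834609
theorem L834617 : sm gg N64050 = N63733 := ded_23_2 (flp_b L830715) (flp_g L830334) L834609
theorem L834619 : sm gj N64050 = N63726 := ded_24_2 (flp_b L830672) (flp_j L830336) L834609
theorem L834621 : sm ga N64050 = N64050 := ded_10_1 (flp_b L834609) L830328 L824569 (flp_a L830328) L834609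
theorem L834622 : sm gc N64050 = N63747 := ded_19_2 (flp_b L830805) (flp_c L825319) (flp_b L824549) L830326 L834609
theorem L834624 : sm gb N63682 = N64051 := rfl
theorem L834626 : sm gh N64051 = N63745 := ded_25_2 (flp_b L830797) (flp_h L830344) L834624
theorem L834628 : sm ga N64051 = N64051 := ded_10_1 (flp_b L834624) L830342 L824584 (flp_a L830342) L834624
theorem L834629 : sm gc N64051 = N63702 := ded_19_2 (flp_b L830509) (flp_c L824872) (flp_b L824576) L830340 L834624
theorem L834631 : sm gb N63683 = N64052 := rfl
theorem L834633 : sm gf N64052 = N63747 := ded_22_2 (flp_b L830805) (flp_f L830350) L834631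
theorem L834635 : sm ga N64052 = N64052 := ded_10_1 (flp_b L834631) L830348 L824623 (flp_a L830348) L834631
theorem L834636 : sm gc N64052 = N63704 := ded_19_2 (flp_b L830518) (flp_c L824893) (flp_b L824615) L830346 L834631
theorem L834638 : sm gh N63683 = N64053 := rfl
theorem L834640 : sm ga N64053 = N63685 := ded_17_1 (flp_h L830362) (flp_a L830348) L834638
theorem L834642 : sm gc N64053 = N63684 := ded_32_1 (flp_h L830352) L830346 L834638
theorem L834644 : sm gf N64053 = N63723 := ded_47_1 L830658 (flp_f L830350) L834638
theorem L834646 : sm gi N63684 = N64054 := rfl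
theorem L834648 : sm ga N64054 = N63686 := ded_18_1 (flp_i L830369) (flp_a L830354) L834646
theorem L834650 : sm gb N64054 = N63706 := ded_26_1 (flp_i L830529) (flp_b L830356) L834646
theorem L834652 : sm gd N64054 = N63721 := ded_39_1 L830637 (flp_d L830360) L834646
theorem L834654 : sm gf N64054 = N63720 := ded_48_1 L830629 (flp_f L830358) L834646
theorem L834656 : sm gi N63685 = N64055 := rfl
theorem L834658 : sm gb N64055 = N64055 := ded_26_1 (flp_i L834656) L830364 L834656
theorem L834659 : sm gc N64055 = N63686 := ded_33_1 (flp_i L830369) (flp_c L830365) L834656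
theorem L834661 : sm gf N64055 = N63722 := ded_48_1 L830647 (flp_f L830367) L834656
theorem L834663 : sm gc N63687 = N64056 := rfl
theorem L834665 : sm ga N64056 = N63688 := ded_11_1 (flp_c L830389) (flp_a L830379) L834663
theorem L834667 : sm ge N64056 = N63724 := ded_28_2 (flp_c L830660) (flp_e L830385) L834663
theorem L834669 : sm gj N64056 = N63690 := ded_31_2 (flp_c L830410) (flp_j L830383) L834663
theorem L834671 : sm gh N64056 = N63730 := ded_32_2 (flp_c L830698) (flp_h L830387) L834663
theorem L834673 : sm gb N63690 = N64057 := rfl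
theorem L834675 : sm ge N64057 = N63747 := ded_21_2 (flp_b L830805) (flp_e L830414) L834673
theorem L834677 : sm gg N64057 = N63746 := ded_23_2 (flp_b L830800) (flp_g L830416) L834673
theorem L834679 : sm gh N64057 = N63732 := ded_25_2 (flp_b L830712) (flp_h L830418) L834673
theorem L834681 : sm ga N64057 = N64057 := ded_10_1 (flp_b L834673) L830412 L824739 (flp_a L830412) L834673
theorem L834682 : sm gc N64057 = N63715 := ded_19_2 (flp_b L830591) (flp_c L825004) (flp_b L824723) L830410 L834673
theorem L834684 : sm gb N63691 = N64058 := rfl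
theorem L834686 : sm ge N64058 = N63702 := ded_21_2 (flp_b L830509) (flp_e L830424) L834684
theorem L834688 : sm gj N64058 = N63745 := ded_24_2 (flp_b L830797) (flp_j L830426) L834684
theorem L834690 : sm ga N64058 = N64058 := ded_10_1 (flp_b L834684) L830422 L824766 (flp_a L830422) L834684
theorem L834691 : sm gc N63692 = N64059 := rfl
theorem L834693 : sm ga N64059 = N63694 := ded_11_1 (flp_c L830444) (flp_a L830430) L834691
theorem L834695 : sm ge N64059 = N63743 := ded_28_2 (flp_c L830785) (flp_e L830434) L834691
theorem L834697 : sm gg N64059 = N63699 := ded_30_2 (flp_c L830489) (flp_g L830432) L834691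
theorem L834699 : sm gh N64059 = N63701 := ded_32_2 (flp_c L830503) (flp_h L830436) L834691
theorem L834701 : sm gc N63695 = N64060 := rfl
theorem L834703 : sm ga N64060 = N63696 := ded_11_1 (flp_c L830461) (flp_a L830455) L834701
theorem L834705 : sm gj N64060 = N63700 := ded_31_2 (flp_c L830497) (flp_j L830457) L834701
theorem L834707 : sm gh N64060 = N63725 := ded_32_2 (flp_c L830666) (flp_h L830459) L834701
theorem L834709 : sm gd N64060 = N63699 := ded_27_2 (flp_c L830489) (flp_d L824837) (flp_c L824803) L830453 L834701
theorem L834711 : sm gc N63697 = N64061 := rfl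
theorem L834713 : sm ga N64061 = N63698 := ded_11_1 (flp_c L830480) (flp_a L830472) L834711
theorem L834715 : sm ge N64061 = N63744 := ded_28_2 (flp_c L830791) (flp_e L830478) L834711
theorem L834717 : sm gj N64061 = N63701 := ded_31_2 (flp_c L830503) (flp_j L830474) L834711
theorem L834719 : sm gi N64061 = N63699 := ded_33_2 (flp_c L830489) (flp_i L830476) L834711
theorem L834721 : sm gb N63699 = N64062 := rfl
theorem L834723 : sm ge N64062 = N63745 := ded_21_2 (flp_b L830797) (flp_e L830493) L834721
theorem L834725 : sm gj N64062 = N63702 := ded_24_2 (flp_b L830509) (flp_j L830495) L834721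
theorem L834727 : sm ga N64062 = N64062 := ded_10_1 (flp_b L834721) L830491 L824851 (flp_a L830491) L834721
theorem L834728 : sm gb N63700 = N64063 := rfl
theorem L834730 : sm gd N64063 = N63702 := ded_20_2 (flp_b L830509) (flp_d L830501) L834728
theorem L834732 : sm ga N64063 = N64063 := ded_10_1 (flp_b L834728) L830499 L824858 (flp_a L830499) L834728
theorem L834733 : sm gb N63701 = N64064 := rfl
theorem L834735 : sm gi N64064 = N63702 := ded_26_2 (flp_b L830509) (flp_i L830507) L834733
theorem L834737 : sm ga N64064 = N64064 := ded_10_1 (flp_b L834733) L830505 L824871 (flp_a L830505) L834733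
theorem L834738 : sm gb N63703 = N64065 := rfl
theorem L834740 : sm ge N64065 = N63704 := ded_21_2 (flp_b L830518) (flp_e L830516) L834738
theorem L834742 : sm ga N64065 = N64065 := ded_10_1 (flp_b L834738) L830514 L824892 (flp_a L830514) L834738
theorem L834743 : sm gh N63704 = N64066 := rfl
theorem L834745 : sm ga N64066 = N64066 := ded_17_1 (flp_h L834743) L830522 L834743
theorem L834746 : sm gb N64066 = N63705 := ded_25_1 (flp_h L830523) L830518 L834743
theorem L834748 : sm gi N63705 = N64067 := rfl
theorem L834750 : sm ga N64067 = N63707 := ded_18_1 (flp_i L830533) (flp_a L830525) L834748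
theorem L834752 : sm gc N64067 = N63706 := ded_33_1 (flp_i L830529) (flp_c L830527) L834748
theorem L834754 : sm gc N63708 = N64068 := rfl
theorem L834756 : sm ga N64068 = N63709 := ded_11_1 (flp_c L830548) (flp_a L830540) L834754
theorem L834758 : sm ge N64068 = N63725 := ded_28_2 (flp_c L830666) (flp_e L830546) L834754
theorem L834760 : sm gj N64068 = N63714 := ded_31_2 (flp_c L830585) (flp_j L830542) L834754
theorem L834762 : sm gi N64068 = N63710 := ded_33_2 (flp_c L830557) (flp_i L830544) L834754
theorem L834764 : sm gb N63710 = N64069 := rfl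
theorem L834766 : sm ge N64069 = N63726 := ded_21_2 (flp_b L830672) (flp_e L830561) L834764
theorem L834768 : sm gj N64069 = N63715 := ded_24_2 (flp_b L830591) (flp_j L830563) L834764
theorem L834770 : sm ga N64069 = N64069 := ded_10_1 (flp_b L834764) L830559 L824946 (flp_a L830559) L834764
theorem L834771 : sm gb N63712 = N64070 := rfl
theorem L834773 : sm gd N64070 = N63715 := ded_20_2 (flp_b L830591) (flp_d L830575) L834771
theorem L834775 : sm ga N64070 = N64070 := ded_10_1 (flp_b L834771) L830573 L824973 (flp_a L830573) L834771
theorem L834776 : sm gb N63713 = N64071 := rfl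
theorem L834778 : sm ge N64071 = N63733 := ded_21_2 (flp_b L830715) (flp_e L830581) L834776
theorem L834780 : sm gg N64071 = N63715 := ded_23_2 (flp_b L830591) (flp_g L830583) L834776
theorem L834782 : sm ga N64071 = N64071 := ded_10_1 (flp_b L834776) L830579 L824992 (flp_a L830579) L834776
theorem L834783 : sm gc N64071 = N63746 := ded_19_2 (flp_b L830800) (flp_c L825313) (flp_b L824980) L830577 L834776
theorem L834785 : sm gb N63714 = N64072 := rfl
theorem L834787 : sm gi N64072 = N63715 := ded_26_2 (flp_b L830591) (flp_i L830589) L834785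
theorem L834789 : sm ga N64072 = N64072 := ded_10_1 (flp_b L834785) L830587 L825003 (flp_a L830587) L834785
theorem L834790 : sm gc N63716 = N64073 := rfl
theorem L834792 : sm ga N64073 = N63718 := ded_11_1 (flp_c L830610) (flp_a L830596) L834790
theorem L834794 : sm gg N64073 = N63730 := ded_30_2 (flp_c L830698) (flp_g L830598) L834790
theorem L834796 : sm gi N64073 = N63719 := ded_33_2 (flp_c L830617) (flp_i L830600) L834790
theorem L834798 : sm gb N63719 = N64074 := rfl
theorem L834800 : sm gh N64074 = N63726 := ded_25_2 (flp_b L830672) (flp_h L830621) L834798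
theorem L834802 : sm ga N64074 = N64074 := ded_10_1 (flp_b L834798) L830619 L825050 (flp_a L830619) L834798
theorem L834803 : sm gc N63720 = N64075 := rfl
theorem L834805 : sm ga N64075 = N63722 := ded_11_1 (flp_c L830641) (flp_a L830625) L834803
theorem L834807 : sm ge N64075 = N63728 := ded_28_2 (flp_c L830683) (flp_e L830631) L834803
theorem L834809 : sm gg N64075 = N63727 := ded_30_2 (flp_c L830675) (flp_g L830627) L834803
theorem L834811 : sm gi N64075 = N63723 := ded_33_2 (flp_c L830650) (flp_i L830629) L834803
theorem L834813 : sm gb N63723 = N64076 := rfl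
theorem L834815 : sm ge N64076 = N63732 := ded_21_2 (flp_b L830712) (flp_e L830654) L834813
theorem L834817 : sm gg N64076 = N63748 := ded_23_2 L830813 (flp_g L830656) L834813
theorem L834819 : sm gh N64076 = N63747 := ded_25_2 (flp_b L830805) (flp_h L830658) L834813
theorem L834821 : sm ga N64076 = N64076 := ded_10_1 (flp_b L834813) L830652 L825103 (flp_a L830652) L834813
theorem L834822 : sm gb N63724 = N64077 := rfl
theorem L834824 : sm gj N64077 = N63747 := ded_24_2 (flp_b L830805) (flp_j L830664) L834822
theorem L834826 : sm ga N64077 = N64077 := ded_10_1 (flp_b L834822) L830662 L825122 (flp_a L830662) L834822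
theorem L834827 : sm gc N64077 = N63726 := ded_19_2 (flp_b L830672) (flp_c L825134) (flp_b L825114) L830660 L834822
theorem L834829 : sm gb N63725 = N64078 := rfl
theorem L834831 : sm gi N64078 = N63726 := ded_26_2 (flp_b L830672) (flp_i L830670) L834829
theorem L834833 : sm ga N64078 = N64078 := ded_10_1 (flp_b L834829) L830668 L825133 (flp_a L830668) L834829
theorem L834834 : sm gb N63727 = N64079 := rfl
theorem L834836 : sm ge N64079 = N63729 := ded_21_2 (flp_b L830693) (flp_e L830679) L834834
theorem L834838 : sm gi N64079 = N63748 := ded_26_2 L830813 (flp_i L830681) L834834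
theorem L834840 : sm ga N64079 = N64079 := ded_10_1 (flp_b L834834) L830677 L825152 (flp_a L830677) L834834
theorem L834841 : sm gb N63728 = N64080 := rfl
theorem L834843 : sm gd N64080 = N63733 := ded_20_2 (flp_b L830715) (flp_d L830691) L834841
theorem L834845 : sm gg N64080 = N63729 := ded_23_2 (flp_b L830693) (flp_g L830687) L834841
theorem L834847 : sm gi N64080 = N63732 := ded_26_2 (flp_b L830712) (flp_i L830689) L834841
theorem L834849 : sm ga N64080 = N64080 := ded_10_1 (flp_b L834841) L830685 L825167 (flp_a L830685) L834841
theorem L834850 : sm gb N63730 = N64081 := rfl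
theorem L834852 : sm gj N64081 = N63732 := ded_24_2 (flp_b L830712) (flp_j L830702) L834850
theorem L834854 : sm ga N64081 = N64081 := ded_10_1 (flp_b L834850) L830700 L825186 (flp_a L830700) L834850
theorem L834855 : sm gb N63731 = N64082 := rfl
theorem L834857 : sm gd N64082 = N63732 := ded_20_2 (flp_b L830712) (flp_d L830710) L834855
theorem L834859 : sm gi N64082 = N63733 := ded_26_2 (flp_b L830715) (flp_i L830708) L834855
theorem L834861 : sm ga N64082 = N64082 := ded_10_1 (flp_b L834855) L830706 L825199 (flp_a L830706) L834855
theorem L834862 : sm gc N64082 = N63735 := ded_19_2 (flp_b L830728) (flp_c L825225) (flp_b L825191) L830704 L834855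
theorem L834864 : sm gb N63734 = N64083 := rfl
theorem L834866 : sm ge N64083 = N63735 := ded_21_2 (flp_b L830728) (flp_e L830724) L834864
theorem L834868 : sm gi N64083 = N63746 := ded_26_2 (flp_b L830800) (flp_i L830726) L834864
theorem L834870 : sm ga N64083 = N64083 := ded_10_1 (flp_b L834864) L830722 L825224 (flp_a L830722) L834864
theorem L834871 : sm gb N63736 = N64084 := rfl
theorem L834873 : sm gd N64084 = N63745 := ded_20_2 (flp_b L830797) (flp_d L830737) L834871
theorem L834875 : sm ga N64084 = N64084 := ded_10_1 (flp_b L834871) L830735 L825237 (flp_a L830735) L834871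
theorem L834876 : sm gh N63736 = N64085 := rfl
theorem L834878 : sm ga N64085 = N63738 := ded_17_1 (flp_h L830747) (flp_a L830735) L834876
theorem L834880 : sm gc N64085 = N63737 := ded_32_1 (flp_h L830739) L830733 L834876
theorem L834882 : sm gf N64085 = N63743 := ded_47_1 (flp_h L831866) L831860 L834876
theorem L834884 : sm gi N63737 = N64086 := rfl
theorem L834886 : sm ga N64086 = N63739 := ded_18_1 (flp_i L830754) (flp_a L830741) L834884
theorem L834888 : sm gd N64086 = N63740 := ded_39_1 (flp_i L830762) (flp_d L830745) L834884
theorem L834890 : sm gf N64086 = N63741 := ded_48_1 L830776 (flp_f L830743) L834884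
theorem L834892 : sm gi N63738 = N64087 := rfl
theorem L834894 : sm gb N64087 = N64087 := ded_26_1 (flp_i L834892) L830749 L834892
theorem L834895 : sm gc N64087 = N63739 := ded_33_1 (flp_i L830754) (flp_c L830750) L834892
theorem L834897 : sm gf N64087 = N63742 := ded_48_1 L830782 (flp_f L830752) L834892
theorem L834899 : sm gc N63741 = N64088 := rfl
theorem L834901 : sm ga N64088 = N63742 := ded_11_1 (flp_c L830778) (flp_a L830772) L834899
theorem L834903 : sm gg N64088 = N63744 := ded_30_2 (flp_c L830791) (flp_g L830774) L834899
theorem L834905 : sm gi N64088 = N63743 := ded_33_2 (flp_c L830785) (flp_i L830776) L834899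
theorem L834907 : sm gb N63743 = N64089 := rfl
theorem L834909 : sm gg N64089 = N63745 := ded_23_2 (flp_b L830797) (flp_g L830789) L834907
theorem L834911 : sm ga N64089 = N64089 := ded_10_1 (flp_b L834907) L830787 L825297 (flp_a L830787) L834907
theorem L834912 : sm gb N63744 = N64090 := rfl
theorem L834914 : sm gi N64090 = N63745 := ded_26_2 (flp_b L830797) (flp_i L830795) L834912
theorem L834916 : sm ga N64090 = N64090 := ded_10_1 (flp_b L834912) L830793 L825308 (flp_a L830793) L834912
theorem L834917 : sm gd N63748 = N64091 := rfl
theorem L834919 : sm ga N64091 = N64091 := ded_12_1 (flp_d L834917) L830812 L834917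
theorem L834920 : sm gb N64091 = N63749 := ded_20_1 (flp_d L830815) (flp_b L830813) L834917
theorem L834922 : sm gc N63751 = N64092 := rfl
theorem L834924 : sm ga N64092 = N63752 := ded_11_1 (flp_c L830855) (flp_a L830841) L834922
theorem L834926 : sm ge N64092 = N64035 := ded_28_2 (flp_c L834492) (flp_e L830853) L834922
theorem L834928 : sm gf N64092 = N63837 := ded_29_2 (flp_c L832176) (flp_f L830845) L834922
theorem L834930 : sm gg N64092 = N63948 := ded_30_2 (flp_c L833586) (flp_g L830847) L834922
theorem L834932 : sm gj N64092 = N63774 := ded_31_2 (flp_c L831194) (flp_j L830849) L834922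
theorem L834934 : sm gi N64092 = N63817 := ded_33_2 (flp_c L831872) (flp_i L830851) L834922
theorem L834936 : sm gd N64092 = N63962 := ded_27_2 (flp_c L833715) (flp_d L828920) (flp_c L825403) L830839 L834922
theorem L834938 : sm gh N63751 = N64093 := rfl
theorem L834940 : sm ga N64093 = N63753 := ded_17_1 (flp_h L830870) (flp_a L830841) L834938
theorem L834942 : sm gb N64093 = N63861 := ded_25_1 (flp_h L832475) (flp_b L830843) L834938
theorem L834944 : sm ge N64093 = N64037 := ded_43_1 (flp_h L834508) (flp_e L830853) L834938
theorem L834946 : sm gf N64093 = N63838 := ded_47_1 (flp_h L832186) (flp_f L830845) L834938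
theorem L834948 : sm gg N64093 = N63950 := ded_50_1 (flp_h L833602) (flp_g L830847) L834938
theorem L834950 : sm gj N64093 = N63775 := ded_52_1 (flp_h L831206) (flp_j L830849) L834938
theorem L834952 : sm gd N64093 = N63786 := ded_38_1 (flp_h L831388) (flp_d L825921) (flp_h L825409) L830839 L834938
theorem L834954 : sm gi N63918 = N64093 := ded_18_0 L834940 (flp_i L830884) (flp_a L833272)
theorem L834956 : sm gh N63752 = N64094 := rfl
theorem L834958 : sm gb N64094 = N64094 := ded_25_1 (flp_h L834956) L830867 L834956
theorem L834959 : sm gc N64094 = N63753 := ded_32_1 (flp_h L830870) L830855 L834956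
theorem L834961 : sm ge N64094 = N64039 := ded_43_1 (flp_h L834521) (flp_e L830857) L834956
theorem L834963 : sm gf N64094 = N63839 := ded_47_1 (flp_h L832202) (flp_f L830859) L834956
theorem L834965 : sm gg N64094 = N63952 := ded_50_1 (flp_h L833615) (flp_g L830861) L834956
theorem L834967 : sm gj N64094 = N63776 := ded_52_1 (flp_h L831218) (flp_j L830863) L834956
theorem L834969 : sm gd N64094 = N63975 := ded_38_1 (flp_h L833884) L829078 (flp_h L828942) (flp_d L830868) L834956
theorem L834971 : sm gi N63920 = N64094 := ded_33_0 L834959 (flp_i L830884) (flp_c L833287)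
theorem L834973 : sm gf N63754 = N64095 := rfl
theorem L834975 : sm ga N64095 = N63756 := ded_14_1 (flp_f L830920) (flp_a L830888) L834973
theorem L834977 : sm gb N64095 = N63916 := ded_22_1 L833258 (flp_b L830890) L834973
theorem L834979 : sm gc N64095 = N63832 := ded_29_1 L832111 (flp_c L830898) L834973
theorem L834981 : sm gd N64095 = N63755 := ded_35_1 (flp_f L830904) L830886 L834973
theorem L834983 : sm gj N64095 = N63773 := ded_46_2 L831192 (flp_j L830894) L834973
theorem L834985 : sm gh N64095 = N64003 := ded_47_2 L834190 L830902 L834973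
theorem L834987 : sm gi N64095 = N63997 := ded_48_2 L834122 (flp_i L830896) L834973
theorem L834989 : sm ge N64095 = N64031 := ded_40_1 L834461 L830063 L826182 (flp_e L830900) L834973
theorem L834991 : sm gg N64095 = N63821 := ded_45_2 (flp_f L831931) L826673 L826114 (flp_g L830892) L834973
theorem L834993 : sm gg N63755 = N64096 := rfl
theorem L834995 : sm ga N64096 = N63757 := ded_15_1 (flp_g L830938) (flp_a L830906) L834993
theorem L834997 : sm gb N64096 = N63914 := ded_23_1 L833236 (flp_b L830908) L834993
theorem L834999 : sm gc N64096 = N63773 := ded_30_1 (flp_g L831182) (flp_c L830910) L834993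
theorem L835001 : sm gd N64096 = N63821 := ded_36_1 (flp_g L834991) L834981 L834993
theorem L835003 : sm ge N64096 = N63919 := ded_41_1 (flp_g L833276) (flp_e L830918) L834993
theorem L835005 : sm gh N64096 = N63926 := ded_50_2 (flp_g L833347) (flp_h L830914) L834993
theorem L835007 : sm gi N64096 = N63996 := ded_51_2 L834110 (flp_i L830916) L834993
theorem L835009 : sm gf N64096 = N63797 := ded_45_1 (flp_g L831551) (flp_f L826118) (flp_g L825454) L830904 L834993
theorem L835011 : sm gj N64096 = N63832 := ded_49_2 (flp_g L832101) L826853 L827135 (flp_j L830912) L834993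
theorem L835013 : sm gc N63758 = N64097 := rfl
theorem L835015 : sm ga N64097 = N63760 := ded_11_1 (flp_c L830988) (flp_a L830958) L835013
theorem L835017 : sm ge N64097 = N63792 := ded_28_2 (flp_c L831484) (flp_e L830968) L835013
theorem L835019 : sm gg N64097 = N64048 := ded_30_2 L834593 (flp_g L830962) L835013
theorem L835021 : sm gj N64097 = N64088 := ded_31_2 (flp_c L834899) (flp_j L830964) L835013
theorem L835023 : sm gh N64097 = N63841 := ded_32_2 (flp_c L832229) (flp_h L830970) L835013
theorem L835025 : sm gi N64097 = N63998 := ded_33_2 (flp_c L834130) (flp_i L830966) L835013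
theorem L835027 : sm gd N64097 = N63923 := ded_27_2 (flp_c L833317) (flp_d L828329) (flp_c L825534) L830956 L835013
theorem L835029 : sm gf N63758 = N64098 := rfl
theorem L835031 : sm ga N64098 = N63761 := ded_14_1 (flp_f L831003) (flp_a L830958) L835029
theorem L835033 : sm gb N64098 = N64044 := ded_22_1 L834558 (flp_b L830960) L835029
theorem L835035 : sm gd N64098 = N63759 := ded_35_1 (flp_f L830972) L830956 L835029
theorem L835037 : sm gj N64098 = N64086 := ded_46_2 L834890 (flp_j L830964) L835029
theorem L835039 : sm gh N64098 = N63842 := ded_47_2 (flp_f L832239) (flp_h L830970) L835029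
theorem L835041 : sm gi N64098 = N63984 := ded_48_2 L833993 (flp_i L830966) L835029
theorem L835043 : sm gg N63759 = N64099 := rfl
theorem L835045 : sm ga N64099 = N63762 := ded_15_1 (flp_g L831015) (flp_a L830974) L835043
theorem L835047 : sm gb N64099 = N64031 := ded_23_1 L834463 (flp_b L830976) L835043
theorem L835049 : sm gc N64099 = N63926 := ded_30_1 (flp_g L833347) (flp_c L830978) L835043
theorem L835051 : sm ge N64099 = N63916 := ded_41_1 (flp_g L833248) (flp_e L830986) L835043
theorem L835053 : sm gh N64099 = N63773 := ded_50_2 (flp_g L831182) (flp_h L830982) L835043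
theorem L835055 : sm gi N64099 = N63840 := ded_51_2 L832225 (flp_i L830984) L835043
theorem L835057 : sm gf N64099 = N63961 := ded_45_1 (flp_g L833701) L828880 (flp_g L825536) L830972 L835043
theorem L835059 : sm gj N64099 = N64003 := ded_49_2 (flp_g L834182) (flp_j L831591) L831599 (flp_j L830980) L835043
theorem L835061 : sm gf N63760 = N64100 := rfl
theorem L835063 : sm gb N64100 = N64100 := ded_22_1 (flp_f L835061) L831000 L835061
theorem L835064 : sm gc N64100 = N63761 := ded_29_1 (flp_f L831003) L830988 L835061
theorem L835066 : sm gd N64100 = N63927 := ded_35_1 (flp_f L833357) (flp_d L831001) L835061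
theorem L835068 : sm gj N64100 = N64087 := ded_46_2 L834897 (flp_j L830994) L835061
theorem L835070 : sm gh N64100 = N63843 := ded_47_2 (flp_f L832249) (flp_h L830996) L835061
theorem L835072 : sm gi N64100 = N63985 := ded_48_2 L834004 (flp_i L830998) L835061
theorem L835074 : sm ge N63761 = N64101 := rfl
theorem L835076 : sm gb N64101 = N63763 := ded_21_1 (flp_e L831031) (flp_b L831005) L835074
theorem L835078 : sm gj N64101 = N63953 := ded_42_2 L833626 (flp_j L831009) L835074
theorem L835080 : sm gh N64101 = N63844 := ded_43_2 (flp_e L832256) (flp_h L831011) L835074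
theorem L835082 : sm gi N64101 = N63859 := ded_44_2 L832455 (flp_i L831013) L835074
theorem L835084 : sm gd N64101 = N63895 := ded_34_1 L832967 L828238 (flp_e L825570) (flp_d L831007) L835074
theorem L835086 : sm gf N64101 = N63795 := ded_40_2 (flp_e L831521) (flp_f L826045) (flp_e L825554) L831003 L835074
theorem L835088 : sm gg N63863 = N64101 := ded_23_0 L835076 (flp_g L831046) (flp_b L832498)
theorem L835090 : sm gg N63761 = N64102 := rfl
theorem L835092 : sm gb N64102 = N63764 := ded_23_1 (flp_g L831048) (flp_b L831005) L835090
theorem L835094 : sm gd N64102 = N63762 := ded_36_1 (flp_g L831015) (flp_d L831007) L835090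
theorem L835096 : sm ge N64102 = N63863 := ded_41_1 L835088 (flp_e L835074) L835090
theorem L835098 : sm gh N64102 = N63809 := ded_50_2 L831741 (flp_h L831011) L835090
theorem L835100 : sm gi N64102 = N63802 := ded_51_2 L831634 (flp_i L831013) L835090
theorem L835102 : sm gf N64102 = N63908 := ded_45_1 L833143 L828830 (flp_g L825548) L831003 L835090
theorem L835104 : sm gj N64102 = N63930 := ded_49_2 L833397 (flp_j L831620) L831626 (flp_j L831009) L835090
theorem L835106 : sm gc N63765 = N64103 := rfl
theorem L835108 : sm ga N64103 = N63767 := ded_11_1 (flp_c L831095) (flp_a L831067) L835106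
theorem L835110 : sm ge N64103 = N63774 := ded_28_2 (flp_c L831194) (flp_e L831077) L835106
theorem L835112 : sm gg N64103 = N63970 := ded_30_2 (flp_c L833819) (flp_g L831071) L835106
theorem L835114 : sm gj N64103 = N64035 := ded_31_2 (flp_c L834492) (flp_j L831073) L835106
theorem L835116 : sm gi N64103 = N64034 := ded_33_2 (flp_c L834484) (flp_i L831075) L835106
theorem L835118 : sm gd N64103 = N63917 := ded_27_2 (flp_c L833262) (flp_d L828268) (flp_c L825607) L831065 L835106
theorem L835120 : sm gf N63765 = N64104 := rfl
theorem L835122 : sm ga N64104 = N63768 := ded_14_1 (flp_f L831108) (flp_a L831067) L835120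
theorem L835124 : sm gb N64104 = N64001 := ded_22_1 (flp_f L834162) (flp_b L831069) L835120
theorem L835126 : sm gd N64104 = N63766 := ded_35_1 (flp_f L831079) L831065 L835120
theorem L835128 : sm gj N64104 = N64036 := ded_46_2 (flp_f L834500) (flp_j L831073) L835120
theorem L835130 : sm gi N64104 = N63972 := ded_48_2 L833851 (flp_i L831075) L835120
theorem L835132 : sm ge N64104 = N63846 := ded_40_1 (flp_f L832280) L827075 (flp_f L825713) (flp_e L831077) L835120
theorem L835134 : sm gh N63765 = N64105 := rfl
theorem L835136 : sm ga N64105 = N63769 := ded_17_1 (flp_h L831120) (flp_a L831067) L835134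
theorem L835138 : sm gb N64105 = N64002 := ded_25_1 (flp_h L834172) (flp_b L831069) L835134
theorem L835140 : sm ge N64105 = N63775 := ded_43_1 (flp_h L831206) (flp_e L831077) L835134
theorem L835142 : sm gg N64105 = N63972 := ded_50_1 (flp_h L833843) (flp_g L831071) L835134
theorem L835144 : sm gj N64105 = N64037 := ded_52_1 (flp_h L834508) (flp_j L831073) L835134
theorem L835146 : sm gd N64105 = N63915 := ded_38_1 (flp_h L833238) (flp_d L828214) (flp_h L825613) L831065 L835134
theorem L835148 : sm gg N63766 = N64106 := rfl
theorem L835150 : sm ga N64106 = N63770 := ded_15_1 (flp_g L831132) (flp_a L831081) L835148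
theorem L835152 : sm gb N64106 = N64003 := ded_23_1 (flp_g L834182) (flp_b L831083) L835148
theorem L835154 : sm gc N64106 = N63919 := ded_30_1 (flp_g L833276) (flp_c L831085) L835148
theorem L835156 : sm ge N64106 = N63773 := ded_41_1 (flp_g L831182) (flp_e L831093) L835148
theorem L835158 : sm gh N64106 = N63916 := ded_50_2 (flp_g L833248) (flp_h L831089) L835148
theorem L835160 : sm gi N64106 = N63915 := ded_51_2 L833246 (flp_i L831091) L835148
theorem L835162 : sm gf N64106 = N63973 := ded_45_1 (flp_g L833857) (flp_f L829057) (flp_g L825609) L831079 L835148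
theorem L835164 : sm gj N64106 = N64031 := ded_49_2 L834463 (flp_j L831428) L831436 (flp_j L831087) L835148
theorem L835166 : sm gf N63767 = N64107 := rfl
theorem L835168 : sm gb N64107 = N64107 := ded_22_1 (flp_f L835166) L831105 L835166
theorem L835169 : sm gc N64107 = N63768 := ded_29_1 (flp_f L831108) L831095 L835166
theorem L835171 : sm gd N64107 = N63920 := ded_35_1 (flp_f L833284) (flp_d L831106) L835166
theorem L835173 : sm gj N64107 = N64038 := ded_46_2 (flp_f L834514) (flp_j L831101) L835166
theorem L835175 : sm gi N64107 = N63975 := ded_48_2 L833891 (flp_i L831103) L835166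
theorem L835177 : sm ge N64107 = N63848 := ded_40_1 (flp_f L832306) L827091 (flp_f L825721) (flp_e L831097) L835166
theorem L835179 : sm gh N63767 = N64108 := rfl
theorem L835181 : sm gb N64108 = N64108 := ded_25_1 (flp_h L835179) L831105 L835179
theorem L835182 : sm gc N64108 = N63769 := ded_32_1 (flp_h L831120) L831095 L835179
theorem L835184 : sm ge N64108 = N63776 := ded_43_1 (flp_h L831218) (flp_e L831097) L835179
theorem L835186 : sm gg N64108 = N63975 := ded_50_1 (flp_h L833884) (flp_g L831099) L835179
theorem L835188 : sm gj N64108 = N64039 := ded_52_1 (flp_h L834521) (flp_j L831101) L835179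
theorem L835190 : sm gd N64108 = N63952 := ded_38_1 (flp_h L833615) (flp_d L832807) L832802 (flp_d L831106) L835179
theorem L835192 : sm gg N63768 = N64109 := rfl
theorem L835194 : sm gb N64109 = N63771 := ded_23_1 (flp_g L831148) (flp_b L831110) L835192
theorem L835196 : sm gd N64109 = N63770 := ded_36_1 (flp_g L831132) (flp_d L831112) L835192
theorem L835198 : sm ge N64109 = N63777 := ded_41_1 L831237 (flp_e L831118) L835192
theorem L835200 : sm gi N64109 = N63769 := ded_51_2 L831126 (flp_i L831116) L835192
theorem L835202 : sm gf N64109 = N63900 := ded_45_1 L833038 (flp_f L829080) (flp_g L825621) L831108 L835192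
theorem L835204 : sm gj N64109 = N63921 := ded_49_2 (flp_g L833301) (flp_j L831459) L831465 (flp_j L831114) L835192
theorem L835206 : sm gh N63899 = N64109 := ded_25_0 L835194 (flp_h L831163) (flp_b L833022)
theorem L835208 : sm gh N63768 = N64110 := rfl
theorem L835210 : sm gb N64110 = N63772 := ded_25_1 (flp_h L831165) (flp_b L831110) L835208
theorem L835212 : sm ge N64110 = N63850 := ded_43_1 (flp_h L832328) (flp_e L831118) L835208
theorem L835214 : sm gf N64110 = N63769 := ded_47_1 (flp_h L831120) L831108 L835208
theorem L835216 : sm gg N64110 = N63899 := ded_50_1 L835206 (flp_g L835192) L835208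
theorem L835218 : sm gj N64110 = N63941 := ded_52_1 L833520 (flp_j L831114) L835208
theorem L835220 : sm gd N64110 = N63901 := ded_38_1 L833052 L828238 (flp_h L825637) (flp_d L831112) L835208
theorem L835222 : sm gi N64110 = N63900 := ded_54_2 (flp_h L833032) L827908 L829092 (flp_i L831116) L835208
theorem L835224 : sm gb N63774 = N64111 := rfl
theorem L835226 : sm gd N64111 = N63963 := ded_20_2 (flp_b L833727) (flp_d L831204) L835224
theorem L835228 : sm gf N64111 = N63851 := ded_22_2 (flp_b L832342) (flp_f L831198) L835224
theorem L835230 : sm gg N64111 = N63976 := ded_23_2 (flp_b L833895) (flp_g L831200) L835224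
theorem L835232 : sm gi N64111 = N64052 := ded_26_2 (flp_b L834631) (flp_i L831202) L835224
theorem L835234 : sm ga N64111 = N64111 := ded_10_1 (flp_b L835224) L831196 L825727 (flp_a L831196) L835224
theorem L835235 : sm gc N64111 = N64009 := ded_19_2 (flp_b L834235) (flp_c L829671) (flp_b L825711) L831194 L835224
theorem L835237 : sm gh N63774 = N64112 := rfl
theorem L835239 : sm ga N64112 = N63776 := ded_17_1 (flp_h L831218) (flp_a L831196) L835237
theorem L835241 : sm gc N64112 = N63775 := ded_32_1 (flp_h L831206) L831194 L835237
theorem L835243 : sm gf N64112 = N63852 := ded_47_1 (flp_h L832351) (flp_f L831198) L835237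
theorem L835245 : sm gg N64112 = N63977 := ded_50_1 (flp_h L833902) (flp_g L831200) L835237
theorem L835247 : sm gd N64112 = N64041 := ded_38_1 L834539 L830575 (flp_h L828951) (flp_d L831204) L835237
theorem L835249 : sm gi N63775 = N64113 := rfl
theorem L835251 : sm ga N64113 = N63777 := ded_18_1 (flp_i L831229) (flp_a L831208) L835249
theorem L835253 : sm gb N64113 = N64011 := ded_26_1 (flp_i L834256) (flp_b L831210) L835249
theorem L835255 : sm gd N64113 = N63796 := ded_39_1 (flp_i L831533) (flp_d L831216) L835249
theorem L835257 : sm gf N64113 = N63853 := ded_48_1 (flp_i L832361) (flp_f L831212) L835249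
theorem L835259 : sm gg N64113 = N63846 := ded_51_1 L832288 (flp_g L831214) L835249
theorem L835261 : sm gj N64113 = N63918 := ded_53_1 L834954 L834950 L835249
theorem L835263 : sm gh N64113 = N64054 := ded_54_1 (flp_i L834646) (flp_h L830352) (flp_i L825717) L831206 L835249
theorem L835265 : sm gi N63776 = N64114 := rfl
theorem L835267 : sm gb N64114 = N64114 := ded_26_1 (flp_i L835265) L831220 L835265
theorem L835268 : sm gc N64114 = N63777 := ded_33_1 (flp_i L831229) (flp_c L831221) L835265
theorem L835270 : sm gd N64114 = N64038 := ded_39_1 L834519 (flp_d L831227) L835265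
theorem L835272 : sm gf N64114 = N63854 := ded_48_1 (flp_i L832377) (flp_f L831223) L835265
theorem L835274 : sm gg N64114 = N63848 := ded_51_1 L832311 (flp_g L831225) L835265
theorem L835276 : sm gj N64114 = N63920 := ded_53_1 L834971 L834967 L835265
theorem L835278 : sm gh N64114 = N64055 := ded_54_1 (flp_i L834656) (flp_h L830362) (flp_i L825725) L831218 L835265
theorem L835280 : sm gc N63778 = N64115 := rfl
theorem L835282 : sm ga N64115 = N63780 := ded_11_1 (flp_c L831279) (flp_a L831245) L835280
theorem L835284 : sm ge N64115 = N64088 := ded_28_2 (flp_c L834899) (flp_e L831255) L835280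
theorem L835286 : sm gf N64115 = N64043 := ded_29_2 L834550 L831259 L835280
theorem L835288 : sm gg N64115 = N64061 := ded_30_2 (flp_c L834711) (flp_g L831249) L835280
theorem L835290 : sm gj N64115 = N63792 := ded_31_2 (flp_c L831484) (flp_j L831251) L835280
theorem L835292 : sm gh N64115 = N63864 := ded_32_2 (flp_c L832508) (flp_h L831257) L835280
theorem L835294 : sm gi N64115 = N64059 := ded_33_2 (flp_c L834691) (flp_i L831253) L835280
theorem L835296 : sm gd N64115 = N64056 := ded_27_2 (flp_c L834663) (flp_d L830377) (flp_c L825761) L831243 L835280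
theorem L835298 : sm gg N63779 = N64116 := rfl
theorem L835300 : sm ga N64116 = N63781 := ded_15_1 (flp_g L831296) (flp_a L831263) L835298
theorem L835302 : sm gb N64116 = N63840 := ded_23_1 L832225 (flp_b L831265) L835298
theorem L835304 : sm gc N64116 = N63979 := ded_30_1 L833934 (flp_c L831267) L835298
theorem L835306 : sm gd N64116 = N64037 := ded_36_1 L834512 (flp_d L831269) L835298
theorem L835308 : sm ge N64116 = N63997 := ded_41_1 L834124 (flp_e L831277) L835298
theorem L835310 : sm gh N64116 = N63782 := ded_50_2 (flp_g L831314) (flp_h L831273) L835298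
theorem L835312 : sm gi N64116 = N64031 := ded_51_2 L834463 (flp_i L831275) L835298
theorem L835314 : sm gf N64116 = N64032 := ded_45_1 L834471 L830091 (flp_g L825763) L831261 L835298
theorem L835316 : sm gj N64116 = N63915 := ded_49_2 L833246 L830153 (flp_g L826034) (flp_j L831271) L835298
theorem L835318 : sm gh N63783 = N64117 := rfl
theorem L835320 : sm ga N64117 = N63785 := ded_17_1 (flp_h L831370) (flp_a L831334) L835318
theorem L835322 : sm gb N64117 = N63999 := ded_25_1 L834150 (flp_b L831336) L835318
theorem L835324 : sm gc N64117 = N63915 := ded_32_1 (flp_h L833238) (flp_c L831344) L835318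
theorem L835326 : sm ge N64117 = N63996 := ded_43_1 (flp_h L834112) (flp_e L831346) L835318
theorem L835328 : sm gf N64117 = N64020 := ded_47_1 L834364 L831348 L835318
theorem L835330 : sm gg N64117 = N63786 := ded_50_1 (flp_h L831388) (flp_g L831338) L835318
theorem L835332 : sm gj N64117 = N63979 := ded_52_1 (flp_h L833926) (flp_j L831340) L835318
theorem L835334 : sm gd N64117 = N63950 := ded_38_1 (flp_h L833602) (flp_d L828738) (flp_h L825865) L831332 L835318
theorem L835336 : sm gi N64117 = N63919 := ded_54_2 L833280 L828418 (flp_h L826180) (flp_i L831342) L835318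
theorem L835338 : sm gc N63787 = N64118 := rfl
theorem L835340 : sm ga N64118 = N63789 := ded_11_1 (flp_c L831438) (flp_a L831406) L835338
theorem L835342 : sm ge N64118 = N63998 := ded_28_2 (flp_c L834130) (flp_e L831416) L835338
theorem L835344 : sm gg N64118 = N63864 := ded_30_2 (flp_c L832508) (flp_g L831410) L835338
theorem L835346 : sm gj N64118 = N64059 := ded_31_2 (flp_c L834691) (flp_j L831412) L835338
theorem L835348 : sm gh N64118 = N64061 := ded_32_2 (flp_c L834711) (flp_h L831418) L835338
theorem L835350 : sm gi N64118 = N63792 := ded_33_2 (flp_c L831484) (flp_i L831414) L835338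
theorem L835352 : sm gd N64118 = N63845 := ded_27_2 (flp_c L832270) (flp_d L827065) (flp_c L825957) L831404 L835338
theorem L835354 : sm gf N63787 = N64119 := rfl
theorem L835356 : sm ga N64119 = N63790 := ded_14_1 (flp_f L831453) (flp_a L831406) L835354
theorem L835358 : sm gb N64119 = N64086 := ded_22_1 L834890 (flp_b L831408) L835354
theorem L835360 : sm gd N64119 = N63788 := ded_35_1 (flp_f L831420) L831404 L835354
theorem L835362 : sm gj N64119 = N64044 := ded_46_2 L834558 (flp_j L831412) L835354
theorem L835364 : sm gh N64119 = N64029 := ded_47_2 L834444 (flp_h L831418) L835354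
theorem L835366 : sm gi N64119 = N63793 := ded_48_2 (flp_f L831494) (flp_i L831414) L835354
theorem L835368 : sm gg N64119 = N64036 := ded_45_2 (flp_f L834500) L830170 (flp_f L827312) (flp_g L831410) L835354
theorem L835370 : sm gf N63789 = N64120 := rfl
theorem L835372 : sm gb N64120 = N64120 := ded_22_1 (flp_f L835370) L831450 L835370
theorem L835373 : sm gc N64120 = N63790 := ded_29_1 (flp_f L831453) L831438 L835370
theorem L835375 : sm gd N64120 = N63848 := ded_35_1 (flp_f L832306) (flp_d L831451) L835370
theorem L835377 : sm gj N64120 = N64045 := ded_46_2 L834567 (flp_j L831444) L835370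
theorem L835379 : sm gh N64120 = N64030 := ded_47_2 L834453 (flp_h L831446) L835370
theorem L835381 : sm gi N64120 = N63794 := ded_48_2 (flp_f L831508) (flp_i L831448) L835370
theorem L835383 : sm gg N64120 = N64038 := ded_45_2 (flp_f L834514) L830184 (flp_f L827320) (flp_g L831442) L835370
theorem L835385 : sm ge N63790 = N64121 := rfl
theorem L835387 : sm gb N64121 = N63791 := ded_21_1 (flp_e L831467) (flp_b L831455) L835385
theorem L835389 : sm gg N64121 = N63830 := ded_41_2 L832083 (flp_g L831465) L835385
theorem L835391 : sm gj N64121 = N63922 := ded_42_2 L833309 (flp_j L831459) L835385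
theorem L835393 : sm gh N64121 = N63858 := ded_43_2 L832447 (flp_h L831461) L835385
theorem L835395 : sm gi N64121 = N63795 := ded_44_2 (flp_e L831521) (flp_i L831463) L835385
theorem L835397 : sm gd N64121 = N63831 := ded_34_1 L832091 L826861 (flp_e L825993) (flp_d L831457) L835385
theorem L835399 : sm gf N64121 = N63859 := ded_40_2 L832455 L829331 (flp_e L825977) L831453 L835385
theorem L835401 : sm gb N63792 = N64122 := rfl
theorem L835403 : sm gd N64122 = N64057 := ded_20_2 (flp_b L834673) (flp_d L831492) L835401
theorem L835405 : sm gg N64122 = N64046 := ded_23_2 L834574 (flp_g L831488) L835401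
theorem L835407 : sm gh N64122 = N63867 := ded_25_2 (flp_b L832556) (flp_h L831490) L835401
theorem L835409 : sm ga N64122 = N64122 := ded_10_1 (flp_b L835401) L831486 L826042 (flp_a L831486) L835401
theorem L835410 : sm gc N64122 = N64089 := ded_19_2 (flp_b L834907) (flp_c L830785) (flp_b L826016) L831484 L835401
theorem L835412 : sm gf N63792 = N64123 := rfl
theorem L835414 : sm ga N64123 = N63794 := ded_14_1 (flp_f L831508) (flp_a L831486) L835412
theorem L835416 : sm gc N64123 = N63793 := ded_29_1 (flp_f L831494) L831484 L835412
theorem L835418 : sm gd N64123 = N63977 := ded_35_1 L833908 (flp_d L831492) L835412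
theorem L835420 : sm gj N64123 = N64043 := ded_46_2 (flp_f L835286) L835290 L835412
theorem L835422 : sm gh N64123 = N63868 := ded_47_2 (flp_f L832561) (flp_h L831490) L835412
theorem L835424 : sm gg N64123 = N64041 := ded_45_2 (flp_f L834533) L830207 L830252 (flp_g L831488) L835412
theorem L835426 : sm ge N63793 = N64124 := rfl
theorem L835428 : sm ga N64124 = N63795 := ded_13_1 (flp_e L831521) (flp_a L831496) L835426
theorem L835430 : sm gb N64124 = N63990 := ded_21_1 L834049 (flp_b L831498) L835426
theorem L835432 : sm gg N64124 = N63968 := ded_41_2 L833798 (flp_g L831506) L835426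
theorem L835434 : sm gj N64124 = N63950 := ded_42_2 L833606 (flp_j L831502) L835426
theorem L835436 : sm gh N64124 = N63869 := ded_43_2 (flp_e L832575) (flp_h L831504) L835426
theorem L835438 : sm gd N64124 = N63979 := ded_34_1 L833932 L830404 (flp_e L826032) (flp_d L831500) L835426
theorem L835440 : sm ge N63794 = N64125 := rfl
theorem L835442 : sm gb N64125 = N64125 := ded_21_1 (flp_e L835440) L831510 L835440
theorem L835443 : sm gc N64125 = N63795 := ded_28_1 (flp_e L831521) (flp_c L831511) L835440
theorem L835445 : sm gg N64125 = N63969 := ded_41_2 L833811 (flp_g L831519) L835440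
theorem L835447 : sm gj N64125 = N63952 := ded_42_2 L833620 (flp_j L831515) L835440
theorem L835449 : sm gh N64125 = N63870 := ded_43_2 (flp_e L832589) (flp_h L831517) L835440
theorem L835451 : sm gd N64125 = N64039 := ded_34_1 (flp_e L834961) L834969 L833889 (flp_d L831513) L835440
theorem L835453 : sm gc N63798 = N64126 := rfl
theorem L835455 : sm ga N64126 = N63800 := ded_11_1 (flp_c L831601) (flp_a L831571) L835453
theorem L835457 : sm ge N64126 = N63860 := ded_28_2 (flp_c L832463) (flp_e L831581) L835453
theorem L835459 : sm gg N64126 = N63983 := ded_30_2 (flp_c L833975) (flp_g L831575) L835453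
theorem L835461 : sm gj N64126 = N64000 := ded_31_2 (flp_c L834152) (flp_j L831577) L835453
theorem L835463 : sm gi N64126 = N63804 := ded_33_2 (flp_c L831657) (flp_i L831579) L835453
theorem L835465 : sm gd N64126 = N63841 := ded_27_2 (flp_c L832229) (flp_d L827009) (flp_c L826228) L831569 L835453
theorem L835467 : sm gf N63798 = N64127 := rfl
theorem L835469 : sm ga N64127 = N63801 := ded_14_1 (flp_f L831614) (flp_a L831571) L835467
theorem L835471 : sm gb N64127 = N64036 := ded_22_1 (flp_f L834500) (flp_b L831573) L835467
theorem L835473 : sm gd N64127 = N63799 := ded_35_1 (flp_f L831583) L831569 L835467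
theorem L835475 : sm gj N64127 = N64001 := ded_46_2 (flp_f L834162) (flp_j L831577) L835467
theorem L835477 : sm gi N64127 = N63805 := ded_48_2 (flp_f L831669) (flp_i L831579) L835467
theorem L835479 : sm ge N64127 = N63994 := ded_40_1 L834085 L830546 (flp_f L827266) (flp_e L831581) L835467
theorem L835481 : sm gg N64127 = N64086 := ded_45_2 L834890 L830774 (flp_f L829310) (flp_g L831575) L835467
theorem L835483 : sm gh N63798 = N64128 := rfl
theorem L835485 : sm ga N64128 = N63802 := ded_17_1 (flp_h L831628) (flp_a L831571) L835483
theorem L835487 : sm gb N64128 = N64037 := ded_25_1 (flp_h L834508) (flp_b L831573) L835483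
theorem L835489 : sm ge N64128 = N63861 := ded_43_1 (flp_h L832475) (flp_e L831581) L835483
theorem L835491 : sm gg N64128 = N63984 := ded_50_1 (flp_h L833987) (flp_g L831575) L835483
theorem L835493 : sm gj N64128 = N64002 := ded_52_1 (flp_h L834172) (flp_j L831577) L835483
theorem L835495 : sm gd N64128 = N63840 := ded_38_1 (flp_h L832217) (flp_d L826977) (flp_h L826234) L831569 L835483
theorem L835497 : sm gf N63800 = N64129 := rfl
theorem L835499 : sm gb N64129 = N64129 := ded_22_1 (flp_f L835497) L831611 L835497
theorem L835500 : sm gc N64129 = N63801 := ded_29_1 (flp_f L831614) L831601 L835497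
theorem L835502 : sm gd N64129 = N63843 := ded_35_1 (flp_f L832249) (flp_d L831612) L835497
theorem L835504 : sm gj N64129 = N64004 := ded_46_2 (flp_f L834192) (flp_j L831607) L835497
theorem L835506 : sm gi N64129 = N63807 := ded_48_2 (flp_f L831701) (flp_i L831609) L835497
theorem L835508 : sm ge N64129 = N63995 := ded_40_1 L834094 L830550 (flp_f L827274) (flp_e L831603) L835497
theorem L835510 : sm gg N64129 = N64087 := ded_45_2 L834897 L830780 (flp_f L829318) (flp_g L831605) L835497
theorem L835512 : sm gh N63800 = N64130 := rfl
theorem L835514 : sm gb N64130 = N64130 := ded_25_1 (flp_h L835512) L831611 L835512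
theorem L835515 : sm gc N64130 = N63802 := ded_32_1 (flp_h L831628) L831601 L835512
theorem L835517 : sm ge N64130 = N63862 := ded_43_1 (flp_h L832485) (flp_e L831603) L835512
theorem L835519 : sm gg N64130 = N63985 := ded_50_1 (flp_h L833999) (flp_g L831605) L835512
theorem L835521 : sm gj N64130 = N64005 := ded_52_1 (flp_h L834201) (flp_j L831607) L835512
theorem L835523 : sm gd N64130 = N63928 := ded_38_1 (flp_h L833366) (flp_d L831001) L830996 (flp_d L831612) L835512
theorem L835525 : sm gh N63801 = N64131 := rfl
theorem L835527 : sm gb N64131 = N63803 := ded_25_1 (flp_h L831640) (flp_b L831616) L835525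
theorem L835529 : sm ge N64131 = N63836 := ded_43_1 L832170 (flp_e L831624) L835525
theorem L835531 : sm gf N64131 = N63802 := ded_47_1 (flp_h L831628) L831614 L835525
theorem L835533 : sm gg N64131 = N63825 := ded_50_1 L832002 (flp_g L831626) L835525
theorem L835535 : sm gj N64131 = N63929 := ded_52_1 (flp_h L833387) (flp_j L831620) L835525
theorem L835537 : sm gd N64131 = N63826 := ded_38_1 L832016 L826861 (flp_h L826258) (flp_d L831618) L835525
theorem L835539 : sm gi N64131 = N63908 := ded_54_2 L833147 L828193 L826345 (flp_i L831622) L835525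
theorem L835541 : sm gb N63804 = N64132 := rfl
theorem L835543 : sm gd N64132 = N64051 := ded_20_2 (flp_b L834624) (flp_d L831667) L835541
theorem L835545 : sm ge N64132 = N63878 := ded_21_2 (flp_b L832709) (flp_e L831661) L835541
theorem L835547 : sm gg N64132 = N63986 := ded_23_2 (flp_b L834010) (flp_g L831663) L835541
theorem L835549 : sm gj N64132 = N64065 := ded_24_2 (flp_b L834738) (flp_j L831665) L835541
theorem L835551 : sm ga N64132 = N64132 := ded_10_1 (flp_b L835541) L831659 L826330 (flp_a L831659) L835541
theorem L835552 : sm gc N64132 = N64040 := ded_19_2 (flp_b L834528) (flp_c L830203) (flp_b L826298) L831657 L835541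
theorem L835554 : sm gf N63804 = N64133 := rfl
theorem L835556 : sm ga N64133 = N63807 := ded_14_1 (flp_f L831701) (flp_a L831659) L835554
theorem L835558 : sm gc N64133 = N63805 := ded_29_1 (flp_f L831669) L831657 L835554
theorem L835560 : sm gd N64133 = N63987 := ded_35_1 L834023 (flp_d L831667) L835554
theorem L835562 : sm gj N64133 = N64008 := ded_46_2 L834233 (flp_j L831665) L835554
theorem L835564 : sm ge N64133 = N63993 := ded_40_1 L834075 L830561 (flp_f L827591) (flp_e L831661) L835554
theorem L835566 : sm gg N64133 = N64085 := ded_45_2 L834882 L830789 (flp_f L829341) (flp_g L831663) L835554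
theorem L835568 : sm gh N63988 = N64133 := ded_56_0 (flp_f L835554) L831661 L827595 (flp_c L824018) (flp_b L823104) L823102 L814749 L807632 (flp_e L807989) (flp_d L807985) (flp_c L805712) L805710 L793415 L784214 (flp_f L779721) (flp_e L779713) L768260 (flp_c L756447) (flp_b L755795) (flp_a L763187) L763199 (flp_f L761641) L761649 (flp_d L758452) (flp_c L758430) (flp_b L765074) L765072 (flp_h L753199) L738493 L721199 L701990 L680955 (flp_b L695301) L695299 L687405 L665450 L376973 (flp_d L665257) L665255 L376751 (flp_a L383526) L668779 (flp_f L690884) (flp_e L711796) L730436 L746762 L760163 L771800 L771802 (flp_f L770379) L770377 (flp_d L771443) (flp_c L782989) (flp_b L795133) (flp_a L795129) (flp_h L792078) (flp_f L804230) L815022 L823289 L829372 L829380 (flp_a L834027)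
theorem L835570 : sm gh N63804 = N64134 := rfl
theorem L835572 : sm ga N64134 = N63808 := ded_17_1 (flp_h L831716) (flp_a L831659) L835570
theorem L835574 : sm gc N64134 = N63806 := ded_32_1 (flp_h L831685) L831657 L835570
theorem L835576 : sm ge N64134 = N63879 := ded_43_1 (flp_h L832718) (flp_e L831661) L835570
theorem L835578 : sm gf N64134 = N63988 := ded_47_1 L835568 (flp_f L835554) L835570
theorem L835580 : sm gg N64134 = N63987 := ded_50_1 (flp_h L834017) (flp_g L831663) L835570
theorem L835582 : sm gj N64134 = N64007 := ded_52_1 (flp_h L834223) (flp_j L831665) L835570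
theorem L835584 : sm gd N64134 = N64085 := ded_38_1 (flp_h L834876) L830737 (flp_h L830344) (flp_d L831667) L835570
theorem L835586 : sm gi N63806 = N64135 := rfl
theorem L835588 : sm ga N64135 = N63809 := ded_18_1 (flp_i L831731) (flp_a L831687) L835586
theorem L835590 : sm gb N64135 = N64021 := ded_26_1 (flp_i L834366) (flp_b L831689) L835586
theorem L835592 : sm gd N64135 = N63811 := ded_39_1 (flp_i L831765) (flp_d L831699) L835586
theorem L835594 : sm ge N64135 = N63880 := ded_44_1 (flp_i L832728) (flp_e L831691) L835586
theorem L835596 : sm gf N64135 = N63911 := ded_48_1 L833197 (flp_f L831693) L835586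
theorem L835598 : sm gg N64135 = N63842 := ded_51_1 L832247 (flp_g L831695) L835586
theorem L835600 : sm gj N64135 = N63924 := ded_53_1 L833333 (flp_j L831697) L835586
theorem L835602 : sm gi N63808 = N64136 := rfl
theorem L835604 : sm gb N64136 = N64136 := ded_26_1 (flp_i L835602) L831718 L835602
theorem L835605 : sm gc N64136 = N63809 := ded_33_1 (flp_i L831731) (flp_c L831719) L835602
theorem L835607 : sm gd N64136 = N64087 := ded_39_1 (flp_i L834892) (flp_d L831729) L835602
theorem L835609 : sm ge N64136 = N63882 := ded_44_1 (flp_i L832751) (flp_e L831721) L835602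
theorem L835611 : sm gf N64136 = N63912 := ded_48_1 L833209 (flp_f L831723) L835602
theorem L835613 : sm gg N64136 = N63843 := ded_51_1 L832254 (flp_g L831725) L835602
theorem L835615 : sm gj N64136 = N63927 := ded_53_1 L833362 (flp_j L831727) L835602
theorem L835617 : sm gc N63812 = N64137 := rfl
theorem L835619 : sm ga N64137 = N63813 := ded_11_1 (flp_c L831801) (flp_a L831785) L835617
theorem L835621 : sm ge N64137 = N64073 := ded_28_2 (flp_c L834790) (flp_e L831797) L835617
theorem L835623 : sm gf N64137 = N63913 := ded_29_2 (flp_c L833214) (flp_f L831789) L835617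
theorem L835625 : sm gg N64137 = N63947 := ded_30_2 (flp_c L833574) (flp_g L831791) L835617
theorem L835627 : sm gj N64137 = N63889 := ded_31_2 (flp_c L832864) (flp_j L831793) L835617
theorem L835629 : sm gh N64137 = N63905 := ded_32_2 (flp_c L833104) (flp_h L831799) L835617
theorem L835631 : sm gi N64137 = N63962 := ded_33_2 (flp_c L833715) (flp_i L831795) L835617
theorem L835633 : sm gd N64137 = N63817 := ded_27_2 (flp_c L831872) (flp_d L826609) (flp_c L826476) L831783 L835617
theorem L835635 : sm gb N63814 = N64138 := rfl
theorem L835637 : sm gd N64138 = N63976 := ded_20_2 (flp_b L833895) (flp_d L831834) L835635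
theorem L835639 : sm ge N64138 = N63965 := ded_21_2 (flp_b L833752) (flp_e L831822) L835635
theorem L835641 : sm gf N64138 = N64082 := ded_22_2 (flp_b L834855) (flp_f L831824) L835635
theorem L835643 : sm gg N64138 = N63963 := ded_23_2 (flp_b L833727) (flp_g L831826) L835635
theorem L835645 : sm gj N64138 = N64079 := ded_24_2 (flp_b L834834) (flp_j L831828) L835635
theorem L835647 : sm gh N64138 = N64071 := ded_25_2 (flp_b L834776) (flp_h L831830) L835635
theorem L835649 : sm gi N64138 = N64025 := ded_26_2 L834403 (flp_i L831832) L835635
theorem L835651 : sm ga N64138 = N64138 := ded_10_1 (flp_b L835635) L831820 L826536 (flp_a L831820) L835635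
theorem L835652 : sm gc N64138 = N63966 := ded_19_2 (flp_b L833765) (flp_c L828996) (flp_b L826508) L831818 L835635
theorem L835654 : sm gb N63815 = N64139 := rfl
theorem L835656 : sm gd N64139 = N63966 := ded_20_2 (flp_b L833765) (flp_d L831852) L835654
theorem L835658 : sm ge N64139 = N64072 := ded_21_2 (flp_b L834785) (flp_e L831840) L835654
theorem L835660 : sm gf N64139 = N64009 := ded_22_2 (flp_b L834235) (flp_f L831842) L835654
theorem L835662 : sm gg N64139 = N64082 := ded_23_2 (flp_b L834855) (flp_g L831844) L835654
theorem L835664 : sm gj N64139 = N64078 := ded_24_2 (flp_b L834829) (flp_j L831846) L835654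
theorem L835666 : sm gh N64139 = N64063 := ded_25_2 (flp_b L834728) (flp_h L831848) L835654
theorem L835668 : sm gi N64139 = N64050 := ded_26_2 (flp_b L834609) (flp_i L831850) L835654
theorem L835670 : sm ga N64139 = N64139 := ded_10_1 (flp_b L835654) L831838 L826571 (flp_a L831838) L835654
theorem L835671 : sm gc N64139 = N63851 := ded_19_2 (flp_b L832342) (flp_c L827147) (flp_b L826543) L831836 L835654
theorem L835673 : sm gb N63816 = N64140 := rfl
theorem L835675 : sm gd N64140 = N63986 := ded_20_2 (flp_b L834010) (flp_d L831870) L835673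
theorem L835677 : sm ge N64140 = N64064 := ded_21_2 (flp_b L834733) (flp_e L831858) L835673
theorem L835679 : sm gf N64140 = N64084 := ded_22_2 (flp_b L834871) (flp_f L831860) L835673
theorem L835681 : sm gg N64140 = N64051 := ded_23_2 (flp_b L834624) (flp_g L831862) L835673
theorem L835683 : sm gj N64140 = N64090 := ded_24_2 (flp_b L834912) (flp_j L831864) L835673
theorem L835685 : sm gh N64140 = N64089 := ded_25_2 (flp_b L834907) (flp_h L831866) L835673
theorem L835687 : sm gi N64140 = N64058 := ded_26_2 (flp_b L834684) (flp_i L831868) L835673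
theorem L835689 : sm ga N64140 = N64140 := ded_10_1 (flp_b L835673) L831856 L826606 (flp_a L831856) L835673
theorem L835690 : sm gc N64140 = N63867 := ded_19_2 (flp_b L832556) (flp_c L827429) (flp_b L826578) L831854 L835673
theorem L835692 : sm gb N63817 = N64141 := rfl
theorem L835694 : sm ge N64141 = N64040 := ded_21_2 (flp_b L834528) (flp_e L831876) L835692
theorem L835696 : sm gf N64141 = N64077 := ded_22_2 (flp_b L834822) (flp_f L831878) L835692
theorem L835698 : sm gg N64141 = N63954 := ded_23_2 (flp_b L833636) (flp_g L831880) L835692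
theorem L835700 : sm gj N64141 = N64052 := ded_24_2 (flp_b L834631) (flp_j L831882) L835692
theorem L835702 : sm ga N64141 = N64141 := ded_10_1 (flp_b L835692) L831874 L826633 (flp_a L831874) L835692
theorem L835703 : sm gc N64141 = N63878 := ded_19_2 (flp_b L832709) (flp_c L827587) (flp_b L826613) L831872 L835692
theorem L835705 : sm gh N63817 = N64142 := rfl
theorem L835707 : sm ga N64142 = N63819 := ded_17_1 (flp_h L831900) (flp_a L831874) L835705
theorem L835709 : sm gc N64142 = N63818 := ded_32_1 (flp_h L831884) L831872 L835705
theorem L835711 : sm ge N64142 = N64014 := ded_43_1 L834298 (flp_e L831876) L835705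
theorem L835713 : sm gf N64142 = N63947 := ded_47_1 L833582 (flp_f L831878) L835705
theorem L835715 : sm gg N64142 = N63956 := ded_50_1 (flp_h L833647) (flp_g L831880) L835705
theorem L835717 : sm gj N64142 = N64053 := ded_52_1 (flp_h L834638) (flp_j L831882) L835705
theorem L835719 : sm gd N63955 = N64142 := ded_12_0 L835707 L831913 (flp_a L833643)
theorem L835721 : sm gi N63818 = N64143 := rfl
theorem L835723 : sm ga N64143 = N63820 := ded_18_1 (flp_i L831915) (flp_a L831886) L835721
theorem L835725 : sm gb N64143 = N63880 := ded_26_1 (flp_i L832728) (flp_b L831888) L835721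
theorem L835727 : sm gd N64143 = N63884 := ded_39_1 L832788 (flp_d L831898) L835721
theorem L835729 : sm ge N64143 = N64021 := ded_44_1 (flp_i L834366) (flp_e L831890) L835721
theorem L835731 : sm gf N64143 = N63883 := ded_48_1 L832770 (flp_f L831892) L835721
theorem L835733 : sm gg N64143 = N63958 := ded_51_1 (flp_i L833669) (flp_g L831894) L835721
theorem L835735 : sm gj N64143 = N64054 := ded_53_1 (flp_i L834646) (flp_j L831896) L835721
theorem L835737 : sm gh N64143 = N63918 := ded_54_1 L834954 (flp_h L834938) L830851 L831884 L835721
theorem L835739 : sm gi N63819 = N64144 := rfl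
theorem L835741 : sm gb N64144 = N64144 := ded_26_1 (flp_i L835739) L831902 L835739
theorem L835742 : sm gc N64144 = N63820 := ded_33_1 (flp_i L831915) (flp_c L831903) L835739
theorem L835744 : sm gd N64144 = N63951 := ded_39_1 L833613 (flp_d L831913) L835739
theorem L835746 : sm ge N64144 = N64016 := ded_44_1 (flp_i L834308) (flp_e L831905) L835739
theorem L835748 : sm gf N64144 = N63885 := ded_48_1 L832804 (flp_f L831907) L835739
theorem L835750 : sm gg N64144 = N63960 := ded_51_1 (flp_i L833692) (flp_g L831909) L835739
theorem L835752 : sm gj N64144 = N64055 := ded_53_1 (flp_i L834656) (flp_j L831911) L835739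
theorem L835754 : sm gh N64144 = N63920 := ded_54_1 L834971 (flp_h L834956) L830865 L831900 L835739
theorem L835756 : sm gc N63822 = N64145 := rfl
theorem L835758 : sm ga N64145 = N63824 := ded_11_1 (flp_c L831979) (flp_a L831949) L835756
theorem L835760 : sm ge N64145 = N63864 := ded_28_2 (flp_c L832508) (flp_e L831959) L835756
theorem L835762 : sm gg N64145 = N63998 := ded_30_2 (flp_c L834130) (flp_g L831953) L835756
theorem L835764 : sm gj N64145 = N63841 := ded_31_2 (flp_c L832229) (flp_j L831955) L835756
theorem L835766 : sm gh N64145 = N64088 := ded_32_2 (flp_c L834899) (flp_h L831961) L835756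
theorem L835768 : sm gi N64145 = N64048 := ded_33_2 L834593 (flp_i L831957) L835756
theorem L835770 : sm gd N64145 = N64000 := ded_27_2 (flp_c L834152) (flp_d L829564) (flp_c L826701) L831947 L835756
theorem L835772 : sm gf N63822 = N64146 := rfl
theorem L835774 : sm ga N64146 = N63825 := ded_14_1 (flp_f L831994) (flp_a L831949) L835772
theorem L835776 : sm gb N64146 = N64029 := ded_22_1 L834444 (flp_b L831951) L835772
theorem L835778 : sm gd N64146 = N63823 := ded_35_1 (flp_f L831963) L831947 L835772
theorem L835780 : sm gj N64146 = N63842 := ded_46_2 (flp_f L832239) (flp_j L831955) L835772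
theorem L835782 : sm gh N64146 = N64086 := ded_47_2 L834890 (flp_h L831961) L835772
theorem L835784 : sm gi N64146 = N63957 := ded_48_2 L833667 (flp_i L831957) L835772
theorem L835786 : sm ge N64146 = N63949 := ded_40_1 (flp_f L833594) L828744 (flp_f L827312) (flp_e L831959) L835772
theorem L835788 : sm gg N63823 = N64147 := rfl
theorem L835790 : sm ga N64147 = N63826 := ded_15_1 (flp_g L832008) (flp_a L831965) L835788
theorem L835792 : sm gb N64147 = N64032 := ded_23_1 L834471 (flp_b L831967) L835788
theorem L835794 : sm gc N64147 = N64003 := ded_30_1 (flp_g L834182) (flp_c L831969) L835788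
theorem L835796 : sm ge N64147 = N63931 := ded_41_1 L833417 (flp_e L831977) L835788
theorem L835798 : sm gh N64147 = N63832 := ded_50_2 (flp_g L832101) (flp_h L831973) L835788
theorem L835800 : sm gi N64147 = N63961 := ded_51_2 (flp_g L833701) (flp_i L831975) L835788
theorem L835802 : sm gf N64147 = N63840 := ded_45_1 L832225 (flp_f L829503) (flp_g L826703) L831963 L835788
theorem L835804 : sm gj N64147 = N63926 := ded_49_2 (flp_g L833347) (flp_j L831779) L831777 (flp_j L831971) L835788
theorem L835806 : sm gf N63824 = N64148 := rfl
theorem L835808 : sm gb N64148 = N64148 := ded_22_1 (flp_f L835806) L831991 L835806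
theorem L835809 : sm gc N64148 = N63825 := ded_29_1 (flp_f L831994) L831979 L835806
theorem L835811 : sm gd N64148 = N64004 := ded_35_1 (flp_f L834192) (flp_d L831992) L835806
theorem L835813 : sm gj N64148 = N63843 := ded_46_2 (flp_f L832249) (flp_j L831985) L835806
theorem L835815 : sm gh N64148 = N64087 := ded_47_2 L834897 (flp_h L831987) L835806
theorem L835817 : sm gi N64148 = N63959 := ded_48_2 L833690 (flp_i L831989) L835806
theorem L835819 : sm ge N64148 = N63951 := ded_40_1 (flp_f L833608) L828756 (flp_f L827320) (flp_e L831981) L835806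
theorem L835821 : sm gc N63827 = N64149 := rfl
theorem L835823 : sm ga N64149 = N63829 := ded_11_1 (flp_c L832056) (flp_a L832026) L835821
theorem L835825 : sm ge N64149 = N63837 := ded_28_2 (flp_c L832176) (flp_e L832036) L835821
theorem L835827 : sm gg N64149 = N64060 := ded_30_2 (flp_c L834701) (flp_g L832030) L835821
theorem L835829 : sm gj N64149 = N63845 := ded_31_2 (flp_c L832270) (flp_j L832032) L835821
theorem L835831 : sm gh N64149 = N63938 := ded_32_2 (flp_c L833489) (flp_h L832038) L835821
theorem L835833 : sm gi N64149 = N64056 := ded_33_2 (flp_c L834663) (flp_i L832034) L835821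
theorem L835835 : sm gd N64149 = N64059 := ded_27_2 (flp_c L834691) (flp_d L830428) (flp_c L826776) L832024 L835821
theorem L835837 : sm gf N63827 = N64150 := rfl
theorem L835839 : sm ga N64150 = N63830 := ded_14_1 (flp_f L832071) (flp_a L832026) L835837
theorem L835841 : sm gb N64150 = N63994 := ded_22_1 L834085 (flp_b L832028) L835837
theorem L835843 : sm gd N64150 = N63828 := ded_35_1 (flp_f L832040) L832024 L835837
theorem L835845 : sm gj N64150 = N63846 := ded_46_2 (flp_f L832280) (flp_j L832032) L835837
theorem L835847 : sm gh N64150 = N63939 := ded_47_2 (flp_f L833497) (flp_h L832038) L835837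
theorem L835849 : sm gi N64150 = N63968 := ded_48_2 L833800 (flp_i L832034) L835837
theorem L835851 : sm ge N64150 = N64036 := ded_40_1 (flp_f L834500) (flp_e L830853) L830845 (flp_e L832036) L835837
theorem L835853 : sm gg N63828 = N64151 := rfl
theorem L835855 : sm ga N64151 = N63831 := ded_15_1 (flp_g L832085) (flp_a L832042) L835853
theorem L835857 : sm gb N64151 = N64020 := ded_23_1 L834362 (flp_b L832044) L835853
theorem L835859 : sm gc N64151 = N64031 := ded_30_1 L834463 (flp_c L832046) L835853
theorem L835861 : sm ge N64151 = N63832 := ded_41_1 (flp_g L832101) (flp_e L832054) L835853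
theorem L835863 : sm gh N64151 = N63931 := ded_50_2 L833417 (flp_h L832050) L835853
theorem L835865 : sm gi N64151 = N63979 := ded_51_2 L833934 (flp_i L832052) L835853
theorem L835867 : sm gf N64151 = N63999 := ded_45_1 L834146 L829883 (flp_g L826778) L832040 L835853
theorem L835869 : sm gj N64151 = N63919 := ded_49_2 (flp_g L833276) (flp_j L831547) L831545 (flp_j L832048) L835853
theorem L835871 : sm gf N63829 = N64152 := rfl
theorem L835873 : sm gb N64152 = N64152 := ded_22_1 (flp_f L835871) L832068 L835871
theorem L835874 : sm gc N64152 = N63830 := ded_29_1 (flp_f L832071) L832056 L835871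
theorem L835876 : sm gd N64152 = N64045 := ded_35_1 L834567 (flp_d L832069) L835871
theorem L835878 : sm gj N64152 = N63848 := ded_46_2 (flp_f L832306) (flp_j L832062) L835871
theorem L835880 : sm gh N64152 = N63940 := ded_47_2 (flp_f L833505) (flp_h L832064) L835871
theorem L835882 : sm gi N64152 = N63969 := ded_48_2 L833813 (flp_i L832066) L835871
theorem L835884 : sm ge N64152 = N64038 := ded_40_1 (flp_f L834514) (flp_e L830857) L830859 (flp_e L832058) L835871
theorem L835886 : sm gc N63833 = N64153 := rfl
theorem L835888 : sm ga N64153 = N63835 := ded_11_1 (flp_c L832147) (flp_a L832115) L835886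
theorem L835890 : sm ge N64153 = N64060 := ded_28_2 (flp_c L834701) (flp_e L832125) L835886
theorem L835892 : sm gg N64153 = N63837 := ded_30_2 (flp_c L832176) (flp_g L832119) L835886
theorem L835894 : sm gj N64153 = N64017 := ded_31_2 (flp_c L834319) (flp_j L832121) L835886
theorem L835896 : sm gh N64153 = N64068 := ded_32_2 (flp_c L834754) (flp_h L832127) L835886
theorem L835898 : sm gi N64153 = N63905 := ded_33_2 (flp_c L833104) (flp_i L832123) L835886
theorem L835900 : sm gd N64153 = N63989 := ded_27_2 (flp_c L834037) (flp_d L829383) (flp_c L826873) L832113 L835886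
theorem L835902 : sm gf N63833 = N64154 := rfl
theorem L835904 : sm ga N64154 = N63836 := ded_14_1 (flp_f L832162) (flp_a L832115) L835902
theorem L835906 : sm gb N64154 = N63939 := ded_22_1 (flp_f L833497) (flp_b L832117) L835902
theorem L835908 : sm gd N64154 = N63834 := ded_35_1 (flp_f L832129) L832113 L835902
theorem L835910 : sm gj N64154 = N63934 := ded_46_2 L833444 (flp_j L832121) L835902
theorem L835912 : sm gh N64154 = N63994 := ded_47_2 L834085 (flp_h L832127) L835902
theorem L835914 : sm gi N64154 = N63906 := ded_48_2 (flp_f L833112) (flp_i L832123) L835902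
theorem L835916 : sm gg N64154 = N63949 := ded_45_2 (flp_f L833594) (flp_g L830847) L830845 (flp_g L832119) L835902
theorem L835918 : sm gf N63835 = N64155 := rfl
theorem L835920 : sm gb N64155 = N64155 := ded_22_1 (flp_f L835918) L832159 L835918
theorem L835921 : sm gc N64155 = N63836 := ded_29_1 (flp_f L832162) L832147 L835918
theorem L835923 : sm gd N64155 = N63960 := ded_35_1 L833699 (flp_d L832160) L835918
theorem L835925 : sm gj N64155 = N63935 := ded_46_2 L833455 (flp_j L832153) L835918
theorem L835927 : sm gh N64155 = N63995 := ded_47_2 L834094 (flp_h L832155) L835918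
theorem L835929 : sm gi N64155 = N63907 := ded_48_2 (flp_f L833126) (flp_i L832157) L835918
theorem L835931 : sm gg N64155 = N63951 := ded_45_2 (flp_f L833608) (flp_g L830861) L830859 (flp_g L832151) L835918
theorem L835933 : sm gb N63837 = N64156 := rfl
theorem L835935 : sm gd N64156 = N63992 := ded_20_2 (flp_b L834064) (flp_d L832184) L835933
theorem L835937 : sm gj N64156 = N63851 := ded_24_2 (flp_b L832342) (flp_j L832180) L835933
theorem L835939 : sm gi N64156 = N64077 := ded_26_2 (flp_b L834822) (flp_i L832182) L835933
theorem L835941 : sm ga N64156 = N64156 := ded_10_1 (flp_b L835933) L832178 L826944 (flp_a L832178) L835933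
theorem L835942 : sm gc N64156 = N64078 := ded_19_2 (flp_b L834829) (flp_c L830666) (flp_b L826932) L832176 L835933
theorem L835944 : sm gh N63837 = N64157 := rfl
theorem L835946 : sm ga N64157 = N63839 := ded_17_1 (flp_h L832202) (flp_a L832178) L835944
theorem L835948 : sm gc N64157 = N63838 := ded_32_1 (flp_h L832186) L832176 L835944
theorem L835950 : sm ge N64157 = N63938 := ded_43_1 (flp_h L835831) L835825 L835944
theorem L835952 : sm gg N64157 = N64068 := ded_50_1 (flp_h L835896) L835892 L835944
theorem L835954 : sm gj N64157 = N63852 := ded_52_1 (flp_h L832351) (flp_j L832180) L835944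
theorem L835956 : sm gd N64034 = N64157 := ded_12_0 L835946 (flp_d L832215) (flp_a L834486)
theorem L835958 : sm gi N63917 = N64157 := ded_18_0 L835946 (flp_i L832213) (flp_a L833264)
theorem L835960 : sm gb N63841 = N64158 := rfl
theorem L835962 : sm ge N64158 = N63867 := ded_21_2 (flp_b L832556) (flp_e L832233) L835960
theorem L835964 : sm gg N64158 = N64058 := ded_23_2 (flp_b L834684) (flp_g L832235) L835960
theorem L835966 : sm gi N64158 = N64051 := ded_26_2 (flp_b L834624) (flp_i L832237) L835960
theorem L835968 : sm ga N64158 = N64158 := ded_10_1 (flp_b L835960) L832231 L827041 (flp_a L832231) L835960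
theorem L835969 : sm gc N64158 = N64064 := ded_19_2 (flp_b L834733) (flp_c L830503) (flp_b L827013) L832229 L835960
theorem L835971 : sm gf N63841 = N64159 := rfl
theorem L835973 : sm ga N64159 = N63843 := ded_14_1 (flp_f L832249) (flp_a L832231) L835971
theorem L835975 : sm gc N64159 = N63842 := ded_29_1 (flp_f L832239) L832229 L835971
theorem L835977 : sm gi N64159 = N63987 := ded_48_2 L834023 (flp_i L832237) L835971
theorem L835979 : sm ge N63842 = N64160 := rfl
theorem L835981 : sm ga N64160 = N63844 := ded_13_1 (flp_e L832256) (flp_a L832241) L835979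
theorem L835983 : sm gb N64160 = N63958 := ded_21_1 L833675 (flp_b L832243) L835979
theorem L835985 : sm gg N64160 = N63880 := ded_41_2 (flp_e L835594) L835598 L835979
theorem L835987 : sm gj N64160 = N63949 := ded_42_2 (flp_e L835786) L835780 L835979
theorem L835989 : sm gi N64160 = N63875 := ded_44_2 L832669 (flp_i L832247) L835979
theorem L835991 : sm gd N64160 = N63910 := ded_34_1 L833177 L828163 (flp_e L827031) (flp_d L832245) L835979
theorem L835993 : sm gf N64160 = N63869 := ded_40_2 (flp_e L832575) (flp_f L827435) (flp_e L827019) L832239 L835979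
theorem L835995 : sm ge N63843 = N64161 := rfl
theorem L835997 : sm gb N64161 = N64161 := ded_21_1 (flp_e L835995) L832251 L835995
theorem L835998 : sm gc N64161 = N63844 := ded_28_1 (flp_e L832256) (flp_c L832252) L835995
theorem L836000 : sm gg N64161 = N63882 := ded_41_2 (flp_e L835609) L835613 L835995
theorem L836002 : sm gj N64161 = N63951 := ded_42_2 (flp_e L835819) L835813 L835995
theorem L836004 : sm gi N64161 = N63877 := ded_44_2 L832699 (flp_i L832254) L835995
theorem L836006 : sm gf N64161 = N63870 := ded_40_2 (flp_e L832589) (flp_f L827449) (flp_e L827035) L832249 L835995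
theorem L836008 : sm gd N64055 = N64161 := ded_27_0 L835998 L832266 L828143 (flp_d L830373) (flp_c L834659)
theorem L836010 : sm gb N63845 = N64162 := rfl
theorem L836012 : sm ge N64162 = N63851 := ded_21_2 (flp_b L832342) (flp_e L832274) L836010
theorem L836014 : sm gg N64162 = N64083 := ded_23_2 (flp_b L834864) (flp_g L832276) L836010
theorem L836016 : sm gi N64162 = N64057 := ded_26_2 (flp_b L834673) (flp_i L832278) L836010
theorem L836018 : sm ga N64162 = N64162 := ded_10_1 (flp_b L836010) L832272 L827097 (flp_a L832272) L836010
theorem L836019 : sm gc N64162 = N64072 := ded_19_2 (flp_b L834785) (flp_c L830585) (flp_b L827069) L832270 L836010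
theorem L836021 : sm gf N63845 = N64163 := rfl
theorem L836023 : sm ga N64163 = N63848 := ded_14_1 (flp_f L832306) (flp_a L832272) L836021
theorem L836025 : sm gc N64163 = N63846 := ded_29_1 (flp_f L832280) L832270 L836021
theorem L836027 : sm gi N64163 = N63977 := ded_48_2 L833908 (flp_i L832278) L836021
theorem L836029 : sm gh N63845 = N64164 := rfl
theorem L836031 : sm ga N64164 = N63849 := ded_17_1 (flp_h L832313) (flp_a L832272) L836029
theorem L836033 : sm gc N64164 = N63847 := ded_32_1 (flp_h L832290) L832270 L836029
theorem L836035 : sm ge N64164 = N63852 := ded_43_1 (flp_h L832351) (flp_e L832274) L836029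
theorem L836037 : sm gg N64164 = N63978 := ded_50_1 L833920 (flp_g L832276) L836029
theorem L836039 : sm gj N64164 = N63938 := ded_52_1 (flp_h L835831) L835829 L836029
theorem L836041 : sm gi N64164 = N63936 := ded_54_2 L833469 L830689 (flp_h L830418) (flp_i L832278) L836029
theorem L836043 : sm gd N64073 = N64164 := ded_12_0 L836031 (flp_d L832326) (flp_a L834792)
theorem L836045 : sm gh N63846 = N64165 := rfl
theorem L836047 : sm ga N64165 = N63850 := ded_17_1 (flp_h L832328) (flp_a L832282) L836045
theorem L836049 : sm gb N64165 = N63934 := ded_25_1 L833448 (flp_b L832284) L836045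
theorem L836051 : sm gf N64165 = N63847 := ded_47_1 (flp_h L832290) L832280 L836045
theorem L836053 : sm gg N64165 = N64054 := ded_50_1 (flp_h L835263) L835259 L836045
theorem L836055 : sm gj N64165 = N63939 := ded_52_1 (flp_h L835847) L835845 L836045
theorem L836057 : sm gd N64165 = N63909 := ded_38_1 L833167 L828163 (flp_h L827083) (flp_d L832286) L836045
theorem L836059 : sm gi N64165 = N63904 := ded_54_2 (flp_h L833090) L828006 L829138 (flp_i L832288) L836045
theorem L836061 : sm gh N63848 = N64166 := rfl
theorem L836063 : sm gb N64166 = N64166 := ded_25_1 (flp_h L836061) L832308 L836061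
theorem L836064 : sm gc N64166 = N63850 := ded_32_1 (flp_h L832328) (flp_c L832309) L836061
theorem L836066 : sm gf N64166 = N63849 := ded_47_1 (flp_h L832313) L832306 L836061
theorem L836068 : sm gg N64166 = N64055 := ded_50_1 (flp_h L835278) L835274 L836061
theorem L836070 : sm gj N64166 = N63940 := ded_52_1 (flp_h L835880) L835878 L836061
theorem L836072 : sm gi N64166 = N63881 := ded_54_2 L832749 L828016 L829148 (flp_i L832311) L836061
theorem L836074 : sm gd N64166 = N63882 := ded_55_2 L832756 (flp_e L831803) L831816 L826633 (flp_c L826623) (flp_d L819571) (flp_i L818096) L818094 L818648 L818652 L810894 L804498 (flp_b L792621) (flp_c L780337) (flp_d L768859) L757074 (flp_h L743056) L725986 (flp_f L726016) L726014 L706768 (flp_b L699589) L699591 L678197 (flp_i L663482) L364516 L254205 L254206 L175114 L175113 L175117 (flp_c L254089) (flp_d L369145) L543188 (flp_h L387040) (flp_d L670382) (flp_f L692257) L712916 (flp_d L725852) L725846 L706541 (flp_d L706446) L725696 L742659 L756714 (flp_f L768480) L779918 L779924 (flp_b L786848) (flp_c L798993) L810424 L810430 (flp_h L813748)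 (flp_d L813739) L813750 L813760 L802714 (flp_b L805914) L805916 (flp_d L806905) (flp_i L817064) (flp_h L824789) (flp_d L830243) L830245 L824781 (flp_d L817832) L807913 L796244 L784188 (flp_i L796233) L796231 L784489 L784589 L784594 (flp_d L796515) (flp_b L799175) (flp_c L810620) (flp_d L818397) L818399 L816639 (flp_d L806484) L806490 (flp_e L809006) (flp_d L818776) (flp_b L826047) (flp_c L831511) L831513 (flp_i L832311) L836061
theorem L836076 : sm gh N63851 = N64167 := rfl
theorem L836078 : sm ga N64167 = N64167 := ded_17_1 (flp_h L836076) L832350 L836076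
theorem L836079 : sm gb N64167 = N63852 := ded_25_1 (flp_h L832351) L832342 L836076
theorem L836081 : sm gc N64167 = N64063 := ded_32_1 (flp_h L835666) L835671 L836076
theorem L836083 : sm gg N64167 = N64033 := ded_50_1 L834481 (flp_g L832346) L836076
theorem L836085 : sm gd N64040 = N64167 := ded_20_0 L836079 (flp_d L832359) L834528
theorem L836087 : sm gi N63852 = N64168 := rfl
theorem L836089 : sm ga N64168 = N63854 := ded_18_1 (flp_i L832377) (flp_a L832353) L836087
theorem L836091 : sm gc N64168 = N63853 := ded_33_1 (flp_i L832361) (flp_c L832355) L836087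
theorem L836093 : sm gd N64168 = N64035 := ded_39_1 L834498 L832359 L836087
theorem L836095 : sm ge N64168 = N63936 := ded_44_1 (flp_i L836041) L836035 L836087
theorem L836097 : sm gg N64168 = N63980 := ded_51_1 L833948 (flp_g L832357) L836087
theorem L836099 : sm gj N64168 = N63917 := ded_53_1 L835958 L835954 L836087
theorem L836101 : sm gh N64168 = N64075 := ded_54_1 L834811 L830658 (flp_i L827153) L832351 L836087
theorem L836103 : sm gc N63855 = N64169 := rfl
theorem L836105 : sm ga N64169 = N63857 := ded_11_1 (flp_c L832424) (flp_a L832394) L836103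
theorem L836107 : sm ge N64169 = N63983 := ded_28_2 (flp_c L833975) (flp_e L832404) L836103
theorem L836109 : sm gg N64169 = N63860 := ded_30_2 (flp_c L832463) (flp_g L832398) L836103
theorem L836111 : sm gj N64169 = N63989 := ded_31_2 (flp_c L834037) (flp_j L832400) L836103
theorem L836113 : sm gi N64169 = N63873 := ded_33_2 (flp_c L832637) (flp_i L832402) L836103
theorem L836115 : sm gd N64169 = N64017 := ded_27_2 (flp_c L834319) (flp_d L829751) (flp_c L827196) L832392 L836103
theorem L836117 : sm gf N63855 = N64170 := rfl
theorem L836119 : sm ga N64170 = N63858 := ded_14_1 (flp_f L832437) (flp_a L832394) L836117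
theorem L836121 : sm gb N64170 = N63949 := ded_22_1 (flp_f L833594) (flp_b L832396) L836117
theorem L836123 : sm gd N64170 = N63856 := ded_35_1 (flp_f L832406) L832392 L836117
theorem L836125 : sm gj N64170 = N63958 := ded_46_2 L833677 (flp_j L832400) L836117
theorem L836127 : sm gi N64170 = N63874 := ded_48_2 (flp_f L832647) (flp_i L832402) L836117
theorem L836129 : sm ge N64170 = N64029 := ded_40_1 L834444 L830478 (flp_f L829310) (flp_e L832404) L836117
theorem L836131 : sm gg N64170 = N63939 := ded_45_2 (flp_f L833497) L828569 (flp_f L827266) (flp_g L832398) L836117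
theorem L836133 : sm gh N63855 = N64171 := rfl
theorem L836135 : sm ga N64171 = N63859 := ded_17_1 (flp_h L832451) (flp_a L832394) L836133
theorem L836137 : sm gb N64171 = N63950 := ded_25_1 (flp_h L833602) (flp_b L832396) L836133
theorem L836139 : sm ge N64171 = N63984 := ded_43_1 (flp_h L833987) (flp_e L832404) L836133
theorem L836141 : sm gg N64171 = N63861 := ded_50_1 (flp_h L832475) (flp_g L832398) L836133
theorem L836143 : sm gj N64171 = N63990 := ded_52_1 (flp_h L834045) (flp_j L832400) L836133
theorem L836145 : sm gd N64171 = N63999 := ded_38_1 L834150 (flp_d L829817) (flp_h L827202) L832392 L836133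
theorem L836147 : sm gf N63857 = N64172 := rfl
theorem L836149 : sm gb N64172 = N64172 := ded_22_1 (flp_f L836147) L832434 L836147
theorem L836150 : sm gc N64172 = N63858 := ded_29_1 (flp_f L832437) L832424 L836147
theorem L836152 : sm gd N64172 = N63935 := ded_35_1 L833455 (flp_d L832435) L836147
theorem L836154 : sm gj N64172 = N63960 := ded_46_2 L833699 (flp_j L832430) L836147
theorem L836156 : sm gi N64172 = N63876 := ded_48_2 (flp_f L832679) (flp_i L832432) L836147
theorem L836158 : sm ge N64172 = N64030 := ded_40_1 L834453 L830482 (flp_f L829318) (flp_e L832426) L836147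
theorem L836160 : sm gg N64172 = N63940 := ded_45_2 (flp_f L833505) L828583 (flp_f L827274) (flp_g L832428) L836147
theorem L836162 : sm gh N63857 = N64173 := rfl
theorem L836164 : sm gb N64173 = N64173 := ded_25_1 (flp_h L836162) L832434 L836162
theorem L836165 : sm gc N64173 = N63859 := ded_32_1 (flp_h L832451) L832424 L836162
theorem L836167 : sm ge N64173 = N63985 := ded_43_1 (flp_h L833999) (flp_e L832426) L836162
theorem L836169 : sm gg N64173 = N63862 := ded_50_1 (flp_h L832485) (flp_g L832428) L836162
theorem L836171 : sm gj N64173 = N63991 := ded_52_1 (flp_h L834055) (flp_j L832430) L836162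
theorem L836173 : sm gd N64173 = N63945 := ded_38_1 L833560 L830002 (flp_h L829769) (flp_d L832435) L836162
theorem L836175 : sm gb N63860 = N64174 := rfl
theorem L836177 : sm gd N64174 = N64018 := ded_20_2 (flp_b L834331) (flp_d L832473) L836175
theorem L836179 : sm gf N64174 = N64078 := ded_22_2 (flp_b L834829) (flp_f L832467) L836175
theorem L836181 : sm gj N64174 = N64009 := ded_24_2 (flp_b L834235) (flp_j L832469) L836175
theorem L836183 : sm gi N64174 = N63878 := ded_26_2 (flp_b L832709) (flp_i L832471) L836175
theorem L836185 : sm ga N64174 = N64174 := ded_10_1 (flp_b L836175) L832465 L827280 (flp_a L832465) L836175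
theorem L836186 : sm gh N63860 = N64175 := rfl
theorem L836188 : sm ga N64175 = N63862 := ded_17_1 (flp_h L832485) (flp_a L832465) L836186
theorem L836190 : sm gc N64175 = N63861 := ded_32_1 (flp_h L832475) L832463 L836186
theorem L836192 : sm gf N64175 = N64060 := ded_47_1 L834707 (flp_f L832467) L836186
theorem L836194 : sm gj N64175 = N64010 := ded_52_1 (flp_h L834244) (flp_j L832469) L836186
theorem L836196 : sm gd N64175 = N64028 := ded_38_1 (flp_h L834428) L834354 (flp_h L834338) (flp_d L832473) L836186
theorem L836198 : sm gi N63861 = N64176 := rfl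
theorem L836200 : sm ga N64176 = N63863 := ded_18_1 (flp_i L832496) (flp_a L832477) L836198
theorem L836202 : sm gb N64176 = N63918 := ded_26_1 L834954 L834942 L836198
theorem L836204 : sm gd N64176 = N63893 := ded_39_1 L832942 (flp_d L832483) L836198
theorem L836206 : sm gf N64176 = N63892 := ded_48_1 L832924 (flp_f L832479) L836198
theorem L836208 : sm gj N64176 = N64011 := ded_53_1 (flp_i L834256) (flp_j L832481) L836198
theorem L836210 : sm gh N64176 = N63880 := ded_54_1 (flp_i L832728) (flp_h L827597) (flp_i L827270) L832475 L836198
theorem L836212 : sm gi N63862 = N64177 := rfl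
theorem L836214 : sm gb N64177 = N64177 := ded_26_1 (flp_i L836212) L832487 L836212
theorem L836215 : sm gc N64177 = N63863 := ded_33_1 (flp_i L832496) (flp_c L832488) L836212
theorem L836217 : sm gd N64177 = N64030 := ded_39_1 (flp_i L834448) (flp_d L832494) L836212
theorem L836219 : sm gf N64177 = N63894 := ded_48_1 L832956 (flp_f L832490) L836212
theorem L836221 : sm gj N64177 = N64012 := ded_53_1 (flp_i L834268) (flp_j L832492) L836212
theorem L836223 : sm gh N64177 = N63882 := ded_54_1 (flp_i L832751) (flp_h L827607) (flp_i L827278) L832485 L836212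
theorem L836225 : sm gb N63864 = N64178 := rfl
theorem L836227 : sm gd N64178 = N64083 := ded_20_2 (flp_b L834864) (flp_d L832518) L836225
theorem L836229 : sm gf N64178 = N64042 := ded_22_2 (flp_b L834541) (flp_f L832512) L836225
theorem L836231 : sm gj N64178 = N63867 := ded_24_2 (flp_b L832556) (flp_j L832514) L836225
theorem L836233 : sm gi N64178 = N64046 := ded_26_2 L834574 (flp_i L832516) L836225
theorem L836235 : sm ga N64178 = N64178 := ded_10_1 (flp_b L836225) L832510 L827326 (flp_a L832510) L836225
theorem L836236 : sm gc N64178 = N64090 := ded_19_2 (flp_b L834912) (flp_c L830791) (flp_b L827310) L832508 L836225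
theorem L836238 : sm gb N63865 = N64179 := rfl
theorem L836240 : sm gd N64179 = N63867 := ded_20_2 (flp_b L832556) (flp_d L832536) L836238
theorem L836242 : sm ge N64179 = N64018 := ded_21_2 (flp_b L834331) (flp_e L832524) L836238
theorem L836244 : sm gf N64179 = N64071 := ded_22_2 (flp_b L834776) (flp_f L832526) L836238
theorem L836246 : sm gg N64179 = N64063 := ded_23_2 (flp_b L834728) (flp_g L832528) L836238
theorem L836248 : sm gj N64179 = N64083 := ded_24_2 (flp_b L834864) (flp_j L832530) L836238
theorem L836250 : sm gh N64179 = N64082 := ded_25_2 (flp_b L834855) (flp_h L832532) L836238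
theorem L836252 : sm gi N64179 = N64023 := ded_26_2 (flp_b L834388) (flp_i L832534) L836238
theorem L836254 : sm ga N64179 = N64179 := ded_10_1 (flp_b L836238) L832522 L827391 (flp_a L832522) L836238
theorem L836255 : sm gc N64179 = N64033 := ded_19_2 (flp_b L834475) (flp_c L830127) (flp_b L827363) L832520 L836238
theorem L836257 : sm gb N63866 = N64180 := rfl
theorem L836259 : sm gd N64180 = N64023 := ded_20_2 (flp_b L834388) (flp_d L832554) L836257
theorem L836261 : sm ge N64180 = N64051 := ded_21_2 (flp_b L834624) (flp_e L832542) L836257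
theorem L836263 : sm gf N64180 = N64027 := ded_22_2 (flp_b L834423) (flp_f L832544) L836257
theorem L836265 : sm gg N64180 = N64064 := ded_23_2 (flp_b L834733) (flp_g L832546) L836257
theorem L836267 : sm gj N64180 = N64046 := ded_24_2 L834574 (flp_j L832548) L836257
theorem L836269 : sm gh N64180 = N64062 := ded_25_2 (flp_b L834721) (flp_h L832550) L836257
theorem L836271 : sm gi N64180 = N63867 := ded_26_2 (flp_b L832556) (flp_i L832552) L836257
theorem L836273 : sm ga N64180 = N64180 := ded_10_1 (flp_b L836257) L832540 L827426 (flp_a L832540) L836257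
theorem L836274 : sm gc N64180 = N64058 := ded_19_2 (flp_b L834684) (flp_c L830420) (flp_b L827398) L832538 L836257
theorem L836276 : sm gf N63867 = N64181 := rfl
theorem L836278 : sm ga N64181 = N64181 := ded_14_1 (flp_f L836276) L832560 L836276
theorem L836279 : sm gb N64181 = N63868 := ded_22_1 (flp_f L832561) L832556 L836276
theorem L836281 : sm gc N64181 = N64084 := ded_29_1 (flp_f L835679) L835690 L836276
theorem L836283 : sm gd N64181 = N64071 := ded_35_1 (flp_f L836244) L836240 L836276
theorem L836285 : sm gj N64181 = N64042 := ded_46_2 (flp_f L836229) L836231 L836276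
theorem L836287 : sm gi N64181 = N64027 := ded_48_2 (flp_f L836263) L836271 L836276
theorem L836289 : sm gg N64070 = N64181 := ded_23_0 L836279 (flp_g L832573) L834771
theorem L836291 : sm ge N63868 = N64182 := rfl
theorem L836293 : sm ga N64182 = N63870 := ded_13_1 (flp_e L832589) (flp_a L832563) L836291
theorem L836295 : sm gc N64182 = N63869 := ded_28_1 (flp_e L832575) (flp_c L832565) L836291
theorem L836297 : sm gg N64182 = N63967 := ded_41_2 L833782 L832573 L836291
theorem L836299 : sm gj N64182 = N63948 := ded_42_2 L833590 (flp_j L832569) L836291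
theorem L836301 : sm gi N64182 = N63946 := ded_44_2 L833566 (flp_i L832571) L836291
theorem L836303 : sm gd N64182 = N64075 := ded_34_1 L834807 L830691 (flp_e L830581) (flp_d L832567) L836291
theorem L836305 : sm gc N63871 = N64183 := rfl
theorem L836307 : sm ga N64183 = N63872 := ded_11_1 (flp_c L832620) (flp_a L832604) L836305
theorem L836309 : sm ge N64183 = N63982 := ded_28_2 (flp_c L833963) (flp_e L832616) L836305
theorem L836311 : sm gf N64183 = N63956 := ded_29_2 L833651 (flp_f L832608) L836305
theorem L836313 : sm gg N64183 = N63913 := ded_30_2 (flp_c L833214) (flp_g L832610) L836305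
theorem L836315 : sm gj N64183 = N63873 := ded_31_2 (flp_c L832637) (flp_j L832612) L836305
theorem L836317 : sm gh N64183 = N63955 := ded_32_2 L833645 (flp_h L832618) L836305
theorem L836319 : sm gi N64183 = N63989 := ded_33_2 (flp_c L834037) (flp_i L832614) L836305
theorem L836321 : sm gd N64183 = N63905 := ded_27_2 (flp_c L833104) (flp_d L828033) (flp_c L827496) L832602 L836305
theorem L836323 : sm gb N63873 = N64184 := rfl
theorem L836325 : sm gd N64184 = N64024 := ded_20_2 (flp_b L834395) (flp_d L832645) L836323
theorem L836327 : sm ge N64184 = N63986 := ded_21_2 (flp_b L834010) (flp_e L832641) L836323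
theorem L836329 : sm gg N64184 = N63878 := ded_23_2 (flp_b L832709) (flp_g L832643) L836323
theorem L836331 : sm ga N64184 = N64184 := ded_10_1 (flp_b L836323) L832639 L827556 (flp_a L832639) L836323
theorem L836332 : sm gc N64184 = N63954 := ded_19_2 (flp_b L833636) (flp_c L828788) (flp_b L827528) L832637 L836323
theorem L836334 : sm gf N63873 = N64185 := rfl
theorem L836336 : sm ga N64185 = N63876 := ded_14_1 (flp_f L832679) (flp_a L832639) L836334
theorem L836338 : sm gc N64185 = N63874 := ded_29_1 (flp_f L832647) L832637 L836334
theorem L836340 : sm gd N64185 = N63933 := ded_35_1 L833434 (flp_d L832645) L836334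
theorem L836342 : sm gj N64185 = N63956 := ded_46_2 (flp_f L836311) L836315 L836334
theorem L836344 : sm ge N64185 = N64028 := ded_40_1 L834434 L830493 (flp_f L829341) (flp_e L832641) L836334
theorem L836346 : sm gg N64185 = N63943 := ded_45_2 (flp_f L833533) L828613 (flp_f L827591) (flp_g L832643) L836334
theorem L836348 : sm gh N63946 = N64185 := ded_17_0 L836336 (flp_h L832692) (flp_a L833564)
theorem L836350 : sm gh N63873 = N64186 := rfl
theorem L836352 : sm ga N64186 = N63877 := ded_17_1 (flp_h L832694) (flp_a L832639) L836350
theorem L836354 : sm gc N64186 = N63875 := ded_32_1 (flp_h L832663) L832637 L836350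
theorem L836356 : sm ge N64186 = N63987 := ded_43_1 (flp_h L834017) (flp_e L832641) L836350
theorem L836358 : sm gf N64186 = N63946 := ded_47_1 L836348 (flp_f L836334) L836350
theorem L836360 : sm gg N64186 = N63879 := ded_50_1 (flp_h L832718) (flp_g L832643) L836350
theorem L836362 : sm gj N64186 = N63955 := ded_52_1 (flp_h L836317) L836315 L836350
theorem L836364 : sm gd N64186 = N64053 := ded_38_1 (flp_h L834638) (flp_d L832876) L832872 (flp_d L832645) L836350
theorem L836366 : sm gh N63878 = N64187 := rfl
theorem L836368 : sm ga N64187 = N64187 := ded_17_1 (flp_h L836366) L832717 L836366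
theorem L836369 : sm gb N64187 = N63879 := ded_25_1 (flp_h L832718) L832709 L836366
theorem L836371 : sm gf N64187 = N64074 := ded_47_1 L834800 (flp_f L832713) L836366
theorem L836373 : sm gj N64187 = N64066 := ded_52_1 (flp_h L834743) (flp_j L832715) L836366
theorem L836375 : sm gd N63879 = N64188 := rfl
theorem L836377 : sm ga N64188 = N63881 := ded_12_1 (flp_d L832738) (flp_a L832720) L836375
theorem L836379 : sm gf N64188 = N63936 := ded_35_2 L833471 (flp_f L832724) L836375
theorem L836381 : sm gg N64188 = N64053 := ded_36_2 (flp_d L836364) L836360 L836375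
theorem L836383 : sm gj N64188 = N63943 := ded_37_2 L833539 (flp_j L832726) L836375
theorem L836385 : sm gc N64188 = N63904 := ded_27_1 L833102 L828097 (flp_d L827605) (flp_c L832722) L836375
theorem L836387 : sm gh N64188 = N63903 := ded_38_2 L833088 (flp_h L829975) (flp_d L827595) L832718 L836375
theorem L836389 : sm gi N63879 = N64189 := rfl
theorem L836391 : sm ga N64189 = N63882 := ded_18_1 (flp_i L832751) (flp_a L832720) L836389
theorem L836393 : sm gc N64189 = N63880 := ded_33_1 (flp_i L832728) (flp_c L832722) L836389
theorem L836395 : sm gf N64189 = N64073 := ded_48_1 L834796 (flp_f L832724) L836389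
theorem L836397 : sm gj N64189 = N64067 := ded_53_1 (flp_i L834748) (flp_j L832726) L836389
theorem L836399 : sm ge N63881 = N64190 := rfl
theorem L836401 : sm gb N64190 = N64190 := ded_21_1 (flp_e L836399) L832740 L836399
theorem L836402 : sm gc N64190 = N63900 := ded_28_1 L833036 (flp_c L832747) L836399
theorem L836404 : sm gg N64190 = N63974 := ded_41_2 L833880 (flp_g L832743) L836399
theorem L836406 : sm gj N64190 = N63945 := ded_42_2 (flp_e L833553) (flp_j L832745) L836399
theorem L836408 : sm gh N64190 = N63898 := ded_43_2 L833009 (flp_h L832749) L836399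
theorem L836410 : sm gd N64190 = N63991 := ded_34_1 L834060 (flp_d L831729) L831721 L832738 L836399
theorem L836412 : sm gc N63883 = N64191 := rfl
theorem L836414 : sm ga N64191 = N63885 := ded_11_1 (flp_c L832794) (flp_a L832762) L836412
theorem L836416 : sm ge N64191 = N63890 := ded_28_2 (flp_c L832878) (flp_e L832772) L836412
theorem L836418 : sm gg N64191 = N63962 := ded_30_2 (flp_c L833715) (flp_g L832766) L836412
theorem L836420 : sm gj N64191 = N64075 := ded_31_2 (flp_c L834803) (flp_j L832768) L836412
theorem L836422 : sm gh N64191 = N63917 := ded_32_2 (flp_c L833262) (flp_h L832774) L836412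
theorem L836424 : sm gi N64191 = N63947 := ded_33_2 (flp_c L833574) (flp_i L832770) L836412
theorem L836426 : sm gd N64191 = N63948 := ded_27_2 (flp_c L833586) (flp_d L828738) (flp_c L827632) L832760 L836412
theorem L836428 : sm gc N63886 = N64192 := rfl
theorem L836430 : sm ga N64192 = N63888 := ded_11_1 (flp_c L832847) (flp_a L832811) L836428
theorem L836432 : sm ge N64192 = N63889 := ded_28_2 (flp_c L832864) (flp_e L832821) L836428
theorem L836434 : sm gf N64192 = N64067 := ded_29_2 L834752 L832825 L836428
theorem L836436 : sm gg N64192 = N63964 := ded_30_2 (flp_c L833736) (flp_g L832815) L836428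
theorem L836438 : sm gj N64192 = N64073 := ded_31_2 (flp_c L834790) (flp_j L832817) L836428
theorem L836440 : sm gh N64192 = N64022 := ded_32_2 (flp_c L834376) (flp_h L832823) L836428
theorem L836442 : sm gi N64192 = N63937 := ded_33_2 (flp_c L833473) (flp_i L832819) L836428
theorem L836444 : sm gd N64192 = N63938 := ded_27_2 (flp_c L833489) (flp_d L828565) (flp_c L827678) L832809 L836428
theorem L836446 : sm gb N63889 = N64193 := rfl
theorem L836448 : sm gd N64193 = N64052 := ded_20_2 (flp_b L834631) (flp_d L832876) L836446
theorem L836450 : sm gf N64193 = N63932 := ded_22_2 (flp_b L833419) (flp_f L832868) L836446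
theorem L836452 : sm gg N64193 = N64025 := ded_23_2 L834403 (flp_g L832870) L836446
theorem L836454 : sm gh N64193 = N64024 := ded_25_2 (flp_b L834395) (flp_h L832872) L836446
theorem L836456 : sm gi N64193 = N63963 := ded_26_2 (flp_b L833727) (flp_i L832874) L836446
theorem L836458 : sm ga N64193 = N64193 := ded_10_1 (flp_b L836446) L832866 L827758 (flp_a L832866) L836446
theorem L836459 : sm gc N64193 = N64080 := ded_19_2 (flp_b L834841) (flp_c L830683) (flp_b L827738) L832864 L836446
theorem L836461 : sm gb N63890 = N64194 := rfl
theorem L836463 : sm gd N64194 = N63981 := ded_20_2 (flp_b L833952) (flp_d L832890) L836461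
theorem L836465 : sm gf N64194 = N64091 := ded_22_2 L834920 L832892 L836461
theorem L836467 : sm gg N64194 = N64074 := ded_23_2 (flp_b L834798) (flp_g L832882) L836461
theorem L836469 : sm gj N64194 = N64080 := ded_24_2 (flp_b L834841) (flp_j L832884) L836461
theorem L836471 : sm gh N64194 = N63942 := ded_25_2 (flp_b L833528) (flp_h L832886) L836461
theorem L836473 : sm gi N64194 = N64081 := ded_26_2 (flp_b L834850) (flp_i L832888) L836461
theorem L836475 : sm ga N64194 = N64194 := ded_10_1 (flp_b L836461) L832880 L827801 (flp_a L832880) L836461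
theorem L836476 : sm gc N63892 = N64195 := rfl
theorem L836478 : sm ga N64195 = N63894 := ded_11_1 (flp_c L832946) (flp_a L832916) L836476
theorem L836480 : sm ge N64195 = N63905 := ded_28_2 (flp_c L833104) (flp_e L832926) L836476
theorem L836482 : sm gg N64195 = N64056 := ded_30_2 (flp_c L834663) (flp_g L832920) L836476
theorem L836484 : sm gj N64195 = N64022 := ded_31_2 (flp_c L834376) (flp_j L832922) L836476
theorem L836486 : sm gh N64195 = N64073 := ded_32_2 (flp_c L834790) (flp_h L832928) L836476
theorem L836488 : sm gi N64195 = N64060 := ded_33_2 (flp_c L834701) (flp_i L832924) L836476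
theorem L836490 : sm gd N64195 = N64061 := ded_27_2 (flp_c L834711) (flp_d L830470) (flp_c L827830) L832914 L836476
theorem L836492 : sm gg N63893 = N64196 := rfl
theorem L836494 : sm ga N64196 = N63895 := ded_15_1 (flp_g L832961) (flp_a L832932) L836492
theorem L836496 : sm gb N64196 = N63919 := ded_23_1 (flp_g L833276) (flp_b L832934) L836492
theorem L836498 : sm gc N64196 = N64032 := ded_30_1 L834471 (flp_c L832936) L836492
theorem L836500 : sm ge N64196 = N63914 := ded_41_1 L833236 (flp_e L832944) L836492
theorem L836502 : sm gh N64196 = N63902 := ded_50_2 (flp_g L833060) (flp_h L832940) L836492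
theorem L836504 : sm gi N64196 = N63999 := ded_51_2 L834146 (flp_i L832942) L836492
theorem L836506 : sm gf N64196 = N63979 := ded_45_1 L833934 L829224 (flp_g L827832) L832930 L836492
theorem L836508 : sm gj N64196 = N64020 := ded_49_2 L834362 L829871 (flp_g L829897) (flp_j L832938) L836492
theorem L836510 : sm gc N63896 = N64197 := rfl
theorem L836512 : sm ga N64197 = N63898 := ded_11_1 (flp_c L833007) (flp_a L832979) L836510
theorem L836514 : sm ge N64197 = N63903 := ded_28_2 (flp_c L833076) (flp_e L832989) L836510
theorem L836516 : sm gg N64197 = N64034 := ded_30_2 (flp_c L834484) (flp_g L832983) L836510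
theorem L836518 : sm gj N64197 = N64026 := ded_31_2 (flp_c L834411) (flp_j L832985) L836510
theorem L836520 : sm gi N64197 = N63970 := ded_33_2 (flp_c L833819) (flp_i L832987) L836510
theorem L836522 : sm gd N64197 = N64068 := ded_27_2 (flp_c L834754) (flp_d L830538) (flp_c L827890) L832977 L836510
theorem L836524 : sm gf N63896 = N64198 := rfl
theorem L836526 : sm ga N64198 = N63899 := ded_14_1 (flp_f L833020) (flp_a L832979) L836524
theorem L836528 : sm gb N64198 = N63924 := ded_22_1 (flp_f L833327) (flp_b L832981) L836524
theorem L836530 : sm gd N64198 = N63897 := ded_35_1 (flp_f L832991) L832977 L836524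
theorem L836532 : sm gj N64198 = N64021 := ded_46_2 L834372 (flp_j L832985) L836524
theorem L836534 : sm gi N64198 = N63971 := ded_48_2 (flp_f L833829) (flp_i L832987) L836524
theorem L836536 : sm ge N64198 = N64054 := ded_40_1 L834654 L830631 (flp_f L828002) (flp_e L832989) L836524
theorem L836538 : sm gh N63896 = N64199 := rfl
theorem L836540 : sm ga N64199 = N63900 := ded_17_1 (flp_h L833032) (flp_a L832979) L836538
theorem L836542 : sm gb N64199 = N63925 := ded_25_1 (flp_h L833337) (flp_b L832981) L836538
theorem L836544 : sm ge N64199 = N63904 := ded_43_1 (flp_h L833090) (flp_e L832989) L836538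
theorem L836546 : sm gg N64199 = N63971 := ded_50_1 (flp_h L833841) (flp_g L832983) L836538
theorem L836548 : sm gj N64199 = N63944 := ded_52_1 L833549 (flp_j L832985) L836538
theorem L836550 : sm gd N64199 = N63973 := ded_38_1 L833867 L829843 (flp_h L827896) L832977 L836538
theorem L836552 : sm gg N63897 = N64200 := rfl
theorem L836554 : sm ga N64200 = N63901 := ded_15_1 (flp_g L833044) (flp_a L832993) L836552
theorem L836556 : sm gb N64200 = N63926 := ded_23_1 (flp_g L833347) (flp_b L832995) L836552
theorem L836558 : sm gc N64200 = N64020 := ded_30_1 L834362 (flp_c L832997) L836552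
theorem L836560 : sm ge N64200 = N63902 := ded_41_1 (flp_g L833060) (flp_e L833005) L836552
theorem L836562 : sm gh N64200 = N63914 := ded_50_2 L833236 (flp_h L833001) L836552
theorem L836564 : sm gi N64200 = N63973 := ded_51_2 (flp_g L833857) (flp_i L833003) L836552
theorem L836566 : sm gf N64200 = N63915 := ded_45_1 L833246 (flp_f L830147) (flp_g L827892) L832991 L836552
theorem L836568 : sm gj N64200 = N64032 := ded_49_2 L834471 L830093 (flp_g L829921) (flp_j L832999) L836552
theorem L836570 : sm gf N63898 = N64201 := rfl
theorem L836572 : sm gb N64201 = N64201 := ded_22_1 (flp_f L836570) L833017 L836570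
theorem L836573 : sm gc N64201 = N63899 := ded_29_1 (flp_f L833020) L833007 L836570
theorem L836575 : sm gd N64201 = N63995 := ded_35_1 L834094 (flp_d L833018) L836570
theorem L836577 : sm gj N64201 = N64016 := ded_46_2 L834315 (flp_j L833013) L836570
theorem L836579 : sm gi N64201 = N63974 := ded_48_2 (flp_f L833871) (flp_i L833015) L836570
theorem L836581 : sm ge N64201 = N64055 := ded_40_1 L834661 L830643 (flp_f L828010) (flp_e L833009) L836570
theorem L836583 : sm gb N63903 = N64202 := rfl
theorem L836585 : sm gd N64202 = N64025 := ded_20_2 L834403 (flp_d L833088) L836583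
theorem L836587 : sm gf N64202 = N64080 := ded_22_2 (flp_b L834841) (flp_f L833080) L836583
theorem L836589 : sm gg N64202 = N64052 := ded_23_2 (flp_b L834631) (flp_g L833082) L836583
theorem L836591 : sm gj N64202 = N64091 := ded_24_2 L834920 (flp_j L833084) L836583
theorem L836593 : sm gi N64202 = N63976 := ded_26_2 (flp_b L833895) (flp_i L833086) L836583
theorem L836595 : sm ga N64202 = N64202 := ded_10_1 (flp_b L836583) L833078 L828018 (flp_a L833078) L836583
theorem L836596 : sm gc N64202 = N63932 := ded_19_2 (flp_b L833419) (flp_c L828436) (flp_b L828000) L833076 L836583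
theorem L836598 : sm gb N63905 = N64203 := rfl
theorem L836600 : sm gg N64203 = N64077 := ded_23_2 (flp_b L834822) (flp_g L833108) L836598
theorem L836602 : sm gj N64203 = N64024 := ded_24_2 (flp_b L834395) (flp_j L833110) L836598
theorem L836604 : sm ga N64203 = N64203 := ded_10_1 (flp_b L836598) L833106 L828065 (flp_a L833106) L836598
theorem L836605 : sm gc N64203 = N63942 := ded_19_2 (flp_b L833528) (flp_c L828609) (flp_b L828037) L833104 L836598
theorem L836607 : sm gf N63905 = N64204 := rfl
theorem L836609 : sm ga N64204 = N63907 := ded_14_1 (flp_f L833126) (flp_a L833106) L836607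
theorem L836611 : sm gc N64204 = N63906 := ded_29_1 (flp_f L833112) L833104 L836607
theorem L836613 : sm gd N64204 = N63956 := ded_35_1 (flp_f L836311) L836321 L836607
theorem L836615 : sm gj N64204 = N63933 := ded_46_2 L833434 (flp_j L833110) L836607
theorem L836617 : sm gh N64204 = N63913 := ded_47_2 (flp_f L835623) L835629 L836607
theorem L836619 : sm gg N64204 = N63955 := ded_45_2 (flp_f L833641) (flp_g L831880) L831878 (flp_g L833108) L836607
theorem L836621 : sm ge N63906 = N64205 := rfl
theorem L836623 : sm ga N64205 = N63908 := ded_13_1 (flp_e L833139) (flp_a L833114) L836621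
theorem L836625 : sm gb N64205 = N63944 := ded_21_1 (flp_e L833543) (flp_b L833116) L836621
theorem L836627 : sm gg N64205 = N63957 := ded_41_2 (flp_e L833655) (flp_g L833124) L836621
theorem L836629 : sm gj N64205 = N63925 := ded_42_2 L833341 (flp_j L833120) L836621
theorem L836631 : sm gh N64205 = N63911 := ded_43_2 L833199 (flp_h L833122) L836621
theorem L836633 : sm gd N64205 = N63961 := ded_34_1 L833709 L828890 (flp_e L828055) (flp_d L833118) L836621
theorem L836635 : sm ge N63907 = N64206 := rfl
theorem L836637 : sm gb N64206 = N64206 := ded_21_1 (flp_e L836635) L833128 L836635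
theorem L836638 : sm gc N64206 = N63908 := ded_28_1 (flp_e L833139) (flp_c L833129) L836635
theorem L836640 : sm gg N64206 = N63959 := ded_41_2 (flp_e L833679) (flp_g L833137) L836635
theorem L836642 : sm gj N64206 = N63928 := ded_42_2 L833371 (flp_j L833133) L836635
theorem L836644 : sm gh N64206 = N63912 := ded_43_2 L833203 (flp_h L833135) L836635
theorem L836646 : sm gd N64206 = N64005 := ded_34_1 L834206 L829700 (flp_e L828818) (flp_d L833131) L836635
theorem L836648 : sm gc N63911 = N64207 := rfl
theorem L836650 : sm ga N64207 = N63912 := ded_11_1 (flp_c L833201) (flp_a L833189) L836648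
theorem L836652 : sm ge N64207 = N63913 := ded_28_2 (flp_c L833214) (flp_e L833199) L836648
theorem L836654 : sm gg N64207 = N63982 := ded_30_2 (flp_c L833963) (flp_g L833193) L836648
theorem L836656 : sm gj N64207 = N63923 := ded_31_2 (flp_c L833317) (flp_j L833195) L836648
theorem L836658 : sm gi N64207 = N63988 := ded_33_2 (flp_c L834025) (flp_i L833197) L836648
theorem L836660 : sm gd N64207 = N64088 := ded_27_2 (flp_c L834899) (flp_d L830770) (flp_c L828175) L833187 L836648
theorem L836662 : sm gb N63913 = N64208 := rfl
theorem L836664 : sm gd N64208 = N64077 := ded_20_2 (flp_b L834822) (flp_d L833222) L836662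
theorem L836666 : sm gj N64208 = N63932 := ded_24_2 (flp_b L833419) (flp_j L833218) L836662
theorem L836668 : sm gi N64208 = N63992 := ded_26_2 (flp_b L834064) (flp_i L833220) L836662
theorem L836670 : sm ga N64208 = N64208 := ded_10_1 (flp_b L836662) L833216 L828211 (flp_a L833216) L836662
theorem L836671 : sm gc N64208 = N64091 := ded_19_2 L834920 (flp_c L832900) L832898 L833214 L836662
theorem L836673 : sm gb N63917 = N64209 := rfl
theorem L836675 : sm ge N64209 = N63942 := ded_21_2 (flp_b L833528) (flp_e L833266) L836673
theorem L836677 : sm gg N64209 = N64069 := ded_23_2 (flp_b L834764) (flp_g L833268) L836673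
theorem L836679 : sm ga N64209 = N64209 := ded_10_1 (flp_b L836673) L833264 L828288 (flp_a L833264) L836673
theorem L836680 : sm gf N63917 = N64210 := rfl
theorem L836682 : sm ga N64210 = N63920 := ded_14_1 (flp_f L833284) (flp_a L833264) L836680
theorem L836684 : sm gc N64210 = N63918 := ded_29_1 (flp_f L833270) L833262 L836680
theorem L836686 : sm ge N63918 = N64211 := rfl
theorem L836688 : sm ga N64211 = N63921 := ded_13_1 (flp_e L833289) (flp_a L833272) L836686
theorem L836690 : sm gh N64211 = N64021 := ded_43_2 (flp_e L835729) L835737 L836686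
theorem L836692 : sm gi N64211 = N64037 := ded_44_2 (flp_e L834944) (flp_i L834954) L836686
theorem L836694 : sm gd N64211 = N64031 := ded_34_1 (flp_e L834989) L834981 L830918 (flp_d L833274) L836686
theorem L836696 : sm gf N64211 = N63944 := ded_40_2 (flp_e L833543) (flp_f L828615) (flp_e L828274) L833270 L836686
theorem L836698 : sm gg N64044 = N64211 := ded_15_0 L836688 (flp_g L833301) (flp_a L834554)
theorem L836700 : sm gg N63918 = N64212 := rfl
theorem L836702 : sm ga N64212 = N63922 := ded_15_1 (flp_g L833303) (flp_a L833272) L836700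
theorem L836704 : sm gd N64212 = N63919 := ded_36_1 (flp_g L833276) (flp_d L833274) L836700
theorem L836706 : sm ge N64212 = N64044 := ded_41_1 L836698 (flp_e L836686) L836700
theorem L836708 : sm gh N64212 = N63958 := ded_50_2 (flp_g L835733) L835737 L836700
theorem L836710 : sm gi N64212 = N63950 := ded_51_2 (flp_g L834948) (flp_i L834954) L836700
theorem L836712 : sm gf N64212 = N63990 := ded_45_1 L834051 L829418 (flp_g L828272) L833270 L836700
theorem L836714 : sm ge N63920 = N64213 := rfl
theorem L836716 : sm gb N64213 = N64213 := ded_21_1 (flp_e L836714) L833286 L836714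
theorem L836717 : sm gc N64213 = N63921 := ded_28_1 (flp_e L833289) (flp_c L833287) L836714
theorem L836719 : sm gh N64213 = N64016 := ded_43_2 (flp_e L835746) L835754 L836714
theorem L836721 : sm gi N64213 = N64039 := ded_44_2 (flp_e L834961) (flp_i L834971) L836714
theorem L836723 : sm gf N64213 = N63945 := ded_40_2 (flp_e L833553) (flp_f L828621) (flp_e L828284) L833284 L836714
theorem L836725 : sm gg N64045 = N64213 := ded_30_0 L836717 (flp_g L833301) (flp_c L834565)
theorem L836727 : sm gg N63920 = N64214 := rfl
theorem L836729 : sm gb N64214 = N64214 := ded_23_1 (flp_g L836727) L833286 L836727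
theorem L836730 : sm gc N64214 = N63922 := ded_30_1 (flp_g L833303) (flp_c L833287) L836727
theorem L836732 : sm ge N64214 = N64045 := ded_41_1 L836725 (flp_e L836714) L836727
theorem L836734 : sm gh N64214 = N63960 := ded_50_2 (flp_g L835750) L835754 L836727
theorem L836736 : sm gi N64214 = N63952 := ded_51_2 (flp_g L834965) (flp_i L834971) L836727
theorem L836738 : sm gf N64214 = N63991 := ded_45_1 L834062 L829429 (flp_g L828286) L833284 L836727
theorem L836740 : sm gb N63923 = N64215 := rfl
theorem L836742 : sm ge N64215 = N63932 := ded_21_2 (flp_b L833419) (flp_e L833321) L836740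
theorem L836744 : sm gg N64215 = N64065 := ded_23_2 (flp_b L834738) (flp_g L833323) L836740
theorem L836746 : sm gi N64215 = N64006 := ded_26_2 (flp_b L834210) (flp_i L833325) L836740
theorem L836748 : sm ga N64215 = N64215 := ded_10_1 (flp_b L836740) L833319 L828355 (flp_a L833319) L836740
theorem L836749 : sm gf N63923 = N64216 := rfl
theorem L836751 : sm ga N64216 = N63927 := ded_14_1 (flp_f L833357) (flp_a L833319) L836749
theorem L836753 : sm gc N64216 = N63924 := ded_29_1 (flp_f L833327) L833317 L836749
theorem L836755 : sm gi N64216 = N64007 := ded_48_2 (flp_f L834215) (flp_i L833325) L836749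
theorem L836757 : sm ge N64216 = N64067 := ded_40_1 (flp_f L836434) L836432 L832868 (flp_e L833321) L836749
theorem L836759 : sm gh N63923 = N64217 := rfl
theorem L836761 : sm ga N64217 = N63928 := ded_17_1 (flp_h L833366) (flp_a L833319) L836759
theorem L836763 : sm gc N64217 = N63925 := ded_32_1 (flp_h L833337) L833317 L836759
theorem L836765 : sm ge N64217 = N63933 := ded_43_1 (flp_h L833428) (flp_e L833321) L836759
theorem L836767 : sm gg N64217 = N64007 := ded_50_1 (flp_h L834223) (flp_g L833323) L836759
theorem L836769 : sm gg N63924 = N64218 := rfl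
theorem L836771 : sm ga N64218 = N63929 := ded_15_1 (flp_g L833375) (flp_a L833329) L836769
theorem L836773 : sm gd N64218 = N63926 := ded_36_1 (flp_g L833347) (flp_d L833331) L836769
theorem L836775 : sm ge N64218 = N63934 := ded_41_1 L833446 (flp_e L833335) L836769
theorem L836777 : sm gi N64218 = N63925 := ded_51_2 L833343 (flp_i L833333) L836769
theorem L836779 : sm gf N64218 = N64002 := ded_45_1 L834178 L829643 (flp_g L828333) L833327 L836769
theorem L836781 : sm gh N64001 = N64218 := ded_17_0 L836771 (flp_h L833387) (flp_a L834164)
theorem L836783 : sm gh N63924 = N64219 := rfl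
theorem L836785 : sm ga N64219 = N63930 := ded_17_1 (flp_h L833389) (flp_a L833329) L836783
theorem L836787 : sm ge N64219 = N64011 := ded_43_1 L834266 (flp_e L833335) L836783
theorem L836789 : sm gf N64219 = N63925 := ded_47_1 (flp_h L833337) L833327 L836783
theorem L836791 : sm gg N64219 = N64001 := ded_50_1 L836781 (flp_g L836769) L836783
theorem L836793 : sm gd N64219 = N64003 := ded_38_1 (flp_h L834985) L834981 L830914 (flp_d L833331) L836783
theorem L836795 : sm gi N64219 = N64002 := ded_54_2 (flp_h L834172) L829570 L829635 (flp_i L833333) L836783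
theorem L836797 : sm gg N63927 = N64220 := rfl
theorem L836799 : sm gb N64220 = N64220 := ded_23_1 (flp_g L836797) L833359 L836797
theorem L836800 : sm gc N64220 = N63929 := ded_30_1 (flp_g L833375) (flp_c L833360) L836797
theorem L836802 : sm ge N64220 = N63935 := ded_41_1 L833457 (flp_e L833364) L836797
theorem L836804 : sm gi N64220 = N63928 := ded_51_2 L833373 (flp_i L833362) L836797
theorem L836806 : sm gf N64220 = N64005 := ded_45_1 L834208 L829669 (flp_g L828351) L833357 L836797
theorem L836808 : sm gh N64004 = N64220 := ded_32_0 L836800 (flp_h L833387) (flp_c L834195)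
theorem L836810 : sm gh N63927 = N64221 := rfl
theorem L836812 : sm gb N64221 = N64221 := ded_25_1 (flp_h L836810) L833359 L836810
theorem L836813 : sm gc N64221 = N63930 := ded_32_1 (flp_h L833389) (flp_c L833360) L836810
theorem L836815 : sm ge N64221 = N64012 := ded_43_1 L834279 (flp_e L833364) L836810
theorem L836817 : sm gf N64221 = N63928 := ded_47_1 (flp_h L833366) L833357 L836810
theorem L836819 : sm gg N64221 = N64004 := ded_50_1 L836808 (flp_g L836797) L836810
theorem L836821 : sm gi N64221 = N64005 := ded_54_2 (flp_h L834201) L829588 L829660 (flp_i L833362) L836810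
theorem L836823 : sm gh N63932 = N64222 := rfl
theorem L836825 : sm ga N64222 = N64222 := ded_17_1 (flp_h L836823) L833427 L836823
theorem L836826 : sm gb N64222 = N63933 := ded_25_1 (flp_h L833428) L833419 L836823
theorem L836828 : sm gf N64222 = N64024 := ded_47_1 (flp_h L836454) L836450 L836823
theorem L836830 : sm gg N64222 = N64066 := ded_50_1 (flp_h L834743) (flp_g L833423) L836823
theorem L836832 : sm gi N63933 = N64223 := rfl
theorem L836834 : sm ga N64223 = N63935 := ded_18_1 (flp_i L833450) (flp_a L833430) L836832
theorem L836836 : sm gc N64223 = N63934 := ded_33_1 (flp_i L833438) (flp_c L833432) L836832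
theorem L836838 : sm gf N64223 = N64017 := ded_48_1 L834329 (flp_f L833434) L836832
theorem L836840 : sm gg N64223 = N64067 := ded_51_1 (flp_i L834748) (flp_g L833436) L836832
theorem L836842 : sm gh N64223 = N64015 := ded_54_1 (flp_i L834300) (flp_h L829717) (flp_i L828442) L833428 L836832
theorem L836844 : sm gb N63936 = N64224 := rfl
theorem L836846 : sm gd N64224 = N64074 := ded_20_2 (flp_b L834798) (flp_d L833471) L836844
theorem L836848 : sm gg N64224 = N63981 := ded_23_2 (flp_b L833952) (flp_g L833465) L836844
theorem L836850 : sm gj N64224 = N63942 := ded_24_2 (flp_b L833528) (flp_j L833467) L836844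
theorem L836852 : sm gh N64224 = N64080 := ded_25_2 (flp_b L834841) (flp_h L833469) L836844
theorem L836854 : sm ga N64224 = N64224 := ded_10_1 (flp_b L836844) L833463 L828513 (flp_a L833463) L836844
theorem L836855 : sm gc N64224 = N64024 := ded_19_2 (flp_b L834395) (flp_c L829964) (flp_b L828497) L833461 L836844
theorem L836857 : sm gb N63937 = N64225 := rfl
theorem L836859 : sm gd N64225 = N63942 := ded_20_2 (flp_b L833528) (flp_d L833487) L836857
theorem L836861 : sm ge N64225 = N63963 := ded_21_2 (flp_b L833727) (flp_e L833477) L836857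
theorem L836863 : sm gf N64225 = N64066 := ded_22_2 L834746 (flp_f L833479) L836857
theorem L836865 : sm gg N64225 = N63965 := ded_23_2 (flp_b L833752) (flp_g L833481) L836857
theorem L836867 : sm gj N64225 = N64074 := ded_24_2 (flp_b L834798) (flp_j L833483) L836857
theorem L836869 : sm gh N64225 = N64050 := ded_25_2 (flp_b L834609) (flp_h L833485) L836857
theorem L836871 : sm ga N64225 = N64225 := ded_10_1 (flp_b L836857) L833475 L828562 (flp_a L833475) L836857
theorem L836872 : sm gc N64225 = N64076 := ded_19_2 (flp_b L834813) (flp_c L830650) (flp_b L828520) L833473 L836857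
theorem L836874 : sm gb N63938 = N64226 := rfl
theorem L836876 : sm gg N64226 = N64078 := ded_23_2 (flp_b L834829) (flp_g L833493) L836874
theorem L836878 : sm gi N64226 = N63942 := ded_26_2 (flp_b L833528) (flp_i L833495) L836874
theorem L836880 : sm ga N64226 = N64226 := ded_10_1 (flp_b L836874) L833491 L828587 (flp_a L833491) L836874
theorem L836881 : sm gf N63938 = N64227 := rfl
theorem L836883 : sm ga N64227 = N63940 := ded_14_1 (flp_f L833505) (flp_a L833491) L836881
theorem L836885 : sm gc N64227 = N63939 := ded_29_1 (flp_f L833497) L833489 L836881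
theorem L836887 : sm gd N64227 = N64067 := ded_35_1 (flp_f L836434) L836444 L836881
theorem L836889 : sm gi N64227 = N63943 := ded_48_2 (flp_f L833533) (flp_i L833495) L836881
theorem L836891 : sm ge N63939 = N64228 := rfl
theorem L836893 : sm ga N64228 = N63941 := ded_13_1 (flp_e L833514) (flp_a L833499) L836891
theorem L836895 : sm gg N64228 = N64029 := ded_41_2 (flp_e L836129) L836131 L836891
theorem L836897 : sm gh N64228 = N64036 := ded_43_2 (flp_e L835851) L835847 L836891
theorem L836899 : sm gi N64228 = N63944 := ded_44_2 (flp_e L833543) (flp_i L833503) L836891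
theorem L836901 : sm gd N64228 = N64032 := ded_34_1 L834469 (flp_d L831358) L831366 (flp_d L833501) L836891
theorem L836903 : sm gf N64228 = N64037 := ded_40_2 (flp_e L834944) L834946 L832192 L833497 L836891
theorem L836905 : sm ge N63940 = N64229 := rfl
theorem L836907 : sm gb N64229 = N64229 := ded_21_1 (flp_e L836905) L833507 L836905
theorem L836908 : sm gc N64229 = N63941 := ded_28_1 (flp_e L833514) (flp_c L833508) L836905
theorem L836910 : sm gg N64229 = N64030 := ded_41_2 (flp_e L836158) L836160 L836905
theorem L836912 : sm gh N64229 = N64038 := ded_43_2 (flp_e L835884) L835880 L836905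
theorem L836914 : sm gi N64229 = N63945 := ded_44_2 (flp_e L833553) (flp_i L833512) L836905
theorem L836916 : sm gf N64229 = N64039 := ded_40_2 (flp_e L834961) L834963 L832207 L833505 L836905
theorem L836918 : sm gf N63942 = N64230 := rfl
theorem L836920 : sm ga N64230 = N64230 := ded_14_1 (flp_f L836918) L833532 L836918
theorem L836921 : sm gb N64230 = N63943 := ded_22_1 (flp_f L833533) L833528 L836918
theorem L836923 : sm gd N64230 = N64066 := ded_35_1 (flp_f L836863) L836859 L836918
theorem L836925 : sm gh N64230 = N64091 := ded_47_2 (flp_f L836465) L836471 L836918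
theorem L836927 : sm ge N63943 = N64231 := rfl
theorem L836929 : sm ga N64231 = N63945 := ded_13_1 (flp_e L833553) (flp_a L833535) L836927
theorem L836931 : sm gc N64231 = N63944 := ded_28_1 (flp_e L833543) (flp_c L833537) L836927
theorem L836933 : sm gg N64231 = N64028 := ded_41_2 (flp_e L836344) L836346 L836927
theorem L836935 : sm gh N64231 = N64026 := ded_43_2 L834415 (flp_h L833541) L836927
theorem L836937 : sm gb N63946 = N64232 := rfl
theorem L836939 : sm gd N64232 = N64076 := ded_20_2 (flp_b L834813) (flp_d L833572) L836937
theorem L836941 : sm ge N64232 = N64027 := ded_21_2 (flp_b L834423) (flp_e L833566) L836937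
theorem L836943 : sm gg N64232 = N64091 := ded_23_2 L834920 (flp_g L833568) L836937
theorem L836945 : sm gj N64232 = N63954 := ded_24_2 (flp_b L833636) (flp_j L833570) L836937
theorem L836947 : sm ga N64232 = N64232 := ded_10_1 (flp_b L836937) L833564 L828682 (flp_a L833564) L836937
theorem L836948 : sm gb N63947 = N64233 := rfl
theorem L836950 : sm gd N64233 = N63954 := ded_20_2 (flp_b L833636) (flp_d L833584) L836948
theorem L836952 : sm ge N64233 = N64081 := ded_21_2 (flp_b L834850) (flp_e L833578) L836948
theorem L836954 : sm gj N64233 = N64076 := ded_24_2 (flp_b L834813) (flp_j L833580) L836948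
theorem L836956 : sm gh N64233 = N64077 := ded_25_2 (flp_b L834822) (flp_h L833582) L836948
theorem L836958 : sm ga N64233 = N64233 := ded_10_1 (flp_b L836948) L833576 L828721 (flp_a L833576) L836948
theorem L836959 : sm gc N64233 = N64074 := ded_19_2 (flp_b L834798) (flp_c L830617) (flp_b L828689) L833574 L836948
theorem L836961 : sm gb N63948 = N64234 := rfl
theorem L836963 : sm ge N64234 = N64042 := ded_21_2 (flp_b L834541) (flp_e L833590) L836961
theorem L836965 : sm gi N64234 = N63954 := ded_26_2 (flp_b L833636) (flp_i L833592) L836961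
theorem L836967 : sm ga N64234 = N64234 := ded_10_1 (flp_b L836961) L833588 L828760 (flp_a L833588) L836961
theorem L836968 : sm gf N63948 = N64235 := rfl
theorem L836970 : sm ga N64235 = N63951 := ded_14_1 (flp_f L833608) (flp_a L833588) L836968
theorem L836972 : sm gc N64235 = N63949 := ded_29_1 (flp_f L833594) L833586 L836968
theorem L836974 : sm gi N64235 = N63955 := ded_48_2 (flp_f L833641) (flp_i L833592) L836968
theorem L836976 : sm gh N63948 = N64236 := rfl
theorem L836978 : sm ga N64236 = N63952 := ded_17_1 (flp_h L833615) (flp_a L833588) L836976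
theorem L836980 : sm gc N64236 = N63950 := ded_32_1 (flp_h L833602) L833586 L836976
theorem L836982 : sm ge N64236 = N64043 := ded_43_1 (flp_h L834546) (flp_e L833590) L836976
theorem L836984 : sm gh N63949 = N64237 := rfl
theorem L836986 : sm ga N64237 = N63953 := ded_17_1 (flp_h L833622) (flp_a L833596) L836984
theorem L836988 : sm ge N64237 = N64086 := ded_43_1 (flp_h L835782) L835786 L836984
theorem L836990 : sm gf N64237 = N63950 := ded_47_1 (flp_h L833602) L833594 L836984
theorem L836992 : sm gg N64237 = N63994 := ded_50_1 (flp_h L835912) L835916 L836984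
theorem L836994 : sm gd N64237 = N64020 := ded_38_1 L834364 (flp_d L831358) L831362 (flp_d L833598) L836984
theorem L836996 : sm gi N64237 = N63990 := ded_54_2 (flp_h L834045) (flp_i L832614) L832618 (flp_i L833600) L836984
theorem L836998 : sm gh N63951 = N64238 := rfl
theorem L837000 : sm gb N64238 = N64238 := ded_25_1 (flp_h L836998) L833610 L836998
theorem L837001 : sm gc N64238 = N63953 := ded_32_1 (flp_h L833622) (flp_c L833611) L836998
theorem L837003 : sm ge N64238 = N64087 := ded_43_1 (flp_h L835815) L835819 L836998
theorem L837005 : sm gf N64238 = N63952 := ded_47_1 (flp_h L833615) L833608 L836998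
theorem L837007 : sm gg N64238 = N63995 := ded_50_1 (flp_h L835927) L835931 L836998
theorem L837009 : sm gi N64238 = N63991 := ded_54_2 (flp_h L834055) (flp_i L832632) L832630 (flp_i L833613) L836998
theorem L837011 : sm gf N63954 = N64239 := rfl
theorem L837013 : sm ga N64239 = N64239 := ded_14_1 (flp_f L837011) L833640 L837011
theorem L837014 : sm gb N64239 = N63955 := ded_22_1 (flp_f L833641) L833636 L837011
theorem L837016 : sm gh N63954 = N64240 := rfl
theorem L837018 : sm ga N64240 = N64240 := ded_17_1 (flp_h L837016) L833640 L837016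
theorem L837019 : sm gb N64240 = N63956 := ded_25_1 (flp_h L833647) L833636 L837016
theorem L837021 : sm ge N64240 = N64047 := ded_43_1 (flp_h L834582) (flp_e L833638) L837016
theorem L837023 : sm ge N63955 = N64241 := rfl
theorem L837025 : sm ga N64241 = N63959 := ded_13_1 (flp_e L833679) (flp_a L833643) L837023
theorem L837027 : sm gc N64241 = N63957 := ded_28_1 (flp_e L833655) (flp_c L833645) L837023
theorem L837029 : sm gj N64241 = N63987 := ded_42_2 (flp_e L836356) L836362 L837023
theorem L837031 : sm gh N64241 = N63982 := ded_43_2 (flp_e L836309) L836317 L837023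
theorem L837033 : sm gd N64241 = N64008 := ded_34_1 L834231 L834288 (flp_e L835711) (flp_d L835719) L837023
theorem L837035 : sm gf N64241 = N64048 := ded_40_2 (flp_e L834589) (flp_f L830252) (flp_e L828792) L833641 L837023
theorem L837037 : sm gi N63956 = N64242 := rfl
theorem L837039 : sm ga N64242 = N63960 := ded_18_1 (flp_i L833692) (flp_a L833649) L837037
theorem L837041 : sm gc N64242 = N63958 := ded_33_1 (flp_i L833669) (flp_c L833651) L837037
theorem L837043 : sm ge N64242 = N64049 := ded_44_1 (flp_i L834601) (flp_e L833653) L837037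
theorem L837045 : sm gf N64242 = N63989 := ded_48_1 (flp_i L836319) L836311 L837037
theorem L837047 : sm gb N63962 = N64243 := rfl
theorem L837049 : sm ge N64243 = N64074 := ded_21_2 (flp_b L834798) (flp_e L833719) L837047
theorem L837051 : sm gf N64243 = N63992 := ded_22_2 (flp_b L834064) (flp_f L833721) L837047
theorem L837053 : sm gj N64243 = N63963 := ded_24_2 (flp_b L833727) (flp_j L833723) L837047
theorem L837055 : sm gh N64243 = N64069 := ded_25_2 (flp_b L834764) (flp_h L833725) L837047
theorem L837057 : sm ga N64243 = N64243 := ded_10_1 (flp_b L837047) L833717 L828944 (flp_a L833717) L837047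
theorem L837058 : sm gc N64243 = N64081 := ded_19_2 (flp_b L834850) (flp_c L830698) (flp_b L828924) L833715 L837047
theorem L837060 : sm gb N63964 = N64244 := rfl
theorem L837062 : sm gd N64244 = N64078 := ded_20_2 (flp_b L834829) (flp_d L833750) L837060
theorem L837064 : sm ge N64244 = N64025 := ded_21_2 L834403 (flp_e L833740) L837060
theorem L837066 : sm gf N64244 = N64018 := ded_22_2 (flp_b L834331) (flp_f L833742) L837060
theorem L837068 : sm gj N64244 = N63966 := ded_24_2 (flp_b L833765) (flp_j L833744) L837060
theorem L837070 : sm gh N64244 = N64023 := ded_25_2 (flp_b L834388) (flp_h L833746) L837060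
theorem L837072 : sm gi N64244 = N63965 := ded_26_2 (flp_b L833752) (flp_i L833748) L837060
theorem L837074 : sm ga N64244 = N64244 := ded_10_1 (flp_b L837060) L833738 L828981 (flp_a L833738) L837060
theorem L837075 : sm gc N64244 = N64079 := ded_19_2 (flp_b L834834) (flp_c L830675) (flp_b L828957) L833736 L837060
theorem L837077 : sm gb N63967 = N64245 := rfl
theorem L837079 : sm gd N64245 = N64079 := ded_20_2 (flp_b L834834) (flp_d L833790) L837077
theorem L837081 : sm ge N64245 = N64070 := ded_21_2 (flp_b L834771) (flp_e L833782) L837077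
theorem L837083 : sm gf N64245 = N64081 := ded_22_2 (flp_b L834850) (flp_f L833784) L837077
theorem L837085 : sm gj N64245 = N63976 := ded_24_2 (flp_b L833895) (flp_j L833786) L837077
theorem L837087 : sm gi N64245 = N64091 := ded_26_2 L834920 (flp_i L833788) L837077
theorem L837089 : sm ga N64245 = N64245 := ded_10_1 (flp_b L837077) L833780 L829032 (flp_a L833780) L837077
theorem L837090 : sm gc N64245 = N63992 := ded_19_2 (flp_b L834064) (flp_c L829408) (flp_b L829014) L833778 L837077
theorem L837092 : sm gh N63967 = N64246 := rfl
theorem L837094 : sm ga N64246 = N63969 := ded_17_1 (flp_h L833806) (flp_a L833780) L837092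
theorem L837096 : sm gc N64246 = N63968 := ded_32_1 (flp_h L833792) L833778 L837092
theorem L837098 : sm ge N64246 = N64041 := ded_43_1 L834539 (flp_e L833782) L837092
theorem L837100 : sm gf N64246 = N64056 := ded_47_1 L834671 (flp_f L833784) L837092
theorem L837102 : sm gj N64246 = N63977 := ded_52_1 (flp_h L833902) (flp_j L833786) L837092
theorem L837104 : sm gd N64246 = N64043 := ded_38_1 (flp_h L834546) (flp_d L833950) L833946 (flp_d L833790) L837092
theorem L837106 : sm gb N63970 = N64247 := rfl
theorem L837108 : sm gd N64247 = N64069 := ded_20_2 (flp_b L834764) (flp_d L833827) L837106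
theorem L837110 : sm ge N64247 = N63976 := ded_21_2 (flp_b L833895) (flp_e L833823) L837106
theorem L837112 : sm gj N64247 = N64070 := ded_24_2 (flp_b L834771) (flp_j L833825) L837106
theorem L837114 : sm ga N64247 = N64247 := ded_10_1 (flp_b L837106) L833821 L829077 (flp_a L833821) L837106
theorem L837115 : sm gc N64247 = N64006 := ded_19_2 (flp_b L834210) (flp_c L829621) (flp_b L829051) L833819 L837106
theorem L837117 : sm gf N63970 = N64248 := rfl
theorem L837119 : sm ga N64248 = N63974 := ded_14_1 (flp_f L833871) (flp_a L833821) L837117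
theorem L837121 : sm gc N64248 = N63971 := ded_29_1 (flp_f L833829) L833819 L837117
theorem L837123 : sm gd N64248 = N63993 := ded_35_1 L834075 (flp_d L833827) L837117
theorem L837125 : sm gj N64248 = N64014 := ded_46_2 L834292 (flp_j L833825) L837117
theorem L837127 : sm ge N64248 = N64053 := ded_40_1 L834644 L830654 (flp_f L829136) (flp_e L833823) L837117
theorem L837129 : sm gh N64034 = N64248 := ded_56_0 (flp_f L837117) L833823 (flp_d L831834) (flp_c L831818) L826508 L822787 L814374 (flp_f L816258) (flp_e L822994) (flp_d L822984) L814558 L807662 (flp_a L803150) L803156 L790960 (flp_e L780277) (flp_d L780231) (flp_c L780219) (flp_b L775751) L775749 L764303 L758606 (flp_e L757036) (flp_d L757028) (flp_c L751188) L751186 (flp_a L750478) (flp_h L750476) L735147 L725282 L706016 L685040 L685038 L662454 L663252 L663258 L364403 L663331 L663339 (flp_b L669745) (flp_a L683968) L705314 (flp_f L724573) (flp_e L741525) L755753 L767616 L779003 L791110 L791122 (flp_f L791098) L791096 (flp_d L795983) (flp_c L797671) L797681 (flp_a L796559) (flp_h L794246) (flp_f L805602) L816274 L824284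 L830159 L830165 (flp_a L834486)
theorem L837131 : sm gh N63970 = N64249 := rfl
theorem L837133 : sm ga N64249 = N63975 := ded_17_1 (flp_h L833884) (flp_a L833821) L837131
theorem L837135 : sm gc N64249 = N63972 := ded_32_1 (flp_h L833843) L833819 L837131
theorem L837137 : sm ge N64249 = N63977 := ded_43_1 (flp_h L833902) (flp_e L833823) L837131
theorem L837139 : sm gf N64249 = N64034 := ded_47_1 L837129 (flp_f L837117) L837131
theorem L837141 : sm gj N64249 = N64041 := ded_52_1 L834539 (flp_j L833825) L837131
theorem L837143 : sm gh N63976 = N64250 := rfl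
theorem L837145 : sm ga N64250 = N64250 := ded_17_1 (flp_h L837143) L833899 L837143
theorem L837146 : sm gb N64250 = N63977 := ded_25_1 (flp_h L833902) L833895 L837143
theorem L837148 : sm gc N64250 = N64013 := ded_32_1 (flp_h L834281) (flp_c L833900) L837143
theorem L837150 : sm gf N64250 = N64057 := ded_47_1 L834679 (flp_f L833897) L837143
theorem L837152 : sm gb N63978 = N64251 := rfl
theorem L837154 : sm gd N64251 = N64081 := ded_20_2 (flp_b L834850) (flp_d L833924) L837152
theorem L837156 : sm ge N64251 = N64033 := ded_21_2 (flp_b L834475) (flp_e L833914) L837152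
theorem L837158 : sm gf N64251 = N64079 := ded_22_2 (flp_b L834834) (flp_f L833916) L837152
theorem L837160 : sm gj N64251 = N64082 := ded_24_2 (flp_b L834855) (flp_j L833918) L837152
theorem L837162 : sm gh N64251 = N64083 := ded_25_2 (flp_b L834864) (flp_h L833920) L837152
theorem L837164 : sm gi N64251 = N63981 := ded_26_2 (flp_b L833952) (flp_i L833922) L837152
theorem L837166 : sm ga N64251 = N64251 := ded_10_1 (flp_b L837152) L833912 L829183 (flp_a L833912) L837152
theorem L837167 : sm gc N64251 = N64018 := ded_19_2 (flp_b L834331) (flp_c L829774) (flp_b L829159) L833910 L837152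
theorem L837169 : sm gb N63980 = N64252 := rfl
theorem L837171 : sm gd N64252 = N64042 := ded_20_2 (flp_b L834541) (flp_d L833950) L837169
theorem L837173 : sm ge N64252 = N63981 := ded_21_2 (flp_b L833952) (flp_e L833940) L837169
theorem L837175 : sm gf N64252 = N64083 := ded_22_2 (flp_b L834864) (flp_f L833942) L837169
theorem L837177 : sm gj N64252 = N64071 := ded_24_2 (flp_b L834776) (flp_j L833944) L837169
theorem L837179 : sm gh N64252 = N64079 := ded_25_2 (flp_b L834834) (flp_h L833946) L837169
theorem L837181 : sm gi N64252 = N64033 := ded_26_2 (flp_b L834475) (flp_i L833948) L837169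
theorem L837183 : sm ga N64252 = N64252 := ded_10_1 (flp_b L837169) L833938 L829256 (flp_a L833938) L837169
theorem L837184 : sm gc N64252 = N64023 := ded_19_2 (flp_b L834388) (flp_c L829956) (flp_b L829232) L833936 L837169
theorem L837186 : sm gb N63982 = N64253 := rfl
theorem L837188 : sm gd N64253 = N64090 := ded_20_2 (flp_b L834912) (flp_d L833973) L837186
theorem L837190 : sm gf N64253 = N64058 := ded_22_2 (flp_b L834684) (flp_f L833967) L837186
theorem L837192 : sm gj N64253 = N63986 := ded_24_2 (flp_b L834010) (flp_j L833969) L837186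
theorem L837194 : sm gi N64253 = N64084 := ded_26_2 (flp_b L834871) (flp_i L833971) L837186
theorem L837196 : sm ga N64253 = N64253 := ded_10_1 (flp_b L837186) L833965 L829289 (flp_a L833965) L837186
theorem L837197 : sm gc N64253 = N64027 := ded_19_2 (flp_b L834423) (flp_c L830004) (flp_b L829273) L833963 L837186
theorem L837199 : sm gb N63983 = N64254 := rfl
theorem L837201 : sm gd N64254 = N64058 := ded_20_2 (flp_b L834684) (flp_d L833985) L837199
theorem L837203 : sm gf N64254 = N64090 := ded_22_2 (flp_b L834912) (flp_f L833979) L837199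
theorem L837205 : sm gj N64254 = N64084 := ded_24_2 (flp_b L834871) (flp_j L833981) L837199
theorem L837207 : sm gi N64254 = N63986 := ded_26_2 (flp_b L834010) (flp_i L833983) L837199
theorem L837209 : sm ga N64254 = N64254 := ded_10_1 (flp_b L837199) L833977 L829324 (flp_a L833977) L837199
theorem L837210 : sm gc N64254 = N64042 := ded_19_2 (flp_b L834541) (flp_c L830224) (flp_b L829308) L833975 L837199
theorem L837212 : sm gh N63983 = N64255 := rfl
theorem L837214 : sm ga N64255 = N63985 := ded_17_1 (flp_h L833999) (flp_a L833977) L837212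
theorem L837216 : sm gc N64255 = N63984 := ded_32_1 (flp_h L833987) L833975 L837212
theorem L837218 : sm gf N64255 = N63998 := ded_47_1 L834136 (flp_f L833979) L837212
theorem L837220 : sm gj N64255 = N64085 := ded_52_1 (flp_h L834876) (flp_j L833981) L837212
theorem L837222 : sm gd N64255 = N64007 := ded_38_1 (flp_h L834223) (flp_d L834599) L834597 (flp_d L833985) L837212
theorem L837224 : sm gh N63986 = N64256 := rfl
theorem L837226 : sm ga N64256 = N64256 := ded_17_1 (flp_h L837224) L834014 L837224
theorem L837227 : sm gb N64256 = N63987 := ded_25_1 (flp_h L834017) L834010 L837224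
theorem L837229 : sm gc N64256 = N64047 := ded_32_1 (flp_h L834582) (flp_c L834015) L837224
theorem L837231 : sm gf N64256 = N64051 := ded_47_1 L834626 (flp_f L834012) L837224
theorem L837233 : sm gb N63988 = N64257 := rfl
theorem L837235 : sm gd N64257 = N64089 := ded_20_2 (flp_b L834907) (flp_d L834035) L837233
theorem L837237 : sm ge N64257 = N63992 := ded_21_2 (flp_b L834064) (flp_e L834029) L837233
theorem L837239 : sm gg N64257 = N64084 := ded_23_2 (flp_b L834871) (flp_g L834031) L837233
theorem L837241 : sm gj N64257 = N64006 := ded_24_2 (flp_b L834210) (flp_j L834033) L837233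
theorem L837243 : sm ga N64257 = N64257 := ded_10_1 (flp_b L837233) L834027 L829380 (flp_a L834027) L837233
theorem L837244 : sm gc N64257 = N64070 := ded_19_2 (flp_b L834771) (flp_c L830571) (flp_b L829364) L834025 L837233
theorem L837246 : sm gb N63989 = N64258 := rfl
theorem L837248 : sm ge N64258 = N64084 := ded_21_2 (flp_b L834871) (flp_e L834041) L837246
theorem L837250 : sm gg N64258 = N63992 := ded_23_2 (flp_b L834064) (flp_g L834043) L837246
theorem L837252 : sm ga N64258 = N64258 := ded_10_1 (flp_b L837246) L834039 L829397 (flp_a L834039) L837246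
theorem L837253 : sm gh N63989 = N64259 := rfl
theorem L837255 : sm ga N64259 = N63991 := ded_17_1 (flp_h L834055) (flp_a L834039) L837253
theorem L837257 : sm gc N64259 = N63990 := ded_32_1 (flp_h L834045) L834037 L837253
theorem L837259 : sm ge N64259 = N64085 := ded_43_1 (flp_h L834876) (flp_e L834041) L837253
theorem L837261 : sm gg N64259 = N63993 := ded_50_1 (flp_h L834069) (flp_g L834043) L837253
theorem L837263 : sm gh N63992 = N64260 := rfl
theorem L837265 : sm ga N64260 = N64260 := ded_17_1 (flp_h L837263) L834068 L837263
theorem L837266 : sm gb N64260 = N63993 := ded_25_1 (flp_h L834069) L834064 L837263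
theorem L837268 : sm gf N64260 = N64069 := ded_47_1 (flp_h L837055) L837051 L837263
theorem L837270 : sm gj N64260 = N64013 := ded_52_1 (flp_h L834281) (flp_j L834066) L837263
theorem L837272 : sm gi N63993 = N64261 := rfl
theorem L837274 : sm ga N64261 = N63995 := ded_18_1 (flp_i L834089) (flp_a L834071) L837272
theorem L837276 : sm gc N64261 = N63994 := ded_33_1 (flp_i L834079) (flp_c L834073) L837272
theorem L837278 : sm gf N64261 = N64068 := ded_48_1 L834762 (flp_f L834075) L837272
theorem L837280 : sm gj N64261 = N64015 := ded_53_1 (flp_i L834300) (flp_j L834077) L837272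
theorem L837282 : sm gb N63998 = N64262 := rfl
theorem L837284 : sm gd N64262 = N64006 := ded_20_2 (flp_b L834210) (flp_d L834138) L837282
theorem L837286 : sm gj N64262 = N64089 := ded_24_2 (flp_b L834907) (flp_j L834134) L837282
theorem L837288 : sm gh N64262 = N64090 := ded_25_2 (flp_b L834912) (flp_h L834136) L837282
theorem L837290 : sm ga N64262 = N64262 := ded_10_1 (flp_b L837282) L834132 L829521 (flp_a L834132) L837282
theorem L837291 : sm gb N64000 = N64263 := rfl
theorem L837293 : sm ge N64263 = N64009 := ded_21_2 (flp_b L834235) (flp_e L834156) L837291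
theorem L837295 : sm gg N64263 = N64006 := ded_23_2 (flp_b L834210) (flp_g L834158) L837291
theorem L837297 : sm gi N64263 = N64065 := ded_26_2 (flp_b L834738) (flp_i L834160) L837291
theorem L837299 : sm ga N64263 = N64263 := ded_10_1 (flp_b L837291) L834154 L829590 (flp_a L834154) L837291
theorem L837300 : sm gf N64000 = N64264 := rfl
theorem L837302 : sm ga N64264 = N64004 := ded_14_1 (flp_f L834192) (flp_a L834154) L837300
theorem L837304 : sm gc N64264 = N64001 := ded_29_1 (flp_f L834162) L834152 L837300
theorem L837306 : sm gi N64264 = N64008 := ded_48_2 L834233 (flp_i L834160) L837300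
theorem L837308 : sm ge N64264 = N64015 := ded_40_1 L834306 (flp_e L831840) L831842 (flp_e L834156) L837300
theorem L837310 : sm gh N64000 = N64265 := rfl
theorem L837312 : sm ga N64265 = N64005 := ded_17_1 (flp_h L834201) (flp_a L834154) L837310
theorem L837314 : sm gc N64265 = N64002 := ded_32_1 (flp_h L834172) L834152 L837310
theorem L837316 : sm ge N64265 = N64010 := ded_43_1 (flp_h L834244) (flp_e L834156) L837310
theorem L837318 : sm gg N64265 = N64008 := ded_50_1 (flp_h L834225) (flp_g L834158) L837310
theorem L837320 : sm gf N64006 = N64266 := rfl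
theorem L837322 : sm ga N64266 = N64266 := ded_14_1 (flp_f L837320) L834214 L837320
theorem L837323 : sm gb N64266 = N64007 := ded_22_1 (flp_f L834215) L834210 L837320
theorem L837325 : sm ge N64266 = N64066 := ded_40_1 (flp_f L836863) L836861 L833729 (flp_e L834212) L837320
theorem L837327 : sm gh N64065 = N64266 := ded_56_0 (flp_f L837320) L834212 (flp_d L832344) (flp_c L835671) (flp_b L835654) L831838 L826567 (flp_f L829696) (flp_e L834206) (flp_d L836646) L836638 L833141 L828080 L822258 (flp_f L823948) (flp_e L826655) L826653 L820961 L811915 (flp_a L810687) L810694 L802878 (flp_e L792517) (flp_d L780245) L768773 L760754 (flp_a L758178) L758186 L758197 L758211 L758205 L744782 L727974 (flp_a L724470) L741501 L741509 L730895 L712446 (flp_c L713137) (flp_b L731485) (flp_a L744425) (flp_h L744423) L727413 (flp_e L729772) L729771 L729769 L713857 (flp_a L697018) L716628 (flp_f L734109) (flp_e L749512) L762402 L773913 L785591 L797669 L797679 (flp_f L806876) L817185 L824876 L830512 L834738 L834742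
theorem L837329 : sm gh N64006 = N64267 := rfl
theorem L837331 : sm ga N64267 = N64267 := ded_17_1 (flp_h L837329) L834214 L837329
theorem L837332 : sm gb N64267 = N64008 := ded_25_1 (flp_h L834225) L834210 L837329
theorem L837334 : sm ge N64267 = N64013 := ded_43_1 (flp_h L834281) (flp_e L834212) L837329
theorem L837336 : sm gf N64267 = N64065 := ded_47_1 L837327 (flp_f L837320) L837329
theorem L837338 : sm gh N64009 = N64268 := rfl
theorem L837340 : sm ga N64268 = N64268 := ded_17_1 (flp_h L837338) L834243 L837338
theorem L837341 : sm gb N64268 = N64010 := ded_25_1 (flp_h L834244) L834235 L837338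
theorem L837343 : sm gf N64268 = N64063 := ded_47_1 (flp_h L835666) L835660 L837338
theorem L837345 : sm gg N64268 = N64013 := ded_50_1 (flp_h L834281) (flp_g L834239) L837338
theorem L837347 : sm gd N64268 = N64047 := ded_38_1 (flp_h L834582) (flp_d L834477) L834481 (flp_d L834237) L837338
theorem L837349 : sm gi N64010 = N64269 := rfl
theorem L837351 : sm ga N64269 = N64012 := ded_18_1 (flp_i L834268) (flp_a L834246) L837349
theorem L837353 : sm gc N64269 = N64011 := ded_33_1 (flp_i L834256) (flp_c L834248) L837349
theorem L837355 : sm gd N64269 = N64049 := ded_39_1 (flp_i L834601) (flp_d L834254) L837349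
theorem L837357 : sm gf N64269 = N64022 := ded_48_1 L834384 (flp_f L834250) L837349
theorem L837359 : sm gg N64269 = N64015 := ded_51_1 (flp_i L834300) (flp_g L834252) L837349
theorem L837361 : sm gh N64269 = N64067 := ded_54_1 (flp_i L834748) (flp_h L830523) (flp_i L829677) L834244 L837349
theorem L837363 : sm gd N64013 = N64270 := rfl
theorem L837365 : sm ga N64270 = N64270 := ded_12_1 (flp_d L837363) L834283 L837363
theorem L837366 : sm gb N64270 = N64014 := ded_20_1 (flp_d L834288) (flp_b L834284) L837363
theorem L837368 : sm gf N64270 = N64070 := ded_35_2 L834773 (flp_f L834286) L837363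
theorem L837370 : sm gg N64270 = N64047 := ded_36_2 (flp_d L837347) L837345 L837363
theorem L837372 : sm gh N64270 = N64040 := ded_38_2 L836085 (flp_h L836076) L832344 L834281 L837363
theorem L837374 : sm gi N64013 = N64271 := rfl
theorem L837376 : sm ga N64271 = N64271 := ded_18_1 (flp_i L837374) L834283 L837374
theorem L837377 : sm gb N64271 = N64015 := ded_26_1 (flp_i L834300) (flp_b L834284) L837374
theorem L837379 : sm gf N64271 = N64072 := ded_48_1 L834787 (flp_f L834286) L837374
theorem L837381 : sm gi N64014 = N64272 := rfl
theorem L837383 : sm ga N64272 = N64016 := ded_18_1 (flp_i L834308) (flp_a L834290) L837381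
theorem L837385 : sm gc N64272 = N64021 := ded_33_1 (flp_i L834366) (flp_c L834296) L837381
theorem L837387 : sm gd N64272 = N64015 := ded_39_1 (flp_i L834300) L834288 L837381
theorem L837389 : sm gf N64272 = N64026 := ded_48_1 L834419 (flp_f L834292) L837381
theorem L837391 : sm gg N64272 = N64049 := ded_51_1 (flp_i L834601) (flp_g L834294) L837381
theorem L837393 : sm gb N64017 = N64273 := rfl
theorem L837395 : sm ge N64273 = N64063 := ded_21_2 (flp_b L834728) (flp_e L834323) L837393
theorem L837397 : sm gg N64273 = N64018 := ded_23_2 (flp_b L834331) (flp_g L834325) L837393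
theorem L837399 : sm gh N64273 = N64072 := ded_25_2 (flp_b L834785) (flp_h L834327) L837393
theorem L837401 : sm gi N64273 = N64024 := ded_26_2 (flp_b L834395) (flp_i L834329) L837393
theorem L837403 : sm ga N64273 = N64273 := ded_10_1 (flp_b L837393) L834321 L829773 (flp_a L834321) L837393
theorem L837404 : sm gh N64018 = N64274 := rfl
theorem L837406 : sm ga N64274 = N64274 := ded_17_1 (flp_h L837404) L834337 L837404
theorem L837407 : sm gb N64274 = N64019 := ded_25_1 (flp_h L834338) L834331 L837404
theorem L837409 : sm gc N64274 = N64083 := ded_32_1 (flp_h L837162) L837167 L837404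
theorem L837411 : sm ge N64274 = N64082 := ded_43_1 (flp_h L836250) L836242 L837404
theorem L837413 : sm gf N64274 = N64023 := ded_47_1 (flp_h L837070) L837066 L837404
theorem L837415 : sm gg N64274 = N64072 := ded_50_1 (flp_h L837399) L837397 L837404
theorem L837417 : sm gj N64274 = N64033 := ded_52_1 L834481 (flp_j L834333) L837404
theorem L837419 : sm gi N64274 = N64071 := ded_54_2 (flp_h L835647) L835649 (flp_h L834400) (flp_i L834335) L837404
theorem L837421 : sm gd N64027 = N64274 := ded_20_0 L837407 (flp_d L834354) L834423
theorem L837423 : sm gb N64022 = N64275 := rfl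
theorem L837425 : sm gd N64275 = N64064 := ded_20_2 (flp_b L834733) (flp_d L834386) L837423
theorem L837427 : sm ge N64275 = N64024 := ded_21_2 (flp_b L834395) (flp_e L834380) L837423
theorem L837429 : sm gg N64275 = N64023 := ded_23_2 (flp_b L834388) (flp_g L834382) L837423
theorem L837431 : sm gi N64275 = N64063 := ded_26_2 (flp_b L834728) (flp_i L834384) L837423
theorem L837433 : sm ga N64275 = N64275 := ded_10_1 (flp_b L837423) L834378 L829953 (flp_a L834378) L837423
theorem L837434 : sm gb N64026 = N64276 := rfl
theorem L837436 : sm gd N64276 = N64072 := ded_20_2 (flp_b L834785) (flp_d L834421) L837434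
theorem L837438 : sm ge N64276 = N64091 := ded_21_2 L834920 (flp_e L834415) L837434
theorem L837440 : sm gg N64276 = N64027 := ded_23_2 (flp_b L834423) (flp_g L834417) L837434
theorem L837442 : sm gi N64276 = N64070 := ded_26_2 (flp_b L834771) (flp_i L834419) L837434
theorem L837444 : sm ga N64276 = N64276 := ded_10_1 (flp_b L837434) L834413 L830001 (flp_a L834413) L837434
theorem L837445 : sm gh N64027 = N64277 := rfl
theorem L837447 : sm ga N64277 = N64277 := ded_17_1 (flp_h L837445) L834427 L837445
theorem L837448 : sm gb N64277 = N64028 := ded_25_1 (flp_h L834428) L834423 L837445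
theorem L837450 : sm gf N64277 = N64062 := ded_47_1 (flp_h L836269) L836263 L837445
theorem L837452 : sm gj N64277 = N64047 := ded_52_1 (flp_h L834582) (flp_j L834425) L837445
theorem L837454 : sm gi N64028 = N64278 := rfl
theorem L837456 : sm ga N64278 = N64030 := ded_18_1 (flp_i L834448) (flp_a L834430) L837454
theorem L837458 : sm gc N64278 = N64029 := ded_33_1 (flp_i L834438) (flp_c L834432) L837454
theorem L837460 : sm gf N64278 = N64061 := ded_48_1 L834719 (flp_f L834434) L837454
theorem L837462 : sm gj N64278 = N64049 := ded_53_1 (flp_i L834601) (flp_j L834436) L837454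
theorem L837464 : sm gb N64034 = N64279 := rfl
theorem L837466 : sm ge N64279 = N64052 := ded_21_2 (flp_b L834631) (flp_e L834488) L837464
theorem L837468 : sm gj N64279 = N64040 := ded_24_2 (flp_b L834528) (flp_j L834490) L837464
theorem L837470 : sm ga N64279 = N64279 := ded_10_1 (flp_b L837464) L834486 L830165 (flp_a L834486) L837464
theorem L837471 : sm gc N64279 = N64065 := ded_19_2 (flp_b L834738) (flp_c L830512) (flp_b L830141) L834484 L837464
theorem L837473 : sm gb N64035 = N64280 := rfl
theorem L837475 : sm gg N64280 = N64042 := ded_23_2 (flp_b L834541) (flp_g L834496) L837473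
theorem L837477 : sm gi N64280 = N64040 := ded_26_2 (flp_b L834528) (flp_i L834498) L837473
theorem L837479 : sm ga N64280 = N64280 := ded_10_1 (flp_b L837473) L834494 L830188 (flp_a L834494) L837473
theorem L837480 : sm gf N64035 = N64281 := rfl
theorem L837482 : sm ga N64281 = N64038 := ded_14_1 (flp_f L834514) (flp_a L834494) L837480
theorem L837484 : sm gc N64281 = N64036 := ded_29_1 (flp_f L834500) L834492 L837480
theorem L837486 : sm gi N64281 = N64041 := ded_48_2 (flp_f L834533) (flp_i L834498) L837480
theorem L837488 : sm gh N64035 = N64282 := rfl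
theorem L837490 : sm ga N64282 = N64039 := ded_17_1 (flp_h L834521) (flp_a L834494) L837488
theorem L837492 : sm gc N64282 = N64037 := ded_32_1 (flp_h L834508) L834492 L837488
theorem L837494 : sm gg N64282 = N64043 := ded_50_1 (flp_h L834546) (flp_g L834496) L837488
theorem L837496 : sm gf N64040 = N64283 := rfl
theorem L837498 : sm ga N64283 = N64283 := ded_14_1 (flp_f L837496) L834532 L837496
theorem L837499 : sm gb N64283 = N64041 := ded_22_1 (flp_f L834533) L834528 L837496
theorem L837501 : sm gh N64283 = N64070 := ded_47_2 (flp_f L837368) L837372 L837496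
theorem L837503 : sm gh N64042 = N64284 := rfl
theorem L837505 : sm ga N64284 = N64284 := ded_17_1 (flp_h L837503) L834545 L837503
theorem L837506 : sm gb N64284 = N64043 := ded_25_1 (flp_h L834546) L834541 L837503
theorem L837508 : sm gi N64043 = N64285 := rfl
theorem L837510 : sm ga N64285 = N64045 := ded_18_1 (flp_i L834562) (flp_a L834548) L837508
theorem L837512 : sm gc N64285 = N64044 := ded_33_1 (flp_i L834552) (flp_c L834550) L837508
theorem L837514 : sm gf N64285 = N64059 := ded_48_1 (flp_i L835294) L835286 L837508
theorem L837516 : sm gh N64285 = N64049 := ded_54_1 (flp_i L834601) (flp_h L830262) (flp_i L830228) L834546 L837508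
theorem L837518 : sm ge N64046 = N64286 := rfl
theorem L837520 : sm ga N64286 = N64286 := ded_13_1 (flp_e L837518) L834573 L837518
theorem L837521 : sm gb N64286 = N64048 := ded_21_1 (flp_e L834589) (flp_b L834574) L837518
theorem L837523 : sm gc N64286 = N64062 := ded_28_1 L834723 (flp_c L834576) L837518
theorem L837525 : sm gj N64286 = N64051 := ded_42_2 (flp_e L836261) L836267 L837518
theorem L837527 : sm gh N64286 = N64058 := ded_43_2 L834686 L834580 L837518
theorem L837529 : sm gd N64286 = N64065 := ded_34_1 L834740 L830520 (flp_e L830802) (flp_d L834578) L837518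
theorem L837531 : sm gi N64047 = N64287 := rfl
theorem L837533 : sm ga N64287 = N64287 := ded_18_1 (flp_i L837531) L834584 L837531
theorem L837534 : sm gb N64287 = N64049 := ded_26_1 (flp_i L834601) (flp_b L834585) L837531
theorem L837536 : sm gf N64287 = N64064 := ded_48_1 L834735 (flp_f L834587) L837531
theorem L837538 : sm gh N64052 = N64288 := rfl
theorem L837540 : sm ga N64288 = N64288 := ded_17_1 (flp_h L837538) L834635 L837538
theorem L837541 : sm gb N64288 = N64053 := ded_25_1 (flp_h L834638) L834631 L837538
theorem L837543 : sm gc N64288 = N64066 := ded_32_1 (flp_h L834743) (flp_c L834636) L837538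
theorem L837545 : sm gf N64288 = N64076 := ded_47_1 L834819 (flp_f L834633) L837538
theorem L837547 : sm gi N64053 = N64289 := rfl
theorem L837549 : sm ga N64289 = N64055 := ded_18_1 (flp_i L834656) (flp_a L834640) L837547
theorem L837551 : sm gc N64289 = N64054 := ded_33_1 (flp_i L834646) (flp_c L834642) L837547
theorem L837553 : sm gf N64289 = N64075 := ded_48_1 L834811 (flp_f L834644) L837547
theorem L837555 : sm gb N64056 = N64290 := rfl
theorem L837557 : sm ge N64290 = N64077 := ded_21_2 (flp_b L834822) (flp_e L834667) L837555
theorem L837559 : sm gj N64290 = N64057 := ded_24_2 (flp_b L834673) (flp_j L834669) L837555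
theorem L837561 : sm gh N64290 = N64081 := ded_25_2 (flp_b L834850) (flp_h L834671) L837555
theorem L837563 : sm ga N64290 = N64290 := ded_10_1 (flp_b L837555) L834665 L830397 (flp_a L834665) L837555
theorem L837564 : sm gc N64290 = N64069 := ded_19_2 (flp_b L834764) (flp_c L830557) (flp_b L830381) L834663 L837555
theorem L837566 : sm gb N64059 = N64291 := rfl
theorem L837568 : sm ge N64291 = N64089 := ded_21_2 (flp_b L834907) (flp_e L834695) L837566
theorem L837570 : sm gg N64291 = N64062 := ded_23_2 (flp_b L834721) (flp_g L834697) L837566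
theorem L837572 : sm gh N64291 = N64064 := ded_25_2 (flp_b L834733) (flp_h L834699) L837566
theorem L837574 : sm ga N64291 = N64291 := ded_10_1 (flp_b L837566) L834693 L830452 (flp_a L834693) L837566
theorem L837575 : sm gb N64060 = N64292 := rfl
theorem L837577 : sm gd N64292 = N64062 := ded_20_2 (flp_b L834721) (flp_d L834709) L837575
theorem L837579 : sm gj N64292 = N64063 := ded_24_2 (flp_b L834728) (flp_j L834705) L837575
theorem L837581 : sm gh N64292 = N64078 := ded_25_2 (flp_b L834829) (flp_h L834707) L837575
theorem L837583 : sm ga N64292 = N64292 := ded_10_1 (flp_b L837575) L834703 L830467 (flp_a L834703) L837575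
theorem L837584 : sm gb N64061 = N64293 := rfl
theorem L837586 : sm ge N64293 = N64090 := ded_21_2 (flp_b L834912) (flp_e L834715) L837584
theorem L837588 : sm gj N64293 = N64064 := ded_24_2 (flp_b L834733) (flp_j L834717) L837584
theorem L837590 : sm gi N64293 = N64062 := ded_26_2 (flp_b L834721) (flp_i L834719) L837584
theorem L837592 : sm ga N64293 = N64293 := ded_10_1 (flp_b L837584) L834713 L830488 (flp_a L834713) L837584
theorem L837593 : sm gi N64066 = N64294 := rfl
theorem L837595 : sm ga N64294 = N64294 := ded_18_1 (flp_i L837593) L834745 L837593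
theorem L837596 : sm gb N64294 = N64067 := ded_26_1 (flp_i L834748) (flp_b L834746) L837593
theorem L837598 : sm gb N64068 = N64295 := rfl
theorem L837600 : sm ge N64295 = N64078 := ded_21_2 (flp_b L834829) (flp_e L834758) L837598
theorem L837602 : sm gj N64295 = N64072 := ded_24_2 (flp_b L834785) (flp_j L834760) L837598
theorem L837604 : sm gi N64295 = N64069 := ded_26_2 (flp_b L834764) (flp_i L834762) L837598
theorem L837606 : sm ga N64295 = N64295 := ded_10_1 (flp_b L837598) L834756 L830556 (flp_a L834756) L837598
theorem L837607 : sm gb N64073 = N64296 := rfl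
theorem L837609 : sm gg N64296 = N64081 := ded_23_2 (flp_b L834850) (flp_g L834794) L837607
theorem L837611 : sm gi N64296 = N64074 := ded_26_2 (flp_b L834798) (flp_i L834796) L837607
theorem L837613 : sm ga N64296 = N64296 := ded_10_1 (flp_b L837607) L834792 L830616 (flp_a L834792) L837607
theorem L837614 : sm gb N64075 = N64297 := rfl
theorem L837616 : sm ge N64297 = N64080 := ded_21_2 (flp_b L834841) (flp_e L834807) L837614
theorem L837618 : sm gg N64297 = N64079 := ded_23_2 (flp_b L834834) (flp_g L834809) L837614
theorem L837620 : sm gi N64297 = N64076 := ded_26_2 (flp_b L834813) (flp_i L834811) L837614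
theorem L837622 : sm ga N64297 = N64297 := ded_10_1 (flp_b L837614) L834805 L830649 (flp_a L834805) L837614
theorem L837623 : sm gh N64084 = N64298 := rfl
theorem L837625 : sm ga N64298 = N64298 := ded_17_1 (flp_h L837623) L834875 L837623
theorem L837626 : sm gb N64298 = N64085 := ded_25_1 (flp_h L834876) L834871 L837623
theorem L837628 : sm gf N64298 = N64089 := ded_47_1 (flp_h L835685) L835679 L837623
theorem L837630 : sm gi N64085 = N64299 := rfl
theorem L837632 : sm ga N64299 = N64087 := ded_18_1 (flp_i L834892) (flp_a L834878) L837630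
theorem L837634 : sm gc N64299 = N64086 := ded_33_1 (flp_i L834884) (flp_c L834880) L837630
theorem L837636 : sm gf N64299 = N64088 := ded_48_1 L834905 (flp_f L834882) L837630
theorem L837638 : sm gb N64088 = N64300 := rfl
theorem L837640 : sm gg N64300 = N64090 := ded_23_2 (flp_b L834912) (flp_g L834903) L837638
theorem L837642 : sm gi N64300 = N64089 := ded_26_2 (flp_b L834907) (flp_i L834905) L837638
theorem L837644 : sm ga N64300 = N64300 := ded_10_1 (flp_b L837638) L834901 L830784 (flp_a L834901) L837638
theorem L837645 : sm gb N64092 = N64301 := rfl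
theorem L837647 : sm gd N64301 = N64243 := ded_20_2 (flp_b L837047) (flp_d L834936) L837645
theorem L837649 : sm ge N64301 = N64280 := ded_21_2 (flp_b L837473) (flp_e L834926) L837645
theorem L837651 : sm gf N64301 = N64156 := ded_22_2 (flp_b L835933) (flp_f L834928) L837645
theorem L837653 : sm gg N64301 = N64234 := ded_23_2 (flp_b L836961) (flp_g L834930) L837645
theorem L837655 : sm gj N64301 = N64111 := ded_24_2 (flp_b L835224) (flp_j L834932) L837645
theorem L837657 : sm gi N64301 = N64141 := ded_26_2 (flp_b L835692) (flp_i L834934) L837645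
theorem L837659 : sm ga N64301 = N64301 := ded_10_1 (flp_b L837645) L834924 L830867 (flp_a L834924) L837645
theorem L837660 : sm gc N64301 = N64174 := ded_19_2 (flp_b L836175) (flp_c L832463) (flp_b L830843) L834922 L837645
theorem L837662 : sm gh N64092 = N64302 := rfl
theorem L837664 : sm ga N64302 = N64094 := ded_17_1 (flp_h L834956) (flp_a L834924) L837662
theorem L837666 : sm gc N64302 = N64093 := ded_32_1 (flp_h L834938) L834922 L837662
theorem L837668 : sm ge N64302 = N64282 := ded_43_1 (flp_h L837488) (flp_e L834926) L837662
theorem L837670 : sm gf N64302 = N64157 := ded_47_1 (flp_h L835944) (flp_f L834928) L837662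
theorem L837672 : sm gg N64302 = N64236 := ded_50_1 (flp_h L836976) (flp_g L834930) L837662
theorem L837674 : sm gj N64302 = N64112 := ded_52_1 (flp_h L835237) (flp_j L834932) L837662
theorem L837676 : sm gd N64302 = N64249 := ded_38_1 (flp_h L837131) L833827 (flp_h L833725) (flp_d L834936) L837662
theorem L837678 : sm gi N64210 = N64302 := ded_18_0 L837664 (flp_i L834971) (flp_a L836682)
theorem L837680 : sm gb N64097 = N64303 := rfl
theorem L837682 : sm gd N64303 = N64215 := ded_20_2 (flp_b L836740) (flp_d L835027) L837680
theorem L837684 : sm ge N64303 = N64122 := ded_21_2 (flp_b L835401) (flp_e L835017) L837680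
theorem L837686 : sm gg N64303 = N64286 := ded_23_2 L837521 (flp_g L835019) L837680
theorem L837688 : sm gj N64303 = N64300 := ded_24_2 (flp_b L837638) (flp_j L835021) L837680
theorem L837690 : sm gh N64303 = N64158 := ded_25_2 (flp_b L835960) (flp_h L835023) L837680
theorem L837692 : sm gi N64303 = N64262 := ded_26_2 (flp_b L837282) (flp_i L835025) L837680
theorem L837694 : sm ga N64303 = N64303 := ded_10_1 (flp_b L837680) L835015 L831000 (flp_a L835015) L837680
theorem L837695 : sm gc N64303 = N64291 := ded_19_2 (flp_b L837566) (flp_c L834691) (flp_b L830960) L835013 L837680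
theorem L837697 : sm gf N64097 = N64304 := rfl
theorem L837699 : sm ga N64304 = N64100 := ded_14_1 (flp_f L835061) (flp_a L835015) L837697
theorem L837701 : sm gc N64304 = N64098 := ded_29_1 (flp_f L835029) L835013 L837697
theorem L837703 : sm gd N64304 = N64216 := ded_35_1 (flp_f L836749) (flp_d L835027) L837697
theorem L837705 : sm gj N64304 = N64299 := ded_46_2 L837636 (flp_j L835021) L837697
theorem L837707 : sm gh N64304 = N64159 := ded_47_2 (flp_f L835971) (flp_h L835023) L837697
theorem L837709 : sm gi N64304 = N64255 := ded_48_2 L837218 (flp_i L835025) L837697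
theorem L837711 : sm ge N64098 = N64305 := rfl
theorem L837713 : sm ga N64305 = N64101 := ded_13_1 (flp_e L835074) (flp_a L835031) L837711
theorem L837715 : sm gb N64305 = N64212 := ded_21_1 L836706 (flp_b L835033) L837711
theorem L837717 : sm gj N64305 = N64237 := ded_42_2 L836988 (flp_j L835037) L837711
theorem L837719 : sm gh N64305 = N64160 := ded_43_2 (flp_e L835979) (flp_h L835039) L837711
theorem L837721 : sm gi N64305 = N64171 := ded_44_2 L836139 (flp_i L835041) L837711
theorem L837723 : sm gd N64305 = N64196 := ded_34_1 L836500 L833230 (flp_e L830986) (flp_d L835035) L837711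
theorem L837725 : sm gf N64305 = N64124 := ded_40_2 (flp_e L835426) (flp_f L831494) (flp_e L830968) L835029 L837711
theorem L837727 : sm gg N64176 = N64305 := ded_15_0 L837713 (flp_g L835088) (flp_a L836200)
theorem L837729 : sm gg N64098 = N64306 := rfl
theorem L837731 : sm ga N64306 = N64102 := ded_15_1 (flp_g L835090) (flp_a L835031) L837729
theorem L837733 : sm gb N64306 = N64211 := ded_23_1 (flp_g L836698) (flp_b L835033) L837729
theorem L837735 : sm gd N64306 = N64099 := ded_36_1 (flp_g L835043) (flp_d L835035) L837729
theorem L837737 : sm ge N64306 = N64176 := ded_41_1 L837727 (flp_e L837711) L837729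
theorem L837739 : sm gh N64306 = N64135 := ded_50_2 L835598 (flp_h L835039) L837729
theorem L837741 : sm gi N64306 = N64128 := ded_51_2 L835491 (flp_i L835041) L837729
theorem L837743 : sm gf N64306 = N64205 := ded_45_1 L836627 L833667 (flp_g L830962) L835029 L837729
theorem L837745 : sm gj N64306 = N64219 := ded_49_2 L836791 (flp_j L835475) L835481 (flp_j L835037) L837729
theorem L837747 : sm ge N64100 = N64307 := rfl
theorem L837749 : sm gb N64307 = N64307 := ded_21_1 (flp_e L837747) L835063 L837747
theorem L837750 : sm gc N64307 = N64101 := ded_28_1 (flp_e L835074) (flp_c L835064) L837747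
theorem L837752 : sm gj N64307 = N64238 := ded_42_2 L837003 (flp_j L835068) L837747
theorem L837754 : sm gh N64307 = N64161 := ded_43_2 (flp_e L835995) (flp_h L835070) L837747
theorem L837756 : sm gi N64307 = N64173 := ded_44_2 L836167 (flp_i L835072) L837747
theorem L837758 : sm gd N64307 = N64229 := ded_34_1 (flp_e L836905) L833510 (flp_e L833364) (flp_d L835066) L837747
theorem L837760 : sm gf N64307 = N64125 := ded_40_2 (flp_e L835440) (flp_f L831508) (flp_e L830990) L835061 L837747
theorem L837762 : sm gg N64177 = N64307 := ded_30_0 L837750 (flp_g L835088) (flp_c L836215)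
theorem L837764 : sm gg N64100 = N64308 := rfl
theorem L837766 : sm gb N64308 = N64308 := ded_23_1 (flp_g L837764) L835063 L837764
theorem L837767 : sm gc N64308 = N64102 := ded_30_1 (flp_g L835090) (flp_c L835064) L837764
theorem L837769 : sm gd N64308 = N64220 := ded_36_1 (flp_g L836797) (flp_d L835066) L837764
theorem L837771 : sm ge N64308 = N64177 := ded_41_1 L837762 (flp_e L837747) L837764
theorem L837773 : sm gh N64308 = N64136 := ded_50_2 L835613 (flp_h L835070) L837764
theorem L837775 : sm gi N64308 = N64130 := ded_51_2 L835519 (flp_i L835072) L837764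
theorem L837777 : sm gf N64308 = N64206 := ded_45_1 L836640 L833690 (flp_g L830992) L835061 L837764
theorem L837779 : sm gj N64308 = N64221 := ded_49_2 L836819 (flp_j L835504) L835510 (flp_j L835068) L837764
theorem L837781 : sm gb N64103 = N64309 := rfl
theorem L837783 : sm gd N64309 = N64209 := ded_20_2 (flp_b L836673) (flp_d L835118) L837781
theorem L837785 : sm ge N64309 = N64111 := ded_21_2 (flp_b L835224) (flp_e L835110) L837781
theorem L837787 : sm gg N64309 = N64247 := ded_23_2 (flp_b L837106) (flp_g L835112) L837781
theorem L837789 : sm gj N64309 = N64280 := ded_24_2 (flp_b L837473) (flp_j L835114) L837781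
theorem L837791 : sm gi N64309 = N64279 := ded_26_2 (flp_b L837464) (flp_i L835116) L837781
theorem L837793 : sm ga N64309 = N64309 := ded_10_1 (flp_b L837781) L835108 L831105 (flp_a L835108) L837781
theorem L837794 : sm gc N64309 = N64263 := ded_19_2 (flp_b L837291) (flp_c L834152) (flp_b L831069) L835106 L837781
theorem L837796 : sm gf N64103 = N64310 := rfl
theorem L837798 : sm ga N64310 = N64107 := ded_14_1 (flp_f L835166) (flp_a L835108) L837796
theorem L837800 : sm gc N64310 = N64104 := ded_29_1 (flp_f L835120) L835106 L837796
theorem L837802 : sm gd N64310 = N64210 := ded_35_1 (flp_f L836680) (flp_d L835118) L837796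
theorem L837804 : sm gj N64310 = N64281 := ded_46_2 (flp_f L837480) (flp_j L835114) L837796
theorem L837806 : sm gi N64310 = N64249 := ded_48_2 L837139 (flp_i L835116) L837796
theorem L837808 : sm ge N64310 = N64163 := ded_40_1 (flp_f L836021) L832274 (flp_f L831198) (flp_e L835110) L837796
theorem L837810 : sm gh N64103 = N64311 := rfl
theorem L837812 : sm ga N64311 = N64108 := ded_17_1 (flp_h L835179) (flp_a L835108) L837810
theorem L837814 : sm gc N64311 = N64105 := ded_32_1 (flp_h L835134) L835106 L837810
theorem L837816 : sm ge N64311 = N64112 := ded_43_1 (flp_h L835237) (flp_e L835110) L837810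
theorem L837818 : sm gg N64311 = N64249 := ded_50_1 (flp_h L837131) (flp_g L835112) L837810
theorem L837820 : sm gj N64311 = N64282 := ded_52_1 (flp_h L837488) (flp_j L835114) L837810
theorem L837822 : sm gd N64311 = N64236 := ded_38_1 (flp_h L836976) (flp_d L836426) L836422 (flp_d L835118) L837810
theorem L837824 : sm gg N64104 = N64312 := rfl
theorem L837826 : sm ga N64312 = N64109 := ded_15_1 (flp_g L835192) (flp_a L835122) L837824
theorem L837828 : sm gb N64312 = N64219 := ded_23_1 L836791 (flp_b L835124) L837824
theorem L837830 : sm gd N64312 = N64106 := ded_36_1 (flp_g L835148) (flp_d L835126) L837824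
theorem L837832 : sm ge N64312 = N64113 := ded_41_1 L835259 (flp_e L835132) L837824
theorem L837834 : sm gi N64312 = N64105 := ded_51_2 L835142 (flp_i L835130) L837824
theorem L837836 : sm gf N64312 = N64199 := ded_45_1 L836546 (flp_f L833829) (flp_g L831071) L835120 L837824
theorem L837838 : sm gj N64312 = N64211 := ded_49_2 (flp_g L836698) (flp_j L835362) L835368 (flp_j L835128) L837824
theorem L837840 : sm gh N64198 = N64312 := ded_17_0 L837826 (flp_h L835206) (flp_a L836526)
theorem L837842 : sm gh N64104 = N64313 := rfl
theorem L837844 : sm ga N64313 = N64110 := ded_17_1 (flp_h L835208) (flp_a L835122) L837842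
theorem L837846 : sm gb N64313 = N64218 := ded_25_1 (flp_h L836781) (flp_b L835124) L837842
theorem L837848 : sm ge N64313 = N64165 := ded_43_1 (flp_h L836045) (flp_e L835132) L837842
theorem L837850 : sm gf N64313 = N64105 := ded_47_1 (flp_h L835134) L835120 L837842
theorem L837852 : sm gg N64313 = N64198 := ded_50_1 L837840 (flp_g L837824) L837842
theorem L837854 : sm gj N64313 = N64228 := ded_52_1 L836897 (flp_j L835128) L837842
theorem L837856 : sm gd N64313 = N64200 := ded_38_1 L836562 L833230 (flp_h L831089) (flp_d L835126) L837842
theorem L837858 : sm gi N64313 = N64199 := ded_54_2 (flp_h L836538) L832987 L833843 (flp_i L835130) L837842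
theorem L837860 : sm gg N64107 = N64314 := rfl
theorem L837862 : sm gb N64314 = N64314 := ded_23_1 (flp_g L837860) L835168 L837860
theorem L837863 : sm gc N64314 = N64109 := ded_30_1 (flp_g L835192) (flp_c L835169) L837860
theorem L837865 : sm gd N64314 = N64214 := ded_36_1 (flp_g L836727) (flp_d L835171) L837860
theorem L837867 : sm ge N64314 = N64114 := ded_41_1 L835274 (flp_e L835177) L837860
theorem L837869 : sm gi N64314 = N64108 := ded_51_2 L835186 (flp_i L835175) L837860
theorem L837871 : sm gf N64314 = N64190 := ded_45_1 L836404 (flp_f L833871) (flp_g L831099) L835166 L837860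
theorem L837873 : sm gj N64314 = N64213 := ded_49_2 (flp_g L836725) (flp_j L835377) L835383 (flp_j L835173) L837860
theorem L837875 : sm gh N64201 = N64314 := ded_32_0 L837863 (flp_h L835206) (flp_c L836573)
theorem L837877 : sm gh N64107 = N64315 := rfl
theorem L837879 : sm gb N64315 = N64315 := ded_25_1 (flp_h L837877) L835168 L837877
theorem L837880 : sm gc N64315 = N64110 := ded_32_1 (flp_h L835208) (flp_c L835169) L837877
theorem L837882 : sm ge N64315 = N64166 := ded_43_1 (flp_h L836061) (flp_e L835177) L837877
theorem L837884 : sm gf N64315 = N64108 := ded_47_1 (flp_h L835179) L835166 L837877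
theorem L837886 : sm gg N64315 = N64201 := ded_50_1 L837875 (flp_g L837860) L837877
theorem L837888 : sm gj N64315 = N64229 := ded_52_1 L836912 (flp_j L835173) L837877
theorem L837890 : sm gd N64315 = N64238 := ded_38_1 (flp_h L836998) (flp_d L835744) L835754 (flp_d L835171) L837877
theorem L837892 : sm gi N64315 = N64190 := ded_54_2 L836408 L833015 L833884 (flp_i L835175) L837877
theorem L837894 : sm gh N64111 = N64316 := rfl
theorem L837896 : sm ga N64316 = N64316 := ded_17_1 (flp_h L837894) L835234 L837894
theorem L837897 : sm gb N64316 = N64112 := ded_25_1 (flp_h L835237) L835224 L837894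
theorem L837899 : sm gc N64316 = N64268 := ded_32_1 (flp_h L837338) (flp_c L835235) L837894
theorem L837901 : sm gf N64316 = N64167 := ded_47_1 (flp_h L836076) (flp_f L835228) L837894
theorem L837903 : sm gg N64316 = N64250 := ded_50_1 (flp_h L837143) (flp_g L835230) L837894
theorem L837905 : sm gd N64316 = N64283 := ded_38_1 L837501 L834773 (flp_h L833731) (flp_d L835226) L837894
theorem L837907 : sm gi N64112 = N64317 := rfl
theorem L837909 : sm ga N64317 = N64114 := ded_18_1 (flp_i L835265) (flp_a L835239) L837907
theorem L837911 : sm gc N64317 = N64113 := ded_33_1 (flp_i L835249) (flp_c L835241) L837907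
theorem L837913 : sm gd N64317 = N64281 := ded_39_1 L837486 (flp_d L835247) L837907
theorem L837915 : sm gf N64317 = N64168 := ded_48_1 (flp_i L836087) (flp_f L835243) L837907
theorem L837917 : sm gg N64317 = N64163 := ded_51_1 L836027 (flp_g L835245) L837907
theorem L837919 : sm gj N64317 = N64210 := ded_53_1 L837678 L837674 L837907
theorem L837921 : sm gh N64317 = N64289 := ded_54_1 (flp_i L837547) (flp_h L834638) (flp_i L831202) L835237 L837907
theorem L837923 : sm gb N64115 = N64318 := rfl
theorem L837925 : sm gd N64318 = N64290 := ded_20_2 (flp_b L837555) (flp_d L835296) L837923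
theorem L837927 : sm ge N64318 = N64300 := ded_21_2 (flp_b L837638) (flp_e L835284) L837923
theorem L837929 : sm gf N64318 = N64284 := ded_22_2 L837506 (flp_f L835286) L837923
theorem L837931 : sm gg N64318 = N64293 := ded_23_2 (flp_b L837584) (flp_g L835288) L837923
theorem L837933 : sm gj N64318 = N64122 := ded_24_2 (flp_b L835401) (flp_j L835290) L837923
theorem L837935 : sm gh N64318 = N64178 := ded_25_2 (flp_b L836225) (flp_h L835292) L837923
theorem L837937 : sm gi N64318 = N64291 := ded_26_2 (flp_b L837566) (flp_i L835294) L837923
theorem L837939 : sm ga N64318 = N64318 := ded_10_1 (flp_b L837923) L835282 L831293 (flp_a L835282) L837923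
theorem L837940 : sm gc N64318 = N64262 := ded_19_2 (flp_b L837282) (flp_c L834130) (flp_b L831247) L835280 L837923
theorem L837942 : sm gb N64118 = N64319 := rfl
theorem L837944 : sm gd N64319 = N64162 := ded_20_2 (flp_b L836010) (flp_d L835352) L837942
theorem L837946 : sm ge N64319 = N64262 := ded_21_2 (flp_b L837282) (flp_e L835342) L837942
theorem L837948 : sm gg N64319 = N64178 := ded_23_2 (flp_b L836225) (flp_g L835344) L837942
theorem L837950 : sm gj N64319 = N64291 := ded_24_2 (flp_b L837566) (flp_j L835346) L837942
theorem L837952 : sm gh N64319 = N64293 := ded_25_2 (flp_b L837584) (flp_h L835348) L837942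
theorem L837954 : sm gi N64319 = N64122 := ded_26_2 (flp_b L835401) (flp_i L835350) L837942
theorem L837956 : sm ga N64319 = N64319 := ded_10_1 (flp_b L837942) L835340 L831450 (flp_a L835340) L837942
theorem L837957 : sm gc N64319 = N64300 := ded_19_2 (flp_b L837638) (flp_c L834899) (flp_b L831408) L835338 L837942
theorem L837959 : sm gf N64118 = N64320 := rfl
theorem L837961 : sm ga N64320 = N64120 := ded_14_1 (flp_f L835370) (flp_a L835340) L837959
theorem L837963 : sm gc N64320 = N64119 := ded_29_1 (flp_f L835354) L835338 L837959
theorem L837965 : sm gd N64320 = N64163 := ded_35_1 (flp_f L836021) (flp_d L835352) L837959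
theorem L837967 : sm gj N64320 = N64285 := ded_46_2 L837514 (flp_j L835346) L837959
theorem L837969 : sm gh N64320 = N64278 := ded_47_2 L837460 (flp_h L835348) L837959
theorem L837971 : sm gi N64320 = N64123 := ded_48_2 (flp_f L835412) (flp_i L835350) L837959
theorem L837973 : sm gg N64320 = N64281 := ded_45_2 (flp_f L837480) L834496 (flp_f L832512) (flp_g L835344) L837959
theorem L837975 : sm ge N64119 = N64321 := rfl
theorem L837977 : sm ga N64321 = N64121 := ded_13_1 (flp_e L835385) (flp_a L835356) L837975
theorem L837979 : sm gb N64321 = N64237 := ded_21_1 L836988 (flp_b L835358) L837975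
theorem L837981 : sm gg N64321 = N64150 := ded_41_2 L835851 (flp_g L835368) L837975
theorem L837983 : sm gj N64321 = N64212 := ded_42_2 L836706 (flp_j L835362) L837975
theorem L837985 : sm gh N64321 = N64170 := ded_43_2 L836129 (flp_h L835364) L837975
theorem L837987 : sm gi N64321 = N64124 := ded_44_2 (flp_e L835426) (flp_i L835366) L837975
theorem L837989 : sm gd N64321 = N64151 := ded_34_1 L835861 L832107 (flp_e L831434) (flp_d L835360) L837975
theorem L837991 : sm gf N64321 = N64171 := ded_40_2 L836139 L833993 (flp_e L831416) L835354 L837975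
theorem L837993 : sm ge N64120 = N64322 := rfl
theorem L837995 : sm gb N64322 = N64322 := ded_21_1 (flp_e L837993) L835372 L837993
theorem L837996 : sm gc N64322 = N64121 := ded_28_1 (flp_e L835385) (flp_c L835373) L837993
theorem L837998 : sm gg N64322 = N64152 := ded_41_2 L835884 (flp_g L835383) L837993
theorem L838000 : sm gj N64322 = N64214 := ded_42_2 L836732 (flp_j L835377) L837993
theorem L838002 : sm gh N64322 = N64172 := ded_43_2 L836158 (flp_h L835379) L837993
theorem L838004 : sm gi N64322 = N64125 := ded_44_2 (flp_e L835440) (flp_i L835381) L837993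
theorem L838006 : sm gd N64322 = N64213 := ded_34_1 (flp_e L836714) (flp_d L835171) L835177 (flp_d L835375) L837993
theorem L838008 : sm gf N64322 = N64173 := ded_40_2 L836167 L834004 (flp_e L831440) L835370 L837993
theorem L838010 : sm gf N64122 = N64323 := rfl
theorem L838012 : sm ga N64323 = N64323 := ded_14_1 (flp_f L838010) L835409 L838010
theorem L838013 : sm gb N64323 = N64123 := ded_22_1 (flp_f L835412) L835401 L838010
theorem L838015 : sm gc N64323 = N64298 := ded_29_1 L837628 (flp_c L835410) L838010
theorem L838017 : sm gd N64323 = N64250 := ded_35_1 L837150 (flp_d L835403) L838010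
theorem L838019 : sm gj N64323 = N64284 := ded_46_2 (flp_f L837929) L837933 L838010
theorem L838021 : sm gh N64323 = N64181 := ded_47_2 (flp_f L836276) (flp_h L835407) L838010
theorem L838023 : sm gg N64323 = N64283 := ded_45_2 (flp_f L837496) L834530 L834571 (flp_g L835405) L838010
theorem L838025 : sm ge N64123 = N64324 := rfl
theorem L838027 : sm ga N64324 = N64125 := ded_13_1 (flp_e L835440) (flp_a L835414) L838025
theorem L838029 : sm gc N64324 = N64124 := ded_28_1 (flp_e L835426) (flp_c L835416) L838025
theorem L838031 : sm gg N64324 = N64246 := ded_41_2 L837098 (flp_g L835424) L838025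
theorem L838033 : sm gj N64324 = N64236 := ded_42_2 L836982 (flp_j L835420) L838025
theorem L838035 : sm gh N64324 = N64182 := ded_43_2 (flp_e L836291) (flp_h L835422) L838025
theorem L838037 : sm gd N64324 = N64282 := ded_34_1 (flp_e L837668) L837676 L837137 (flp_d L835418) L838025
theorem L838039 : sm gb N64126 = N64325 := rfl
theorem L838041 : sm gd N64325 = N64158 := ded_20_2 (flp_b L835960) (flp_d L835465) L838039
theorem L838043 : sm ge N64325 = N64174 := ded_21_2 (flp_b L836175) (flp_e L835457) L838039
theorem L838045 : sm gg N64325 = N64254 := ded_23_2 (flp_b L837199) (flp_g L835459) L838039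
theorem L838047 : sm gj N64325 = N64263 := ded_24_2 (flp_b L837291) (flp_j L835461) L838039
theorem L838049 : sm gi N64325 = N64132 := ded_26_2 (flp_b L835541) (flp_i L835463) L838039
theorem L838051 : sm ga N64325 = N64325 := ded_10_1 (flp_b L838039) L835455 L831611 (flp_a L835455) L838039
theorem L838052 : sm gc N64325 = N64280 := ded_19_2 (flp_b L837473) (flp_c L834492) (flp_b L831573) L835453 L838039
theorem L838054 : sm gf N64126 = N64326 := rfl
theorem L838056 : sm ga N64326 = N64129 := ded_14_1 (flp_f L835497) (flp_a L835455) L838054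
theorem L838058 : sm gc N64326 = N64127 := ded_29_1 (flp_f L835467) L835453 L838054
theorem L838060 : sm gd N64326 = N64159 := ded_35_1 (flp_f L835971) (flp_d L835465) L838054
theorem L838062 : sm gj N64326 = N64264 := ded_46_2 (flp_f L837300) (flp_j L835461) L838054
theorem L838064 : sm gi N64326 = N64133 := ded_48_2 (flp_f L835554) (flp_i L835463) L838054
theorem L838066 : sm ge N64326 = N64261 := ded_40_1 L837278 L834758 (flp_f L832467) (flp_e L835457) L838054
theorem L838068 : sm gg N64326 = N64299 := ded_45_2 L837636 L834903 (flp_f L833979) (flp_g L835459) L838054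
theorem L838070 : sm gh N64126 = N64327 := rfl
theorem L838072 : sm ga N64327 = N64130 := ded_17_1 (flp_h L835512) (flp_a L835455) L838070
theorem L838074 : sm gc N64327 = N64128 := ded_32_1 (flp_h L835483) L835453 L838070
theorem L838076 : sm ge N64327 = N64175 := ded_43_1 (flp_h L836186) (flp_e L835457) L838070
theorem L838078 : sm gg N64327 = N64255 := ded_50_1 (flp_h L837212) (flp_g L835459) L838070
theorem L838080 : sm gj N64327 = N64265 := ded_52_1 (flp_h L837310) (flp_j L835461) L838070
theorem L838082 : sm gd N64327 = N64217 := ded_38_1 (flp_h L836759) (flp_d L835027) L835023 (flp_d L835465) L838070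
theorem L838084 : sm gh N64127 = N64328 := rfl
theorem L838086 : sm ga N64328 = N64131 := ded_17_1 (flp_h L835525) (flp_a L835469) L838084
theorem L838088 : sm gb N64328 = N64228 := ded_25_1 L836897 (flp_b L835471) L838084
theorem L838090 : sm ge N64328 = N64154 := ded_43_1 L835912 (flp_e L835479) L838084
theorem L838092 : sm gf N64328 = N64128 := ded_47_1 (flp_h L835483) L835467 L838084
theorem L838094 : sm gg N64328 = N64146 := ded_50_1 L835782 (flp_g L835481) L838084
theorem L838096 : sm gj N64328 = N64218 := ded_52_1 (flp_h L836781) (flp_j L835475) L838084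
theorem L838098 : sm gd N64328 = N64147 := ded_38_1 L835798 L832107 (flp_h L831593) (flp_d L835473) L838084
theorem L838100 : sm gi N64328 = N64205 := ded_54_2 L836631 L833197 L831683 (flp_i L835477) L838084
theorem L838102 : sm gh N64129 = N64329 := rfl
theorem L838104 : sm gb N64329 = N64329 := ded_25_1 (flp_h L838102) L835499 L838102
theorem L838105 : sm gc N64329 = N64131 := ded_32_1 (flp_h L835525) (flp_c L835500) L838102
theorem L838107 : sm ge N64329 = N64155 := ded_43_1 L835927 (flp_e L835508) L838102
theorem L838109 : sm gf N64329 = N64130 := ded_47_1 (flp_h L835512) L835497 L838102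
theorem L838111 : sm gg N64329 = N64148 := ded_50_1 L835815 (flp_g L835510) L838102
theorem L838113 : sm gj N64329 = N64220 := ded_52_1 (flp_h L836808) (flp_j L835504) L838102
theorem L838115 : sm gd N64329 = N64221 := ded_38_1 (flp_h L836810) (flp_d L835066) L835070 (flp_d L835502) L838102
theorem L838117 : sm gi N64329 = N64206 := ded_54_2 L836644 L833209 L831714 (flp_i L835506) L838102
theorem L838119 : sm gf N64132 = N64330 := rfl
theorem L838121 : sm ga N64330 = N64330 := ded_14_1 (flp_f L838119) L835551 L838119
theorem L838122 : sm gb N64330 = N64133 := ded_22_1 (flp_f L835554) L835541 L838119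
theorem L838124 : sm gc N64330 = N64283 := ded_29_1 (flp_f L837496) (flp_c L835552) L838119
theorem L838126 : sm gd N64330 = N64256 := ded_35_1 L837231 (flp_d L835543) L838119
theorem L838128 : sm gj N64330 = N64267 := ded_46_2 L837336 (flp_j L835549) L838119
theorem L838130 : sm ge N64330 = N64260 := ded_40_1 L837268 L834766 (flp_f L832713) (flp_e L835545) L838119
theorem L838132 : sm gg N64330 = N64298 := ded_45_2 L837628 L834909 (flp_f L834012) (flp_g L835547) L838119
theorem L838134 : sm gh N64257 = N64330 := ded_56_0 (flp_f L838119) L835545 L832711 (flp_c L833961) (flp_b L833952) L829261 L823118 L817642 (flp_e L817877) (flp_d L824416) L824414 L816399 L805720 (flp_h L806239) (flp_f L814958) (flp_e L820666) L820674 L812894 L801778 (flp_a L802230) L802237 (flp_f L789937) (flp_e L777899) (flp_d L766543) L754616 L744542 L727606 (flp_h L708746) (flp_f L708742) L708740 L687588 L665355 L665353 (flp_a L664822) L664832 L376717 L258990 (flp_d L259045) L259044 L259042 (flp_a L576039) L258444 L178295 (flp_e L179635) (flp_d L261065) (flp_c L379847) (flp_b L667117) (flp_a L689548) L710733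 (flp_f L729420) (flp_e L746022) L759591 L771296 L782922 L795129 (flp_h L804258) (flp_f L815012) L823275 L829360 L834025 L837233 L837243
theorem L838136 : sm gh N64132 = N64331 := rfl
theorem L838138 : sm ga N64331 = N64331 := ded_17_1 (flp_h L838136) L835551 L838136
theorem L838139 : sm gb N64331 = N64134 := ded_25_1 (flp_h L835570) L835541 L838136
theorem L838141 : sm gc N64331 = N64270 := ded_32_1 L837372 (flp_c L835552) L838136
theorem L838143 : sm ge N64331 = N64187 := ded_43_1 (flp_h L836366) (flp_e L835545) L838136
theorem L838145 : sm gf N64331 = N64257 := ded_47_1 L838134 (flp_f L838119) L838136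
theorem L838147 : sm gg N64331 = N64256 := ded_50_1 (flp_h L837224) (flp_g L835547) L838136
theorem L838149 : sm gj N64331 = N64266 := ded_52_1 (flp_h L837327) (flp_j L835549) L838136
theorem L838151 : sm gd N64331 = N64298 := ded_38_1 (flp_h L837623) L834873 (flp_h L834626) (flp_d L835543) L838136
theorem L838153 : sm gi N64134 = N64332 := rfl
theorem L838155 : sm ga N64332 = N64136 := ded_18_1 (flp_i L835602) (flp_a L835572) L838153
theorem L838157 : sm gc N64332 = N64135 := ded_33_1 (flp_i L835586) (flp_c L835574) L838153
theorem L838159 : sm gd N64332 = N64299 := ded_39_1 (flp_i L837630) (flp_d L835584) L838153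
theorem L838161 : sm ge N64332 = N64189 := ded_44_1 (flp_i L836389) (flp_e L835576) L838153
theorem L838163 : sm gf N64332 = N64207 := ded_48_1 L836658 (flp_f L835578) L838153
theorem L838165 : sm gg N64332 = N64159 := ded_51_1 L835977 (flp_g L835580) L838153
theorem L838167 : sm gj N64332 = N64216 := ded_53_1 L836755 (flp_j L835582) L838153
theorem L838169 : sm gb N64137 = N64333 := rfl
theorem L838171 : sm gd N64333 = N64141 := ded_20_2 (flp_b L835692) (flp_d L835633) L838169
theorem L838173 : sm ge N64333 = N64296 := ded_21_2 (flp_b L837607) (flp_e L835621) L838169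
theorem L838175 : sm gf N64333 = N64208 := ded_22_2 (flp_b L836662) (flp_f L835623) L838169
theorem L838177 : sm gg N64333 = N64233 := ded_23_2 (flp_b L836948) (flp_g L835625) L838169
theorem L838179 : sm gj N64333 = N64193 := ded_24_2 (flp_b L836446) (flp_j L835627) L838169
theorem L838181 : sm gh N64333 = N64203 := ded_25_2 (flp_b L836598) (flp_h L835629) L838169
theorem L838183 : sm gi N64333 = N64243 := ded_26_2 (flp_b L837047) (flp_i L835631) L838169
theorem L838185 : sm ga N64333 = N64333 := ded_10_1 (flp_b L838169) L835619 L831815 (flp_a L835619) L838169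
theorem L838186 : sm gc N64333 = N64194 := ded_19_2 (flp_b L836461) (flp_c L832878) (flp_b L831787) L835617 L838169
theorem L838188 : sm gh N64141 = N64334 := rfl
theorem L838190 : sm ga N64334 = N64334 := ded_17_1 (flp_h L838188) L835702 L838188
theorem L838191 : sm gb N64334 = N64142 := ded_25_1 (flp_h L835705) L835692 L838188
theorem L838193 : sm gc N64334 = N64187 := ded_32_1 (flp_h L836366) (flp_c L835703) L838188
theorem L838195 : sm ge N64334 = N64270 := ded_43_1 L837372 (flp_e L835694) L838188
theorem L838197 : sm gf N64334 = N64233 := ded_47_1 L836956 (flp_f L835696) L838188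
theorem L838199 : sm gg N64334 = N64240 := ded_50_1 (flp_h L837016) (flp_g L835698) L838188
theorem L838201 : sm gj N64334 = N64288 := ded_52_1 (flp_h L837538) (flp_j L835700) L838188
theorem L838203 : sm gd N64334 = N64239 := ded_55_2 (flp_f L837011) L833638 (flp_d L834477) (flp_b L834475) (flp_c L830127) (flp_d L824257) (flp_i L823082) L823080 (flp_d L819451) L819453 (flp_e L817645) L807638 (flp_b L804838) L804828 (flp_d L804512) (flp_i L815317) (flp_h L821916) L821908 (flp_f L818574) L825853 L831332 L831336 L829827 (flp_d L824117) (flp_i L820854) L820852 (flp_d L819336) L819342 L811687 L804882 (flp_b L797521) L797511 L790976 (flp_i L791124) L791122 (flp_d L790782) (flp_f L801008) L812243 L812257 L807728 (flp_c L807774) L817719 (flp_i L824465) (flp_h L830155) (flp_d L833855) L833851 L830145 (flp_d L824611) L816781 L806911 L808003 (flp_i L817747) (flp_h L824263) (flp_d L824257) L816252 (flp_e L807981) L796340 (flp_b L796003) (flp_c L807597) (flp_d L817470) L817476 L807351 L795512 L783353 L771719 (flp_d L772008) (flp_b L783420) (flp_c L790223) (flp_d L802551) (flp_i L812798)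 L812796 (flp_d L814794) (flp_f L821765) (flp_e L827482) (flp_d L832367) L832365 L834376 L834386 L830507 L830260 L830258 (flp_f L830131) (flp_e L833914) L833924 L834850 (flp_c L837058) (flp_d L837647) L837657 L838188
theorem L838205 : sm gi N64142 = N64335 := rfl
theorem L838207 : sm ga N64335 = N64144 := ded_18_1 (flp_i L835739) (flp_a L835707) L838205
theorem L838209 : sm gc N64335 = N64143 := ded_33_1 (flp_i L835721) (flp_c L835709) L838205
theorem L838211 : sm gd N64335 = N64235 := ded_39_1 L836974 L835719 L838205
theorem L838213 : sm ge N64335 = N64272 := ded_44_1 (flp_i L837381) (flp_e L835711) L838205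
theorem L838215 : sm gf N64335 = N64191 := ded_48_1 L836424 (flp_f L835713) L838205
theorem L838217 : sm gg N64335 = N64242 := ded_51_1 (flp_i L837037) (flp_g L835715) L838205
theorem L838219 : sm gj N64335 = N64289 := ded_53_1 (flp_i L837547) (flp_j L835717) L838205
theorem L838221 : sm gh N64335 = N64210 := ded_54_1 L837678 (flp_h L837662) L834934 L835705 L838205
theorem L838223 : sm gb N64145 = N64336 := rfl
theorem L838225 : sm gd N64336 = N64263 := ded_20_2 (flp_b L837291) (flp_d L835770) L838223
theorem L838227 : sm ge N64336 = N64178 := ded_21_2 (flp_b L836225) (flp_e L835760) L838223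
theorem L838229 : sm gg N64336 = N64262 := ded_23_2 (flp_b L837282) (flp_g L835762) L838223
theorem L838231 : sm gj N64336 = N64158 := ded_24_2 (flp_b L835960) (flp_j L835764) L838223
theorem L838233 : sm gh N64336 = N64300 := ded_25_2 (flp_b L837638) (flp_h L835766) L838223
theorem L838235 : sm gi N64336 = N64286 := ded_26_2 L837521 (flp_i L835768) L838223
theorem L838237 : sm ga N64336 = N64336 := ded_10_1 (flp_b L838223) L835758 L831991 (flp_a L835758) L838223
theorem L838238 : sm gc N64336 = N64293 := ded_19_2 (flp_b L837584) (flp_c L834711) (flp_b L831951) L835756 L838223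
theorem L838240 : sm gf N64145 = N64337 := rfl
theorem L838242 : sm ga N64337 = N64148 := ded_14_1 (flp_f L835806) (flp_a L835758) L838240
theorem L838244 : sm gc N64337 = N64146 := ded_29_1 (flp_f L835772) L835756 L838240
theorem L838246 : sm gd N64337 = N64264 := ded_35_1 (flp_f L837300) (flp_d L835770) L838240
theorem L838248 : sm gj N64337 = N64159 := ded_46_2 (flp_f L835971) (flp_j L835764) L838240
theorem L838250 : sm gh N64337 = N64299 := ded_47_2 L837636 (flp_h L835766) L838240
theorem L838252 : sm gi N64337 = N64241 := ded_48_2 L837035 (flp_i L835768) L838240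
theorem L838254 : sm ge N64337 = N64235 := ded_40_1 (flp_f L836968) L833590 (flp_f L832512) (flp_e L835760) L838240
theorem L838256 : sm gb N64149 = N64338 := rfl
theorem L838258 : sm gd N64338 = N64291 := ded_20_2 (flp_b L837566) (flp_d L835835) L838256
theorem L838260 : sm ge N64338 = N64156 := ded_21_2 (flp_b L835933) (flp_e L835825) L838256
theorem L838262 : sm gg N64338 = N64292 := ded_23_2 (flp_b L837575) (flp_g L835827) L838256
theorem L838264 : sm gj N64338 = N64162 := ded_24_2 (flp_b L836010) (flp_j L835829) L838256
theorem L838266 : sm gh N64338 = N64226 := ded_25_2 (flp_b L836874) (flp_h L835831) L838256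
theorem L838268 : sm gi N64338 = N64290 := ded_26_2 (flp_b L837555) (flp_i L835833) L838256
theorem L838270 : sm ga N64338 = N64338 := ded_10_1 (flp_b L838256) L835823 L832068 (flp_a L835823) L838256
theorem L838271 : sm gc N64338 = N64295 := ded_19_2 (flp_b L837598) (flp_c L834754) (flp_b L832028) L835821 L838256
theorem L838273 : sm gf N64149 = N64339 := rfl
theorem L838275 : sm ga N64339 = N64152 := ded_14_1 (flp_f L835871) (flp_a L835823) L838273
theorem L838277 : sm gc N64339 = N64150 := ded_29_1 (flp_f L835837) L835821 L838273
theorem L838279 : sm gd N64339 = N64285 := ded_35_1 L837514 (flp_d L835835) L838273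
theorem L838281 : sm gj N64339 = N64163 := ded_46_2 (flp_f L836021) (flp_j L835829) L838273
theorem L838283 : sm gh N64339 = N64227 := ded_47_2 (flp_f L836881) (flp_h L835831) L838273
theorem L838285 : sm gi N64339 = N64246 := ded_48_2 L837100 (flp_i L835833) L838273
theorem L838287 : sm ge N64339 = N64281 := ded_40_1 (flp_f L837480) (flp_e L834926) L834928 (flp_e L835825) L838273
theorem L838289 : sm gb N64153 = N64340 := rfl
theorem L838291 : sm gd N64340 = N64258 := ded_20_2 (flp_b L837246) (flp_d L835900) L838289
theorem L838293 : sm ge N64340 = N64292 := ded_21_2 (flp_b L837575) (flp_e L835890) L838289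
theorem L838295 : sm gg N64340 = N64156 := ded_23_2 (flp_b L835933) (flp_g L835892) L838289
theorem L838297 : sm gj N64340 = N64273 := ded_24_2 (flp_b L837393) (flp_j L835894) L838289
theorem L838299 : sm gh N64340 = N64295 := ded_25_2 (flp_b L837598) (flp_h L835896) L838289
theorem L838301 : sm gi N64340 = N64203 := ded_26_2 (flp_b L836598) (flp_i L835898) L838289
theorem L838303 : sm ga N64340 = N64340 := ded_10_1 (flp_b L838289) L835888 L832159 (flp_a L835888) L838289
theorem L838304 : sm gc N64340 = N64226 := ded_19_2 (flp_b L836874) (flp_c L833489) (flp_b L832117) L835886 L838289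
theorem L838306 : sm gf N64153 = N64341 := rfl
theorem L838308 : sm ga N64341 = N64155 := ded_14_1 (flp_f L835918) (flp_a L835888) L838306
theorem L838310 : sm gc N64341 = N64154 := ded_29_1 (flp_f L835902) L835886 L838306
theorem L838312 : sm gd N64341 = N64242 := ded_35_1 L837045 (flp_d L835900) L838306
theorem L838314 : sm gj N64341 = N64223 := ded_46_2 L836838 (flp_j L835894) L838306
theorem L838316 : sm gh N64341 = N64261 := ded_47_2 L837278 (flp_h L835896) L838306
theorem L838318 : sm gi N64341 = N64204 := ded_48_2 (flp_f L836607) (flp_i L835898) L838306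
theorem L838320 : sm gg N64341 = N64235 := ded_45_2 (flp_f L836968) (flp_g L834930) L834928 (flp_g L835892) L838306
theorem L838322 : sm gh N64156 = N64342 := rfl
theorem L838324 : sm ga N64342 = N64342 := ded_17_1 (flp_h L838322) L835941 L838322
theorem L838325 : sm gb N64342 = N64157 := ded_25_1 (flp_h L835944) L835933 L838322
theorem L838327 : sm gc N64342 = N64292 := ded_32_1 L837581 (flp_c L835942) L838322
theorem L838329 : sm ge N64342 = N64226 := ded_43_1 (flp_h L838266) L838260 L838322
theorem L838331 : sm gg N64342 = N64295 := ded_50_1 (flp_h L838299) L838295 L838322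
theorem L838333 : sm gj N64342 = N64167 := ded_52_1 (flp_h L836076) (flp_j L835937) L838322
theorem L838335 : sm gd N64279 = N64342 := ded_20_0 L838325 (flp_d L835956) L837464
theorem L838337 : sm gi N64209 = N64342 := ded_26_0 L838325 (flp_i L835958) L836673
theorem L838339 : sm gf N64158 = N64343 := rfl
theorem L838341 : sm ga N64343 = N64343 := ded_14_1 (flp_f L838339) L835968 L838339
theorem L838342 : sm gb N64343 = N64159 := ded_22_1 (flp_f L835971) L835960 L838339
theorem L838344 : sm gc N64343 = N64287 := ded_29_1 L837536 (flp_c L835969) L838339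
theorem L838346 : sm gi N64343 = N64256 := ded_48_2 L837231 (flp_i L835966) L838339
theorem L838348 : sm ge N64159 = N64344 := rfl
theorem L838350 : sm ga N64344 = N64161 := ded_13_1 (flp_e L835995) (flp_a L835973) L838348
theorem L838352 : sm gc N64344 = N64160 := ded_28_1 (flp_e L835979) (flp_c L835975) L838348
theorem L838354 : sm gg N64344 = N64189 := ded_41_2 (flp_e L838161) L838165 L838348
theorem L838356 : sm gj N64344 = N64235 := ded_42_2 (flp_e L838254) L838248 L838348
theorem L838358 : sm gi N64344 = N64186 := ded_44_2 L836356 (flp_i L835977) L838348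
theorem L838360 : sm gf N64344 = N64182 := ded_40_2 (flp_e L836291) (flp_f L832561) (flp_e L832233) L835971 L838348
theorem L838362 : sm gd N64344 = N64289 := ded_56_3 L837551 L834650 L830531 (flp_h L829712) L829708 L823972 (flp_d L815931) (flp_c L811247) L811245 L799801 L790445 L790558 L790562 (flp_d L788870) L788868 L776951 L771928 (flp_h L771940) (flp_f L776221) (flp_e L776211) (flp_d L764647) (flp_c L764569) L764567 L757066 (flp_h L747545) (flp_f L745538) L745536 L728904 L728902 L713040 (flp_a L712785) L731199 L731205 (flp_e L728332) L745033 L745042 (flp_b L747710) (flp_a L751348) L751355 L764113 (flp_e L775385) (flp_d L787183) (flp_c L799361) (flp_b L810820) (flp_a L820321) L820329 (flp_f L820307) (flp_e L820293) (flp_d L819668) L819666 (flp_b L818307) (flp_a L818291) L808587 (flp_f L808536) L818231 L825544 L830988 L831000 (flp_a L835015) L835023 L835971 L838348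
theorem L838364 : sm gf N64162 = N64345 := rfl
theorem L838366 : sm ga N64345 = N64345 := ded_14_1 (flp_f L838364) L836018 L838364
theorem L838367 : sm gb N64345 = N64163 := ded_22_1 (flp_f L836021) L836010 L838364
theorem L838369 : sm gc N64345 = N64271 := ded_29_1 L837379 (flp_c L836019) L838364
theorem L838371 : sm gi N64345 = N64250 := ded_48_2 L837150 (flp_i L836016) L838364
theorem L838373 : sm gh N64162 = N64346 := rfl
theorem L838375 : sm ga N64346 = N64346 := ded_17_1 (flp_h L838373) L836018 L838373
theorem L838376 : sm gb N64346 = N64164 := ded_25_1 (flp_h L836029) L836010 L838373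
theorem L838378 : sm gc N64346 = N64273 := ded_32_1 L837399 (flp_c L836019) L838373
theorem L838380 : sm ge N64346 = N64167 := ded_43_1 (flp_h L836076) (flp_e L836012) L838373
theorem L838382 : sm gg N64346 = N64251 := ded_50_1 L837162 (flp_g L836014) L838373
theorem L838384 : sm gj N64346 = N64226 := ded_52_1 (flp_h L838266) L838264 L838373
theorem L838386 : sm gi N64346 = N64224 := ded_54_2 L836852 L834847 (flp_h L834679) (flp_i L836016) L838373
theorem L838388 : sm gd N64296 = N64346 := ded_20_0 L838376 (flp_d L836043) L837607
theorem L838390 : sm gh N64163 = N64347 := rfl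
theorem L838392 : sm ga N64347 = N64166 := ded_17_1 (flp_h L836061) (flp_a L836023) L838390
theorem L838394 : sm gc N64347 = N64165 := ded_32_1 (flp_h L836045) (flp_c L836025) L838390
theorem L838396 : sm gf N64347 = N64164 := ded_47_1 (flp_h L836029) L836021 L838390
theorem L838398 : sm gg N64347 = N64289 := ded_50_1 (flp_h L837921) L837917 L838390
theorem L838400 : sm gj N64347 = N64227 := ded_52_1 (flp_h L838283) L838281 L838390
theorem L838402 : sm gi N64347 = N64188 := ded_54_2 L836387 L833086 L833902 (flp_i L836027) L838390
theorem L838404 : sm gd N64189 = N64347 := ded_12_0 L838392 L836074 (flp_a L836391)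
theorem L838406 : sm gi N64167 = N64348 := rfl
theorem L838408 : sm ga N64348 = N64348 := ded_18_1 (flp_i L838406) L836078 L838406
theorem L838409 : sm gb N64348 = N64168 := ded_26_1 (flp_i L836087) (flp_b L836079) L838406
theorem L838411 : sm gc N64348 = N64275 := ded_33_1 L837431 (flp_c L836081) L838406
theorem L838413 : sm gd N64348 = N64280 := ded_39_1 L837477 L836085 L838406
theorem L838415 : sm ge N64348 = N64224 := ded_44_1 (flp_i L838386) L838380 L838406
theorem L838417 : sm gg N64348 = N64252 := ded_51_1 L837181 (flp_g L836083) L838406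
theorem L838419 : sm gj N64348 = N64209 := ded_53_1 L838337 L838333 L838406
theorem L838421 : sm gh N64348 = N64297 := ded_54_1 L837620 L834819 (flp_i L832348) L836076 L838406
theorem L838423 : sm gb N64169 = N64349 := rfl
theorem L838425 : sm gd N64349 = N64273 := ded_20_2 (flp_b L837393) (flp_d L836115) L838423
theorem L838427 : sm ge N64349 = N64254 := ded_21_2 (flp_b L837199) (flp_e L836107) L838423
theorem L838429 : sm gg N64349 = N64174 := ded_23_2 (flp_b L836175) (flp_g L836109) L838423
theorem L838431 : sm gj N64349 = N64258 := ded_24_2 (flp_b L837246) (flp_j L836111) L838423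
theorem L838433 : sm gi N64349 = N64184 := ded_26_2 (flp_b L836323) (flp_i L836113) L838423
theorem L838435 : sm ga N64349 = N64349 := ded_10_1 (flp_b L838423) L836105 L832434 (flp_a L836105) L838423
theorem L838436 : sm gc N64349 = N64234 := ded_19_2 (flp_b L836961) (flp_c L833586) (flp_b L832396) L836103 L838423
theorem L838438 : sm gf N64169 = N64350 := rfl
theorem L838440 : sm ga N64350 = N64172 := ded_14_1 (flp_f L836147) (flp_a L836105) L838438
theorem L838442 : sm gc N64350 = N64170 := ded_29_1 (flp_f L836117) L836103 L838438
theorem L838444 : sm gd N64350 = N64223 := ded_35_1 L836838 (flp_d L836115) L838438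
theorem L838446 : sm gj N64350 = N64242 := ded_46_2 L837045 (flp_j L836111) L838438
theorem L838448 : sm gi N64350 = N64185 := ded_48_2 (flp_f L836334) (flp_i L836113) L838438
theorem L838450 : sm ge N64350 = N64278 := ded_40_1 L837460 L834715 (flp_f L833979) (flp_e L836107) L838438
theorem L838452 : sm gg N64350 = N64227 := ded_45_2 (flp_f L836881) L833493 (flp_f L832467) (flp_g L836109) L838438
theorem L838454 : sm gh N64169 = N64351 := rfl
theorem L838456 : sm ga N64351 = N64173 := ded_17_1 (flp_h L836162) (flp_a L836105) L838454
theorem L838458 : sm gc N64351 = N64171 := ded_32_1 (flp_h L836133) L836103 L838454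
theorem L838460 : sm ge N64351 = N64255 := ded_43_1 (flp_h L837212) (flp_e L836107) L838454
theorem L838462 : sm gg N64351 = N64175 := ded_50_1 (flp_h L836186) (flp_g L836109) L838454
theorem L838464 : sm gj N64351 = N64259 := ded_52_1 (flp_h L837253) (flp_j L836111) L838454
theorem L838466 : sm gd N64351 = N64231 := ded_38_1 L836935 L834421 (flp_h L834327) (flp_d L836115) L838454
theorem L838468 : sm gh N64174 = N64352 := rfl
theorem L838470 : sm ga N64352 = N64352 := ded_17_1 (flp_h L838468) L836185 L838468
theorem L838471 : sm gb N64352 = N64175 := ded_25_1 (flp_h L836186) L836175 L838468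
theorem L838473 : sm gf N64352 = N64292 := ded_47_1 L837581 (flp_f L836179) L838468
theorem L838475 : sm gj N64352 = N64268 := ded_52_1 (flp_h L837338) (flp_j L836181) L838468
theorem L838477 : sm gd N64352 = N64277 := ded_38_1 (flp_h L837445) L837421 (flp_h L837404) (flp_d L836177) L838468
theorem L838479 : sm gi N64175 = N64353 := rfl
theorem L838481 : sm ga N64353 = N64177 := ded_18_1 (flp_i L836212) (flp_a L836188) L838479
theorem L838483 : sm gc N64353 = N64176 := ded_33_1 (flp_i L836198) (flp_c L836190) L838479
theorem L838485 : sm gd N64353 = N64278 := ded_39_1 (flp_i L837454) (flp_d L836196) L838479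
theorem L838487 : sm gf N64353 = N64195 := ded_48_1 L836488 (flp_f L836192) L838479
theorem L838489 : sm gj N64353 = N64269 := ded_53_1 (flp_i L837349) (flp_j L836194) L838479
theorem L838491 : sm gh N64353 = N64189 := ded_54_1 (flp_i L836389) (flp_h L832718) (flp_i L832471) L836186 L838479
theorem L838493 : sm ge N64181 = N64354 := rfl
theorem L838495 : sm ga N64354 = N64354 := ded_13_1 (flp_e L838493) L836278 L838493
theorem L838496 : sm gb N64354 = N64182 := ded_21_1 (flp_e L836291) (flp_b L836279) L838493
theorem L838498 : sm gc N64354 = N64258 := ded_28_1 L837248 (flp_c L836281) L838493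
theorem L838500 : sm gg N64354 = N64245 := ded_41_2 L837081 L836289 L838493
theorem L838502 : sm gj N64354 = N64234 := ded_42_2 L836963 (flp_j L836285) L838493
theorem L838504 : sm gi N64354 = N64232 := ded_44_2 L836941 (flp_i L836287) L838493
theorem L838506 : sm gd N64354 = N64297 := ded_34_1 L837616 L834843 (flp_e L834778) (flp_d L836283) L838493
theorem L838508 : sm gb N64183 = N64355 := rfl
theorem L838510 : sm gd N64355 = N64203 := ded_20_2 (flp_b L836598) (flp_d L836321) L838508
theorem L838512 : sm ge N64355 = N64253 := ded_21_2 (flp_b L837186) (flp_e L836309) L838508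
theorem L838514 : sm gf N64355 = N64240 := ded_22_2 L837019 (flp_f L836311) L838508
theorem L838516 : sm gg N64355 = N64208 := ded_23_2 (flp_b L836662) (flp_g L836313) L838508
theorem L838518 : sm gj N64355 = N64184 := ded_24_2 (flp_b L836323) (flp_j L836315) L838508
theorem L838520 : sm gh N64355 = N64239 := ded_25_2 L837014 (flp_h L836317) L838508
theorem L838522 : sm gi N64355 = N64258 := ded_26_2 (flp_b L837246) (flp_i L836319) L838508
theorem L838524 : sm ga N64355 = N64355 := ded_10_1 (flp_b L838508) L836307 L832634 (flp_a L836307) L838508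
theorem L838525 : sm gc N64355 = N64232 := ded_19_2 (flp_b L836937) (flp_c L833562) (flp_b L832606) L836305 L838508
theorem L838527 : sm gf N64184 = N64356 := rfl
theorem L838529 : sm ga N64356 = N64356 := ded_14_1 (flp_f L838527) L836331 L838527
theorem L838530 : sm gb N64356 = N64185 := ded_22_1 (flp_f L836334) L836323 L838527
theorem L838532 : sm gc N64356 = N64239 := ded_29_1 (flp_f L837011) (flp_c L836332) L838527
theorem L838534 : sm gd N64356 = N64222 := ded_35_1 L836828 (flp_d L836325) L838527
theorem L838536 : sm gj N64356 = N64240 := ded_46_2 (flp_f L838514) L838518 L838527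
theorem L838538 : sm ge N64356 = N64277 := ded_40_1 L837450 L834723 (flp_f L834012) (flp_e L836327) L838527
theorem L838540 : sm gg N64356 = N64230 := ded_45_2 (flp_f L836918) L833530 (flp_f L832713) (flp_g L836329) L838527
theorem L838542 : sm gh N64232 = N64356 := ded_56_0 (flp_f L838527) L836327 (flp_d L835675) L835690 (flp_b L832556) L827431 (flp_h L826040) L831508 L835440 L835451 L834524 L830199 (flp_a L826283) (flp_h L826281) L826266 L826277 L823348 L815658 (flp_b L812484) L812482 (flp_h L808478) (flp_f L808468) (flp_e L797038) (flp_d L785081) L773494 L762432 L755523 (flp_h L746606) (flp_f L746596) L746595 L746593 L730242 L711576 L690874 L691167 (flp_f L712085) L712083 (flp_d L708532) (flp_c L715655) L715653 (flp_a L722101) (flp_h L722099) L702870 (flp_e L702949) L702948 (flp_c L722169) L722167 L703110 L703979 (flp_f L723192) (flp_e L740413) L754856 L766778 L778144 L790205 (flp_h L802535) (flp_f L813632) L822312 L828666 L833562 L836937 L836947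
theorem L838544 : sm gh N64184 = N64357 := rfl
theorem L838546 : sm ga N64357 = N64357 := ded_17_1 (flp_h L838544) L836331 L838544
theorem L838547 : sm gb N64357 = N64186 := ded_25_1 (flp_h L836350) L836323 L838544
theorem L838549 : sm gc N64357 = N64240 := ded_32_1 (flp_h L837016) (flp_c L836332) L838544
theorem L838551 : sm ge N64357 = N64256 := ded_43_1 (flp_h L837224) (flp_e L836327) L838544
theorem L838553 : sm gf N64357 = N64232 := ded_47_1 L838542 (flp_f L838527) L838544
theorem L838555 : sm gg N64357 = N64187 := ded_50_1 (flp_h L836366) (flp_g L836329) L838544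
theorem L838557 : sm gj N64357 = N64239 := ded_52_1 (flp_h L838520) L838518 L838544
theorem L838559 : sm gd N64357 = N64288 := ded_38_1 (flp_h L837538) (flp_d L836448) L836454 (flp_d L836325) L838544
theorem L838561 : sm gd N64187 = N64358 := rfl
theorem L838563 : sm ga N64358 = N64358 := ded_12_1 (flp_d L838561) L836368 L838561
theorem L838564 : sm gb N64358 = N64188 := ded_20_1 (flp_d L836375) (flp_b L836369) L838561
theorem L838566 : sm gf N64358 = N64224 := ded_35_2 L836846 (flp_f L836371) L838561
theorem L838568 : sm gg N64358 = N64288 := ded_36_2 (flp_d L838559) L838555 L838561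
theorem L838570 : sm gj N64358 = N64230 := ded_37_2 L836923 (flp_j L836373) L838561
theorem L838572 : sm gc N64358 = N64222 := ded_27_1 (flp_d L838534) L838532 (flp_d L838203) L838193 L838561
theorem L838574 : sm gh N64358 = N64202 := ded_38_2 L836585 (flp_h L834400) (flp_d L832711) L836366 L838561
theorem L838576 : sm gi N64187 = N64359 := rfl
theorem L838578 : sm ga N64359 = N64359 := ded_18_1 (flp_i L838576) L836368 L838576
theorem L838579 : sm gb N64359 = N64189 := ded_26_1 (flp_i L836389) (flp_b L836369) L838576
theorem L838581 : sm gf N64359 = N64296 := ded_48_1 L837611 (flp_f L836371) L838576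
theorem L838583 : sm gj N64359 = N64294 := ded_53_1 (flp_i L837593) (flp_j L836373) L838576
theorem L838585 : sm ge N64188 = N64360 := rfl
theorem L838587 : sm ga N64360 = N64190 := ded_13_1 (flp_e L836399) (flp_a L836377) L838585
theorem L838589 : sm gc N64360 = N64199 := ded_28_1 L836544 (flp_c L836385) L838585
theorem L838591 : sm gg N64360 = N64248 := ded_41_2 L837127 (flp_g L836381) L838585
theorem L838593 : sm gj N64360 = N64231 := ded_42_2 (flp_e L836927) (flp_j L836383) L838585
theorem L838595 : sm gh N64360 = N64197 := ded_43_2 L836514 (flp_h L836387) L838585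
theorem L838597 : sm gd N64360 = N64259 := ded_34_1 L837259 (flp_d L835584) L835576 L836375 L838585
theorem L838599 : sm gb N64191 = N64361 := rfl
theorem L838601 : sm gd N64361 = N64234 := ded_20_2 (flp_b L836961) (flp_d L836426) L838599
theorem L838603 : sm ge N64361 = N64194 := ded_21_2 (flp_b L836461) (flp_e L836416) L838599
theorem L838605 : sm gg N64361 = N64243 := ded_23_2 (flp_b L837047) (flp_g L836418) L838599
theorem L838607 : sm gj N64361 = N64297 := ded_24_2 (flp_b L837614) (flp_j L836420) L838599
theorem L838609 : sm gh N64361 = N64209 := ded_25_2 (flp_b L836673) (flp_h L836422) L838599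
theorem L838611 : sm gi N64361 = N64233 := ded_26_2 (flp_b L836948) (flp_i L836424) L838599
theorem L838613 : sm ga N64361 = N64361 := ded_10_1 (flp_b L838599) L836414 L832806 (flp_a L836414) L838599
theorem L838614 : sm gc N64361 = N64296 := ded_19_2 (flp_b L837607) (flp_c L834790) (flp_b L832764) L836412 L838599
theorem L838616 : sm gb N64192 = N64362 := rfl
theorem L838618 : sm gd N64362 = N64226 := ded_20_2 (flp_b L836874) (flp_d L836444) L838616
theorem L838620 : sm ge N64362 = N64193 := ded_21_2 (flp_b L836446) (flp_e L836432) L838616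
theorem L838622 : sm gf N64362 = N64294 := ded_22_2 L837596 (flp_f L836434) L838616
theorem L838624 : sm gg N64362 = N64244 := ded_23_2 (flp_b L837060) (flp_g L836436) L838616
theorem L838626 : sm gj N64362 = N64296 := ded_24_2 (flp_b L837607) (flp_j L836438) L838616
theorem L838628 : sm gh N64362 = N64275 := ded_25_2 (flp_b L837423) (flp_h L836440) L838616
theorem L838630 : sm gi N64362 = N64225 := ded_26_2 (flp_b L836857) (flp_i L836442) L838616
theorem L838632 : sm ga N64362 = N64362 := ded_10_1 (flp_b L838616) L836430 L832861 (flp_a L836430) L838616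
theorem L838633 : sm gc N64362 = N64297 := ded_19_2 (flp_b L837614) (flp_c L834803) (flp_b L832813) L836428 L838616
theorem L838635 : sm gb N64195 = N64363 := rfl
theorem L838637 : sm gd N64363 = N64293 := ded_20_2 (flp_b L837584) (flp_d L836490) L838635
theorem L838639 : sm ge N64363 = N64203 := ded_21_2 (flp_b L836598) (flp_e L836480) L838635
theorem L838641 : sm gg N64363 = N64290 := ded_23_2 (flp_b L837555) (flp_g L836482) L838635
theorem L838643 : sm gj N64363 = N64275 := ded_24_2 (flp_b L837423) (flp_j L836484) L838635
theorem L838645 : sm gh N64363 = N64296 := ded_25_2 (flp_b L837607) (flp_h L836486) L838635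
theorem L838647 : sm gi N64363 = N64292 := ded_26_2 (flp_b L837575) (flp_i L836488) L838635
theorem L838649 : sm ga N64363 = N64363 := ded_10_1 (flp_b L838635) L836478 L832958 (flp_a L836478) L838635
theorem L838650 : sm gc N64363 = N64209 := ded_19_2 (flp_b L836673) (flp_c L833262) (flp_b L832918) L836476 L838635
theorem L838652 : sm gb N64197 = N64364 := rfl
theorem L838654 : sm gd N64364 = N64295 := ded_20_2 (flp_b L837598) (flp_d L836522) L838652
theorem L838656 : sm ge N64364 = N64202 := ded_21_2 (flp_b L836583) (flp_e L836514) L838652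
theorem L838658 : sm gg N64364 = N64279 := ded_23_2 (flp_b L837464) (flp_g L836516) L838652
theorem L838660 : sm gj N64364 = N64276 := ded_24_2 (flp_b L837434) (flp_j L836518) L838652
theorem L838662 : sm gi N64364 = N64247 := ded_26_2 (flp_b L837106) (flp_i L836520) L838652
theorem L838664 : sm ga N64364 = N64364 := ded_10_1 (flp_b L838652) L836512 L833017 (flp_a L836512) L838652
theorem L838665 : sm gc N64364 = N64215 := ded_19_2 (flp_b L836740) (flp_c L833317) (flp_b L832981) L836510 L838652
theorem L838667 : sm gf N64197 = N64365 := rfl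
theorem L838669 : sm ga N64365 = N64201 := ded_14_1 (flp_f L836570) (flp_a L836512) L838667
theorem L838671 : sm gc N64365 = N64198 := ded_29_1 (flp_f L836524) L836510 L838667
theorem L838673 : sm gd N64365 = N64261 := ded_35_1 L837278 (flp_d L836522) L838667
theorem L838675 : sm gj N64365 = N64272 := ded_46_2 L837389 (flp_j L836518) L838667
theorem L838677 : sm gi N64365 = N64248 := ded_48_2 (flp_f L837117) (flp_i L836520) L838667
theorem L838679 : sm ge N64365 = N64289 := ded_40_1 L837553 L834807 (flp_f L833080) (flp_e L836514) L838667
theorem L838681 : sm gf N64203 = N64366 := rfl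
theorem L838683 : sm ga N64366 = N64366 := ded_14_1 (flp_f L838681) L836604 L838681
theorem L838684 : sm gb N64366 = N64204 := ded_22_1 (flp_f L836607) L836598 L838681
theorem L838686 : sm gc N64366 = N64230 := ded_29_1 (flp_f L836918) (flp_c L836605) L838681
theorem L838688 : sm gd N64366 = N64240 := ded_35_1 (flp_f L838514) L838510 L838681
theorem L838690 : sm gj N64366 = N64222 := ded_46_2 L836828 (flp_j L836602) L838681
theorem L838692 : sm gh N64366 = N64208 := ded_47_2 (flp_f L838175) L838181 L838681
theorem L838694 : sm gg N64366 = N64239 := ded_45_2 (flp_f L837011) (flp_g L835698) L835696 (flp_g L836600) L838681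
theorem L838696 : sm ge N64204 = N64367 := rfl
theorem L838698 : sm ga N64367 = N64206 := ded_13_1 (flp_e L836635) (flp_a L836609) L838696
theorem L838700 : sm gc N64367 = N64205 := ded_28_1 (flp_e L836621) (flp_c L836611) L838696
theorem L838702 : sm gg N64367 = N64241 := ded_41_2 (flp_e L837023) (flp_g L836619) L838696
theorem L838704 : sm gj N64367 = N64217 := ded_42_2 L836765 (flp_j L836615) L838696
theorem L838706 : sm gh N64367 = N64207 := ded_43_2 L836652 (flp_h L836617) L838696
theorem L838708 : sm gd N64367 = N64265 := ded_34_1 L837316 L834254 (flp_e L833653) (flp_d L836613) L838696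
theorem L838710 : sm gb N64207 = N64368 := rfl
theorem L838712 : sm gd N64368 = N64300 := ded_20_2 (flp_b L837638) (flp_d L836660) L838710
theorem L838714 : sm ge N64368 = N64208 := ded_21_2 (flp_b L836662) (flp_e L836652) L838710
theorem L838716 : sm gg N64368 = N64253 := ded_23_2 (flp_b L837186) (flp_g L836654) L838710
theorem L838718 : sm gj N64368 = N64215 := ded_24_2 (flp_b L836740) (flp_j L836656) L838710
theorem L838720 : sm gi N64368 = N64257 := ded_26_2 (flp_b L837233) (flp_i L836658) L838710
theorem L838722 : sm ga N64368 = N64368 := ded_10_1 (flp_b L838710) L836650 L833211 (flp_a L836650) L838710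
theorem L838723 : sm gc N64368 = N64276 := ded_19_2 (flp_b L837434) (flp_c L834411) (flp_b L833191) L836648 L838710
theorem L838725 : sm gf N64209 = N64369 := rfl
theorem L838727 : sm ga N64369 = N64369 := ded_14_1 (flp_f L838725) L836679 L838725
theorem L838728 : sm gb N64369 = N64210 := ded_22_1 (flp_f L836680) L836673 L838725
theorem L838730 : sm ge N64210 = N64370 := rfl
theorem L838732 : sm ga N64370 = N64213 := ded_13_1 (flp_e L836714) (flp_a L836682) L838730
theorem L838734 : sm gc N64370 = N64211 := ded_28_1 (flp_e L836686) (flp_c L836684) L838730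
theorem L838736 : sm gh N64370 = N64272 := ded_43_2 (flp_e L838213) L838221 L838730
theorem L838738 : sm gi N64370 = N64282 := ded_44_2 (flp_e L837668) (flp_i L837678) L838730
theorem L838740 : sm gf N64370 = N64231 := ded_40_2 (flp_e L836927) (flp_f L833533) (flp_e L833266) L836680 L838730
theorem L838742 : sm gg N64285 = N64370 := ded_15_0 L838732 (flp_g L836725) (flp_a L837510)
theorem L838744 : sm gg N64210 = N64371 := rfl
theorem L838746 : sm ga N64371 = N64214 := ded_15_1 (flp_g L836727) (flp_a L836682) L838744
theorem L838748 : sm gc N64371 = N64212 := ded_30_1 (flp_g L836700) (flp_c L836684) L838744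
theorem L838750 : sm ge N64371 = N64285 := ded_41_1 L838742 (flp_e L838730) L838744
theorem L838752 : sm gh N64371 = N64242 := ded_50_2 (flp_g L838217) L838221 L838744
theorem L838754 : sm gi N64371 = N64236 := ded_51_2 (flp_g L837672) (flp_i L837678) L838744
theorem L838756 : sm gf N64371 = N64259 := ded_45_1 L837261 L834075 (flp_g L833268) L836680 L838744
theorem L838758 : sm gf N64215 = N64372 := rfl
theorem L838760 : sm ga N64372 = N64372 := ded_14_1 (flp_f L838758) L836748 L838758
theorem L838761 : sm gb N64372 = N64216 := ded_22_1 (flp_f L836749) L836740 L838758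
theorem L838763 : sm gi N64372 = N64266 := ded_48_2 (flp_f L837320) (flp_i L836746) L838758
theorem L838765 : sm ge N64372 = N64294 := ded_40_1 (flp_f L838622) L838620 L836450 (flp_e L836742) L838758
theorem L838767 : sm gh N64215 = N64373 := rfl
theorem L838769 : sm ga N64373 = N64373 := ded_17_1 (flp_h L838767) L836748 L838767
theorem L838770 : sm gb N64373 = N64217 := ded_25_1 (flp_h L836759) L836740 L838767
theorem L838772 : sm ge N64373 = N64222 := ded_43_1 (flp_h L836823) (flp_e L836742) L838767
theorem L838774 : sm gg N64373 = N64266 := ded_50_1 (flp_h L837327) (flp_g L836744) L838767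
theorem L838776 : sm gg N64216 = N64374 := rfl
theorem L838778 : sm ga N64374 = N64220 := ded_15_1 (flp_g L836797) (flp_a L836751) L838776
theorem L838780 : sm gc N64374 = N64218 := ded_30_1 (flp_g L836769) (flp_c L836753) L838776
theorem L838782 : sm ge N64374 = N64223 := ded_41_1 L836840 (flp_e L836757) L838776
theorem L838784 : sm gi N64374 = N64217 := ded_51_2 L836767 (flp_i L836755) L838776
theorem L838786 : sm gf N64374 = N64265 := ded_45_1 L837318 L834233 (flp_g L833323) L836749 L838776
theorem L838788 : sm gh N64264 = N64374 := ded_17_0 L838778 (flp_h L836808) (flp_a L837302)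
theorem L838790 : sm gh N64216 = N64375 := rfl
theorem L838792 : sm ga N64375 = N64221 := ded_17_1 (flp_h L836810) (flp_a L836751) L838790
theorem L838794 : sm gc N64375 = N64219 := ded_32_1 (flp_h L836783) (flp_c L836753) L838790
theorem L838796 : sm ge N64375 = N64269 := ded_43_1 L837361 (flp_e L836757) L838790
theorem L838798 : sm gf N64375 = N64217 := ded_47_1 (flp_h L836759) L836749 L838790
theorem L838800 : sm gg N64375 = N64264 := ded_50_1 L838788 (flp_g L838776) L838790
theorem L838802 : sm gi N64375 = N64265 := ded_54_2 (flp_h L837310) L834160 L834223 (flp_i L836755) L838790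
theorem L838804 : sm gi N64222 = N64376 := rfl
theorem L838806 : sm ga N64376 = N64376 := ded_18_1 (flp_i L838804) L836825 L838804
theorem L838807 : sm gb N64376 = N64223 := ded_26_1 (flp_i L836832) (flp_b L836826) L838804
theorem L838809 : sm gf N64376 = N64273 := ded_48_1 L837401 (flp_f L836828) L838804
theorem L838811 : sm gg N64376 = N64294 := ded_51_1 (flp_i L837593) (flp_g L836830) L838804
theorem L838813 : sm gh N64376 = N64271 := ded_54_1 (flp_i L837374) (flp_h L834281) (flp_i L833425) L836823 L838804
theorem L838815 : sm gf N64226 = N64377 := rfl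
theorem L838817 : sm ga N64377 = N64377 := ded_14_1 (flp_f L838815) L836880 L838815
theorem L838818 : sm gb N64377 = N64227 := ded_22_1 (flp_f L836881) L836874 L838815
theorem L838820 : sm gd N64377 = N64294 := ded_35_1 (flp_f L838622) L838618 L838815
theorem L838822 : sm gi N64377 = N64230 := ded_48_2 (flp_f L836918) (flp_i L836878) L838815
theorem L838824 : sm ge N64227 = N64378 := rfl
theorem L838826 : sm ga N64378 = N64229 := ded_13_1 (flp_e L836905) (flp_a L836883) L838824
theorem L838828 : sm gc N64378 = N64228 := ded_28_1 (flp_e L836891) (flp_c L836885) L838824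
theorem L838830 : sm gg N64378 = N64278 := ded_41_2 (flp_e L838450) L838452 L838824
theorem L838832 : sm gh N64378 = N64281 := ded_43_2 (flp_e L838287) L838283 L838824
theorem L838834 : sm gi N64378 = N64231 := ded_44_2 (flp_e L836927) (flp_i L836889) L838824
theorem L838836 : sm gf N64378 = N64282 := ded_40_2 (flp_e L837668) L837670 L835950 L836881 L838824
theorem L838838 : sm ge N64230 = N64379 := rfl
theorem L838840 : sm ga N64379 = N64379 := ded_13_1 (flp_e L838838) L836920 L838838
theorem L838841 : sm gb N64379 = N64231 := ded_21_1 (flp_e L836927) (flp_b L836921) L838838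
theorem L838843 : sm gg N64379 = N64277 := ded_41_2 (flp_e L838538) L838540 L838838
theorem L838845 : sm gh N64379 = N64276 := ded_43_2 L837438 (flp_h L836925) L838838
theorem L838847 : sm gf N64234 = N64380 := rfl
theorem L838849 : sm ga N64380 = N64380 := ded_14_1 (flp_f L838847) L836967 L838847
theorem L838850 : sm gb N64380 = N64235 := ded_22_1 (flp_f L836968) L836961 L838847
theorem L838852 : sm gi N64380 = N64239 := ded_48_2 (flp_f L837011) (flp_i L836965) L838847
theorem L838854 : sm gh N64234 = N64381 := rfl
theorem L838856 : sm ga N64381 = N64381 := ded_17_1 (flp_h L838854) L836967 L838854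
theorem L838857 : sm gb N64381 = N64236 := ded_25_1 (flp_h L836976) L836961 L838854
theorem L838859 : sm ge N64381 = N64284 := ded_43_1 (flp_h L837503) (flp_e L836963) L838854
theorem L838861 : sm gh N64235 = N64382 := rfl
theorem L838863 : sm ga N64382 = N64238 := ded_17_1 (flp_h L836998) (flp_a L836970) L838861
theorem L838865 : sm gc N64382 = N64237 := ded_32_1 (flp_h L836984) (flp_c L836972) L838861
theorem L838867 : sm ge N64382 = N64299 := ded_43_1 (flp_h L838250) L838254 L838861
theorem L838869 : sm gf N64382 = N64236 := ded_47_1 (flp_h L836976) L836968 L838861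
theorem L838871 : sm gg N64382 = N64261 := ded_50_1 (flp_h L838316) L838320 L838861
theorem L838873 : sm gi N64382 = N64259 := ded_54_2 (flp_h L837253) (flp_i L836319) L836317 (flp_i L836974) L838861
theorem L838875 : sm ge N64239 = N64383 := rfl
theorem L838877 : sm ga N64383 = N64383 := ded_13_1 (flp_e L838875) L837013 L838875
theorem L838878 : sm gb N64383 = N64241 := ded_21_1 (flp_e L837023) (flp_b L837014) L838875
theorem L838880 : sm gc N64383 = N64277 := ded_28_1 (flp_e L838538) L838532 L838875
theorem L838882 : sm gj N64383 = N64256 := ded_42_2 (flp_e L838551) L838557 L838875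
theorem L838884 : sm gh N64383 = N64253 := ded_43_2 (flp_e L838512) L838520 L838875
theorem L838886 : sm gd N64383 = N64267 := ded_34_1 L837334 L837363 (flp_e L838195) L838203 L838875
theorem L838888 : sm gf N64383 = N64286 := ded_40_2 (flp_e L837518) (flp_f L834571) (flp_e L833638) L837011 L838875
theorem L838890 : sm gi N64240 = N64384 := rfl
theorem L838892 : sm ga N64384 = N64384 := ded_18_1 (flp_i L838890) L837018 L838890
theorem L838893 : sm gb N64384 = N64242 := ded_26_1 (flp_i L837037) (flp_b L837019) L838890
theorem L838895 : sm ge N64384 = N64287 := ded_44_1 (flp_i L837531) (flp_e L837021) L838890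
theorem L838897 : sm gf N64384 = N64258 := ded_48_1 (flp_i L838522) L838514 L838890
theorem L838899 : sm gh N64245 = N64385 := rfl

end Cfsg.Agent.Helper28.FicA
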