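import Cfsg.Agent.Helper28.FicB4

/-! # The Fi₂₃ presentation, cosets of the subgroup generated by a, …, i: the coset enumeration, part 5 (helper28; generated) -/

set_option autoImplicit false

noncomputable section

namespace Cfsg.Agent.Helper28.FicA

open Cfsg.Agent.Helper28.CosetTable

def N45850 : Q := sm gi N31418
def N45851 : Q := sm gh N31419
def N45853 : Q := sm gi N31421
def N45854 : Q := sm gh N31422
def N45856 : Q := sm gc N31424
def N45857 : Q := sm gh N31425
def N45859 : Q := sm gc N31427
def N45860 : Q := sm ge N31427
def N45861 : Q := sm gb N31428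
def N45862 : Q := sm gc N31429
def N45863 : Q := sm ge N31429
def N45864 : Q := sm gi N31429
def N45865 : Q := sm gb N31431
def N45866 : Q := sm ge N31431
def N45867 : Q := sm gi N31431
def N45868 : Q := sm gi N31432
def N45869 : Q := sm gh N31433
def N45870 : Q := sm ga N31434
def N45871 : Q := sm ge N31434
def N45872 : Q := sm gi N31434
def N45873 : Q := sm gd N31435
def N45874 : Q := sm gi N31435
def N45875 : Q := sm gh N31436
def N45876 : Q := sm gh N31437
def N45877 : Q := sm ga N31439
def N45878 : Q := sm gi N31439
def N45879 : Q := sm gh N31440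
def N45880 : Q := sm gi N31442
def N45881 : Q := sm gh N31443
def N45882 : Q := sm gd N31444
def N45883 : Q := sm gh N31445
def N45884 : Q := sm gd N31446
def N45885 : Q := sm ge N31447
def N45888 : Q := sm gi N31448
def N45890 : Q := sm gi N31449
def N45891 : Q := sm gh N31450
def N45892 : Q := sm ga N31451
def N45893 : Q := sm ge N31451
def N45894 : Q := sm gi N31451
def N45895 : Q := sm gd N31452
def N45896 : Q := sm gi N31452
def N45897 : Q := sm gh N31453
def N45898 : Q := sm gh N31454
def N45899 : Q := sm ge N31456
def N45900 : Q := sm gi N31456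
def N45901 : Q := sm gd N31457
def N45902 : Q := sm gi N31457
def N45903 : Q := sm gh N31458
def N45904 : Q := sm gh N31459
def N45905 : Q := sm gi N31459
def N45907 : Q := sm gd N31461
def N45909 : Q := sm gi N31463
def N45910 : Q := sm gh N31464
def N45912 : Q := sm gh N31466
def N45913 : Q := sm gd N31467
def N45914 : Q := sm ge N31468
def N45915 : Q := sm gd N31469
def N45916 : Q := sm gc N31470
def N45917 : Q := sm ge N31470
def N45918 : Q := sm gf N31471
def N45923 : Q := sm gi N31473
def N45931 : Q := sm ge N31477
def N45934 : Q := sm gh N31479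
def N45936 : Q := sm gi N31480
def N45938 : Q := sm gi N31481
def N45946 : Q := sm gi N31485
def N45947 : Q := sm gh N31486
def N45952 : Q := sm gi N31489
def N45953 : Q := sm gf N31490
def N45954 : Q := sm gi N31490
def N45967 : Q := sm gj N31501
def N45968 : Q := sm gh N31501
def N45969 : Q := sm gg N31502
def N45970 : Q := sm gh N31502
def N45972 : Q := sm gi N31503
def N45974 : Q := sm gi N31504
def N45984 : Q := sm gh N31510
def N45987 : Q := sm gc N31512
def N45990 : Q := sm gc N31514
def N46003 : Q := sm gi N31520
def N46014 : Q := sm gi N31531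
def N46015 : Q := sm gd N31533
def N46017 : Q := sm gc N31534
def N46018 : Q := sm ge N31534
def N46019 : Q := sm gi N31534
def N46021 : Q := sm ge N31536
def N46024 : Q := sm gh N31538
def N46026 : Q := sm gi N31539
def N46028 : Q := sm ga N31541
def N46029 : Q := sm gi N31541
def N46033 : Q := sm gd N31546
def N46034 : Q := sm gg N31547
def N46035 : Q := sm gh N31547
def N46036 : Q := sm gd N31548
def N46037 : Q := sm gi N31548
def N46038 : Q := sm gh N31549
def N46039 : Q := sm gd N31550
def N46040 : Q := sm gi N31550
def N46043 : Q := sm gi N31551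
def N46046 : Q := sm gi N31553
def N46049 : Q := sm gi N31555
def N46050 : Q := sm gf N31556
def N46052 : Q := sm gh N31557
def N46055 : Q := sm gi N31558
def N46058 : Q := sm gi N31559
def N46065 : Q := sm gc N31565
def N46068 : Q := sm gb N31567
def N46074 : Q := sm gb N31570
def N46080 : Q := sm ga N31573
def N46082 : Q := sm gi N31573
def N46084 : Q := sm gi N31574
def N46099 : Q := sm gi N31585
def N46102 : Q := sm gi N31588
def N46106 : Q := sm gc N31595
def N46107 : Q := sm ge N31595
def N46108 : Q := sm gi N31595
def N46109 : Q := sm gb N31597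
def N46110 : Q := sm ge N31597
def N46111 : Q := sm gi N31597
def N46112 : Q := sm gi N31598
def N46113 : Q := sm gh N31599
def N46114 : Q := sm ga N31600
def N46115 : Q := sm ge N31600
def N46116 : Q := sm gi N31600
def N46117 : Q := sm gd N31601
def N46118 : Q := sm gi N31601
def N46119 : Q := sm gh N31602
def N46120 : Q := sm gh N31603
def N46121 : Q := sm ga N31605
def N46122 : Q := sm gi N31605
def N46123 : Q := sm gh N31606
def N46124 : Q := sm gi N31608
def N46125 : Q := sm gh N31609
def N46126 : Q := sm gd N31610
def N46127 : Q := sm gh N31611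
def N46129 : Q := sm ge N31613
def N46130 : Q := sm gb N31614
def N46131 : Q := sm ge N31614
def N46132 : Q := sm gi N31614
def N46133 : Q := sm gf N31615
def N46134 : Q := sm gi N31615
def N46135 : Q := sm gh N31616
def N46136 : Q := sm ga N31617
def N46137 : Q := sm ge N31617
def N46138 : Q := sm gi N31617
def N46141 : Q := sm gh N31619
def N46142 : Q := sm gh N31620
def N46143 : Q := sm ge N31622
def N46144 : Q := sm gi N31622
def N46146 : Q := sm gi N31623
def N46147 : Q := sm gh N31624
def N46150 : Q := sm gh N31626
def N46151 : Q := sm gd N31627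
def N46152 : Q := sm gd N31628
def N46153 : Q := sm gi N31629
def N46154 : Q := sm gh N31630
def N46155 : Q := sm gd N31631
def N46156 : Q := sm gh N31632
def N46157 : Q := sm gd N31633
def N46158 : Q := sm ge N31634
def N46159 : Q := sm gd N31635
def N46160 : Q := sm gc N31636
def N46161 : Q := sm ge N31636
def N46162 : Q := sm gf N31637
def N46166 : Q := sm gh N31639
def N46168 : Q := sm gi N31640
def N46170 : Q := sm ge N31641
def N46172 : Q := sm gj N31643
def N46173 : Q := sm gh N31643
def N46174 : Q := sm gg N31644
def N46175 : Q := sm gh N31644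
def N46177 : Q := sm gi N31645
def N46179 : Q := sm gi N31646
def N46182 : Q := sm gb N31649
def N46184 : Q := sm gh N31650
def N46188 : Q := sm gc N31653
def N46189 : Q := sm ge N31653
def N46199 : Q := sm gg N31662
def N46200 : Q := sm gh N31662
def N46201 : Q := sm gd N31663
def N46202 : Q := sm gi N31663
def N46203 : Q := sm gh N31664
def N46204 : Q := sm gd N31665
def N46205 : Q := sm gi N31665
def N46206 : Q := sm gc N31666
def N46207 : Q := sm ge N31666
def N46208 : Q := sm gi N31666
def N46209 : Q := sm gc N31668
def N46210 : Q := sm gi N31668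
def N46211 : Q := sm gb N31670
def N46212 : Q := sm gi N31670
def N46213 : Q := sm gh N31671
def N46214 : Q := sm ga N31672
def N46217 : Q := sm gd N31675
def N46218 : Q := sm gi N31675
def N46219 : Q := sm gc N31676
def N46220 : Q := sm ge N31676
def N46221 : Q := sm gi N31676
def N46222 : Q := sm gb N31678
def N46223 : Q := sm ge N31678
def N46227 : Q := sm gb N31681
def N46230 : Q := sm ga N31683
def N46231 : Q := sm gi N31683
def N46236 : Q := sm gc N31689
def N46237 : Q := sm ge N31689
def N46238 : Q := sm gi N31689
def N46239 : Q := sm gb N31691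
def N46240 : Q := sm ge N31691
def N46241 : Q := sm gi N31691
def N46242 : Q := sm gi N31692
def N46243 : Q := sm gh N31693
def N46244 : Q := sm ga N31694
def N46245 : Q := sm ge N31694
def N46246 : Q := sm gi N31694
def N46247 : Q := sm gd N31695
def N46248 : Q := sm gi N31695
def N46249 : Q := sm gh N31696
def N46250 : Q := sm gh N31697
def N46251 : Q := sm ga N31699
def N46252 : Q := sm gi N31699
def N46253 : Q := sm gh N31700
def N46254 : Q := sm gi N31702
def N46255 : Q := sm gh N31703
def N46256 : Q := sm gd N31704
def N46257 : Q := sm gh N31705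
def N46258 : Q := sm gd N31706
def N46259 : Q := sm ge N31707
def N46261 : Q := sm gh N31708
def N46262 : Q := sm gd N31709
def N46263 : Q := sm gi N31709
def N46264 : Q := sm gc N31710
def N46265 : Q := sm ge N31710
def N46266 : Q := sm gi N31710
def N46267 : Q := sm gd N31712
def N46268 : Q := sm gi N31712
def N46269 : Q := sm gc N31713
def N46270 : Q := sm ge N31713
def N46271 : Q := sm gi N31713
def N46272 : Q := sm gb N31715
def N46273 : Q := sm ge N31715
def N46274 : Q := sm gi N31715
def N46275 : Q := sm gi N31716
def N46276 : Q := sm gh N31717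
def N46277 : Q := sm gb N31718
def N46278 : Q := sm gi N31718
def N46279 : Q := sm gh N31719
def N46280 : Q := sm ga N31720
def N46281 : Q := sm gi N31720
def N46282 : Q := sm gh N31721
def N46283 : Q := sm gi N31723
def N46284 : Q := sm gh N31724
def N46286 : Q := sm gc N31726
def N46287 : Q := sm ge N31726
def N46288 : Q := sm gi N31726
def N46289 : Q := sm gb N31728
def N46290 : Q := sm ge N31728
def N46291 : Q := sm gi N31728
def N46292 : Q := sm gi N31729
def N46293 : Q := sm gh N31730
def N46294 : Q := sm ga N31731
def N46295 : Q := sm ge N31731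
def N46296 : Q := sm gi N31731
def N46297 : Q := sm gd N31732
def N46298 : Q := sm gi N31732
def N46301 : Q := sm ga N31736
def N46302 : Q := sm gi N31736
def N46303 : Q := sm gh N31737
def N46304 : Q := sm gi N31739
def N46306 : Q := sm gd N31741
def N46308 : Q := sm gd N31743
def N46309 : Q := sm ge N31744
def N46310 : Q := sm gb N31745
def N46311 : Q := sm ge N31745
def N46312 : Q := sm gi N31745
def N46315 : Q := sm gh N31747
def N46316 : Q := sm ga N31748
def N46317 : Q := sm ge N31748
def N46318 : Q := sm gi N31748
def N46319 : Q := sm gd N31749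
def N46320 : Q := sm gi N31749
def N46321 : Q := sm gh N31750
def N46323 : Q := sm ge N31753
def N46324 : Q := sm gi N31753
def N46325 : Q := sm gd N31754
def N46326 : Q := sm gi N31754
def N46327 : Q := sm gh N31755
def N46328 : Q := sm gh N31756
def N46329 : Q := sm gi N31756
def N46330 : Q := sm gh N31757
def N46331 : Q := sm gd N31758
def N46333 : Q := sm gi N31760
def N46334 : Q := sm gh N31761
def N46335 : Q := sm gd N31762
def N46336 : Q := sm gh N31763
def N46337 : Q := sm gd N31764
def N46338 : Q := sm ge N31765
def N46339 : Q := sm gd N31766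
def N46340 : Q := sm gc N31767
def N46341 : Q := sm gh N31851
def N46342 : Q := sm gh N31853
def N46343 : Q := sm ge N31873
def N46344 : Q := sm gi N31873
def N46345 : Q := sm gf N31874
def N46346 : Q := sm gi N31874
def N46347 : Q := sm gi N31876
def N46348 : Q := sm gh N31877
def N46349 : Q := sm gj N31884
def N46350 : Q := sm gi N31895
def N46351 : Q := sm gh N31896
def N46352 : Q := sm gh N31898
def N46353 : Q := sm gi N31899
def N46354 : Q := sm gh N31900
def N46355 : Q := sm gi N31902
def N46356 : Q := sm gh N31903
def N46357 : Q := sm gd N31904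
def N46358 : Q := sm gi N31907
def N46359 : Q := sm gi N31908
def N46360 : Q := sm gh N31909
def N46361 : Q := sm gi N31910
def N46362 : Q := sm gi N31911
def N46363 : Q := sm gh N31912
def N46364 : Q := sm gh N31913
def N46365 : Q := sm gi N31915
def N46366 : Q := sm gh N31916
def N46367 : Q := sm gi N31918
def N46368 : Q := sm gh N31919
def N46369 : Q := sm gd N31920
def N46370 : Q := sm gh N31921
def N46371 : Q := sm gd N31922
def N46372 : Q := sm ge N31923
def N46373 : Q := sm gh N31975
def N46374 : Q := sm gi N31995
def N46375 : Q := sm gh N31996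
def N46376 : Q := sm gh N31998
def N46377 : Q := sm gh N32000
def N46378 : Q := sm gi N32002
def N46379 : Q := sm gh N32003
def N46380 : Q := sm gd N32004
def N46381 : Q := sm ge N32014
def N46382 : Q := sm gi N32014
def N46383 : Q := sm gd N32015
def N46384 : Q := sm gf N32015
def N46385 : Q := sm gi N32015
def N46386 : Q := sm gg N32017
def N46387 : Q := sm ge N32029
def N46388 : Q := sm gi N32029
def N46389 : Q := sm gf N32030
def N46390 : Q := sm gi N32030
def N46391 : Q := sm gg N32032
def N46392 : Q := sm gi N32032
def N46393 : Q := sm gh N32033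
def N46394 : Q := sm ge N32035
def N46395 : Q := sm gi N32035
def N46396 : Q := sm gf N32036
def N46397 : Q := sm gi N32036
def N46398 : Q := sm gh N32037
def N46399 : Q := sm gg N32038
def N46400 : Q := sm gi N32038
def N46401 : Q := sm gh N32039
def N46402 : Q := sm gd N32040
def N46403 : Q := sm gj N32041
def N46404 : Q := sm gi N32041
def N46405 : Q := sm gh N32042
def N46406 : Q := sm gi N32044
def N46407 : Q := sm gj N32047
def N46408 : Q := sm gi N32047
def N46409 : Q := sm gh N32062
def N46410 : Q := sm ge N32063
def N46411 : Q := sm gi N32063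
def N46412 : Q := sm gd N32064
def N46413 : Q := sm gi N32064
def N46414 : Q := sm gh N32065
def N46415 : Q := sm gh N32066
def N46416 : Q := sm gi N32068
def N46417 : Q := sm gh N32069
def N46418 : Q := sm gi N32071
def N46419 : Q := sm gh N32072
def N46420 : Q := sm gd N32073
def N46421 : Q := sm gh N32074
def N46422 : Q := sm gd N32075
def N46423 : Q := sm ge N32076
def N46424 : Q := sm gi N32080
def N46425 : Q := sm gh N32082
def N46426 : Q := sm ge N32085
def N46427 : Q := sm gi N32085
def N46428 : Q := sm gi N32086
def N46429 : Q := sm gh N32087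
def N46430 : Q := sm gh N32089
def N46431 : Q := sm gd N32090
def N46432 : Q := sm gi N32092
def N46433 : Q := sm gh N32093
def N46434 : Q := sm gd N32094
def N46435 : Q := sm gh N32095
def N46436 : Q := sm gd N32096
def N46437 : Q := sm ge N32097
def N46438 : Q := sm gd N32098
def N46439 : Q := sm gc N32099
def N46440 : Q := sm ge N32099
def N46441 : Q := sm gf N32100
def N46442 : Q := sm gb N32145
def N46443 : Q := sm gi N32145
def N46444 : Q := sm gh N32147
def N46445 : Q := sm gb N32148
def N46446 : Q := sm gi N32148
def N46447 : Q := sm gh N32150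
def N46448 : Q := sm ga N32151
def N46449 : Q := sm gi N32151
def N46450 : Q := sm gh N32153
def N46451 : Q := sm gi N32157
def N46452 : Q := sm gh N32159
def N46453 : Q := sm gd N32162
def N46454 : Q := sm gb N32182
def N46455 : Q := sm gi N32182
def N46456 : Q := sm ga N32185
def N46457 : Q := sm ge N32185
def N46458 : Q := sm gi N32185
def N46459 : Q := sm gd N32186
def N46460 : Q := sm gi N32186
def N46461 : Q := sm gh N32187
def N46462 : Q := sm ga N32190
def N46463 : Q := sm gi N32190
def N46464 : Q := sm gh N32191
def N46465 : Q := sm gi N32193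
def N46466 : Q := sm gh N32194
def N46467 : Q := sm gd N32195
def N46468 : Q := sm gh N32196
def N46469 : Q := sm gd N32197
def N46470 : Q := sm ge N32198
def N46471 : Q := sm gi N32201
def N46472 : Q := sm gh N32203
def N46473 : Q := sm ga N32204
def N46474 : Q := sm ge N32204
def N46475 : Q := sm gi N32204
def N46476 : Q := sm gd N32205
def N46477 : Q := sm gf N32205
def N46478 : Q := sm gi N32205
def N46479 : Q := sm gh N32206
def N46480 : Q := sm gg N32207
def N46481 : Q := sm gi N32207
def N46482 : Q := sm gh N32208
def N46483 : Q := sm ga N32210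
def N46484 : Q := sm ge N32210
def N46485 : Q := sm gi N32210
def N46486 : Q := sm gf N32211
def N46487 : Q := sm gi N32211
def N46488 : Q := sm gh N32212
def N46489 : Q := sm gi N32213
def N46490 : Q := sm gh N32214
def N46491 : Q := sm ge N32216
def N46492 : Q := sm gi N32216
def N46493 : Q := sm gf N32217
def N46494 : Q := sm gi N32217
def N46495 : Q := sm gh N32218
def N46496 : Q := sm gg N32219
def N46497 : Q := sm gi N32219
def N46498 : Q := sm gh N32220
def N46499 : Q := sm gd N32221
def N46500 : Q := sm gj N32222
def N46501 : Q := sm gi N32222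
def N46502 : Q := sm gh N32223
def N46503 : Q := sm gf N32225
def N46504 : Q := sm gi N32225
def N46505 : Q := sm gh N32226
def N46506 : Q := sm gg N32227
def N46507 : Q := sm gi N32227
def N46508 : Q := sm gh N32228
def N46509 : Q := sm gd N32229
def N46510 : Q := sm gj N32230
def N46511 : Q := sm gi N32230
def N46512 : Q := sm gh N32231
def N46513 : Q := sm gd N32232
def N46514 : Q := sm ge N32233
def N46515 : Q := sm gi N32234
def N46516 : Q := sm gh N32235
def N46517 : Q := sm gj N32238
def N46518 : Q := sm gi N32238
def N46519 : Q := sm gi N32241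
def N46520 : Q := sm gh N32265
def N46521 : Q := sm gi N32265
def N46522 : Q := sm ge N32274
def N46523 : Q := sm gh N32322
def N46524 : Q := sm gd N32330
def N46525 : Q := sm ge N32331
def N46526 : Q := sm gi N32353
def N46527 : Q := sm gf N32363
def N46528 : Q := sm gj N33488
def N46529 : Q := sm gi N33719
def N46530 : Q := sm gi N33720
def N46531 : Q := sm gi N33789
def N46532 : Q := sm gi N33821
def N46533 : Q := sm gi N33867
def N46534 : Q := sm gi N33875
def N46535 : Q := sm gj N33905
def N46536 : Q := sm gg N34354
def N46537 : Q := sm gj N34378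
def N46538 : Q := sm gj N34384
def N46539 : Q := sm gi N34462
def N46540 : Q := sm gi N34463
def N46541 : Q := sm gd N34509
def N46542 : Q := sm gi N34509
def N46543 : Q := sm gi N34516
def N46544 : Q := sm gd N34647
def N46545 : Q := sm gi N34647
def N46546 : Q := sm gc N34689
def N46547 : Q := sm gi N34689
def N46548 : Q := sm gg N34698
def N46549 : Q := sm gi N34698
def N46550 : Q := sm gj N34701
def N46551 : Q := sm gi N34701
def N46552 : Q := sm gj N34714
def N46553 : Q := sm gj N34721
def N46554 : Q := sm gd N34772
def N46555 : Q := sm gi N34772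
def N46556 : Q := sm gi N34811
def N46557 : Q := sm gi N34812
def N46558 : Q := sm gc N34888
def N46559 : Q := sm gi N34888
def N46560 : Q := sm gc N34894
def N46561 : Q := sm gi N34894
def N46562 : Q := sm gb N34896
def N46563 : Q := sm gi N34896
def N46564 : Q := sm gh N34897
def N46565 : Q := sm gg N35175
def N46566 : Q := sm gi N35175
def N46567 : Q := sm gj N35216
def N46568 : Q := sm gf N41535
def N46569 : Q := sm gi N41535
def N46570 : Q := sm gh N41536
def N46571 : Q := sm gf N41564
def N46572 : Q := sm gi N41564
def N46573 : Q := sm gh N41565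
def N46574 : Q := sm gf N41583
def N46575 : Q := sm gi N41583
def N46576 : Q := sm gh N41584
def N46577 : Q := sm gg N41585
def N46578 : Q := sm gi N41585
def N46579 : Q := sm gh N41586
def N46580 : Q := sm gi N41614
def N46581 : Q := sm gi N41615
def N46582 : Q := sm gh N41616
def N46583 : Q := sm gh N41628
def N46584 : Q := sm gg N41629
def N46585 : Q := sm gi N41629
def N46586 : Q := sm gh N41630
def N46587 : Q := sm gh N41638
def N46588 : Q := sm gf N41655
def N46589 : Q := sm gi N41655
def N46590 : Q := sm gh N41656
def N46591 : Q := sm gg N41657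
def N46592 : Q := sm gi N41657
def N46593 : Q := sm gh N41658
def N46594 : Q := sm gj N41660
def N46595 : Q := sm gi N41660
def N46596 : Q := sm gh N41661
def N46597 : Q := sm gd N41662
def N46598 : Q := sm gb N41669
def N46599 : Q := sm gi N41669
def N46600 : Q := sm gh N41670
def N46601 : Q := sm gi N41671
def N46602 : Q := sm gh N41672
def N46603 : Q := sm gb N41677
def N46604 : Q := sm gi N41677
def N46605 : Q := sm gh N41679
def N46606 : Q := sm gb N41680
def N46607 : Q := sm gi N41680
def N46608 : Q := sm gh N41681
def N46609 : Q := sm ga N41682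
def N46610 : Q := sm gi N41682
def N46611 : Q := sm gh N41683
def N46612 : Q := sm gi N41685
def N46613 : Q := sm gh N41686
def N46614 : Q := sm gd N41687
def N46615 : Q := sm gg N41802
def N46616 : Q := sm gh N41802
def N46617 : Q := sm gf N41803
def N46618 : Q := sm gj N41811
def N46619 : Q := sm gh N41811
def N46620 : Q := sm gd N41813
def N46621 : Q := sm gc N41814
def N46622 : Q := sm gj N41847
def N46623 : Q := sm gj N41849
def N46624 : Q := sm gg N41893
def N46625 : Q := sm gh N41893
def N46626 : Q := sm gf N41894
def N46627 : Q := sm gj N41894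
def N46628 : Q := sm gh N41894
def N46629 : Q := sm gd N41895
def N46630 : Q := sm gi N41895
def N46631 : Q := sm gh N41896
def N46632 : Q := sm gd N41897
def N46633 : Q := sm gi N41897
def N46634 : Q := sm ge N41898
def N46635 : Q := sm gi N41898
def N46636 : Q := sm gh N41901
def N46637 : Q := sm gh N41903
def N46638 : Q := sm gi N41904
def N46639 : Q := sm gc N41905
def N46640 : Q := sm gi N41905
def N46641 : Q := sm gg N41917
def N46642 : Q := sm gh N41917
def N46643 : Q := sm gi N41919
def N46644 : Q := sm gi N41920
def N46645 : Q := sm gd N41924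
def N46646 : Q := sm gi N41924
def N46647 : Q := sm gf N41929
def N46648 : Q := sm gi N41929
def N46649 : Q := sm gh N41930
def N46650 : Q := sm gj N41938
def N46651 : Q := sm gh N41938
def N46652 : Q := sm gd N41939
def N46653 : Q := sm gi N41939
def N46654 : Q := sm gd N41942
def N46655 : Q := sm gi N41942
def N46656 : Q := sm gc N41943
def N46657 : Q := sm ge N41943
def N46658 : Q := sm gi N41943
def N46659 : Q := sm gf N41948
def N46660 : Q := sm gi N41948
def N46661 : Q := sm gh N41949
def N46662 : Q := sm gg N41950
def N46663 : Q := sm gi N41950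
def N46664 : Q := sm gh N41951
def N46665 : Q := sm gi N41958
def N46666 : Q := sm gf N41993
def N46667 : Q := sm gj N41993
def N46668 : Q := sm gh N41993
def N46669 : Q := sm gd N41994
def N46670 : Q := sm gi N41994
def N46671 : Q := sm gj N41995
def N46672 : Q := sm gh N41995
def N46673 : Q := sm gh N41996
def N46674 : Q := sm gd N41997
def N46675 : Q := sm gi N41997
def N46676 : Q := sm gc N41998
def N46677 : Q := sm ge N41998
def N46678 : Q := sm gi N41998
def N46679 : Q := sm gd N42000
def N46680 : Q := sm gi N42000
def N46681 : Q := sm ge N42001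
def N46682 : Q := sm gi N42001
def N46683 : Q := sm gi N42003
def N46684 : Q := sm gh N42004
def N46685 : Q := sm gg N42008
def N46686 : Q := sm gh N42008
def N46687 : Q := sm gd N42009
def N46688 : Q := sm gi N42009
def N46689 : Q := sm gd N42010
def N46690 : Q := sm gi N42010
def N46691 : Q := sm gc N42011
def N46692 : Q := sm gi N42011
def N46693 : Q := sm gb N42013
def N46694 : Q := sm gi N42013
def N46695 : Q := sm gh N42014
def N46696 : Q := sm gi N42017
def N46697 : Q := sm gi N42018
def N46698 : Q := sm gb N42022
def N46699 : Q := sm gi N42022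
def N46700 : Q := sm ga N42024
def N46701 : Q := sm gi N42024
def N46702 : Q := sm gh N42025
def N46703 : Q := sm gg N42027
def N46704 : Q := sm gf N42028
def N46705 : Q := sm gj N42028
def N46706 : Q := sm gh N42028
def N46707 : Q := sm gd N42029
def N46708 : Q := sm gi N42029
def N46709 : Q := sm gi N42031
def N46710 : Q := sm ge N42032
def N46711 : Q := sm gi N42032
def N46712 : Q := sm gi N42034
def N46713 : Q := sm gh N42036
def N46714 : Q := sm gf N42037
def N46715 : Q := sm gj N42037
def N46716 : Q := sm gj N42039
def N46717 : Q := sm gh N42039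
def N46718 : Q := sm gd N42041
def N46719 : Q := sm gi N42041
def N46720 : Q := sm ge N42042
def N46721 : Q := sm gi N42042
def N46722 : Q := sm gf N42047
def N46723 : Q := sm gi N42047
def N46724 : Q := sm gh N42048
def N46725 : Q := sm gg N42049
def N46726 : Q := sm gi N42049
def N46727 : Q := sm gh N42050
def N46728 : Q := sm gg N42052
def N46729 : Q := sm gi N42053
def N46730 : Q := sm gh N42058
def N46731 : Q := sm gj N42060
def N46732 : Q := sm gh N42060
def N46733 : Q := sm gh N42061
def N46734 : Q := sm gd N42062
def N46735 : Q := sm gi N42062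
def N46736 : Q := sm ge N42063
def N46737 : Q := sm gi N42063
def N46738 : Q := sm gg N42065
def N46739 : Q := sm gh N42065
def N46740 : Q := sm gd N42066
def N46741 : Q := sm gi N42066
def N46742 : Q := sm gd N42067
def N46743 : Q := sm gi N42067
def N46744 : Q := sm gc N42068
def N46745 : Q := sm ge N42068
def N46746 : Q := sm gi N42068
def N46747 : Q := sm gb N42070
def N46748 : Q := sm ge N42070
def N46749 : Q := sm gi N42070
def N46750 : Q := sm gf N42071
def N46751 : Q := sm gi N42071
def N46752 : Q := sm gh N42072
def N46753 : Q := sm gf N42075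
def N46754 : Q := sm gi N42075
def N46755 : Q := sm gh N42076
def N46756 : Q := sm gg N42077
def N46757 : Q := sm gi N42077
def N46758 : Q := sm gh N42078
def N46759 : Q := sm gj N42080
def N46760 : Q := sm gi N42080
def N46761 : Q := sm gh N42081
def N46762 : Q := sm gi N42084
def N46763 : Q := sm gc N42085
def N46764 : Q := sm gi N42085
def N46765 : Q := sm gi N42089
def N46766 : Q := sm gi N42091
def N46767 : Q := sm gi N42105
def N46768 : Q := sm ge N42141
def N46769 : Q := sm gj N42141
def N46770 : Q := sm gh N42141
def N46771 : Q := sm gh N42142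
def N46772 : Q := sm gd N42143
def N46773 : Q := sm gi N42143
def N46774 : Q := sm gc N42144
def N46775 : Q := sm ge N42144
def N46776 : Q := sm gi N42144
def N46777 : Q := sm gg N42146
def N46778 : Q := sm gh N42146
def N46779 : Q := sm gd N42147
def N46780 : Q := sm gi N42147
def N46781 : Q := sm gd N42148
def N46782 : Q := sm gi N42148
def N46783 : Q := sm gc N42149
def N46784 : Q := sm ge N42149
def N46785 : Q := sm gi N42149
def N46786 : Q := sm gb N42151
def N46787 : Q := sm ge N42151
def N46788 : Q := sm gi N42151
def N46789 : Q := sm gi N42152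
def N46790 : Q := sm gh N42153
def N46791 : Q := sm ge N42154
def N46792 : Q := sm gi N42154
def N46793 : Q := sm gf N42156
def N46794 : Q := sm gi N42156
def N46795 : Q := sm gh N42157
def N46796 : Q := sm gh N42159
def N46797 : Q := sm gh N42164
def N46798 : Q := sm gd N42165
def N46799 : Q := sm gi N42165
def N46800 : Q := sm gc N42166
def N46801 : Q := sm ge N42166
def N46802 : Q := sm gi N42166
def N46803 : Q := sm gc N42168
def N46804 : Q := sm gi N42168
def N46805 : Q := sm gb N42170
def N46806 : Q := sm gi N42170
def N46807 : Q := sm gh N42171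
def N46808 : Q := sm ga N42172
def N46809 : Q := sm gi N42172
def N46810 : Q := sm gh N42173
def N46811 : Q := sm gi N42175
def N46812 : Q := sm gc N42176
def N46813 : Q := sm gi N42176
def N46814 : Q := sm gb N42178
def N46815 : Q := sm ge N42178
def N46816 : Q := sm gi N42178
def N46817 : Q := sm gi N42179
def N46818 : Q := sm gh N42180
def N46819 : Q := sm gi N42181
def N46820 : Q := sm gh N42182
def N46821 : Q := sm gi N42183
def N46822 : Q := sm gh N42184
def N46823 : Q := sm gi N42186
def N46824 : Q := sm gh N42187
def N46825 : Q := sm gd N42188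
def N46826 : Q := sm gf N42190
def N46827 : Q := sm gj N42190
def N46828 : Q := sm gh N42190
def N46829 : Q := sm gd N42191
def N46830 : Q := sm gi N42191
def N46831 : Q := sm gj N42192
def N46832 : Q := sm gh N42192
def N46833 : Q := sm gh N42193
def N46834 : Q := sm gd N42194
def N46835 : Q := sm gi N42194
def N46836 : Q := sm gc N42195
def N46837 : Q := sm ge N42195
def N46838 : Q := sm gi N42195
def N46839 : Q := sm gi N42197
def N46840 : Q := sm ge N42198
def N46841 : Q := sm gi N42198
def N46842 : Q := sm gi N42200
def N46843 : Q := sm gi N42201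
def N46844 : Q := sm gh N42202
def N46845 : Q := sm gh N42204
def N46846 : Q := sm ge N42208
def N46847 : Q := sm gj N42208
def N46848 : Q := sm gh N42208
def N46849 : Q := sm gh N42209
def N46850 : Q := sm gd N42210
def N46851 : Q := sm gi N42210
def N46852 : Q := sm gc N42211
def N46853 : Q := sm ge N42211
def N46854 : Q := sm gi N42211
def N46855 : Q := sm gg N42213
def N46856 : Q := sm gh N42213
def N46857 : Q := sm gd N42214
def N46858 : Q := sm gi N42214
def N46859 : Q := sm gd N42215
def N46860 : Q := sm gi N42215
def N46861 : Q := sm gc N42216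
def N46862 : Q := sm ge N42216
def N46863 : Q := sm gi N42216
def N46864 : Q := sm gi N42218
def N46865 : Q := sm gf N42219
def N46866 : Q := sm gi N42219
def N46867 : Q := sm gh N42220
def N46868 : Q := sm gf N42223
def N46869 : Q := sm gi N42223
def N46870 : Q := sm gh N42224
def N46871 : Q := sm gg N42225
def N46872 : Q := sm gi N42225
def N46873 : Q := sm gh N42226
def N46874 : Q := sm gj N42228
def N46875 : Q := sm gi N42228
def N46876 : Q := sm gh N42229
def N46877 : Q := sm gh N42231
def N46878 : Q := sm gi N42232
def N46879 : Q := sm gc N42233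
def N46880 : Q := sm gi N42233
def N46881 : Q := sm gi N42237
def N46882 : Q := sm gh N42238
def N46883 : Q := sm gh N42240
def N46884 : Q := sm gj N42242
def N46885 : Q := sm gh N42242
def N46886 : Q := sm gg N42243
def N46887 : Q := sm gh N42243
def N46888 : Q := sm gd N42244
def N46889 : Q := sm gi N42244
def N46890 : Q := sm gd N42245
def N46891 : Q := sm gi N42245
def N46892 : Q := sm gc N42246
def N46893 : Q := sm ge N42246
def N46894 : Q := sm gi N42246
def N46895 : Q := sm gb N42248
def N46896 : Q := sm ge N42248
def N46897 : Q := sm gi N42248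
def N46898 : Q := sm gf N42249
def N46899 : Q := sm gi N42249
def N46900 : Q := sm gh N42250
def N46901 : Q := sm gh N42251
def N46902 : Q := sm gd N42252
def N46903 : Q := sm gi N42252
def N46904 : Q := sm gc N42253
def N46905 : Q := sm ge N42253
def N46906 : Q := sm gi N42253
def N46907 : Q := sm gc N42255
def N46908 : Q := sm ge N42255
def N46909 : Q := sm gi N42255
def N46910 : Q := sm gb N42257
def N46911 : Q := sm ge N42257
def N46912 : Q := sm gi N42257
def N46913 : Q := sm gf N42258
def N46914 : Q := sm gi N42258
def N46915 : Q := sm gh N42259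
def N46916 : Q := sm ga N42260
def N46917 : Q := sm ge N42260
def N46918 : Q := sm gi N42260
def N46919 : Q := sm gf N42261
def N46920 : Q := sm gi N42261
def N46921 : Q := sm gh N42262
def N46922 : Q := sm gg N42263
def N46923 : Q := sm gi N42263
def N46924 : Q := sm gh N42264
def N46925 : Q := sm gf N42266
def N46926 : Q := sm gi N42266
def N46927 : Q := sm gh N42267
def N46928 : Q := sm gg N42268
def N46929 : Q := sm gi N42268
def N46930 : Q := sm gh N42269
def N46931 : Q := sm gj N42271
def N46932 : Q := sm gi N42271
def N46933 : Q := sm gh N42272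
def N46934 : Q := sm gd N42273
def N46935 : Q := sm gi N42274
def N46936 : Q := sm gh N42275
def N46937 : Q := sm gi N42278
def N46938 : Q := sm gc N42279
def N46939 : Q := sm gi N42279
def N46940 : Q := sm gb N42281
def N46941 : Q := sm ge N42281
def N46942 : Q := sm gi N42281
def N46943 : Q := sm gi N42282
def N46944 : Q := sm gh N42283
def N46945 : Q := sm gb N42284
def N46946 : Q := sm gi N42284
def N46947 : Q := sm gh N42285
def N46948 : Q := sm ga N42286
def N46949 : Q := sm gi N42286
def N46950 : Q := sm gh N42287
def N46951 : Q := sm gi N42289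
def N46952 : Q := sm gh N42290
def N46953 : Q := sm gd N42291
def N46954 : Q := sm gb N42294
def N46955 : Q := sm gi N42294
def N46956 : Q := sm gh N42296
def N46957 : Q := sm ga N42297
def N46958 : Q := sm ge N42297
def N46959 : Q := sm gi N42297
def N46960 : Q := sm gi N42298
def N46961 : Q := sm gh N42299
def N46962 : Q := sm gh N42300
def N46963 : Q := sm ga N42302
def N46964 : Q := sm gi N42302
def N46965 : Q := sm gh N42303
def N46966 : Q := sm gi N42305
def N46967 : Q := sm gh N42306
def N46968 : Q := sm gd N42307
def N46969 : Q := sm gh N42308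
def N46970 : Q := sm gd N42309
def N46971 : Q := sm ge N42310
def N46972 : Q := sm gi N42312
def N46973 : Q := sm gd N42315
def N46974 : Q := sm gi N42315
def N46975 : Q := sm gi N42316
def N46976 : Q := sm gd N42319
def N46977 : Q := sm gi N42319
def N46978 : Q := sm gi N42321
def N46979 : Q := sm ge N42328
def N46980 : Q := sm gi N42328
def N46981 : Q := sm gi N42330
def N46982 : Q := sm gh N42331
def N46983 : Q := sm gc N42335
def N46984 : Q := sm gi N42335
def N46985 : Q := sm gi N42337
def N46986 : Q := sm gd N42341
def N46987 : Q := sm gi N42341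
def N46988 : Q := sm gi N42342
def N46989 : Q := sm gb N42344
def N46990 : Q := sm gi N42344
def N46991 : Q := sm gh N42345
def N46992 : Q := sm gg N42347
def N46993 : Q := sm gh N42347
def N46994 : Q := sm gj N42348
def N46995 : Q := sm gh N42348
def N46996 : Q := sm gi N42349
def N46997 : Q := sm gg N42352
def N46998 : Q := sm gh N42352
def N46999 : Q := sm gf N42353
def N47000 : Q := sm gj N42353
def N47001 : Q := sm gh N42353
def N47002 : Q := sm gd N42354
def N47003 : Q := sm gi N42354
def N47004 : Q := sm gh N42355
def N47005 : Q := sm gi N42356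
def N47006 : Q := sm ge N42357
def N47007 : Q := sm gi N42357
def N47008 : Q := sm gh N42360
def N47009 : Q := sm gj N42361
def N47010 : Q := sm gh N42361
def N47011 : Q := sm gh N42362
def N47012 : Q := sm gi N42363
def N47013 : Q := sm gc N42364
def N47014 : Q := sm gi N42364
def N47015 : Q := sm gi N42366
def N47016 : Q := sm gj N42368
def N47017 : Q := sm gh N42368
def N47018 : Q := sm gd N42369
def N47019 : Q := sm gi N42369
def N47020 : Q := sm gj N42370
def N47021 : Q := sm gh N42370
def N47022 : Q := sm gh N42371
def N47023 : Q := sm gd N42372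
def N47024 : Q := sm gi N42372
def N47025 : Q := sm gc N42373
def N47026 : Q := sm ge N42373
def N47027 : Q := sm gi N42373
def N47028 : Q := sm gd N42375
def N47029 : Q := sm gi N42375
def N47030 : Q := sm gi N42376
def N47031 : Q := sm gf N42378
def N47032 : Q := sm gi N42378
def N47033 : Q := sm gh N42379
def N47034 : Q := sm gi N42380
def N47035 : Q := sm gh N42381
def N47036 : Q := sm gg N42383
def N47037 : Q := sm gh N42383
def N47038 : Q := sm gi N42384
def N47039 : Q := sm gd N42385
def N47040 : Q := sm gi N42385
def N47041 : Q := sm gi N42386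
def N47042 : Q := sm gb N42388
def N47043 : Q := sm gi N42388
def N47044 : Q := sm gh N42389
def N47045 : Q := sm gi N42395
def N47046 : Q := sm gh N42398
def N47047 : Q := sm ga N42399
def N47048 : Q := sm gi N42399
def N47049 : Q := sm gh N42400
def N47050 : Q := sm gh N42402
def N47051 : Q := sm gj N42403
def N47052 : Q := sm gh N42403
def N47053 : Q := sm gd N42404
def N47054 : Q := sm gi N42404
def N47055 : Q := sm gi N42406
def N47056 : Q := sm gj N42412
def N47057 : Q := sm gh N42412
def N47058 : Q := sm gd N42413
def N47059 : Q := sm gi N42413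
def N47060 : Q := sm gj N42414
def N47061 : Q := sm gh N42414
def N47062 : Q := sm gh N42415
def N47063 : Q := sm gd N42416
def N47064 : Q := sm gi N42416
def N47065 : Q := sm gc N42417
def N47066 : Q := sm ge N42417
def N47067 : Q := sm gi N42417
def N47068 : Q := sm gi N42419
def N47069 : Q := sm ge N42420
def N47070 : Q := sm gi N42420
def N47071 : Q := sm gi N42422
def N47072 : Q := sm gh N42423
def N47073 : Q := sm gg N42427
def N47074 : Q := sm gi N42428
def N47075 : Q := sm gi N42429
def N47076 : Q := sm gc N42430
def N47077 : Q := sm gi N42430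
def N47078 : Q := sm gb N42432
def N47079 : Q := sm gi N42432
def N47080 : Q := sm gh N42433
def N47081 : Q := sm gj N42435
def N47082 : Q := sm gh N42435
def N47083 : Q := sm gh N42436
def N47084 : Q := sm gd N42437
def N47085 : Q := sm gi N42437
def N47086 : Q := sm gc N42438
def N47087 : Q := sm ge N42438
def N47088 : Q := sm gi N42438
def N47089 : Q := sm gg N42440
def N47090 : Q := sm gd N42441
def N47091 : Q := sm gi N42441
def N47092 : Q := sm gd N42442
def N47093 : Q := sm gi N42442
def N47094 : Q := sm gc N42443
def N47095 : Q := sm ge N42443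
def N47096 : Q := sm gi N42443
def N47097 : Q := sm gb N42445
def N47098 : Q := sm ge N42445
def N47099 : Q := sm gi N42445
def N47100 : Q := sm gf N42446
def N47101 : Q := sm gi N42446
def N47102 : Q := sm gh N42447
def N47103 : Q := sm gi N42450
def N47104 : Q := sm gh N42451
def N47105 : Q := sm gg N42452
def N47106 : Q := sm gi N42452
def N47107 : Q := sm gh N42453
def N47108 : Q := sm gj N42455
def N47109 : Q := sm gi N42455
def N47110 : Q := sm gh N42456
def N47111 : Q := sm gi N42464
def N47112 : Q := sm gh N42465
def N47113 : Q := sm ga N42466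
def N47114 : Q := sm gi N42466
def N47115 : Q := sm gh N42467
def N47116 : Q := sm gi N42480
def N47117 : Q := sm gh N42481
def N47118 : Q := sm gi N42486
def N47119 : Q := sm gd N42492
def N47120 : Q := sm gi N42492
def N47121 : Q := sm gi N42493
def N47122 : Q := sm gh N42496
def N47123 : Q := sm gd N42499
def N47124 : Q := sm gi N42499
def N47125 : Q := sm gi N42500
def N47126 : Q := sm gi N42502
def N47127 : Q := sm ge N42512
def N47128 : Q := sm gi N42512
def N47129 : Q := sm gf N42514
def N47130 : Q := sm gi N42514
def N47131 : Q := sm gh N42515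
def N47132 : Q := sm gi N42516
def N47133 : Q := sm gh N42517
def N47134 : Q := sm gd N42520
def N47135 : Q := sm gi N42520
def N47136 : Q := sm gc N42522
def N47137 : Q := sm gi N42522
def N47138 : Q := sm gb N42524
def N47139 : Q := sm gi N42524
def N47140 : Q := sm gh N42525
def N47141 : Q := sm gd N42528
def N47142 : Q := sm gi N42528
def N47143 : Q := sm gc N42529
def N47144 : Q := sm ge N42529
def N47145 : Q := sm gi N42529
def N47146 : Q := sm gc N42531
def N47147 : Q := sm gi N42531
def N47148 : Q := sm gb N42533
def N47149 : Q := sm gi N42533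
def N47150 : Q := sm gh N42534
def N47151 : Q := sm ga N42535
def N47152 : Q := sm gi N42535
def N47153 : Q := sm gh N42536
def N47154 : Q := sm gg N42538
def N47155 : Q := sm gh N42538
def N47156 : Q := sm gf N42539
def N47157 : Q := sm gj N42539
def N47158 : Q := sm gh N42539
def N47159 : Q := sm gd N42540
def N47160 : Q := sm gi N42540
def N47161 : Q := sm gh N42541
def N47162 : Q := sm gi N42542
def N47163 : Q := sm gf N42548
def N47164 : Q := sm gj N42548
def N47165 : Q := sm gh N42548
def N47166 : Q := sm gd N42549
def N47167 : Q := sm gi N42549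
def N47168 : Q := sm gj N42550
def N47169 : Q := sm gh N42550
def N47170 : Q := sm gh N42551
def N47171 : Q := sm gd N42552
def N47172 : Q := sm gi N42552
def N47173 : Q := sm gc N42553
def N47174 : Q := sm ge N42553
def N47175 : Q := sm gi N42553
def N47176 : Q := sm gi N42555
def N47177 : Q := sm ge N42556
def N47178 : Q := sm gi N42556
def N47179 : Q := sm gi N42558
def N47180 : Q := sm gh N42559
def N47181 : Q := sm gg N42563
def N47182 : Q := sm gh N42563
def N47183 : Q := sm gd N42564
def N47184 : Q := sm gi N42564
def N47185 : Q := sm gi N42565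
def N47186 : Q := sm gc N42566
def N47187 : Q := sm gi N42566
def N47188 : Q := sm gb N42568
def N47189 : Q := sm gi N42568
def N47190 : Q := sm gh N42569
def N47191 : Q := sm ge N42571
def N47192 : Q := sm gj N42571
def N47193 : Q := sm gh N42571
def N47194 : Q := sm gh N42572
def N47195 : Q := sm gd N42573
def N47196 : Q := sm gi N42573
def N47197 : Q := sm gc N42574
def N47198 : Q := sm ge N42574
def N47199 : Q := sm gi N42574
def N47200 : Q := sm gg N42576
def N47201 : Q := sm gh N42576
def N47202 : Q := sm gd N42577
def N47203 : Q := sm gi N42577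
def N47204 : Q := sm gd N42578
def N47205 : Q := sm gi N42578
def N47206 : Q := sm gc N42579
def N47207 : Q := sm ge N42579
def N47208 : Q := sm gi N42579
def N47209 : Q := sm gb N42581
def N47210 : Q := sm ge N42581
def N47211 : Q := sm gi N42581
def N47212 : Q := sm gf N42582
def N47213 : Q := sm gi N42582
def N47214 : Q := sm gh N42583
def N47215 : Q := sm gi N42584
def N47216 : Q := sm gf N42586
def N47217 : Q := sm gi N42586
def N47218 : Q := sm gh N42587
def N47219 : Q := sm gg N42588
def N47220 : Q := sm gi N42588
def N47221 : Q := sm gh N42589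
def N47222 : Q := sm gi N42591
def N47223 : Q := sm gh N42592
def N47224 : Q := sm gh N42594
def N47225 : Q := sm gd N42595
def N47226 : Q := sm gi N42595
def N47227 : Q := sm gc N42596
def N47228 : Q := sm ge N42596
def N47229 : Q := sm gi N42596
def N47230 : Q := sm gi N42598
def N47231 : Q := sm gb N42600
def N47232 : Q := sm gi N42600
def N47233 : Q := sm gh N42601
def N47234 : Q := sm ga N42602
def N47235 : Q := sm gi N42602
def N47236 : Q := sm gh N42603
def N47237 : Q := sm gi N42605
def N47238 : Q := sm ge N42606
def N47239 : Q := sm gi N42606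
def N47240 : Q := sm gb N42608
def N47241 : Q := sm ge N42608
def N47242 : Q := sm gi N42608
def N47243 : Q := sm gi N42609
def N47244 : Q := sm gh N42610
def N47245 : Q := sm gb N42611
def N47246 : Q := sm gi N42611
def N47247 : Q := sm gh N42612
def N47248 : Q := sm ga N42613
def N47249 : Q := sm gi N42613
def N47250 : Q := sm gh N42614
def N47251 : Q := sm gi N42616
def N47252 : Q := sm gh N42617
def N47253 : Q := sm gd N42618
def N47254 : Q := sm gg N42619
def N47255 : Q := sm gf N42620
def N47256 : Q := sm gj N42620
def N47257 : Q := sm gh N42620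
def N47258 : Q := sm gd N42621
def N47259 : Q := sm gi N42621
def N47260 : Q := sm gj N42622
def N47261 : Q := sm gh N42622
def N47262 : Q := sm gh N42623
def N47263 : Q := sm gd N42624
def N47264 : Q := sm gi N42624
def N47265 : Q := sm gc N42625
def N47266 : Q := sm gi N42625
def N47267 : Q := sm gi N42627
def N47268 : Q := sm ge N42638
def N47269 : Q := sm gj N42638
def N47270 : Q := sm gh N42638
def N47271 : Q := sm gh N42639
def N47272 : Q := sm gd N42640
def N47273 : Q := sm gi N42640
def N47274 : Q := sm gc N42641
def N47275 : Q := sm ge N42641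
def N47276 : Q := sm gi N42641
def N47277 : Q := sm gg N42643
def N47278 : Q := sm gh N42643
def N47279 : Q := sm gd N42644
def N47280 : Q := sm gi N42644
def N47281 : Q := sm gd N42645
def N47282 : Q := sm gi N42645
def N47283 : Q := sm gc N42646
def N47284 : Q := sm ge N42646
def N47285 : Q := sm gi N42646
def N47286 : Q := sm gb N42648
def N47287 : Q := sm ge N42648
def N47288 : Q := sm gi N42648
def N47289 : Q := sm gi N42649
def N47290 : Q := sm gh N42650
def N47291 : Q := sm ge N42651
def N47292 : Q := sm gi N42651
def N47293 : Q := sm gf N42653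
def N47294 : Q := sm gi N42653
def N47295 : Q := sm gh N42654
def N47296 : Q := sm gh N42656
def N47297 : Q := sm gh N42661
def N47298 : Q := sm gd N42662
def N47299 : Q := sm gi N42662
def N47300 : Q := sm gc N42663
def N47301 : Q := sm ge N42663
def N47302 : Q := sm gi N42663
def N47303 : Q := sm gc N42665
def N47304 : Q := sm gi N42665
def N47305 : Q := sm gb N42667
def N47306 : Q := sm gi N42667
def N47307 : Q := sm gh N42668
def N47308 : Q := sm ga N42669
def N47309 : Q := sm gi N42669
def N47310 : Q := sm gh N42670
def N47311 : Q := sm gj N42672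
def N47312 : Q := sm gh N42672
def N47313 : Q := sm gg N42673
def N47314 : Q := sm gh N42673
def N47315 : Q := sm gd N42674
def N47316 : Q := sm gi N42674
def N47317 : Q := sm gd N42675
def N47318 : Q := sm gi N42675
def N47319 : Q := sm gc N42676
def N47320 : Q := sm ge N42676
def N47321 : Q := sm gi N42676
def N47322 : Q := sm gb N42678
def N47323 : Q := sm ge N42678
def N47324 : Q := sm gi N42678
def N47325 : Q := sm gf N42679
def N47326 : Q := sm gi N42679
def N47327 : Q := sm gh N42680
def N47328 : Q := sm gh N42681
def N47329 : Q := sm gd N42682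
def N47330 : Q := sm gi N42682
def N47331 : Q := sm gc N42683
def N47332 : Q := sm ge N42683
def N47333 : Q := sm gi N42683
def N47334 : Q := sm gc N42685
def N47335 : Q := sm ge N42685
def N47336 : Q := sm gi N42685
def N47337 : Q := sm gb N42687
def N47338 : Q := sm ge N42687
def N47339 : Q := sm gi N42687
def N47340 : Q := sm gf N42688
def N47341 : Q := sm gi N42688
def N47342 : Q := sm gh N42689
def N47343 : Q := sm ga N42690
def N47344 : Q := sm ge N42690
def N47345 : Q := sm gi N42690
def N47346 : Q := sm gf N42691
def N47347 : Q := sm gi N42691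
def N47348 : Q := sm gh N42692
def N47349 : Q := sm gg N42693
def N47350 : Q := sm gi N42693
def N47351 : Q := sm gh N42694
def N47352 : Q := sm gf N42696
def N47353 : Q := sm gi N42696
def N47354 : Q := sm gh N42697
def N47355 : Q := sm gg N42698
def N47356 : Q := sm gi N42698
def N47357 : Q := sm gh N42699
def N47358 : Q := sm gj N42701
def N47359 : Q := sm gi N42701
def N47360 : Q := sm gh N42702
def N47361 : Q := sm gd N42703
def N47362 : Q := sm gi N42704
def N47363 : Q := sm gh N42705
def N47364 : Q := sm gi N42708
def N47365 : Q := sm gc N42709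
def N47366 : Q := sm ge N42709
def N47367 : Q := sm gi N42709
def N47368 : Q := sm gb N42711
def N47369 : Q := sm ge N42711
def N47370 : Q := sm gi N42711
def N47371 : Q := sm gi N42712
def N47372 : Q := sm gh N42713
def N47373 : Q := sm gi N42714
def N47374 : Q := sm gh N42715
def N47375 : Q := sm ga N42716
def N47376 : Q := sm gi N42716
def N47377 : Q := sm gh N42717
def N47378 : Q := sm gi N42719
def N47379 : Q := sm gh N42720
def N47380 : Q := sm gd N42721
def N47381 : Q := sm gi N42725
def N47382 : Q := sm gh N42726
def N47383 : Q := sm ga N42727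
def N47384 : Q := sm ge N42727
def N47385 : Q := sm gi N42727
def N47386 : Q := sm gi N42728
def N47387 : Q := sm gh N42729
def N47388 : Q := sm gh N42730
def N47389 : Q := sm gi N42735
def N47390 : Q := sm gh N42736
def N47391 : Q := sm gh N42738
def N47392 : Q := sm gd N42739
def N47393 : Q := sm gi N42746
def N47394 : Q := sm gh N42750
def N47395 : Q := sm ge N42759
def N47396 : Q := sm gi N42759
def N47397 : Q := sm gi N42761
def N47398 : Q := sm gh N42762
def N47399 : Q := sm gi N42785
def N47400 : Q := sm gi N42787
def N47401 : Q := sm gf N42789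
def N47402 : Q := sm gi N42789
def N47403 : Q := sm gh N42790
def N47404 : Q := sm gg N42791
def N47405 : Q := sm gi N42791
def N47406 : Q := sm gh N42792
def N47407 : Q := sm gi N42794
def N47408 : Q := sm gh N42795
def N47409 : Q := sm gd N42796
def N47410 : Q := sm gi N42812
def N47411 : Q := sm gj N42825
def N47412 : Q := sm gh N42825
def N47413 : Q := sm gh N42826
def N47414 : Q := sm gd N42827
def N47415 : Q := sm gi N42827
def N47416 : Q := sm gc N42828
def N47417 : Q := sm gi N42828
def N47418 : Q := sm gi N42830
def N47419 : Q := sm gg N42846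
def N47420 : Q := sm gh N42846
def N47421 : Q := sm gd N42847
def N47422 : Q := sm gi N42847
def N47423 : Q := sm gd N42848
def N47424 : Q := sm gi N42848
def N47425 : Q := sm ge N42849
def N47426 : Q := sm gi N42849
def N47427 : Q := sm gi N42852
def N47428 : Q := sm gh N42853
def N47429 : Q := sm ge N42854
def N47430 : Q := sm gi N42854
def N47431 : Q := sm gf N42856
def N47432 : Q := sm gi N42856
def N47433 : Q := sm gh N42857
def N47434 : Q := sm gh N42859
def N47435 : Q := sm gh N42864
def N47436 : Q := sm gi N42865
def N47437 : Q := sm gj N42875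
def N47438 : Q := sm gh N42875
def N47439 : Q := sm gg N42876
def N47440 : Q := sm gh N42876
def N47441 : Q := sm gd N42877
def N47442 : Q := sm gi N42877
def N47443 : Q := sm gd N42878
def N47444 : Q := sm gi N42878
def N47445 : Q := sm ge N42879
def N47446 : Q := sm gi N42879
def N47447 : Q := sm gi N42882
def N47448 : Q := sm gh N42883
def N47449 : Q := sm gh N42884
def N47450 : Q := sm gd N42885
def N47451 : Q := sm gi N42885
def N47452 : Q := sm gc N42886
def N47453 : Q := sm ge N42886
def N47454 : Q := sm gi N42886
def N47455 : Q := sm gc N42888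
def N47456 : Q := sm ge N42888
def N47457 : Q := sm gi N42888
def N47458 : Q := sm gb N42890
def N47459 : Q := sm ge N42890
def N47460 : Q := sm gi N42890
def N47461 : Q := sm gf N42891
def N47462 : Q := sm gi N42891
def N47463 : Q := sm gh N42892
def N47464 : Q := sm gi N42893
def N47465 : Q := sm gi N42894
def N47466 : Q := sm gh N42895
def N47467 : Q := sm gg N42896
def N47468 : Q := sm gi N42896
def N47469 : Q := sm gh N42897
def N47470 : Q := sm gf N42899
def N47471 : Q := sm gi N42899
def N47472 : Q := sm gh N42900
def N47473 : Q := sm gg N42901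
def N47474 : Q := sm gi N42901
def N47475 : Q := sm gh N42902
def N47476 : Q := sm gj N42904
def N47477 : Q := sm gi N42904
def N47478 : Q := sm gh N42905
def N47479 : Q := sm gd N42906
def N47480 : Q := sm gi N42907
def N47481 : Q := sm gh N42908
def N47482 : Q := sm gd N42911
def N47483 : Q := sm gi N42911
def N47484 : Q := sm gc N42912
def N47485 : Q := sm ge N42912
def N47486 : Q := sm gi N42912
def N47487 : Q := sm gb N42914
def N47488 : Q := sm ge N42914
def N47489 : Q := sm gi N42914
def N47490 : Q := sm gi N42915
def N47491 : Q := sm gi N42917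
def N47492 : Q := sm gi N42919
def N47493 : Q := sm gi N42925
def N47494 : Q := sm gi N42927
def N47495 : Q := sm gi N42928
def N47496 : Q := sm gh N42929
def N47497 : Q := sm gi N42930
def N47498 : Q := sm gh N42939
def N47499 : Q := sm gd N42940
def N47500 : Q := sm ge N42946
def N47501 : Q := sm gj N42946
def N47502 : Q := sm gh N42946
def N47503 : Q := sm gh N42947
def N47504 : Q := sm gd N42948
def N47505 : Q := sm gi N42948
def N47506 : Q := sm gi N42949
def N47507 : Q := sm gg N42951
def N47508 : Q := sm gh N42951
def N47509 : Q := sm gd N42952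
def N47510 : Q := sm gi N42952
def N47511 : Q := sm gd N42953
def N47512 : Q := sm gi N42953
def N47513 : Q := sm gc N42954
def N47514 : Q := sm gi N42954
def N47515 : Q := sm gi N42956
def N47516 : Q := sm gh N42958
def N47517 : Q := sm gj N42976
def N47518 : Q := sm gh N42976
def N47519 : Q := sm gg N42977
def N47520 : Q := sm gh N42977
def N47521 : Q := sm gd N42978
def N47522 : Q := sm gi N42978
def N47523 : Q := sm gd N42979
def N47524 : Q := sm gi N42979
def N47525 : Q := sm ge N42980
def N47526 : Q := sm gi N42980
def N47527 : Q := sm gi N42983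
def N47528 : Q := sm gh N42984
def N47529 : Q := sm gh N42985
def N47530 : Q := sm gd N42986
def N47531 : Q := sm gi N42986
def N47532 : Q := sm gc N42987
def N47533 : Q := sm ge N42987
def N47534 : Q := sm gi N42987
def N47535 : Q := sm gc N42989
def N47536 : Q := sm ge N42989
def N47537 : Q := sm gi N42989
def N47538 : Q := sm gb N42991
def N47539 : Q := sm ge N42991
def N47540 : Q := sm gi N42991
def N47541 : Q := sm gf N42992
def N47542 : Q := sm gi N42992
def N47543 : Q := sm gh N42993
def N47544 : Q := sm gi N42994
def N47545 : Q := sm gi N42995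
def N47546 : Q := sm gh N42996
def N47547 : Q := sm gh N42998
def N47548 : Q := sm gf N43000
def N47549 : Q := sm gi N43000
def N47550 : Q := sm gh N43001
def N47551 : Q := sm gi N43002
def N47552 : Q := sm gh N43003
def N47553 : Q := sm gd N43007
def N47554 : Q := sm gd N43012
def N47555 : Q := sm gi N43012
def N47556 : Q := sm gc N43013
def N47557 : Q := sm ge N43013
def N47558 : Q := sm gi N43013
def N47559 : Q := sm gb N43015
def N47560 : Q := sm ge N43015
def N47561 : Q := sm gi N43015
def N47562 : Q := sm gi N43016
def N47563 : Q := sm gi N43018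
def N47564 : Q := sm ga N43020
def N47565 : Q := sm gi N43020
def N47566 : Q := sm gi N43023
def N47567 : Q := sm gg N43026
def N47568 : Q := sm gh N43026
def N47569 : Q := sm gd N43027
def N47570 : Q := sm gi N43027
def N47571 : Q := sm gh N43028
def N47572 : Q := sm gd N43029
def N47573 : Q := sm gi N43029
def N47574 : Q := sm gc N43030
def N47575 : Q := sm ge N43030
def N47576 : Q := sm gi N43030
def N47577 : Q := sm gc N43032
def N47578 : Q := sm ge N43032
def N47579 : Q := sm gi N43032
def N47580 : Q := sm gb N43034
def N47581 : Q := sm ge N43034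
def N47582 : Q := sm gi N43034
def N47583 : Q := sm gf N43035
def N47584 : Q := sm gi N43035
def N47585 : Q := sm gh N43036
def N47586 : Q := sm gi N43037
def N47587 : Q := sm gf N43038
def N47588 : Q := sm gi N43038
def N47589 : Q := sm gh N43039
def N47590 : Q := sm gg N43040
def N47591 : Q := sm gi N43040
def N47592 : Q := sm gh N43041
def N47593 : Q := sm gd N43043
def N47594 : Q := sm gi N43043
def N47595 : Q := sm gc N43044
def N47596 : Q := sm ge N43044
def N47597 : Q := sm gi N43044
def N47598 : Q := sm gb N43046
def N47599 : Q := sm ge N43046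
def N47600 : Q := sm gi N43046
def N47601 : Q := sm gf N43047
def N47602 : Q := sm gi N43047
def N47603 : Q := sm gh N43048
def N47604 : Q := sm gb N43049
def N47605 : Q := sm ge N43049
def N47606 : Q := sm gi N43049
def N47607 : Q := sm gf N43050
def N47608 : Q := sm gi N43050
def N47609 : Q := sm gh N43051
def N47610 : Q := sm ga N43052
def N47611 : Q := sm ge N43052
def N47612 : Q := sm gi N43052
def N47613 : Q := sm gf N43053
def N47614 : Q := sm gi N43053
def N47615 : Q := sm gh N43054
def N47616 : Q := sm gg N43055
def N47617 : Q := sm gi N43055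
def N47618 : Q := sm gh N43056
def N47619 : Q := sm gi N43058
def N47620 : Q := sm gf N43059
def N47621 : Q := sm gi N43059
def N47622 : Q := sm gh N43060
def N47623 : Q := sm gg N43061
def N47624 : Q := sm gi N43061
def N47625 : Q := sm gh N43062
def N47626 : Q := sm gd N43063
def N47627 : Q := sm gj N43064
def N47628 : Q := sm gi N43064
def N47629 : Q := sm gh N43065
def N47630 : Q := sm gd N43066
def N47631 : Q := sm gg N43067
def N47632 : Q := sm gi N43067
def N47633 : Q := sm gh N43068
def N47634 : Q := sm gj N43070
def N47635 : Q := sm gi N43070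
def N47636 : Q := sm gh N43071
def N47637 : Q := sm gd N43072
def N47638 : Q := sm gi N43073
def N47639 : Q := sm gh N43074
def N47640 : Q := sm gd N43075
def N47641 : Q := sm gc N43076
def N47642 : Q := sm gh N43077
def N47643 : Q := sm gc N43081
def N47644 : Q := sm ge N43081
def N47645 : Q := sm gi N43081
def N47646 : Q := sm gb N43083
def N47647 : Q := sm ge N43083
def N47648 : Q := sm gi N43083
def N47649 : Q := sm gi N43084
def N47650 : Q := sm gh N43085
def N47651 : Q := sm ga N43086
def N47652 : Q := sm ge N43086
def N47653 : Q := sm gi N43086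
def N47654 : Q := sm gd N43087
def N47655 : Q := sm gi N43087
def N47656 : Q := sm gh N43088
def N47657 : Q := sm gh N43089
def N47658 : Q := sm ga N43091
def N47659 : Q := sm gi N43091
def N47660 : Q := sm gh N43092
def N47661 : Q := sm gi N43094
def N47662 : Q := sm gh N43095
def N47663 : Q := sm gd N43096
def N47664 : Q := sm gh N43097
def N47665 : Q := sm gd N43098
def N47666 : Q := sm ge N43099
def N47667 : Q := sm gb N43100
def N47668 : Q := sm gi N43100
def N47669 : Q := sm gi N43101
def N47670 : Q := sm gh N43102
def N47671 : Q := sm ga N43103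
def N47672 : Q := sm ge N43103
def N47673 : Q := sm gi N43103
def N47674 : Q := sm ge N43108
def N47675 : Q := sm gi N43108
def N47676 : Q := sm gd N43109
def N47677 : Q := sm gi N43109
def N47678 : Q := sm gh N43110
def N47679 : Q := sm gi N43111
def N47680 : Q := sm gd N43113
def N47681 : Q := sm gd N43114
def N47682 : Q := sm gi N43115
def N47683 : Q := sm gh N43116
def N47684 : Q := sm gd N43117
def N47685 : Q := sm gh N43118
def N47686 : Q := sm gd N43119
def N47687 : Q := sm ge N43120
def N47688 : Q := sm gg N43408
def N47689 : Q := sm gh N43408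
def N47690 : Q := sm gd N43409
def N47691 : Q := sm gi N43409
def N47692 : Q := sm gh N43410
def N47693 : Q := sm gi N43411
def N47694 : Q := sm gh N43545
def N47695 : Q := sm gd N43546
def N47696 : Q := sm gi N43546
def N47697 : Q := sm gi N43548
def N47698 : Q := sm gc N43588
def N47699 : Q := sm ge N43588
def N47700 : Q := sm ge N43590
def N47701 : Q := sm ga N43593
def N47702 : Q := sm ge N43593
def N47703 : Q := sm gd N43594
def N47704 : Q := sm gh N43607
def N47705 : Q := sm gd N43608
def N47706 : Q := sm gi N43608
def N47707 : Q := sm gc N43609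
def N47708 : Q := sm ge N43609
def N47709 : Q := sm gi N43609
def N47710 : Q := sm gi N43611
def N47711 : Q := sm gc N43612
def N47712 : Q := sm gi N43612
def N47713 : Q := sm gb N43614
def N47714 : Q := sm ge N43614
def N47715 : Q := sm gi N43614
def N47716 : Q := sm gi N43615
def N47717 : Q := sm gb N43617
def N47718 : Q := sm gi N43617
def N47719 : Q := sm ga N43620
def N47720 : Q := sm gi N43620
def N47721 : Q := sm gi N43626
def N47722 : Q := sm gc N43633
def N47723 : Q := sm gb N43635
def N47724 : Q := sm ga N43638
def N47725 : Q := sm ge N43638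
def N47726 : Q := sm gd N43639
def N47727 : Q := sm gb N43671
def N47728 : Q := sm ge N43671
def N47729 : Q := sm gi N43671
def N47730 : Q := sm ga N43674
def N47731 : Q := sm gd N43675
def N47732 : Q := sm gh N43676
def N47733 : Q := sm gi N43679
def N47734 : Q := sm gh N43681
def N47735 : Q := sm gh N43682
def N47736 : Q := sm gi N43682
def N47737 : Q := sm gh N43683
def N47738 : Q := sm gd N43684
def N47739 : Q := sm gd N43685
def N47740 : Q := sm gi N43686
def N47741 : Q := sm gh N43687
def N47742 : Q := sm gd N43688
def N47743 : Q := sm gh N43689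
def N47744 : Q := sm gd N43690
def N47745 : Q := sm ge N43691
def N47746 : Q := sm gh N43709
def N47747 : Q := sm gd N43712
def N47748 : Q := sm gh N43718
def N47749 : Q := sm gd N43719
def N47750 : Q := sm gd N44038
def N47751 : Q := sm gd N44210
def N47752 : Q := sm gi N44210
def N47753 : Q := sm gi N44214
def N47754 : Q := sm gd N44245
def N47755 : Q := sm gi N44245
def N47756 : Q := sm ge N44258
def N47757 : Q := sm gi N44258
def N47758 : Q := sm gi N44263
def N47759 : Q := sm gi N44269
def N47760 : Q := sm gi N44271
def N47761 : Q := sm gi N44279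
def N47762 : Q := sm gd N44282
def N47763 : Q := sm gi N44282
def N47764 : Q := sm gc N44284
def N47765 : Q := sm gi N44284
def N47766 : Q := sm gb N44286
def N47767 : Q := sm ge N44286
def N47768 : Q := sm gi N44286
def N47769 : Q := sm gf N44287
def N47770 : Q := sm gi N44287
def N47771 : Q := sm gh N44288
def N47772 : Q := sm gi N44293
def N47773 : Q := sm gj N44296
def N47774 : Q := sm gi N44296
def N47775 : Q := sm gc N44303
def N47776 : Q := sm gi N44305
def N47777 : Q := sm gi N44307
def N47778 : Q := sm gi N44321
def N47779 : Q := sm gh N44412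
def N47780 : Q := sm gd N44414
def N47781 : Q := sm gi N44414
def N47782 : Q := sm gc N44415
def N47783 : Q := sm gi N44415
def N47784 : Q := sm gd N44418
def N47785 : Q := sm gi N44418
def N47786 : Q := sm gi N44420
def N47787 : Q := sm gi N44422
def N47788 : Q := sm gh N44424
def N47789 : Q := sm gh N44444
def N47790 : Q := sm gh N44463
def N47791 : Q := sm gd N44465
def N47792 : Q := sm gi N44465
def N47793 : Q := sm gi N44466
def N47794 : Q := sm gd N44485
def N47795 : Q := sm gi N44485
def N47796 : Q := sm ge N44487
def N47797 : Q := sm gi N44487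
def N47798 : Q := sm gi N44490
def N47799 : Q := sm gh N44491
def N47800 : Q := sm gf N44494
def N47801 : Q := sm gi N44494
def N47802 : Q := sm gh N44502
def N47803 : Q := sm gd N44503
def N47804 : Q := sm gi N44503
def N47805 : Q := sm gi N44504
def N47806 : Q := sm gi N44506
def N47807 : Q := sm gh N44509
def N47808 : Q := sm gd N44515
def N47809 : Q := sm gi N44515
def N47810 : Q := sm gi N44517
def N47811 : Q := sm gf N44520
def N47812 : Q := sm gi N44520
def N47813 : Q := sm gh N44521
def N47814 : Q := sm gh N44522
def N47815 : Q := sm gd N44523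
def N47816 : Q := sm gi N44523
def N47817 : Q := sm gc N44524
def N47818 : Q := sm ge N44524
def N47819 : Q := sm gi N44524
def N47820 : Q := sm gc N44526
def N47821 : Q := sm gi N44526
def N47822 : Q := sm gb N44528
def N47823 : Q := sm ge N44528
def N47824 : Q := sm gi N44528
def N47825 : Q := sm gf N44529
def N47826 : Q := sm gi N44529
def N47827 : Q := sm gh N44530
def N47828 : Q := sm ge N44531
def N47829 : Q := sm gi N44531
def N47830 : Q := sm gf N44532
def N47831 : Q := sm gi N44532
def N47832 : Q := sm gh N44533
def N47833 : Q := sm gg N44534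
def N47834 : Q := sm gi N44534
def N47835 : Q := sm gh N44535
def N47836 : Q := sm gg N44539
def N47837 : Q := sm gi N44539
def N47838 : Q := sm gj N44542
def N47839 : Q := sm gi N44542
def N47840 : Q := sm gi N44545
def N47841 : Q := sm gi N44549
def N47842 : Q := sm gc N44550
def N47843 : Q := sm gi N44550
def N47844 : Q := sm gb N44552
def N47845 : Q := sm ge N44552
def N47846 : Q := sm gi N44552
def N47847 : Q := sm gi N44553
def N47848 : Q := sm gb N44555
def N47849 : Q := sm gi N44555
def N47850 : Q := sm gi N44557
def N47851 : Q := sm gh N44558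
def N47852 : Q := sm gh N44561
def N47853 : Q := sm gd N44562
def N47854 : Q := sm ga N44568
def N47855 : Q := sm gi N44568
def N47856 : Q := sm ga N44573
def N47857 : Q := sm gi N44573
def N47858 : Q := sm gi N44576
def N47859 : Q := sm gh N44577
def N47860 : Q := sm gh N44579
def N47861 : Q := sm gd N44580
def N47862 : Q := sm ge N44581
def N47863 : Q := sm ga N44657
def N47864 : Q := sm gi N44657
def N47865 : Q := sm gh N44658
def N47866 : Q := sm gi N44660
def N47867 : Q := sm gh N44661
def N47868 : Q := sm gd N44662
def N47869 : Q := sm gh N44716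
def N47870 : Q := sm gh N44717
def N47871 : Q := sm gd N44718
def N47872 : Q := sm gi N44718
def N47873 : Q := sm gd N44719
def N47874 : Q := sm gi N44719
def N47875 : Q := sm gi N44720
def N47876 : Q := sm gh N44724
def N47877 : Q := sm gd N44726
def N47878 : Q := sm gi N44726
def N47879 : Q := sm gc N44727
def N47880 : Q := sm ge N44727
def N47881 : Q := sm gi N44727
def N47882 : Q := sm gc N44729
def N47883 : Q := sm gi N44729
def N47884 : Q := sm gb N44731
def N47885 : Q := sm gi N44731
def N47886 : Q := sm gh N44733
def N47887 : Q := sm ga N44734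
def N47888 : Q := sm gi N44734
def N47889 : Q := sm gh N44736
def N47890 : Q := sm gb N44755
def N47891 : Q := sm gi N44755
def N47892 : Q := sm gh N44757
def N47893 : Q := sm gb N44758
def N47894 : Q := sm gi N44758
def N47895 : Q := sm gh N44759
def N47896 : Q := sm ga N44760
def N47897 : Q := sm gi N44760
def N47898 : Q := sm gh N44761
def N47899 : Q := sm gi N44763
def N47900 : Q := sm gh N44764
def N47901 : Q := sm gd N44765
def N47902 : Q := sm ga N44771
def N47903 : Q := sm gi N44771
def N47904 : Q := sm gh N44773
def N47905 : Q := sm ga N44776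
def N47906 : Q := sm gi N44776
def N47907 : Q := sm gh N44777
def N47908 : Q := sm gi N44779
def N47909 : Q := sm gh N44780
def N47910 : Q := sm gd N44781
def N47911 : Q := sm gh N44782
def N47912 : Q := sm gd N44783
def N47913 : Q := sm ge N44784
def N47914 : Q := sm gh N44787
def N47915 : Q := sm gi N44789
def N47916 : Q := sm gh N44792
def N47917 : Q := sm gd N44793
def N47918 : Q := sm gi N44793
def N47919 : Q := sm gd N44794
def N47920 : Q := sm gi N44794
def N47921 : Q := sm gi N44795
def N47922 : Q := sm gh N44799
def N47923 : Q := sm gd N44819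
def N47924 : Q := sm gi N44819
def N47925 : Q := sm gd N44820
def N47926 : Q := sm gi N44820
def N47927 : Q := sm gc N44821
def N47928 : Q := sm gi N44821
def N47929 : Q := sm gi N44823
def N47930 : Q := sm gh N44825
def N47931 : Q := sm gh N44826
def N47932 : Q := sm gd N44827
def N47933 : Q := sm gi N44827
def N47934 : Q := sm gc N44828
def N47935 : Q := sm ge N44828
def N47936 : Q := sm gi N44828
def N47937 : Q := sm gc N44830
def N47938 : Q := sm ge N44830
def N47939 : Q := sm gi N44830
def N47940 : Q := sm gb N44832
def N47941 : Q := sm ge N44832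
def N47942 : Q := sm gi N44832
def N47943 : Q := sm gf N44833
def N47944 : Q := sm gi N44833
def N47945 : Q := sm gh N44834
def N47946 : Q := sm gi N44835
def N47947 : Q := sm gi N44836
def N47948 : Q := sm gh N44837
def N47949 : Q := sm gh N44839
def N47950 : Q := sm gf N44841
def N47951 : Q := sm gi N44841
def N47952 : Q := sm gi N44843
def N47953 : Q := sm gd N44853
def N47954 : Q := sm gi N44853
def N47955 : Q := sm gc N44854
def N47956 : Q := sm ge N44854
def N47957 : Q := sm gi N44854
def N47958 : Q := sm gb N44856
def N47959 : Q := sm ge N44856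
def N47960 : Q := sm gi N44856
def N47961 : Q := sm gi N44857
def N47962 : Q := sm gh N44858
def N47963 : Q := sm gb N44859
def N47964 : Q := sm gi N44859
def N47965 : Q := sm gh N44860
def N47966 : Q := sm ga N44861
def N47967 : Q := sm gi N44861
def N47968 : Q := sm gh N44862
def N47969 : Q := sm gi N44864
def N47970 : Q := sm gh N44865
def N47971 : Q := sm gd N44866
def N47972 : Q := sm gd N44868
def N47973 : Q := sm gi N44868
def N47974 : Q := sm gh N44869
def N47975 : Q := sm gd N44870
def N47976 : Q := sm gi N44870
def N47977 : Q := sm gc N44871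
def N47978 : Q := sm ge N44871
def N47979 : Q := sm gi N44871
def N47980 : Q := sm gc N44873
def N47981 : Q := sm gi N44873
def N47982 : Q := sm gb N44875
def N47983 : Q := sm ge N44875
def N47984 : Q := sm gi N44875
def N47985 : Q := sm gf N44876
def N47986 : Q := sm gi N44876
def N47987 : Q := sm gh N44877
def N47988 : Q := sm ge N44878
def N47989 : Q := sm gi N44878
def N47990 : Q := sm gi N44879
def N47991 : Q := sm gh N44880
def N47992 : Q := sm gg N44881
def N47993 : Q := sm gi N44881
def N47994 : Q := sm gh N44882
def N47995 : Q := sm gd N44884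
def N47996 : Q := sm gi N44884
def N47997 : Q := sm gc N44885
def N47998 : Q := sm ge N44885
def N47999 : Q := sm gi N44885
def N48000 : Q := sm gb N44887
def N48001 : Q := sm ge N44887
def N48002 : Q := sm gi N44887
def N48003 : Q := sm gf N44888
def N48004 : Q := sm gi N44888
def N48005 : Q := sm gh N44889
def N48006 : Q := sm gb N44890
def N48007 : Q := sm ge N44890
def N48008 : Q := sm gi N44890
def N48009 : Q := sm gf N44891
def N48010 : Q := sm gi N44891
def N48011 : Q := sm gh N44892
def N48012 : Q := sm ga N44893
def N48013 : Q := sm ge N44893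
def N48014 : Q := sm gi N44893
def N48015 : Q := sm gf N44894
def N48016 : Q := sm gi N44894
def N48017 : Q := sm gh N44895
def N48018 : Q := sm gg N44896
def N48019 : Q := sm gi N44896
def N48020 : Q := sm gh N44897
def N48021 : Q := sm ge N44899
def N48022 : Q := sm gi N44899
def N48023 : Q := sm gf N44900
def N48024 : Q := sm gi N44900
def N48025 : Q := sm gh N44901
def N48026 : Q := sm gg N44902
def N48027 : Q := sm gi N44902
def N48028 : Q := sm gh N44903
def N48029 : Q := sm gd N44904
def N48030 : Q := sm gj N44905
def N48031 : Q := sm gi N44905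
def N48032 : Q := sm gh N44906
def N48033 : Q := sm gi N44908
def N48034 : Q := sm gj N44911
def N48035 : Q := sm gi N44911
def N48036 : Q := sm gi N44914
def N48037 : Q := sm gc N44922
def N48038 : Q := sm gi N44922
def N48039 : Q := sm gb N44924
def N48040 : Q := sm ge N44924
def N48041 : Q := sm gi N44924
def N48042 : Q := sm gi N44925
def N48043 : Q := sm gh N44926
def N48044 : Q := sm ga N44927
def N48045 : Q := sm ge N44927
def N48046 : Q := sm gi N44927
def N48047 : Q := sm gd N44928
def N48048 : Q := sm gi N44928
def N48049 : Q := sm gh N44929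
def N48050 : Q := sm gh N44930
def N48051 : Q := sm ga N44932
def N48052 : Q := sm gi N44932
def N48053 : Q := sm gh N44933
def N48054 : Q := sm gi N44935
def N48055 : Q := sm gh N44936
def N48056 : Q := sm gd N44937
def N48057 : Q := sm gh N44938
def N48058 : Q := sm gd N44939
def N48059 : Q := sm ge N44940
def N48060 : Q := sm gh N44943
def N48061 : Q := sm gi N44944
def N48062 : Q := sm gi N44945
def N48063 : Q := sm gh N44946
def N48064 : Q := sm gh N44947
def N48065 : Q := sm gi N44949
def N48066 : Q := sm gi N44950
def N48067 : Q := sm gh N44951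
def N48068 : Q := sm gi N44952
def N48069 : Q := sm gh N44953
def N48070 : Q := sm gd N44954
def N48071 : Q := sm gi N44956
def N48072 : Q := sm gh N44957
def N48073 : Q := sm gh N44959
def N48074 : Q := sm gd N44960
def N48075 : Q := sm gd N44976
def N48076 : Q := sm gi N44976
def N48077 : Q := sm gd N44979
def N48078 : Q := sm gi N44979
def N48079 : Q := sm gc N44980
def N48080 : Q := sm gi N44980
def N48081 : Q := sm gb N44995
def N48082 : Q := sm gi N44995
def N48083 : Q := sm gh N44996
def N48084 : Q := sm gc N45001
def N48085 : Q := sm gi N45001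
def N48086 : Q := sm gi N45006
def N48087 : Q := sm ge N45008
def N48088 : Q := sm gi N45008
def N48089 : Q := sm gi N45009
def N48090 : Q := sm gh N45010
def N48091 : Q := sm gh N45030
def N48092 : Q := sm gc N45068
def N48093 : Q := sm gi N45068
def N48094 : Q := sm gd N45071
def N48095 : Q := sm gi N45071
def N48096 : Q := sm gi N45072
def N48097 : Q := sm gi N45073
def N48098 : Q := sm gi N45075
def N48099 : Q := sm gh N45077
def N48100 : Q := sm gh N45088
def N48101 : Q := sm gi N45090
def N48102 : Q := sm gh N45095
def N48103 : Q := sm gh N45097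
def N48104 : Q := sm gb N45105
def N48105 : Q := sm gi N45105
def N48106 : Q := sm gh N45107
def N48107 : Q := sm gh N45108
def N48108 : Q := sm gc N45110
def N48109 : Q := sm ge N45110
def N48110 : Q := sm gi N45110
def N48111 : Q := sm gb N45114
def N48112 : Q := sm gi N45114
def N48113 : Q := sm gh N45116
def N48114 : Q := sm ga N45117
def N48115 : Q := sm ge N45117
def N48116 : Q := sm gi N45117
def N48117 : Q := sm gf N45118
def N48118 : Q := sm gi N45118
def N48119 : Q := sm gh N45119
def N48120 : Q := sm gg N45120
def N48121 : Q := sm gi N45120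
def N48122 : Q := sm gh N45121
def N48123 : Q := sm gj N45128
def N48124 : Q := sm gi N45128
def N48125 : Q := sm gi N45138
def N48126 : Q := sm gi N45139
def N48127 : Q := sm gh N45140
def N48128 : Q := sm gi N45143
def N48129 : Q := sm gh N45144
def N48130 : Q := sm gi N45146
def N48131 : Q := sm gh N45147
def N48132 : Q := sm gd N45148
def N48133 : Q := sm gh N45157
def N48134 : Q := sm gi N45159
def N48135 : Q := sm gi N45162
def N48136 : Q := sm gh N45163
def N48137 : Q := sm gh N45165
def N48138 : Q := sm gh N45187
def N48139 : Q := sm gd N45189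
def N48140 : Q := sm gi N45189
def N48141 : Q := sm gi N45190
def N48142 : Q := sm gh N45192
def N48143 : Q := sm gd N45193
def N48144 : Q := sm gi N45193
def N48145 : Q := sm gd N45194
def N48146 : Q := sm gi N45194
def N48147 : Q := sm gc N45195
def N48148 : Q := sm gi N45195
def N48149 : Q := sm gi N45197
def N48150 : Q := sm gh N45199
def N48151 : Q := sm gi N45211
def N48152 : Q := sm gc N45212
def N48153 : Q := sm gi N45212
def N48154 : Q := sm gb N45216
def N48155 : Q := sm gi N45216
def N48156 : Q := sm gh N45217
def N48157 : Q := sm ga N45218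
def N48158 : Q := sm gi N45218
def N48159 : Q := sm gh N45219
def N48160 : Q := sm gd N45223
def N48161 : Q := sm gi N45223
def N48162 : Q := sm gc N45225
def N48163 : Q := sm gi N45225
def N48164 : Q := sm gb N45227
def N48165 : Q := sm gi N45227
def N48166 : Q := sm gi N45228
def N48167 : Q := sm gh N45229
def N48168 : Q := sm gd N45231
def N48169 : Q := sm gi N45231
def N48170 : Q := sm gc N45232
def N48171 : Q := sm ge N45232
def N48172 : Q := sm gi N45232
def N48173 : Q := sm gi N45234
def N48174 : Q := sm ge N45236
def N48175 : Q := sm gi N45236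
def N48176 : Q := sm gf N45237
def N48177 : Q := sm gi N45237
def N48178 : Q := sm gh N45238
def N48179 : Q := sm ga N45239
def N48180 : Q := sm ge N45239
def N48181 : Q := sm gi N45239
def N48182 : Q := sm gi N45240
def N48183 : Q := sm gh N45241
def N48184 : Q := sm gh N45243
def N48185 : Q := sm gi N45247
def N48186 : Q := sm ge N45260
def N48187 : Q := sm gi N45260
def N48188 : Q := sm gi N45261
def N48189 : Q := sm gh N45262
def N48190 : Q := sm gh N45266
def N48191 : Q := sm gi N45268
def N48192 : Q := sm gh N45269
def N48193 : Q := sm gd N45270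
def N48194 : Q := sm gh N45279
def N48195 : Q := sm gh N45287
def N48196 : Q := sm gd N45288
def N48197 : Q := sm ge N45289
def N48198 : Q := sm gd N45324
def N48199 : Q := sm gi N45324
def N48200 : Q := sm gc N45326
def N48201 : Q := sm gi N45326
def N48202 : Q := sm gb N45328
def N48203 : Q := sm gi N45328
def N48204 : Q := sm gh N45330
def N48205 : Q := sm gh N45331
def N48206 : Q := sm gd N45332
def N48207 : Q := sm gi N45332
def N48208 : Q := sm gc N45333
def N48209 : Q := sm ge N45333
def N48210 : Q := sm gi N45333
def N48211 : Q := sm gi N45335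
def N48212 : Q := sm gi N45337
def N48213 : Q := sm gh N45339
def N48214 : Q := sm ga N45340
def N48215 : Q := sm gi N45340
def N48216 : Q := sm gh N45342
def N48217 : Q := sm gd N45358
def N48218 : Q := sm gi N45358
def N48219 : Q := sm gi N45359
def N48220 : Q := sm gi N45361
def N48221 : Q := sm gi N45362
def N48222 : Q := sm gh N45363
def N48223 : Q := sm gh N45365
def N48224 : Q := sm gh N45367
def N48225 : Q := sm gi N45369
def N48226 : Q := sm gh N45370
def N48227 : Q := sm gd N45371
def N48228 : Q := sm gc N45376
def N48229 : Q := sm ge N45376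
def N48230 : Q := sm gi N45376
def N48231 : Q := sm gb N45380
def N48232 : Q := sm gi N45380
def N48233 : Q := sm gh N45382
def N48234 : Q := sm ge N45383
def N48235 : Q := sm gi N45383
def N48236 : Q := sm gf N45384
def N48237 : Q := sm gi N45384
def N48238 : Q := sm gh N45385
def N48239 : Q := sm gg N45386
def N48240 : Q := sm gh N45387
def N48241 : Q := sm gd N45389
def N48242 : Q := sm gi N45389
def N48243 : Q := sm gc N45390
def N48244 : Q := sm ge N45390
def N48245 : Q := sm gi N45390
def N48246 : Q := sm gb N45392
def N48247 : Q := sm ge N45392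
def N48248 : Q := sm gi N45392
def N48249 : Q := sm gf N45393
def N48250 : Q := sm gi N45393
def N48251 : Q := sm gh N45394
def N48252 : Q := sm gb N45395
def N48253 : Q := sm gi N45395
def N48254 : Q := sm gh N45397
def N48255 : Q := sm ga N45398
def N48256 : Q := sm ge N45398
def N48257 : Q := sm gi N45398
def N48258 : Q := sm gf N45399
def N48259 : Q := sm gi N45399
def N48260 : Q := sm gh N45400
def N48261 : Q := sm gg N45401
def N48262 : Q := sm gi N45401
def N48263 : Q := sm gh N45402
def N48264 : Q := sm ge N45404
def N48265 : Q := sm gi N45404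
def N48266 : Q := sm gf N45405
def N48267 : Q := sm gi N45405
def N48268 : Q := sm gh N45406
def N48269 : Q := sm gg N45407
def N48270 : Q := sm gi N45407
def N48271 : Q := sm gh N45408
def N48272 : Q := sm gd N45409
def N48273 : Q := sm gj N45410
def N48274 : Q := sm gi N45410
def N48275 : Q := sm gh N45411
def N48276 : Q := sm gj N45416
def N48277 : Q := sm gi N45416
def N48278 : Q := sm gi N45419
def N48279 : Q := sm gc N45427
def N48280 : Q := sm gi N45427
def N48281 : Q := sm gb N45429
def N48282 : Q := sm gi N45429
def N48283 : Q := sm gi N45430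
def N48284 : Q := sm gh N45431
def N48285 : Q := sm ga N45432
def N48286 : Q := sm ge N45432
def N48287 : Q := sm gi N45432
def N48288 : Q := sm gd N45433
def N48289 : Q := sm gi N45433
def N48290 : Q := sm gh N45434
def N48291 : Q := sm gh N45435
def N48292 : Q := sm gi N45437
def N48293 : Q := sm gh N45438
def N48294 : Q := sm gi N45440
def N48295 : Q := sm gh N45441
def N48296 : Q := sm gd N45442
def N48297 : Q := sm gh N45443
def N48298 : Q := sm gd N45444
def N48299 : Q := sm ge N45445
def N48300 : Q := sm gh N45448
def N48301 : Q := sm ga N45449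
def N48302 : Q := sm ge N45449
def N48303 : Q := sm gi N45449
def N48304 : Q := sm gi N45450
def N48305 : Q := sm gh N45451
def N48306 : Q := sm ge N45454
def N48307 : Q := sm gi N45454
def N48308 : Q := sm gd N45455
def N48309 : Q := sm gi N45455
def N48310 : Q := sm gh N45456
def N48311 : Q := sm gi N45457
def N48312 : Q := sm gh N45458
def N48313 : Q := sm gi N45461
def N48314 : Q := sm gh N45462
def N48315 : Q := sm gh N45464
def N48316 : Q := sm gd N45465
def N48317 : Q := sm ge N45466
def N48318 : Q := sm gd N45467
def N48319 : Q := sm gc N45468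
def N48320 : Q := sm ge N45468
def N48321 : Q := sm gf N45469
def N48322 : Q := sm gh N45511
def N48323 : Q := sm gd N45512
def N48324 : Q := sm gi N45512
def N48325 : Q := sm ge N45513
def N48326 : Q := sm gi N45513
def N48327 : Q := sm gi N45515
def N48328 : Q := sm gh N45519
def N48329 : Q := sm gi N45538
def N48330 : Q := sm gd N45553
def N48331 : Q := sm gi N45553
def N48332 : Q := sm gh N45554
def N48333 : Q := sm gd N45555
def N48334 : Q := sm gi N45555
def N48335 : Q := sm ge N45556
def N48336 : Q := sm gi N45556
def N48337 : Q := sm ge N45558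
def N48338 : Q := sm gi N45558
def N48339 : Q := sm gf N45561
def N48340 : Q := sm gi N45561
def N48341 : Q := sm gh N45562
def N48342 : Q := sm gh N45567
def N48343 : Q := sm gd N45569
def N48344 : Q := sm gi N45569
def N48345 : Q := sm gc N45570
def N48346 : Q := sm ge N45570
def N48347 : Q := sm gi N45570
def N48348 : Q := sm gb N45572
def N48349 : Q := sm ge N45572
def N48350 : Q := sm gi N45572
def N48351 : Q := sm gf N45573
def N48352 : Q := sm gi N45573
def N48353 : Q := sm gh N45574
def N48354 : Q := sm gb N45575
def N48355 : Q := sm ge N45575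
def N48356 : Q := sm gi N45575
def N48357 : Q := sm gf N45576
def N48358 : Q := sm gi N45576
def N48359 : Q := sm gh N45577
def N48360 : Q := sm ge N45578
def N48361 : Q := sm gi N45578
def N48362 : Q := sm gf N45579
def N48363 : Q := sm gi N45579
def N48364 : Q := sm gh N45580
def N48365 : Q := sm gi N45581
def N48366 : Q := sm gh N45582
def N48367 : Q := sm gi N45585
def N48368 : Q := sm gh N45586
def N48369 : Q := sm gh N45588
def N48370 : Q := sm gg N45593
def N48371 : Q := sm gi N45593
def N48372 : Q := sm gc N45607
def N48373 : Q := sm gi N45607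
def N48374 : Q := sm gb N45609
def N48375 : Q := sm ge N45609
def N48376 : Q := sm gi N45609
def N48377 : Q := sm gi N45610
def N48378 : Q := sm ga N45612
def N48379 : Q := sm ge N45612
def N48380 : Q := sm gi N45612
def N48381 : Q := sm gd N45613
def N48382 : Q := sm gi N45613
def N48383 : Q := sm ga N45617
def N48384 : Q := sm gi N45617
def N48385 : Q := sm gi N45620
def N48386 : Q := sm gi N45629
def N48387 : Q := sm gi N45634
def N48388 : Q := sm gi N45635
def N48389 : Q := sm gh N45636
def N48390 : Q := sm gi N45641
def N48391 : Q := sm gh N45642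
def N48392 : Q := sm gh N45644
def N48393 : Q := sm gd N45645
def N48394 : Q := sm gi N45657
def N48395 : Q := sm gi N45658
def N48396 : Q := sm gd N45706
def N48397 : Q := sm gi N45706
def N48398 : Q := sm gd N45708
def N48399 : Q := sm gi N45708
def N48400 : Q := sm ge N45709
def N48401 : Q := sm gi N45709
def N48402 : Q := sm gi N45711
def N48403 : Q := sm gh N45715
def N48404 : Q := sm gd N45722
def N48405 : Q := sm gi N45722
def N48406 : Q := sm gc N45723
def N48407 : Q := sm ge N45723
def N48408 : Q := sm gi N45723
def N48409 : Q := sm gb N45725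
def N48410 : Q := sm ge N45725
def N48411 : Q := sm gi N45725
def N48412 : Q := sm gi N45726
def N48413 : Q := sm gh N45727
def N48414 : Q := sm gb N45728
def N48415 : Q := sm gi N45728
def N48416 : Q := sm gh N45730
def N48417 : Q := sm ga N45731
def N48418 : Q := sm gi N45731
def N48419 : Q := sm gh N45733
def N48420 : Q := sm gi N45737
def N48421 : Q := sm gh N45739
def N48422 : Q := sm gc N45760
def N48423 : Q := sm gi N45760
def N48424 : Q := sm gb N45762
def N48425 : Q := sm ge N45762
def N48426 : Q := sm gi N45762
def N48427 : Q := sm gi N45763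
def N48428 : Q := sm ga N45765
def N48429 : Q := sm ge N45765
def N48430 : Q := sm gi N45765
def N48431 : Q := sm gd N45766
def N48432 : Q := sm gi N45766
def N48433 : Q := sm ga N45770
def N48434 : Q := sm gi N45770
def N48435 : Q := sm gi N45773
def N48436 : Q := sm gi N45780
def N48437 : Q := sm gc N45781
def N48438 : Q := sm ge N45781
def N48439 : Q := sm gi N45781
def N48440 : Q := sm gd N45783
def N48441 : Q := sm gi N45783
def N48442 : Q := sm gc N45784
def N48443 : Q := sm ge N45784
def N48444 : Q := sm gi N45784
def N48445 : Q := sm gb N45786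
def N48446 : Q := sm ge N45786
def N48447 : Q := sm gi N45786
def N48448 : Q := sm gf N45787
def N48449 : Q := sm gi N45787
def N48450 : Q := sm gh N45788
def N48451 : Q := sm gb N45789
def N48452 : Q := sm ge N45789
def N48453 : Q := sm gi N45789
def N48454 : Q := sm gi N45790
def N48455 : Q := sm gh N45791
def N48456 : Q := sm ga N45792
def N48457 : Q := sm ge N45792
def N48458 : Q := sm gi N45792
def N48459 : Q := sm gf N45793
def N48460 : Q := sm gi N45793
def N48461 : Q := sm gh N45794
def N48462 : Q := sm gg N45795
def N48463 : Q := sm gi N45795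
def N48464 : Q := sm gh N45796
def N48465 : Q := sm gi N45798
def N48466 : Q := sm gi N45799
def N48467 : Q := sm gh N45800
def N48468 : Q := sm gg N45801
def N48469 : Q := sm gi N45801
def N48470 : Q := sm gh N45802
def N48471 : Q := sm gj N45804
def N48472 : Q := sm gi N45804
def N48473 : Q := sm gh N45805
def N48474 : Q := sm gc N45807
def N48475 : Q := sm ge N45807
def N48476 : Q := sm gi N45807
def N48477 : Q := sm gb N45809
def N48478 : Q := sm ge N45809
def N48479 : Q := sm gi N45809
def N48480 : Q := sm gf N45810
def N48481 : Q := sm gi N45810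
def N48482 : Q := sm gh N45811
def N48483 : Q := sm ga N45812
def N48484 : Q := sm ge N45812
def N48485 : Q := sm gi N45812
def N48486 : Q := sm gd N45813
def N48487 : Q := sm gf N45813
def N48488 : Q := sm gi N45813
def N48489 : Q := sm gh N45814
def N48490 : Q := sm gg N45815
def N48491 : Q := sm gi N45815
def N48492 : Q := sm gh N45816
def N48493 : Q := sm ga N45818
def N48494 : Q := sm ge N45818
def N48495 : Q := sm gi N45818
def N48496 : Q := sm gf N45819
def N48497 : Q := sm gi N45819
def N48498 : Q := sm gh N45820
def N48499 : Q := sm gg N45821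
def N48500 : Q := sm gi N45821
def N48501 : Q := sm gh N45822
def N48502 : Q := sm ge N45824
def N48503 : Q := sm gi N45824
def N48504 : Q := sm gf N45825
def N48505 : Q := sm gi N45825
def N48506 : Q := sm gh N45826
def N48507 : Q := sm gg N45827
def N48508 : Q := sm gi N45827
def N48509 : Q := sm gh N45828
def N48510 : Q := sm gd N45829
def N48511 : Q := sm gj N45830
def N48512 : Q := sm gi N45830
def N48513 : Q := sm gh N45831
def N48514 : Q := sm gi N45833
def N48515 : Q := sm gh N45834
def N48516 : Q := sm gg N45835
def N48517 : Q := sm gi N45835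
def N48518 : Q := sm gh N45836
def N48519 : Q := sm gd N45837
def N48520 : Q := sm gj N45838
def N48521 : Q := sm gi N45838
def N48522 : Q := sm gh N45839
def N48523 : Q := sm gd N45840
def N48524 : Q := sm ge N45841
def N48525 : Q := sm gi N45842
def N48526 : Q := sm gh N45843
def N48527 : Q := sm gj N45846
def N48528 : Q := sm gi N45846
def N48529 : Q := sm gi N45849
def N48530 : Q := sm gi N45862
def N48531 : Q := sm gi N45865
def N48532 : Q := sm gd N45866
def N48533 : Q := sm gi N45866
def N48534 : Q := sm gh N45867
def N48535 : Q := sm gi N45870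
def N48536 : Q := sm gd N45871
def N48537 : Q := sm gh N45873
def N48538 : Q := sm gi N45873
def N48539 : Q := sm gd N45875
def N48540 : Q := sm gi N45877
def N48541 : Q := sm gd N45879
def N48542 : Q := sm gh N45880
def N48543 : Q := sm gd N45881
def N48544 : Q := sm ge N45882
def N48545 : Q := sm gh N46034
def N48546 : Q := sm gi N46035
def N48547 : Q := sm gi N46036
def N48548 : Q := sm gi N46038
def N48549 : Q := sm gh N46153
def N48550 : Q := sm gc N46201
def N48551 : Q := sm gi N46201
def N48552 : Q := sm gh N46247
def N48553 : Q := sm gc N46262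
def N48554 : Q := sm ge N46262
def N48555 : Q := sm gi N46262
def N48556 : Q := sm gb N46264
def N48557 : Q := sm ge N46264
def N48558 : Q := sm gi N46264
def N48559 : Q := sm gi N46265
def N48560 : Q := sm gh N46266
def N48561 : Q := sm gc N46267
def N48562 : Q := sm gi N46267
def N48563 : Q := sm gb N46269
def N48564 : Q := sm ge N46269
def N48565 : Q := sm gi N46269
def N48566 : Q := sm gi N46270
def N48567 : Q := sm ga N46272
def N48568 : Q := sm ge N46272
def N48569 : Q := sm gi N46272
def N48570 : Q := sm gd N46273
def N48571 : Q := sm gi N46273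
def N48572 : Q := sm ga N46277
def N48573 : Q := sm gi N46277
def N48574 : Q := sm gi N46280
def N48575 : Q := sm gh N46297
def N48576 : Q := sm gi N46328
def N48577 : Q := sm ge N46331
def N48578 : Q := sm ge N46335
def N48579 : Q := sm gf N46338
def N48580 : Q := sm gd N46342
def N48581 : Q := sm gi N46343
def N48582 : Q := sm gi N46345
def N48583 : Q := sm gh N46350
def N48584 : Q := sm gh N46353
def N48585 : Q := sm gh N46355
def N48586 : Q := sm gd N46356
def N48587 : Q := sm ge N46357
def N48588 : Q := sm gh N46358
def N48589 : Q := sm gh N46361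
def N48590 : Q := sm gh N46362
def N48591 : Q := sm gd N46363
def N48592 : Q := sm gd N46364
def N48593 : Q := sm gh N46365
def N48594 : Q := sm gd N46366
def N48595 : Q := sm gh N46367
def N48596 : Q := sm gd N46368
def N48597 : Q := sm ge N46369
def N48598 : Q := sm gd N46370
def N48599 : Q := sm gc N46371
def N48600 : Q := sm ge N46371
def N48601 : Q := sm gd N46373
def N48602 : Q := sm gh N46374
def N48603 : Q := sm gd N46377
def N48604 : Q := sm gh N46378
def N48605 : Q := sm gd N46379
def N48606 : Q := sm ge N46380
def N48607 : Q := sm gf N46387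
def N48608 : Q := sm gi N46387
def N48609 : Q := sm gg N46389
def N48610 : Q := sm gi N46389
def N48611 : Q := sm gi N46391
def N48612 : Q := sm gh N46392
def N48613 : Q := sm gf N46394
def N48614 : Q := sm gi N46394
def N48615 : Q := sm gh N46395
def N48616 : Q := sm gi N46396
def N48617 : Q := sm gh N46397
def N48618 : Q := sm gd N46398
def N48619 : Q := sm gi N46399
def N48620 : Q := sm gh N46400
def N48621 : Q := sm gd N46401
def N48622 : Q := sm ge N46402
def N48623 : Q := sm gd N46410
def N48624 : Q := sm gi N46410
def N48625 : Q := sm gh N46411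
def N48626 : Q := sm gh N46412
def N48627 : Q := sm gi N46412
def N48628 : Q := sm gh N46413
def N48629 : Q := sm gh N46416
def N48630 : Q := sm gh N46418
def N48631 : Q := sm gd N46419
def N48632 : Q := sm ge N46420
def N48633 : Q := sm gd N46421
def N48634 : Q := sm gc N46422
def N48635 : Q := sm ge N46422
def N48636 : Q := sm gf N46423
def N48637 : Q := sm gh N46424
def N48638 : Q := sm gd N46425
def N48639 : Q := sm gi N46426
def N48640 : Q := sm gh N46427
def N48641 : Q := sm gh N46428
def N48642 : Q := sm gd N46429
def N48643 : Q := sm ge N46431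
def N48644 : Q := sm gh N46432
def N48645 : Q := sm gd N46433
def N48646 : Q := sm ge N46434
def N48647 : Q := sm gd N46435
def N48648 : Q := sm gc N46436
def N48649 : Q := sm ge N46436
def N48650 : Q := sm gf N46437
def N48651 : Q := sm gc N46438
def N48652 : Q := sm ge N46438
def N48653 : Q := sm ge N46439
def N48654 : Q := sm gf N46440
def N48655 : Q := sm gg N46441
def N48656 : Q := sm ga N46442
def N48657 : Q := sm gi N46442
def N48658 : Q := sm gh N46443
def N48659 : Q := sm ga N46445
def N48660 : Q := sm gi N46445
def N48661 : Q := sm gh N46446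
def N48662 : Q := sm gi N46448
def N48663 : Q := sm gh N46449
def N48664 : Q := sm gd N46450
def N48665 : Q := sm gh N46451
def N48666 : Q := sm gd N46452
def N48667 : Q := sm ge N46453
def N48668 : Q := sm gi N46454
def N48669 : Q := sm gi N46456
def N48670 : Q := sm gd N46457
def N48671 : Q := sm gi N46457
def N48672 : Q := sm gh N46458
def N48673 : Q := sm gh N46459
def N48674 : Q := sm gi N46459
def N48675 : Q := sm gd N46461
def N48676 : Q := sm gd N46464
def N48677 : Q := sm gd N46466
def N48678 : Q := sm ge N46467
def N48679 : Q := sm gh N46471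
def N48680 : Q := sm ge N46473
def N48681 : Q := sm gf N46474
def N48682 : Q := sm gi N46474
def N48683 : Q := sm gh N46475
def N48684 : Q := sm gf N46476
def N48685 : Q := sm gh N46476
def N48686 : Q := sm gi N46476
def N48687 : Q := sm gg N46477
def N48688 : Q := sm gi N46477
def N48689 : Q := sm gh N46478
def N48690 : Q := sm gd N46479
def N48691 : Q := sm gi N46480
def N48692 : Q := sm gh N46481
def N48693 : Q := sm gd N46482
def N48694 : Q := sm ge N46483
def N48695 : Q := sm gf N46484
def N48696 : Q := sm gi N46484
def N48697 : Q := sm gi N46486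
def N48698 : Q := sm gh N46487
def N48699 : Q := sm gh N46489
def N48700 : Q := sm gf N46491
def N48701 : Q := sm gi N46491
def N48702 : Q := sm gh N46492
def N48703 : Q := sm gg N46493
def N48704 : Q := sm gi N46493
def N48705 : Q := sm gh N46494
def N48706 : Q := sm gj N46496
def N48707 : Q := sm gi N46496
def N48708 : Q := sm gh N46497
def N48709 : Q := sm gd N46498
def N48710 : Q := sm ge N46499
def N48711 : Q := sm gi N46500
def N48712 : Q := sm gh N46501
def N48713 : Q := sm gg N46503
def N48714 : Q := sm gi N46503
def N48715 : Q := sm gh N46504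
def N48716 : Q := sm gj N46506
def N48717 : Q := sm gi N46506
def N48718 : Q := sm gh N46507
def N48719 : Q := sm gd N46508
def N48720 : Q := sm gi N46510
def N48721 : Q := sm gh N46511
def N48722 : Q := sm gd N46512
def N48723 : Q := sm ge N46513
def N48724 : Q := sm gi N46517
def N48725 : Q := sm gi N46520
def N48726 : Q := sm gh N46521
def N48727 : Q := sm gf N46522
def N48728 : Q := sm gi N46523
def N48729 : Q := sm gf N46525
def N48730 : Q := sm gi N46541
def N48731 : Q := sm gc N46544
def N48732 : Q := sm gi N46544
def N48733 : Q := sm gb N46546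
def N48734 : Q := sm gi N46546
def N48735 : Q := sm gh N46547
def N48736 : Q := sm gj N46548
def N48737 : Q := sm gi N46548
def N48738 : Q := sm gi N46550
def N48739 : Q := sm gi N46554
def N48740 : Q := sm gh N46557
def N48741 : Q := sm gi N46558
def N48742 : Q := sm gh N46559
def N48743 : Q := sm gi N46560
def N48744 : Q := sm gh N46561
def N48745 : Q := sm gi N46562
def N48746 : Q := sm gh N46563
def N48747 : Q := sm gg N46568
def N48748 : Q := sm gi N46568
def N48749 : Q := sm gh N46569
def N48750 : Q := sm gg N46571
def N48751 : Q := sm gi N46571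
def N48752 : Q := sm gh N46572
def N48753 : Q := sm gg N46574
def N48754 : Q := sm gi N46574
def N48755 : Q := sm gh N46575
def N48756 : Q := sm gj N46577
def N48757 : Q := sm gi N46577
def N48758 : Q := sm gh N46578
def N48759 : Q := sm gd N46579
def N48760 : Q := sm gh N46580
def N48761 : Q := sm gh N46581
def N48762 : Q := sm gj N46584
def N48763 : Q := sm gi N46584
def N48764 : Q := sm gh N46585
def N48765 : Q := sm gd N46586
def N48766 : Q := sm gg N46588
def N48767 : Q := sm gi N46588
def N48768 : Q := sm gh N46589
def N48769 : Q := sm gj N46591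
def N48770 : Q := sm gi N46591
def N48771 : Q := sm gh N46592
def N48772 : Q := sm gi N46594
def N48773 : Q := sm gh N46595
def N48774 : Q := sm gd N46596
def N48775 : Q := sm gc N46597
def N48776 : Q := sm gi N46598
def N48777 : Q := sm gh N46599
def N48778 : Q := sm gh N46601
def N48779 : Q := sm ga N46603
def N48780 : Q := sm gi N46603
def N48781 : Q := sm gh N46604
def N48782 : Q := sm ga N46606
def N48783 : Q := sm gi N46606
def N48784 : Q := sm gh N46607
def N48785 : Q := sm gi N46609
def N48786 : Q := sm gh N46610
def N48787 : Q := sm gd N46611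
def N48788 : Q := sm gh N46612
def N48789 : Q := sm gd N46613
def N48790 : Q := sm ge N46614
def N48791 : Q := sm gd N46625
def N48792 : Q := sm gi N46625
def N48793 : Q := sm gh N46627
def N48794 : Q := sm gd N46628
def N48795 : Q := sm gi N46628
def N48796 : Q := sm gc N46629
def N48797 : Q := sm ge N46629
def N48798 : Q := sm gi N46629
def N48799 : Q := sm gd N46631
def N48800 : Q := sm ge N46632
def N48801 : Q := sm gi N46632
def N48802 : Q := sm gi N46634
def N48803 : Q := sm gh N46635
def N48804 : Q := sm gi N46639
def N48805 : Q := sm gd N46642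
def N48806 : Q := sm gi N46642
def N48807 : Q := sm gh N46644
def N48808 : Q := sm gi N46645
def N48809 : Q := sm gg N46647
def N48810 : Q := sm gi N46647
def N48811 : Q := sm gh N46648
def N48812 : Q := sm gh N46650
def N48813 : Q := sm gd N46651
def N48814 : Q := sm gi N46651
def N48815 : Q := sm ge N46652
def N48816 : Q := sm gi N46652
def N48817 : Q := sm gi N46654
def N48818 : Q := sm gi N46656
def N48819 : Q := sm gf N46657
def N48820 : Q := sm gi N46657
def N48821 : Q := sm gh N46658
def N48822 : Q := sm gg N46659
def N48823 : Q := sm gi N46659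
def N48824 : Q := sm gh N46660
def N48825 : Q := sm gj N46662
def N48826 : Q := sm gi N46662
def N48827 : Q := sm gh N46663
def N48828 : Q := sm gj N46666
def N48829 : Q := sm gh N46666
def N48830 : Q := sm gd N46668
def N48831 : Q := sm gi N46668
def N48832 : Q := sm gc N46669
def N48833 : Q := sm ge N46669
def N48834 : Q := sm gi N46669
def N48835 : Q := sm gg N46671
def N48836 : Q := sm gh N46671
def N48837 : Q := sm gd N46672
def N48838 : Q := sm gi N46672
def N48839 : Q := sm gd N46673
def N48840 : Q := sm gi N46673
def N48841 : Q := sm gc N46674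
def N48842 : Q := sm ge N46674
def N48843 : Q := sm gi N46674
def N48844 : Q := sm gb N46676
def N48845 : Q := sm ge N46676
def N48846 : Q := sm gi N46676
def N48847 : Q := sm gi N46677
def N48848 : Q := sm gh N46678
def N48849 : Q := sm ge N46679
def N48850 : Q := sm gi N46679
def N48851 : Q := sm gf N46681
def N48852 : Q := sm gi N46681
def N48853 : Q := sm gh N46682
def N48854 : Q := sm gh N46683
def N48855 : Q := sm gi N46686
def N48856 : Q := sm gc N46687
def N48857 : Q := sm gi N46687
def N48858 : Q := sm gb N46691
def N48859 : Q := sm gi N46691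
def N48860 : Q := sm ga N46693
def N48861 : Q := sm gi N46693
def N48862 : Q := sm gh N46694
def N48863 : Q := sm ga N46698
def N48864 : Q := sm gi N46698
def N48865 : Q := sm gi N46700
def N48866 : Q := sm gh N46701
def N48867 : Q := sm gj N46703
def N48868 : Q := sm gj N46704
def N48869 : Q := sm gh N46704
def N48870 : Q := sm gd N46706
def N48871 : Q := sm gi N46706
def N48872 : Q := sm ge N46707
def N48873 : Q := sm gi N46707
def N48874 : Q := sm gi N46710
def N48875 : Q := sm gh N46711
def N48876 : Q := sm gh N46712
def N48877 : Q := sm gd N46717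
def N48878 : Q := sm gi N46717
def N48879 : Q := sm gi N46718
def N48880 : Q := sm gf N46720
def N48881 : Q := sm gi N46720
def N48882 : Q := sm gh N46721
def N48883 : Q := sm gg N46722
def N48884 : Q := sm gi N46722
def N48885 : Q := sm gh N46723
def N48886 : Q := sm gj N46725
def N48887 : Q := sm gi N46725
def N48888 : Q := sm gh N46726
def N48889 : Q := sm gh N46731
def N48890 : Q := sm gd N46732
def N48891 : Q := sm gi N46732
def N48892 : Q := sm gd N46733
def N48893 : Q := sm gi N46733
def N48894 : Q := sm ge N46734
def N48895 : Q := sm gi N46734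
def N48896 : Q := sm gf N46736
def N48897 : Q := sm gi N46736
def N48898 : Q := sm gh N46737
def N48899 : Q := sm gd N46739
def N48900 : Q := sm gi N46739
def N48901 : Q := sm gc N46740
def N48902 : Q := sm ge N46740
def N48903 : Q := sm gi N46740
def N48904 : Q := sm gi N46742
def N48905 : Q := sm gi N46744
def N48906 : Q := sm gf N46745
def N48907 : Q := sm gi N46745
def N48908 : Q := sm gh N46746
def N48909 : Q := sm gi N46747
def N48910 : Q := sm gf N46748
def N48911 : Q := sm gi N46748
def N48912 : Q := sm gh N46749
def N48913 : Q := sm gg N46750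
def N48914 : Q := sm gi N46750
def N48915 : Q := sm gh N46751
def N48916 : Q := sm gg N46753
def N48917 : Q := sm gi N46753
def N48918 : Q := sm gh N46754
def N48919 : Q := sm gj N46756
def N48920 : Q := sm gi N46756
def N48921 : Q := sm gh N46757
def N48922 : Q := sm gd N46758
def N48923 : Q := sm gi N46759
def N48924 : Q := sm gh N46760
def N48925 : Q := sm gi N46763
def N48926 : Q := sm gj N46768
def N48927 : Q := sm gh N46768
def N48928 : Q := sm gg N46769
def N48929 : Q := sm gh N46769
def N48930 : Q := sm gd N46770
def N48931 : Q := sm gi N46770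
def N48932 : Q := sm gd N46771
def N48933 : Q := sm gi N46771
def N48934 : Q := sm gc N46772
def N48935 : Q := sm ge N46772
def N48936 : Q := sm gi N46772
def N48937 : Q := sm gi N46774
def N48938 : Q := sm gi N46775
def N48939 : Q := sm gh N46776
def N48940 : Q := sm gh N46777
def N48941 : Q := sm gd N46778
def N48942 : Q := sm gi N46778
def N48943 : Q := sm gc N46779
def N48944 : Q := sm ge N46779
def N48945 : Q := sm gi N46779
def N48946 : Q := sm gc N46781
def N48947 : Q := sm ge N46781
def N48948 : Q := sm gi N46781
def N48949 : Q := sm gb N46783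
def N48950 : Q := sm ge N46783
def N48951 : Q := sm gi N46783
def N48952 : Q := sm gf N46784
def N48953 : Q := sm gi N46784
def N48954 : Q := sm gh N46785
def N48955 : Q := sm gi N46786
def N48956 : Q := sm gi N46787
def N48957 : Q := sm gh N46788
def N48958 : Q := sm gh N46789
def N48959 : Q := sm gf N46791
def N48960 : Q := sm gi N46791
def N48961 : Q := sm gh N46792
def N48962 : Q := sm gi N46793
def N48963 : Q := sm gh N46794
def N48964 : Q := sm gd N46796
def N48965 : Q := sm gi N46797
def N48966 : Q := sm gc N46798
def N48967 : Q := sm gi N46798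
def N48968 : Q := sm gb N46800
def N48969 : Q := sm ge N46800
def N48970 : Q := sm gi N46800
def N48971 : Q := sm gi N46801
def N48972 : Q := sm gh N46802
def N48973 : Q := sm gi N46803
def N48974 : Q := sm gh N46804
def N48975 : Q := sm gi N46805
def N48976 : Q := sm gh N46806
def N48977 : Q := sm gi N46808
def N48978 : Q := sm gh N46809
def N48979 : Q := sm gd N46810
def N48980 : Q := sm gi N46812
def N48981 : Q := sm gh N46813
def N48982 : Q := sm ge N46814
def N48983 : Q := sm gi N46814
def N48984 : Q := sm gi N46815
def N48985 : Q := sm gh N46816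
def N48986 : Q := sm gh N46817
def N48987 : Q := sm gh N46819
def N48988 : Q := sm gh N46821
def N48989 : Q := sm gd N46822
def N48990 : Q := sm gh N46823
def N48991 : Q := sm gd N46824
def N48992 : Q := sm ge N46825
def N48993 : Q := sm gj N46826
def N48994 : Q := sm gh N46826
def N48995 : Q := sm gh N46827
def N48996 : Q := sm gd N46828
def N48997 : Q := sm gi N46828
def N48998 : Q := sm gi N46829
def N48999 : Q := sm gg N46831
def N49000 : Q := sm gh N46831
def N49001 : Q := sm gd N46832
def N49002 : Q := sm gi N46832
def N49003 : Q := sm gd N46833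
def N49004 : Q := sm gi N46833
def N49005 : Q := sm gc N46834
def N49006 : Q := sm ge N46834
def N49007 : Q := sm gi N46834
def N49008 : Q := sm gi N46836
def N49009 : Q := sm gi N46837
def N49010 : Q := sm gh N46838
def N49011 : Q := sm gf N46840
def N49012 : Q := sm gi N46840
def N49013 : Q := sm gh N46841
def N49014 : Q := sm gh N46842
def N49015 : Q := sm gh N46843
def N49016 : Q := sm gh N46846
def N49017 : Q := sm gh N46847
def N49018 : Q := sm gd N46848
def N49019 : Q := sm gi N46848
def N49020 : Q := sm gd N46849
def N49021 : Q := sm gi N46849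
def N49022 : Q := sm gc N46850
def N49023 : Q := sm ge N46850
def N49024 : Q := sm gi N46850
def N49025 : Q := sm gi N46852
def N49026 : Q := sm gi N46853
def N49027 : Q := sm gh N46854
def N49028 : Q := sm gh N46855
def N49029 : Q := sm gd N46856
def N49030 : Q := sm gi N46856
def N49031 : Q := sm gc N46857
def N49032 : Q := sm ge N46857
def N49033 : Q := sm gi N46857
def N49034 : Q := sm gi N46859
def N49035 : Q := sm gi N46861
def N49036 : Q := sm gf N46862
def N49037 : Q := sm gi N46862
def N49038 : Q := sm gh N46863
def N49039 : Q := sm gh N46864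
def N49040 : Q := sm gg N46865
def N49041 : Q := sm gi N46865
def N49042 : Q := sm gh N46866
def N49043 : Q := sm gg N46868
def N49044 : Q := sm gi N46868
def N49045 : Q := sm gh N46869
def N49046 : Q := sm gj N46871
def N49047 : Q := sm gi N46871
def N49048 : Q := sm gh N46872
def N49049 : Q := sm gd N46873
def N49050 : Q := sm gi N46874
def N49051 : Q := sm gh N46875
def N49052 : Q := sm gi N46877
def N49053 : Q := sm gi N46879
def N49054 : Q := sm gh N46880
def N49055 : Q := sm gh N46881
def N49056 : Q := sm gd N46883
def N49057 : Q := sm gh N46884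
def N49058 : Q := sm gd N46885
def N49059 : Q := sm gi N46885
def N49060 : Q := sm gh N46886
def N49061 : Q := sm gd N46887
def N49062 : Q := sm gi N46887
def N49063 : Q := sm gc N46888
def N49064 : Q := sm ge N46888
def N49065 : Q := sm gi N46888
def N49066 : Q := sm gc N46890
def N49067 : Q := sm ge N46890
def N49068 : Q := sm gi N46890
def N49069 : Q := sm gb N46892
def N49070 : Q := sm ge N46892
def N49071 : Q := sm gi N46892
def N49072 : Q := sm gf N46893
def N49073 : Q := sm gi N46893
def N49074 : Q := sm gh N46894
def N49075 : Q := sm gi N46895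
def N49076 : Q := sm gi N46896
def N49077 : Q := sm gh N46897
def N49078 : Q := sm gg N46898
def N49079 : Q := sm gi N46898
def N49080 : Q := sm gh N46899
def N49081 : Q := sm gd N46901
def N49082 : Q := sm gi N46901
def N49083 : Q := sm gc N46902
def N49084 : Q := sm ge N46902
def N49085 : Q := sm gi N46902
def N49086 : Q := sm gb N46904
def N49087 : Q := sm ge N46904
def N49088 : Q := sm gi N46904
def N49089 : Q := sm gf N46905
def N49090 : Q := sm gi N46905
def N49091 : Q := sm gh N46906
def N49092 : Q := sm gb N46907
def N49093 : Q := sm gi N46907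
def N49094 : Q := sm gf N46908
def N49095 : Q := sm gi N46908
def N49096 : Q := sm gh N46909
def N49097 : Q := sm ga N46910
def N49098 : Q := sm ge N46910
def N49099 : Q := sm gi N46910
def N49100 : Q := sm gf N46911
def N49101 : Q := sm gi N46911
def N49102 : Q := sm gh N46912
def N49103 : Q := sm gg N46913
def N49104 : Q := sm gi N46913
def N49105 : Q := sm gh N46914
def N49106 : Q := sm gi N46916
def N49107 : Q := sm gi N46917
def N49108 : Q := sm gh N46918
def N49109 : Q := sm gg N46919
def N49110 : Q := sm gi N46919
def N49111 : Q := sm gh N46920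
def N49112 : Q := sm gd N46921
def N49113 : Q := sm gj N46922
def N49114 : Q := sm gi N46922
def N49115 : Q := sm gh N46923
def N49116 : Q := sm gd N46924
def N49117 : Q := sm gg N46925
def N49118 : Q := sm gi N46925
def N49119 : Q := sm gh N46926
def N49120 : Q := sm gj N46928
def N49121 : Q := sm gi N46928
def N49122 : Q := sm gh N46929
def N49123 : Q := sm gd N46930
def N49124 : Q := sm gi N46931
def N49125 : Q := sm gh N46932
def N49126 : Q := sm gd N46933
def N49127 : Q := sm gc N46934
def N49128 : Q := sm gh N46935
def N49129 : Q := sm gb N46938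
def N49130 : Q := sm gi N46938
def N49131 : Q := sm gh N46939
def N49132 : Q := sm ga N46940
def N49133 : Q := sm ge N46940
def N49134 : Q := sm gi N46940
def N49135 : Q := sm gd N46941
def N49136 : Q := sm gi N46941
def N49137 : Q := sm gh N46942
def N49138 : Q := sm gh N46943
def N49139 : Q := sm ga N46945
def N49140 : Q := sm gi N46945
def N49141 : Q := sm gh N46946
def N49142 : Q := sm gi N46948
def N49143 : Q := sm gh N46949
def N49144 : Q := sm gd N46950
def N49145 : Q := sm gh N46951
def N49146 : Q := sm gd N46952
def N49147 : Q := sm ge N46953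
def N49148 : Q := sm ga N46954
def N49149 : Q := sm gi N46954
def N49150 : Q := sm gh N46955
def N49151 : Q := sm ge N46957
def N49152 : Q := sm gi N46957
def N49153 : Q := sm gi N46958
def N49154 : Q := sm gh N46959
def N49155 : Q := sm gh N46960
def N49156 : Q := sm gd N46961
def N49157 : Q := sm gi N46963
def N49158 : Q := sm gh N46964
def N49159 : Q := sm gd N46965
def N49160 : Q := sm gh N46966
def N49161 : Q := sm gd N46967
def N49162 : Q := sm ge N46968
def N49163 : Q := sm gi N46973
def N49164 : Q := sm gh N46975
def N49165 : Q := sm gi N46976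
def N49166 : Q := sm gi N46979
def N49167 : Q := sm gh N46980
def N49168 : Q := sm gh N46981
def N49169 : Q := sm gi N46983
def N49170 : Q := sm gh N46984
def N49171 : Q := sm gi N46986
def N49172 : Q := sm gh N46988
def N49173 : Q := sm gi N46989
def N49174 : Q := sm gh N46990
def N49175 : Q := sm gj N46992
def N49176 : Q := sm gh N46992
def N49177 : Q := sm gd N46993
def N49178 : Q := sm gi N46993
def N49179 : Q := sm gh N46994
def N49180 : Q := sm gi N46995
def N49181 : Q := sm gj N46997
def N49182 : Q := sm gh N46997
def N49183 : Q := sm gd N46998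
def N49184 : Q := sm gi N46998
def N49185 : Q := sm gj N46999
def N49186 : Q := sm gh N46999
def N49187 : Q := sm gh N47000
def N49188 : Q := sm gd N47001
def N49189 : Q := sm gi N47001
def N49190 : Q := sm gc N47002
def N49191 : Q := sm ge N47002
def N49192 : Q := sm gi N47002
def N49193 : Q := sm gi N47004
def N49194 : Q := sm gi N47006
def N49195 : Q := sm gh N47007
def N49196 : Q := sm gg N47009
def N49197 : Q := sm gh N47009
def N49198 : Q := sm gi N47010
def N49199 : Q := sm gi N47011
def N49200 : Q := sm gi N47013
def N49201 : Q := sm gh N47014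
def N49202 : Q := sm gd N47017
def N49203 : Q := sm gi N47017
def N49204 : Q := sm gc N47018
def N49205 : Q := sm ge N47018
def N49206 : Q := sm gi N47018
def N49207 : Q := sm gh N47020
def N49208 : Q := sm gd N47021
def N49209 : Q := sm gi N47021
def N49210 : Q := sm gd N47022
def N49211 : Q := sm gi N47022
def N49212 : Q := sm gi N47023
def N49213 : Q := sm gb N47025
def N49214 : Q := sm gi N47025
def N49215 : Q := sm gf N47026
def N49216 : Q := sm gi N47026
def N49217 : Q := sm gh N47027
def N49218 : Q := sm gi N47028
def N49219 : Q := sm gh N47030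
def N49220 : Q := sm gi N47031
def N49221 : Q := sm gh N47032
def N49222 : Q := sm gh N47034
def N49223 : Q := sm gi N47039
def N49224 : Q := sm gh N47041
def N49225 : Q := sm gi N47042
def N49226 : Q := sm gh N47043
def N49227 : Q := sm gi N47047
def N49228 : Q := sm gh N47048
def N49229 : Q := sm gd N47050
def N49230 : Q := sm gi N47050
def N49231 : Q := sm gd N47052
def N49232 : Q := sm gi N47052
def N49233 : Q := sm gc N47053
def N49234 : Q := sm gi N47053
def N49235 : Q := sm gh N47056
def N49236 : Q := sm gd N47057
def N49237 : Q := sm gi N47057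
def N49238 : Q := sm gc N47058
def N49239 : Q := sm ge N47058
def N49240 : Q := sm gi N47058
def N49241 : Q := sm gg N47060
def N49242 : Q := sm gd N47061
def N49243 : Q := sm gi N47061
def N49244 : Q := sm gd N47062
def N49245 : Q := sm gi N47062
def N49246 : Q := sm gc N47063
def N49247 : Q := sm ge N47063
def N49248 : Q := sm gi N47063
def N49249 : Q := sm gb N47065
def N49250 : Q := sm ge N47065
def N49251 : Q := sm gi N47065
def N49252 : Q := sm gi N47066
def N49253 : Q := sm gh N47067
def N49254 : Q := sm gf N47069
def N49255 : Q := sm gi N47069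
def N49256 : Q := sm gh N47070
def N49257 : Q := sm gh N47071
def N49258 : Q := sm gb N47076
def N49259 : Q := sm gi N47076
def N49260 : Q := sm gh N47077
def N49261 : Q := sm gi N47078
def N49262 : Q := sm gh N47079
def N49263 : Q := sm gh N47081
def N49264 : Q := sm gd N47082
def N49265 : Q := sm gi N47082
def N49266 : Q := sm gd N47083
def N49267 : Q := sm gi N47083
def N49268 : Q := sm gc N47084
def N49269 : Q := sm ge N47084
def N49270 : Q := sm gi N47084
def N49271 : Q := sm gb N47086
def N49272 : Q := sm ge N47086
def N49273 : Q := sm gi N47086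
def N49274 : Q := sm gf N47087
def N49275 : Q := sm gi N47087
def N49276 : Q := sm gh N47088
def N49277 : Q := sm ge N47090
def N49278 : Q := sm gi N47090
def N49279 : Q := sm gi N47092
def N49280 : Q := sm ge N47094
def N49281 : Q := sm gi N47094
def N49282 : Q := sm gi N47095
def N49283 : Q := sm gh N47096
def N49284 : Q := sm ga N47097
def N49285 : Q := sm ge N47097
def N49286 : Q := sm gi N47097
def N49287 : Q := sm gf N47098
def N49288 : Q := sm gi N47098
def N49289 : Q := sm gh N47099
def N49290 : Q := sm gg N47100
def N49291 : Q := sm gi N47100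
def N49292 : Q := sm gh N47101
def N49293 : Q := sm gh N47103
def N49294 : Q := sm gj N47105
def N49295 : Q := sm gi N47105
def N49296 : Q := sm gh N47106
def N49297 : Q := sm gd N47107
def N49298 : Q := sm gh N47111
def N49299 : Q := sm gi N47113
def N49300 : Q := sm gh N47114
def N49301 : Q := sm gd N47115
def N49302 : Q := sm gh N47116
def N49303 : Q := sm gh N47118
def N49304 : Q := sm gi N47119
def N49305 : Q := sm gh N47121
def N49306 : Q := sm gi N47123
def N49307 : Q := sm gh N47125
def N49308 : Q := sm gf N47127
def N49309 : Q := sm gi N47127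
def N49310 : Q := sm gh N47128
def N49311 : Q := sm gi N47129
def N49312 : Q := sm gh N47130
def N49313 : Q := sm gh N47132
def N49314 : Q := sm gd N47133
def N49315 : Q := sm gi N47134
def N49316 : Q := sm gi N47136
def N49317 : Q := sm gh N47137
def N49318 : Q := sm gi N47138
def N49319 : Q := sm gh N47139
def N49320 : Q := sm gi N47141
def N49321 : Q := sm gi N47143
def N49322 : Q := sm gi N47144
def N49323 : Q := sm gh N47145
def N49324 : Q := sm gi N47146
def N49325 : Q := sm gh N47147
def N49326 : Q := sm gi N47148
def N49327 : Q := sm gh N47149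
def N49328 : Q := sm gi N47151
def N49329 : Q := sm gh N47152
def N49330 : Q := sm gd N47153
def N49331 : Q := sm gh N47154
def N49332 : Q := sm gi N47155
def N49333 : Q := sm gj N47156
def N49334 : Q := sm gh N47156
def N49335 : Q := sm gh N47157
def N49336 : Q := sm gd N47158
def N49337 : Q := sm gi N47158
def N49338 : Q := sm gi N47159
def N49339 : Q := sm gi N47161
def N49340 : Q := sm gj N47163
def N49341 : Q := sm gh N47163
def N49342 : Q := sm gh N47164
def N49343 : Q := sm gd N47165
def N49344 : Q := sm gi N47165
def N49345 : Q := sm gc N47166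
def N49346 : Q := sm ge N47166
def N49347 : Q := sm gi N47166
def N49348 : Q := sm gg N47168
def N49349 : Q := sm gh N47168
def N49350 : Q := sm gd N47169
def N49351 : Q := sm gi N47169
def N49352 : Q := sm gd N47170
def N49353 : Q := sm gi N47170
def N49354 : Q := sm gc N47171
def N49355 : Q := sm ge N47171
def N49356 : Q := sm gi N47171
def N49357 : Q := sm gb N47173
def N49358 : Q := sm gi N47173
def N49359 : Q := sm gi N47174
def N49360 : Q := sm gh N47175
def N49361 : Q := sm gf N47177
def N49362 : Q := sm gi N47177
def N49363 : Q := sm gh N47178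
def N49364 : Q := sm gh N47179
def N49365 : Q := sm gh N47181
def N49366 : Q := sm gi N47182
def N49367 : Q := sm gc N47183
def N49368 : Q := sm gi N47183
def N49369 : Q := sm gi N47186
def N49370 : Q := sm gh N47187
def N49371 : Q := sm gi N47188
def N49372 : Q := sm gh N47189
def N49373 : Q := sm gh N47191
def N49374 : Q := sm gh N47192
def N49375 : Q := sm gd N47193
def N49376 : Q := sm gi N47193
def N49377 : Q := sm gd N47194
def N49378 : Q := sm gi N47194
def N49379 : Q := sm gc N47195
def N49380 : Q := sm ge N47195
def N49381 : Q := sm gi N47195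
def N49382 : Q := sm gb N47197
def N49383 : Q := sm ge N47197
def N49384 : Q := sm gi N47197
def N49385 : Q := sm gf N47198
def N49386 : Q := sm gi N47198
def N49387 : Q := sm gh N47199
def N49388 : Q := sm gh N47200
def N49389 : Q := sm gd N47201
def N49390 : Q := sm gi N47201
def N49391 : Q := sm gc N47202
def N49392 : Q := sm ge N47202
def N49393 : Q := sm gi N47202
def N49394 : Q := sm gi N47204
def N49395 : Q := sm gb N47206
def N49396 : Q := sm gi N47206
def N49397 : Q := sm gf N47207
def N49398 : Q := sm gi N47207
def N49399 : Q := sm gh N47208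
def N49400 : Q := sm ga N47209
def N49401 : Q := sm ge N47209
def N49402 : Q := sm gi N47209
def N49403 : Q := sm gf N47210
def N49404 : Q := sm gi N47210
def N49405 : Q := sm gh N47211
def N49406 : Q := sm gg N47212
def N49407 : Q := sm gi N47212
def N49408 : Q := sm gh N47213
def N49409 : Q := sm gh N47215
def N49410 : Q := sm gg N47216
def N49411 : Q := sm gi N47216
def N49412 : Q := sm gh N47217
def N49413 : Q := sm gi N47219
def N49414 : Q := sm gh N47220
def N49415 : Q := sm gd N47221
def N49416 : Q := sm gh N47222
def N49417 : Q := sm gi N47224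
def N49418 : Q := sm ge N47225
def N49419 : Q := sm gi N47225
def N49420 : Q := sm gb N47227
def N49421 : Q := sm ge N47227
def N49422 : Q := sm gi N47227
def N49423 : Q := sm gi N47228
def N49424 : Q := sm gh N47229
def N49425 : Q := sm gh N47230
def N49426 : Q := sm gi N47231
def N49427 : Q := sm gh N47232
def N49428 : Q := sm gi N47234
def N49429 : Q := sm gh N47235
def N49430 : Q := sm gd N47236
def N49431 : Q := sm gi N47238
def N49432 : Q := sm gh N47239
def N49433 : Q := sm ga N47240
def N49434 : Q := sm ge N47240
def N49435 : Q := sm gi N47240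
def N49436 : Q := sm gi N47241
def N49437 : Q := sm gh N47242
def N49438 : Q := sm gh N47243
def N49439 : Q := sm gi N47245
def N49440 : Q := sm gi N47248
def N49441 : Q := sm gh N47249
def N49442 : Q := sm gh N47251
def N49443 : Q := sm gd N47252
def N49444 : Q := sm gh N47255
def N49445 : Q := sm gh N47256
def N49446 : Q := sm gd N47257
def N49447 : Q := sm gi N47257
def N49448 : Q := sm gi N47258
def N49449 : Q := sm gh N47260
def N49450 : Q := sm gd N47261
def N49451 : Q := sm gi N47261
def N49452 : Q := sm gd N47262
def N49453 : Q := sm gi N47262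
def N49454 : Q := sm gc N47263
def N49455 : Q := sm gi N47263
def N49456 : Q := sm gb N47265
def N49457 : Q := sm gi N47265
def N49458 : Q := sm gh N47266
def N49459 : Q := sm gj N47268
def N49460 : Q := sm gh N47268
def N49461 : Q := sm gh N47269
def N49462 : Q := sm gd N47270
def N49463 : Q := sm gi N47270
def N49464 : Q := sm gd N47271
def N49465 : Q := sm gi N47271
def N49466 : Q := sm gc N47272
def N49467 : Q := sm ge N47272
def N49468 : Q := sm gi N47272
def N49469 : Q := sm gb N47274
def N49470 : Q := sm ge N47274
def N49471 : Q := sm gi N47274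
def N49472 : Q := sm gi N47275
def N49473 : Q := sm gh N47276
def N49474 : Q := sm gh N47277
def N49475 : Q := sm gd N47278
def N49476 : Q := sm gi N47278
def N49477 : Q := sm gc N47279
def N49478 : Q := sm ge N47279
def N49479 : Q := sm gi N47279
def N49480 : Q := sm gc N47281
def N49481 : Q := sm ge N47281
def N49482 : Q := sm gi N47281
def N49483 : Q := sm gb N47283
def N49484 : Q := sm ge N47283
def N49485 : Q := sm gi N47283
def N49486 : Q := sm gf N47284
def N49487 : Q := sm gi N47284
def N49488 : Q := sm gh N47285
def N49489 : Q := sm ga N47286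
def N49490 : Q := sm ge N47286
def N49491 : Q := sm gi N47286
def N49492 : Q := sm gi N47287
def N49493 : Q := sm gh N47288
def N49494 : Q := sm gh N47289
def N49495 : Q := sm gf N47291
def N49496 : Q := sm gi N47291
def N49497 : Q := sm gh N47292
def N49498 : Q := sm gi N47293
def N49499 : Q := sm gh N47294
def N49500 : Q := sm gd N47296
def N49501 : Q := sm gi N47297
def N49502 : Q := sm gc N47298
def N49503 : Q := sm ge N47298
def N49504 : Q := sm gi N47298
def N49505 : Q := sm gb N47300
def N49506 : Q := sm gi N47300
def N49507 : Q := sm gi N47301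
def N49508 : Q := sm gh N47302
def N49509 : Q := sm gb N47303
def N49510 : Q := sm gi N47303
def N49511 : Q := sm gh N47304
def N49512 : Q := sm ga N47305
def N49513 : Q := sm gi N47305
def N49514 : Q := sm gh N47306
def N49515 : Q := sm gi N47308
def N49516 : Q := sm gh N47309
def N49517 : Q := sm gd N47310
def N49518 : Q := sm gh N47311
def N49519 : Q := sm gd N47312
def N49520 : Q := sm gi N47312
def N49521 : Q := sm gh N47313
def N49522 : Q := sm gd N47314
def N49523 : Q := sm gi N47314
def N49524 : Q := sm gc N47315
def N49525 : Q := sm ge N47315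
def N49526 : Q := sm gi N47315
def N49527 : Q := sm gc N47317
def N49528 : Q := sm ge N47317
def N49529 : Q := sm gi N47317
def N49530 : Q := sm gb N47319
def N49531 : Q := sm ge N47319
def N49532 : Q := sm gi N47319
def N49533 : Q := sm gf N47320
def N49534 : Q := sm gi N47320
def N49535 : Q := sm gh N47321
def N49536 : Q := sm gi N47322
def N49537 : Q := sm gi N47323
def N49538 : Q := sm gh N47324
def N49539 : Q := sm gg N47325
def N49540 : Q := sm gi N47325
def N49541 : Q := sm gh N47326
def N49542 : Q := sm gd N47328
def N49543 : Q := sm gi N47328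
def N49544 : Q := sm gc N47329
def N49545 : Q := sm ge N47329
def N49546 : Q := sm gi N47329
def N49547 : Q := sm gb N47331
def N49548 : Q := sm ge N47331
def N49549 : Q := sm gi N47331
def N49550 : Q := sm gf N47332
def N49551 : Q := sm gi N47332
def N49552 : Q := sm gh N47333
def N49553 : Q := sm ge N47334
def N49554 : Q := sm gi N47334
def N49555 : Q := sm gf N47335
def N49556 : Q := sm gi N47335
def N49557 : Q := sm gh N47336
def N49558 : Q := sm ga N47337
def N49559 : Q := sm ge N47337
def N49560 : Q := sm gi N47337
def N49561 : Q := sm gf N47338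
def N49562 : Q := sm gi N47338
def N49563 : Q := sm gh N47339
def N49564 : Q := sm gg N47340
def N49565 : Q := sm gi N47340
def N49566 : Q := sm gh N47341
def N49567 : Q := sm gi N47343
def N49568 : Q := sm gi N47344
def N49569 : Q := sm gh N47345
def N49570 : Q := sm gg N47346
def N49571 : Q := sm gi N47346
def N49572 : Q := sm gh N47347
def N49573 : Q := sm gd N47348
def N49574 : Q := sm gj N47349
def N49575 : Q := sm gi N47349
def N49576 : Q := sm gh N47350
def N49577 : Q := sm gd N47351
def N49578 : Q := sm gi N47352
def N49579 : Q := sm gh N47353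
def N49580 : Q := sm gj N47355
def N49581 : Q := sm gi N47355
def N49582 : Q := sm gh N47356
def N49583 : Q := sm gd N47357
def N49584 : Q := sm gi N47358
def N49585 : Q := sm gh N47359
def N49586 : Q := sm gd N47360
def N49587 : Q := sm gc N47361
def N49588 : Q := sm ge N47365
def N49589 : Q := sm gi N47365
def N49590 : Q := sm gi N47366
def N49591 : Q := sm gh N47367
def N49592 : Q := sm ga N47368
def N49593 : Q := sm ge N47368
def N49594 : Q := sm gi N47368
def N49595 : Q := sm gd N47369
def N49596 : Q := sm gi N47369
def N49597 : Q := sm gh N47370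
def N49598 : Q := sm gh N47371
def N49599 : Q := sm gh N47373
def N49600 : Q := sm gi N47375
def N49601 : Q := sm gh N47376
def N49602 : Q := sm gd N47377
def N49603 : Q := sm gh N47378
def N49604 : Q := sm gd N47379
def N49605 : Q := sm ge N47380
def N49606 : Q := sm gh N47381
def N49607 : Q := sm ge N47383
def N49608 : Q := sm gi N47383
def N49609 : Q := sm gi N47384
def N49610 : Q := sm gh N47385
def N49611 : Q := sm gh N47386
def N49612 : Q := sm gd N47388
def N49613 : Q := sm gh N47389
def N49614 : Q := sm gi N47395
def N49615 : Q := sm gh N47396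
def N49616 : Q := sm gh N47400
def N49617 : Q := sm gg N47401
def N49618 : Q := sm gi N47401
def N49619 : Q := sm gh N47402
def N49620 : Q := sm gi N47404
def N49621 : Q := sm gh N47405
def N49622 : Q := sm gh N47407
def N49623 : Q := sm gd N47408
def N49624 : Q := sm gh N47411
def N49625 : Q := sm gd N47412
def N49626 : Q := sm gi N47412
def N49627 : Q := sm gd N47413
def N49628 : Q := sm gi N47413
def N49629 : Q := sm gc N47414
def N49630 : Q := sm gi N47414
def N49631 : Q := sm gi N47416
def N49632 : Q := sm gh N47417
def N49633 : Q := sm gh N47419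
def N49634 : Q := sm gd N47420
def N49635 : Q := sm gi N47420
def N49636 : Q := sm ge N47421
def N49637 : Q := sm gi N47421
def N49638 : Q := sm ge N47423
def N49639 : Q := sm gi N47423
def N49640 : Q := sm gf N47425
def N49641 : Q := sm gi N47425
def N49642 : Q := sm gh N47426
def N49643 : Q := sm gh N47427
def N49644 : Q := sm gi N47429
def N49645 : Q := sm gh N47430
def N49646 : Q := sm gi N47431
def N49647 : Q := sm gh N47432
def N49648 : Q := sm gd N47434
def N49649 : Q := sm gi N47435
def N49650 : Q := sm gh N47437
def N49651 : Q := sm gd N47438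
def N49652 : Q := sm gi N47438
def N49653 : Q := sm gh N47439
def N49654 : Q := sm gd N47440
def N49655 : Q := sm gi N47440
def N49656 : Q := sm ge N47441
def N49657 : Q := sm gi N47441
def N49658 : Q := sm ge N47443
def N49659 : Q := sm gi N47443
def N49660 : Q := sm gf N47445
def N49661 : Q := sm gi N47445
def N49662 : Q := sm gh N47446
def N49663 : Q := sm gh N47447
def N49664 : Q := sm gd N47449
def N49665 : Q := sm gi N47449
def N49666 : Q := sm gc N47450
def N49667 : Q := sm ge N47450
def N49668 : Q := sm gi N47450
def N49669 : Q := sm gb N47452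
def N49670 : Q := sm ge N47452
def N49671 : Q := sm gi N47452
def N49672 : Q := sm gf N47453
def N49673 : Q := sm gi N47453
def N49674 : Q := sm gh N47454
def N49675 : Q := sm gi N47455
def N49676 : Q := sm gf N47456
def N49677 : Q := sm gi N47456
def N49678 : Q := sm gh N47457
def N49679 : Q := sm gi N47458
def N49680 : Q := sm gf N47459
def N49681 : Q := sm gi N47459
def N49682 : Q := sm gh N47460
def N49683 : Q := sm gg N47461
def N49684 : Q := sm gi N47461
def N49685 : Q := sm gh N47462
def N49686 : Q := sm gh N47464
def N49687 : Q := sm gh N47465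
def N49688 : Q := sm gj N47467
def N49689 : Q := sm gi N47467
def N49690 : Q := sm gh N47468
def N49691 : Q := sm gd N47469
def N49692 : Q := sm gg N47470
def N49693 : Q := sm gi N47470
def N49694 : Q := sm gh N47471
def N49695 : Q := sm gj N47473
def N49696 : Q := sm gi N47473
def N49697 : Q := sm gh N47474
def N49698 : Q := sm gd N47475
def N49699 : Q := sm gi N47476
def N49700 : Q := sm gh N47477
def N49701 : Q := sm gd N47478
def N49702 : Q := sm gc N47479
def N49703 : Q := sm gh N47480
def N49704 : Q := sm gc N47482
def N49705 : Q := sm gi N47482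
def N49706 : Q := sm gi N47484
def N49707 : Q := sm gi N47485
def N49708 : Q := sm gi N47487
def N49709 : Q := sm gd N47488
def N49710 : Q := sm gi N47488
def N49711 : Q := sm gh N47501
def N49712 : Q := sm gd N47502
def N49713 : Q := sm gi N47502
def N49714 : Q := sm gd N47503
def N49715 : Q := sm gi N47503
def N49716 : Q := sm gi N47504
def N49717 : Q := sm gh N47506
def N49718 : Q := sm gh N47507
def N49719 : Q := sm gd N47508
def N49720 : Q := sm gi N47508
def N49721 : Q := sm gc N47509
def N49722 : Q := sm ge N47509
def N49723 : Q := sm gi N47509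
def N49724 : Q := sm gc N47511
def N49725 : Q := sm gi N47511
def N49726 : Q := sm gi N47513
def N49727 : Q := sm gh N47514
def N49728 : Q := sm gh N47515
def N49729 : Q := sm gh N47517
def N49730 : Q := sm gd N47518
def N49731 : Q := sm gi N47518
def N49732 : Q := sm gh N47519
def N49733 : Q := sm gd N47520
def N49734 : Q := sm gi N47520
def N49735 : Q := sm ge N47521
def N49736 : Q := sm gi N47521
def N49737 : Q := sm ge N47523
def N49738 : Q := sm gi N47523
def N49739 : Q := sm gf N47525
def N49740 : Q := sm gi N47525
def N49741 : Q := sm gh N47526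
def N49742 : Q := sm gh N47527
def N49743 : Q := sm gd N47529
def N49744 : Q := sm gi N47529
def N49745 : Q := sm gc N47530
def N49746 : Q := sm ge N47530
def N49747 : Q := sm gi N47530
def N49748 : Q := sm gb N47532
def N49749 : Q := sm ge N47532
def N49750 : Q := sm gi N47532
def N49751 : Q := sm gf N47533
def N49752 : Q := sm gi N47533
def N49753 : Q := sm gh N47534
def N49754 : Q := sm ge N47535
def N49755 : Q := sm gi N47535
def N49756 : Q := sm gf N47536
def N49757 : Q := sm gi N47536
def N49758 : Q := sm gh N47537
def N49759 : Q := sm gi N47538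
def N49760 : Q := sm gf N47539
def N49761 : Q := sm gi N47539
def N49762 : Q := sm gh N47540
def N49763 : Q := sm gi N47541
def N49764 : Q := sm gh N47542
def N49765 : Q := sm gh N47544
def N49766 : Q := sm gh N47545
def N49767 : Q := sm gd N47547
def N49768 : Q := sm gg N47548
def N49769 : Q := sm gi N47548
def N49770 : Q := sm gh N47549
def N49771 : Q := sm gh N47551
def N49772 : Q := sm gd N47552
def N49773 : Q := sm gc N47553
def N49774 : Q := sm gc N47554
def N49775 : Q := sm ge N47554
def N49776 : Q := sm gi N47554
def N49777 : Q := sm ge N47556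
def N49778 : Q := sm gi N47556
def N49779 : Q := sm gi N47557
def N49780 : Q := sm ga N47559
def N49781 : Q := sm ge N47559
def N49782 : Q := sm gi N47559
def N49783 : Q := sm gd N47560
def N49784 : Q := sm gi N47560
def N49785 : Q := sm gi N47564
def N49786 : Q := sm gh N47567
def N49787 : Q := sm gd N47568
def N49788 : Q := sm gi N47568
def N49789 : Q := sm gc N47569
def N49790 : Q := sm ge N47569
def N49791 : Q := sm gi N47569
def N49792 : Q := sm gd N47571
def N49793 : Q := sm gi N47571
def N49794 : Q := sm gc N47572
def N49795 : Q := sm ge N47572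
def N49796 : Q := sm gi N47572
def N49797 : Q := sm gb N47574
def N49798 : Q := sm ge N47574
def N49799 : Q := sm gi N47574
def N49800 : Q := sm gf N47575
def N49801 : Q := sm gi N47575
def N49802 : Q := sm gh N47576
def N49803 : Q := sm gb N47577
def N49804 : Q := sm ge N47577
def N49805 : Q := sm gi N47577
def N49806 : Q := sm gf N47578
def N49807 : Q := sm gi N47578
def N49808 : Q := sm gh N47579
def N49809 : Q := sm gi N47580
def N49810 : Q := sm gf N47581
def N49811 : Q := sm gi N47581
def N49812 : Q := sm gh N47582
def N49813 : Q := sm gg N47583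
def N49814 : Q := sm gi N47583
def N49815 : Q := sm gh N47584
def N49816 : Q := sm gh N47586
def N49817 : Q := sm gg N47587
def N49818 : Q := sm gi N47587
def N49819 : Q := sm gh N47588
def N49820 : Q := sm gj N47590
def N49821 : Q := sm gi N47590
def N49822 : Q := sm gh N47591
def N49823 : Q := sm gd N47592
def N49824 : Q := sm gc N47593
def N49825 : Q := sm ge N47593
def N49826 : Q := sm gi N47593
def N49827 : Q := sm gb N47595
def N49828 : Q := sm ge N47595
def N49829 : Q := sm gi N47595
def N49830 : Q := sm gf N47596
def N49831 : Q := sm gi N47596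
def N49832 : Q := sm gh N47597
def N49833 : Q := sm ga N47598
def N49834 : Q := sm ge N47598
def N49835 : Q := sm gi N47598
def N49836 : Q := sm gd N47599
def N49837 : Q := sm gf N47599
def N49838 : Q := sm gi N47599
def N49839 : Q := sm gh N47600
def N49840 : Q := sm gg N47601
def N49841 : Q := sm gi N47601
def N49842 : Q := sm gh N47602
def N49843 : Q := sm ga N47604
def N49844 : Q := sm ge N47604
def N49845 : Q := sm gi N47604
def N49846 : Q := sm gf N47605
def N49847 : Q := sm gi N47605
def N49848 : Q := sm gh N47606
def N49849 : Q := sm gg N47607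
def N49850 : Q := sm gi N47607
def N49851 : Q := sm gh N47608
def N49852 : Q := sm gi N47610
def N49853 : Q := sm gf N47611
def N49854 : Q := sm gi N47611
def N49855 : Q := sm gh N47612
def N49856 : Q := sm gg N47613
def N49857 : Q := sm gi N47613
def N49858 : Q := sm gh N47614
def N49859 : Q := sm gd N47615
def N49860 : Q := sm gj N47616
def N49861 : Q := sm gi N47616
def N49862 : Q := sm gh N47617
def N49863 : Q := sm gd N47618
def N49864 : Q := sm gh N47619
def N49865 : Q := sm gg N47620
def N49866 : Q := sm gi N47620
def N49867 : Q := sm gh N47621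
def N49868 : Q := sm gd N47622
def N49869 : Q := sm gj N47623
def N49870 : Q := sm gi N47623
def N49871 : Q := sm gh N47624
def N49872 : Q := sm gd N47625
def N49873 : Q := sm ge N47626
def N49874 : Q := sm gi N47627
def N49875 : Q := sm gh N47628
def N49876 : Q := sm gd N47629
def N49877 : Q := sm gc N47630
def N49878 : Q := sm gj N47631
def N49879 : Q := sm gi N47631
def N49880 : Q := sm gh N47632
def N49881 : Q := sm gd N47633
def N49882 : Q := sm gi N47634
def N49883 : Q := sm gh N47635
def N49884 : Q := sm gd N47636
def N49885 : Q := sm gc N47637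
def N49886 : Q := sm gh N47638
def N49887 : Q := sm gd N47639
def N49888 : Q := sm gc N47640
def N49889 : Q := sm gb N47641
def N49890 : Q := sm gb N47643
def N49891 : Q := sm ge N47643
def N49892 : Q := sm gi N47643
def N49893 : Q := sm gi N47644
def N49894 : Q := sm gh N47645
def N49895 : Q := sm ga N47646
def N49896 : Q := sm ge N47646
def N49897 : Q := sm gi N47646
def N49898 : Q := sm gd N47647
def N49899 : Q := sm gi N47647
def N49900 : Q := sm gh N47648
def N49901 : Q := sm gh N47649
def N49902 : Q := sm ge N47651
def N49903 : Q := sm gi N47651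
def N49904 : Q := sm gd N47652
def N49905 : Q := sm gi N47652
def N49906 : Q := sm gh N47653
def N49907 : Q := sm gh N47654
def N49908 : Q := sm gi N47654
def N49909 : Q := sm gh N47655
def N49910 : Q := sm gd N47656
def N49911 : Q := sm gd N47657
def N49912 : Q := sm gi N47658
def N49913 : Q := sm gh N47659
def N49914 : Q := sm gd N47660
def N49915 : Q := sm gh N47661
def N49916 : Q := sm gd N47662
def N49917 : Q := sm ge N47663
def N49918 : Q := sm gi N47671
def N49919 : Q := sm gi N47674
def N49920 : Q := sm gh N47675
def N49921 : Q := sm gi N47676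
def N49922 : Q := sm gd N47678
def N49923 : Q := sm gh N47682
def N49924 : Q := sm gd N47683
def N49925 : Q := sm gh N47688
def N49926 : Q := sm gi N47689
def N49927 : Q := sm gi N47690
def N49928 : Q := sm gi N47692
def N49929 : Q := sm gi N47694
def N49930 : Q := sm gc N47695
def N49931 : Q := sm gi N47695
def N49932 : Q := sm ge N47698
def N49933 : Q := sm ge N47701
def N49934 : Q := sm gh N47703
def N49935 : Q := sm gi N47704
def N49936 : Q := sm gc N47705
def N49937 : Q := sm gi N47705
def N49938 : Q := sm gb N47707
def N49939 : Q := sm ge N47707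
def N49940 : Q := sm gi N47707
def N49941 : Q := sm gi N47708
def N49942 : Q := sm gh N47709
def N49943 : Q := sm gb N47711
def N49944 : Q := sm gi N47711
def N49945 : Q := sm ga N47713
def N49946 : Q := sm ge N47713
def N49947 : Q := sm gi N47713
def N49948 : Q := sm gd N47714
def N49949 : Q := sm gi N47714
def N49950 : Q := sm gi N47717
def N49951 : Q := sm gi N47719
def N49952 : Q := sm gh N47726
def N49953 : Q := sm gh N47731
def N49954 : Q := sm gd N47732
def N49955 : Q := sm gh N47733
def N49956 : Q := sm gd N47734
def N49957 : Q := sm gi N47735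
def N49958 : Q := sm gh N47736
def N49959 : Q := sm gd N47737
def N49960 : Q := sm ge N47738
def N49961 : Q := sm gc N47739
def N49962 : Q := sm gh N47740
def N49963 : Q := sm gd N47741
def N49964 : Q := sm ge N47742
def N49965 : Q := sm gf N47745
def N49966 : Q := sm gi N47751
def N49967 : Q := sm gh N47753
def N49968 : Q := sm gi N47754
def N49969 : Q := sm gi N47756
def N49970 : Q := sm gh N47757
def N49971 : Q := sm gh N47761
def N49972 : Q := sm gi N47762
def N49973 : Q := sm gi N47764
def N49974 : Q := sm gh N47765
def N49975 : Q := sm ge N47766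
def N49976 : Q := sm gi N47766
def N49977 : Q := sm gf N47767
def N49978 : Q := sm gi N47767
def N49979 : Q := sm gh N47768
def N49980 : Q := sm gi N47769
def N49981 : Q := sm gh N47770
def N49982 : Q := sm gd N47779
def N49983 : Q := sm gi N47779
def N49984 : Q := sm gi N47780
def N49985 : Q := sm gi N47782
def N49986 : Q := sm gh N47783
def N49987 : Q := sm ge N47784
def N49988 : Q := sm gi N47784
def N49989 : Q := sm gh N47786
def N49990 : Q := sm gh N47787
def N49991 : Q := sm gd N47789
def N49992 : Q := sm gd N47790
def N49993 : Q := sm gi N47790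
def N49994 : Q := sm gi N47791
def N49995 : Q := sm gh N47793
def N49996 : Q := sm ge N47794
def N49997 : Q := sm gi N47794
def N49998 : Q := sm gf N47796
def N49999 : Q := sm gi N47796
def N50000 : Q := sm gh N47797
def N50001 : Q := sm gh N47798
def N50002 : Q := sm gi N47800
def N50003 : Q := sm gi N47802
def N50004 : Q := sm gi N47803
def N50005 : Q := sm ge N47808
def N50006 : Q := sm gi N47808
def N50007 : Q := sm gh N47810
def N50008 : Q := sm gg N47811
def N50009 : Q := sm gi N47811
def N50010 : Q := sm gh N47812
def N50011 : Q := sm gd N47814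
def N50012 : Q := sm gi N47814
def N50013 : Q := sm gc N47815
def N50014 : Q := sm ge N47815
def N50015 : Q := sm gi N47815
def N50016 : Q := sm gb N47817
def N50017 : Q := sm ge N47817
def N50018 : Q := sm gi N47817
def N50019 : Q := sm gf N47818
def N50020 : Q := sm gi N47818
def N50021 : Q := sm gh N47819
def N50022 : Q := sm gb N47820
def N50023 : Q := sm gi N47820
def N50024 : Q := sm gh N47821
def N50025 : Q := sm ge N47822
def N50026 : Q := sm gi N47822
def N50027 : Q := sm gf N47823
def N50028 : Q := sm gi N47823
def N50029 : Q := sm gh N47824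
def N50030 : Q := sm gg N47825
def N50031 : Q := sm gi N47825
def N50032 : Q := sm gh N47826
def N50033 : Q := sm gi N47828
def N50034 : Q := sm gh N47829
def N50035 : Q := sm gg N47830
def N50036 : Q := sm gi N47830
def N50037 : Q := sm gh N47831
def N50038 : Q := sm gd N47832
def N50039 : Q := sm gj N47833
def N50040 : Q := sm gi N47833
def N50041 : Q := sm gh N47834
def N50042 : Q := sm gi N47836
def N50043 : Q := sm gi N47838
def N50044 : Q := sm gi N47842
def N50045 : Q := sm gi N47844
def N50046 : Q := sm gd N47845
def N50047 : Q := sm gi N47845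
def N50048 : Q := sm gi N47848
def N50049 : Q := sm gh N47850
def N50050 : Q := sm gd N47851
def N50051 : Q := sm gi N47854
def N50052 : Q := sm gi N47856
def N50053 : Q := sm gh N47858
def N50054 : Q := sm gi N47863
def N50055 : Q := sm gh N47864
def N50056 : Q := sm gd N47865
def N50057 : Q := sm gh N47866
def N50058 : Q := sm gd N47867
def N50059 : Q := sm ge N47868
def N50060 : Q := sm gd N47869
def N50061 : Q := sm gi N47869
def N50062 : Q := sm gd N47870
def N50063 : Q := sm gi N47870
def N50064 : Q := sm ge N47871
def N50065 : Q := sm gi N47871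
def N50066 : Q := sm gi N47873
def N50067 : Q := sm gh N47875
def N50068 : Q := sm ge N47877
def N50069 : Q := sm gi N47877
def N50070 : Q := sm gb N47879
def N50071 : Q := sm ge N47879
def N50072 : Q := sm gi N47879
def N50073 : Q := sm gi N47880
def N50074 : Q := sm gh N47881
def N50075 : Q := sm gb N47882
def N50076 : Q := sm gi N47882
def N50077 : Q := sm gh N47883
def N50078 : Q := sm ga N47884
def N50079 : Q := sm gi N47884
def N50080 : Q := sm gh N47885
def N50081 : Q := sm gi N47887
def N50082 : Q := sm gh N47888
def N50083 : Q := sm gd N47889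
def N50084 : Q := sm ga N47890
def N50085 : Q := sm gi N47890
def N50086 : Q := sm gh N47891
def N50087 : Q := sm ga N47893
def N50088 : Q := sm gi N47893
def N50089 : Q := sm gh N47894
def N50090 : Q := sm gi N47896
def N50091 : Q := sm gh N47897
def N50092 : Q := sm gd N47898
def N50093 : Q := sm gh N47899
def N50094 : Q := sm gd N47900
def N50095 : Q := sm ge N47901
def N50096 : Q := sm gi N47902
def N50097 : Q := sm gh N47903
def N50098 : Q := sm gd N47904
def N50099 : Q := sm gi N47905
def N50100 : Q := sm gh N47906
def N50101 : Q := sm gh N47908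
def N50102 : Q := sm gd N47909
def N50103 : Q := sm gi N47914
def N50104 : Q := sm gd N47916
def N50105 : Q := sm gi N47916
def N50106 : Q := sm ge N47917
def N50107 : Q := sm gi N47917
def N50108 : Q := sm gi N47919
def N50109 : Q := sm gh N47921
def N50110 : Q := sm gc N47923
def N50111 : Q := sm ge N47923
def N50112 : Q := sm gi N47923
def N50113 : Q := sm gc N47925
def N50114 : Q := sm gi N47925
def N50115 : Q := sm gi N47927
def N50116 : Q := sm gh N47928
def N50117 : Q := sm gh N47929
def N50118 : Q := sm gd N47931
def N50119 : Q := sm gi N47931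
def N50120 : Q := sm gc N47932
def N50121 : Q := sm ge N47932
def N50122 : Q := sm gi N47932
def N50123 : Q := sm gb N47934
def N50124 : Q := sm ge N47934
def N50125 : Q := sm gi N47934
def N50126 : Q := sm gf N47935
def N50127 : Q := sm gi N47935
def N50128 : Q := sm gh N47936
def N50129 : Q := sm gb N47937
def N50130 : Q := sm ge N47937
def N50131 : Q := sm gi N47937
def N50132 : Q := sm gf N47938
def N50133 : Q := sm gi N47938
def N50134 : Q := sm gh N47939
def N50135 : Q := sm gi N47940
def N50136 : Q := sm gf N47941
def N50137 : Q := sm gi N47941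
def N50138 : Q := sm gh N47942
def N50139 : Q := sm gi N47943
def N50140 : Q := sm gh N47944
def N50141 : Q := sm gh N47946
def N50142 : Q := sm gh N47947
def N50143 : Q := sm gd N47948
def N50144 : Q := sm gi N47950
def N50145 : Q := sm gc N47953
def N50146 : Q := sm gi N47953
def N50147 : Q := sm gb N47955
def N50148 : Q := sm ge N47955
def N50149 : Q := sm gi N47955
def N50150 : Q := sm gi N47956
def N50151 : Q := sm gh N47957
def N50152 : Q := sm ga N47958
def N50153 : Q := sm ge N47958
def N50154 : Q := sm gi N47958
def N50155 : Q := sm gd N47959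
def N50156 : Q := sm gi N47959
def N50157 : Q := sm gh N47960
def N50158 : Q := sm gh N47961
def N50159 : Q := sm ga N47963
def N50160 : Q := sm gi N47963
def N50161 : Q := sm gh N47964
def N50162 : Q := sm gi N47966
def N50163 : Q := sm gh N47967
def N50164 : Q := sm gd N47968
def N50165 : Q := sm gh N47969
def N50166 : Q := sm gd N47970
def N50167 : Q := sm ge N47971
def N50168 : Q := sm gc N47972
def N50169 : Q := sm ge N47972
def N50170 : Q := sm gi N47972
def N50171 : Q := sm gd N47974
def N50172 : Q := sm gi N47974
def N50173 : Q := sm gc N47975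
def N50174 : Q := sm ge N47975
def N50175 : Q := sm gi N47975
def N50176 : Q := sm gb N47977
def N50177 : Q := sm ge N47977
def N50178 : Q := sm gi N47977
def N50179 : Q := sm gf N47978
def N50180 : Q := sm gi N47978
def N50181 : Q := sm gh N47979
def N50182 : Q := sm gb N47980
def N50183 : Q := sm gi N47980
def N50184 : Q := sm gh N47981
def N50185 : Q := sm ge N47982
def N50186 : Q := sm gi N47982
def N50187 : Q := sm gf N47983
def N50188 : Q := sm gi N47983
def N50189 : Q := sm gh N47984
def N50190 : Q := sm gg N47985
def N50191 : Q := sm gi N47985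
def N50192 : Q := sm gh N47986
def N50193 : Q := sm gi N47988
def N50194 : Q := sm gh N47989
def N50195 : Q := sm gh N47990
def N50196 : Q := sm gd N47991
def N50197 : Q := sm gj N47992
def N50198 : Q := sm gi N47992
def N50199 : Q := sm gh N47993
def N50200 : Q := sm gc N47995
def N50201 : Q := sm ge N47995
def N50202 : Q := sm gi N47995
def N50203 : Q := sm gb N47997
def N50204 : Q := sm ge N47997
def N50205 : Q := sm gi N47997
def N50206 : Q := sm gf N47998
def N50207 : Q := sm gi N47998
def N50208 : Q := sm gh N47999
def N50209 : Q := sm ga N48000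
def N50210 : Q := sm ge N48000
def N50211 : Q := sm gi N48000
def N50212 : Q := sm gd N48001
def N50213 : Q := sm gf N48001
def N50214 : Q := sm gi N48001
def N50215 : Q := sm gh N48002
def N50216 : Q := sm gg N48003
def N50217 : Q := sm gi N48003
def N50218 : Q := sm gh N48004
def N50219 : Q := sm ga N48006
def N50220 : Q := sm ge N48006
def N50221 : Q := sm gi N48006
def N50222 : Q := sm gf N48007
def N50223 : Q := sm gi N48007
def N50224 : Q := sm gh N48008
def N50225 : Q := sm gi N48009
def N50226 : Q := sm gh N48010
def N50227 : Q := sm ge N48012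
def N50228 : Q := sm gi N48012
def N50229 : Q := sm gf N48013
def N50230 : Q := sm gi N48013
def N50231 : Q := sm gh N48014
def N50232 : Q := sm gg N48015
def N50233 : Q := sm gi N48015
def N50234 : Q := sm gh N48016
def N50235 : Q := sm gd N48017
def N50236 : Q := sm gj N48018
def N50237 : Q := sm gi N48018
def N50238 : Q := sm gh N48019
def N50239 : Q := sm gi N48021
def N50240 : Q := sm gh N48022
def N50241 : Q := sm gg N48023
def N50242 : Q := sm gi N48023
def N50243 : Q := sm gh N48024
def N50244 : Q := sm gd N48025
def N50245 : Q := sm gj N48026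
def N50246 : Q := sm gi N48026
def N50247 : Q := sm gh N48027
def N50248 : Q := sm gd N48028
def N50249 : Q := sm ge N48029
def N50250 : Q := sm gi N48030
def N50251 : Q := sm gh N48031
def N50252 : Q := sm gi N48034
def N50253 : Q := sm gi N48037
def N50254 : Q := sm gh N48038
def N50255 : Q := sm gi N48039
def N50256 : Q := sm gd N48040
def N50257 : Q := sm gi N48040
def N50258 : Q := sm gh N48041
def N50259 : Q := sm gh N48042
def N50260 : Q := sm gi N48044
def N50261 : Q := sm gd N48045
def N50262 : Q := sm gi N48045
def N50263 : Q := sm gh N48046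
def N50264 : Q := sm gh N48047
def N50265 : Q := sm gi N48047
def N50266 : Q := sm gh N48048
def N50267 : Q := sm gd N48049
def N50268 : Q := sm gi N48051
def N50269 : Q := sm gh N48052
def N50270 : Q := sm gd N48053
def N50271 : Q := sm gh N48054
def N50272 : Q := sm gd N48055
def N50273 : Q := sm ge N48056
def N50274 : Q := sm gh N48061
def N50275 : Q := sm gh N48062
def N50276 : Q := sm gh N48065
def N50277 : Q := sm gh N48066
def N50278 : Q := sm gd N48067
def N50279 : Q := sm gh N48071
def N50280 : Q := sm gi N48075
def N50281 : Q := sm gi N48077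
def N50282 : Q := sm gi N48079
def N50283 : Q := sm gh N48080
def N50284 : Q := sm gi N48081
def N50285 : Q := sm gh N48082
def N50286 : Q := sm gi N48084
def N50287 : Q := sm gh N48085
def N50288 : Q := sm gh N48086
def N50289 : Q := sm gi N48087
def N50290 : Q := sm gh N48088
def N50291 : Q := sm gh N48089
def N50292 : Q := sm gd N48091
def N50293 : Q := sm gi N48092
def N50294 : Q := sm gh N48093
def N50295 : Q := sm gi N48094
def N50296 : Q := sm gh N48097
def N50297 : Q := sm gh N48098
def N50298 : Q := sm gh N48101
def N50299 : Q := sm gd N48103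
def N50300 : Q := sm gi N48104
def N50301 : Q := sm gh N48105
def N50302 : Q := sm gi N48108
def N50303 : Q := sm gi N48109
def N50304 : Q := sm gh N48110
def N50305 : Q := sm gi N48111
def N50306 : Q := sm gh N48112
def N50307 : Q := sm gi N48114
def N50308 : Q := sm gi N48115
def N50309 : Q := sm gh N48116
def N50310 : Q := sm gi N48117
def N50311 : Q := sm gh N48118
def N50312 : Q := sm gd N48119
def N50313 : Q := sm gi N48120
def N50314 : Q := sm gh N48121
def N50315 : Q := sm gh N48125
def N50316 : Q := sm gh N48126
def N50317 : Q := sm gh N48128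
def N50318 : Q := sm gd N48129
def N50319 : Q := sm gh N48130
def N50320 : Q := sm gd N48131
def N50321 : Q := sm ge N48132
def N50322 : Q := sm gh N48135
def N50323 : Q := sm gd N48138
def N50324 : Q := sm gi N48138
def N50325 : Q := sm gi N48139
def N50326 : Q := sm gh N48141
def N50327 : Q := sm gd N48142
def N50328 : Q := sm gi N48142
def N50329 : Q := sm gc N48143
def N50330 : Q := sm ge N48143
def N50331 : Q := sm gi N48143
def N50332 : Q := sm gi N48145
def N50333 : Q := sm gi N48147
def N50334 : Q := sm gh N48148
def N50335 : Q := sm gh N48149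
def N50336 : Q := sm gb N48152
def N50337 : Q := sm gi N48152
def N50338 : Q := sm gh N48153
def N50339 : Q := sm gi N48154
def N50340 : Q := sm gh N48155
def N50341 : Q := sm gi N48157
def N50342 : Q := sm gh N48158
def N50343 : Q := sm gd N48159
def N50344 : Q := sm gc N48160
def N50345 : Q := sm ge N48160
def N50346 : Q := sm gi N48160
def N50347 : Q := sm gi N48162
def N50348 : Q := sm gh N48163
def N50349 : Q := sm gi N48164
def N50350 : Q := sm gh N48165
def N50351 : Q := sm gh N48166
def N50352 : Q := sm ge N48168
def N50353 : Q := sm gi N48168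
def N50354 : Q := sm ge N48170
def N50355 : Q := sm gi N48170
def N50356 : Q := sm gf N48171
def N50357 : Q := sm gi N48171
def N50358 : Q := sm gh N48172
def N50359 : Q := sm gh N48173
def N50360 : Q := sm gf N48174
def N50361 : Q := sm gi N48174
def N50362 : Q := sm gh N48175
def N50363 : Q := sm gi N48176
def N50364 : Q := sm gh N48177
def N50365 : Q := sm gi N48179
def N50366 : Q := sm gi N48180
def N50367 : Q := sm gh N48181
def N50368 : Q := sm gh N48182
def N50369 : Q := sm gd N48183
def N50370 : Q := sm gd N48186
def N50371 : Q := sm gi N48186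
def N50372 : Q := sm gh N48187
def N50373 : Q := sm gh N48188
def N50374 : Q := sm gd N48190
def N50375 : Q := sm gh N48191
def N50376 : Q := sm gd N48192
def N50377 : Q := sm ge N48193
def N50378 : Q := sm gc N48198
def N50379 : Q := sm ge N48198
def N50380 : Q := sm gi N48198
def N50381 : Q := sm gi N48200
def N50382 : Q := sm gh N48201
def N50383 : Q := sm gi N48202
def N50384 : Q := sm gh N48203
def N50385 : Q := sm gd N48205
def N50386 : Q := sm gi N48205
def N50387 : Q := sm ge N48206
def N50388 : Q := sm gi N48206
def N50389 : Q := sm ge N48208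
def N50390 : Q := sm gi N48208
def N50391 : Q := sm gi N48209
def N50392 : Q := sm gh N48210
def N50393 : Q := sm gh N48211
def N50394 : Q := sm gh N48212
def N50395 : Q := sm gi N48214
def N50396 : Q := sm gh N48215
def N50397 : Q := sm gd N48216
def N50398 : Q := sm gi N48217
def N50399 : Q := sm gh N48219
def N50400 : Q := sm gh N48220
def N50401 : Q := sm gh N48221
def N50402 : Q := sm gd N48224
def N50403 : Q := sm gh N48225
def N50404 : Q := sm gd N48226
def N50405 : Q := sm ge N48227
def N50406 : Q := sm gb N48228
def N50407 : Q := sm ge N48228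
def N50408 : Q := sm gi N48228
def N50409 : Q := sm gi N48229
def N50410 : Q := sm gh N48230
def N50411 : Q := sm gi N48231
def N50412 : Q := sm gh N48232
def N50413 : Q := sm gi N48234
def N50414 : Q := sm gh N48235
def N50415 : Q := sm gh N48237
def N50416 : Q := sm gd N48238
def N50417 : Q := sm gc N48241
def N50418 : Q := sm ge N48241
def N50419 : Q := sm gi N48241
def N50420 : Q := sm gb N48243
def N50421 : Q := sm ge N48243
def N50422 : Q := sm gi N48243
def N50423 : Q := sm gi N48244
def N50424 : Q := sm gh N48245
def N50425 : Q := sm ga N48246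
def N50426 : Q := sm ge N48246
def N50427 : Q := sm gi N48246
def N50428 : Q := sm gd N48247
def N50429 : Q := sm gf N48247
def N50430 : Q := sm gi N48247
def N50431 : Q := sm gh N48248
def N50432 : Q := sm gg N48249
def N50433 : Q := sm gi N48249
def N50434 : Q := sm gh N48250
def N50435 : Q := sm gi N48252
def N50436 : Q := sm gh N48253
def N50437 : Q := sm gi N48255
def N50438 : Q := sm gf N48256
def N50439 : Q := sm gi N48256
def N50440 : Q := sm gh N48257
def N50441 : Q := sm gg N48258
def N50442 : Q := sm gi N48258
def N50443 : Q := sm gh N48259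
def N50444 : Q := sm gd N48260
def N50445 : Q := sm gj N48261
def N50446 : Q := sm gi N48261
def N50447 : Q := sm gh N48262
def N50448 : Q := sm gi N48264
def N50449 : Q := sm gh N48265
def N50450 : Q := sm gi N48266
def N50451 : Q := sm gh N48267
def N50452 : Q := sm gd N48268
def N50453 : Q := sm gi N48269
def N50454 : Q := sm gh N48270
def N50455 : Q := sm gd N48271
def N50456 : Q := sm ge N48272
def N50457 : Q := sm gi N48273
def N50458 : Q := sm gh N48274
def N50459 : Q := sm gi N48276
def N50460 : Q := sm gi N48279
def N50461 : Q := sm gh N48280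
def N50462 : Q := sm gi N48281
def N50463 : Q := sm gh N48282
def N50464 : Q := sm gi N48285
def N50465 : Q := sm gd N48286
def N50466 : Q := sm gi N48286
def N50467 : Q := sm gh N48287
def N50468 : Q := sm gh N48288
def N50469 : Q := sm gi N48288
def N50470 : Q := sm gh N48289
def N50471 : Q := sm gd N48290
def N50472 : Q := sm gh N48292
def N50473 : Q := sm gd N48293
def N50474 : Q := sm gh N48294
def N50475 : Q := sm gd N48295
def N50476 : Q := sm ge N48296
def N50477 : Q := sm gd N48297
def N50478 : Q := sm gc N48298
def N50479 : Q := sm ge N48298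
def N50480 : Q := sm gf N48299
def N50481 : Q := sm gi N48301
def N50482 : Q := sm gi N48302
def N50483 : Q := sm gh N48303
def N50484 : Q := sm gi N48306
def N50485 : Q := sm gh N48307
def N50486 : Q := sm gi N48308
def N50487 : Q := sm gh N48309
def N50488 : Q := sm gh N48313
def N50489 : Q := sm gd N48315
def N50490 : Q := sm gc N48316
def N50491 : Q := sm ge N48316
def N50492 : Q := sm gd N48322
def N50493 : Q := sm gi N48322
def N50494 : Q := sm ge N48323
def N50495 : Q := sm gi N48323
def N50496 : Q := sm gi N48325
def N50497 : Q := sm gh N48326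
def N50498 : Q := sm gh N48327
def N50499 : Q := sm ge N48330
def N50500 : Q := sm gi N48330
def N50501 : Q := sm gd N48332
def N50502 : Q := sm gi N48332
def N50503 : Q := sm ge N48333
def N50504 : Q := sm gi N48333
def N50505 : Q := sm gf N48335
def N50506 : Q := sm gi N48335
def N50507 : Q := sm gh N48336
def N50508 : Q := sm gi N48337
def N50509 : Q := sm gh N48338
def N50510 : Q := sm gi N48339
def N50511 : Q := sm gh N48340
def N50512 : Q := sm gc N48343
def N50513 : Q := sm ge N48343
def N50514 : Q := sm gi N48343
def N50515 : Q := sm gb N48345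
def N50516 : Q := sm ge N48345
def N50517 : Q := sm gi N48345
def N50518 : Q := sm gf N48346
def N50519 : Q := sm gi N48346
def N50520 : Q := sm gh N48347
def N50521 : Q := sm ge N48348
def N50522 : Q := sm gi N48348
def N50523 : Q := sm gd N48349
def N50524 : Q := sm gf N48349
def N50525 : Q := sm gi N48349
def N50526 : Q := sm gh N48350
def N50527 : Q := sm gi N48351
def N50528 : Q := sm gh N48352
def N50529 : Q := sm ge N48354
def N50530 : Q := sm gi N48354
def N50531 : Q := sm gf N48355
def N50532 : Q := sm gi N48355
def N50533 : Q := sm gh N48356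
def N50534 : Q := sm gg N48357
def N50535 : Q := sm gi N48357
def N50536 : Q := sm gh N48358
def N50537 : Q := sm gf N48360
def N50538 : Q := sm gi N48360
def N50539 : Q := sm gh N48361
def N50540 : Q := sm gi N48362
def N50541 : Q := sm gh N48363
def N50542 : Q := sm gh N48365
def N50543 : Q := sm gh N48367
def N50544 : Q := sm gd N48369
def N50545 : Q := sm gi N48370
def N50546 : Q := sm gi N48372
def N50547 : Q := sm gi N48374
def N50548 : Q := sm gd N48375
def N50549 : Q := sm gi N48375
def N50550 : Q := sm gi N48378
def N50551 : Q := sm gd N48379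
def N50552 : Q := sm gi N48379
def N50553 : Q := sm gi N48381
def N50554 : Q := sm gi N48383
def N50555 : Q := sm gh N48387
def N50556 : Q := sm gh N48390
def N50557 : Q := sm gc N48396
def N50558 : Q := sm ge N48396
def N50559 : Q := sm gi N48396
def N50560 : Q := sm ge N48398
def N50561 : Q := sm gi N48398
def N50562 : Q := sm gi N48400
def N50563 : Q := sm gh N48401
def N50564 : Q := sm gh N48402
def N50565 : Q := sm gc N48404
def N50566 : Q := sm ge N48404
def N50567 : Q := sm gi N48404
def N50568 : Q := sm gb N48406
def N50569 : Q := sm ge N48406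
def N50570 : Q := sm gi N48406
def N50571 : Q := sm gi N48407
def N50572 : Q := sm gh N48408
def N50573 : Q := sm ga N48409
def N50574 : Q := sm ge N48409
def N50575 : Q := sm gi N48409
def N50576 : Q := sm gd N48410
def N50577 : Q := sm gi N48410
def N50578 : Q := sm gh N48411
def N50579 : Q := sm gh N48412
def N50580 : Q := sm ga N48414
def N50581 : Q := sm gi N48414
def N50582 : Q := sm gh N48415
def N50583 : Q := sm gi N48417
def N50584 : Q := sm gh N48418
def N50585 : Q := sm gh N48420
def N50586 : Q := sm gi N48422
def N50587 : Q := sm gi N48424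
def N50588 : Q := sm gi N48425
def N50589 : Q := sm gi N48428
def N50590 : Q := sm gd N48429
def N50591 : Q := sm gi N48429
def N50592 : Q := sm gh N48431
def N50593 : Q := sm gi N48431
def N50594 : Q := sm gi N48433
def N50595 : Q := sm gb N48437
def N50596 : Q := sm ge N48437
def N50597 : Q := sm gi N48437
def N50598 : Q := sm gi N48438
def N50599 : Q := sm gh N48439
def N50600 : Q := sm gc N48440
def N50601 : Q := sm ge N48440
def N50602 : Q := sm gi N48440
def N50603 : Q := sm gb N48442
def N50604 : Q := sm ge N48442
def N50605 : Q := sm gi N48442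
def N50606 : Q := sm gi N48443
def N50607 : Q := sm gh N48444
def N50608 : Q := sm ga N48445
def N50609 : Q := sm ge N48445
def N50610 : Q := sm gi N48445
def N50611 : Q := sm gd N48446
def N50612 : Q := sm gf N48446
def N50613 : Q := sm gi N48446
def N50614 : Q := sm gh N48447
def N50615 : Q := sm gg N48448
def N50616 : Q := sm gi N48448
def N50617 : Q := sm gh N48449
def N50618 : Q := sm ga N48451
def N50619 : Q := sm ge N48451
def N50620 : Q := sm gi N48451
def N50621 : Q := sm gi N48452
def N50622 : Q := sm gh N48453
def N50623 : Q := sm gh N48454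
def N50624 : Q := sm gi N48456
def N50625 : Q := sm gf N48457
def N50626 : Q := sm gi N48457
def N50627 : Q := sm gh N48458
def N50628 : Q := sm gg N48459
def N50629 : Q := sm gi N48459
def N50630 : Q := sm gh N48460
def N50631 : Q := sm gj N48462
def N50632 : Q := sm gi N48462
def N50633 : Q := sm gh N48463
def N50634 : Q := sm gh N48465
def N50635 : Q := sm gh N48466
def N50636 : Q := sm gj N48468
def N50637 : Q := sm gi N48468
def N50638 : Q := sm gh N48469
def N50639 : Q := sm gd N48470
def N50640 : Q := sm gi N48471
def N50641 : Q := sm gh N48472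
def N50642 : Q := sm ge N48474
def N50643 : Q := sm gi N48474
def N50644 : Q := sm gf N48475
def N50645 : Q := sm gi N48475
def N50646 : Q := sm gh N48476
def N50647 : Q := sm ge N48477
def N50648 : Q := sm gi N48477
def N50649 : Q := sm gd N48478
def N50650 : Q := sm gf N48478
def N50651 : Q := sm gi N48478
def N50652 : Q := sm gh N48479
def N50653 : Q := sm gg N48480
def N50654 : Q := sm gi N48480
def N50655 : Q := sm gh N48481
def N50656 : Q := sm ge N48483
def N50657 : Q := sm gi N48483
def N50658 : Q := sm gd N48484
def N50659 : Q := sm gf N48484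
def N50660 : Q := sm gi N48484
def N50661 : Q := sm gh N48485
def N50662 : Q := sm gf N48486
def N50663 : Q := sm gh N48486
def N50664 : Q := sm gi N48486
def N50665 : Q := sm gg N48487
def N50666 : Q := sm gi N48487
def N50667 : Q := sm gh N48488
def N50668 : Q := sm gd N48489
def N50669 : Q := sm gj N48490
def N50670 : Q := sm gi N48490
def N50671 : Q := sm gh N48491
def N50672 : Q := sm gd N48492
def N50673 : Q := sm ge N48493
def N50674 : Q := sm gi N48493
def N50675 : Q := sm gf N48494
def N50676 : Q := sm gi N48494
def N50677 : Q := sm gh N48495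
def N50678 : Q := sm gi N48496
def N50679 : Q := sm gh N48497
def N50680 : Q := sm gd N48498
def N50681 : Q := sm gj N48499
def N50682 : Q := sm gi N48499
def N50683 : Q := sm gh N48500
def N50684 : Q := sm gf N48502
def N50685 : Q := sm gi N48502
def N50686 : Q := sm gh N48503
def N50687 : Q := sm gg N48504
def N50688 : Q := sm gi N48504
def N50689 : Q := sm gh N48505
def N50690 : Q := sm gd N48506
def N50691 : Q := sm gj N48507
def N50692 : Q := sm gi N48507
def N50693 : Q := sm gh N48508
def N50694 : Q := sm gd N48509
def N50695 : Q := sm ge N48510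
def N50696 : Q := sm gi N48511
def N50697 : Q := sm gh N48512
def N50698 : Q := sm gh N48514
def N50699 : Q := sm gj N48516
def N50700 : Q := sm gi N48516
def N50701 : Q := sm gh N48517
def N50702 : Q := sm gd N48518
def N50703 : Q := sm gi N48520
def N50704 : Q := sm gh N48521
def N50705 : Q := sm gd N48522
def N50706 : Q := sm ge N48523
def N50707 : Q := sm gh N48525
def N50708 : Q := sm gi N48527
def N50709 : Q := sm gi N48532
def N50710 : Q := sm gd N48534
def N50711 : Q := sm gi N48537
def N50712 : Q := sm gh N48538
def N50713 : Q := sm ge N48539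
def N50714 : Q := sm ge N48541
def N50715 : Q := sm gf N48544
def N50716 : Q := sm gh N48547
def N50717 : Q := sm gi N48550
def N50718 : Q := sm gh N48551
def N50719 : Q := sm gi N48552
def N50720 : Q := sm gb N48553
def N50721 : Q := sm ge N48553
def N50722 : Q := sm gi N48553
def N50723 : Q := sm gi N48554
def N50724 : Q := sm gh N48555
def N50725 : Q := sm ga N48556
def N50726 : Q := sm ge N48556
def N50727 : Q := sm gi N48556
def N50728 : Q := sm gd N48557
def N50729 : Q := sm gi N48557
def N50730 : Q := sm gh N48558
def N50731 : Q := sm gh N48559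
def N50732 : Q := sm gi N48561
def N50733 : Q := sm gi N48563
def N50734 : Q := sm gd N48564
def N50735 : Q := sm gi N48564
def N50736 : Q := sm gi N48567
def N50737 : Q := sm gd N48568
def N50738 : Q := sm gi N48568
def N50739 : Q := sm gh N48570
def N50740 : Q := sm gi N48570
def N50741 : Q := sm gi N48572
def N50742 : Q := sm gi N48575
def N50743 : Q := sm gf N48577
def N50744 : Q := sm gf N48578
def N50745 : Q := sm ge N48580
def N50746 : Q := sm gd N48583
def N50747 : Q := sm gd N48585
def N50748 : Q := sm gc N48586
def N50749 : Q := sm ge N48586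
def N50750 : Q := sm gf N48587
def N50751 : Q := sm gd N48588
def N50752 : Q := sm gd N48589
def N50753 : Q := sm gd N48593
def N50754 : Q := sm gd N48595
def N50755 : Q := sm gc N48596
def N50756 : Q := sm ge N48596
def N50757 : Q := sm ge N48603
def N50758 : Q := sm gi N48607
def N50759 : Q := sm gi N48609
def N50760 : Q := sm gi N48613
def N50761 : Q := sm gh N48614
def N50762 : Q := sm gd N48617
def N50763 : Q := sm ge N48621
def N50764 : Q := sm gi N48623
def N50765 : Q := sm gh N48624
def N50766 : Q := sm gi N48626
def N50767 : Q := sm gh N48627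
def N50768 : Q := sm gd N48628
def N50769 : Q := sm gd N48630
def N50770 : Q := sm gc N48631
def N50771 : Q := sm ge N48631
def N50772 : Q := sm gf N48632
def N50773 : Q := sm gg N48636
def N50774 : Q := sm gd N48637
def N50775 : Q := sm gh N48639
def N50776 : Q := sm gd N48640
def N50777 : Q := sm gc N48642
def N50778 : Q := sm ge N48642
def N50779 : Q := sm gd N48644
def N50780 : Q := sm gc N48645
def N50781 : Q := sm ge N48645
def N50782 : Q := sm gf N48646
def N50783 : Q := sm gf N48649
def N50784 : Q := sm gi N48656
def N50785 : Q := sm gh N48657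
def N50786 : Q := sm gd N48658
def N50787 : Q := sm gi N48659
def N50788 : Q := sm gh N48660
def N50789 : Q := sm gd N48661
def N50790 : Q := sm gh N48662
def N50791 : Q := sm gd N48663
def N50792 : Q := sm ge N48664
def N50793 : Q := sm gi N48670
def N50794 : Q := sm gi N48673
def N50795 : Q := sm gh N48674
def N50796 : Q := sm ge N48675
def N50797 : Q := sm ge N48676
def N50798 : Q := sm gf N48678
def N50799 : Q := sm gf N48680
def N50800 : Q := sm gg N48681
def N50801 : Q := sm gi N48681
def N50802 : Q := sm gh N48682
def N50803 : Q := sm gg N48684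
def N50804 : Q := sm gh N48684
def N50805 : Q := sm gi N48684
def N50806 : Q := sm gi N48685
def N50807 : Q := sm gh N48686
def N50808 : Q := sm gi N48687
def N50809 : Q := sm gh N48688
def N50810 : Q := sm gd N48689
def N50811 : Q := sm ge N48690
def N50812 : Q := sm gh N48691
def N50813 : Q := sm gd N48692
def N50814 : Q := sm gc N48693
def N50815 : Q := sm gf N48694
def N50816 : Q := sm gi N48695
def N50817 : Q := sm gh N48697
def N50818 : Q := sm gd N48698
def N50819 : Q := sm gi N48700
def N50820 : Q := sm gh N48701
def N50821 : Q := sm gi N48703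
def N50822 : Q := sm gh N48704
def N50823 : Q := sm gd N48705
def N50824 : Q := sm gi N48706
def N50825 : Q := sm gh N48707
def N50826 : Q := sm gd N48708
def N50827 : Q := sm ge N48709
def N50828 : Q := sm gf N48710
def N50829 : Q := sm gi N48713
def N50830 : Q := sm gh N48714
def N50831 : Q := sm gi N48716
def N50832 : Q := sm gh N48717
def N50833 : Q := sm gd N48718
def N50834 : Q := sm gc N48719
def N50835 : Q := sm gd N48721
def N50836 : Q := sm gh N48725
def N50837 : Q := sm gh N48730
def N50838 : Q := sm gi N48731
def N50839 : Q := sm gh N48732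
def N50840 : Q := sm gi N48733
def N50841 : Q := sm gh N48734
def N50842 : Q := sm gi N48736
def N50843 : Q := sm gh N48739
def N50844 : Q := sm gh N48741
def N50845 : Q := sm gh N48743
def N50846 : Q := sm gh N48745
def N50847 : Q := sm gd N48746
def N50848 : Q := sm gi N48747
def N50849 : Q := sm gh N48748
def N50850 : Q := sm gd N48749
def N50851 : Q := sm gi N48750
def N50852 : Q := sm gi N48753
def N50853 : Q := sm gi N48756
def N50854 : Q := sm gh N48757
def N50855 : Q := sm gc N48759
def N50856 : Q := sm gd N48760
def N50857 : Q := sm gi N48762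
def N50858 : Q := sm gh N48763
def N50859 : Q := sm gd N48764
def N50860 : Q := sm gj N48766
def N50861 : Q := sm gi N48766
def N50862 : Q := sm gh N48767
def N50863 : Q := sm gi N48769
def N50864 : Q := sm gh N48770
def N50865 : Q := sm gh N48772
def N50866 : Q := sm gd N48773
def N50867 : Q := sm gc N48774
def N50868 : Q := sm ge N48774
def N50869 : Q := sm gh N48776
def N50870 : Q := sm gi N48779
def N50871 : Q := sm gh N48780
def N50872 : Q := sm gi N48782
def N50873 : Q := sm gh N48783
def N50874 : Q := sm gd N48784
def N50875 : Q := sm gh N48785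
def N50876 : Q := sm gd N48786
def N50877 : Q := sm gc N48789
def N50878 : Q := sm ge N48791
def N50879 : Q := sm gi N48791
def N50880 : Q := sm ge N48794
def N50881 : Q := sm gi N48794
def N50882 : Q := sm ge N48796
def N50883 : Q := sm gi N48796
def N50884 : Q := sm gi N48797
def N50885 : Q := sm gh N48798
def N50886 : Q := sm gi N48800
def N50887 : Q := sm gh N48802
def N50888 : Q := sm gi N48805
def N50889 : Q := sm gh N48808
def N50890 : Q := sm gi N48809
def N50891 : Q := sm gh N48810
def N50892 : Q := sm gi N48813
def N50893 : Q := sm gi N48815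
def N50894 : Q := sm gh N48816
def N50895 : Q := sm gh N48817
def N50896 : Q := sm gh N48818
def N50897 : Q := sm gg N48819
def N50898 : Q := sm gi N48819
def N50899 : Q := sm gh N48820
def N50900 : Q := sm gi N48822
def N50901 : Q := sm gh N48823
def N50902 : Q := sm gd N48824
def N50903 : Q := sm gd N48829
def N50904 : Q := sm gi N48829
def N50905 : Q := sm ge N48830
def N50906 : Q := sm gi N48830
def N50907 : Q := sm gb N48832
def N50908 : Q := sm ge N48832
def N50909 : Q := sm gi N48833
def N50910 : Q := sm gh N48834
def N50911 : Q := sm gd N48836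
def N50912 : Q := sm gi N48836
def N50913 : Q := sm gc N48837
def N50914 : Q := sm ge N48837
def N50915 : Q := sm gi N48837
def N50916 : Q := sm ge N48839
def N50917 : Q := sm gi N48839
def N50918 : Q := sm gb N48841
def N50919 : Q := sm ge N48841
def N50920 : Q := sm gi N48841
def N50921 : Q := sm gf N48842
def N50922 : Q := sm gi N48842
def N50923 : Q := sm gh N48843
def N50924 : Q := sm ga N48844
def N50925 : Q := sm ge N48844
def N50926 : Q := sm gi N48844
def N50927 : Q := sm gi N48845
def N50928 : Q := sm gh N48846
def N50929 : Q := sm gh N48847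
def N50930 : Q := sm gf N48849
def N50931 : Q := sm gi N48849
def N50932 : Q := sm gi N48851
def N50933 : Q := sm gh N48852
def N50934 : Q := sm gd N48854
def N50935 : Q := sm gi N48856
def N50936 : Q := sm ga N48858
def N50937 : Q := sm gi N48858
def N50938 : Q := sm gi N48860
def N50939 : Q := sm gh N48861
def N50940 : Q := sm gi N48863
def N50941 : Q := sm gh N48865
def N50942 : Q := sm gd N48869
def N50943 : Q := sm gi N48869
def N50944 : Q := sm gi N48870
def N50945 : Q := sm gi N48872
def N50946 : Q := sm gh N48873
def N50947 : Q := sm gh N48874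
def N50948 : Q := sm ge N48877
def N50949 : Q := sm gi N48877
def N50950 : Q := sm gh N48879
def N50951 : Q := sm gg N48880
def N50952 : Q := sm gi N48880
def N50953 : Q := sm gh N48881
def N50954 : Q := sm gi N48883
def N50955 : Q := sm gd N48885
def N50956 : Q := sm gi N48886
def N50957 : Q := sm gh N48887
def N50958 : Q := sm gd N48889
def N50959 : Q := sm gi N48889
def N50960 : Q := sm ge N48890
def N50961 : Q := sm gi N48890
def N50962 : Q := sm gi N48892
def N50963 : Q := sm gf N48894
def N50964 : Q := sm gi N48894
def N50965 : Q := sm gh N48895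
def N50966 : Q := sm gg N48896
def N50967 : Q := sm gi N48896
def N50968 : Q := sm gh N48897
def N50969 : Q := sm ge N48899
def N50970 : Q := sm gi N48899
def N50971 : Q := sm ge N48901
def N50972 : Q := sm gi N48901
def N50973 : Q := sm gf N48902
def N50974 : Q := sm gi N48902
def N50975 : Q := sm gh N48903
def N50976 : Q := sm gh N48904
def N50977 : Q := sm gh N48905
def N50978 : Q := sm gg N48906
def N50979 : Q := sm gi N48906
def N50980 : Q := sm gh N48907
def N50981 : Q := sm gh N48909
def N50982 : Q := sm gg N48910
def N50983 : Q := sm gi N48910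
def N50984 : Q := sm gh N48911
def N50985 : Q := sm gj N48913
def N50986 : Q := sm gi N48913
def N50987 : Q := sm gh N48914
def N50988 : Q := sm gd N48915
def N50989 : Q := sm gj N48916
def N50990 : Q := sm gi N48916
def N50991 : Q := sm gh N48917
def N50992 : Q := sm gd N48918
def N50993 : Q := sm gi N48919
def N50994 : Q := sm gh N48920
def N50995 : Q := sm gd N48921
def N50996 : Q := sm gc N48922
def N50997 : Q := sm gh N48926
def N50998 : Q := sm gd N48927
def N50999 : Q := sm gi N48927
def N51000 : Q := sm gh N48928
def N51001 : Q := sm gd N48929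
def N51002 : Q := sm gi N48929
def N51003 : Q := sm gc N48930
def N51004 : Q := sm ge N48930
def N51005 : Q := sm gi N48930
def N51006 : Q := sm gc N48932
def N51007 : Q := sm ge N48932
def N51008 : Q := sm gi N48932
def N51009 : Q := sm gi N48934
def N51010 : Q := sm gf N48935
def N51011 : Q := sm gi N48935
def N51012 : Q := sm gh N48936
def N51013 : Q := sm gh N48937
def N51014 : Q := sm gh N48938
def N51015 : Q := sm gd N48940
def N51016 : Q := sm gi N48940
def N51017 : Q := sm gc N48941
def N51018 : Q := sm ge N48941
def N51019 : Q := sm gi N48941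
def N51020 : Q := sm gb N48943
def N51021 : Q := sm ge N48943
def N51022 : Q := sm gi N48943
def N51023 : Q := sm gf N48944
def N51024 : Q := sm gi N48944
def N51025 : Q := sm gh N48945
def N51026 : Q := sm ge N48946
def N51027 : Q := sm gi N48946
def N51028 : Q := sm gf N48947
def N51029 : Q := sm gi N48947
def N51030 : Q := sm gh N48948
def N51031 : Q := sm gi N48949
def N51032 : Q := sm gf N48950
def N51033 : Q := sm gi N48950
def N51034 : Q := sm gh N48951
def N51035 : Q := sm gi N48952
def N51036 : Q := sm gh N48953
def N51037 : Q := sm gh N48955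
def N51038 : Q := sm gh N48956
def N51039 : Q := sm gd N48957
def N51040 : Q := sm gd N48958
def N51041 : Q := sm gg N48959
def N51042 : Q := sm gi N48959
def N51043 : Q := sm gh N48960
def N51044 : Q := sm gh N48962
def N51045 : Q := sm gd N48963
def N51046 : Q := sm gc N48964
def N51047 : Q := sm gi N48966
def N51048 : Q := sm gh N48967
def N51049 : Q := sm ge N48968
def N51050 : Q := sm gi N48968
def N51051 : Q := sm gd N48969
def N51052 : Q := sm gi N48969
def N51053 : Q := sm gh N48970
def N51054 : Q := sm gh N48971
def N51055 : Q := sm gh N48973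
def N51056 : Q := sm gh N48975
def N51057 : Q := sm gd N48976
def N51058 : Q := sm gh N48977
def N51059 : Q := sm gd N48978
def N51060 : Q := sm ge N48979
def N51061 : Q := sm gh N48980
def N51062 : Q := sm gi N48982
def N51063 : Q := sm gh N48983
def N51064 : Q := sm gh N48984
def N51065 : Q := sm gd N48985
def N51066 : Q := sm gd N48987
def N51067 : Q := sm gd N48988
def N51068 : Q := sm ge N48989
def N51069 : Q := sm gh N48993
def N51070 : Q := sm gd N48994
def N51071 : Q := sm gi N48994
def N51072 : Q := sm gd N48995
def N51073 : Q := sm gi N48995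
def N51074 : Q := sm gi N48996
def N51075 : Q := sm gh N48998
def N51076 : Q := sm gh N48999
def N51077 : Q := sm gd N49000
def N51078 : Q := sm gi N49000
def N51079 : Q := sm gc N49001
def N51080 : Q := sm ge N49001
def N51081 : Q := sm gi N49001
def N51082 : Q := sm gc N49003
def N51083 : Q := sm gi N49003
def N51084 : Q := sm gi N49005
def N51085 : Q := sm gf N49006
def N51086 : Q := sm gi N49006
def N51087 : Q := sm gh N49007
def N51088 : Q := sm gh N49008
def N51089 : Q := sm gh N49009
def N51090 : Q := sm gi N49011
def N51091 : Q := sm gh N49012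
def N51092 : Q := sm gd N49015
def N51093 : Q := sm gd N49016
def N51094 : Q := sm gi N49016
def N51095 : Q := sm gd N49017
def N51096 : Q := sm gi N49017
def N51097 : Q := sm gc N49018
def N51098 : Q := sm ge N49018
def N51099 : Q := sm gi N49018
def N51100 : Q := sm gi N49020
def N51101 : Q := sm gi N49022
def N51102 : Q := sm gf N49023
def N51103 : Q := sm gi N49023
def N51104 : Q := sm gh N49024
def N51105 : Q := sm gh N49025
def N51106 : Q := sm gh N49026
def N51107 : Q := sm gd N49028
def N51108 : Q := sm gi N49028
def N51109 : Q := sm ge N49029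
def N51110 : Q := sm gi N49029
def N51111 : Q := sm ge N49031
def N51112 : Q := sm gi N49031
def N51113 : Q := sm gf N49032
def N51114 : Q := sm gi N49032
def N51115 : Q := sm gh N49033
def N51116 : Q := sm gh N49034
def N51117 : Q := sm gh N49035
def N51118 : Q := sm gg N49036
def N51119 : Q := sm gi N49036
def N51120 : Q := sm gh N49037
def N51121 : Q := sm gd N49039
def N51122 : Q := sm gj N49040
def N51123 : Q := sm gi N49040
def N51124 : Q := sm gh N49041
def N51125 : Q := sm gd N49042
def N51126 : Q := sm gj N49043
def N51127 : Q := sm gi N49043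
def N51128 : Q := sm gh N49044
def N51129 : Q := sm gd N49045
def N51130 : Q := sm gi N49046
def N51131 : Q := sm gh N49047
def N51132 : Q := sm gd N49048
def N51133 : Q := sm gh N49050
def N51134 : Q := sm gh N49053
def N51135 : Q := sm gd N49055
def N51136 : Q := sm gd N49057
def N51137 : Q := sm gi N49057
def N51138 : Q := sm gc N49058
def N51139 : Q := sm ge N49058
def N51140 : Q := sm gi N49058
def N51141 : Q := sm gd N49060
def N51142 : Q := sm gi N49060
def N51143 : Q := sm gc N49061
def N51144 : Q := sm ge N49061
def N51145 : Q := sm gi N49061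
def N51146 : Q := sm gb N49063
def N51147 : Q := sm ge N49063
def N51148 : Q := sm gi N49063
def N51149 : Q := sm gf N49064
def N51150 : Q := sm gi N49064
def N51151 : Q := sm gh N49065
def N51152 : Q := sm gb N49066
def N51153 : Q := sm gi N49066
def N51154 : Q := sm gf N49067
def N51155 : Q := sm gi N49067
def N51156 : Q := sm gh N49068
def N51157 : Q := sm gi N49069
def N51158 : Q := sm gf N49070
def N51159 : Q := sm gi N49070
def N51160 : Q := sm gh N49071
def N51161 : Q := sm gg N49072
def N51162 : Q := sm gi N49072
def N51163 : Q := sm gh N49073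
def N51164 : Q := sm gh N49075
def N51165 : Q := sm gh N49076
def N51166 : Q := sm gd N49077
def N51167 : Q := sm gj N49078
def N51168 : Q := sm gi N49078
def N51169 : Q := sm gh N49079
def N51170 : Q := sm gd N49080
def N51171 : Q := sm ge N49081
def N51172 : Q := sm gi N49081
def N51173 : Q := sm gb N49083
def N51174 : Q := sm ge N49083
def N51175 : Q := sm gi N49083
def N51176 : Q := sm gf N49084
def N51177 : Q := sm gi N49084
def N51178 : Q := sm gh N49085
def N51179 : Q := sm ga N49086
def N51180 : Q := sm ge N49086
def N51181 : Q := sm gi N49086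
def N51182 : Q := sm gd N49087
def N51183 : Q := sm gf N49087
def N51184 : Q := sm gi N49087
def N51185 : Q := sm gh N49088
def N51186 : Q := sm gg N49089
def N51187 : Q := sm gi N49089
def N51188 : Q := sm gh N49090
def N51189 : Q := sm ga N49092
def N51190 : Q := sm gi N49092
def N51191 : Q := sm gh N49093
def N51192 : Q := sm gg N49094
def N51193 : Q := sm gi N49094
def N51194 : Q := sm gh N49095
def N51195 : Q := sm gi N49097
def N51196 : Q := sm gf N49098
def N51197 : Q := sm gi N49098
def N51198 : Q := sm gh N49099
def N51199 : Q := sm gg N49100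
def N51200 : Q := sm gi N49100
def N51201 : Q := sm gh N49101
def N51202 : Q := sm gd N49102
def N51203 : Q := sm gj N49103
def N51204 : Q := sm gi N49103
def N51205 : Q := sm gh N49104
def N51206 : Q := sm gd N49105
def N51207 : Q := sm gh N49106
def N51208 : Q := sm gh N49107
def N51209 : Q := sm gd N49108
def N51210 : Q := sm gj N49109
def N51211 : Q := sm gi N49109
def N51212 : Q := sm gh N49110
def N51213 : Q := sm ge N49112
def N51214 : Q := sm gi N49113
def N51215 : Q := sm gh N49114
def N51216 : Q := sm gd N49115
def N51217 : Q := sm gc N49116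
def N51218 : Q := sm gj N49117
def N51219 : Q := sm gi N49117
def N51220 : Q := sm gh N49118
def N51221 : Q := sm gd N49119
def N51222 : Q := sm gi N49120
def N51223 : Q := sm gh N49121
def N51224 : Q := sm gd N49122
def N51225 : Q := sm gc N49123
def N51226 : Q := sm gh N49124
def N51227 : Q := sm gd N49125
def N51228 : Q := sm gc N49126
def N51229 : Q := sm gb N49127
def N51230 : Q := sm ga N49129
def N51231 : Q := sm gi N49129
def N51232 : Q := sm gh N49130
def N51233 : Q := sm ge N49132
def N51234 : Q := sm gi N49132
def N51235 : Q := sm gd N49133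
def N51236 : Q := sm gi N49133
def N51237 : Q := sm gh N49134
def N51238 : Q := sm gh N49135
def N51239 : Q := sm gi N49135
def N51240 : Q := sm gh N49136
def N51241 : Q := sm gd N49137
def N51242 : Q := sm gi N49139
def N51243 : Q := sm gh N49140
def N51244 : Q := sm gd N49141
def N51245 : Q := sm gh N49142
def N51246 : Q := sm gd N49143
def N51247 : Q := sm ge N49144
def N51248 : Q := sm ge N49146
def N51249 : Q := sm gf N49147
def N51250 : Q := sm gi N49148
def N51251 : Q := sm gh N49149
def N51252 : Q := sm gd N49150
def N51253 : Q := sm gi N49151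
def N51254 : Q := sm gh N49152
def N51255 : Q := sm gh N49153
def N51256 : Q := sm gd N49154
def N51257 : Q := sm gh N49157
def N51258 : Q := sm gd N49158
def N51259 : Q := sm ge N49159
def N51260 : Q := sm gh N49163
def N51261 : Q := sm gh N49165
def N51262 : Q := sm gh N49166
def N51263 : Q := sm gd N49168
def N51264 : Q := sm gh N49169
def N51265 : Q := sm gh N49173
def N51266 : Q := sm gh N49175
def N51267 : Q := sm gd N49176
def N51268 : Q := sm gi N49176
def N51269 : Q := sm gi N49177
def N51270 : Q := sm gd N49182
def N51271 : Q := sm gi N49182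
def N51272 : Q := sm gc N49183
def N51273 : Q := sm ge N49183
def N51274 : Q := sm gi N49183
def N51275 : Q := sm gh N49185
def N51276 : Q := sm gd N49186
def N51277 : Q := sm gi N49186
def N51278 : Q := sm gi N49187
def N51279 : Q := sm gi N49188
def N51280 : Q := sm gi N49190
def N51281 : Q := sm gi N49191
def N51282 : Q := sm gh N49192
def N51283 : Q := sm gh N49194
def N51284 : Q := sm gh N49200
def N51285 : Q := sm gi N49202
def N51286 : Q := sm gb N49204
def N51287 : Q := sm gi N49204
def N51288 : Q := sm gf N49205
def N51289 : Q := sm gi N49205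
def N51290 : Q := sm gh N49206
def N51291 : Q := sm gi N49208
def N51292 : Q := sm gi N49210
def N51293 : Q := sm gh N49212
def N51294 : Q := sm gi N49213
def N51295 : Q := sm gh N49214
def N51296 : Q := sm gi N49215
def N51297 : Q := sm gh N49216
def N51298 : Q := sm gh N49220
def N51299 : Q := sm gd N49221
def N51300 : Q := sm gh N49225
def N51301 : Q := sm gd N49226
def N51302 : Q := sm gh N49227
def N51303 : Q := sm gi N49229
def N51304 : Q := sm gi N49231
def N51305 : Q := sm gb N49233
def N51306 : Q := sm gi N49233
def N51307 : Q := sm gh N49234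
def N51308 : Q := sm gd N49235
def N51309 : Q := sm gi N49235
def N51310 : Q := sm gc N49236
def N51311 : Q := sm gi N49236
def N51312 : Q := sm gb N49238
def N51313 : Q := sm ge N49238
def N51314 : Q := sm gi N49238
def N51315 : Q := sm gi N49239
def N51316 : Q := sm gh N49240
def N51317 : Q := sm gi N49242
def N51318 : Q := sm gi N49244
def N51319 : Q := sm gi N49246
def N51320 : Q := sm gf N49247
def N51321 : Q := sm gi N49247
def N51322 : Q := sm gh N49248
def N51323 : Q := sm gi N49249
def N51324 : Q := sm gi N49250
def N51325 : Q := sm gh N49251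
def N51326 : Q := sm gh N49252
def N51327 : Q := sm gi N49254
def N51328 : Q := sm gh N49255
def N51329 : Q := sm gd N49257
def N51330 : Q := sm gi N49258
def N51331 : Q := sm gh N49259
def N51332 : Q := sm gh N49261
def N51333 : Q := sm gd N49262
def N51334 : Q := sm gi N49264
def N51335 : Q := sm gi N49266
def N51336 : Q := sm gi N49268
def N51337 : Q := sm gi N49269
def N51338 : Q := sm gh N49270
def N51339 : Q := sm gi N49271
def N51340 : Q := sm gi N49272
def N51341 : Q := sm gh N49273
def N51342 : Q := sm gi N49274
def N51343 : Q := sm gh N49275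
def N51344 : Q := sm gi N49277
def N51345 : Q := sm gh N49278
def N51346 : Q := sm gh N49279
def N51347 : Q := sm gi N49280
def N51348 : Q := sm gh N49281
def N51349 : Q := sm gh N49282
def N51350 : Q := sm gi N49284
def N51351 : Q := sm gi N49285
def N51352 : Q := sm gh N49286
def N51353 : Q := sm gi N49287
def N51354 : Q := sm gh N49288
def N51355 : Q := sm gd N49289
def N51356 : Q := sm gi N49290
def N51357 : Q := sm gh N49291
def N51358 : Q := sm gd N49292
def N51359 : Q := sm gd N49293
def N51360 : Q := sm gd N49296
def N51361 : Q := sm gc N49297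
def N51362 : Q := sm gd N49298
def N51363 : Q := sm gh N49299
def N51364 : Q := sm gd N49300
def N51365 : Q := sm ge N49301
def N51366 : Q := sm gh N49304
def N51367 : Q := sm gh N49306
def N51368 : Q := sm gi N49308
def N51369 : Q := sm gh N49309
def N51370 : Q := sm gh N49311
def N51371 : Q := sm gh N49315
def N51372 : Q := sm gh N49316
def N51373 : Q := sm gh N49326
def N51374 : Q := sm gi N49331
def N51375 : Q := sm gh N49333
def N51376 : Q := sm gd N49334
def N51377 : Q := sm gi N49334
def N51378 : Q := sm gd N49335
def N51379 : Q := sm gi N49335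
def N51380 : Q := sm gi N49336
def N51381 : Q := sm gh N49338
def N51382 : Q := sm gh N49340
def N51383 : Q := sm gd N49341
def N51384 : Q := sm gi N49341
def N51385 : Q := sm gd N49342
def N51386 : Q := sm gi N49342
def N51387 : Q := sm gc N49343
def N51388 : Q := sm ge N49343
def N51389 : Q := sm gi N49343
def N51390 : Q := sm gi N49345
def N51391 : Q := sm gi N49346
def N51392 : Q := sm gh N49347
def N51393 : Q := sm gh N49348
def N51394 : Q := sm gd N49349
def N51395 : Q := sm gi N49349
def N51396 : Q := sm gc N49350
def N51397 : Q := sm ge N49350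
def N51398 : Q := sm gi N49350
def N51399 : Q := sm gi N49352
def N51400 : Q := sm gi N49354
def N51401 : Q := sm gf N49355
def N51402 : Q := sm gi N49355
def N51403 : Q := sm gh N49356
def N51404 : Q := sm gi N49357
def N51405 : Q := sm gh N49358
def N51406 : Q := sm gh N49359
def N51407 : Q := sm gi N49361
def N51408 : Q := sm gh N49362
def N51409 : Q := sm gd N49364
def N51410 : Q := sm gi N49365
def N51411 : Q := sm gi N49367
def N51412 : Q := sm gh N49368
def N51413 : Q := sm gh N49369
def N51414 : Q := sm gd N49372
def N51415 : Q := sm gd N49373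
def N51416 : Q := sm gi N49373
def N51417 : Q := sm gd N49374
def N51418 : Q := sm gi N49374
def N51419 : Q := sm gc N49375
def N51420 : Q := sm ge N49375
def N51421 : Q := sm gi N49375
def N51422 : Q := sm gi N49377
def N51423 : Q := sm gb N49379
def N51424 : Q := sm gi N49379
def N51425 : Q := sm gf N49380
def N51426 : Q := sm gi N49380
def N51427 : Q := sm gh N49381
def N51428 : Q := sm gi N49382
def N51429 : Q := sm gi N49383
def N51430 : Q := sm gh N49384
def N51431 : Q := sm gg N49385
def N51432 : Q := sm gi N49385
def N51433 : Q := sm gh N49386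
def N51434 : Q := sm gd N49388
def N51435 : Q := sm gi N49388
def N51436 : Q := sm ge N49389
def N51437 : Q := sm gi N49389
def N51438 : Q := sm gb N49391
def N51439 : Q := sm ge N49391
def N51440 : Q := sm gi N49391
def N51441 : Q := sm gf N49392
def N51442 : Q := sm gi N49392
def N51443 : Q := sm gh N49393
def N51444 : Q := sm gh N49394
def N51445 : Q := sm gi N49395
def N51446 : Q := sm gh N49396
def N51447 : Q := sm gg N49397
def N51448 : Q := sm gi N49397
def N51449 : Q := sm gh N49398
def N51450 : Q := sm gi N49400
def N51451 : Q := sm gi N49401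
def N51452 : Q := sm gh N49402
def N51453 : Q := sm gg N49403
def N51454 : Q := sm gi N49403
def N51455 : Q := sm gh N49404
def N51456 : Q := sm gd N49405
def N51457 : Q := sm gi N49406
def N51458 : Q := sm gh N49407
def N51459 : Q := sm gd N49408
def N51460 : Q := sm gi N49410
def N51461 : Q := sm gh N49411
def N51462 : Q := sm gd N49412
def N51463 : Q := sm gh N49413
def N51464 : Q := sm gd N49414
def N51465 : Q := sm gc N49415
def N51466 : Q := sm gi N49418
def N51467 : Q := sm gh N49419
def N51468 : Q := sm gi N49420
def N51469 : Q := sm gd N49421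
def N51470 : Q := sm gi N49421
def N51471 : Q := sm gh N49422
def N51472 : Q := sm gh N49423
def N51473 : Q := sm gh N49426
def N51474 : Q := sm gd N49427
def N51475 : Q := sm gd N49429
def N51476 : Q := sm ge N49430
def N51477 : Q := sm gi N49433
def N51478 : Q := sm gi N49434
def N51479 : Q := sm gh N49435
def N51480 : Q := sm gh N49440
def N51481 : Q := sm gd N49444
def N51482 : Q := sm gi N49444
def N51483 : Q := sm gi N49445
def N51484 : Q := sm gi N49446
def N51485 : Q := sm gh N49448
def N51486 : Q := sm gd N49449
def N51487 : Q := sm gi N49449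
def N51488 : Q := sm gc N49450
def N51489 : Q := sm ge N49450
def N51490 : Q := sm gi N49450
def N51491 : Q := sm gi N49452
def N51492 : Q := sm gb N49454
def N51493 : Q := sm gi N49454
def N51494 : Q := sm gh N49455
def N51495 : Q := sm gi N49456
def N51496 : Q := sm gh N49457
def N51497 : Q := sm gh N49459
def N51498 : Q := sm gd N49460
def N51499 : Q := sm gi N49460
def N51500 : Q := sm gd N49461
def N51501 : Q := sm gi N49461
def N51502 : Q := sm gc N49462
def N51503 : Q := sm ge N49462
def N51504 : Q := sm gi N49462
def N51505 : Q := sm gc N49464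
def N51506 : Q := sm gi N49464
def N51507 : Q := sm gb N49466
def N51508 : Q := sm ge N49466
def N51509 : Q := sm gi N49466
def N51510 : Q := sm gf N49467
def N51511 : Q := sm gi N49467
def N51512 : Q := sm gh N49468
def N51513 : Q := sm gi N49469
def N51514 : Q := sm gi N49470
def N51515 : Q := sm gh N49471
def N51516 : Q := sm gh N49472
def N51517 : Q := sm gd N49474
def N51518 : Q := sm gi N49474
def N51519 : Q := sm gc N49475
def N51520 : Q := sm ge N49475
def N51521 : Q := sm gi N49475
def N51522 : Q := sm gb N49477
def N51523 : Q := sm ge N49477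
def N51524 : Q := sm gi N49477
def N51525 : Q := sm gf N49478
def N51526 : Q := sm gi N49478
def N51527 : Q := sm gh N49479
def N51528 : Q := sm gi N49480
def N51529 : Q := sm gf N49481
def N51530 : Q := sm gi N49481
def N51531 : Q := sm gh N49482
def N51532 : Q := sm ga N49483
def N51533 : Q := sm gi N49483
def N51534 : Q := sm gf N49484
def N51535 : Q := sm gi N49484
def N51536 : Q := sm gh N49485
def N51537 : Q := sm gi N49486
def N51538 : Q := sm gh N49487
def N51539 : Q := sm gi N49489
def N51540 : Q := sm gi N49490
def N51541 : Q := sm gh N49491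
def N51542 : Q := sm gh N49492
def N51543 : Q := sm gd N49493
def N51544 : Q := sm gd N49494
def N51545 : Q := sm gg N49495
def N51546 : Q := sm gi N49495
def N51547 : Q := sm gh N49496
def N51548 : Q := sm gh N49498
def N51549 : Q := sm gd N49499
def N51550 : Q := sm gc N49500
def N51551 : Q := sm gb N49502
def N51552 : Q := sm gi N49502
def N51553 : Q := sm gi N49503
def N51554 : Q := sm gh N49504
def N51555 : Q := sm gi N49505
def N51556 : Q := sm gh N49506
def N51557 : Q := sm gh N49507
def N51558 : Q := sm gi N49509
def N51559 : Q := sm gh N49510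
def N51560 : Q := sm gi N49512
def N51561 : Q := sm gh N49513
def N51562 : Q := sm gd N49514
def N51563 : Q := sm gh N49515
def N51564 : Q := sm gd N49516
def N51565 : Q := sm ge N49517
def N51566 : Q := sm gd N49518
def N51567 : Q := sm gi N49518
def N51568 : Q := sm gc N49519
def N51569 : Q := sm ge N49519
def N51570 : Q := sm gi N49519
def N51571 : Q := sm gd N49521
def N51572 : Q := sm gi N49521
def N51573 : Q := sm gc N49522
def N51574 : Q := sm ge N49522
def N51575 : Q := sm gi N49522
def N51576 : Q := sm gb N49524
def N51577 : Q := sm ge N49524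
def N51578 : Q := sm gi N49524
def N51579 : Q := sm gf N49525
def N51580 : Q := sm gi N49525
def N51581 : Q := sm gh N49526
def N51582 : Q := sm gi N49527
def N51583 : Q := sm gf N49528
def N51584 : Q := sm gi N49528
def N51585 : Q := sm gh N49529
def N51586 : Q := sm gi N49530
def N51587 : Q := sm gf N49531
def N51588 : Q := sm gi N49531
def N51589 : Q := sm gh N49532
def N51590 : Q := sm gg N49533
def N51591 : Q := sm gi N49533
def N51592 : Q := sm gh N49534
def N51593 : Q := sm gh N49536
def N51594 : Q := sm gh N49537
def N51595 : Q := sm gd N49538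
def N51596 : Q := sm gi N49539
def N51597 : Q := sm gh N49540
def N51598 : Q := sm gd N49541
def N51599 : Q := sm ge N49542
def N51600 : Q := sm gi N49542
def N51601 : Q := sm ge N49544
def N51602 : Q := sm gi N49544
def N51603 : Q := sm gf N49545
def N51604 : Q := sm gi N49545
def N51605 : Q := sm gh N49546
def N51606 : Q := sm ga N49547
def N51607 : Q := sm ge N49547
def N51608 : Q := sm gi N49547
def N51609 : Q := sm gd N49548
def N51610 : Q := sm gf N49548
def N51611 : Q := sm gi N49548
def N51612 : Q := sm gh N49549
def N51613 : Q := sm gg N49550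
def N51614 : Q := sm gi N49550
def N51615 : Q := sm gh N49551
def N51616 : Q := sm gf N49553
def N51617 : Q := sm gi N49553
def N51618 : Q := sm gh N49554
def N51619 : Q := sm gi N49555
def N51620 : Q := sm gh N49556
def N51621 : Q := sm gi N49558
def N51622 : Q := sm gf N49559
def N51623 : Q := sm gi N49559
def N51624 : Q := sm gh N49560
def N51625 : Q := sm gg N49561
def N51626 : Q := sm gi N49561
def N51627 : Q := sm gh N49562
def N51628 : Q := sm gd N49563
def N51629 : Q := sm gj N49564
def N51630 : Q := sm gi N49564
def N51631 : Q := sm gh N49565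
def N51632 : Q := sm gd N49566
def N51633 : Q := sm gh N49567
def N51634 : Q := sm gh N49568
def N51635 : Q := sm gd N49569
def N51636 : Q := sm gi N49570
def N51637 : Q := sm gh N49571
def N51638 : Q := sm gd N49572
def N51639 : Q := sm ge N49573
def N51640 : Q := sm gi N49574
def N51641 : Q := sm gh N49575
def N51642 : Q := sm gd N49576
def N51643 : Q := sm gc N49577
def N51644 : Q := sm gh N49578
def N51645 : Q := sm gd N49579
def N51646 : Q := sm gi N49580
def N51647 : Q := sm gh N49581
def N51648 : Q := sm gd N49582
def N51649 : Q := sm gc N49583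
def N51650 : Q := sm gd N49585
def N51651 : Q := sm gc N49586
def N51652 : Q := sm gb N49587
def N51653 : Q := sm gd N49588
def N51654 : Q := sm gi N49588
def N51655 : Q := sm gh N49589
def N51656 : Q := sm gh N49590
def N51657 : Q := sm ge N49592
def N51658 : Q := sm gi N49592
def N51659 : Q := sm gd N49593
def N51660 : Q := sm gi N49593
def N51661 : Q := sm gh N49594
def N51662 : Q := sm gh N49595
def N51663 : Q := sm gi N49595
def N51664 : Q := sm gh N49596
def N51665 : Q := sm gd N49597
def N51666 : Q := sm gd N49598
def N51667 : Q := sm gd N49599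
def N51668 : Q := sm gh N49600
def N51669 : Q := sm gd N49601
def N51670 : Q := sm ge N49602
def N51671 : Q := sm gi N49607
def N51672 : Q := sm gh N49608
def N51673 : Q := sm gh N49609
def N51674 : Q := sm gi N49617
def N51675 : Q := sm gh N49618
def N51676 : Q := sm gh N49620
def N51677 : Q := sm gd N49622
def N51678 : Q := sm gd N49624
def N51679 : Q := sm gi N49624
def N51680 : Q := sm gc N49625
def N51681 : Q := sm ge N49625
def N51682 : Q := sm gi N49625
def N51683 : Q := sm gc N49627
def N51684 : Q := sm gi N49627
def N51685 : Q := sm gi N49629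
def N51686 : Q := sm gh N49630
def N51687 : Q := sm gh N49631
def N51688 : Q := sm gd N49633
def N51689 : Q := sm gi N49633
def N51690 : Q := sm ge N49634
def N51691 : Q := sm gi N49634
def N51692 : Q := sm gf N49636
def N51693 : Q := sm gi N49636
def N51694 : Q := sm gh N49637
def N51695 : Q := sm gi N49638
def N51696 : Q := sm gh N49639
def N51697 : Q := sm gi N49640
def N51698 : Q := sm gh N49641
def N51699 : Q := sm gd N49643
def N51700 : Q := sm gh N49644
def N51701 : Q := sm gh N49646
def N51702 : Q := sm gd N49647
def N51703 : Q := sm gd N49650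
def N51704 : Q := sm gi N49650
def N51705 : Q := sm gc N49651
def N51706 : Q := sm ge N49651
def N51707 : Q := sm gi N49651
def N51708 : Q := sm gd N49653
def N51709 : Q := sm gi N49653
def N51710 : Q := sm ge N49654
def N51711 : Q := sm gi N49654
def N51712 : Q := sm gf N49656
def N51713 : Q := sm gi N49656
def N51714 : Q := sm gh N49657
def N51715 : Q := sm gf N49658
def N51716 : Q := sm gi N49658
def N51717 : Q := sm gh N49659
def N51718 : Q := sm gi N49660
def N51719 : Q := sm gh N49661
def N51720 : Q := sm gd N49663
def N51721 : Q := sm gc N49664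
def N51722 : Q := sm ge N49664
def N51723 : Q := sm gi N49664
def N51724 : Q := sm ge N49666
def N51725 : Q := sm gi N49666
def N51726 : Q := sm gf N49667
def N51727 : Q := sm gi N49667
def N51728 : Q := sm gh N49668
def N51729 : Q := sm ge N49669
def N51730 : Q := sm gi N49669
def N51731 : Q := sm gd N49670
def N51732 : Q := sm gf N49670
def N51733 : Q := sm gi N49670
def N51734 : Q := sm gh N49671
def N51735 : Q := sm gg N49672
def N51736 : Q := sm gi N49672
def N51737 : Q := sm gh N49673
def N51738 : Q := sm gh N49675
def N51739 : Q := sm gi N49676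
def N51740 : Q := sm gh N49677
def N51741 : Q := sm gh N49679
def N51742 : Q := sm gi N49680
def N51743 : Q := sm gh N49681
def N51744 : Q := sm gj N49683
def N51745 : Q := sm gi N49683
def N51746 : Q := sm gh N49684
def N51747 : Q := sm gd N49685
def N51748 : Q := sm gi N49688
def N51749 : Q := sm gh N49689
def N51750 : Q := sm gd N49690
def N51751 : Q := sm gc N49691
def N51752 : Q := sm gi N49692
def N51753 : Q := sm gh N49693
def N51754 : Q := sm gd N49694
def N51755 : Q := sm gi N49695
def N51756 : Q := sm gh N49696
def N51757 : Q := sm gd N49697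
def N51758 : Q := sm gc N49698
def N51759 : Q := sm gh N49699
def N51760 : Q := sm gd N49700
def N51761 : Q := sm gi N49704
def N51762 : Q := sm gi N49709
def N51763 : Q := sm gd N49711
def N51764 : Q := sm gi N49711
def N51765 : Q := sm ge N49712
def N51766 : Q := sm gi N49712
def N51767 : Q := sm gi N49714
def N51768 : Q := sm gh N49716
def N51769 : Q := sm gd N49718
def N51770 : Q := sm gi N49718
def N51771 : Q := sm gc N49719
def N51772 : Q := sm ge N49719
def N51773 : Q := sm gi N49719
def N51774 : Q := sm ge N49721
def N51775 : Q := sm gi N49721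
def N51776 : Q := sm gi N49722
def N51777 : Q := sm gh N49723
def N51778 : Q := sm gi N49724
def N51779 : Q := sm gh N49725
def N51780 : Q := sm gh N49726
def N51781 : Q := sm gd N49728
def N51782 : Q := sm gd N49729
def N51783 : Q := sm gi N49729
def N51784 : Q := sm gc N49730
def N51785 : Q := sm ge N49730
def N51786 : Q := sm gi N49730
def N51787 : Q := sm gd N49732
def N51788 : Q := sm gi N49732
def N51789 : Q := sm ge N49733
def N51790 : Q := sm gi N49733
def N51791 : Q := sm gf N49735
def N51792 : Q := sm gi N49735
def N51793 : Q := sm gh N49736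
def N51794 : Q := sm gf N49737
def N51795 : Q := sm gi N49737
def N51796 : Q := sm gh N49738
def N51797 : Q := sm gi N49739
def N51798 : Q := sm gh N49740
def N51799 : Q := sm gd N49742
def N51800 : Q := sm gc N49743
def N51801 : Q := sm ge N49743
def N51802 : Q := sm gi N49743
def N51803 : Q := sm ge N49745
def N51804 : Q := sm gi N49745
def N51805 : Q := sm gf N49746
def N51806 : Q := sm gi N49746
def N51807 : Q := sm gh N49747
def N51808 : Q := sm ge N49748
def N51809 : Q := sm gi N49748
def N51810 : Q := sm gd N49749
def N51811 : Q := sm gf N49749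
def N51812 : Q := sm gi N49749
def N51813 : Q := sm gh N49750
def N51814 : Q := sm gi N49751
def N51815 : Q := sm gh N49752
def N51816 : Q := sm gf N49754
def N51817 : Q := sm gi N49754
def N51818 : Q := sm gh N49755
def N51819 : Q := sm gg N49756
def N51820 : Q := sm gi N49756
def N51821 : Q := sm gh N49757
def N51822 : Q := sm gh N49759
def N51823 : Q := sm gi N49760
def N51824 : Q := sm gh N49761
def N51825 : Q := sm gh N49763
def N51826 : Q := sm gd N49764
def N51827 : Q := sm gd N49766
def N51828 : Q := sm gc N49767
def N51829 : Q := sm gi N49768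
def N51830 : Q := sm gh N49769
def N51831 : Q := sm gd N49770
def N51832 : Q := sm gd N49771
def N51833 : Q := sm gc N49772
def N51834 : Q := sm ge N49774
def N51835 : Q := sm gi N49774
def N51836 : Q := sm gi N49775
def N51837 : Q := sm gd N49777
def N51838 : Q := sm gi N49777
def N51839 : Q := sm ge N49780
def N51840 : Q := sm gi N49780
def N51841 : Q := sm gd N49781
def N51842 : Q := sm gi N49781
def N51843 : Q := sm gh N49783
def N51844 : Q := sm gi N49783
def N51845 : Q := sm gd N49786
def N51846 : Q := sm gi N49786
def N51847 : Q := sm gc N49787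
def N51848 : Q := sm ge N49787
def N51849 : Q := sm gi N49787
def N51850 : Q := sm gb N49789
def N51851 : Q := sm ge N49789
def N51852 : Q := sm gi N49789
def N51853 : Q := sm gf N49790
def N51854 : Q := sm gi N49790
def N51855 : Q := sm gh N49791
def N51856 : Q := sm gc N49792
def N51857 : Q := sm ge N49792
def N51858 : Q := sm gi N49792
def N51859 : Q := sm gb N49794
def N51860 : Q := sm ge N49794
def N51861 : Q := sm gi N49794
def N51862 : Q := sm gf N49795
def N51863 : Q := sm gi N49795
def N51864 : Q := sm gh N49796
def N51865 : Q := sm ge N49797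
def N51866 : Q := sm gi N49797
def N51867 : Q := sm gd N49798
def N51868 : Q := sm gf N49798
def N51869 : Q := sm gi N49798
def N51870 : Q := sm gh N49799
def N51871 : Q := sm gg N49800
def N51872 : Q := sm gi N49800
def N51873 : Q := sm gh N49801
def N51874 : Q := sm gi N49803
def N51875 : Q := sm gf N49804
def N51876 : Q := sm gi N49804
def N51877 : Q := sm gh N49805
def N51878 : Q := sm gg N49806
def N51879 : Q := sm gi N49806
def N51880 : Q := sm gh N49807
def N51881 : Q := sm gh N49809
def N51882 : Q := sm gg N49810
def N51883 : Q := sm gi N49810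
def N51884 : Q := sm gh N49811
def N51885 : Q := sm gj N49813
def N51886 : Q := sm gi N49813
def N51887 : Q := sm gh N49814
def N51888 : Q := sm gd N49815
def N51889 : Q := sm gj N49817
def N51890 : Q := sm gi N49817
def N51891 : Q := sm gh N49818
def N51892 : Q := sm gd N49819
def N51893 : Q := sm gi N49820
def N51894 : Q := sm gh N49821
def N51895 : Q := sm gd N49822
def N51896 : Q := sm gc N49823
def N51897 : Q := sm gb N49824
def N51898 : Q := sm ge N49824
def N51899 : Q := sm gi N49824
def N51900 : Q := sm gf N49825
def N51901 : Q := sm gi N49825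
def N51902 : Q := sm gh N49826
def N51903 : Q := sm ga N49827
def N51904 : Q := sm ge N49827
def N51905 : Q := sm gi N49827
def N51906 : Q := sm gd N49828
def N51907 : Q := sm gf N49828
def N51908 : Q := sm gi N49828
def N51909 : Q := sm gh N49829
def N51910 : Q := sm gg N49830
def N51911 : Q := sm gi N49830
def N51912 : Q := sm gh N49831
def N51913 : Q := sm ge N49833
def N51914 : Q := sm gi N49833
def N51915 : Q := sm gd N49834
def N51916 : Q := sm gf N49834
def N51917 : Q := sm gi N49834
def N51918 : Q := sm gh N49835
def N51919 : Q := sm gf N49836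
def N51920 : Q := sm gh N49836
def N51921 : Q := sm gi N49836
def N51922 : Q := sm gg N49837
def N51923 : Q := sm gi N49837
def N51924 : Q := sm gh N49838
def N51925 : Q := sm gd N49839
def N51926 : Q := sm gj N49840
def N51927 : Q := sm gi N49840
def N51928 : Q := sm gh N49841
def N51929 : Q := sm gd N49842
def N51930 : Q := sm gi N49843
def N51931 : Q := sm gf N49844
def N51932 : Q := sm gi N49844
def N51933 : Q := sm gh N49845
def N51934 : Q := sm gg N49846
def N51935 : Q := sm gi N49846
def N51936 : Q := sm gh N49847
def N51937 : Q := sm gd N49848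
def N51938 : Q := sm gj N49849
def N51939 : Q := sm gi N49849
def N51940 : Q := sm gh N49850
def N51941 : Q := sm gd N49851
def N51942 : Q := sm gh N49852
def N51943 : Q := sm gg N49853
def N51944 : Q := sm gi N49853
def N51945 : Q := sm gh N49854
def N51946 : Q := sm gd N49855
def N51947 : Q := sm gj N49856
def N51948 : Q := sm gi N49856
def N51949 : Q := sm gh N49857
def N51950 : Q := sm gd N49858
def N51951 : Q := sm ge N49859
def N51952 : Q := sm gi N49860
def N51953 : Q := sm gh N49861
def N51954 : Q := sm gd N49862
def N51955 : Q := sm gc N49863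
def N51956 : Q := sm gj N49865
def N51957 : Q := sm gi N49865
def N51958 : Q := sm gh N49866
def N51959 : Q := sm gd N49867
def N51960 : Q := sm gi N49869
def N51961 : Q := sm gh N49870
def N51962 : Q := sm gd N49871
def N51963 : Q := sm gc N49872
def N51964 : Q := sm ge N49872
def N51965 : Q := sm gh N49874
def N51966 : Q := sm gd N49875
def N51967 : Q := sm gc N49876
def N51968 : Q := sm gb N49877
def N51969 : Q := sm gi N49878
def N51970 : Q := sm gh N49879
def N51971 : Q := sm gd N49880
def N51972 : Q := sm gc N49881
def N51973 : Q := sm gh N49882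
def N51974 : Q := sm gd N49883
def N51975 : Q := sm gc N49884
def N51976 : Q := sm ge N49884
def N51977 : Q := sm gb N49885
def N51978 : Q := sm gd N49886
def N51979 : Q := sm gc N49887
def N51980 : Q := sm ga N49889
def N51981 : Q := sm gi N49890
def N51982 : Q := sm gd N49891
def N51983 : Q := sm gi N49891
def N51984 : Q := sm gh N49892
def N51985 : Q := sm gi N49895
def N51986 : Q := sm gd N49896
def N51987 : Q := sm gh N49898
def N51988 : Q := sm gi N49898
def N51989 : Q := sm gd N49900
def N51990 : Q := sm gi N49902
def N51991 : Q := sm gh N49903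
def N51992 : Q := sm gi N49904
def N51993 : Q := sm gd N49906
def N51994 : Q := sm gi N49907
def N51995 : Q := sm gh N49908
def N51996 : Q := sm gd N49909
def N51997 : Q := sm ge N49910
def N51998 : Q := sm gc N49911
def N51999 : Q := sm gh N49912
def N52000 : Q := sm gd N49913
def N52001 : Q := sm ge N49914
def N52002 : Q := sm gf N49917
def N52003 : Q := sm gi N49925
def N52004 : Q := sm gh N49927
def N52005 : Q := sm gi N49930
def N52006 : Q := sm gh N49931
def N52007 : Q := sm gi N49934
def N52008 : Q := sm gb N49936
def N52009 : Q := sm gi N49936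
def N52010 : Q := sm gh N49937
def N52011 : Q := sm ga N49938
def N52012 : Q := sm ge N49938
def N52013 : Q := sm gi N49938
def N52014 : Q := sm gd N49939
def N52015 : Q := sm gi N49939
def N52016 : Q := sm gh N49940
def N52017 : Q := sm gh N49941
def N52018 : Q := sm gi N49943
def N52019 : Q := sm gi N49945
def N52020 : Q := sm gd N49946
def N52021 : Q := sm gi N49946
def N52022 : Q := sm gh N49948
def N52023 : Q := sm gi N49948
def N52024 : Q := sm gi N49952
def N52025 : Q := sm gi N49953
def N52026 : Q := sm ge N49954
def N52027 : Q := sm ge N49956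
def N52028 : Q := sm gh N49957
def N52029 : Q := sm gd N49958
def N52030 : Q := sm gc N49959
def N52031 : Q := sm ge N49959
def N52032 : Q := sm gf N49960
def N52033 : Q := sm gh N49966
def N52034 : Q := sm gh N49968
def N52035 : Q := sm gh N49969
def N52036 : Q := sm gh N49972
def N52037 : Q := sm gh N49973
def N52038 : Q := sm gi N49975
def N52039 : Q := sm gh N49976
def N52040 : Q := sm gi N49977
def N52041 : Q := sm gh N49978
def N52042 : Q := sm gh N49980

end Cfsg.Agent.Helper28.FicA
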