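import Cfsg.Agent.Helper28.FicB49

/-! # The Fi₂₃ presentation, cosets of the subgroup generated by a, …, i: the coset enumeration, part 50 (helper28; generated) -/

set_option autoImplicit false

noncomputable section

namespace Cfsg.Agent.Helper28.FicA

open Cfsg.Agent.Helper28.CosetTable

theorem L838901 : sm ga N64385 = N64385 := ded_17_1 (flp_h L838899) L837089 L838899
theorem L838902 : sm gb N64385 = N64246 := ded_25_1 (flp_h L837092) L837077 L838899
theorem L838904 : sm gc N64385 = N64260 := ded_32_1 (flp_h L837263) (flp_c L837090) L838899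
theorem L838906 : sm ge N64385 = N64283 := ded_43_1 L837501 (flp_e L837081) L838899
theorem L838908 : sm gf N64385 = N64290 := ded_47_1 L837561 (flp_f L837083) L838899
theorem L838910 : sm gj N64385 = N64250 := ded_52_1 (flp_h L837143) (flp_j L837085) L838899
theorem L838912 : sm gd N64385 = N64284 := ded_38_1 (flp_h L837503) (flp_d L837171) L837179 (flp_d L837079) L838899
theorem L838914 : sm gf N64247 = N64386 := rfl
theorem L838916 : sm ga N64386 = N64386 := ded_14_1 (flp_f L838914) L837114 L838914
theorem L838917 : sm gb N64386 = N64248 := ded_22_1 (flp_f L837117) L837106 L838914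
theorem L838919 : sm gc N64386 = N64266 := ded_29_1 (flp_f L837320) (flp_c L837115) L838914
theorem L838921 : sm gd N64386 = N64260 := ded_35_1 L837268 (flp_d L837108) L838914
theorem L838923 : sm gj N64386 = N64270 := ded_46_2 L837368 (flp_j L837112) L838914
theorem L838925 : sm ge N64386 = N64288 := ded_40_1 L837545 L834815 (flp_f L833897) (flp_e L837110) L838914
theorem L838927 : sm gh N64279 = N64386 := ded_56_0 (flp_f L838914) L837110 (flp_d L835637) L835652 (flp_b L833765) L828998 L822807 (flp_f L824267) (flp_e L829173) L829184 (flp_c L825182) L817663 (flp_a L814168) L814177 (flp_f L815087) (flp_e L819171) L819167 L809500 L797954 L792008 (flp_h L781353) L769766 (flp_e L759404) (flp_d L745794) L729120 L710227 (flp_a L712827) (flp_h L712825) (flp_f L709016) L709014 L687940 L665724 L665722 (flp_a L661676) L661684 L386474 L265568 (flp_d L534064) L286085 L286083 (flp_a L292287) L292293 (flp_f L293795) (flp_e L651131) (flp_d L672881) (flp_c L694338) (flp_b L697020) L697018 L713886 (flp_f L732109) (flp_e L747958) L761218 L772895 L784547 L796559 (flp_h L806281) (flp_f L816266) L824274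 L830137 L834484 L837464 L837470
theorem L838929 : sm gh N64247 = N64387 := rfl
theorem L838931 : sm ga N64387 = N64387 := ded_17_1 (flp_h L838929) L837114 L838929
theorem L838932 : sm gb N64387 = N64249 := ded_25_1 (flp_h L837131) L837106 L838929
theorem L838934 : sm gc N64387 = N64267 := ded_32_1 (flp_h L837329) (flp_c L837115) L838929
theorem L838936 : sm ge N64387 = N64250 := ded_43_1 (flp_h L837143) (flp_e L837110) L838929
theorem L838938 : sm gf N64387 = N64279 := ded_47_1 L838927 (flp_f L838914) L838929
theorem L838940 : sm gj N64387 = N64283 := ded_52_1 L837501 (flp_j L837112) L838929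
theorem L838942 : sm gh N64254 = N64388 := rfl
theorem L838944 : sm ga N64388 = N64388 := ded_17_1 (flp_h L838942) L837209 L838942
theorem L838945 : sm gb N64388 = N64255 := ded_25_1 (flp_h L837212) L837199 L838942
theorem L838947 : sm gc N64388 = N64284 := ded_32_1 (flp_h L837503) (flp_c L837210) L838942
theorem L838949 : sm gf N64388 = N64262 := ded_47_1 L837288 (flp_f L837203) L838942
theorem L838951 : sm gj N64388 = N64298 := ded_52_1 (flp_h L837623) (flp_j L837205) L838942
theorem L838953 : sm gd N64388 = N64266 := ded_38_1 (flp_h L837327) (flp_d L837529) L837527 (flp_d L837201) L838942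
theorem L838955 : sm gh N64258 = N64389 := rfl
theorem L838957 : sm ga N64389 = N64389 := ded_17_1 (flp_h L838955) L837252 L838955
theorem L838958 : sm gb N64389 = N64259 := ded_25_1 (flp_h L837253) L837246 L838955
theorem L838960 : sm ge N64389 = N64298 := ded_43_1 (flp_h L837623) (flp_e L837248) L838955
theorem L838962 : sm gg N64389 = N64260 := ded_50_1 (flp_h L837263) (flp_g L837250) L838955
theorem L838964 : sm gi N64260 = N64390 := rfl
theorem L838966 : sm ga N64390 = N64390 := ded_18_1 (flp_i L838964) L837265 L838964
theorem L838967 : sm gb N64390 = N64261 := ded_26_1 (flp_i L837272) (flp_b L837266) L838964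
theorem L838969 : sm gf N64390 = N64295 := ded_48_1 L837604 (flp_f L837268) L838964
theorem L838971 : sm gj N64390 = N64271 := ded_53_1 (flp_i L837374) (flp_j L837270) L838964
theorem L838973 : sm gf N64263 = N64391 := rfl
theorem L838975 : sm ga N64391 = N64391 := ded_14_1 (flp_f L838973) L837299 L838973
theorem L838976 : sm gb N64391 = N64264 := ded_22_1 (flp_f L837300) L837291 L838973
theorem L838978 : sm gi N64391 = N64267 := ded_48_2 L837336 (flp_i L837297) L838973
theorem L838980 : sm ge N64391 = N64271 := ded_40_1 L837379 (flp_e L835658) L835660 (flp_e L837293) L838973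
theorem L838982 : sm gh N64263 = N64392 := rfl
theorem L838984 : sm ga N64392 = N64392 := ded_17_1 (flp_h L838982) L837299 L838982
theorem L838985 : sm gb N64392 = N64265 := ded_25_1 (flp_h L837310) L837291 L838982
theorem L838987 : sm ge N64392 = N64268 := ded_43_1 (flp_h L837338) (flp_e L837293) L838982
theorem L838989 : sm gg N64392 = N64267 := ded_50_1 (flp_h L837329) (flp_g L837295) L838982
theorem L838991 : sm gi N64268 = N64393 := rfl
theorem L838993 : sm ga N64393 = N64393 := ded_18_1 (flp_i L838991) L837340 L838991
theorem L838994 : sm gb N64393 = N64269 := ded_26_1 (flp_i L837349) (flp_b L837341) L838991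
theorem L838996 : sm gd N64393 = N64287 := ded_39_1 (flp_i L837531) (flp_d L837347) L838991
theorem L838998 : sm gf N64393 = N64275 := ded_48_1 L837431 (flp_f L837343) L838991
theorem L839000 : sm gg N64393 = N64271 := ded_51_1 (flp_i L837374) (flp_g L837345) L838991
theorem L839002 : sm gh N64393 = N64294 := ded_54_1 (flp_i L837593) (flp_h L834743) (flp_i L834241) L837338 L838991
theorem L839004 : sm gi N64270 = N64394 := rfl
theorem L839006 : sm ga N64394 = N64394 := ded_18_1 (flp_i L839004) L837365 L839004
theorem L839007 : sm gb N64394 = N64272 := ded_26_1 (flp_i L837381) (flp_b L837366) L839004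
theorem L839009 : sm gd N64394 = N64271 := ded_39_1 (flp_i L837374) L837363 L839004
theorem L839011 : sm gf N64394 = N64276 := ded_48_1 L837442 (flp_f L837368) L839004
theorem L839013 : sm gg N64394 = N64287 := ded_51_1 (flp_i L837531) (flp_g L837370) L839004
theorem L839015 : sm gi N64277 = N64395 := rfl
theorem L839017 : sm ga N64395 = N64395 := ded_18_1 (flp_i L839015) L837447 L839015
theorem L839018 : sm gb N64395 = N64278 := ded_26_1 (flp_i L837454) (flp_b L837448) L839015
theorem L839020 : sm gf N64395 = N64293 := ded_48_1 L837590 (flp_f L837450) L839015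
theorem L839022 : sm gj N64395 = N64287 := ded_53_1 (flp_i L837531) (flp_j L837452) L839015
theorem L839024 : sm gf N64280 = N64396 := rfl
theorem L839026 : sm ga N64396 = N64396 := ded_14_1 (flp_f L839024) L837479 L839024
theorem L839027 : sm gb N64396 = N64281 := ded_22_1 (flp_f L837480) L837473 L839024
theorem L839029 : sm gi N64396 = N64283 := ded_48_2 (flp_f L837496) (flp_i L837477) L839024
theorem L839031 : sm gh N64280 = N64397 := rfl
theorem L839033 : sm ga N64397 = N64397 := ded_17_1 (flp_h L839031) L837479 L839031
theorem L839034 : sm gb N64397 = N64282 := ded_25_1 (flp_h L837488) L837473 L839031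
theorem L839036 : sm gg N64397 = N64284 := ded_50_1 (flp_h L837503) (flp_g L837475) L839031
theorem L839038 : sm gi N64284 = N64398 := rfl
theorem L839040 : sm ga N64398 = N64398 := ded_18_1 (flp_i L839038) L837505 L839038
theorem L839041 : sm gb N64398 = N64285 := ded_26_1 (flp_i L837508) (flp_b L837506) L839038
theorem L839043 : sm gf N64398 = N64291 := ded_48_1 (flp_i L837937) L837929 L839038
theorem L839045 : sm gh N64398 = N64287 := ded_54_1 (flp_i L837531) (flp_h L834582) (flp_i L834543) L837503 L839038
theorem L839047 : sm gi N64288 = N64399 := rfl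
theorem L839049 : sm ga N64399 = N64399 := ded_18_1 (flp_i L839047) L837540 L839047
theorem L839050 : sm gb N64399 = N64289 := ded_26_1 (flp_i L837547) (flp_b L837541) L839047
theorem L839052 : sm gc N64399 = N64294 := ded_33_1 (flp_i L837593) (flp_c L837543) L839047
theorem L839054 : sm gf N64399 = N64297 := ded_48_1 L837620 (flp_f L837545) L839047
theorem L839056 : sm gi N64298 = N64400 := rfl
theorem L839058 : sm ga N64400 = N64400 := ded_18_1 (flp_i L839056) L837625 L839056
theorem L839059 : sm gb N64400 = N64299 := ded_26_1 (flp_i L837630) (flp_b L837626) L839056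
theorem L839061 : sm gf N64400 = N64300 := ded_48_1 L837642 (flp_f L837628) L839056
theorem L839063 : sm gh N64301 = N64401 := rfl
theorem L839065 : sm ga N64401 = N64401 := ded_17_1 (flp_h L839063) L837659 L839063
theorem L839066 : sm gb N64401 = N64302 := ded_25_1 (flp_h L837662) L837645 L839063
theorem L839068 : sm gc N64401 = N64352 := ded_32_1 (flp_h L838468) (flp_c L837660) L839063
theorem L839070 : sm ge N64401 = N64397 := ded_43_1 (flp_h L839031) (flp_e L837649) L839063
theorem L839072 : sm gf N64401 = N64342 := ded_47_1 (flp_h L838322) (flp_f L837651) L839063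
theorem L839074 : sm gg N64401 = N64381 := ded_50_1 (flp_h L838854) (flp_g L837653) L839063
theorem L839076 : sm gj N64401 = N64316 := ded_52_1 (flp_h L837894) (flp_j L837655) L839063
theorem L839078 : sm gd N64401 = N64387 := ded_38_1 (flp_h L838929) L837108 (flp_h L837055) (flp_d L837647) L839063
theorem L839080 : sm gi N64369 = N64401 := ded_26_0 L839066 (flp_i L837678) (flp_b L838728)
theorem L839082 : sm gf N64303 = N64402 := rfl
theorem L839084 : sm ga N64402 = N64402 := ded_14_1 (flp_f L839082) L837694 L839082
theorem L839085 : sm gb N64402 = N64304 := ded_22_1 (flp_f L837697) L837680 L839082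
theorem L839087 : sm gc N64402 = N64398 := ded_29_1 L839043 (flp_c L837695) L839082
theorem L839089 : sm gd N64402 = N64372 := ded_35_1 (flp_f L838758) (flp_d L837682) L839082
theorem L839091 : sm gj N64402 = N64400 := ded_46_2 L839061 (flp_j L837688) L839082
theorem L839093 : sm gh N64402 = N64343 := ded_47_2 (flp_f L838339) (flp_h L837690) L839082
theorem L839095 : sm gi N64402 = N64388 := ded_48_2 L838949 (flp_i L837692) L839082
theorem L839097 : sm ge N64304 = N64403 := rfl
theorem L839099 : sm ga N64403 = N64307 := ded_13_1 (flp_e L837747) (flp_a L837699) L839097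
theorem L839101 : sm gc N64403 = N64305 := ded_28_1 (flp_e L837711) (flp_c L837701) L839097
theorem L839103 : sm gj N64403 = N64382 := ded_42_2 L838867 (flp_j L837705) L839097
theorem L839105 : sm gh N64403 = N64344 := ded_43_2 (flp_e L838348) (flp_h L837707) L839097
theorem L839107 : sm gi N64403 = N64351 := ded_44_2 L838460 (flp_i L837709) L839097
theorem L839109 : sm gd N64403 = N64378 := ded_34_1 (flp_e L838824) L836887 (flp_e L836757) (flp_d L837703) L839097
theorem L839111 : sm gf N64403 = N64324 := ded_40_2 (flp_e L838025) (flp_f L835412) (flp_e L835017) L837697 L839097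
theorem L839113 : sm gg N64353 = N64403 := ded_15_0 L839099 (flp_g L837762) (flp_a L838481)
theorem L839115 : sm gg N64304 = N64404 := rfl
theorem L839117 : sm ga N64404 = N64308 := ded_15_1 (flp_g L837764) (flp_a L837699) L839115
theorem L839119 : sm gc N64404 = N64306 := ded_30_1 (flp_g L837729) (flp_c L837701) L839115
theorem L839121 : sm gd N64404 = N64374 := ded_36_1 (flp_g L838776) (flp_d L837703) L839115
theorem L839123 : sm ge N64404 = N64353 := ded_41_1 L839113 (flp_e L839097) L839115
theorem L839125 : sm gh N64404 = N64332 := ded_50_2 L838165 (flp_h L837707) L839115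
theorem L839127 : sm gi N64404 = N64327 := ded_51_2 L838078 (flp_i L837709) L839115
theorem L839129 : sm gf N64404 = N64367 := ded_45_1 L838702 L837035 (flp_g L835019) L837697 L839115
theorem L839131 : sm gj N64404 = N64375 := ded_49_2 L838800 (flp_j L838062) L838068 (flp_j L837705) L839115
theorem L839133 : sm gf N64309 = N64405 := rfl
theorem L839135 : sm ga N64405 = N64405 := ded_14_1 (flp_f L839133) L837793 L839133
theorem L839136 : sm gb N64405 = N64310 := ded_22_1 (flp_f L837796) L837781 L839133
theorem L839138 : sm gc N64405 = N64391 := ded_29_1 (flp_f L838973) (flp_c L837794) L839133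
theorem L839140 : sm gd N64405 = N64369 := ded_35_1 (flp_f L838725) (flp_d L837783) L839133
theorem L839142 : sm gj N64405 = N64396 := ded_46_2 (flp_f L839024) (flp_j L837789) L839133
theorem L839144 : sm gi N64405 = N64387 := ded_48_2 L838938 (flp_i L837791) L839133
theorem L839146 : sm ge N64405 = N64345 := ded_40_1 (flp_f L838364) L836012 (flp_f L835228) (flp_e L837785) L839133
theorem L839148 : sm gh N64309 = N64406 := rfl
theorem L839150 : sm ga N64406 = N64406 := ded_17_1 (flp_h L839148) L837793 L839148
theorem L839151 : sm gb N64406 = N64311 := ded_25_1 (flp_h L837810) L837781 L839148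
theorem L839153 : sm gc N64406 = N64392 := ded_32_1 (flp_h L838982) (flp_c L837794) L839148
theorem L839155 : sm ge N64406 = N64316 := ded_43_1 (flp_h L837894) (flp_e L837785) L839148
theorem L839157 : sm gg N64406 = N64387 := ded_50_1 (flp_h L838929) (flp_g L837787) L839148
theorem L839159 : sm gj N64406 = N64397 := ded_52_1 (flp_h L839031) (flp_j L837789) L839148
theorem L839161 : sm gd N64406 = N64381 := ded_38_1 (flp_h L838854) (flp_d L838601) L838609 (flp_d L837783) L839148
theorem L839163 : sm gg N64310 = N64407 := rfl
theorem L839165 : sm ga N64407 = N64314 := ded_15_1 (flp_g L837860) (flp_a L837798) L839163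
theorem L839167 : sm gc N64407 = N64312 := ded_30_1 (flp_g L837824) (flp_c L837800) L839163
theorem L839169 : sm gd N64407 = N64371 := ded_36_1 (flp_g L838744) (flp_d L837802) L839163
theorem L839171 : sm ge N64407 = N64317 := ded_41_1 L837917 (flp_e L837808) L839163
theorem L839173 : sm gi N64407 = N64311 := ded_51_2 L837818 (flp_i L837806) L839163
theorem L839175 : sm gf N64407 = N64360 := ded_45_1 L838591 (flp_f L837117) (flp_g L835112) L837796 L839163
theorem L839177 : sm gj N64407 = N64370 := ded_49_2 (flp_g L838742) (flp_j L837967) L837973 (flp_j L837804) L839163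
theorem L839179 : sm gh N64365 = N64407 := ded_17_0 L839165 (flp_h L837875) (flp_a L838669)
theorem L839181 : sm gh N64310 = N64408 := rfl
theorem L839183 : sm ga N64408 = N64315 := ded_17_1 (flp_h L837877) (flp_a L837798) L839181
theorem L839185 : sm gc N64408 = N64313 := ded_32_1 (flp_h L837842) (flp_c L837800) L839181
theorem L839187 : sm ge N64408 = N64347 := ded_43_1 (flp_h L838390) (flp_e L837808) L839181
theorem L839189 : sm gf N64408 = N64311 := ded_47_1 (flp_h L837810) L837796 L839181
theorem L839191 : sm gg N64408 = N64365 := ded_50_1 L839179 (flp_g L839163) L839181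
theorem L839193 : sm gj N64408 = N64378 := ded_52_1 L838832 (flp_j L837804) L839181
theorem L839195 : sm gd N64408 = N64382 := ded_38_1 (flp_h L838861) (flp_d L838211) L838221 (flp_d L837802) L839181
theorem L839197 : sm gi N64408 = N64360 := ded_54_2 L838595 L836520 L837131 (flp_i L837806) L839181
theorem L839199 : sm gi N64316 = N64409 := rfl
theorem L839201 : sm ga N64409 = N64409 := ded_18_1 (flp_i L839199) L837896 L839199
theorem L839202 : sm gb N64409 = N64317 := ded_26_1 (flp_i L837907) (flp_b L837897) L839199
theorem L839204 : sm gc N64409 = N64393 := ded_33_1 (flp_i L838991) (flp_c L837899) L839199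
theorem L839206 : sm gd N64409 = N64396 := ded_39_1 L839029 (flp_d L837905) L839199
theorem L839208 : sm gf N64409 = N64348 := ded_48_1 (flp_i L838406) (flp_f L837901) L839199
theorem L839210 : sm gg N64409 = N64345 := ded_51_1 L838371 (flp_g L837903) L839199
theorem L839212 : sm gj N64409 = N64369 := ded_53_1 L839080 L839076 L839199
theorem L839214 : sm gh N64409 = N64399 := ded_54_1 (flp_i L839047) (flp_h L837538) (flp_i L835232) L837894 L839199
theorem L839216 : sm gf N64319 = N64410 := rfl
theorem L839218 : sm ga N64410 = N64410 := ded_14_1 (flp_f L839216) L837956 L839216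
theorem L839219 : sm gb N64410 = N64320 := ded_22_1 (flp_f L837959) L837942 L839216
theorem L839221 : sm gc N64410 = N64400 := ded_29_1 L839061 (flp_c L837957) L839216
theorem L839223 : sm gd N64410 = N64345 := ded_35_1 (flp_f L838364) (flp_d L837944) L839216
theorem L839225 : sm gj N64410 = N64398 := ded_46_2 L839043 (flp_j L837950) L839216
theorem L839227 : sm gh N64410 = N64395 := ded_47_2 L839020 (flp_h L837952) L839216
theorem L839229 : sm gi N64410 = N64323 := ded_48_2 (flp_f L838010) (flp_i L837954) L839216
theorem L839231 : sm gg N64410 = N64396 := ded_45_2 (flp_f L839024) L837475 (flp_f L836229) (flp_g L837948) L839216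
theorem L839233 : sm ge N64320 = N64411 := rfl
theorem L839235 : sm ga N64411 = N64322 := ded_13_1 (flp_e L837993) (flp_a L837961) L839233
theorem L839237 : sm gc N64411 = N64321 := ded_28_1 (flp_e L837975) (flp_c L837963) L839233
theorem L839239 : sm gg N64411 = N64339 := ded_41_2 L838287 (flp_g L837973) L839233
theorem L839241 : sm gj N64411 = N64371 := ded_42_2 L838750 (flp_j L837967) L839233
theorem L839243 : sm gh N64411 = N64350 := ded_43_2 L838450 (flp_h L837969) L839233
theorem L839245 : sm gi N64411 = N64324 := ded_44_2 (flp_e L838025) (flp_i L837971) L839233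
theorem L839247 : sm gd N64411 = N64370 := ded_34_1 (flp_e L838730) (flp_d L837802) L837808 (flp_d L837965) L839233
theorem L839249 : sm gf N64411 = N64351 := ded_40_2 L838460 L837218 (flp_e L835342) L837959 L839233
theorem L839251 : sm ge N64323 = N64412 := rfl
theorem L839253 : sm ga N64412 = N64412 := ded_13_1 (flp_e L839251) L838012 L839251
theorem L839254 : sm gb N64412 = N64324 := ded_21_1 (flp_e L838025) (flp_b L838013) L839251
theorem L839256 : sm gc N64412 = N64389 := ded_28_1 L838960 (flp_c L838015) L839251
theorem L839258 : sm gg N64412 = N64385 := ded_41_2 L838906 (flp_g L838023) L839251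
theorem L839260 : sm gj N64412 = N64381 := ded_42_2 L838859 (flp_j L838019) L839251
theorem L839262 : sm gh N64412 = N64354 := ded_43_2 (flp_e L838493) (flp_h L838021) L839251
theorem L839264 : sm gd N64412 = N64397 := ded_34_1 (flp_e L839070) L839078 L838936 (flp_d L838017) L839251
theorem L839266 : sm gf N64325 = N64413 := rfl
theorem L839268 : sm ga N64413 = N64413 := ded_14_1 (flp_f L839266) L838051 L839266
theorem L839269 : sm gb N64413 = N64326 := ded_22_1 (flp_f L838054) L838039 L839266
theorem L839271 : sm gc N64413 = N64396 := ded_29_1 (flp_f L839024) (flp_c L838052) L839266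
theorem L839273 : sm gd N64413 = N64343 := ded_35_1 (flp_f L838339) (flp_d L838041) L839266
theorem L839275 : sm gj N64413 = N64391 := ded_46_2 (flp_f L838973) (flp_j L838047) L839266
theorem L839277 : sm gi N64413 = N64330 := ded_48_2 (flp_f L838119) (flp_i L838049) L839266
theorem L839279 : sm ge N64413 = N64390 := ded_40_1 L838969 L837600 (flp_f L836179) (flp_e L838043) L839266
theorem L839281 : sm gg N64413 = N64400 := ded_45_2 L839061 L837640 (flp_f L837203) (flp_g L838045) L839266
theorem L839283 : sm gh N64325 = N64414 := rfl
theorem L839285 : sm ga N64414 = N64414 := ded_17_1 (flp_h L839283) L838051 L839283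
theorem L839286 : sm gb N64414 = N64327 := ded_25_1 (flp_h L838070) L838039 L839283
theorem L839288 : sm gc N64414 = N64397 := ded_32_1 (flp_h L839031) (flp_c L838052) L839283
theorem L839290 : sm ge N64414 = N64352 := ded_43_1 (flp_h L838468) (flp_e L838043) L839283
theorem L839292 : sm gg N64414 = N64388 := ded_50_1 (flp_h L838942) (flp_g L838045) L839283
theorem L839294 : sm gj N64414 = N64392 := ded_52_1 (flp_h L838982) (flp_j L838047) L839283
theorem L839296 : sm gd N64414 = N64373 := ded_38_1 (flp_h L838767) (flp_d L837682) L837690 (flp_d L838041) L839283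
theorem L839298 : sm gh N64326 = N64415 := rfl
theorem L839300 : sm ga N64415 = N64329 := ded_17_1 (flp_h L838102) (flp_a L838056) L839298
theorem L839302 : sm gc N64415 = N64328 := ded_32_1 (flp_h L838084) (flp_c L838058) L839298
theorem L839304 : sm ge N64415 = N64341 := ded_43_1 L838316 (flp_e L838066) L839298
theorem L839306 : sm gf N64415 = N64327 := ded_47_1 (flp_h L838070) L838054 L839298
theorem L839308 : sm gg N64415 = N64337 := ded_50_1 L838250 (flp_g L838068) L839298
theorem L839310 : sm gj N64415 = N64374 := ded_52_1 (flp_h L838788) (flp_j L838062) L839298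
theorem L839312 : sm gd N64415 = N64375 := ded_38_1 (flp_h L838790) (flp_d L837703) L837707 (flp_d L838060) L839298
theorem L839314 : sm gi N64415 = N64367 := ded_54_2 L838706 L836658 L835568 (flp_i L838064) L839298
theorem L839316 : sm gi N64331 = N64416 := rfl
theorem L839318 : sm ga N64416 = N64416 := ded_18_1 (flp_i L839316) L838138 L839316
theorem L839319 : sm gb N64416 = N64332 := ded_26_1 (flp_i L838153) (flp_b L838139) L839316
theorem L839321 : sm gc N64416 = N64394 := ded_33_1 (flp_i L839004) (flp_c L838141) L839316
theorem L839323 : sm gd N64416 = N64400 := ded_39_1 (flp_i L839056) (flp_d L838151) L839316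
theorem L839325 : sm ge N64416 = N64359 := ded_44_1 (flp_i L838576) (flp_e L838143) L839316
theorem L839327 : sm gf N64416 = N64368 := ded_48_1 L838720 (flp_f L838145) L839316
theorem L839329 : sm gg N64416 = N64343 := ded_51_1 L838346 (flp_g L838147) L839316
theorem L839331 : sm gj N64416 = N64372 := ded_53_1 L838763 (flp_j L838149) L839316
theorem L839333 : sm gi N64334 = N64417 := rfl
theorem L839335 : sm ga N64417 = N64417 := ded_18_1 (flp_i L839333) L838190 L839333
theorem L839336 : sm gb N64417 = N64335 := ded_26_1 (flp_i L838205) (flp_b L838191) L839333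
theorem L839338 : sm gc N64417 = N64359 := ded_33_1 (flp_i L838576) (flp_c L838193) L839333
theorem L839340 : sm gd N64417 = N64380 := ded_39_1 L838852 (flp_d L838203) L839333
theorem L839342 : sm ge N64417 = N64394 := ded_44_1 (flp_i L839004) (flp_e L838195) L839333
theorem L839344 : sm gf N64417 = N64361 := ded_48_1 L838611 (flp_f L838197) L839333
theorem L839346 : sm gg N64417 = N64384 := ded_51_1 (flp_i L838890) (flp_g L838199) L839333
theorem L839348 : sm gj N64417 = N64399 := ded_53_1 (flp_i L839047) (flp_j L838201) L839333
theorem L839350 : sm gh N64417 = N64369 := ded_54_1 L839080 (flp_h L839063) L837657 L838188 L839333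
theorem L839352 : sm gf N64336 = N64418 := rfl
theorem L839354 : sm ga N64418 = N64418 := ded_14_1 (flp_f L839352) L838237 L839352
theorem L839355 : sm gb N64418 = N64337 := ded_22_1 (flp_f L838240) L838223 L839352
theorem L839357 : sm gc N64418 = N64395 := ded_29_1 L839020 (flp_c L838238) L839352
theorem L839359 : sm gd N64418 = N64391 := ded_35_1 (flp_f L838973) (flp_d L838225) L839352
theorem L839361 : sm gj N64418 = N64343 := ded_46_2 (flp_f L838339) (flp_j L838231) L839352
theorem L839363 : sm gh N64418 = N64400 := ded_47_2 L839061 (flp_h L838233) L839352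
theorem L839365 : sm gi N64418 = N64383 := ded_48_2 L838888 (flp_i L838235) L839352
theorem L839367 : sm ge N64418 = N64380 := ded_40_1 (flp_f L838847) L836963 (flp_f L836229) (flp_e L838227) L839352
theorem L839369 : sm gf N64338 = N64419 := rfl
theorem L839371 : sm ga N64419 = N64419 := ded_14_1 (flp_f L839369) L838270 L839369
theorem L839372 : sm gb N64419 = N64339 := ded_22_1 (flp_f L838273) L838256 L839369
theorem L839374 : sm gc N64419 = N64390 := ded_29_1 L838969 (flp_c L838271) L839369
theorem L839376 : sm gd N64419 = N64398 := ded_35_1 L839043 (flp_d L838258) L839369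
theorem L839378 : sm gj N64419 = N64345 := ded_46_2 (flp_f L838364) (flp_j L838264) L839369
theorem L839380 : sm gh N64419 = N64377 := ded_47_2 (flp_f L838815) (flp_h L838266) L839369
theorem L839382 : sm gi N64419 = N64385 := ded_48_2 L838908 (flp_i L838268) L839369
theorem L839384 : sm ge N64419 = N64396 := ded_40_1 (flp_f L839024) (flp_e L837649) L837651 (flp_e L838260) L839369
theorem L839386 : sm gf N64340 = N64420 := rfl
theorem L839388 : sm ga N64420 = N64420 := ded_14_1 (flp_f L839386) L838303 L839386
theorem L839389 : sm gb N64420 = N64341 := ded_22_1 (flp_f L838306) L838289 L839386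
theorem L839391 : sm gc N64420 = N64377 := ded_29_1 (flp_f L838815) (flp_c L838304) L839386
theorem L839393 : sm gd N64420 = N64384 := ded_35_1 L838897 (flp_d L838291) L839386
theorem L839395 : sm gj N64420 = N64376 := ded_46_2 L838809 (flp_j L838297) L839386
theorem L839397 : sm gh N64420 = N64390 := ded_47_2 L838969 (flp_h L838299) L839386
theorem L839399 : sm gi N64420 = N64366 := ded_48_2 (flp_f L838681) (flp_i L838301) L839386
theorem L839401 : sm gg N64420 = N64380 := ded_45_2 (flp_f L838847) (flp_g L837653) L837651 (flp_g L838295) L839386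
theorem L839403 : sm ge N64343 = N64421 := rfl
theorem L839405 : sm ga N64421 = N64421 := ded_13_1 (flp_e L839403) L838341 L839403
theorem L839406 : sm gb N64421 = N64344 := ded_21_1 (flp_e L838348) (flp_b L838342) L839403
theorem L839408 : sm gc N64421 = N64384 := ded_28_1 L838895 (flp_c L838344) L839403
theorem L839410 : sm gg N64421 = N64359 := ded_41_2 (flp_e L839325) L839329 L839403
theorem L839412 : sm gj N64421 = N64380 := ded_42_2 (flp_e L839367) L839361 L839403
theorem L839414 : sm gi N64421 = N64357 := ded_44_2 L838551 (flp_i L838346) L839403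
theorem L839416 : sm gf N64421 = N64354 := ded_40_2 (flp_e L838493) (flp_f L836276) (flp_e L835962) L838339 L839403
theorem L839418 : sm gd N64421 = N64399 := ded_56_3 L839052 L837596 L834750 (flp_h L834279) L834275 L829947 (flp_d L827557) (flp_c L827550) L820626 L811255 L813926 (flp_f L820599) L820608 (flp_d L814779) L803919 L791695 (flp_a L787144) L787150 L787177 L787191 (flp_d L780313) L768839 L760734 (flp_a L749506) (flp_h L749504) (flp_f L749500) L749498 L734306 L734304 L716654 (flp_a L721690) L738906 L738912 L724089 L704798 (flp_c L706115) L706113 (flp_a L714215) (flp_h L714213) (flp_f L713016) (flp_e L731329) (flp_d L744459) (flp_c L758263) L758261 (flp_a L749108) L762021 (flp_f L773546) L773545 L785142 L797112 L808577 L818291 L818303 (flp_f L818219) L825528 L830956 L835013 L837680 L837694 L837690 L838339 L839403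
theorem L839420 : sm gh N64345 = N64422 := rfl
theorem L839422 : sm ga N64422 = N64422 := ded_17_1 (flp_h L839420) L838366 L839420
theorem L839423 : sm gb N64422 = N64347 := ded_25_1 (flp_h L838390) (flp_b L838367) L839420
theorem L839425 : sm gc N64422 = N64376 := ded_32_1 L838813 (flp_c L838369) L839420
theorem L839427 : sm gf N64422 = N64346 := ded_47_1 (flp_h L838373) L838364 L839420
theorem L839429 : sm gg N64422 = N64399 := ded_50_1 (flp_h L839214) L839210 L839420
theorem L839431 : sm gj N64422 = N64377 := ded_52_1 (flp_h L839380) L839378 L839420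
theorem L839433 : sm gi N64422 = N64358 := ded_54_2 L838574 L836593 L837143 (flp_i L838371) L839420
theorem L839435 : sm gd N64422 = N64359 := ded_55_2 L838581 (flp_e L838173) L838171 (flp_b L835692) (flp_c L831872) (flp_d L826609) (flp_i L825411) L825409 L825921 L825927 L820375 L815309 L804876 L796147 L784111 L772495 (flp_h L771920) (flp_d L783531) (flp_f L784804) L784802 (flp_d L795753) (flp_b L796699) L796685 (flp_d L800984) (flp_i L812062) L812060 (flp_d L814692) L814694 L803868 L796122 (flp_b L795946) L795938 (flp_d L795494) (flp_i L807382) (flp_h L817413) (flp_d L819390) L819392 L809807 (flp_d L813015) L813023 L807112 (flp_d L798534) L798542 L794024 L781801 (flp_f L781817) (flp_e L793898) (flp_d L802247) L802257 (flp_c L802549) L802551 (flp_i L802190) (flp_h L813033) (flp_d L821781) L821783 (flp_e L820866) (flp_d L825387) L825383 L822384 L822529 L822537 L813993 (flp_d L812257) L812259 (flp_e L804033) (flp_d L803967) L803975 (flp_c L805288) L805290 (flp_i L805282) L805280 L796122 (flp_f L796130) L807819 L817743 (flp_b L825191) L830704 L830710 (flp_i L830689) (flp_h L833469)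 L833471 (flp_f L832724) (flp_e L835576) L835584 (flp_b L837626) (flp_c L838015) L838017 (flp_i L838371) L839420
theorem L839437 : sm gf N64349 = N64423 := rfl
theorem L839439 : sm ga N64423 = N64423 := ded_14_1 (flp_f L839437) L838435 L839437
theorem L839440 : sm gb N64423 = N64350 := ded_22_1 (flp_f L838438) L838423 L839437
theorem L839442 : sm gc N64423 = N64380 := ded_29_1 (flp_f L838847) (flp_c L838436) L839437
theorem L839444 : sm gd N64423 = N64376 := ded_35_1 L838809 (flp_d L838425) L839437
theorem L839446 : sm gj N64423 = N64384 := ded_46_2 L838897 (flp_j L838431) L839437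
theorem L839448 : sm gi N64423 = N64356 := ded_48_2 (flp_f L838527) (flp_i L838433) L839437
theorem L839450 : sm ge N64423 = N64395 := ded_40_1 L839020 L837586 (flp_f L837203) (flp_e L838427) L839437
theorem L839452 : sm gg N64423 = N64377 := ded_45_2 (flp_f L838815) L836876 (flp_f L836179) (flp_g L838429) L839437
theorem L839454 : sm gh N64349 = N64424 := rfl
theorem L839456 : sm ga N64424 = N64424 := ded_17_1 (flp_h L839454) L838435 L839454
theorem L839457 : sm gb N64424 = N64351 := ded_25_1 (flp_h L838454) L838423 L839454
theorem L839459 : sm gc N64424 = N64381 := ded_32_1 (flp_h L838854) (flp_c L838436) L839454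
theorem L839461 : sm ge N64424 = N64388 := ded_43_1 (flp_h L838942) (flp_e L838427) L839454
theorem L839463 : sm gg N64424 = N64352 := ded_50_1 (flp_h L838468) (flp_g L838429) L839454
theorem L839465 : sm gj N64424 = N64389 := ded_52_1 (flp_h L838955) (flp_j L838431) L839454
theorem L839467 : sm gd N64424 = N64379 := ded_38_1 L838845 L837436 (flp_h L837399) (flp_d L838425) L839454
theorem L839469 : sm gi N64352 = N64425 := rfl
theorem L839471 : sm ga N64425 = N64425 := ded_18_1 (flp_i L839469) L838470 L839469
theorem L839472 : sm gb N64425 = N64353 := ded_26_1 (flp_i L838479) (flp_b L838471) L839469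
theorem L839474 : sm gc N64425 = N64369 := ded_33_1 L839080 L839068 L839469
theorem L839476 : sm gd N64425 = N64395 := ded_39_1 (flp_i L839015) (flp_d L838477) L839469
theorem L839478 : sm gf N64425 = N64363 := ded_48_1 L838647 (flp_f L838473) L839469
theorem L839480 : sm gj N64425 = N64393 := ded_53_1 (flp_i L838991) (flp_j L838475) L839469
theorem L839482 : sm gh N64425 = N64359 := ded_54_1 (flp_i L838576) (flp_h L836366) (flp_i L836183) L838468 L839469
theorem L839484 : sm ge N64358 = N64426 := rfl
theorem L839486 : sm ga N64426 = N64426 := ded_13_1 (flp_e L839484) L838563 L839484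
theorem L839487 : sm gb N64426 = N64360 := ded_21_1 (flp_e L838585) (flp_b L838564) L839484
theorem L839489 : sm gc N64426 = N64373 := ded_28_1 L838772 (flp_c L838572) L839484
theorem L839491 : sm gg N64426 = N64386 := ded_41_2 L838925 (flp_g L838568) L839484
theorem L839493 : sm gj N64426 = N64379 := ded_42_2 (flp_e L838838) (flp_j L838570) L839484
theorem L839495 : sm gh N64426 = N64364 := ded_43_2 L838656 (flp_h L838574) L839484
theorem L839497 : sm gd N64426 = N64389 := ded_34_1 L838960 (flp_d L838151) L838143 L838561 L839484
theorem L839499 : sm gf N64364 = N64427 := rfl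
theorem L839501 : sm ga N64427 = N64427 := ded_14_1 (flp_f L839499) L838664 L839499
theorem L839502 : sm gb N64427 = N64365 := ded_22_1 (flp_f L838667) L838652 L839499
theorem L839504 : sm gc N64427 = N64372 := ded_29_1 (flp_f L838758) (flp_c L838665) L839499
theorem L839506 : sm gd N64427 = N64390 := ded_35_1 L838969 (flp_d L838654) L839499
theorem L839508 : sm gj N64427 = N64394 := ded_46_2 L839011 (flp_j L838660) L839499
theorem L839510 : sm gi N64427 = N64386 := ded_48_2 (flp_f L838914) (flp_i L838662) L839499
theorem L839512 : sm ge N64427 = N64399 := ded_40_1 L839054 L837616 (flp_f L836587) (flp_e L838656) L839499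
theorem L839514 : sm ge N64366 = N64428 := rfl
theorem L839516 : sm ga N64428 = N64428 := ded_13_1 (flp_e L839514) L838683 L839514
theorem L839517 : sm gb N64428 = N64367 := ded_21_1 (flp_e L838696) (flp_b L838684) L839514
theorem L839519 : sm gc N64428 = N64379 := ded_28_1 (flp_e L838838) (flp_c L838686) L839514
theorem L839521 : sm gg N64428 = N64383 := ded_41_2 (flp_e L838875) (flp_g L838694) L839514
theorem L839523 : sm gj N64428 = N64373 := ded_42_2 L838772 (flp_j L838690) L839514
theorem L839525 : sm gh N64428 = N64368 := ded_43_2 L838714 (flp_h L838692) L839514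
theorem L839527 : sm gd N64428 = N64392 := ded_34_1 L838987 L837347 (flp_e L837021) (flp_d L838688) L839514
theorem L839529 : sm ge N64369 = N64429 := rfl
theorem L839531 : sm ga N64429 = N64429 := ded_13_1 (flp_e L839529) L838727 L839529
theorem L839532 : sm gb N64429 = N64370 := ded_21_1 (flp_e L838730) (flp_b L838728) L839529
theorem L839534 : sm gh N64429 = N64394 := ded_43_2 (flp_e L839342) L839350 L839529
theorem L839536 : sm gi N64429 = N64397 := ded_44_2 (flp_e L839070) (flp_i L839080) L839529
theorem L839538 : sm gf N64429 = N64379 := ded_40_2 (flp_e L838838) (flp_f L836918) (flp_e L836675) L838725 L839529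
theorem L839540 : sm gg N64398 = N64429 := ded_23_0 L839532 (flp_g L838742) (flp_b L839041)
theorem L839542 : sm gg N64369 = N64430 := rfl
theorem L839544 : sm ga N64430 = N64430 := ded_15_1 (flp_g L839542) L838727 L839542
theorem L839545 : sm gb N64430 = N64371 := ded_23_1 (flp_g L838744) (flp_b L838728) L839542
theorem L839547 : sm ge N64430 = N64398 := ded_41_1 L839540 (flp_e L839529) L839542
theorem L839549 : sm gh N64430 = N64384 := ded_50_2 (flp_g L839346) L839350 L839542
theorem L839551 : sm gi N64430 = N64381 := ded_51_2 (flp_g L839074) (flp_i L839080) L839542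
theorem L839553 : sm gf N64430 = N64389 := ded_45_1 L838962 L837268 (flp_g L836677) L838725 L839542
theorem L839555 : sm gg N64372 = N64431 := rfl
theorem L839557 : sm ga N64431 = N64431 := ded_15_1 (flp_g L839555) L838760 L839555
theorem L839558 : sm gb N64431 = N64374 := ded_23_1 (flp_g L838776) (flp_b L838761) L839555
theorem L839560 : sm ge N64431 = N64376 := ded_41_1 L838811 (flp_e L838765) L839555
theorem L839562 : sm gi N64431 = N64373 := ded_51_2 L838774 (flp_i L838763) L839555
theorem L839564 : sm gf N64431 = N64392 := ded_45_1 L838989 L837336 (flp_g L836744) L838758 L839555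
theorem L839566 : sm gh N64431 = N64391 := ded_56_7 (flp_f L838973) L837293 L834237 (flp_c L834862) (flp_b L834855) L830706 (flp_h L827387) L827381 L824988 (flp_d L825168) (flp_c L825161) L817628 (flp_a L812037) L812046 (flp_f L813282) (flp_e L821995) L821999 L815401 (flp_b L810503) (flp_a L818507) L818514 L808828 (flp_e L815815) L815814 (flp_c L823801) (flp_b L829855) (flp_a L834358) L834364 L831348 L831346 L830099 L824591 L816757 L806895 (flp_h L797693) L809218 (flp_e L818905) L818897 L815297 L807965 (flp_a L797294) (flp_h L808753) L818489 L818503 (flp_d L823394) L823392 L815155 L806062 (flp_h L797717) L797719 (flp_e L805034) L805038 (flp_c L815614) (flp_b L823793) (flp_a L829847) (flp_h L829845) (flp_f L828420) (flp_e L833351) (flp_d L836773) (flp_c L838780) (flp_b L839558) L839557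
theorem L839568 : sm gh N64372 = N64432 := rfl
theorem L839570 : sm ga N64432 = N64432 := ded_17_1 (flp_h L839568) L838760 L839568
theorem L839571 : sm gb N64432 = N64375 := ded_25_1 (flp_h L838790) (flp_b L838761) L839568
theorem L839573 : sm ge N64432 = N64393 := ded_43_1 L839002 (flp_e L838765) L839568
theorem L839575 : sm gf N64432 = N64373 := ded_47_1 (flp_h L838767) L838758 L839568
theorem L839577 : sm gg N64432 = N64391 := ded_50_1 (flp_h L839566) (flp_g L839555) L839568
theorem L839579 : sm gi N64432 = N64392 := ded_54_2 (flp_h L838982) L837297 L837327 (flp_i L838763) L839568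
theorem L839581 : sm ge N64377 = N64433 := rfl
theorem L839583 : sm ga N64433 = N64433 := ded_13_1 (flp_e L839581) L838817 L839581
theorem L839584 : sm gb N64433 = N64378 := ded_21_1 (flp_e L838824) (flp_b L838818) L839581
theorem L839586 : sm gg N64433 = N64395 := ded_41_2 (flp_e L839450) L839452 L839581
theorem L839588 : sm gh N64433 = N64396 := ded_43_2 (flp_e L839384) L839380 L839581
theorem L839590 : sm gi N64433 = N64379 := ded_44_2 (flp_e L838838) (flp_i L838822) L839581
theorem L839592 : sm gf N64433 = N64397 := ded_40_2 (flp_e L839070) L839072 L838329 L838815 L839581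
theorem L839594 : sm gh N64380 = N64434 := rfl
theorem L839596 : sm ga N64434 = N64434 := ded_17_1 (flp_h L839594) L838849 L839594
theorem L839597 : sm gb N64434 = N64382 := ded_25_1 (flp_h L838861) (flp_b L838850) L839594
theorem L839599 : sm ge N64434 = N64400 := ded_43_1 (flp_h L839363) L839367 L839594
theorem L839601 : sm gf N64434 = N64381 := ded_47_1 (flp_h L838854) L838847 L839594
theorem L839603 : sm gg N64434 = N64390 := ded_50_1 (flp_h L839397) L839401 L839594
theorem L839605 : sm gi N64434 = N64389 := ded_54_2 (flp_h L838955) (flp_i L838522) L838520 (flp_i L838852) L839594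
theorem L839607 : sm ge N64402 = N64435 := rfl
theorem L839609 : sm ga N64435 = N64435 := ded_13_1 (flp_e L839607) L839084 L839607
theorem L839610 : sm gb N64435 = N64403 := ded_21_1 (flp_e L839097) (flp_b L839085) L839607
theorem L839612 : sm gc N64435 = N64430 := ded_28_1 L839547 (flp_c L839087) L839607
theorem L839614 : sm gj N64435 = N64434 := ded_42_2 L839599 (flp_j L839091) L839607
theorem L839616 : sm gh N64435 = N64421 := ded_43_2 (flp_e L839403) (flp_h L839093) L839607
theorem L839618 : sm gi N64435 = N64424 := ded_44_2 L839461 (flp_i L839095) L839607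
theorem L839620 : sm gd N64435 = N64433 := ded_34_1 (flp_e L839581) L838820 (flp_e L838765) (flp_d L839089) L839607
theorem L839622 : sm gf N64435 = N64412 := ded_40_2 (flp_e L839251) (flp_f L838010) (flp_e L837684) L839082 L839607
theorem L839624 : sm gg N64425 = N64435 := ded_23_0 L839610 (flp_g L839113) (flp_b L839472)
theorem L839626 : sm gg N64402 = N64436 := rfl
theorem L839628 : sm ga N64436 = N64436 := ded_15_1 (flp_g L839626) L839084 L839626
theorem L839629 : sm gb N64436 = N64404 := ded_23_1 (flp_g L839115) (flp_b L839085) L839626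
theorem L839631 : sm gc N64436 = N64429 := ded_30_1 (flp_g L839540) (flp_c L839087) L839626
theorem L839633 : sm gd N64436 = N64431 := ded_36_1 (flp_g L839555) (flp_d L839089) L839626
theorem L839635 : sm ge N64436 = N64425 := ded_41_1 L839624 (flp_e L839607) L839626
theorem L839637 : sm gh N64436 = N64416 := ded_50_2 L839329 (flp_h L839093) L839626
theorem L839639 : sm gi N64436 = N64414 := ded_51_2 L839292 (flp_i L839095) L839626
theorem L839641 : sm gf N64436 = N64428 := ded_45_1 L839521 L838888 (flp_g L837686) L839082 L839626
theorem L839643 : sm gj N64436 = N64432 := ded_49_2 L839577 (flp_j L839275) L839281 (flp_j L839091) L839626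
theorem L839645 : sm gg N64405 = N64437 := rfl
theorem L839647 : sm ga N64437 = N64437 := ded_15_1 (flp_g L839645) L839135 L839645
theorem L839648 : sm gb N64437 = N64407 := ded_23_1 (flp_g L839163) (flp_b L839136) L839645
theorem L839650 : sm gc N64437 = N64432 := ded_30_1 L839577 (flp_c L839138) L839645
theorem L839652 : sm gd N64437 = N64430 := ded_36_1 (flp_g L839542) (flp_d L839140) L839645
theorem L839654 : sm ge N64437 = N64409 := ded_41_1 L839210 (flp_e L839146) L839645
theorem L839656 : sm gi N64437 = N64406 := ded_51_2 L839157 (flp_i L839144) L839645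
theorem L839658 : sm gf N64437 = N64426 := ded_45_1 L839491 (flp_f L838914) (flp_g L837787) L839133 L839645
theorem L839660 : sm gj N64437 = N64429 := ded_49_2 (flp_g L839540) (flp_j L839225) L839231 (flp_j L839142) L839645
theorem L839662 : sm gh N64437 = N64427 := ded_56_7 (flp_f L839499) L838656 L836585 L834405 (flp_b L830693) L825172 (flp_h L823118) L823114 (flp_e L822801) (flp_d L826572) (flp_c L826557) L819509 L809974 L810646 (flp_f L818434) (flp_e L825661) L825667 L821886 (flp_b L818848) L818846 L815274 (flp_f L813253) (flp_e L819732) L819731 (flp_c L826758) (flp_b L832010) (flp_a L835790) L835798 L832111 L826985 (flp_d L823446) L815224 (flp_b L814475) L814473 L803620 (flp_f L805896) (flp_e L815634) L815644 (flp_c L810896) L810886 L799435 (flp_h L806711) (flp_f L815714) L815712 (flp_d L815264) L815256 L804448 (flp_a L803638) L803644 (flp_f L803037) L814113 L814125 (flp_c L822629) (flp_b L828900) (flp_a L833703) L833711 (flp_f L831192) (flp_e L835156) (flp_d L837830) (flp_c L839167) (flp_b L839648) L839647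
theorem L839664 : sm gh N64405 = N64438 := rfl
theorem L839666 : sm ga N64438 = N64438 := ded_17_1 (flp_h L839664) L839135 L839664
theorem L839667 : sm gb N64438 = N64408 := ded_25_1 (flp_h L839181) (flp_b L839136) L839664
theorem L839669 : sm gc N64438 = N64431 := ded_32_1 L839566 (flp_c L839138) L839664
theorem L839671 : sm ge N64438 = N64422 := ded_43_1 (flp_h L839420) (flp_e L839146) L839664
theorem L839673 : sm gf N64438 = N64406 := ded_47_1 (flp_h L839148) L839133 L839664
theorem L839675 : sm gg N64438 = N64427 := ded_50_1 (flp_h L839662) (flp_g L839645) L839664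
theorem L839677 : sm gj N64438 = N64433 := ded_52_1 L839588 (flp_j L839142) L839664
theorem L839679 : sm gd N64438 = N64434 := ded_38_1 (flp_h L839594) (flp_d L839340) L839350 (flp_d L839140) L839664
theorem L839681 : sm gi N64438 = N64426 := ded_54_2 L839495 L838662 L838929 (flp_i L839144) L839664
theorem L839683 : sm ge N64410 = N64439 := rfl
theorem L839685 : sm ga N64439 = N64439 := ded_13_1 (flp_e L839683) L839218 L839683
theorem L839686 : sm gb N64439 = N64411 := ded_21_1 (flp_e L839233) (flp_b L839219) L839683
theorem L839688 : sm gc N64439 = N64434 := ded_28_1 L839599 (flp_c L839221) L839683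
theorem L839690 : sm gg N64439 = N64419 := ded_41_2 L839384 (flp_g L839231) L839683
theorem L839692 : sm gj N64439 = N64430 := ded_42_2 L839547 (flp_j L839225) L839683
theorem L839694 : sm gh N64439 = N64423 := ded_43_2 L839450 (flp_h L839227) L839683
theorem L839696 : sm gi N64439 = N64412 := ded_44_2 (flp_e L839251) (flp_i L839229) L839683
theorem L839698 : sm gd N64439 = N64429 := ded_34_1 (flp_e L839529) (flp_d L839140) L839146 (flp_d L839223) L839683
theorem L839700 : sm gf N64439 = N64424 := ded_40_2 L839461 L838949 (flp_e L837946) L839216 L839683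
theorem L839702 : sm gh N64413 = N64440 := rfl
theorem L839704 : sm ga N64440 = N64440 := ded_17_1 (flp_h L839702) L839268 L839702
theorem L839705 : sm gb N64440 = N64415 := ded_25_1 (flp_h L839298) (flp_b L839269) L839702
theorem L839707 : sm gc N64440 = N64433 := ded_32_1 L839588 (flp_c L839271) L839702
theorem L839709 : sm ge N64440 = N64420 := ded_43_1 L839397 (flp_e L839279) L839702
theorem L839711 : sm gf N64440 = N64414 := ded_47_1 (flp_h L839283) L839266 L839702
theorem L839713 : sm gg N64440 = N64418 := ded_50_1 L839363 (flp_g L839281) L839702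
theorem L839715 : sm gj N64440 = N64431 := ded_52_1 L839566 (flp_j L839275) L839702
theorem L839717 : sm gd N64440 = N64432 := ded_38_1 (flp_h L839568) (flp_d L839089) L839093 (flp_d L839273) L839702
theorem L839719 : sm gi N64440 = N64428 := ded_54_2 L839525 L838720 L838134 (flp_i L839277) L839702

end Cfsg.Agent.Helper28.FicA
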