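import Cfsg.Agent.Helper28.FicB5

/-! # The Fi₂₃ presentation, cosets of the subgroup generated by a, …, i: the coset enumeration, part 6 (helper28; generated) -/

set_option autoImplicit false

noncomputable section

namespace Cfsg.Agent.Helper28.FicA

open Cfsg.Agent.Helper28.CosetTable

def N52043 : Q := sm ge N49982
def N52044 : Q := sm gi N49982
def N52045 : Q := sm gh N49984
def N52046 : Q := sm gh N49985
def N52047 : Q := sm gi N49987
def N52048 : Q := sm gh N49988
def N52049 : Q := sm gd N49990
def N52050 : Q := sm ge N49992
def N52051 : Q := sm gi N49992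
def N52052 : Q := sm gh N49994
def N52053 : Q := sm gf N49996
def N52054 : Q := sm gi N49996
def N52055 : Q := sm gh N49997
def N52056 : Q := sm gi N49998
def N52057 : Q := sm gh N49999
def N52058 : Q := sm gi N50005
def N52059 : Q := sm gh N50006
def N52060 : Q := sm gi N50008
def N52061 : Q := sm gh N50009
def N52062 : Q := sm ge N50011
def N52063 : Q := sm gi N50011
def N52064 : Q := sm ge N50013
def N52065 : Q := sm gi N50013
def N52066 : Q := sm gi N50014
def N52067 : Q := sm gh N50015
def N52068 : Q := sm ge N50016
def N52069 : Q := sm gi N50016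
def N52070 : Q := sm gd N50017
def N52071 : Q := sm gf N50017
def N52072 : Q := sm gi N50017
def N52073 : Q := sm gh N50018
def N52074 : Q := sm gg N50019
def N52075 : Q := sm gi N50019
def N52076 : Q := sm gh N50020
def N52077 : Q := sm gi N50022
def N52078 : Q := sm gh N50023
def N52079 : Q := sm gf N50025
def N52080 : Q := sm gi N50025
def N52081 : Q := sm gh N50026
def N52082 : Q := sm gg N50027
def N52083 : Q := sm gi N50027
def N52084 : Q := sm gh N50028
def N52085 : Q := sm gd N50029
def N52086 : Q := sm gi N50030
def N52087 : Q := sm gh N50031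
def N52088 : Q := sm gh N50033
def N52089 : Q := sm gi N50035
def N52090 : Q := sm gh N50036
def N52091 : Q := sm gd N50037
def N52092 : Q := sm gi N50039
def N52093 : Q := sm gh N50040
def N52094 : Q := sm gi N50046
def N52095 : Q := sm gh N50054
def N52096 : Q := sm gd N50055
def N52097 : Q := sm gc N50060
def N52098 : Q := sm ge N50060
def N52099 : Q := sm gi N50060
def N52100 : Q := sm ge N50062
def N52101 : Q := sm gi N50062
def N52102 : Q := sm gi N50064
def N52103 : Q := sm gh N50065
def N52104 : Q := sm gh N50066
def N52105 : Q := sm gi N50068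
def N52106 : Q := sm gh N50069
def N52107 : Q := sm ga N50070
def N52108 : Q := sm ge N50070
def N52109 : Q := sm gi N50070
def N52110 : Q := sm gi N50071
def N52111 : Q := sm gh N50072
def N52112 : Q := sm gh N50073
def N52113 : Q := sm ga N50075
def N52114 : Q := sm gi N50075
def N52115 : Q := sm gh N50076
def N52116 : Q := sm gi N50078
def N52117 : Q := sm gh N50079
def N52118 : Q := sm gd N50080
def N52119 : Q := sm gh N50081
def N52120 : Q := sm gd N50082
def N52121 : Q := sm gi N50084
def N52122 : Q := sm gh N50085
def N52123 : Q := sm gd N50086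
def N52124 : Q := sm gi N50087
def N52125 : Q := sm gh N50088
def N52126 : Q := sm gd N50089
def N52127 : Q := sm gh N50090
def N52128 : Q := sm gd N50091
def N52129 : Q := sm ge N50092
def N52130 : Q := sm gh N50096
def N52131 : Q := sm gd N50097
def N52132 : Q := sm gh N50099
def N52133 : Q := sm ge N50104
def N52134 : Q := sm gi N50104
def N52135 : Q := sm gi N50106
def N52136 : Q := sm gh N50107
def N52137 : Q := sm gh N50108
def N52138 : Q := sm ge N50110
def N52139 : Q := sm gi N50110
def N52140 : Q := sm gi N50111
def N52141 : Q := sm gh N50112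
def N52142 : Q := sm gi N50113
def N52143 : Q := sm gh N50114
def N52144 : Q := sm gh N50115
def N52145 : Q := sm gd N50117
def N52146 : Q := sm gc N50118
def N52147 : Q := sm ge N50118
def N52148 : Q := sm gi N50118
def N52149 : Q := sm gb N50120
def N52150 : Q := sm ge N50120
def N52151 : Q := sm gi N50120
def N52152 : Q := sm gf N50121
def N52153 : Q := sm gi N50121
def N52154 : Q := sm gh N50122
def N52155 : Q := sm ge N50123
def N52156 : Q := sm gi N50123
def N52157 : Q := sm gd N50124
def N52158 : Q := sm gf N50124
def N52159 : Q := sm gi N50124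
def N52160 : Q := sm gh N50125
def N52161 : Q := sm gi N50126
def N52162 : Q := sm gh N50127
def N52163 : Q := sm gi N50129
def N52164 : Q := sm gf N50130
def N52165 : Q := sm gi N50130
def N52166 : Q := sm gh N50131
def N52167 : Q := sm gi N50132
def N52168 : Q := sm gh N50133
def N52169 : Q := sm gh N50135
def N52170 : Q := sm gi N50136
def N52171 : Q := sm gh N50137
def N52172 : Q := sm gd N50138
def N52173 : Q := sm gh N50139
def N52174 : Q := sm gd N50141
def N52175 : Q := sm gd N50142
def N52176 : Q := sm ge N50143
def N52177 : Q := sm gb N50145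
def N52178 : Q := sm gi N50145
def N52179 : Q := sm gh N50146
def N52180 : Q := sm gi N50147
def N52181 : Q := sm gd N50148
def N52182 : Q := sm gi N50148
def N52183 : Q := sm gh N50149
def N52184 : Q := sm gh N50150
def N52185 : Q := sm gi N50152
def N52186 : Q := sm gd N50153
def N52187 : Q := sm gi N50153
def N52188 : Q := sm gh N50154
def N52189 : Q := sm gi N50155
def N52190 : Q := sm gh N50156
def N52191 : Q := sm gd N50157
def N52192 : Q := sm gi N50159
def N52193 : Q := sm gh N50160
def N52194 : Q := sm gd N50161
def N52195 : Q := sm gh N50162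
def N52196 : Q := sm gd N50163
def N52197 : Q := sm ge N50164
def N52198 : Q := sm ge N50166
def N52199 : Q := sm gb N50168
def N52200 : Q := sm ge N50168
def N52201 : Q := sm gi N50168
def N52202 : Q := sm gi N50169
def N52203 : Q := sm gh N50170
def N52204 : Q := sm gc N50171
def N52205 : Q := sm ge N50171
def N52206 : Q := sm gi N50171
def N52207 : Q := sm gb N50173
def N52208 : Q := sm ge N50173
def N52209 : Q := sm gi N50173
def N52210 : Q := sm gi N50174
def N52211 : Q := sm gh N50175
def N52212 : Q := sm ge N50176
def N52213 : Q := sm gi N50176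
def N52214 : Q := sm gd N50177
def N52215 : Q := sm gf N50177
def N52216 : Q := sm gi N50177
def N52217 : Q := sm gh N50178
def N52218 : Q := sm gg N50179
def N52219 : Q := sm gi N50179
def N52220 : Q := sm gh N50180
def N52221 : Q := sm gi N50182
def N52222 : Q := sm gh N50183
def N52223 : Q := sm gf N50185
def N52224 : Q := sm gi N50185
def N52225 : Q := sm gh N50186
def N52226 : Q := sm gi N50187
def N52227 : Q := sm gh N50188
def N52228 : Q := sm gd N50189
def N52229 : Q := sm gi N50190
def N52230 : Q := sm gh N50191
def N52231 : Q := sm gh N50193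
def N52232 : Q := sm gd N50194
def N52233 : Q := sm gi N50197
def N52234 : Q := sm gh N50198
def N52235 : Q := sm ge N50200
def N52236 : Q := sm gi N50200
def N52237 : Q := sm gf N50201
def N52238 : Q := sm gi N50201
def N52239 : Q := sm gh N50202
def N52240 : Q := sm ge N50203
def N52241 : Q := sm gi N50203
def N52242 : Q := sm gd N50204
def N52243 : Q := sm gf N50204
def N52244 : Q := sm gi N50204
def N52245 : Q := sm gh N50205
def N52246 : Q := sm gi N50206
def N52247 : Q := sm gh N50207
def N52248 : Q := sm ge N50209
def N52249 : Q := sm gi N50209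
def N52250 : Q := sm gd N50210
def N52251 : Q := sm gf N50210
def N52252 : Q := sm gi N50210
def N52253 : Q := sm gh N50211
def N52254 : Q := sm gf N50212
def N52255 : Q := sm gh N50212
def N52256 : Q := sm gi N50212
def N52257 : Q := sm gg N50213
def N52258 : Q := sm gi N50213
def N52259 : Q := sm gh N50214
def N52260 : Q := sm gd N50215
def N52261 : Q := sm gj N50216
def N52262 : Q := sm gi N50216
def N52263 : Q := sm gh N50217
def N52264 : Q := sm gd N50218
def N52265 : Q := sm ge N50219
def N52266 : Q := sm gi N50219
def N52267 : Q := sm gf N50220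
def N52268 : Q := sm gi N50220
def N52269 : Q := sm gh N50221
def N52270 : Q := sm gi N50222
def N52271 : Q := sm gh N50223
def N52272 : Q := sm gd N50224
def N52273 : Q := sm gh N50225
def N52274 : Q := sm gf N50227
def N52275 : Q := sm gi N50227
def N52276 : Q := sm gh N50228
def N52277 : Q := sm gg N50229
def N52278 : Q := sm gi N50229
def N52279 : Q := sm gh N50230
def N52280 : Q := sm gd N50231
def N52281 : Q := sm gj N50232
def N52282 : Q := sm gi N50232
def N52283 : Q := sm gh N50233
def N52284 : Q := sm gd N50234
def N52285 : Q := sm ge N50235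
def N52286 : Q := sm gi N50236
def N52287 : Q := sm gh N50237
def N52288 : Q := sm gh N50239
def N52289 : Q := sm gj N50241
def N52290 : Q := sm gi N50241
def N52291 : Q := sm gh N50242
def N52292 : Q := sm gd N50243
def N52293 : Q := sm gi N50245
def N52294 : Q := sm gh N50246
def N52295 : Q := sm gd N50247
def N52296 : Q := sm gh N50250
def N52297 : Q := sm gh N50253
def N52298 : Q := sm gh N50255
def N52299 : Q := sm gh N50256
def N52300 : Q := sm gi N50256
def N52301 : Q := sm gh N50257
def N52302 : Q := sm gd N50258
def N52303 : Q := sm gh N50260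
def N52304 : Q := sm gh N50261
def N52305 : Q := sm gi N50261
def N52306 : Q := sm gh N50262
def N52307 : Q := sm gd N50263
def N52308 : Q := sm gi N50264
def N52309 : Q := sm gh N50265
def N52310 : Q := sm gd N50266
def N52311 : Q := sm ge N50267
def N52312 : Q := sm gh N50268
def N52313 : Q := sm gd N50269
def N52314 : Q := sm ge N50270
def N52315 : Q := sm gf N50273
def N52316 : Q := sm gh N50280
def N52317 : Q := sm gh N50281
def N52318 : Q := sm gh N50282
def N52319 : Q := sm gh N50284
def N52320 : Q := sm gd N50285
def N52321 : Q := sm gh N50286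
def N52322 : Q := sm gh N50289
def N52323 : Q := sm gd N50290
def N52324 : Q := sm ge N50292
def N52325 : Q := sm gh N50293
def N52326 : Q := sm gh N50295
def N52327 : Q := sm gd N50297
def N52328 : Q := sm ge N50299
def N52329 : Q := sm gh N50300
def N52330 : Q := sm gd N50301
def N52331 : Q := sm gh N50302
def N52332 : Q := sm gh N50303
def N52333 : Q := sm gh N50305
def N52334 : Q := sm gd N50306
def N52335 : Q := sm gh N50307
def N52336 : Q := sm gh N50308
def N52337 : Q := sm gd N50309
def N52338 : Q := sm gh N50310
def N52339 : Q := sm gd N50311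
def N52340 : Q := sm ge N50312
def N52341 : Q := sm gd N50315
def N52342 : Q := sm gd N50317
def N52343 : Q := sm gd N50319
def N52344 : Q := sm ge N50320
def N52345 : Q := sm gf N50321
def N52346 : Q := sm ge N50323
def N52347 : Q := sm gi N50323
def N52348 : Q := sm gh N50325
def N52349 : Q := sm ge N50327
def N52350 : Q := sm gi N50327
def N52351 : Q := sm ge N50329
def N52352 : Q := sm gi N50329
def N52353 : Q := sm gi N50330
def N52354 : Q := sm gh N50331
def N52355 : Q := sm gh N50332
def N52356 : Q := sm gh N50333
def N52357 : Q := sm gd N50335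
def N52358 : Q := sm gi N50336
def N52359 : Q := sm gh N50337
def N52360 : Q := sm gh N50339
def N52361 : Q := sm gd N50340
def N52362 : Q := sm gd N50342
def N52363 : Q := sm ge N50343
def N52364 : Q := sm ge N50344
def N52365 : Q := sm gi N50344
def N52366 : Q := sm gi N50345
def N52367 : Q := sm gh N50346
def N52368 : Q := sm gh N50347
def N52369 : Q := sm gh N50349
def N52370 : Q := sm gd N50350
def N52371 : Q := sm gi N50352
def N52372 : Q := sm gh N50353
def N52373 : Q := sm gd N50354
def N52374 : Q := sm gf N50354
def N52375 : Q := sm gi N50354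
def N52376 : Q := sm gh N50355
def N52377 : Q := sm gi N50356
def N52378 : Q := sm gh N50357
def N52379 : Q := sm gi N50360
def N52380 : Q := sm gh N50361
def N52381 : Q := sm gd N50362
def N52382 : Q := sm gh N50363
def N52383 : Q := sm gh N50365
def N52384 : Q := sm gh N50366
def N52385 : Q := sm gd N50367
def N52386 : Q := sm gd N50368
def N52387 : Q := sm ge N50369
def N52388 : Q := sm gh N50370
def N52389 : Q := sm gi N50370
def N52390 : Q := sm gh N50371
def N52391 : Q := sm gd N50372
def N52392 : Q := sm ge N50374
def N52393 : Q := sm gf N50377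
def N52394 : Q := sm ge N50378
def N52395 : Q := sm gi N50378
def N52396 : Q := sm gi N50379
def N52397 : Q := sm gh N50380
def N52398 : Q := sm gh N50381
def N52399 : Q := sm gh N50383
def N52400 : Q := sm gd N50384
def N52401 : Q := sm ge N50385
def N52402 : Q := sm gi N50385
def N52403 : Q := sm gi N50387
def N52404 : Q := sm gh N50388
def N52405 : Q := sm gi N50389
def N52406 : Q := sm gh N50390
def N52407 : Q := sm gh N50391
def N52408 : Q := sm gd N50394
def N52409 : Q := sm gh N50395
def N52410 : Q := sm gd N50396
def N52411 : Q := sm ge N50397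
def N52412 : Q := sm gh N50398
def N52413 : Q := sm gd N50400
def N52414 : Q := sm ge N50402
def N52415 : Q := sm ge N50406
def N52416 : Q := sm gi N50406
def N52417 : Q := sm gd N50407
def N52418 : Q := sm gi N50407
def N52419 : Q := sm gh N50408
def N52420 : Q := sm gh N50409
def N52421 : Q := sm gh N50411
def N52422 : Q := sm gd N50412
def N52423 : Q := sm gh N50413
def N52424 : Q := sm gd N50414
def N52425 : Q := sm ge N50416
def N52426 : Q := sm ge N50417
def N52427 : Q := sm gi N50417
def N52428 : Q := sm gf N50418
def N52429 : Q := sm gi N50418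
def N52430 : Q := sm gh N50419
def N52431 : Q := sm ge N50420
def N52432 : Q := sm gi N50420
def N52433 : Q := sm gi N50421
def N52434 : Q := sm gh N50422
def N52435 : Q := sm gh N50423
def N52436 : Q := sm ge N50425
def N52437 : Q := sm gi N50425
def N52438 : Q := sm gd N50426
def N52439 : Q := sm gf N50426
def N52440 : Q := sm gi N50426
def N52441 : Q := sm gh N50427
def N52442 : Q := sm gh N50428
def N52443 : Q := sm gi N50428
def N52444 : Q := sm gg N50429
def N52445 : Q := sm gi N50429
def N52446 : Q := sm gh N50430
def N52447 : Q := sm gd N50431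
def N52448 : Q := sm gj N50432
def N52449 : Q := sm gi N50432
def N52450 : Q := sm gh N50433
def N52451 : Q := sm gd N50434
def N52452 : Q := sm gh N50435
def N52453 : Q := sm gd N50436
def N52454 : Q := sm gh N50437
def N52455 : Q := sm gi N50438
def N52456 : Q := sm gh N50439
def N52457 : Q := sm gd N50440
def N52458 : Q := sm gi N50441
def N52459 : Q := sm gh N50442
def N52460 : Q := sm gd N50443
def N52461 : Q := sm ge N50444
def N52462 : Q := sm gi N50445
def N52463 : Q := sm gh N50446
def N52464 : Q := sm gh N50448
def N52465 : Q := sm gd N50449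
def N52466 : Q := sm gh N50450
def N52467 : Q := sm gd N50451
def N52468 : Q := sm gc N50452
def N52469 : Q := sm ge N50452
def N52470 : Q := sm gh N50453
def N52471 : Q := sm ge N50455
def N52472 : Q := sm gf N50456
def N52473 : Q := sm gh N50460
def N52474 : Q := sm gh N50462
def N52475 : Q := sm gd N50463
def N52476 : Q := sm gh N50464
def N52477 : Q := sm gi N50465
def N52478 : Q := sm gh N50466
def N52479 : Q := sm gd N50467
def N52480 : Q := sm gi N50468
def N52481 : Q := sm gh N50469
def N52482 : Q := sm gd N50470
def N52483 : Q := sm ge N50471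
def N52484 : Q := sm gd N50472
def N52485 : Q := sm gd N50474
def N52486 : Q := sm gc N50475
def N52487 : Q := sm ge N50475
def N52488 : Q := sm gf N50476
def N52489 : Q := sm gg N50480
def N52490 : Q := sm gh N50481
def N52491 : Q := sm gh N50484
def N52492 : Q := sm ge N50492
def N52493 : Q := sm gi N50492
def N52494 : Q := sm gi N50494
def N52495 : Q := sm gh N50495
def N52496 : Q := sm gh N50496
def N52497 : Q := sm gi N50499
def N52498 : Q := sm gh N50500
def N52499 : Q := sm ge N50501
def N52500 : Q := sm gi N50501
def N52501 : Q := sm gi N50503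
def N52502 : Q := sm gh N50504
def N52503 : Q := sm gi N50505
def N52504 : Q := sm gh N50506
def N52505 : Q := sm gh N50508
def N52506 : Q := sm gh N50510
def N52507 : Q := sm ge N50512
def N52508 : Q := sm gi N50512
def N52509 : Q := sm gf N50513
def N52510 : Q := sm gi N50513
def N52511 : Q := sm gh N50514
def N52512 : Q := sm ge N50515
def N52513 : Q := sm gi N50515
def N52514 : Q := sm gd N50516
def N52515 : Q := sm gf N50516
def N52516 : Q := sm gi N50516
def N52517 : Q := sm gh N50517
def N52518 : Q := sm gg N50518
def N52519 : Q := sm gi N50518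
def N52520 : Q := sm gh N50519
def N52521 : Q := sm gd N50521
def N52522 : Q := sm gf N50521
def N52523 : Q := sm gi N50521
def N52524 : Q := sm gh N50522
def N52525 : Q := sm gf N50523
def N52526 : Q := sm gi N50523
def N52527 : Q := sm gi N50524
def N52528 : Q := sm gh N50525
def N52529 : Q := sm gh N50527
def N52530 : Q := sm gd N50528
def N52531 : Q := sm gf N50529
def N52532 : Q := sm gi N50529
def N52533 : Q := sm gh N50530
def N52534 : Q := sm gi N50531
def N52535 : Q := sm gh N50532
def N52536 : Q := sm gi N50534
def N52537 : Q := sm gh N50535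
def N52538 : Q := sm gi N50537
def N52539 : Q := sm gh N50538
def N52540 : Q := sm gh N50540
def N52541 : Q := sm gd N50541
def N52542 : Q := sm gd N50543
def N52543 : Q := sm gi N50548
def N52544 : Q := sm gi N50551
def N52545 : Q := sm gh N50553
def N52546 : Q := sm ge N50557
def N52547 : Q := sm gi N50557
def N52548 : Q := sm gi N50558
def N52549 : Q := sm gh N50559
def N52550 : Q := sm gi N50560
def N52551 : Q := sm gh N50561
def N52552 : Q := sm gh N50562
def N52553 : Q := sm ge N50565
def N52554 : Q := sm gi N50565
def N52555 : Q := sm gf N50566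
def N52556 : Q := sm gi N50566
def N52557 : Q := sm gh N50567
def N52558 : Q := sm ge N50568
def N52559 : Q := sm gi N50568
def N52560 : Q := sm gi N50569
def N52561 : Q := sm gh N50570
def N52562 : Q := sm gh N50571
def N52563 : Q := sm ge N50573
def N52564 : Q := sm gi N50573
def N52565 : Q := sm gd N50574
def N52566 : Q := sm gi N50574
def N52567 : Q := sm gh N50575
def N52568 : Q := sm gh N50576
def N52569 : Q := sm gi N50576
def N52570 : Q := sm gh N50577
def N52571 : Q := sm gd N50579
def N52572 : Q := sm gi N50580
def N52573 : Q := sm gh N50581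
def N52574 : Q := sm gh N50583
def N52575 : Q := sm gi N50590
def N52576 : Q := sm gi N50592
def N52577 : Q := sm gh N50593
def N52578 : Q := sm ga N50595
def N52579 : Q := sm ge N50595
def N52580 : Q := sm gi N50595
def N52581 : Q := sm gd N50596
def N52582 : Q := sm gi N50596
def N52583 : Q := sm gh N50597
def N52584 : Q := sm gh N50598
def N52585 : Q := sm ge N50600
def N52586 : Q := sm gi N50600
def N52587 : Q := sm gf N50601
def N52588 : Q := sm gi N50601
def N52589 : Q := sm gh N50602
def N52590 : Q := sm ge N50603
def N52591 : Q := sm gi N50603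
def N52592 : Q := sm gd N50604
def N52593 : Q := sm gi N50604
def N52594 : Q := sm gh N50605
def N52595 : Q := sm gh N50606
def N52596 : Q := sm ge N50608
def N52597 : Q := sm gi N50608
def N52598 : Q := sm gd N50609
def N52599 : Q := sm gf N50609
def N52600 : Q := sm gi N50609
def N52601 : Q := sm gh N50610
def N52602 : Q := sm gf N50611
def N52603 : Q := sm gh N50611
def N52604 : Q := sm gi N50611
def N52605 : Q := sm gg N50612
def N52606 : Q := sm gi N50612
def N52607 : Q := sm gh N50613
def N52608 : Q := sm gj N50615
def N52609 : Q := sm gi N50615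
def N52610 : Q := sm gh N50616
def N52611 : Q := sm gd N50617
def N52612 : Q := sm gi N50618
def N52613 : Q := sm gi N50619
def N52614 : Q := sm gh N50620
def N52615 : Q := sm gh N50621
def N52616 : Q := sm gh N50624
def N52617 : Q := sm gi N50625
def N52618 : Q := sm gh N50626
def N52619 : Q := sm gj N50628
def N52620 : Q := sm gi N50628
def N52621 : Q := sm gh N50629
def N52622 : Q := sm gd N50630
def N52623 : Q := sm gi N50631
def N52624 : Q := sm gh N50632
def N52625 : Q := sm gd N50635
def N52626 : Q := sm gi N50636
def N52627 : Q := sm gh N50637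
def N52628 : Q := sm gd N50638
def N52629 : Q := sm gh N50640
def N52630 : Q := sm gf N50642
def N52631 : Q := sm gi N50642
def N52632 : Q := sm gh N50643
def N52633 : Q := sm gg N50644
def N52634 : Q := sm gi N50644
def N52635 : Q := sm gh N50645
def N52636 : Q := sm gf N50647
def N52637 : Q := sm gi N50647
def N52638 : Q := sm gh N50648
def N52639 : Q := sm gi N50649
def N52640 : Q := sm gi N50650
def N52641 : Q := sm gh N50651
def N52642 : Q := sm gd N50652
def N52643 : Q := sm gj N50653
def N52644 : Q := sm gi N50653
def N52645 : Q := sm gh N50654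
def N52646 : Q := sm gd N50655
def N52647 : Q := sm gf N50656
def N52648 : Q := sm gi N50656
def N52649 : Q := sm gh N50657
def N52650 : Q := sm gf N50658
def N52651 : Q := sm gi N50658
def N52652 : Q := sm gg N50659
def N52653 : Q := sm gi N50659
def N52654 : Q := sm gh N50660
def N52655 : Q := sm gd N50661
def N52656 : Q := sm gg N50662
def N52657 : Q := sm gh N50662
def N52658 : Q := sm gi N50662
def N52659 : Q := sm gi N50663
def N52660 : Q := sm gh N50664
def N52661 : Q := sm gj N50665
def N52662 : Q := sm gi N50665
def N52663 : Q := sm gh N50666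
def N52664 : Q := sm gd N50667
def N52665 : Q := sm ge N50668
def N52666 : Q := sm gi N50669
def N52667 : Q := sm gh N50670
def N52668 : Q := sm gd N50671
def N52669 : Q := sm gc N50672
def N52670 : Q := sm gf N50673
def N52671 : Q := sm gi N50673
def N52672 : Q := sm gh N50674
def N52673 : Q := sm gi N50675
def N52674 : Q := sm gh N50676
def N52675 : Q := sm gh N50678
def N52676 : Q := sm gd N50679
def N52677 : Q := sm ge N50680
def N52678 : Q := sm gi N50681
def N52679 : Q := sm gh N50682
def N52680 : Q := sm gi N50684
def N52681 : Q := sm gh N50685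
def N52682 : Q := sm gi N50687
def N52683 : Q := sm gh N50688
def N52684 : Q := sm gd N50689
def N52685 : Q := sm gi N50691
def N52686 : Q := sm gh N50692
def N52687 : Q := sm gd N50693
def N52688 : Q := sm ge N50694
def N52689 : Q := sm gf N50695
def N52690 : Q := sm gh N50696
def N52691 : Q := sm gi N50699
def N52692 : Q := sm gh N50700
def N52693 : Q := sm gd N50701
def N52694 : Q := sm gc N50702
def N52695 : Q := sm gh N50703
def N52696 : Q := sm gd N50704
def N52697 : Q := sm gh N50711
def N52698 : Q := sm gf N50713
def N52699 : Q := sm gf N50714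
def N52700 : Q := sm gh N50717
def N52701 : Q := sm ge N50720
def N52702 : Q := sm gi N50720
def N52703 : Q := sm gd N50721
def N52704 : Q := sm gi N50721
def N52705 : Q := sm gh N50722
def N52706 : Q := sm gh N50723
def N52707 : Q := sm gi N50725
def N52708 : Q := sm gd N50726
def N52709 : Q := sm gi N50726
def N52710 : Q := sm gh N50727
def N52711 : Q := sm gh N50728
def N52712 : Q := sm gi N50728
def N52713 : Q := sm gh N50729
def N52714 : Q := sm gd N50730
def N52715 : Q := sm gi N50734
def N52716 : Q := sm gc N50737
def N52717 : Q := sm gi N50737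
def N52718 : Q := sm gi N50739
def N52719 : Q := sm gh N50740
def N52720 : Q := sm gg N50744
def N52721 : Q := sm gf N50757
def N52722 : Q := sm gh N50764
def N52723 : Q := sm gd N50765
def N52724 : Q := sm gh N50766
def N52725 : Q := sm gd N50767
def N52726 : Q := sm gf N50771
def N52727 : Q := sm gg N50772
def N52728 : Q := sm gc N50776
def N52729 : Q := sm ge N50776
def N52730 : Q := sm ge N50777
def N52731 : Q := sm gh N50784
def N52732 : Q := sm gd N50785
def N52733 : Q := sm ge N50786
def N52734 : Q := sm ge N50789
def N52735 : Q := sm gf N50792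
def N52736 : Q := sm gh N50793
def N52737 : Q := sm gh N50794
def N52738 : Q := sm gf N50796
def N52739 : Q := sm gf N50797
def N52740 : Q := sm gi N50800
def N52741 : Q := sm gh N50801
def N52742 : Q := sm gd N50802
def N52743 : Q := sm gh N50803
def N52744 : Q := sm gi N50803
def N52745 : Q := sm gi N50804
def N52746 : Q := sm gh N50805
def N52747 : Q := sm gh N50806
def N52748 : Q := sm gd N50807
def N52749 : Q := sm gh N50808
def N52750 : Q := sm gd N50809
def N52751 : Q := sm gc N50810
def N52752 : Q := sm ge N50810
def N52753 : Q := sm gf N50811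
def N52754 : Q := sm gc N50813
def N52755 : Q := sm gb N50814
def N52756 : Q := sm gd N50817
def N52757 : Q := sm gh N50819
def N52758 : Q := sm gh N50821
def N52759 : Q := sm gd N50822
def N52760 : Q := sm gc N50823
def N52761 : Q := sm gd N50825
def N52762 : Q := sm ge N50826
def N52763 : Q := sm gf N50827
def N52764 : Q := sm gh N50829
def N52765 : Q := sm gd N50832
def N52766 : Q := sm gh N50838
def N52767 : Q := sm gh N50840
def N52768 : Q := sm gd N50841
def N52769 : Q := sm gd N50844
def N52770 : Q := sm gd N50846
def N52771 : Q := sm gh N50857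
def N52772 : Q := sm gi N50860
def N52773 : Q := sm gh N50861
def N52774 : Q := sm gh N50863
def N52775 : Q := sm ge N50866
def N52776 : Q := sm gh N50870
def N52777 : Q := sm gh N50872
def N52778 : Q := sm gd N50873
def N52779 : Q := sm gc N50876
def N52780 : Q := sm gi N50878
def N52781 : Q := sm gh N50879
def N52782 : Q := sm gi N50880
def N52783 : Q := sm gh N50881
def N52784 : Q := sm gi N50882
def N52785 : Q := sm gh N50883
def N52786 : Q := sm gh N50884
def N52787 : Q := sm gd N50887
def N52788 : Q := sm gh N50888
def N52789 : Q := sm gh N50892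
def N52790 : Q := sm gh N50893
def N52791 : Q := sm gi N50897
def N52792 : Q := sm gh N50898
def N52793 : Q := sm gd N50899
def N52794 : Q := sm gd N50901
def N52795 : Q := sm gc N50902
def N52796 : Q := sm ge N50903
def N52797 : Q := sm gi N50903
def N52798 : Q := sm gf N50905
def N52799 : Q := sm gi N50905
def N52800 : Q := sm gh N50906
def N52801 : Q := sm gh N50909
def N52802 : Q := sm ge N50911
def N52803 : Q := sm gi N50911
def N52804 : Q := sm ge N50913
def N52805 : Q := sm gi N50913
def N52806 : Q := sm gf N50914
def N52807 : Q := sm gi N50914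
def N52808 : Q := sm gh N50915
def N52809 : Q := sm gf N50916
def N52810 : Q := sm gi N50916
def N52811 : Q := sm gh N50917
def N52812 : Q := sm ga N50918
def N52813 : Q := sm ge N50918
def N52814 : Q := sm gi N50918
def N52815 : Q := sm gf N50919
def N52816 : Q := sm gi N50919
def N52817 : Q := sm gh N50920
def N52818 : Q := sm gi N50921
def N52819 : Q := sm gh N50922
def N52820 : Q := sm gi N50924
def N52821 : Q := sm gi N50925
def N52822 : Q := sm gh N50926
def N52823 : Q := sm gh N50927
def N52824 : Q := sm gd N50929
def N52825 : Q := sm gi N50930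
def N52826 : Q := sm gh N50932
def N52827 : Q := sm gd N50933
def N52828 : Q := sm gc N50934
def N52829 : Q := sm gi N50936
def N52830 : Q := sm gh N50938
def N52831 : Q := sm ge N50942
def N52832 : Q := sm gi N50942
def N52833 : Q := sm gh N50944
def N52834 : Q := sm gh N50945
def N52835 : Q := sm gd N50947
def N52836 : Q := sm gi N50948
def N52837 : Q := sm gh N50949
def N52838 : Q := sm gi N50951
def N52839 : Q := sm gh N50952
def N52840 : Q := sm gd N50953
def N52841 : Q := sm ge N50958
def N52842 : Q := sm gi N50958
def N52843 : Q := sm gf N50960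
def N52844 : Q := sm gi N50960
def N52845 : Q := sm gh N50961
def N52846 : Q := sm gh N50962
def N52847 : Q := sm gg N50963
def N52848 : Q := sm gi N50963
def N52849 : Q := sm gh N50964
def N52850 : Q := sm gi N50966
def N52851 : Q := sm gh N50967
def N52852 : Q := sm gd N50968
def N52853 : Q := sm gi N50969
def N52854 : Q := sm gh N50970
def N52855 : Q := sm gi N50971
def N52856 : Q := sm gh N50972
def N52857 : Q := sm gg N50973
def N52858 : Q := sm gi N50973
def N52859 : Q := sm gh N50974
def N52860 : Q := sm gj N50978
def N52861 : Q := sm gi N50978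
def N52862 : Q := sm gh N50979
def N52863 : Q := sm gd N50980
def N52864 : Q := sm gi N50982
def N52865 : Q := sm gh N50983
def N52866 : Q := sm gi N50985
def N52867 : Q := sm gh N50986
def N52868 : Q := sm gd N50987
def N52869 : Q := sm gc N50988
def N52870 : Q := sm gi N50989
def N52871 : Q := sm gh N50990
def N52872 : Q := sm gd N50991
def N52873 : Q := sm gc N50992
def N52874 : Q := sm gd N50994
def N52875 : Q := sm gb N50996
def N52876 : Q := sm gd N50997
def N52877 : Q := sm gi N50997
def N52878 : Q := sm gc N50998
def N52879 : Q := sm ge N50998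
def N52880 : Q := sm gi N50998
def N52881 : Q := sm gd N51000
def N52882 : Q := sm gi N51000
def N52883 : Q := sm gc N51001
def N52884 : Q := sm ge N51001
def N52885 : Q := sm gi N51001
def N52886 : Q := sm ge N51003
def N52887 : Q := sm gi N51003
def N52888 : Q := sm gf N51004
def N52889 : Q := sm gi N51004
def N52890 : Q := sm gh N51005
def N52891 : Q := sm gi N51006
def N52892 : Q := sm gf N51007
def N52893 : Q := sm gi N51007
def N52894 : Q := sm gh N51008
def N52895 : Q := sm gh N51009
def N52896 : Q := sm gi N51010
def N52897 : Q := sm gh N51011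
def N52898 : Q := sm gd N51013
def N52899 : Q := sm gd N51014
def N52900 : Q := sm ge N51015
def N52901 : Q := sm gi N51015
def N52902 : Q := sm ge N51017
def N52903 : Q := sm gi N51017
def N52904 : Q := sm gf N51018
def N52905 : Q := sm gi N51018
def N52906 : Q := sm gh N51019
def N52907 : Q := sm ge N51020
def N52908 : Q := sm gi N51020
def N52909 : Q := sm gd N51021
def N52910 : Q := sm gf N51021
def N52911 : Q := sm gi N51021
def N52912 : Q := sm gh N51022
def N52913 : Q := sm gi N51023
def N52914 : Q := sm gh N51024
def N52915 : Q := sm gf N51026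
def N52916 : Q := sm gi N51026
def N52917 : Q := sm gh N51027
def N52918 : Q := sm gg N51028
def N52919 : Q := sm gi N51028
def N52920 : Q := sm gh N51029
def N52921 : Q := sm gh N51031
def N52922 : Q := sm gi N51032
def N52923 : Q := sm gh N51033
def N52924 : Q := sm gd N51034
def N52925 : Q := sm gh N51035
def N52926 : Q := sm gd N51036
def N52927 : Q := sm gd N51037
def N52928 : Q := sm gd N51038
def N52929 : Q := sm ge N51039
def N52930 : Q := sm gc N51040
def N52931 : Q := sm gi N51041
def N52932 : Q := sm gh N51042
def N52933 : Q := sm gd N51043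
def N52934 : Q := sm gd N51044
def N52935 : Q := sm gc N51045
def N52936 : Q := sm gb N51046
def N52937 : Q := sm gh N51047
def N52938 : Q := sm gd N51049
def N52939 : Q := sm gi N51049
def N52940 : Q := sm gh N51050
def N52941 : Q := sm gh N51051
def N52942 : Q := sm gi N51051
def N52943 : Q := sm gh N51052
def N52944 : Q := sm gd N51053
def N52945 : Q := sm gd N51055
def N52946 : Q := sm gd N51056
def N52947 : Q := sm ge N51057
def N52948 : Q := sm gh N51062
def N52949 : Q := sm gd N51063
def N52950 : Q := sm gd N51069
def N52951 : Q := sm gi N51069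
def N52952 : Q := sm ge N51070
def N52953 : Q := sm gi N51070
def N52954 : Q := sm gi N51072
def N52955 : Q := sm gh N51074
def N52956 : Q := sm gd N51076
def N52957 : Q := sm gi N51076
def N52958 : Q := sm gc N51077
def N52959 : Q := sm ge N51077
def N52960 : Q := sm gi N51077
def N52961 : Q := sm ge N51079
def N52962 : Q := sm gi N51079
def N52963 : Q := sm gf N51080
def N52964 : Q := sm gi N51080
def N52965 : Q := sm gh N51081
def N52966 : Q := sm gi N51082
def N52967 : Q := sm gh N51083
def N52968 : Q := sm gh N51084
def N52969 : Q := sm gi N51085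
def N52970 : Q := sm gh N51086
def N52971 : Q := sm gd N51088
def N52972 : Q := sm gd N51089
def N52973 : Q := sm gh N51090
def N52974 : Q := sm gd N51091
def N52975 : Q := sm ge N51093
def N52976 : Q := sm gi N51093
def N52977 : Q := sm ge N51095
def N52978 : Q := sm gi N51095
def N52979 : Q := sm ge N51097
def N52980 : Q := sm gi N51097
def N52981 : Q := sm gf N51098
def N52982 : Q := sm gi N51098
def N52983 : Q := sm gh N51099
def N52984 : Q := sm gh N51100
def N52985 : Q := sm gh N51101
def N52986 : Q := sm gi N51102
def N52987 : Q := sm gh N51103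
def N52988 : Q := sm gd N51105
def N52989 : Q := sm gd N51106
def N52990 : Q := sm ge N51107
def N52991 : Q := sm gi N51107
def N52992 : Q := sm gi N51109
def N52993 : Q := sm gh N51110
def N52994 : Q := sm gi N51111
def N52995 : Q := sm gh N51112
def N52996 : Q := sm gg N51113
def N52997 : Q := sm gi N51113
def N52998 : Q := sm gh N51114
def N52999 : Q := sm gd N51117
def N53000 : Q := sm gj N51118
def N53001 : Q := sm gi N51118
def N53002 : Q := sm gh N51119
def N53003 : Q := sm gd N51120
def N53004 : Q := sm gi N51122
def N53005 : Q := sm gh N51123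
def N53006 : Q := sm gd N51124
def N53007 : Q := sm gi N51126
def N53008 : Q := sm gh N51127
def N53009 : Q := sm gd N51128
def N53010 : Q := sm gh N51130
def N53011 : Q := sm gd N51131
def N53012 : Q := sm gd N51134
def N53013 : Q := sm gc N51136
def N53014 : Q := sm ge N51136
def N53015 : Q := sm gi N51136
def N53016 : Q := sm gb N51138
def N53017 : Q := sm ge N51138
def N53018 : Q := sm gi N51138
def N53019 : Q := sm gf N51139
def N53020 : Q := sm gi N51139
def N53021 : Q := sm gh N51140
def N53022 : Q := sm ge N51141
def N53023 : Q := sm gi N51141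
def N53024 : Q := sm gb N51143
def N53025 : Q := sm ge N51143
def N53026 : Q := sm gi N51143
def N53027 : Q := sm gf N51144
def N53028 : Q := sm gi N51144
def N53029 : Q := sm gh N51145
def N53030 : Q := sm ge N51146
def N53031 : Q := sm gi N51146
def N53032 : Q := sm gd N51147
def N53033 : Q := sm gf N51147
def N53034 : Q := sm gi N51147
def N53035 : Q := sm gh N51148
def N53036 : Q := sm gg N51149
def N53037 : Q := sm gi N51149
def N53038 : Q := sm gh N51150
def N53039 : Q := sm gi N51152
def N53040 : Q := sm gh N51153
def N53041 : Q := sm gg N51154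
def N53042 : Q := sm gi N51154
def N53043 : Q := sm gh N51155
def N53044 : Q := sm gh N51157
def N53045 : Q := sm gi N51158
def N53046 : Q := sm gh N51159
def N53047 : Q := sm gd N51160
def N53048 : Q := sm gj N51161
def N53049 : Q := sm gi N51161
def N53050 : Q := sm gh N51162
def N53051 : Q := sm gd N51163
def N53052 : Q := sm gd N51164
def N53053 : Q := sm ge N51166
def N53054 : Q := sm gi N51167
def N53055 : Q := sm gh N51168
def N53056 : Q := sm gd N51169
def N53057 : Q := sm gc N51170
def N53058 : Q := sm gf N51171
def N53059 : Q := sm gi N51171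
def N53060 : Q := sm gh N51172
def N53061 : Q := sm ga N51173
def N53062 : Q := sm ge N51173
def N53063 : Q := sm gi N51173
def N53064 : Q := sm gi N51174
def N53065 : Q := sm gh N51175
def N53066 : Q := sm gg N51176
def N53067 : Q := sm gi N51176
def N53068 : Q := sm gh N51177
def N53069 : Q := sm ge N51179
def N53070 : Q := sm gi N51179
def N53071 : Q := sm gd N51180
def N53072 : Q := sm gf N51180
def N53073 : Q := sm gi N51180
def N53074 : Q := sm gh N51181
def N53075 : Q := sm gh N51182
def N53076 : Q := sm gi N51182
def N53077 : Q := sm gg N51183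
def N53078 : Q := sm gi N51183
def N53079 : Q := sm gh N51184
def N53080 : Q := sm gd N51185
def N53081 : Q := sm gj N51186
def N53082 : Q := sm gi N51186
def N53083 : Q := sm gh N51187
def N53084 : Q := sm gd N51188
def N53085 : Q := sm gi N51189
def N53086 : Q := sm gh N51190
def N53087 : Q := sm gd N51191
def N53088 : Q := sm gj N51192
def N53089 : Q := sm gi N51192
def N53090 : Q := sm gh N51193
def N53091 : Q := sm gd N51194
def N53092 : Q := sm gh N51195
def N53093 : Q := sm gi N51196
def N53094 : Q := sm gh N51197
def N53095 : Q := sm gd N51198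
def N53096 : Q := sm gj N51199
def N53097 : Q := sm gi N51199
def N53098 : Q := sm gh N51200
def N53099 : Q := sm ge N51202
def N53100 : Q := sm gi N51203
def N53101 : Q := sm gh N51204
def N53102 : Q := sm gd N51205
def N53103 : Q := sm gc N51206
def N53104 : Q := sm gd N51207
def N53105 : Q := sm ge N51209
def N53106 : Q := sm gi N51210
def N53107 : Q := sm gh N51211
def N53108 : Q := sm gf N51213
def N53109 : Q := sm gh N51214
def N53110 : Q := sm gd N51215
def N53111 : Q := sm gb N51217
def N53112 : Q := sm gi N51218
def N53113 : Q := sm gh N51219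
def N53114 : Q := sm gd N51220
def N53115 : Q := sm gc N51221
def N53116 : Q := sm gh N51222
def N53117 : Q := sm gd N51223
def N53118 : Q := sm gc N51224
def N53119 : Q := sm ge N51224
def N53120 : Q := sm gb N51225
def N53121 : Q := sm gd N51226
def N53122 : Q := sm gc N51227
def N53123 : Q := sm gi N51230
def N53124 : Q := sm gh N51231
def N53125 : Q := sm gd N51232
def N53126 : Q := sm gd N51233
def N53127 : Q := sm gi N51233
def N53128 : Q := sm gh N51234
def N53129 : Q := sm gh N51235
def N53130 : Q := sm gi N51235
def N53131 : Q := sm gh N51236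
def N53132 : Q := sm gd N51237
def N53133 : Q := sm gi N51238
def N53134 : Q := sm gh N51239
def N53135 : Q := sm gd N51240
def N53136 : Q := sm ge N51241
def N53137 : Q := sm gh N51242
def N53138 : Q := sm gd N51243
def N53139 : Q := sm ge N51244
def N53140 : Q := sm ge N51246
def N53141 : Q := sm gf N51247
def N53142 : Q := sm gg N51249
def N53143 : Q := sm gh N51250
def N53144 : Q := sm gd N51251
def N53145 : Q := sm gh N51253
def N53146 : Q := sm gi N51267
def N53147 : Q := sm gh N51269
def N53148 : Q := sm gi N51270
def N53149 : Q := sm gi N51272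
def N53150 : Q := sm gi N51273
def N53151 : Q := sm gh N51274
def N53152 : Q := sm gi N51276
def N53153 : Q := sm gh N51279
def N53154 : Q := sm gh N51280
def N53155 : Q := sm gh N51281
def N53156 : Q := sm gd N51283
def N53157 : Q := sm gd N51284
def N53158 : Q := sm gh N51285
def N53159 : Q := sm gi N51286
def N53160 : Q := sm gh N51287
def N53161 : Q := sm gi N51288
def N53162 : Q := sm gh N51289
def N53163 : Q := sm gh N51291
def N53164 : Q := sm gh N51292
def N53165 : Q := sm gh N51294
def N53166 : Q := sm gd N51295
def N53167 : Q := sm gh N51296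
def N53168 : Q := sm gd N51297
def N53169 : Q := sm gd N51298
def N53170 : Q := sm gc N51299
def N53171 : Q := sm gd N51300
def N53172 : Q := sm ge N51301
def N53173 : Q := sm gh N51303
def N53174 : Q := sm gh N51304
def N53175 : Q := sm gi N51305
def N53176 : Q := sm gh N51306
def N53177 : Q := sm gi N51308
def N53178 : Q := sm gi N51310
def N53179 : Q := sm gh N51311
def N53180 : Q := sm gi N51312
def N53181 : Q := sm gi N51313
def N53182 : Q := sm gh N51314
def N53183 : Q := sm gh N51315
def N53184 : Q := sm gh N51317
def N53185 : Q := sm gh N51318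
def N53186 : Q := sm gh N51319
def N53187 : Q := sm gi N51320
def N53188 : Q := sm gh N51321
def N53189 : Q := sm gh N51323
def N53190 : Q := sm gh N51324
def N53191 : Q := sm gd N51325
def N53192 : Q := sm gd N51326
def N53193 : Q := sm gh N51327
def N53194 : Q := sm gc N51329
def N53195 : Q := sm gd N51332
def N53196 : Q := sm ge N51333
def N53197 : Q := sm gh N51334
def N53198 : Q := sm gh N51335
def N53199 : Q := sm gh N51336
def N53200 : Q := sm gh N51337
def N53201 : Q := sm gh N51339
def N53202 : Q := sm gh N51340
def N53203 : Q := sm gd N51341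
def N53204 : Q := sm gh N51342
def N53205 : Q := sm gd N51343
def N53206 : Q := sm gh N51344
def N53207 : Q := sm gh N51347
def N53208 : Q := sm gd N51348
def N53209 : Q := sm gd N51349
def N53210 : Q := sm gh N51350
def N53211 : Q := sm gh N51351
def N53212 : Q := sm gd N51352
def N53213 : Q := sm gh N51353
def N53214 : Q := sm gd N51354
def N53215 : Q := sm ge N51355
def N53216 : Q := sm gh N51356
def N53217 : Q := sm gd N51357
def N53218 : Q := sm gc N51358
def N53219 : Q := sm gc N51360
def N53220 : Q := sm gb N51361
def N53221 : Q := sm gh N51368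
def N53222 : Q := sm gd N51375
def N53223 : Q := sm gi N51375
def N53224 : Q := sm ge N51376
def N53225 : Q := sm gi N51376
def N53226 : Q := sm gi N51378
def N53227 : Q := sm gh N51380
def N53228 : Q := sm gd N51382
def N53229 : Q := sm gi N51382
def N53230 : Q := sm gc N51383
def N53231 : Q := sm ge N51383
def N53232 : Q := sm gi N51383
def N53233 : Q := sm gi N51385
def N53234 : Q := sm gi N51387
def N53235 : Q := sm gf N51388
def N53236 : Q := sm gi N51388
def N53237 : Q := sm gh N51389
def N53238 : Q := sm gh N51390
def N53239 : Q := sm gh N51391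
def N53240 : Q := sm gd N51393
def N53241 : Q := sm gi N51393
def N53242 : Q := sm ge N51394
def N53243 : Q := sm gi N51394
def N53244 : Q := sm ge N51396
def N53245 : Q := sm gi N51396
def N53246 : Q := sm gf N51397
def N53247 : Q := sm gi N51397
def N53248 : Q := sm gh N51398
def N53249 : Q := sm gh N51399
def N53250 : Q := sm gh N51400
def N53251 : Q := sm gi N51401
def N53252 : Q := sm gh N51402
def N53253 : Q := sm gh N51404
def N53254 : Q := sm gd N51405
def N53255 : Q := sm gd N51406
def N53256 : Q := sm gh N51407
def N53257 : Q := sm gd N51408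
def N53258 : Q := sm gh N51411
def N53259 : Q := sm gd N51413
def N53260 : Q := sm gc N51415
def N53261 : Q := sm ge N51415
def N53262 : Q := sm gi N51415
def N53263 : Q := sm ge N51417
def N53264 : Q := sm gi N51417
def N53265 : Q := sm gb N51419
def N53266 : Q := sm ge N51419
def N53267 : Q := sm gi N51419
def N53268 : Q := sm gf N51420
def N53269 : Q := sm gi N51420
def N53270 : Q := sm gh N51421
def N53271 : Q := sm gh N51422
def N53272 : Q := sm gi N51423
def N53273 : Q := sm gh N51424
def N53274 : Q := sm gg N51425
def N53275 : Q := sm gi N51425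
def N53276 : Q := sm gh N51426
def N53277 : Q := sm gh N51428
def N53278 : Q := sm gh N51429
def N53279 : Q := sm gd N51430
def N53280 : Q := sm gi N51431
def N53281 : Q := sm gh N51432
def N53282 : Q := sm gd N51433
def N53283 : Q := sm ge N51434
def N53284 : Q := sm gi N51434
def N53285 : Q := sm gi N51436
def N53286 : Q := sm gh N51437
def N53287 : Q := sm ge N51438
def N53288 : Q := sm gi N51438
def N53289 : Q := sm gd N51439
def N53290 : Q := sm gi N51439
def N53291 : Q := sm gh N51440
def N53292 : Q := sm gg N51441
def N53293 : Q := sm gi N51441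
def N53294 : Q := sm gh N51442
def N53295 : Q := sm gh N51445
def N53296 : Q := sm gd N51446
def N53297 : Q := sm gi N51447
def N53298 : Q := sm gh N51448
def N53299 : Q := sm gd N51449
def N53300 : Q := sm gh N51450
def N53301 : Q := sm gh N51451
def N53302 : Q := sm gd N51452
def N53303 : Q := sm gi N51453
def N53304 : Q := sm gh N51454
def N53305 : Q := sm ge N51456
def N53306 : Q := sm gh N51457
def N53307 : Q := sm gd N51458
def N53308 : Q := sm gc N51459
def N53309 : Q := sm gh N51460
def N53310 : Q := sm gd N51461
def N53311 : Q := sm gc N51462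
def N53312 : Q := sm gd N51463
def N53313 : Q := sm gh N51468
def N53314 : Q := sm gi N51469
def N53315 : Q := sm gh N51470
def N53316 : Q := sm gd N51471
def N53317 : Q := sm gd N51473
def N53318 : Q := sm ge N51474
def N53319 : Q := sm gh N51477
def N53320 : Q := sm ge N51481
def N53321 : Q := sm gi N51481
def N53322 : Q := sm gh N51484
def N53323 : Q := sm ge N51486
def N53324 : Q := sm gi N51486
def N53325 : Q := sm gb N51488
def N53326 : Q := sm ge N51488
def N53327 : Q := sm gi N51488
def N53328 : Q := sm gi N51489
def N53329 : Q := sm gh N51490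
def N53330 : Q := sm gh N51491
def N53331 : Q := sm gi N51492
def N53332 : Q := sm gh N51493
def N53333 : Q := sm gh N51495
def N53334 : Q := sm gd N51496
def N53335 : Q := sm gd N51497
def N53336 : Q := sm gi N51497
def N53337 : Q := sm gc N51498
def N53338 : Q := sm ge N51498
def N53339 : Q := sm gi N51498
def N53340 : Q := sm gc N51500
def N53341 : Q := sm ge N51500
def N53342 : Q := sm gi N51500
def N53343 : Q := sm gb N51502
def N53344 : Q := sm ge N51502
def N53345 : Q := sm gi N51502
def N53346 : Q := sm gf N51503
def N53347 : Q := sm gi N51503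
def N53348 : Q := sm gh N51504
def N53349 : Q := sm gi N51505
def N53350 : Q := sm gh N51506
def N53351 : Q := sm gi N51507
def N53352 : Q := sm gf N51508
def N53353 : Q := sm gi N51508
def N53354 : Q := sm gh N51509
def N53355 : Q := sm gi N51510
def N53356 : Q := sm gh N51511
def N53357 : Q := sm gh N51513
def N53358 : Q := sm gh N51514
def N53359 : Q := sm gd N51515
def N53360 : Q := sm gd N51516
def N53361 : Q := sm ge N51517
def N53362 : Q := sm gi N51517
def N53363 : Q := sm ge N51519
def N53364 : Q := sm gi N51519
def N53365 : Q := sm gf N51520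
def N53366 : Q := sm gi N51520
def N53367 : Q := sm gh N51521
def N53368 : Q := sm ga N51522
def N53369 : Q := sm ge N51522
def N53370 : Q := sm gi N51522
def N53371 : Q := sm gf N51523
def N53372 : Q := sm gi N51523
def N53373 : Q := sm gh N51524
def N53374 : Q := sm gi N51525
def N53375 : Q := sm gh N51526
def N53376 : Q := sm gh N51528
def N53377 : Q := sm gi N51529
def N53378 : Q := sm gh N51530
def N53379 : Q := sm gi N51532
def N53380 : Q := sm gh N51533
def N53381 : Q := sm gi N51534
def N53382 : Q := sm gh N51535
def N53383 : Q := sm gd N51536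
def N53384 : Q := sm gh N51537
def N53385 : Q := sm gd N51538
def N53386 : Q := sm gh N51539
def N53387 : Q := sm gh N51540
def N53388 : Q := sm gd N51541
def N53389 : Q := sm gd N51542
def N53390 : Q := sm ge N51543
def N53391 : Q := sm gc N51544
def N53392 : Q := sm gi N51545
def N53393 : Q := sm gh N51546
def N53394 : Q := sm gd N51548
def N53395 : Q := sm gc N51549
def N53396 : Q := sm gi N51551
def N53397 : Q := sm gh N51552
def N53398 : Q := sm gh N51553
def N53399 : Q := sm gh N51555
def N53400 : Q := sm gd N51556
def N53401 : Q := sm gh N51560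
def N53402 : Q := sm gd N51561
def N53403 : Q := sm ge N51562
def N53404 : Q := sm gc N51564
def N53405 : Q := sm ge N51564
def N53406 : Q := sm gc N51566
def N53407 : Q := sm ge N51566
def N53408 : Q := sm gi N51566
def N53409 : Q := sm gb N51568
def N53410 : Q := sm ge N51568
def N53411 : Q := sm gi N51568
def N53412 : Q := sm gf N51569
def N53413 : Q := sm gi N51569
def N53414 : Q := sm gh N51570
def N53415 : Q := sm ge N51571
def N53416 : Q := sm gi N51571
def N53417 : Q := sm ge N51573
def N53418 : Q := sm gi N51573
def N53419 : Q := sm gf N51574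
def N53420 : Q := sm gi N51574
def N53421 : Q := sm gh N51575
def N53422 : Q := sm ge N51576
def N53423 : Q := sm gi N51576
def N53424 : Q := sm gd N51577
def N53425 : Q := sm gf N51577
def N53426 : Q := sm gi N51577
def N53427 : Q := sm gh N51578
def N53428 : Q := sm gg N51579
def N53429 : Q := sm gi N51579
def N53430 : Q := sm gh N51580
def N53431 : Q := sm gh N51582
def N53432 : Q := sm gi N51583
def N53433 : Q := sm gh N51584
def N53434 : Q := sm gh N51586
def N53435 : Q := sm gi N51587
def N53436 : Q := sm gh N51588
def N53437 : Q := sm gd N51589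
def N53438 : Q := sm gi N51590
def N53439 : Q := sm gh N51591
def N53440 : Q := sm gd N51592
def N53441 : Q := sm gd N51593
def N53442 : Q := sm gd N51594
def N53443 : Q := sm ge N51595
def N53444 : Q := sm gh N51596
def N53445 : Q := sm gd N51597
def N53446 : Q := sm gc N51598
def N53447 : Q := sm gf N51599
def N53448 : Q := sm gi N51599
def N53449 : Q := sm gh N51600
def N53450 : Q := sm gd N51601
def N53451 : Q := sm gf N51601
def N53452 : Q := sm gi N51601
def N53453 : Q := sm gh N51602
def N53454 : Q := sm gi N51603
def N53455 : Q := sm gh N51604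
def N53456 : Q := sm ge N51606
def N53457 : Q := sm gi N51606
def N53458 : Q := sm gd N51607
def N53459 : Q := sm gf N51607
def N53460 : Q := sm gi N51607
def N53461 : Q := sm gh N51608
def N53462 : Q := sm gf N51609
def N53463 : Q := sm gh N51609
def N53464 : Q := sm gi N51609
def N53465 : Q := sm gg N51610
def N53466 : Q := sm gi N51610
def N53467 : Q := sm gh N51611
def N53468 : Q := sm gd N51612
def N53469 : Q := sm gj N51613
def N53470 : Q := sm gi N51613
def N53471 : Q := sm gh N51614
def N53472 : Q := sm gd N51615
def N53473 : Q := sm gi N51616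
def N53474 : Q := sm gh N51617
def N53475 : Q := sm gd N51618
def N53476 : Q := sm gh N51619
def N53477 : Q := sm gd N51620
def N53478 : Q := sm gh N51621
def N53479 : Q := sm gi N51622
def N53480 : Q := sm gh N51623
def N53481 : Q := sm gd N51624
def N53482 : Q := sm gi N51625
def N53483 : Q := sm gh N51626
def N53484 : Q := sm gd N51627
def N53485 : Q := sm ge N51628
def N53486 : Q := sm gi N51629
def N53487 : Q := sm gh N51630
def N53488 : Q := sm gd N51631
def N53489 : Q := sm gc N51632
def N53490 : Q := sm gd N51634
def N53491 : Q := sm ge N51635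
def N53492 : Q := sm gh N51636
def N53493 : Q := sm gd N51637
def N53494 : Q := sm gc N51638
def N53495 : Q := sm ge N51638
def N53496 : Q := sm gf N51639
def N53497 : Q := sm gh N51640
def N53498 : Q := sm gd N51641
def N53499 : Q := sm gd N51644
def N53500 : Q := sm gd N51647
def N53501 : Q := sm gc N51648
def N53502 : Q := sm ge N51648
def N53503 : Q := sm gb N51649
def N53504 : Q := sm gc N51650
def N53505 : Q := sm gh N51653
def N53506 : Q := sm gi N51653
def N53507 : Q := sm gh N51654
def N53508 : Q := sm gd N51655
def N53509 : Q := sm gd N51657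
def N53510 : Q := sm gi N51657
def N53511 : Q := sm gh N51658
def N53512 : Q := sm gh N51659
def N53513 : Q := sm gi N51659
def N53514 : Q := sm gh N51660
def N53515 : Q := sm gd N51661
def N53516 : Q := sm gi N51662
def N53517 : Q := sm gh N51663
def N53518 : Q := sm gd N51664
def N53519 : Q := sm ge N51665
def N53520 : Q := sm gc N51666
def N53521 : Q := sm gf N51670
def N53522 : Q := sm gh N51671
def N53523 : Q := sm gh N51674
def N53524 : Q := sm ge N51678
def N53525 : Q := sm gi N51678
def N53526 : Q := sm ge N51680
def N53527 : Q := sm gi N51680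
def N53528 : Q := sm gi N51681
def N53529 : Q := sm gh N51682
def N53530 : Q := sm gi N51683
def N53531 : Q := sm gh N51684
def N53532 : Q := sm gh N51685
def N53533 : Q := sm gd N51687
def N53534 : Q := sm ge N51688
def N53535 : Q := sm gi N51688
def N53536 : Q := sm gi N51690
def N53537 : Q := sm gh N51691
def N53538 : Q := sm gi N51692
def N53539 : Q := sm gh N51693
def N53540 : Q := sm gh N51695
def N53541 : Q := sm gh N51697
def N53542 : Q := sm gd N51698
def N53543 : Q := sm gd N51700
def N53544 : Q := sm gd N51701
def N53545 : Q := sm ge N51703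
def N53546 : Q := sm gi N51703
def N53547 : Q := sm ge N51705
def N53548 : Q := sm gi N51705
def N53549 : Q := sm gf N51706
def N53550 : Q := sm gi N51706
def N53551 : Q := sm gh N51707
def N53552 : Q := sm ge N51708
def N53553 : Q := sm gi N51708
def N53554 : Q := sm gf N51710
def N53555 : Q := sm gi N51710
def N53556 : Q := sm gh N51711
def N53557 : Q := sm gi N51712
def N53558 : Q := sm gh N51713
def N53559 : Q := sm gi N51715
def N53560 : Q := sm gh N51716
def N53561 : Q := sm gh N51718
def N53562 : Q := sm gd N51719
def N53563 : Q := sm ge N51721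
def N53564 : Q := sm gi N51721
def N53565 : Q := sm gf N51722
def N53566 : Q := sm gi N51722
def N53567 : Q := sm gh N51723
def N53568 : Q := sm gi N51724
def N53569 : Q := sm gh N51725
def N53570 : Q := sm gi N51726
def N53571 : Q := sm gh N51727
def N53572 : Q := sm gi N51729
def N53573 : Q := sm gh N51730
def N53574 : Q := sm gi N51731
def N53575 : Q := sm gi N51732
def N53576 : Q := sm gh N51733
def N53577 : Q := sm gj N51735
def N53578 : Q := sm gi N51735
def N53579 : Q := sm gh N51736
def N53580 : Q := sm gd N51737
def N53581 : Q := sm gh N51739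
def N53582 : Q := sm gd N51740
def N53583 : Q := sm gh N51742
def N53584 : Q := sm gi N51744
def N53585 : Q := sm gh N51745
def N53586 : Q := sm gd N51746
def N53587 : Q := sm gc N51747
def N53588 : Q := sm gh N51748
def N53589 : Q := sm gd N51749
def N53590 : Q := sm gh N51752
def N53591 : Q := sm gd N51753
def N53592 : Q := sm gh N51755
def N53593 : Q := sm gd N51756
def N53594 : Q := sm gc N51757
def N53595 : Q := sm ge N51757
def N53596 : Q := sm gd N51759
def N53597 : Q := sm gh N51762
def N53598 : Q := sm ge N51763
def N53599 : Q := sm gi N51763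
def N53600 : Q := sm gi N51765
def N53601 : Q := sm gh N51766
def N53602 : Q := sm gh N51767
def N53603 : Q := sm ge N51769
def N53604 : Q := sm gi N51769
def N53605 : Q := sm ge N51771
def N53606 : Q := sm gi N51771
def N53607 : Q := sm gi N51772
def N53608 : Q := sm gh N51773
def N53609 : Q := sm gd N51774
def N53610 : Q := sm gi N51774
def N53611 : Q := sm gh N51775
def N53612 : Q := sm gh N51776
def N53613 : Q := sm gh N51778
def N53614 : Q := sm gd N51780
def N53615 : Q := sm ge N51782
def N53616 : Q := sm gi N51782
def N53617 : Q := sm ge N51784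
def N53618 : Q := sm gi N51784
def N53619 : Q := sm gf N51785
def N53620 : Q := sm gi N51785
def N53621 : Q := sm gh N51786
def N53622 : Q := sm ge N51787
def N53623 : Q := sm gi N51787
def N53624 : Q := sm gf N51789
def N53625 : Q := sm gi N51789
def N53626 : Q := sm gh N51790
def N53627 : Q := sm gi N51791
def N53628 : Q := sm gh N51792
def N53629 : Q := sm gg N51794
def N53630 : Q := sm gi N51794
def N53631 : Q := sm gh N51795
def N53632 : Q := sm gh N51797
def N53633 : Q := sm gd N51798
def N53634 : Q := sm gc N51799
def N53635 : Q := sm ge N51800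
def N53636 : Q := sm gi N51800
def N53637 : Q := sm gf N51801
def N53638 : Q := sm gi N51801
def N53639 : Q := sm gh N51802
def N53640 : Q := sm gd N51803
def N53641 : Q := sm gf N51803
def N53642 : Q := sm gi N51803
def N53643 : Q := sm gh N51804
def N53644 : Q := sm gg N51805
def N53645 : Q := sm gi N51805
def N53646 : Q := sm gh N51806
def N53647 : Q := sm gd N51808
def N53648 : Q := sm gi N51808
def N53649 : Q := sm gh N51809
def N53650 : Q := sm gf N51810
def N53651 : Q := sm gh N51810
def N53652 : Q := sm gi N51810
def N53653 : Q := sm gi N51811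
def N53654 : Q := sm gh N51812
def N53655 : Q := sm gh N51814
def N53656 : Q := sm gd N51815
def N53657 : Q := sm gg N51816
def N53658 : Q := sm gi N51816
def N53659 : Q := sm gh N51817
def N53660 : Q := sm gi N51819
def N53661 : Q := sm gh N51820
def N53662 : Q := sm gd N51821
def N53663 : Q := sm gh N51823
def N53664 : Q := sm gd N51824
def N53665 : Q := sm gd N51825
def N53666 : Q := sm gc N51826
def N53667 : Q := sm gc N51827
def N53668 : Q := sm gh N51829
def N53669 : Q := sm gd N51830
def N53670 : Q := sm gc N51831
def N53671 : Q := sm gc N51832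
def N53672 : Q := sm ge N51832
def N53673 : Q := sm gi N51834
def N53674 : Q := sm gi N51837
def N53675 : Q := sm gd N51839
def N53676 : Q := sm gi N51839
def N53677 : Q := sm gc N51841
def N53678 : Q := sm gi N51841
def N53679 : Q := sm gi N51843
def N53680 : Q := sm gh N51844
def N53681 : Q := sm ge N51845
def N53682 : Q := sm gi N51845
def N53683 : Q := sm gb N51847
def N53684 : Q := sm ge N51847
def N53685 : Q := sm gi N51847
def N53686 : Q := sm gf N51848
def N53687 : Q := sm gi N51848
def N53688 : Q := sm gh N51849
def N53689 : Q := sm ga N51850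
def N53690 : Q := sm ge N51850
def N53691 : Q := sm gi N51850
def N53692 : Q := sm gd N51851
def N53693 : Q := sm gf N51851
def N53694 : Q := sm gi N51851
def N53695 : Q := sm gh N51852
def N53696 : Q := sm gg N51853
def N53697 : Q := sm gi N51853
def N53698 : Q := sm gh N51854
def N53699 : Q := sm ge N51856
def N53700 : Q := sm gi N51856
def N53701 : Q := sm gf N51857
def N53702 : Q := sm gi N51857
def N53703 : Q := sm gh N51858
def N53704 : Q := sm ge N51859
def N53705 : Q := sm gi N51859
def N53706 : Q := sm gf N51860
def N53707 : Q := sm gi N51860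
def N53708 : Q := sm gh N51861
def N53709 : Q := sm gg N51862
def N53710 : Q := sm gi N51862
def N53711 : Q := sm gh N51863
def N53712 : Q := sm gd N51865
def N53713 : Q := sm gi N51865
def N53714 : Q := sm gh N51866
def N53715 : Q := sm gf N51867
def N53716 : Q := sm gh N51867
def N53717 : Q := sm gi N51867
def N53718 : Q := sm gg N51868
def N53719 : Q := sm gi N51868
def N53720 : Q := sm gh N51869
def N53721 : Q := sm gj N51871
def N53722 : Q := sm gi N51871
def N53723 : Q := sm gh N51872
def N53724 : Q := sm gd N51873
def N53725 : Q := sm gh N51874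
def N53726 : Q := sm gg N51875
def N53727 : Q := sm gi N51875
def N53728 : Q := sm gh N51876
def N53729 : Q := sm gj N51878
def N53730 : Q := sm gi N51878
def N53731 : Q := sm gh N51879
def N53732 : Q := sm gd N51880
def N53733 : Q := sm gj N51882
def N53734 : Q := sm gi N51882
def N53735 : Q := sm gh N51883
def N53736 : Q := sm gd N51884
def N53737 : Q := sm gi N51885
def N53738 : Q := sm gh N51886
def N53739 : Q := sm gd N51887
def N53740 : Q := sm gc N51888
def N53741 : Q := sm gi N51889
def N53742 : Q := sm gh N51890
def N53743 : Q := sm gh N51893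
def N53744 : Q := sm gd N51894
def N53745 : Q := sm gc N51895
def N53746 : Q := sm gb N51896
def N53747 : Q := sm ge N51897
def N53748 : Q := sm gi N51897
def N53749 : Q := sm gd N51898
def N53750 : Q := sm gf N51898
def N53751 : Q := sm gi N51898
def N53752 : Q := sm gh N51899
def N53753 : Q := sm gg N51900
def N53754 : Q := sm gi N51900
def N53755 : Q := sm gh N51901
def N53756 : Q := sm ge N51903
def N53757 : Q := sm gi N51903
def N53758 : Q := sm gd N51904
def N53759 : Q := sm gf N51904
def N53760 : Q := sm gi N51904
def N53761 : Q := sm gh N51905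
def N53762 : Q := sm gf N51906
def N53763 : Q := sm gh N51906
def N53764 : Q := sm gi N51906
def N53765 : Q := sm gg N51907
def N53766 : Q := sm gi N51907
def N53767 : Q := sm gh N51908
def N53768 : Q := sm gd N51909
def N53769 : Q := sm gj N51910
def N53770 : Q := sm gi N51910
def N53771 : Q := sm gh N51911
def N53772 : Q := sm gd N51912
def N53773 : Q := sm gi N51913
def N53774 : Q := sm gh N51914
def N53775 : Q := sm gf N51915
def N53776 : Q := sm gi N51915
def N53777 : Q := sm gg N51916
def N53778 : Q := sm gi N51916
def N53779 : Q := sm gh N51917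
def N53780 : Q := sm gd N51918
def N53781 : Q := sm gg N51919
def N53782 : Q := sm gh N51919
def N53783 : Q := sm gi N51919
def N53784 : Q := sm gi N51920
def N53785 : Q := sm gh N51921
def N53786 : Q := sm gj N51922
def N53787 : Q := sm gi N51922
def N53788 : Q := sm gh N51923
def N53789 : Q := sm gd N51924
def N53790 : Q := sm ge N51925
def N53791 : Q := sm gi N51926
def N53792 : Q := sm gh N51927
def N53793 : Q := sm gd N51928
def N53794 : Q := sm gc N51929
def N53795 : Q := sm gh N51930
def N53796 : Q := sm gi N51931
def N53797 : Q := sm gh N51932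
def N53798 : Q := sm gd N51933
def N53799 : Q := sm gj N51934
def N53800 : Q := sm gi N51934
def N53801 : Q := sm gh N51935
def N53802 : Q := sm gd N51936
def N53803 : Q := sm ge N51937
def N53804 : Q := sm gi N51938
def N53805 : Q := sm gh N51939
def N53806 : Q := sm gd N51940
def N53807 : Q := sm gc N51941
def N53808 : Q := sm gj N51943
def N53809 : Q := sm gi N51943
def N53810 : Q := sm gh N51944
def N53811 : Q := sm gd N51945
def N53812 : Q := sm gi N51947
def N53813 : Q := sm gh N51948
def N53814 : Q := sm gd N51949
def N53815 : Q := sm gc N51950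
def N53816 : Q := sm ge N51950
def N53817 : Q := sm gf N51951
def N53818 : Q := sm gh N51952
def N53819 : Q := sm gd N51953
def N53820 : Q := sm gc N51954
def N53821 : Q := sm ge N51954
def N53822 : Q := sm gb N51955
def N53823 : Q := sm gi N51956
def N53824 : Q := sm gh N51957
def N53825 : Q := sm gh N51960
def N53826 : Q := sm gd N51961
def N53827 : Q := sm ge N51962
def N53828 : Q := sm gd N51965
def N53829 : Q := sm gc N51966
def N53830 : Q := sm ga N51968
def N53831 : Q := sm gh N51969
def N53832 : Q := sm gd N51970
def N53833 : Q := sm gc N51971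
def N53834 : Q := sm ge N51971
def N53835 : Q := sm gb N51972
def N53836 : Q := sm gd N51973
def N53837 : Q := sm gc N51974
def N53838 : Q := sm ge N51974
def N53839 : Q := sm gb N51975
def N53840 : Q := sm ge N51975
def N53841 : Q := sm ga N51977
def N53842 : Q := sm gc N51978
def N53843 : Q := sm gi N51982
def N53844 : Q := sm gd N51984
def N53845 : Q := sm gi N51987
def N53846 : Q := sm gh N51988
def N53847 : Q := sm ge N51989
def N53848 : Q := sm gh N51992
def N53849 : Q := sm ge N51993
def N53850 : Q := sm gh N51994
def N53851 : Q := sm gd N51995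
def N53852 : Q := sm gc N51996
def N53853 : Q := sm ge N51996
def N53854 : Q := sm gf N51997
def N53855 : Q := sm gh N52005
def N53856 : Q := sm gi N52008
def N53857 : Q := sm gh N52009
def N53858 : Q := sm gi N52011
def N53859 : Q := sm gi N52012
def N53860 : Q := sm gh N52013
def N53861 : Q := sm gi N52014
def N53862 : Q := sm gh N52015
def N53863 : Q := sm gd N52016
def N53864 : Q := sm gi N52020
def N53865 : Q := sm gi N52022
def N53866 : Q := sm gh N52023
def N53867 : Q := sm gd N52028
def N53868 : Q := sm gc N52029
def N53869 : Q := sm ge N52029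
def N53870 : Q := sm ge N52030
def N53871 : Q := sm gf N52031
def N53872 : Q := sm gh N52038
def N53873 : Q := sm gh N52040
def N53874 : Q := sm gd N52041
def N53875 : Q := sm gi N52043
def N53876 : Q := sm gh N52044
def N53877 : Q := sm gh N52047
def N53878 : Q := sm gi N52050
def N53879 : Q := sm gh N52051
def N53880 : Q := sm gi N52053
def N53881 : Q := sm gh N52054
def N53882 : Q := sm gh N52056
def N53883 : Q := sm gh N52058
def N53884 : Q := sm gh N52060
def N53885 : Q := sm gi N52062
def N53886 : Q := sm gh N52063
def N53887 : Q := sm gi N52064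
def N53888 : Q := sm gh N52065
def N53889 : Q := sm gh N52066
def N53890 : Q := sm gf N52068
def N53891 : Q := sm gi N52068
def N53892 : Q := sm gh N52069
def N53893 : Q := sm gf N52070
def N53894 : Q := sm gi N52070
def N53895 : Q := sm gg N52071
def N53896 : Q := sm gi N52071
def N53897 : Q := sm gh N52072
def N53898 : Q := sm gi N52074
def N53899 : Q := sm gh N52075
def N53900 : Q := sm gd N52076
def N53901 : Q := sm gh N52077
def N53902 : Q := sm gi N52079
def N53903 : Q := sm gh N52080
def N53904 : Q := sm gi N52082
def N53905 : Q := sm gh N52083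
def N53906 : Q := sm gd N52084
def N53907 : Q := sm gh N52086
def N53908 : Q := sm gd N52088
def N53909 : Q := sm gh N52089
def N53910 : Q := sm gd N52090
def N53911 : Q := sm gh N52092
def N53912 : Q := sm gh N52094
def N53913 : Q := sm ge N52097
def N53914 : Q := sm gi N52097
def N53915 : Q := sm gi N52098
def N53916 : Q := sm gh N52099
def N53917 : Q := sm gi N52100
def N53918 : Q := sm gh N52101
def N53919 : Q := sm gh N52102
def N53920 : Q := sm gh N52105
def N53921 : Q := sm ge N52107
def N53922 : Q := sm gi N52107
def N53923 : Q := sm gi N52108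
def N53924 : Q := sm gh N52109
def N53925 : Q := sm gh N52110
def N53926 : Q := sm gd N52111
def N53927 : Q := sm gd N52112
def N53928 : Q := sm gi N52113
def N53929 : Q := sm gh N52114
def N53930 : Q := sm gd N52115
def N53931 : Q := sm gh N52116
def N53932 : Q := sm gd N52117
def N53933 : Q := sm gh N52121
def N53934 : Q := sm gd N52122
def N53935 : Q := sm ge N52123
def N53936 : Q := sm gh N52124
def N53937 : Q := sm gd N52125
def N53938 : Q := sm ge N52126
def N53939 : Q := sm gf N52129
def N53940 : Q := sm gi N52133
def N53941 : Q := sm gh N52134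
def N53942 : Q := sm gh N52135
def N53943 : Q := sm gd N52138
def N53944 : Q := sm gi N52138
def N53945 : Q := sm gh N52139
def N53946 : Q := sm gh N52140
def N53947 : Q := sm gh N52142
def N53948 : Q := sm gd N52144
def N53949 : Q := sm gb N52146
def N53950 : Q := sm ge N52146
def N53951 : Q := sm gi N52146
def N53952 : Q := sm gf N52147
def N53953 : Q := sm gi N52147
def N53954 : Q := sm gh N52148
def N53955 : Q := sm ge N52149
def N53956 : Q := sm gi N52149
def N53957 : Q := sm gd N52150
def N53958 : Q := sm gf N52150
def N53959 : Q := sm gi N52150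
def N53960 : Q := sm gh N52151
def N53961 : Q := sm gi N52152
def N53962 : Q := sm gh N52153
def N53963 : Q := sm gd N52155
def N53964 : Q := sm gi N52155
def N53965 : Q := sm gh N52156
def N53966 : Q := sm gf N52157
def N53967 : Q := sm gi N52157
def N53968 : Q := sm gi N52158
def N53969 : Q := sm gh N52159
def N53970 : Q := sm gd N52160
def N53971 : Q := sm gh N52161
def N53972 : Q := sm gd N52162
def N53973 : Q := sm gh N52163
def N53974 : Q := sm gi N52164
def N53975 : Q := sm gh N52165
def N53976 : Q := sm gd N52166
def N53977 : Q := sm gh N52167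
def N53978 : Q := sm gd N52169
def N53979 : Q := sm gh N52170
def N53980 : Q := sm gd N52171
def N53981 : Q := sm ge N52172
def N53982 : Q := sm ge N52174
def N53983 : Q := sm gi N52177
def N53984 : Q := sm gh N52178
def N53985 : Q := sm gh N52180
def N53986 : Q := sm gi N52181
def N53987 : Q := sm gh N52182
def N53988 : Q := sm gd N52183
def N53989 : Q := sm gh N52185
def N53990 : Q := sm gi N52186
def N53991 : Q := sm gh N52187
def N53992 : Q := sm gd N52188
def N53993 : Q := sm gh N52189
def N53994 : Q := sm gd N52190
def N53995 : Q := sm ge N52191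
def N53996 : Q := sm gh N52192
def N53997 : Q := sm gd N52193
def N53998 : Q := sm ge N52194
def N53999 : Q := sm ge N52196
def N54000 : Q := sm gf N52197
def N54001 : Q := sm ga N52199
def N54002 : Q := sm ge N52199
def N54003 : Q := sm gi N52199
def N54004 : Q := sm gd N52200
def N54005 : Q := sm gi N52200
def N54006 : Q := sm gh N52201
def N54007 : Q := sm gh N52202
def N54008 : Q := sm ge N52204
def N54009 : Q := sm gi N52204
def N54010 : Q := sm gi N52205
def N54011 : Q := sm gh N52206
def N54012 : Q := sm ge N52207
def N54013 : Q := sm gi N52207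
def N54014 : Q := sm gd N52208
def N54015 : Q := sm gi N52208
def N54016 : Q := sm gh N52209
def N54017 : Q := sm gh N52210
def N54018 : Q := sm gd N52212
def N54019 : Q := sm gf N52212
def N54020 : Q := sm gi N52212
def N54021 : Q := sm gh N52213
def N54022 : Q := sm gf N52214
def N54023 : Q := sm gh N52214
def N54024 : Q := sm gi N52214
def N54025 : Q := sm gi N52215
def N54026 : Q := sm gh N52216
def N54027 : Q := sm gd N52217
def N54028 : Q := sm gi N52218
def N54029 : Q := sm gh N52219
def N54030 : Q := sm gd N52220
def N54031 : Q := sm gh N52221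
def N54032 : Q := sm gd N52222
def N54033 : Q := sm gi N52223
def N54034 : Q := sm gh N52224
def N54035 : Q := sm gd N52225
def N54036 : Q := sm gh N52226
def N54037 : Q := sm gh N52229
def N54038 : Q := sm gh N52233
def N54039 : Q := sm gf N52235
def N54040 : Q := sm gi N52235
def N54041 : Q := sm gh N52236
def N54042 : Q := sm gi N52237
def N54043 : Q := sm gh N52238
def N54044 : Q := sm gf N52240
def N54045 : Q := sm gi N52240
def N54046 : Q := sm gh N52241
def N54047 : Q := sm gf N52242
def N54048 : Q := sm gh N52242
def N54049 : Q := sm gi N52242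
def N54050 : Q := sm gi N52243
def N54051 : Q := sm gh N52244
def N54052 : Q := sm gd N52245
def N54053 : Q := sm gh N52246
def N54054 : Q := sm gd N52247
def N54055 : Q := sm gf N52248
def N54056 : Q := sm gi N52248
def N54057 : Q := sm gh N52249
def N54058 : Q := sm gf N52250
def N54059 : Q := sm gh N52250
def N54060 : Q := sm gi N52250
def N54061 : Q := sm gg N52251
def N54062 : Q := sm gi N52251
def N54063 : Q := sm gh N52252
def N54064 : Q := sm gd N52253
def N54065 : Q := sm gg N52254
def N54066 : Q := sm gh N52254
def N54067 : Q := sm gi N52254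
def N54068 : Q := sm gi N52255
def N54069 : Q := sm gh N52256
def N54070 : Q := sm gj N52257
def N54071 : Q := sm gi N52257
def N54072 : Q := sm gh N52258
def N54073 : Q := sm gd N52259
def N54074 : Q := sm ge N52260
def N54075 : Q := sm gi N52261
def N54076 : Q := sm gh N52262
def N54077 : Q := sm gd N52263
def N54078 : Q := sm gc N52264
def N54079 : Q := sm gf N52265
def N54080 : Q := sm gi N52265
def N54081 : Q := sm gh N52266
def N54082 : Q := sm gi N52267
def N54083 : Q := sm gh N52268
def N54084 : Q := sm gd N52269
def N54085 : Q := sm gh N52270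
def N54086 : Q := sm gd N52271
def N54087 : Q := sm ge N52272
def N54088 : Q := sm gi N52274
def N54089 : Q := sm gh N52275
def N54090 : Q := sm gi N52277
def N54091 : Q := sm gh N52278
def N54092 : Q := sm gd N52279
def N54093 : Q := sm gi N52281
def N54094 : Q := sm gh N52282
def N54095 : Q := sm gd N52283
def N54096 : Q := sm gf N52285
def N54097 : Q := sm gh N52286
def N54098 : Q := sm gd N52288
def N54099 : Q := sm gi N52289
def N54100 : Q := sm gh N52290
def N54101 : Q := sm gh N52293
def N54102 : Q := sm gd N52294
def N54103 : Q := sm gd N52297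
def N54104 : Q := sm gd N52298
def N54105 : Q := sm gi N52299
def N54106 : Q := sm gh N52300
def N54107 : Q := sm gd N52301
def N54108 : Q := sm ge N52302
def N54109 : Q := sm gi N52304
def N54110 : Q := sm gh N52305
def N54111 : Q := sm gd N52306
def N54112 : Q := sm ge N52307
def N54113 : Q := sm gh N52308
def N54114 : Q := sm gd N52309
def N54115 : Q := sm ge N52310
def N54116 : Q := sm gf N52311
def N54117 : Q := sm gf N52314
def N54118 : Q := sm gd N52318
def N54119 : Q := sm gd N52319
def N54120 : Q := sm ge N52320
def N54121 : Q := sm gd N52321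
def N54122 : Q := sm gd N52322
def N54123 : Q := sm ge N52323
def N54124 : Q := sm gf N52324
def N54125 : Q := sm gd N52325
def N54126 : Q := sm ge N52327
def N54127 : Q := sm gd N52329
def N54128 : Q := sm ge N52330
def N54129 : Q := sm gd N52331
def N54130 : Q := sm gd N52332
def N54131 : Q := sm gd N52333
def N54132 : Q := sm gd N52335
def N54133 : Q := sm ge N52337
def N54134 : Q := sm gf N52340
def N54135 : Q := sm gi N52346
def N54136 : Q := sm gh N52347
def N54137 : Q := sm gi N52349
def N54138 : Q := sm gh N52350
def N54139 : Q := sm gi N52351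
def N54140 : Q := sm gh N52352
def N54141 : Q := sm gh N52353
def N54142 : Q := sm gd N52356
def N54143 : Q := sm ge N52357
def N54144 : Q := sm gh N52358
def N54145 : Q := sm gd N52359
def N54146 : Q := sm gd N52360
def N54147 : Q := sm ge N52361
def N54148 : Q := sm gd N52364
def N54149 : Q := sm gi N52364
def N54150 : Q := sm gh N52365
def N54151 : Q := sm gh N52366
def N54152 : Q := sm gd N52368
def N54153 : Q := sm gd N52369
def N54154 : Q := sm ge N52370
def N54155 : Q := sm gh N52371
def N54156 : Q := sm gf N52373
def N54157 : Q := sm gh N52373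
def N54158 : Q := sm gi N52373
def N54159 : Q := sm gi N52374
def N54160 : Q := sm gh N52375
def N54161 : Q := sm gd N52376
def N54162 : Q := sm gh N52377
def N54163 : Q := sm gd N52378
def N54164 : Q := sm gh N52379
def N54165 : Q := sm gd N52380
def N54166 : Q := sm ge N52381
def N54167 : Q := sm gd N52384
def N54168 : Q := sm ge N52386
def N54169 : Q := sm gf N52387
def N54170 : Q := sm gi N52388
def N54171 : Q := sm gh N52389
def N54172 : Q := sm gd N52390
def N54173 : Q := sm ge N52391
def N54174 : Q := sm gf N52392
def N54175 : Q := sm gg N52393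
def N54176 : Q := sm gd N52394
def N54177 : Q := sm gi N52394
def N54178 : Q := sm gh N52395
def N54179 : Q := sm gh N52396
def N54180 : Q := sm gd N52398
def N54181 : Q := sm gd N52399
def N54182 : Q := sm gi N52401
def N54183 : Q := sm gh N52402
def N54184 : Q := sm gh N52403
def N54185 : Q := sm gh N52405
def N54186 : Q := sm gd N52406
def N54187 : Q := sm gd N52407
def N54188 : Q := sm ge N52408
def N54189 : Q := sm ge N52413
def N54190 : Q := sm gf N52414
def N54191 : Q := sm gi N52415
def N54192 : Q := sm gh N52416
def N54193 : Q := sm gh N52417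
def N54194 : Q := sm gi N52417
def N54195 : Q := sm gh N52418
def N54196 : Q := sm gd N52419
def N54197 : Q := sm gd N52420
def N54198 : Q := sm gd N52421
def N54199 : Q := sm ge N52422
def N54200 : Q := sm ge N52424
def N54201 : Q := sm gi N52426
def N54202 : Q := sm gh N52427
def N54203 : Q := sm gi N52428
def N54204 : Q := sm gh N52429
def N54205 : Q := sm gi N52431
def N54206 : Q := sm gh N52432
def N54207 : Q := sm gh N52433
def N54208 : Q := sm gd N52434
def N54209 : Q := sm gd N52435
def N54210 : Q := sm gi N52436
def N54211 : Q := sm gh N52437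
def N54212 : Q := sm gi N52438
def N54213 : Q := sm gi N52439
def N54214 : Q := sm gh N52440
def N54215 : Q := sm gd N52441
def N54216 : Q := sm gi N52442
def N54217 : Q := sm gh N52443
def N54218 : Q := sm gi N52444
def N54219 : Q := sm gh N52445
def N54220 : Q := sm gd N52446
def N54221 : Q := sm ge N52447
def N54222 : Q := sm gi N52448
def N54223 : Q := sm gh N52449
def N54224 : Q := sm gd N52450
def N54225 : Q := sm gc N52451
def N54226 : Q := sm gd N52452
def N54227 : Q := sm gd N52454
def N54228 : Q := sm gh N52455
def N54229 : Q := sm gc N52457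
def N54230 : Q := sm ge N52457
def N54231 : Q := sm gh N52458
def N54232 : Q := sm gd N52459
def N54233 : Q := sm gf N52461
def N54234 : Q := sm gg N52472
def N54235 : Q := sm gd N52473
def N54236 : Q := sm gd N52474
def N54237 : Q := sm ge N52475
def N54238 : Q := sm gd N52476
def N54239 : Q := sm gh N52477
def N54240 : Q := sm gd N52478
def N54241 : Q := sm ge N52479
def N54242 : Q := sm gh N52480
def N54243 : Q := sm gd N52481
def N54244 : Q := sm ge N52482
def N54245 : Q := sm gf N52483
def N54246 : Q := sm gf N52487
def N54247 : Q := sm gg N52488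
def N54248 : Q := sm gf N52492
def N54249 : Q := sm gi N52492
def N54250 : Q := sm gh N52493
def N54251 : Q := sm gh N52494
def N54252 : Q := sm gd N52496
def N54253 : Q := sm gh N52497
def N54254 : Q := sm gi N52499
def N54255 : Q := sm gh N52500
def N54256 : Q := sm gh N52501
def N54257 : Q := sm gh N52503
def N54258 : Q := sm gd N52504
def N54259 : Q := sm gf N52507
def N54260 : Q := sm gi N52507
def N54261 : Q := sm gh N52508
def N54262 : Q := sm gg N52509
def N54263 : Q := sm gi N52509
def N54264 : Q := sm gh N52510
def N54265 : Q := sm gf N52512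
def N54266 : Q := sm gi N52512
def N54267 : Q := sm gh N52513
def N54268 : Q := sm gf N52514
def N54269 : Q := sm gi N52514
def N54270 : Q := sm gi N52515
def N54271 : Q := sm gh N52516
def N54272 : Q := sm gi N52518
def N54273 : Q := sm gh N52519
def N54274 : Q := sm gd N52520
def N54275 : Q := sm gf N52521
def N54276 : Q := sm gi N52521
def N54277 : Q := sm gi N52522
def N54278 : Q := sm gh N52523
def N54279 : Q := sm gi N52525
def N54280 : Q := sm gh N52526
def N54281 : Q := sm gh N52527
def N54282 : Q := sm gd N52528
def N54283 : Q := sm gd N52529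
def N54284 : Q := sm gc N52530
def N54285 : Q := sm gi N52531
def N54286 : Q := sm gh N52532
def N54287 : Q := sm gh N52534
def N54288 : Q := sm gd N52535
def N54289 : Q := sm gh N52536
def N54290 : Q := sm gh N52538
def N54291 : Q := sm gd N52539
def N54292 : Q := sm gd N52540
def N54293 : Q := sm gh N52543
def N54294 : Q := sm gh N52544
def N54295 : Q := sm gi N52546
def N54296 : Q := sm gh N52547
def N54297 : Q := sm gh N52548
def N54298 : Q := sm gh N52550
def N54299 : Q := sm gd N52552
def N54300 : Q := sm gi N52553
def N54301 : Q := sm gh N52554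
def N54302 : Q := sm gi N52555
def N54303 : Q := sm gh N52556
def N54304 : Q := sm gi N52558
def N54305 : Q := sm gh N52559
def N54306 : Q := sm gh N52560
def N54307 : Q := sm gd N52562
def N54308 : Q := sm gi N52563
def N54309 : Q := sm gh N52564
def N54310 : Q := sm gi N52565
def N54311 : Q := sm gh N52566
def N54312 : Q := sm gi N52568
def N54313 : Q := sm gh N52569
def N54314 : Q := sm gd N52570
def N54315 : Q := sm gc N52571
def N54316 : Q := sm gh N52572
def N54317 : Q := sm gh N52575
def N54318 : Q := sm gh N52576
def N54319 : Q := sm ge N52578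
def N54320 : Q := sm gi N52578
def N54321 : Q := sm gd N52579
def N54322 : Q := sm gi N52579
def N54323 : Q := sm gh N52580
def N54324 : Q := sm gh N52581
def N54325 : Q := sm gi N52581
def N54326 : Q := sm gh N52582
def N54327 : Q := sm gd N52583
def N54328 : Q := sm gd N52584
def N54329 : Q := sm gf N52585
def N54330 : Q := sm gi N52585
def N54331 : Q := sm gh N52586
def N54332 : Q := sm gi N52587
def N54333 : Q := sm gh N52588
def N54334 : Q := sm gi N52590
def N54335 : Q := sm gh N52591
def N54336 : Q := sm gi N52592
def N54337 : Q := sm gh N52593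
def N54338 : Q := sm gd N52595
def N54339 : Q := sm gi N52596
def N54340 : Q := sm gh N52597
def N54341 : Q := sm gc N52598
def N54342 : Q := sm gf N52598
def N54343 : Q := sm gi N52598
def N54344 : Q := sm gi N52599
def N54345 : Q := sm gh N52600
def N54346 : Q := sm gg N52602
def N54347 : Q := sm gh N52602
def N54348 : Q := sm gi N52602
def N54349 : Q := sm gi N52603
def N54350 : Q := sm gh N52604
def N54351 : Q := sm gj N52605
def N54352 : Q := sm gi N52605
def N54353 : Q := sm gh N52606
def N54354 : Q := sm gd N52607
def N54355 : Q := sm gi N52608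
def N54356 : Q := sm gh N52609
def N54357 : Q := sm gd N52610
def N54358 : Q := sm gc N52611
def N54359 : Q := sm gh N52612
def N54360 : Q := sm gh N52613
def N54361 : Q := sm gd N52615
def N54362 : Q := sm gh N52617
def N54363 : Q := sm gd N52618
def N54364 : Q := sm gi N52619
def N54365 : Q := sm gh N52620
def N54366 : Q := sm gd N52621
def N54367 : Q := sm gh N52623
def N54368 : Q := sm gc N52625
def N54369 : Q := sm gh N52626
def N54370 : Q := sm gd N52627
def N54371 : Q := sm gi N52630
def N54372 : Q := sm gh N52631
def N54373 : Q := sm gi N52633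
def N54374 : Q := sm gh N52634
def N54375 : Q := sm gd N52635
def N54376 : Q := sm gi N52636
def N54377 : Q := sm gh N52637
def N54378 : Q := sm gh N52639
def N54379 : Q := sm gh N52640
def N54380 : Q := sm gd N52641
def N54381 : Q := sm ge N52642
def N54382 : Q := sm gi N52643
def N54383 : Q := sm gh N52644
def N54384 : Q := sm gd N52645
def N54385 : Q := sm gc N52646
def N54386 : Q := sm gi N52647
def N54387 : Q := sm gh N52648
def N54388 : Q := sm gg N52650
def N54389 : Q := sm gi N52650
def N54390 : Q := sm gi N52652
def N54391 : Q := sm gh N52653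
def N54392 : Q := sm gd N52654
def N54393 : Q := sm gh N52656
def N54394 : Q := sm gi N52656
def N54395 : Q := sm gi N52657
def N54396 : Q := sm gh N52658
def N54397 : Q := sm gh N52659
def N54398 : Q := sm gd N52660
def N54399 : Q := sm gi N52661
def N54400 : Q := sm gh N52662
def N54401 : Q := sm gd N52663
def N54402 : Q := sm gc N52664
def N54403 : Q := sm ge N52664
def N54404 : Q := sm gf N52665
def N54405 : Q := sm gh N52666
def N54406 : Q := sm gd N52667
def N54407 : Q := sm gc N52668
def N54408 : Q := sm gb N52669
def N54409 : Q := sm gi N52670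
def N54410 : Q := sm gh N52671
def N54411 : Q := sm gh N52673
def N54412 : Q := sm gd N52674
def N54413 : Q := sm gd N52675
def N54414 : Q := sm ge N52676
def N54415 : Q := sm gf N52677
def N54416 : Q := sm gh N52678
def N54417 : Q := sm gh N52680
def N54418 : Q := sm gh N52682
def N54419 : Q := sm gd N52683
def N54420 : Q := sm gc N52684
def N54421 : Q := sm gh N52685
def N54422 : Q := sm gd N52686
def N54423 : Q := sm ge N52687
def N54424 : Q := sm gf N52688
def N54425 : Q := sm gh N52691
def N54426 : Q := sm gd N52692
def N54427 : Q := sm gd N52695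
def N54428 : Q := sm gg N52699
def N54429 : Q := sm gd N52700
def N54430 : Q := sm gi N52701
def N54431 : Q := sm gh N52702
def N54432 : Q := sm gi N52703
def N54433 : Q := sm gh N52704
def N54434 : Q := sm gh N52707
def N54435 : Q := sm gi N52708
def N54436 : Q := sm gh N52709
def N54437 : Q := sm gd N52710
def N54438 : Q := sm gi N52711
def N54439 : Q := sm gh N52712
def N54440 : Q := sm gd N52713
def N54441 : Q := sm ge N52714
def N54442 : Q := sm gh N52715
def N54443 : Q := sm gi N52716
def N54444 : Q := sm gh N52717
def N54445 : Q := sm gh N52718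
def N54446 : Q := sm gd N52722
def N54447 : Q := sm gd N52724
def N54448 : Q := sm gf N52733
def N54449 : Q := sm gf N52734
def N54450 : Q := sm gh N52740
def N54451 : Q := sm gd N52741
def N54452 : Q := sm gi N52743
def N54453 : Q := sm gh N52744
def N54454 : Q := sm gh N52745
def N54455 : Q := sm gd N52746
def N54456 : Q := sm gd N52747
def N54457 : Q := sm gd N52749
def N54458 : Q := sm gc N52750
def N54459 : Q := sm ge N52750
def N54460 : Q := sm gb N52751
def N54461 : Q := sm ge N52751
def N54462 : Q := sm gf N52752
def N54463 : Q := sm ge N52756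
def N54464 : Q := sm gd N52758
def N54465 : Q := sm gc N52759
def N54466 : Q := sm ge N52759
def N54467 : Q := sm ge N52761
def N54468 : Q := sm gf N52762
def N54469 : Q := sm gd N52766
def N54470 : Q := sm gd N52767
def N54471 : Q := sm gc N52770
def N54472 : Q := sm gh N52772
def N54473 : Q := sm gh N52780
def N54474 : Q := sm gh N52782
def N54475 : Q := sm gh N52784
def N54476 : Q := sm gd N52786
def N54477 : Q := sm gc N52787
def N54478 : Q := sm gd N52790
def N54479 : Q := sm gh N52791
def N54480 : Q := sm gd N52792
def N54481 : Q := sm gc N52793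
def N54482 : Q := sm gb N52795
def N54483 : Q := sm gf N52796
def N54484 : Q := sm gi N52796
def N54485 : Q := sm gh N52797
def N54486 : Q := sm gi N52798
def N54487 : Q := sm gh N52799
def N54488 : Q := sm gd N52801
def N54489 : Q := sm gf N52802
def N54490 : Q := sm gi N52802
def N54491 : Q := sm gh N52803
def N54492 : Q := sm gf N52804
def N54493 : Q := sm gi N52804
def N54494 : Q := sm gh N52805
def N54495 : Q := sm gi N52806
def N54496 : Q := sm gh N52807
def N54497 : Q := sm gi N52809
def N54498 : Q := sm gh N52810
def N54499 : Q := sm gi N52812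
def N54500 : Q := sm gf N52813
def N54501 : Q := sm gi N52813
def N54502 : Q := sm gh N52814
def N54503 : Q := sm gi N52815
def N54504 : Q := sm gh N52816
def N54505 : Q := sm gh N52818
def N54506 : Q := sm gd N52819
def N54507 : Q := sm gh N52820
def N54508 : Q := sm gh N52821
def N54509 : Q := sm gc N52824
def N54510 : Q := sm gd N52826
def N54511 : Q := sm gc N52827
def N54512 : Q := sm gi N52831
def N54513 : Q := sm gh N52832
def N54514 : Q := sm gd N52834
def N54515 : Q := sm gh N52836
def N54516 : Q := sm gh N52838
def N54517 : Q := sm gi N52841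
def N54518 : Q := sm gh N52842
def N54519 : Q := sm gi N52843
def N54520 : Q := sm gh N52844
def N54521 : Q := sm gi N52847
def N54522 : Q := sm gh N52848
def N54523 : Q := sm gd N52849
def N54524 : Q := sm gh N52850
def N54525 : Q := sm gd N52851
def N54526 : Q := sm gh N52853
def N54527 : Q := sm gh N52855
def N54528 : Q := sm gj N52857
def N54529 : Q := sm gi N52857
def N54530 : Q := sm gh N52858
def N54531 : Q := sm gd N52859
def N54532 : Q := sm gi N52860
def N54533 : Q := sm gh N52861
def N54534 : Q := sm gd N52862
def N54535 : Q := sm gc N52863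
def N54536 : Q := sm gh N52864
def N54537 : Q := sm gh N52866
def N54538 : Q := sm gd N52867
def N54539 : Q := sm gb N52869
def N54540 : Q := sm gd N52871
def N54541 : Q := sm gc N52872
def N54542 : Q := sm ge N52872
def N54543 : Q := sm gb N52873
def N54544 : Q := sm ge N52876
def N54545 : Q := sm gi N52876
def N54546 : Q := sm gb N52878
def N54547 : Q := sm ge N52878
def N54548 : Q := sm gi N52878
def N54549 : Q := sm gf N52879
def N54550 : Q := sm gi N52879
def N54551 : Q := sm gh N52880
def N54552 : Q := sm ge N52881
def N54553 : Q := sm gi N52881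
def N54554 : Q := sm ge N52883
def N54555 : Q := sm gi N52883
def N54556 : Q := sm gf N52884
def N54557 : Q := sm gi N52884
def N54558 : Q := sm gh N52885
def N54559 : Q := sm gd N52886
def N54560 : Q := sm gi N52886
def N54561 : Q := sm gh N52887
def N54562 : Q := sm gi N52888
def N54563 : Q := sm gh N52889
def N54564 : Q := sm gh N52891
def N54565 : Q := sm gg N52892
def N54566 : Q := sm gi N52892
def N54567 : Q := sm gh N52893
def N54568 : Q := sm gd N52895
def N54569 : Q := sm gh N52896
def N54570 : Q := sm gd N52897
def N54571 : Q := sm ge N52898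
def N54572 : Q := sm gc N52899
def N54573 : Q := sm gi N52900
def N54574 : Q := sm gh N52901
def N54575 : Q := sm gf N52902
def N54576 : Q := sm gi N52902
def N54577 : Q := sm gh N52903
def N54578 : Q := sm gg N52904
def N54579 : Q := sm gi N52904
def N54580 : Q := sm gh N52905
def N54581 : Q := sm gd N52907
def N54582 : Q := sm gi N52907
def N54583 : Q := sm gh N52908
def N54584 : Q := sm gf N52909
def N54585 : Q := sm gh N52909
def N54586 : Q := sm gi N52909
def N54587 : Q := sm gi N52910
def N54588 : Q := sm gh N52911
def N54589 : Q := sm gd N52912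
def N54590 : Q := sm gh N52913
def N54591 : Q := sm gd N52914
def N54592 : Q := sm gi N52915
def N54593 : Q := sm gh N52916
def N54594 : Q := sm gd N52917
def N54595 : Q := sm gi N52918
def N54596 : Q := sm gh N52919
def N54597 : Q := sm gd N52920
def N54598 : Q := sm gd N52921
def N54599 : Q := sm gh N52922
def N54600 : Q := sm gd N52923
def N54601 : Q := sm ge N52924
def N54602 : Q := sm gd N52925
def N54603 : Q := sm gc N52926
def N54604 : Q := sm gc N52928
def N54605 : Q := sm ge N52928
def N54606 : Q := sm gf N52929
def N54607 : Q := sm gh N52931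
def N54608 : Q := sm gd N52932
def N54609 : Q := sm gc N52933
def N54610 : Q := sm gc N52934
def N54611 : Q := sm ge N52934
def N54612 : Q := sm gb N52935
def N54613 : Q := sm gd N52937
def N54614 : Q := sm gh N52938
def N54615 : Q := sm gi N52938
def N54616 : Q := sm gh N52939
def N54617 : Q := sm gd N52940
def N54618 : Q := sm gi N52941
def N54619 : Q := sm gh N52942
def N54620 : Q := sm gd N52943
def N54621 : Q := sm ge N52944
def N54622 : Q := sm ge N52945
def N54623 : Q := sm gf N52947
def N54624 : Q := sm ge N52950
def N54625 : Q := sm gi N52950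
def N54626 : Q := sm gi N52952
def N54627 : Q := sm gh N52953
def N54628 : Q := sm gh N52954
def N54629 : Q := sm gc N52956
def N54630 : Q := sm ge N52956
def N54631 : Q := sm gi N52956
def N54632 : Q := sm ge N52958
def N54633 : Q := sm gi N52958
def N54634 : Q := sm gi N52959
def N54635 : Q := sm gh N52960
def N54636 : Q := sm gd N52961
def N54637 : Q := sm gi N52961
def N54638 : Q := sm gh N52962
def N54639 : Q := sm gi N52963
def N54640 : Q := sm gh N52964
def N54641 : Q := sm gh N52966
def N54642 : Q := sm gd N52968
def N54643 : Q := sm gh N52969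
def N54644 : Q := sm gd N52970
def N54645 : Q := sm gd N52973
def N54646 : Q := sm gf N52975
def N54647 : Q := sm gi N52975
def N54648 : Q := sm gh N52976
def N54649 : Q := sm gi N52977
def N54650 : Q := sm gh N52978
def N54651 : Q := sm gd N52979
def N54652 : Q := sm gi N52979
def N54653 : Q := sm gh N52980
def N54654 : Q := sm gi N52981
def N54655 : Q := sm gh N52982
def N54656 : Q := sm gd N52985
def N54657 : Q := sm gh N52986
def N54658 : Q := sm gd N52987
def N54659 : Q := sm gf N52990
def N54660 : Q := sm gi N52990
def N54661 : Q := sm gh N52991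
def N54662 : Q := sm gh N52992
def N54663 : Q := sm gh N52994
def N54664 : Q := sm gd N52995
def N54665 : Q := sm gj N52996
def N54666 : Q := sm gi N52996
def N54667 : Q := sm gh N52997
def N54668 : Q := sm gd N52998
def N54669 : Q := sm gi N53000
def N54670 : Q := sm gh N53001
def N54671 : Q := sm gd N53002
def N54672 : Q := sm gh N53004
def N54673 : Q := sm gd N53005
def N54674 : Q := sm gh N53007
def N54675 : Q := sm gd N53008
def N54676 : Q := sm ge N53009
def N54677 : Q := sm gd N53010
def N54678 : Q := sm ge N53012
def N54679 : Q := sm gb N53013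
def N54680 : Q := sm ge N53013
def N54681 : Q := sm gi N53013
def N54682 : Q := sm gf N53014
def N54683 : Q := sm gi N53014
def N54684 : Q := sm gh N53015
def N54685 : Q := sm ga N53016
def N54686 : Q := sm ge N53016
def N54687 : Q := sm gi N53016
def N54688 : Q := sm gd N53017
def N54689 : Q := sm gf N53017
def N54690 : Q := sm gi N53017
def N54691 : Q := sm gh N53018
def N54692 : Q := sm gi N53019
def N54693 : Q := sm gh N53020
def N54694 : Q := sm gf N53022
def N54695 : Q := sm gi N53022
def N54696 : Q := sm gh N53023
def N54697 : Q := sm ge N53024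
def N54698 : Q := sm gi N53024
def N54699 : Q := sm gd N53025
def N54700 : Q := sm gi N53025
def N54701 : Q := sm gh N53026
def N54702 : Q := sm gg N53027
def N54703 : Q := sm gi N53027
def N54704 : Q := sm gh N53028
def N54705 : Q := sm gd N53030
def N54706 : Q := sm gi N53030
def N54707 : Q := sm gh N53031
def N54708 : Q := sm gf N53032
def N54709 : Q := sm gh N53032
def N54710 : Q := sm gi N53032
def N54711 : Q := sm gi N53033
def N54712 : Q := sm gh N53034
def N54713 : Q := sm gd N53035
def N54714 : Q := sm gj N53036
def N54715 : Q := sm gi N53036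
def N54716 : Q := sm gh N53037
def N54717 : Q := sm gd N53038
def N54718 : Q := sm gh N53039
def N54719 : Q := sm gd N53040
def N54720 : Q := sm gi N53041
def N54721 : Q := sm gh N53042
def N54722 : Q := sm gd N53043
def N54723 : Q := sm gd N53044
def N54724 : Q := sm gh N53045
def N54725 : Q := sm ge N53047
def N54726 : Q := sm gi N53048
def N54727 : Q := sm gh N53049
def N54728 : Q := sm gd N53050
def N54729 : Q := sm gc N53051
def N54730 : Q := sm gh N53054
def N54731 : Q := sm gd N53055
def N54732 : Q := sm gg N53058
def N54733 : Q := sm gi N53058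
def N54734 : Q := sm gh N53059
def N54735 : Q := sm ge N53061
def N54736 : Q := sm gi N53061
def N54737 : Q := sm gi N53062
def N54738 : Q := sm gh N53063
def N54739 : Q := sm gh N53064
def N54740 : Q := sm gd N53065
def N54741 : Q := sm gj N53066
def N54742 : Q := sm gi N53066
def N54743 : Q := sm gh N53067
def N54744 : Q := sm gd N53068
def N54745 : Q := sm gd N53069
def N54746 : Q := sm gi N53069
def N54747 : Q := sm gh N53070
def N54748 : Q := sm gh N53071
def N54749 : Q := sm gi N53071
def N54750 : Q := sm gi N53072
def N54751 : Q := sm gh N53073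
def N54752 : Q := sm gd N53074
def N54753 : Q := sm gi N53075
def N54754 : Q := sm gh N53076
def N54755 : Q := sm gj N53077
def N54756 : Q := sm gi N53077
def N54757 : Q := sm gh N53078
def N54758 : Q := sm gd N53079
def N54759 : Q := sm ge N53080
def N54760 : Q := sm gi N53081
def N54761 : Q := sm gh N53082
def N54762 : Q := sm gd N53083
def N54763 : Q := sm gc N53084
def N54764 : Q := sm gh N53085
def N54765 : Q := sm gd N53086
def N54766 : Q := sm ge N53087
def N54767 : Q := sm gi N53088
def N54768 : Q := sm gh N53089
def N54769 : Q := sm gd N53090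
def N54770 : Q := sm gc N53091
def N54771 : Q := sm gd N53092
def N54772 : Q := sm gh N53093
def N54773 : Q := sm ge N53095
def N54774 : Q := sm gi N53096
def N54775 : Q := sm gh N53097
def N54776 : Q := sm gf N53099
def N54777 : Q := sm gh N53100
def N54778 : Q := sm gd N53101
def N54779 : Q := sm gc N53102
def N54780 : Q := sm ge N53102
def N54781 : Q := sm gb N53103
def N54782 : Q := sm gh N53106
def N54783 : Q := sm gg N53108
def N54784 : Q := sm gd N53109
def N54785 : Q := sm gh N53112
def N54786 : Q := sm gd N53113
def N54787 : Q := sm gc N53114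
def N54788 : Q := sm ge N53114
def N54789 : Q := sm gb N53115
def N54790 : Q := sm gd N53116
def N54791 : Q := sm gc N53117
def N54792 : Q := sm ge N53117
def N54793 : Q := sm gb N53118
def N54794 : Q := sm ge N53118
def N54795 : Q := sm gc N53121
def N54796 : Q := sm gh N53123
def N54797 : Q := sm gd N53124
def N54798 : Q := sm ge N53125
def N54799 : Q := sm gi N53126
def N54800 : Q := sm gh N53127
def N54801 : Q := sm gi N53129
def N54802 : Q := sm gh N53130
def N54803 : Q := sm gd N53131
def N54804 : Q := sm ge N53132
def N54805 : Q := sm gh N53133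
def N54806 : Q := sm gd N53134
def N54807 : Q := sm ge N53135
def N54808 : Q := sm gf N53136
def N54809 : Q := sm ge N53138
def N54810 : Q := sm gf N53139
def N54811 : Q := sm gf N53140
def N54812 : Q := sm gg N53141
def N54813 : Q := sm gh N53146
def N54814 : Q := sm gh N53148
def N54815 : Q := sm gh N53149
def N54816 : Q := sm gh N53150
def N54817 : Q := sm gh N53152
def N54818 : Q := sm gd N53154
def N54819 : Q := sm gd N53155
def N54820 : Q := sm gh N53159
def N54821 : Q := sm gd N53160
def N54822 : Q := sm gh N53161
def N54823 : Q := sm gd N53162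
def N54824 : Q := sm gd N53165
def N54825 : Q := sm ge N53166
def N54826 : Q := sm gd N53167
def N54827 : Q := sm gc N53168
def N54828 : Q := sm gh N53175
def N54829 : Q := sm gd N53176
def N54830 : Q := sm gh N53177
def N54831 : Q := sm gh N53178
def N54832 : Q := sm gh N53180
def N54833 : Q := sm gh N53181
def N54834 : Q := sm gd N53182
def N54835 : Q := sm gd N53183
def N54836 : Q := sm gh N53187
def N54837 : Q := sm gd N53189
def N54838 : Q := sm gd N53190
def N54839 : Q := sm ge N53191
def N54840 : Q := sm gc N53192
def N54841 : Q := sm gc N53195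
def N54842 : Q := sm ge N53195
def N54843 : Q := sm gd N53199
def N54844 : Q := sm gd N53200
def N54845 : Q := sm gd N53201
def N54846 : Q := sm gd N53202
def N54847 : Q := sm ge N53203
def N54848 : Q := sm gd N53204
def N54849 : Q := sm gc N53205
def N54850 : Q := sm gd N53206
def N54851 : Q := sm gd N53207
def N54852 : Q := sm gd N53211
def N54853 : Q := sm ge N53212
def N54854 : Q := sm gd N53213
def N54855 : Q := sm gc N53214
def N54856 : Q := sm ge N53214
def N54857 : Q := sm gf N53215
def N54858 : Q := sm ge N53222
def N54859 : Q := sm gi N53222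
def N54860 : Q := sm gi N53224
def N54861 : Q := sm gh N53225
def N54862 : Q := sm gh N53226
def N54863 : Q := sm ge N53228
def N54864 : Q := sm gi N53228
def N54865 : Q := sm ge N53230
def N54866 : Q := sm gi N53230
def N54867 : Q := sm gf N53231
def N54868 : Q := sm gi N53231
def N54869 : Q := sm gh N53232
def N54870 : Q := sm gh N53233
def N54871 : Q := sm gh N53234
def N54872 : Q := sm gi N53235
def N54873 : Q := sm gh N53236
def N54874 : Q := sm gd N53238
def N54875 : Q := sm gd N53239
def N54876 : Q := sm ge N53240
def N54877 : Q := sm gi N53240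
def N54878 : Q := sm gi N53242
def N54879 : Q := sm gh N53243
def N54880 : Q := sm gi N53244
def N54881 : Q := sm gh N53245
def N54882 : Q := sm gi N53246
def N54883 : Q := sm gh N53247
def N54884 : Q := sm gd N53250
def N54885 : Q := sm gh N53251
def N54886 : Q := sm gd N53252
def N54887 : Q := sm gd N53256
def N54888 : Q := sm gd N53258
def N54889 : Q := sm ge N53260
def N54890 : Q := sm gi N53260
def N54891 : Q := sm gf N53261
def N54892 : Q := sm gi N53261
def N54893 : Q := sm gh N53262
def N54894 : Q := sm gi N53263
def N54895 : Q := sm gh N53264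
def N54896 : Q := sm ge N53265
def N54897 : Q := sm gi N53265
def N54898 : Q := sm gd N53266
def N54899 : Q := sm gi N53266
def N54900 : Q := sm gh N53267
def N54901 : Q := sm gg N53268
def N54902 : Q := sm gi N53268
def N54903 : Q := sm gh N53269
def N54904 : Q := sm gh N53272
def N54905 : Q := sm gd N53273
def N54906 : Q := sm gi N53274
def N54907 : Q := sm gh N53275
def N54908 : Q := sm gd N53276
def N54909 : Q := sm gd N53277
def N54910 : Q := sm ge N53279
def N54911 : Q := sm gh N53280
def N54912 : Q := sm gd N53281
def N54913 : Q := sm gc N53282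
def N54914 : Q := sm gi N53283
def N54915 : Q := sm gh N53284
def N54916 : Q := sm gh N53285
def N54917 : Q := sm gi N53287
def N54918 : Q := sm gh N53288
def N54919 : Q := sm gi N53289
def N54920 : Q := sm gh N53290
def N54921 : Q := sm gd N53291
def N54922 : Q := sm gi N53292
def N54923 : Q := sm gh N53293
def N54924 : Q := sm gd N53294
def N54925 : Q := sm gd N53295
def N54926 : Q := sm ge N53296
def N54927 : Q := sm gh N53297
def N54928 : Q := sm gd N53298
def N54929 : Q := sm gc N53299
def N54930 : Q := sm gh N53303
def N54931 : Q := sm gd N53306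
def N54932 : Q := sm gd N53309
def N54933 : Q := sm gc N53310
def N54934 : Q := sm ge N53310
def N54935 : Q := sm gd N53313
def N54936 : Q := sm gh N53314
def N54937 : Q := sm gd N53315
def N54938 : Q := sm ge N53316
def N54939 : Q := sm gf N53318
def N54940 : Q := sm gi N53320
def N54941 : Q := sm gh N53321
def N54942 : Q := sm gi N53323
def N54943 : Q := sm gh N53324
def N54944 : Q := sm ge N53325
def N54945 : Q := sm gi N53325
def N54946 : Q := sm gd N53326
def N54947 : Q := sm gi N53326
def N54948 : Q := sm gh N53327
def N54949 : Q := sm gh N53328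
def N54950 : Q := sm gh N53331
def N54951 : Q := sm gd N53332
def N54952 : Q := sm ge N53335
def N54953 : Q := sm gi N53335
def N54954 : Q := sm ge N53337
def N54955 : Q := sm gi N53337
def N54956 : Q := sm gf N53338
def N54957 : Q := sm gi N53338
def N54958 : Q := sm gh N53339
def N54959 : Q := sm ge N53340
def N54960 : Q := sm gi N53340
def N54961 : Q := sm gi N53341
def N54962 : Q := sm gh N53342
def N54963 : Q := sm ge N53343
def N54964 : Q := sm gi N53343
def N54965 : Q := sm gd N53344
def N54966 : Q := sm gf N53344
def N54967 : Q := sm gi N53344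
def N54968 : Q := sm gh N53345
def N54969 : Q := sm gi N53346
def N54970 : Q := sm gh N53347
def N54971 : Q := sm gh N53349
def N54972 : Q := sm gh N53351
def N54973 : Q := sm gi N53352
def N54974 : Q := sm gh N53353
def N54975 : Q := sm gd N53354
def N54976 : Q := sm gh N53355
def N54977 : Q := sm gd N53356
def N54978 : Q := sm gd N53357
def N54979 : Q := sm ge N53359
def N54980 : Q := sm gc N53360
def N54981 : Q := sm gi N53361
def N54982 : Q := sm gh N53362
def N54983 : Q := sm gi N53363
def N54984 : Q := sm gh N53364
def N54985 : Q := sm gg N53365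
def N54986 : Q := sm gi N53365
def N54987 : Q := sm gh N53366
def N54988 : Q := sm gi N53368
def N54989 : Q := sm gi N53369
def N54990 : Q := sm gh N53370
def N54991 : Q := sm gi N53371
def N54992 : Q := sm gh N53372
def N54993 : Q := sm gd N53373
def N54994 : Q := sm gh N53374
def N54995 : Q := sm gd N53375
def N54996 : Q := sm gh N53377
def N54997 : Q := sm gh N53379
def N54998 : Q := sm gd N53380
def N54999 : Q := sm gh N53381
def N55000 : Q := sm gd N53382
def N55001 : Q := sm ge N53383
def N55002 : Q := sm gd N53384
def N55003 : Q := sm gc N53385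
def N55004 : Q := sm gc N53388
def N55005 : Q := sm ge N53388
def N55006 : Q := sm gc N53389
def N55007 : Q := sm ge N53389
def N55008 : Q := sm gh N53392
def N55009 : Q := sm gc N53394
def N55010 : Q := sm ge N53394
def N55011 : Q := sm gd N53399
def N55012 : Q := sm ge N53400
def N55013 : Q := sm gc N53402
def N55014 : Q := sm ge N53402
def N55015 : Q := sm gf N53403
def N55016 : Q := sm ge N53406
def N55017 : Q := sm gi N53406
def N55018 : Q := sm gf N53407
def N55019 : Q := sm gi N53407
def N55020 : Q := sm gh N53408
def N55021 : Q := sm ge N53409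
def N55022 : Q := sm gi N53409
def N55023 : Q := sm gd N53410
def N55024 : Q := sm gf N53410
def N55025 : Q := sm gi N53410
def N55026 : Q := sm gh N53411
def N55027 : Q := sm gi N53412
def N55028 : Q := sm gh N53413
def N55029 : Q := sm gi N53415
def N55030 : Q := sm gh N53416
def N55031 : Q := sm gd N53417
def N55032 : Q := sm gi N53417
def N55033 : Q := sm gh N53418
def N55034 : Q := sm gi N53419
def N55035 : Q := sm gh N53420
def N55036 : Q := sm gd N53422
def N55037 : Q := sm gi N53422
def N55038 : Q := sm gh N53423
def N55039 : Q := sm gh N53424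
def N55040 : Q := sm gi N53424
def N55041 : Q := sm gi N53425
def N55042 : Q := sm gh N53426
def N55043 : Q := sm gd N53427
def N55044 : Q := sm gi N53428
def N55045 : Q := sm gh N53429
def N55046 : Q := sm gd N53430
def N55047 : Q := sm gd N53431
def N55048 : Q := sm gh N53432
def N55049 : Q := sm gd N53433
def N55050 : Q := sm gd N53434
def N55051 : Q := sm gh N53435
def N55052 : Q := sm gd N53436
def N55053 : Q := sm ge N53437
def N55054 : Q := sm gh N53438
def N55055 : Q := sm gd N53439
def N55056 : Q := sm gc N53440
def N55057 : Q := sm ge N53441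
def N55058 : Q := sm gd N53444
def N55059 : Q := sm gi N53447
def N55060 : Q := sm gh N53448
def N55061 : Q := sm gf N53450
def N55062 : Q := sm gh N53450
def N55063 : Q := sm gi N53450
def N55064 : Q := sm gi N53451
def N55065 : Q := sm gh N53452
def N55066 : Q := sm gd N53453
def N55067 : Q := sm gh N53454
def N55068 : Q := sm gd N53455
def N55069 : Q := sm gd N53456
def N55070 : Q := sm gi N53456
def N55071 : Q := sm gh N53457
def N55072 : Q := sm gf N53458
def N55073 : Q := sm gh N53458
def N55074 : Q := sm gi N53458
def N55075 : Q := sm gi N53459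
def N55076 : Q := sm gh N53460
def N55077 : Q := sm gd N53461
def N55078 : Q := sm gh N53462
def N55079 : Q := sm gi N53462
def N55080 : Q := sm gi N53463
def N55081 : Q := sm gh N53464
def N55082 : Q := sm gi N53465
def N55083 : Q := sm gh N53466
def N55084 : Q := sm gd N53467
def N55085 : Q := sm ge N53468
def N55086 : Q := sm gi N53469
def N55087 : Q := sm gh N53470
def N55088 : Q := sm gd N53471
def N55089 : Q := sm gc N53472
def N55090 : Q := sm gh N53473
def N55091 : Q := sm gd N53474
def N55092 : Q := sm gd N53476
def N55093 : Q := sm gh N53479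
def N55094 : Q := sm gd N53480
def N55095 : Q := sm ge N53481
def N55096 : Q := sm gh N53482
def N55097 : Q := sm gd N53483
def N55098 : Q := sm gc N53484
def N55099 : Q := sm ge N53484
def N55100 : Q := sm gf N53485
def N55101 : Q := sm gh N53486
def N55102 : Q := sm gd N53487
def N55103 : Q := sm gc N53488
def N55104 : Q := sm ge N53488
def N55105 : Q := sm gb N53489
def N55106 : Q := sm ge N53490
def N55107 : Q := sm gd N53492
def N55108 : Q := sm ge N53499
def N55109 : Q := sm gc N53500
def N55110 : Q := sm ge N53500
def N55111 : Q := sm gb N53501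
def N55112 : Q := sm ge N53501
def N55113 : Q := sm gi N53505
def N55114 : Q := sm gh N53506
def N55115 : Q := sm gd N53507
def N55116 : Q := sm ge N53508
def N55117 : Q := sm gi N53509
def N55118 : Q := sm gh N53510
def N55119 : Q := sm gi N53512
def N55120 : Q := sm gh N53513
def N55121 : Q := sm gd N53514
def N55122 : Q := sm ge N53515
def N55123 : Q := sm gh N53516
def N55124 : Q := sm gd N53517
def N55125 : Q := sm gc N53518
def N55126 : Q := sm ge N53518
def N55127 : Q := sm gf N53519
def N55128 : Q := sm gi N53524
def N55129 : Q := sm gh N53525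
def N55130 : Q := sm gi N53526
def N55131 : Q := sm gh N53527
def N55132 : Q := sm gh N53528
def N55133 : Q := sm gh N53530
def N55134 : Q := sm gd N53532
def N55135 : Q := sm gi N53534
def N55136 : Q := sm gh N53535
def N55137 : Q := sm gh N53536
def N55138 : Q := sm gh N53538
def N55139 : Q := sm gd N53539
def N55140 : Q := sm gd N53540
def N55141 : Q := sm gd N53541
def N55142 : Q := sm ge N53544
def N55143 : Q := sm gf N53545
def N55144 : Q := sm gi N53545
def N55145 : Q := sm gh N53546
def N55146 : Q := sm gi N53547
def N55147 : Q := sm gh N53548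
def N55148 : Q := sm gi N53549
def N55149 : Q := sm gh N53550
def N55150 : Q := sm gf N53552
def N55151 : Q := sm gi N53552
def N55152 : Q := sm gh N53553
def N55153 : Q := sm gi N53554
def N55154 : Q := sm gh N53555
def N55155 : Q := sm gh N53557
def N55156 : Q := sm gd N53558
def N55157 : Q := sm gh N53559
def N55158 : Q := sm gd N53560
def N55159 : Q := sm gd N53561
def N55160 : Q := sm gi N53563
def N55161 : Q := sm gh N53564
def N55162 : Q := sm gi N53565
def N55163 : Q := sm gh N53566
def N55164 : Q := sm gh N53568
def N55165 : Q := sm gh N53570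
def N55166 : Q := sm gd N53571
def N55167 : Q := sm gh N53572
def N55168 : Q := sm gh N53574
def N55169 : Q := sm gh N53575
def N55170 : Q := sm gd N53576
def N55171 : Q := sm gi N53577
def N55172 : Q := sm gh N53578
def N55173 : Q := sm gd N53579
def N55174 : Q := sm gc N53580
def N55175 : Q := sm gd N53581
def N55176 : Q := sm gh N53584
def N55177 : Q := sm gd N53585
def N55178 : Q := sm gc N53586
def N55179 : Q := sm ge N53586
def N55180 : Q := sm gd N53588
def N55181 : Q := sm gd N53590
def N55182 : Q := sm ge N53591
def N55183 : Q := sm gd N53592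
def N55184 : Q := sm ge N53593
def N55185 : Q := sm ge N53594
def N55186 : Q := sm gi N53598
def N55187 : Q := sm gh N53599
def N55188 : Q := sm gh N53600
def N55189 : Q := sm gi N53603
def N55190 : Q := sm gh N53604
def N55191 : Q := sm gi N53605
def N55192 : Q := sm gh N53606
def N55193 : Q := sm gh N53607
def N55194 : Q := sm gi N53609
def N55195 : Q := sm gh N53610
def N55196 : Q := sm gd N53611
def N55197 : Q := sm gd N53612
def N55198 : Q := sm gd N53613
def N55199 : Q := sm gf N53615
def N55200 : Q := sm gi N53615
def N55201 : Q := sm gh N53616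
def N55202 : Q := sm gf N53617
def N55203 : Q := sm gi N53617
def N55204 : Q := sm gh N53618
def N55205 : Q := sm gi N53619
def N55206 : Q := sm gh N53620
def N55207 : Q := sm gf N53622
def N55208 : Q := sm gi N53622
def N55209 : Q := sm gh N53623
def N55210 : Q := sm gg N53624
def N55211 : Q := sm gi N53624
def N55212 : Q := sm gh N53625
def N55213 : Q := sm gh N53627
def N55214 : Q := sm gd N53628
def N55215 : Q := sm gi N53629
def N55216 : Q := sm gh N53630
def N55217 : Q := sm gd N53631
def N55218 : Q := sm gd N53632
def N55219 : Q := sm gc N53633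
def N55220 : Q := sm gf N53635
def N55221 : Q := sm gi N53635
def N55222 : Q := sm gh N53636
def N55223 : Q := sm gi N53637
def N55224 : Q := sm gh N53638
def N55225 : Q := sm gf N53640
def N55226 : Q := sm gi N53640
def N55227 : Q := sm gg N53641
def N55228 : Q := sm gi N53641
def N55229 : Q := sm gh N53642
def N55230 : Q := sm gi N53644
def N55231 : Q := sm gh N53645
def N55232 : Q := sm gd N53646
def N55233 : Q := sm gc N53647
def N55234 : Q := sm gi N53647
def N55235 : Q := sm gh N53648
def N55236 : Q := sm gh N53650
def N55237 : Q := sm gi N53650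
def N55238 : Q := sm gi N53651
def N55239 : Q := sm gh N53652
def N55240 : Q := sm gh N53653
def N55241 : Q := sm gd N53654
def N55242 : Q := sm gd N53655
def N55243 : Q := sm gc N53656
def N55244 : Q := sm gi N53657
def N55245 : Q := sm gh N53658
def N55246 : Q := sm gd N53659
def N55247 : Q := sm gh N53660
def N55248 : Q := sm gd N53661
def N55249 : Q := sm gc N53662
def N55250 : Q := sm gd N53663
def N55251 : Q := sm gc N53664
def N55252 : Q := sm gc N53665
def N55253 : Q := sm ge N53665
def N55254 : Q := sm gd N53668
def N55255 : Q := sm gc N53669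
def N55256 : Q := sm ge N53669
def N55257 : Q := sm ge N53671
def N55258 : Q := sm gh N53674
def N55259 : Q := sm gi N53675
def N55260 : Q := sm gi N53677
def N55261 : Q := sm gh N53678
def N55262 : Q := sm gh N53679
def N55263 : Q := sm gi N53681
def N55264 : Q := sm gh N53682
def N55265 : Q := sm ge N53683
def N55266 : Q := sm gi N53683
def N55267 : Q := sm gf N53684
def N55268 : Q := sm gi N53684
def N55269 : Q := sm gh N53685
def N55270 : Q := sm gg N53686
def N55271 : Q := sm gi N53686
def N55272 : Q := sm gh N53687
def N55273 : Q := sm ge N53689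
def N55274 : Q := sm gi N53689
def N55275 : Q := sm gd N53690
def N55276 : Q := sm gf N53690
def N55277 : Q := sm gi N53690
def N55278 : Q := sm gh N53691
def N55279 : Q := sm gf N53692
def N55280 : Q := sm gh N53692
def N55281 : Q := sm gi N53692
def N55282 : Q := sm gg N53693
def N55283 : Q := sm gi N53693
def N55284 : Q := sm gh N53694
def N55285 : Q := sm gd N53695
def N55286 : Q := sm gi N53696
def N55287 : Q := sm gh N53697
def N55288 : Q := sm gd N53698
def N55289 : Q := sm gi N53699
def N55290 : Q := sm gh N53700
def N55291 : Q := sm gg N53701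
def N55292 : Q := sm gi N53701
def N55293 : Q := sm gh N53702
def N55294 : Q := sm gi N53704
def N55295 : Q := sm gh N53705
def N55296 : Q := sm gg N53706
def N55297 : Q := sm gi N53706
def N55298 : Q := sm gh N53707
def N55299 : Q := sm gj N53709
def N55300 : Q := sm gi N53709
def N55301 : Q := sm gh N53710
def N55302 : Q := sm gd N53711
def N55303 : Q := sm gi N53712
def N55304 : Q := sm gh N53713
def N55305 : Q := sm gh N53715
def N55306 : Q := sm gi N53715
def N55307 : Q := sm gi N53716
def N55308 : Q := sm gh N53717
def N55309 : Q := sm gi N53718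
def N55310 : Q := sm gh N53719
def N55311 : Q := sm gd N53720
def N55312 : Q := sm gi N53721
def N55313 : Q := sm gh N53722
def N55314 : Q := sm gd N53723
def N55315 : Q := sm gc N53724
def N55316 : Q := sm gi N53726
def N55317 : Q := sm gh N53727
def N55318 : Q := sm gd N53728
def N55319 : Q := sm gi N53729
def N55320 : Q := sm gh N53730
def N55321 : Q := sm gd N53731
def N55322 : Q := sm gc N53732
def N55323 : Q := sm gi N53733
def N55324 : Q := sm gh N53734
def N55325 : Q := sm gd N53735
def N55326 : Q := sm gh N53737
def N55327 : Q := sm gd N53738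
def N55328 : Q := sm gc N53739
def N55329 : Q := sm ge N53739
def N55330 : Q := sm gb N53740
def N55331 : Q := sm gh N53741
def N55332 : Q := sm gd N53743
def N55333 : Q := sm gc N53744
def N55334 : Q := sm gi N53747
def N55335 : Q := sm gh N53748
def N55336 : Q := sm gi N53749
def N55337 : Q := sm gg N53750
def N55338 : Q := sm gi N53750
def N55339 : Q := sm gh N53751
def N55340 : Q := sm gd N53752
def N55341 : Q := sm gi N53753
def N55342 : Q := sm gh N53754
def N55343 : Q := sm gd N53755
def N55344 : Q := sm gi N53756
def N55345 : Q := sm gh N53757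
def N55346 : Q := sm gf N53758
def N55347 : Q := sm gi N53758
def N55348 : Q := sm gi N53759
def N55349 : Q := sm gh N53760
def N55350 : Q := sm gd N53761
def N55351 : Q := sm gg N53762
def N55352 : Q := sm gh N53762
def N55353 : Q := sm gi N53762
def N55354 : Q := sm gi N53763
def N55355 : Q := sm gh N53764
def N55356 : Q := sm gj N53765
def N55357 : Q := sm gi N53765
def N55358 : Q := sm gh N53766
def N55359 : Q := sm gd N53767
def N55360 : Q := sm ge N53768
def N55361 : Q := sm gi N53769
def N55362 : Q := sm gh N53770
def N55363 : Q := sm gd N53771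
def N55364 : Q := sm gc N53772
def N55365 : Q := sm gh N53773
def N55366 : Q := sm gg N53775
def N55367 : Q := sm gi N53775
def N55368 : Q := sm gh N53776
def N55369 : Q := sm gi N53777
def N55370 : Q := sm gh N53778
def N55371 : Q := sm gd N53779
def N55372 : Q := sm ge N53780
def N55373 : Q := sm gj N53781
def N55374 : Q := sm gh N53781
def N55375 : Q := sm gi N53781
def N55376 : Q := sm gi N53782
def N55377 : Q := sm gh N53783
def N55378 : Q := sm gh N53784
def N55379 : Q := sm gd N53785
def N55380 : Q := sm gi N53786
def N55381 : Q := sm gh N53787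
def N55382 : Q := sm gd N53788
def N55383 : Q := sm gc N53789
def N55384 : Q := sm ge N53789
def N55385 : Q := sm gf N53790
def N55386 : Q := sm gh N53791
def N55387 : Q := sm gd N53792
def N55388 : Q := sm gc N53793
def N55389 : Q := sm ge N53793
def N55390 : Q := sm gb N53794
def N55391 : Q := sm gh N53796
def N55392 : Q := sm gd N53797
def N55393 : Q := sm gi N53799
def N55394 : Q := sm gh N53800
def N55395 : Q := sm gd N53801
def N55396 : Q := sm gc N53802
def N55397 : Q := sm ge N53802
def N55398 : Q := sm gh N53804
def N55399 : Q := sm gd N53805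
def N55400 : Q := sm gc N53806
def N55401 : Q := sm ge N53806
def N55402 : Q := sm gb N53807
def N55403 : Q := sm gi N53808
def N55404 : Q := sm gh N53809
def N55405 : Q := sm gd N53810
def N55406 : Q := sm gh N53812
def N55407 : Q := sm gd N53813
def N55408 : Q := sm gc N53814
def N55409 : Q := sm ge N53814
def N55410 : Q := sm gf N53816
def N55411 : Q := sm gd N53818
def N55412 : Q := sm gc N53819
def N55413 : Q := sm ge N53819
def N55414 : Q := sm gb N53820
def N55415 : Q := sm ge N53820
def N55416 : Q := sm ga N53822
def N55417 : Q := sm gh N53823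
def N55418 : Q := sm gd N53825
def N55419 : Q := sm ge N53826
def N55420 : Q := sm gc N53828
def N55421 : Q := sm gd N53831
def N55422 : Q := sm gc N53832
def N55423 : Q := sm ge N53832
def N55424 : Q := sm gb N53833
def N55425 : Q := sm ge N53833
def N55426 : Q := sm ga N53835
def N55427 : Q := sm gc N53836
def N55428 : Q := sm ge N53836
def N55429 : Q := sm ge N53837
def N55430 : Q := sm ga N53839
def N55431 : Q := sm ge N53839
def N55432 : Q := sm gd N53840
def N55433 : Q := sm gh N53845
def N55434 : Q := sm gd N53850
def N55435 : Q := sm gc N53851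
def N55436 : Q := sm ge N53851
def N55437 : Q := sm ge N53852
def N55438 : Q := sm gf N53853
def N55439 : Q := sm gd N53855
def N55440 : Q := sm gh N53856
def N55441 : Q := sm gd N53857
def N55442 : Q := sm gh N53858
def N55443 : Q := sm gh N53859
def N55444 : Q := sm gd N53860
def N55445 : Q := sm gh N53861
def N55446 : Q := sm ge N53863
def N55447 : Q := sm gh N53864
def N55448 : Q := sm gh N53865
def N55449 : Q := sm gc N53867
def N55450 : Q := sm ge N53867
def N55451 : Q := sm ge N53868
def N55452 : Q := sm gf N53870
def N55453 : Q := sm gd N53872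
def N55454 : Q := sm gd N53873
def N55455 : Q := sm gh N53875
def N55456 : Q := sm gd N53877
def N55457 : Q := sm gh N53878
def N55458 : Q := sm gh N53880
def N55459 : Q := sm gd N53881
def N55460 : Q := sm gd N53883
def N55461 : Q := sm gh N53885
def N55462 : Q := sm gh N53887
def N55463 : Q := sm gd N53889
def N55464 : Q := sm gi N53890
def N55465 : Q := sm gh N53891
def N55466 : Q := sm gi N53893
def N55467 : Q := sm gh N53894
def N55468 : Q := sm gi N53895
def N55469 : Q := sm gh N53896
def N55470 : Q := sm gd N53897
def N55471 : Q := sm gh N53898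
def N55472 : Q := sm gd N53899
def N55473 : Q := sm gc N53900
def N55474 : Q := sm gh N53902
def N55475 : Q := sm gd N53903
def N55476 : Q := sm gh N53904
def N55477 : Q := sm gd N53905
def N55478 : Q := sm gd N53909
def N55479 : Q := sm gi N53913
def N55480 : Q := sm gh N53914
def N55481 : Q := sm gh N53915
def N55482 : Q := sm gh N53917
def N55483 : Q := sm gd N53919
def N55484 : Q := sm gd N53920
def N55485 : Q := sm gi N53921
def N55486 : Q := sm gh N53922
def N55487 : Q := sm gh N53923
def N55488 : Q := sm gd N53924
def N55489 : Q := sm gd N53925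
def N55490 : Q := sm ge N53926
def N55491 : Q := sm gc N53927
def N55492 : Q := sm gh N53928
def N55493 : Q := sm gd N53929
def N55494 : Q := sm ge N53934
def N55495 : Q := sm gf N53935
def N55496 : Q := sm gf N53938
def N55497 : Q := sm gh N53940
def N55498 : Q := sm gd N53942
def N55499 : Q := sm gi N53943
def N55500 : Q := sm gh N53944
def N55501 : Q := sm gd N53945
def N55502 : Q := sm gd N53946
def N55503 : Q := sm gd N53947
def N55504 : Q := sm ge N53949
def N55505 : Q := sm gi N53949
def N55506 : Q := sm gi N53950
def N55507 : Q := sm gh N53951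
def N55508 : Q := sm gi N53952
def N55509 : Q := sm gh N53953
def N55510 : Q := sm gi N53955
def N55511 : Q := sm gh N53956
def N55512 : Q := sm gf N53957
def N55513 : Q := sm gi N53957
def N55514 : Q := sm gi N53958
def N55515 : Q := sm gh N53959
def N55516 : Q := sm gd N53960
def N55517 : Q := sm gh N53961
def N55518 : Q := sm gd N53962
def N55519 : Q := sm gi N53963
def N55520 : Q := sm gh N53964
def N55521 : Q := sm gd N53965
def N55522 : Q := sm gi N53966
def N55523 : Q := sm gh N53967
def N55524 : Q := sm gh N53968
def N55525 : Q := sm gd N53969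
def N55526 : Q := sm ge N53970
def N55527 : Q := sm gd N53971
def N55528 : Q := sm gc N53972
def N55529 : Q := sm gd N53973
def N55530 : Q := sm gh N53974
def N55531 : Q := sm gd N53975
def N55532 : Q := sm ge N53976
def N55533 : Q := sm ge N53978
def N55534 : Q := sm gd N53979
def N55535 : Q := sm gf N53981
def N55536 : Q := sm gh N53983
def N55537 : Q := sm gd N53984
def N55538 : Q := sm gd N53985
def N55539 : Q := sm gh N53986
def N55540 : Q := sm gd N53987
def N55541 : Q := sm ge N53988
def N55542 : Q := sm gh N53990
def N55543 : Q := sm gd N53991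
def N55544 : Q := sm ge N53992
def N55545 : Q := sm gd N53993
def N55546 : Q := sm ge N53994
def N55547 : Q := sm gf N53995
def N55548 : Q := sm ge N53997
def N55549 : Q := sm gf N53998
def N55550 : Q := sm gf N53999
def N55551 : Q := sm gi N54001
def N55552 : Q := sm gi N54002
def N55553 : Q := sm gh N54003
def N55554 : Q := sm gi N54004
def N55555 : Q := sm gh N54005
def N55556 : Q := sm gd N54006
def N55557 : Q := sm gd N54007
def N55558 : Q := sm gd N54008
def N55559 : Q := sm gi N54008
def N55560 : Q := sm gh N54009
def N55561 : Q := sm gh N54010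
def N55562 : Q := sm gd N54012
def N55563 : Q := sm gi N54012
def N55564 : Q := sm gh N54013
def N55565 : Q := sm gh N54014
def N55566 : Q := sm gi N54014
def N55567 : Q := sm gh N54015
def N55568 : Q := sm gd N54016
def N55569 : Q := sm gd N54017
def N55570 : Q := sm gi N54018
def N55571 : Q := sm gi N54019
def N55572 : Q := sm gh N54020
def N55573 : Q := sm gd N54021
def N55574 : Q := sm gi N54022
def N55575 : Q := sm gi N54023
def N55576 : Q := sm gh N54024
def N55577 : Q := sm gh N54025
def N55578 : Q := sm gd N54026
def N55579 : Q := sm ge N54027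
def N55580 : Q := sm gh N54028
def N55581 : Q := sm gd N54029
def N55582 : Q := sm gc N54030
def N55583 : Q := sm gd N54031
def N55584 : Q := sm gh N54033
def N55585 : Q := sm gi N54039
def N55586 : Q := sm gh N54040
def N55587 : Q := sm gd N54041
def N55588 : Q := sm gh N54042
def N55589 : Q := sm gd N54043
def N55590 : Q := sm gi N54044
def N55591 : Q := sm gh N54045
def N55592 : Q := sm gd N54046
def N55593 : Q := sm gh N54047
def N55594 : Q := sm gi N54047
def N55595 : Q := sm gi N54048
def N55596 : Q := sm gh N54049
def N55597 : Q := sm gh N54050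
def N55598 : Q := sm gd N54051
def N55599 : Q := sm ge N54052
def N55600 : Q := sm gd N54053
def N55601 : Q := sm gc N54054
def N55602 : Q := sm gi N54055
def N55603 : Q := sm gh N54056
def N55604 : Q := sm gi N54058
def N55605 : Q := sm gi N54059
def N55606 : Q := sm gh N54060
def N55607 : Q := sm gi N54061
def N55608 : Q := sm gh N54062
def N55609 : Q := sm gd N54063
def N55610 : Q := sm ge N54064
def N55611 : Q := sm gi N54065
def N55612 : Q := sm gi N54066
def N55613 : Q := sm gh N54067
def N55614 : Q := sm gh N54068
def N55615 : Q := sm gd N54069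
def N55616 : Q := sm gi N54070
def N55617 : Q := sm gh N54071
def N55618 : Q := sm gd N54072
def N55619 : Q := sm gc N54073
def N55620 : Q := sm ge N54073
def N55621 : Q := sm gf N54074
def N55622 : Q := sm gh N54075
def N55623 : Q := sm gd N54076
def N55624 : Q := sm gc N54077
def N55625 : Q := sm gb N54078
def N55626 : Q := sm gi N54079
def N55627 : Q := sm gh N54080
def N55628 : Q := sm gh N54082
def N55629 : Q := sm gd N54083
def N55630 : Q := sm gd N54085
def N55631 : Q := sm gf N54087
def N55632 : Q := sm gh N54088
def N55633 : Q := sm gd N54089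
def N55634 : Q := sm gh N54090
def N55635 : Q := sm gd N54091
def N55636 : Q := sm gh N54093
def N55637 : Q := sm gd N54094
def N55638 : Q := sm ge N54095
def N55639 : Q := sm gh N54099
def N55640 : Q := sm gd N54101
def N55641 : Q := sm ge N54103
def N55642 : Q := sm ge N54104
def N55643 : Q := sm gh N54105
def N55644 : Q := sm gd N54106
def N55645 : Q := sm ge N54107
def N55646 : Q := sm gf N54108
def N55647 : Q := sm gh N54109
def N55648 : Q := sm gd N54110
def N55649 : Q := sm ge N54111
def N55650 : Q := sm gd N54113
def N55651 : Q := sm ge N54114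
def N55652 : Q := sm gf N54115
def N55653 : Q := sm gg N54117
def N55654 : Q := sm ge N54118
def N55655 : Q := sm ge N54121
def N55656 : Q := sm ge N54122
def N55657 : Q := sm gf N54123
def N55658 : Q := sm gh N54135
def N55659 : Q := sm gh N54137
def N55660 : Q := sm gh N54139
def N55661 : Q := sm gd N54140
def N55662 : Q := sm gd N54141
def N55663 : Q := sm ge N54142
def N55664 : Q := sm gd N54144
def N55665 : Q := sm ge N54145
def N55666 : Q := sm gf N54147
def N55667 : Q := sm gh N54148
def N55668 : Q := sm gi N54148
def N55669 : Q := sm gh N54149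
def N55670 : Q := sm gd N54150
def N55671 : Q := sm gd N54151
def N55672 : Q := sm ge N54152
def N55673 : Q := sm gd N54155
def N55674 : Q := sm gh N54156
def N55675 : Q := sm gi N54156
def N55676 : Q := sm gi N54157
def N55677 : Q := sm gh N54158
def N55678 : Q := sm gh N54159
def N55679 : Q := sm gd N54160
def N55680 : Q := sm ge N54161
def N55681 : Q := sm gd N54162
def N55682 : Q := sm gc N54163
def N55683 : Q := sm gd N54164
def N55684 : Q := sm ge N54165
def N55685 : Q := sm gf N54166
def N55686 : Q := sm gg N54169
def N55687 : Q := sm gh N54170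
def N55688 : Q := sm gd N54171
def N55689 : Q := sm ge N54172
def N55690 : Q := sm gf N54173
def N55691 : Q := sm gg N54174
def N55692 : Q := sm gi N54176
def N55693 : Q := sm gh N54177
def N55694 : Q := sm gd N54178
def N55695 : Q := sm gd N54179
def N55696 : Q := sm gh N54182
def N55697 : Q := sm gd N54184
def N55698 : Q := sm gd N54185
def N55699 : Q := sm ge N54186
def N55700 : Q := sm gc N54187
def N55701 : Q := sm gf N54188
def N55702 : Q := sm gf N54189
def N55703 : Q := sm gh N54191
def N55704 : Q := sm gd N54192
def N55705 : Q := sm gi N54193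
def N55706 : Q := sm gh N54194
def N55707 : Q := sm gd N54195
def N55708 : Q := sm ge N54196
def N55709 : Q := sm gc N54197
def N55710 : Q := sm ge N54198
def N55711 : Q := sm gf N54199
def N55712 : Q := sm gh N54201
def N55713 : Q := sm gd N54202
def N55714 : Q := sm gh N54203
def N55715 : Q := sm gd N54204
def N55716 : Q := sm gh N54205
def N55717 : Q := sm gd N54206
def N55718 : Q := sm gd N54207
def N55719 : Q := sm ge N54208
def N55720 : Q := sm gc N54209
def N55721 : Q := sm gh N54210
def N55722 : Q := sm gd N54211
def N55723 : Q := sm gh N54212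
def N55724 : Q := sm gh N54213
def N55725 : Q := sm gd N54214
def N55726 : Q := sm ge N54215
def N55727 : Q := sm gh N54216
def N55728 : Q := sm gd N54217
def N55729 : Q := sm gh N54218
def N55730 : Q := sm gd N54219
def N55731 : Q := sm gc N54220
def N55732 : Q := sm ge N54220
def N55733 : Q := sm gf N54221
def N55734 : Q := sm gh N54222
def N55735 : Q := sm gd N54223
def N55736 : Q := sm gc N54224
def N55737 : Q := sm gb N54225
def N55738 : Q := sm gf N54230
def N55739 : Q := sm gg N54233
def N55740 : Q := sm ge N54235
def N55741 : Q := sm ge N54236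
def N55742 : Q := sm ge N54238
def N55743 : Q := sm gd N54239
def N55744 : Q := sm ge N54240
def N55745 : Q := sm gf N54241
def N55746 : Q := sm gd N54242
def N55747 : Q := sm ge N54243
def N55748 : Q := sm gg N54245
def N55749 : Q := sm gi N54248
def N55750 : Q := sm gh N54249
def N55751 : Q := sm gd N54251
def N55752 : Q := sm gc N54252
def N55753 : Q := sm gd N54253
def N55754 : Q := sm gh N54254
def N55755 : Q := sm gd N54256
def N55756 : Q := sm gd N54257
def N55757 : Q := sm gc N54258
def N55758 : Q := sm gi N54259
def N55759 : Q := sm gh N54260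
def N55760 : Q := sm gi N54262
def N55761 : Q := sm gh N54263
def N55762 : Q := sm gd N54264
def N55763 : Q := sm gi N54265
def N55764 : Q := sm gh N54266
def N55765 : Q := sm gi N54268
def N55766 : Q := sm gh N54269
def N55767 : Q := sm gh N54270
def N55768 : Q := sm gd N54271
def N55769 : Q := sm gh N54272
def N55770 : Q := sm gd N54273
def N55771 : Q := sm gc N54274
def N55772 : Q := sm gi N54275
def N55773 : Q := sm gh N54276
def N55774 : Q := sm gh N54277
def N55775 : Q := sm gd N54278
def N55776 : Q := sm gh N54279
def N55777 : Q := sm gd N54280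
def N55778 : Q := sm gd N54281
def N55779 : Q := sm gc N54282
def N55780 : Q := sm gc N54283
def N55781 : Q := sm gb N54284
def N55782 : Q := sm gh N54285
def N55783 : Q := sm gd N54286
def N55784 : Q := sm gd N54287
def N55785 : Q := sm gd N54290
def N55786 : Q := sm ge N54292
def N55787 : Q := sm gh N54295
def N55788 : Q := sm gd N54296
def N55789 : Q := sm gd N54297
def N55790 : Q := sm gd N54298
def N55791 : Q := sm gc N54299
def N55792 : Q := sm gh N54300
def N55793 : Q := sm gh N54302
def N55794 : Q := sm gd N54303
def N55795 : Q := sm gh N54304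
def N55796 : Q := sm gd N54306
def N55797 : Q := sm gc N54307
def N55798 : Q := sm gh N54308
def N55799 : Q := sm gh N54310
def N55800 : Q := sm gd N54311
def N55801 : Q := sm gh N54312
def N55802 : Q := sm gd N54313
def N55803 : Q := sm gc N54314
def N55804 : Q := sm gb N54315
def N55805 : Q := sm gi N54319
def N55806 : Q := sm gh N54320
def N55807 : Q := sm gi N54321
def N55808 : Q := sm gh N54322
def N55809 : Q := sm gd N54323
def N55810 : Q := sm gi N54324
def N55811 : Q := sm gh N54325
def N55812 : Q := sm gd N54326
def N55813 : Q := sm ge N54327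
def N55814 : Q := sm gc N54328
def N55815 : Q := sm gi N54329
def N55816 : Q := sm gh N54330
def N55817 : Q := sm gh N54332
def N55818 : Q := sm gd N54333
def N55819 : Q := sm gh N54334
def N55820 : Q := sm gh N54336
def N55821 : Q := sm gd N54337
def N55822 : Q := sm gc N54338
def N55823 : Q := sm gh N54339
def N55824 : Q := sm gi N54341
def N55825 : Q := sm gi N54342
def N55826 : Q := sm gh N54343
def N55827 : Q := sm gh N54344
def N55828 : Q := sm gd N54345
def N55829 : Q := sm gh N54346
def N55830 : Q := sm gi N54346
def N55831 : Q := sm gi N54347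
def N55832 : Q := sm gh N54348
def N55833 : Q := sm gh N54349
def N55834 : Q := sm gd N54350
def N55835 : Q := sm gi N54351
def N55836 : Q := sm gh N54352
def N55837 : Q := sm gd N54353
def N55838 : Q := sm gc N54354
def N55839 : Q := sm gh N54355
def N55840 : Q := sm gd N54356
def N55841 : Q := sm gc N54357
def N55842 : Q := sm gb N54358
def N55843 : Q := sm gd N54360
def N55844 : Q := sm gd N54362
def N55845 : Q := sm gc N54363
def N55846 : Q := sm gh N54364
def N55847 : Q := sm gd N54365
def N55848 : Q := sm ge N54366
def N55849 : Q := sm gd N54369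
def N55850 : Q := sm gh N54371
def N55851 : Q := sm gd N54372
def N55852 : Q := sm gh N54373
def N55853 : Q := sm gd N54374
def N55854 : Q := sm gc N54375
def N55855 : Q := sm gh N54376
def N55856 : Q := sm gd N54377
def N55857 : Q := sm gd N54378
def N55858 : Q := sm gd N54379
def N55859 : Q := sm gc N54380
def N55860 : Q := sm ge N54380
def N55861 : Q := sm gf N54381
def N55862 : Q := sm gh N54382
def N55863 : Q := sm gd N54383
def N55864 : Q := sm gc N54384
def N55865 : Q := sm gb N54385
def N55866 : Q := sm gh N54386
def N55867 : Q := sm gd N54387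
def N55868 : Q := sm gi N54388
def N55869 : Q := sm gh N54390
def N55870 : Q := sm gd N54391
def N55871 : Q := sm gc N54392
def N55872 : Q := sm gi N54393
def N55873 : Q := sm gh N54394
def N55874 : Q := sm gh N54395
def N55875 : Q := sm gd N54396
def N55876 : Q := sm gd N54397
def N55877 : Q := sm gc N54398
def N55878 : Q := sm gh N54399
def N55879 : Q := sm gd N54400
def N55880 : Q := sm gc N54401
def N55881 : Q := sm ge N54401
def N55882 : Q := sm gb N54402
def N55883 : Q := sm ge N54402
def N55884 : Q := sm gf N54403
def N55885 : Q := sm gd N54405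
def N55886 : Q := sm gc N54406
def N55887 : Q := sm gb N54407
def N55888 : Q := sm ga N54408
def N55889 : Q := sm gh N54409
def N55890 : Q := sm gd N54411
def N55891 : Q := sm gc N54412
def N55892 : Q := sm ge N54413
def N55893 : Q := sm gf N54414
def N55894 : Q := sm gg N54415
def N55895 : Q := sm gd N54418
def N55896 : Q := sm gc N54419
def N55897 : Q := sm ge N54419
def N55898 : Q := sm gd N54421
def N55899 : Q := sm ge N54422
def N55900 : Q := sm gf N54423
def N55901 : Q := sm gd N54425
def N55902 : Q := sm ge N54429
def N55903 : Q := sm gh N54430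
def N55904 : Q := sm gh N54432
def N55905 : Q := sm gd N54433
def N55906 : Q := sm gd N54434
def N55907 : Q := sm gh N54435
def N55908 : Q := sm gd N54436
def N55909 : Q := sm gc N54437
def N55910 : Q := sm ge N54437
def N55911 : Q := sm gh N54438
def N55912 : Q := sm gd N54439
def N55913 : Q := sm ge N54440
def N55914 : Q := sm gh N54443
def N55915 : Q := sm gd N54450
def N55916 : Q := sm ge N54451
def N55917 : Q := sm gh N54452
def N55918 : Q := sm gd N54453
def N55919 : Q := sm gd N54454
def N55920 : Q := sm ge N54455
def N55921 : Q := sm ge N54457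
def N55922 : Q := sm ge N54458
def N55923 : Q := sm gf N54459
def N55924 : Q := sm gf N54461
def N55925 : Q := sm ge N54464
def N55926 : Q := sm ge N54465
def N55927 : Q := sm gc N54470
def N55928 : Q := sm gd N54473
def N55929 : Q := sm gc N54476
def N55930 : Q := sm gb N54481
def N55931 : Q := sm gi N54483
def N55932 : Q := sm gh N54484
def N55933 : Q := sm gh N54486
def N55934 : Q := sm gd N54487
def N55935 : Q := sm gi N54489
def N55936 : Q := sm gh N54490
def N55937 : Q := sm gi N54492
def N55938 : Q := sm gh N54493
def N55939 : Q := sm gh N54495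
def N55940 : Q := sm gd N54496
def N55941 : Q := sm gh N54497
def N55942 : Q := sm gh N54499
def N55943 : Q := sm gi N54500
def N55944 : Q := sm gh N54501
def N55945 : Q := sm gh N54503
def N55946 : Q := sm gd N54505
def N55947 : Q := sm gc N54506
def N55948 : Q := sm gc N54510
def N55949 : Q := sm ge N54510
def N55950 : Q := sm gh N54512
def N55951 : Q := sm gd N54515
def N55952 : Q := sm gh N54517
def N55953 : Q := sm gh N54519
def N55954 : Q := sm gd N54520
def N55955 : Q := sm gh N54521
def N55956 : Q := sm gd N54522
def N55957 : Q := sm gd N54524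
def N55958 : Q := sm gd N54526
def N55959 : Q := sm gd N54527
def N55960 : Q := sm gi N54528
def N55961 : Q := sm gh N54529
def N55962 : Q := sm gd N54530
def N55963 : Q := sm gc N54531
def N55964 : Q := sm gh N54532
def N55965 : Q := sm gd N54533
def N55966 : Q := sm gc N54534
def N55967 : Q := sm ge N54534
def N55968 : Q := sm gb N54535
def N55969 : Q := sm ge N54540
def N55970 : Q := sm gb N54541
def N55971 : Q := sm ge N54541
def N55972 : Q := sm gf N54544
def N55973 : Q := sm gi N54544
def N55974 : Q := sm gh N54545
def N55975 : Q := sm ge N54546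
def N55976 : Q := sm gi N54546
def N55977 : Q := sm gd N54547
def N55978 : Q := sm gf N54547
def N55979 : Q := sm gi N54547
def N55980 : Q := sm gh N54548
def N55981 : Q := sm gi N54549
def N55982 : Q := sm gh N54550
def N55983 : Q := sm gi N54552
def N55984 : Q := sm gh N54553
def N55985 : Q := sm gd N54554
def N55986 : Q := sm gi N54554
def N55987 : Q := sm gh N54555
def N55988 : Q := sm gg N54556
def N55989 : Q := sm gi N54556
def N55990 : Q := sm gh N54557
def N55991 : Q := sm gh N54559
def N55992 : Q := sm gi N54559
def N55993 : Q := sm gh N54560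
def N55994 : Q := sm gd N54561
def N55995 : Q := sm gh N54562
def N55996 : Q := sm gd N54563
def N55997 : Q := sm gd N54564
def N55998 : Q := sm gi N54565
def N55999 : Q := sm gh N54566
def N56000 : Q := sm gd N54567
def N56001 : Q := sm ge N54568
def N56002 : Q := sm gd N54569
def N56003 : Q := sm gc N54570
def N56004 : Q := sm gh N54573
def N56005 : Q := sm gi N54575
def N56006 : Q := sm gh N54576
def N56007 : Q := sm gd N54577
def N56008 : Q := sm gi N54578
def N56009 : Q := sm gh N54579
def N56010 : Q := sm gd N54580
def N56011 : Q := sm gh N54581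
def N56012 : Q := sm gi N54581
def N56013 : Q := sm gh N54582
def N56014 : Q := sm gd N54583
def N56015 : Q := sm gh N54584
def N56016 : Q := sm gi N54584
def N56017 : Q := sm gi N54585
def N56018 : Q := sm gh N54586
def N56019 : Q := sm gh N54587
def N56020 : Q := sm gd N54588
def N56021 : Q := sm ge N54589
def N56022 : Q := sm gd N54590
def N56023 : Q := sm gc N54591
def N56024 : Q := sm gh N54592
def N56025 : Q := sm gd N54593
def N56026 : Q := sm ge N54594
def N56027 : Q := sm gh N54595
def N56028 : Q := sm gd N54596
def N56029 : Q := sm gc N54597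
def N56030 : Q := sm gd N54599
def N56031 : Q := sm gc N54600
def N56032 : Q := sm ge N54600
def N56033 : Q := sm gf N54601
def N56034 : Q := sm gc N54602
def N56035 : Q := sm ge N54602
def N56036 : Q := sm gb N54603
def N56037 : Q := sm gd N54607
def N56038 : Q := sm gc N54608
def N56039 : Q := sm ge N54608
def N56040 : Q := sm gb N54610
def N56041 : Q := sm ge N54610
def N56042 : Q := sm ge N54613
def N56043 : Q := sm gi N54614
def N56044 : Q := sm gh N54615
def N56045 : Q := sm gd N54616
def N56046 : Q := sm ge N54617
def N56047 : Q := sm gh N54618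
def N56048 : Q := sm gd N54619
def N56049 : Q := sm ge N54620
def N56050 : Q := sm gf N54621
def N56051 : Q := sm gf N54622
def N56052 : Q := sm gi N54624
def N56053 : Q := sm gh N54625
def N56054 : Q := sm gh N54626
def N56055 : Q := sm ge N54629
def N56056 : Q := sm gi N54629
def N56057 : Q := sm gf N54630
def N56058 : Q := sm gi N54630
def N56059 : Q := sm gh N54631
def N56060 : Q := sm gi N54632
def N56061 : Q := sm gh N54633
def N56062 : Q := sm gh N54634
def N56063 : Q := sm gi N54636
def N56064 : Q := sm gh N54637
def N56065 : Q := sm gd N54638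
def N56066 : Q := sm gh N54639
def N56067 : Q := sm gd N54640
def N56068 : Q := sm gd N54641
def N56069 : Q := sm gd N54643
def N56070 : Q := sm ge N54645
def N56071 : Q := sm gi N54646
def N56072 : Q := sm gh N54647
def N56073 : Q := sm gh N54649
def N56074 : Q := sm gi N54651
def N56075 : Q := sm gh N54652
def N56076 : Q := sm gd N54653
def N56077 : Q := sm gh N54654
def N56078 : Q := sm gd N54655
def N56079 : Q := sm gd N54657
def N56080 : Q := sm gi N54659
def N56081 : Q := sm gh N54660
def N56082 : Q := sm gd N54662
def N56083 : Q := sm gd N54663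
def N56084 : Q := sm ge N54664
def N56085 : Q := sm gi N54665
def N56086 : Q := sm gh N54666
def N56087 : Q := sm gd N54667
def N56088 : Q := sm gc N54668
def N56089 : Q := sm gh N54669
def N56090 : Q := sm gd N54670
def N56091 : Q := sm ge N54671
def N56092 : Q := sm gd N54672
def N56093 : Q := sm gd N54674
def N56094 : Q := sm ge N54675
def N56095 : Q := sm ge N54679
def N56096 : Q := sm gi N54679
def N56097 : Q := sm gd N54680
def N56098 : Q := sm gf N54680
def N56099 : Q := sm gi N54680
def N56100 : Q := sm gh N54681
def N56101 : Q := sm gg N54682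
def N56102 : Q := sm gi N54682
def N56103 : Q := sm gh N54683
def N56104 : Q := sm ge N54685
def N56105 : Q := sm gi N54685
def N56106 : Q := sm gi N54686
def N56107 : Q := sm gh N54687
def N56108 : Q := sm gi N54688
def N56109 : Q := sm gi N54689
def N56110 : Q := sm gh N54690
def N56111 : Q := sm gd N54691
def N56112 : Q := sm gh N54692
def N56113 : Q := sm gd N54693
def N56114 : Q := sm gg N54694
def N56115 : Q := sm gi N54694
def N56116 : Q := sm gh N54695
def N56117 : Q := sm gi N54697
def N56118 : Q := sm gh N54698
def N56119 : Q := sm gi N54699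
def N56120 : Q := sm gh N54700
def N56121 : Q := sm gd N54701
def N56122 : Q := sm gi N54702
def N56123 : Q := sm gh N54703
def N56124 : Q := sm gd N54704
def N56125 : Q := sm gi N54705
def N56126 : Q := sm gh N54706
def N56127 : Q := sm gd N54707
def N56128 : Q := sm gi N54708
def N56129 : Q := sm gi N54709
def N56130 : Q := sm gh N54710
def N56131 : Q := sm gh N54711
def N56132 : Q := sm gd N54712
def N56133 : Q := sm ge N54713
def N56134 : Q := sm gi N54714
def N56135 : Q := sm gh N54715
def N56136 : Q := sm gd N54716
def N56137 : Q := sm gc N54717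
def N56138 : Q := sm gd N54718
def N56139 : Q := sm ge N54719
def N56140 : Q := sm gh N54720
def N56141 : Q := sm gd N54721
def N56142 : Q := sm gc N54722
def N56143 : Q := sm gf N54725
def N56144 : Q := sm gh N54726
def N56145 : Q := sm gd N54727
def N56146 : Q := sm gc N54728
def N56147 : Q := sm ge N54728
def N56148 : Q := sm gd N54730
def N56149 : Q := sm gj N54732
def N56150 : Q := sm gi N54732
def N56151 : Q := sm gh N54733
def N56152 : Q := sm gd N54734
def N56153 : Q := sm gi N54735
def N56154 : Q := sm gh N54736
def N56155 : Q := sm gh N54737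
def N56156 : Q := sm gd N54738
def N56157 : Q := sm gd N54739
def N56158 : Q := sm ge N54740
def N56159 : Q := sm gi N54741
def N56160 : Q := sm gh N54742
def N56161 : Q := sm gd N54743
def N56162 : Q := sm gc N54744
def N56163 : Q := sm gi N54745
def N56164 : Q := sm gh N54746
def N56165 : Q := sm gd N54747
def N56166 : Q := sm gi N54748
def N56167 : Q := sm gh N54749
def N56168 : Q := sm gh N54750
def N56169 : Q := sm gd N54751
def N56170 : Q := sm ge N54752
def N56171 : Q := sm gh N54753
def N56172 : Q := sm gd N54754
def N56173 : Q := sm gi N54755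
def N56174 : Q := sm gh N54756
def N56175 : Q := sm gd N54757
def N56176 : Q := sm gc N54758
def N56177 : Q := sm ge N54758
def N56178 : Q := sm gf N54759
def N56179 : Q := sm gh N54760
def N56180 : Q := sm gd N54761
def N56181 : Q := sm gc N54762
def N56182 : Q := sm ge N54762
def N56183 : Q := sm gb N54763
def N56184 : Q := sm gd N54764
def N56185 : Q := sm ge N54765
def N56186 : Q := sm gf N54766
def N56187 : Q := sm gh N54767
def N56188 : Q := sm gd N54768
def N56189 : Q := sm gc N54769
def N56190 : Q := sm ge N54769
def N56191 : Q := sm gb N54770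
def N56192 : Q := sm gf N54773
def N56193 : Q := sm gh N54774
def N56194 : Q := sm gg N54776
def N56195 : Q := sm gd N54777
def N56196 : Q := sm ge N54778
def N56197 : Q := sm gb N54779
def N56198 : Q := sm ge N54779
def N56199 : Q := sm gd N54785
def N56200 : Q := sm ge N54786
def N56201 : Q := sm gb N54787
def N56202 : Q := sm ge N54787
def N56203 : Q := sm gc N54790
def N56204 : Q := sm ge N54790
def N56205 : Q := sm ge N54791
def N56206 : Q := sm ge N54793
def N56207 : Q := sm gd N54794
def N56208 : Q := sm ge N54797
def N56209 : Q := sm gf N54798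
def N56210 : Q := sm gh N54799
def N56211 : Q := sm gd N54800
def N56212 : Q := sm gh N54801
def N56213 : Q := sm gd N54802
def N56214 : Q := sm ge N54803
def N56215 : Q := sm gf N54804
def N56216 : Q := sm gd N54805
def N56217 : Q := sm ge N54806
def N56218 : Q := sm gf N54807
def N56219 : Q := sm gg N54808
def N56220 : Q := sm gg N54810
def N56221 : Q := sm gd N54815
def N56222 : Q := sm gd N54816
def N56223 : Q := sm gd N54820
def N56224 : Q := sm ge N54821
def N56225 : Q := sm gd N54822
def N56226 : Q := sm gc N54823
def N56227 : Q := sm gd N54832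
def N56228 : Q := sm ge N54834
def N56229 : Q := sm gc N54835
def N56230 : Q := sm gc N54837
def N56231 : Q := sm ge N54837
def N56232 : Q := sm gc N54838
def N56233 : Q := sm ge N54838
def N56234 : Q := sm ge N54845
def N56235 : Q := sm ge N54852
def N56236 : Q := sm gi N54858
def N56237 : Q := sm gh N54859
def N56238 : Q := sm gh N54860
def N56239 : Q := sm gi N54863
def N56240 : Q := sm gh N54864
def N56241 : Q := sm gi N54865
def N56242 : Q := sm gh N54866
def N56243 : Q := sm gi N54867
def N56244 : Q := sm gh N54868
def N56245 : Q := sm gd N54871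
def N56246 : Q := sm gh N54872
def N56247 : Q := sm gd N54873
def N56248 : Q := sm gi N54876
def N56249 : Q := sm gh N54877
def N56250 : Q := sm gh N54878
def N56251 : Q := sm gh N54880
def N56252 : Q := sm gd N54881
def N56253 : Q := sm gh N54882
def N56254 : Q := sm gd N54883
def N56255 : Q := sm gd N54885
def N56256 : Q := sm ge N54887
def N56257 : Q := sm ge N54888
def N56258 : Q := sm gd N54889
def N56259 : Q := sm gf N54889
def N56260 : Q := sm gi N54889
def N56261 : Q := sm gh N54890
def N56262 : Q := sm gi N54891
def N56263 : Q := sm gh N54892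
def N56264 : Q := sm gh N54894
def N56265 : Q := sm gi N54896
def N56266 : Q := sm gh N54897
def N56267 : Q := sm gi N54898
def N56268 : Q := sm gh N54899
def N56269 : Q := sm gd N54900
def N56270 : Q := sm gi N54901
def N56271 : Q := sm gh N54902
def N56272 : Q := sm gd N54903
def N56273 : Q := sm gd N54904
def N56274 : Q := sm ge N54905
def N56275 : Q := sm gh N54906
def N56276 : Q := sm gd N54907
def N56277 : Q := sm gc N54908
def N56278 : Q := sm gd N54911
def N56279 : Q := sm gh N54914
def N56280 : Q := sm gd N54916
def N56281 : Q := sm gh N54917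
def N56282 : Q := sm gd N54918
def N56283 : Q := sm gh N54919
def N56284 : Q := sm gd N54920
def N56285 : Q := sm ge N54921
def N56286 : Q := sm gh N54922
def N56287 : Q := sm gd N54923
def N56288 : Q := sm gc N54924
def N56289 : Q := sm gf N54926
def N56290 : Q := sm gd N54927
def N56291 : Q := sm gc N54928
def N56292 : Q := sm ge N54928
def N56293 : Q := sm ge N54932
def N56294 : Q := sm ge N54933
def N56295 : Q := sm ge N54935
def N56296 : Q := sm gd N54936
def N56297 : Q := sm ge N54937
def N56298 : Q := sm gf N54938
def N56299 : Q := sm gh N54940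
def N56300 : Q := sm gh N54942
def N56301 : Q := sm gd N54944
def N56302 : Q := sm gi N54944
def N56303 : Q := sm gh N54945
def N56304 : Q := sm gi N54946
def N56305 : Q := sm gh N54947
def N56306 : Q := sm gd N54948
def N56307 : Q := sm gd N54949
def N56308 : Q := sm gi N54952
def N56309 : Q := sm gh N54953
def N56310 : Q := sm gd N54954
def N56311 : Q := sm gf N54954
def N56312 : Q := sm gi N54954
def N56313 : Q := sm gh N54955
def N56314 : Q := sm gi N54956
def N56315 : Q := sm gh N54957
def N56316 : Q := sm gi N54959
def N56317 : Q := sm gh N54960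
def N56318 : Q := sm gh N54961
def N56319 : Q := sm gi N54963
def N56320 : Q := sm gh N54964
def N56321 : Q := sm gi N54965
def N56322 : Q := sm gi N54966
def N56323 : Q := sm gh N54967
def N56324 : Q := sm gd N54968
def N56325 : Q := sm gh N54969
def N56326 : Q := sm gd N54970
def N56327 : Q := sm gd N54972
def N56328 : Q := sm gh N54973
def N56329 : Q := sm ge N54975
def N56330 : Q := sm gd N54976
def N56331 : Q := sm gc N54977
def N56332 : Q := sm gh N54981
def N56333 : Q := sm gh N54983
def N56334 : Q := sm gi N54985
def N56335 : Q := sm gh N54986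
def N56336 : Q := sm gd N54987
def N56337 : Q := sm gh N54988
def N56338 : Q := sm gh N54989
def N56339 : Q := sm gd N54990
def N56340 : Q := sm gh N54991
def N56341 : Q := sm gd N54992
def N56342 : Q := sm ge N54993
def N56343 : Q := sm gd N54994
def N56344 : Q := sm gc N54995
def N56345 : Q := sm gc N54998
def N56346 : Q := sm ge N54998
def N56347 : Q := sm gd N54999
def N56348 : Q := sm gc N55000
def N56349 : Q := sm ge N55000
def N56350 : Q := sm gf N55001
def N56351 : Q := sm gc N55002
def N56352 : Q := sm ge N55002
def N56353 : Q := sm ge N55009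
def N56354 : Q := sm gc N55011
def N56355 : Q := sm ge N55011
def N56356 : Q := sm gf N55012
def N56357 : Q := sm gf N55014
def N56358 : Q := sm gd N55016
def N56359 : Q := sm gf N55016
def N56360 : Q := sm gi N55016
def N56361 : Q := sm gh N55017
def N56362 : Q := sm gi N55018
def N56363 : Q := sm gh N55019
def N56364 : Q := sm gi N55021
def N56365 : Q := sm gh N55022
def N56366 : Q := sm gh N55023
def N56367 : Q := sm gi N55023
def N56368 : Q := sm gi N55024
def N56369 : Q := sm gh N55025
def N56370 : Q := sm gd N55026
def N56371 : Q := sm gh N55027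
def N56372 : Q := sm gd N55028
def N56373 : Q := sm gh N55029
def N56374 : Q := sm gh N55031
def N56375 : Q := sm gi N55031
def N56376 : Q := sm gh N55032
def N56377 : Q := sm gd N55033
def N56378 : Q := sm gh N55034
def N56379 : Q := sm gd N55035
def N56380 : Q := sm gi N55036
def N56381 : Q := sm gh N55037
def N56382 : Q := sm gd N55038
def N56383 : Q := sm gi N55039
def N56384 : Q := sm gh N55040
def N56385 : Q := sm gh N55041
def N56386 : Q := sm gd N55042
def N56387 : Q := sm ge N55043
def N56388 : Q := sm gh N55044
def N56389 : Q := sm gd N55045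
def N56390 : Q := sm gc N55046
def N56391 : Q := sm gd N55048
def N56392 : Q := sm ge N55050
def N56393 : Q := sm gd N55051
def N56394 : Q := sm gf N55053
def N56395 : Q := sm gd N55054
def N56396 : Q := sm gc N55055
def N56397 : Q := sm ge N55055
def N56398 : Q := sm gh N55059
def N56399 : Q := sm gd N55060
def N56400 : Q := sm gh N55061
def N56401 : Q := sm gi N55061
def N56402 : Q := sm gi N55062
def N56403 : Q := sm gh N55063
def N56404 : Q := sm gh N55064
def N56405 : Q := sm gd N55065
def N56406 : Q := sm ge N55066
def N56407 : Q := sm gd N55067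
def N56408 : Q := sm gc N55068
def N56409 : Q := sm gi N55069
def N56410 : Q := sm gh N55070
def N56411 : Q := sm gi N55072
def N56412 : Q := sm gi N55073
def N56413 : Q := sm gh N55074
def N56414 : Q := sm gh N55075
def N56415 : Q := sm gd N55076
def N56416 : Q := sm ge N55077
def N56417 : Q := sm gi N55078
def N56418 : Q := sm gh N55079
def N56419 : Q := sm gh N55080
def N56420 : Q := sm gd N55081
def N56421 : Q := sm gh N55082
def N56422 : Q := sm gd N55083
def N56423 : Q := sm gc N55084
def N56424 : Q := sm ge N55084
def N56425 : Q := sm gf N55085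
def N56426 : Q := sm gh N55086
def N56427 : Q := sm gd N55087
def N56428 : Q := sm gc N55088
def N56429 : Q := sm ge N55088
def N56430 : Q := sm gb N55089
def N56431 : Q := sm gd N55090
def N56432 : Q := sm ge N55092
def N56433 : Q := sm gd N55093
def N56434 : Q := sm ge N55094
def N56435 : Q := sm gf N55095
def N56436 : Q := sm gd N55096
def N56437 : Q := sm gc N55097
def N56438 : Q := sm ge N55097
def N56439 : Q := sm gf N55099
def N56440 : Q := sm gg N55100
def N56441 : Q := sm ge N55102
def N56442 : Q := sm ge N55103
def N56443 : Q := sm ge N55109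
def N56444 : Q := sm ge N55111
def N56445 : Q := sm gd N55112
def N56446 : Q := sm gh N55113
def N56447 : Q := sm gd N55114
def N56448 : Q := sm ge N55115
def N56449 : Q := sm gh N55117
def N56450 : Q := sm gd N55118
def N56451 : Q := sm gh N55119
def N56452 : Q := sm gd N55120
def N56453 : Q := sm ge N55121
def N56454 : Q := sm gd N55123
def N56455 : Q := sm gc N55124
def N56456 : Q := sm ge N55124
def N56457 : Q := sm ge N55125
def N56458 : Q := sm gf N55126
def N56459 : Q := sm gh N55128
def N56460 : Q := sm gh N55130
def N56461 : Q := sm gd N55131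
def N56462 : Q := sm gd N55132
def N56463 : Q := sm gd N55133
def N56464 : Q := sm gh N55135
def N56465 : Q := sm gd N55137
def N56466 : Q := sm gd N55138
def N56467 : Q := sm gc N55139
def N56468 : Q := sm ge N55141
def N56469 : Q := sm gi N55143
def N56470 : Q := sm gh N55144
def N56471 : Q := sm gh N55146
def N56472 : Q := sm gd N55147
def N56473 : Q := sm gh N55148
def N56474 : Q := sm gd N55149
def N56475 : Q := sm gi N55150
def N56476 : Q := sm gh N55151
def N56477 : Q := sm gh N55153
def N56478 : Q := sm gd N55154
def N56479 : Q := sm gd N55155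
def N56480 : Q := sm gc N55156
def N56481 : Q := sm gd N55157
def N56482 : Q := sm ge N55159
def N56483 : Q := sm gh N55160
def N56484 : Q := sm gh N55162
def N56485 : Q := sm gd N55163
def N56486 : Q := sm gd N55164
def N56487 : Q := sm gd N55165
def N56488 : Q := sm gc N55166
def N56489 : Q := sm gd N55167
def N56490 : Q := sm gd N55168
def N56491 : Q := sm gd N55169
def N56492 : Q := sm gc N55170
def N56493 : Q := sm gh N55171
def N56494 : Q := sm gd N55172
def N56495 : Q := sm gc N55173
def N56496 : Q := sm ge N55173
def N56497 : Q := sm gb N55174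
def N56498 : Q := sm ge N55175
def N56499 : Q := sm gd N55176
def N56500 : Q := sm ge N55177
def N56501 : Q := sm ge N55178
def N56502 : Q := sm ge N55181
def N56503 : Q := sm ge N55183
def N56504 : Q := sm gd N55185
def N56505 : Q := sm gh N55186
def N56506 : Q := sm gd N55188
def N56507 : Q := sm gh N55189
def N56508 : Q := sm gh N55191
def N56509 : Q := sm gd N55192
def N56510 : Q := sm gd N55193
def N56511 : Q := sm gh N55194
def N56512 : Q := sm gd N55195
def N56513 : Q := sm ge N55196
def N56514 : Q := sm gc N55197
def N56515 : Q := sm gi N55199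
def N56516 : Q := sm gh N55200
def N56517 : Q := sm gi N55202
def N56518 : Q := sm gh N55203
def N56519 : Q := sm gd N55204
def N56520 : Q := sm gh N55205
def N56521 : Q := sm gd N55206
def N56522 : Q := sm gi N55207
def N56523 : Q := sm gh N55208
def N56524 : Q := sm gi N55210
def N56525 : Q := sm gh N55211
def N56526 : Q := sm gd N55212
def N56527 : Q := sm gd N55213
def N56528 : Q := sm gc N55214
def N56529 : Q := sm gh N55215
def N56530 : Q := sm gd N55216
def N56531 : Q := sm gc N55217
def N56532 : Q := sm gc N55218
def N56533 : Q := sm ge N55218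
def N56534 : Q := sm gi N55220
def N56535 : Q := sm gh N55221
def N56536 : Q := sm gh N55223
def N56537 : Q := sm gd N55224
def N56538 : Q := sm gi N55225
def N56539 : Q := sm gh N55226
def N56540 : Q := sm gi N55227
def N56541 : Q := sm gh N55228
def N56542 : Q := sm gd N55229
def N56543 : Q := sm gh N55230
def N56544 : Q := sm gd N55231
def N56545 : Q := sm gc N55232
def N56546 : Q := sm gi N55233
def N56547 : Q := sm gh N55234
def N56548 : Q := sm gd N55235
def N56549 : Q := sm gi N55236
def N56550 : Q := sm gh N55237
def N56551 : Q := sm gh N55238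
def N56552 : Q := sm gd N55239
def N56553 : Q := sm gd N55240
def N56554 : Q := sm gc N55241
def N56555 : Q := sm gc N55242
def N56556 : Q := sm ge N55242
def N56557 : Q := sm gb N55243
def N56558 : Q := sm gh N55244
def N56559 : Q := sm gd N55245
def N56560 : Q := sm gc N55246
def N56561 : Q := sm gd N55247
def N56562 : Q := sm gc N55248
def N56563 : Q := sm ge N55248
def N56564 : Q := sm gc N55250
def N56565 : Q := sm ge N55250
def N56566 : Q := sm ge N55252
def N56567 : Q := sm gc N55254
def N56568 : Q := sm ge N55254
def N56569 : Q := sm ge N55255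
def N56570 : Q := sm gd N55257
def N56571 : Q := sm gh N55259
def N56572 : Q := sm gh N55260
def N56573 : Q := sm gh N55263
def N56574 : Q := sm gi N55265
def N56575 : Q := sm gh N55266
def N56576 : Q := sm gi N55267
def N56577 : Q := sm gh N55268
def N56578 : Q := sm gd N55269
def N56579 : Q := sm gi N55270
def N56580 : Q := sm gh N55271
def N56581 : Q := sm gd N55272
def N56582 : Q := sm gi N55273
def N56583 : Q := sm gh N55274
def N56584 : Q := sm gi N55275
def N56585 : Q := sm gi N55276
def N56586 : Q := sm gh N55277
def N56587 : Q := sm gd N55278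
def N56588 : Q := sm gi N55279
def N56589 : Q := sm gi N55280
def N56590 : Q := sm gh N55281
def N56591 : Q := sm gi N55282
def N56592 : Q := sm gh N55283
def N56593 : Q := sm gd N55284
def N56594 : Q := sm ge N55285
def N56595 : Q := sm gh N55286
def N56596 : Q := sm gd N55287
def N56597 : Q := sm gc N55288
def N56598 : Q := sm gh N55289
def N56599 : Q := sm gi N55291
def N56600 : Q := sm gh N55292
def N56601 : Q := sm gd N55293
def N56602 : Q := sm gh N55294
def N56603 : Q := sm gi N55296
def N56604 : Q := sm gh N55297
def N56605 : Q := sm gd N55298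
def N56606 : Q := sm gi N55299
def N56607 : Q := sm gh N55300
def N56608 : Q := sm gd N55301
def N56609 : Q := sm gc N55302
def N56610 : Q := sm gh N55303
def N56611 : Q := sm gd N55304
def N56612 : Q := sm gi N55305
def N56613 : Q := sm gh N55306
def N56614 : Q := sm gh N55307
def N56615 : Q := sm gd N55308
def N56616 : Q := sm gh N55309
def N56617 : Q := sm gd N55310
def N56618 : Q := sm gc N55311
def N56619 : Q := sm gh N55312
def N56620 : Q := sm gd N55313
def N56621 : Q := sm gc N55314
def N56622 : Q := sm ge N55314
def N56623 : Q := sm gb N55315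
def N56624 : Q := sm gh N55316
def N56625 : Q := sm gd N55317
def N56626 : Q := sm gh N55319
def N56627 : Q := sm gd N55320
def N56628 : Q := sm gc N55321
def N56629 : Q := sm ge N55321
def N56630 : Q := sm gb N55322
def N56631 : Q := sm gh N55323
def N56632 : Q := sm ge N55325
def N56633 : Q := sm gd N55326
def N56634 : Q := sm gc N55327
def N56635 : Q := sm ge N55327
def N56636 : Q := sm gb N55328
def N56637 : Q := sm ge N55328
def N56638 : Q := sm gc N55332
def N56639 : Q := sm gh N55334
def N56640 : Q := sm gh N55336
def N56641 : Q := sm gi N55337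
def N56642 : Q := sm gh N55338
def N56643 : Q := sm gd N55339
def N56644 : Q := sm ge N55340
def N56645 : Q := sm gh N55341
def N56646 : Q := sm gd N55342
def N56647 : Q := sm gc N55343
def N56648 : Q := sm gh N55344
def N56649 : Q := sm gi N55346
def N56650 : Q := sm gh N55348
def N56651 : Q := sm gd N55349
def N56652 : Q := sm gi N55351
def N56653 : Q := sm gi N55352
def N56654 : Q := sm gh N55353
def N56655 : Q := sm gh N55354
def N56656 : Q := sm gd N55355
def N56657 : Q := sm gi N55356
def N56658 : Q := sm gh N55357
def N56659 : Q := sm gd N55358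
def N56660 : Q := sm gc N55359
def N56661 : Q := sm ge N55359
def N56662 : Q := sm gh N55361
def N56663 : Q := sm gd N55362
def N56664 : Q := sm gc N55363
def N56665 : Q := sm ge N55363
def N56666 : Q := sm gb N55364
def N56667 : Q := sm gd N55365
def N56668 : Q := sm gi N55366
def N56669 : Q := sm gh N55367
def N56670 : Q := sm gd N55368
def N56671 : Q := sm gh N55369
def N56672 : Q := sm gd N55370
def N56673 : Q := sm gc N55371
def N56674 : Q := sm ge N55371
def N56675 : Q := sm gi N55373
def N56676 : Q := sm gi N55374
def N56677 : Q := sm gh N55375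
def N56678 : Q := sm gh N55376
def N56679 : Q := sm gd N55377
def N56680 : Q := sm gd N55378
def N56681 : Q := sm gc N55379
def N56682 : Q := sm ge N55379
def N56683 : Q := sm gh N55380
def N56684 : Q := sm gd N55381
def N56685 : Q := sm gc N55382
def N56686 : Q := sm ge N55382
def N56687 : Q := sm gb N55383
def N56688 : Q := sm ge N55383
def N56689 : Q := sm gf N55384
def N56690 : Q := sm gd N55386
def N56691 : Q := sm gc N55387
def N56692 : Q := sm ge N55387
def N56693 : Q := sm gb N55388
def N56694 : Q := sm ge N55388
def N56695 : Q := sm ga N55390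
def N56696 : Q := sm gd N55391
def N56697 : Q := sm gh N55393
def N56698 : Q := sm gd N55394
def N56699 : Q := sm gc N55395
def N56700 : Q := sm ge N55395
def N56701 : Q := sm gd N55398
def N56702 : Q := sm gc N55399
def N56703 : Q := sm ge N55399
def N56704 : Q := sm gb N55400
def N56705 : Q := sm ge N55400
def N56706 : Q := sm ga N55402
def N56707 : Q := sm gh N55403
def N56708 : Q := sm ge N55405
def N56709 : Q := sm gd N55406
def N56710 : Q := sm ge N55407
def N56711 : Q := sm ge N55408
def N56712 : Q := sm gf N55409
def N56713 : Q := sm gc N55411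
def N56714 : Q := sm ge N55411
def N56715 : Q := sm ge N55412
def N56716 : Q := sm ga N55414
def N56717 : Q := sm ge N55414
def N56718 : Q := sm gd N55415
def N56719 : Q := sm ge N55418
def N56720 : Q := sm gf N55419
def N56721 : Q := sm gc N55421
def N56722 : Q := sm ge N55421
def N56723 : Q := sm gb N55422
def N56724 : Q := sm ge N55422
def N56725 : Q := sm gf N55423
def N56726 : Q := sm ga N55424
def N56727 : Q := sm ge N55424
def N56728 : Q := sm gd N55425
def N56729 : Q := sm ge N55427
def N56730 : Q := sm gd N55429
def N56731 : Q := sm ge N55430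
def N56732 : Q := sm gd N55431
def N56733 : Q := sm gh N55432
def N56734 : Q := sm gc N55434
def N56735 : Q := sm ge N55434
def N56736 : Q := sm ge N55435
def N56737 : Q := sm gf N55436
def N56738 : Q := sm gf N55437
def N56739 : Q := sm ge N55439
def N56740 : Q := sm gd N55442
def N56741 : Q := sm gc N55444
def N56742 : Q := sm ge N55444
def N56743 : Q := sm gf N55446
def N56744 : Q := sm ge N55449
def N56745 : Q := sm gd N55455
def N56746 : Q := sm gc N55456
def N56747 : Q := sm gd N55457
def N56748 : Q := sm gd N55458
def N56749 : Q := sm gc N55459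
def N56750 : Q := sm gc N55460
def N56751 : Q := sm gd N55461
def N56752 : Q := sm gd N55462
def N56753 : Q := sm gc N55463
def N56754 : Q := sm gh N55464
def N56755 : Q := sm gd N55465
def N56756 : Q := sm gh N55466
def N56757 : Q := sm gd N55467
def N56758 : Q := sm gh N55468
def N56759 : Q := sm gd N55469
def N56760 : Q := sm gc N55470
def N56761 : Q := sm gd N55471
def N56762 : Q := sm gc N55472
def N56763 : Q := sm gb N55473
def N56764 : Q := sm gd N55474
def N56765 : Q := sm gd N55476
def N56766 : Q := sm ge N55477
def N56767 : Q := sm gh N55479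
def N56768 : Q := sm gd N55480
def N56769 : Q := sm gd N55481
def N56770 : Q := sm gd N55482
def N56771 : Q := sm gc N55483
def N56772 : Q := sm gc N55484
def N56773 : Q := sm gh N55485
def N56774 : Q := sm gd N55487
def N56775 : Q := sm ge N55488
def N56776 : Q := sm gc N55489
def N56777 : Q := sm ge N55489
def N56778 : Q := sm gb N55491
def N56779 : Q := sm gg N55496
def N56780 : Q := sm gd N55497
def N56781 : Q := sm gc N55498
def N56782 : Q := sm gh N55499
def N56783 : Q := sm gd N55500
def N56784 : Q := sm ge N55501
def N56785 : Q := sm gc N55502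
def N56786 : Q := sm gi N55504
def N56787 : Q := sm gh N55505
def N56788 : Q := sm gh N55506
def N56789 : Q := sm gd N55507
def N56790 : Q := sm gh N55508
def N56791 : Q := sm gd N55509
def N56792 : Q := sm gh N55510
def N56793 : Q := sm gd N55511
def N56794 : Q := sm gi N55512
def N56795 : Q := sm gh N55513
def N56796 : Q := sm gh N55514
def N56797 : Q := sm gd N55515
def N56798 : Q := sm ge N55516
def N56799 : Q := sm gd N55517
def N56800 : Q := sm gc N55518
def N56801 : Q := sm gh N55519
def N56802 : Q := sm gd N55520
def N56803 : Q := sm ge N55521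
def N56804 : Q := sm gh N55522
def N56805 : Q := sm gd N55523
def N56806 : Q := sm gd N55524
def N56807 : Q := sm gc N55525
def N56808 : Q := sm ge N55525
def N56809 : Q := sm gf N55526
def N56810 : Q := sm gc N55527
def N56811 : Q := sm gb N55528
def N56812 : Q := sm ge N55529
def N56813 : Q := sm gd N55530
def N56814 : Q := sm gf N55532
def N56815 : Q := sm gf N55533
def N56816 : Q := sm ge N55534
def N56817 : Q := sm gd N55536
def N56818 : Q := sm ge N55537
def N56819 : Q := sm ge N55538
def N56820 : Q := sm gd N55539
def N56821 : Q := sm ge N55540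
def N56822 : Q := sm gf N55541
def N56823 : Q := sm gd N55542
def N56824 : Q := sm gc N55543
def N56825 : Q := sm ge N55543
def N56826 : Q := sm gf N55544
def N56827 : Q := sm ge N55545
def N56828 : Q := sm gf N55546
def N56829 : Q := sm gf N55548
def N56830 : Q := sm gg N55549
def N56831 : Q := sm gh N55551
def N56832 : Q := sm gh N55552
def N56833 : Q := sm gd N55553
def N56834 : Q := sm gh N55554
def N56835 : Q := sm gd N55555
def N56836 : Q := sm ge N55556
def N56837 : Q := sm gc N55557
def N56838 : Q := sm gi N55558
def N56839 : Q := sm gh N55559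
def N56840 : Q := sm gd N55560
def N56841 : Q := sm gd N55561
def N56842 : Q := sm gi N55562
def N56843 : Q := sm gh N55563
def N56844 : Q := sm gd N55564
def N56845 : Q := sm gi N55565
def N56846 : Q := sm gh N55566
def N56847 : Q := sm gd N55567
def N56848 : Q := sm ge N55568
def N56849 : Q := sm gc N55569
def N56850 : Q := sm gh N55570
def N56851 : Q := sm gh N55571
def N56852 : Q := sm gd N55572
def N56853 : Q := sm ge N55573
def N56854 : Q := sm gh N55574
def N56855 : Q := sm gh N55575
def N56856 : Q := sm gd N55576
def N56857 : Q := sm gd N55577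
def N56858 : Q := sm gc N55578
def N56859 : Q := sm ge N55578
def N56860 : Q := sm gd N55580
def N56861 : Q := sm gc N55581
def N56862 : Q := sm gb N55582
def N56863 : Q := sm gh N55585
def N56864 : Q := sm gd N55586
def N56865 : Q := sm ge N55587
def N56866 : Q := sm gd N55588
def N56867 : Q := sm gc N55589
def N56868 : Q := sm gh N55590
def N56869 : Q := sm gd N55591
def N56870 : Q := sm ge N55592
def N56871 : Q := sm gi N55593
def N56872 : Q := sm gh N55594
def N56873 : Q := sm gh N55595
def N56874 : Q := sm gd N55596
def N56875 : Q := sm gd N55597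
def N56876 : Q := sm gc N55598
def N56877 : Q := sm ge N55598
def N56878 : Q := sm gf N55599
def N56879 : Q := sm gc N55600
def N56880 : Q := sm gb N55601
def N56881 : Q := sm gh N55602
def N56882 : Q := sm gd N55603
def N56883 : Q := sm gh N55604
def N56884 : Q := sm gh N55605
def N56885 : Q := sm gd N55606
def N56886 : Q := sm gh N55607
def N56887 : Q := sm gd N55608
def N56888 : Q := sm gc N55609
def N56889 : Q := sm ge N55609
def N56890 : Q := sm gh N55611
def N56891 : Q := sm gh N55612
def N56892 : Q := sm gd N55613
def N56893 : Q := sm gd N55614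
def N56894 : Q := sm gc N55615
def N56895 : Q := sm ge N55615
def N56896 : Q := sm gh N55616
def N56897 : Q := sm gd N55617
def N56898 : Q := sm gc N55618
def N56899 : Q := sm ge N55618
def N56900 : Q := sm gb N55619
def N56901 : Q := sm ge N55619
def N56902 : Q := sm gf N55620
def N56903 : Q := sm gd N55622
def N56904 : Q := sm gc N55623
def N56905 : Q := sm gb N55624
def N56906 : Q := sm ga N55625
def N56907 : Q := sm gh N55626
def N56908 : Q := sm gd N55627
def N56909 : Q := sm gd N55628
def N56910 : Q := sm ge N55630
def N56911 : Q := sm gg N55631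
def N56912 : Q := sm gd N55632
def N56913 : Q := sm ge N55635
def N56914 : Q := sm gd N55636
def N56915 : Q := sm ge N55637
def N56916 : Q := sm gf N55641
def N56917 : Q := sm gd N55643
def N56918 : Q := sm ge N55644
def N56919 : Q := sm gf N55645
def N56920 : Q := sm gg N55646
def N56921 : Q := sm gd N55647
def N56922 : Q := sm ge N55648
def N56923 : Q := sm ge N55650
def N56924 : Q := sm gf N55651
def N56925 : Q := sm gd N55658
def N56926 : Q := sm gd N55659
def N56927 : Q := sm gd N55660
def N56928 : Q := sm ge N55661
def N56929 : Q := sm gc N55662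
def N56930 : Q := sm gf N55663
def N56931 : Q := sm ge N55664
def N56932 : Q := sm gf N55665
def N56933 : Q := sm gi N55667
def N56934 : Q := sm gh N55668
def N56935 : Q := sm gd N55669
def N56936 : Q := sm ge N55670
def N56937 : Q := sm gc N55671
def N56938 : Q := sm gf N55672
def N56939 : Q := sm gc N55673
def N56940 : Q := sm gi N55674
def N56941 : Q := sm gh N55675
def N56942 : Q := sm gh N55676
def N56943 : Q := sm gd N55677
def N56944 : Q := sm gd N55678
def N56945 : Q := sm gc N55679
def N56946 : Q := sm ge N55679
def N56947 : Q := sm gf N55680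
def N56948 : Q := sm gc N55681
def N56949 : Q := sm gb N55682
def N56950 : Q := sm ge N55683
def N56951 : Q := sm gf N55684
def N56952 : Q := sm gg N55685
def N56953 : Q := sm gd N55687
def N56954 : Q := sm ge N55688
def N56955 : Q := sm gf N55689
def N56956 : Q := sm gg N55690
def N56957 : Q := sm gh N55692
def N56958 : Q := sm gd N55693
def N56959 : Q := sm ge N55694
def N56960 : Q := sm gc N55695
def N56961 : Q := sm gd N55696
def N56962 : Q := sm gc N55697
def N56963 : Q := sm gc N55698
def N56964 : Q := sm ge N55698
def N56965 : Q := sm gf N55699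
def N56966 : Q := sm gb N55700
def N56967 : Q := sm gd N55703
def N56968 : Q := sm ge N55704
def N56969 : Q := sm gh N55705
def N56970 : Q := sm gd N55706
def N56971 : Q := sm gc N55707
def N56972 : Q := sm ge N55707
def N56973 : Q := sm gf N55708
def N56974 : Q := sm gb N55709
def N56975 : Q := sm gf N55710
def N56976 : Q := sm gd N55712
def N56977 : Q := sm ge N55713
def N56978 : Q := sm gd N55714
def N56979 : Q := sm gc N55715
def N56980 : Q := sm gd N55716
def N56981 : Q := sm ge N55717
def N56982 : Q := sm gc N55718
def N56983 : Q := sm ge N55718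
def N56984 : Q := sm gb N55720
def N56985 : Q := sm gd N55721
def N56986 : Q := sm ge N55722
def N56987 : Q := sm gd N55723
def N56988 : Q := sm gd N55724
def N56989 : Q := sm gc N55725
def N56990 : Q := sm ge N55725
def N56991 : Q := sm gf N55726
def N56992 : Q := sm gd N55727
def N56993 : Q := sm gc N55728
def N56994 : Q := sm ge N55728
def N56995 : Q := sm gd N55729
def N56996 : Q := sm gc N55730
def N56997 : Q := sm ge N55730
def N56998 : Q := sm gb N55731
def N56999 : Q := sm ge N55731
def N57000 : Q := sm gf N55732
def N57001 : Q := sm gg N55733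
def N57002 : Q := sm gc N55735
def N57003 : Q := sm gb N55736
def N57004 : Q := sm ga N55737
def N57005 : Q := sm ge N55743
def N57006 : Q := sm ge N55746
def N57007 : Q := sm gh N55749
def N57008 : Q := sm gd N55750
def N57009 : Q := sm gc N55751
def N57010 : Q := sm gb N55752
def N57011 : Q := sm gc N55753
def N57012 : Q := sm gd N55754
def N57013 : Q := sm gc N55755
def N57014 : Q := sm gc N55756
def N57015 : Q := sm gb N55757
def N57016 : Q := sm gh N55758
def N57017 : Q := sm gd N55759
def N57018 : Q := sm gh N55760
def N57019 : Q := sm gd N55761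
def N57020 : Q := sm gc N55762
def N57021 : Q := sm gh N55763
def N57022 : Q := sm gd N55764
def N57023 : Q := sm gh N55765
def N57024 : Q := sm gd N55766
def N57025 : Q := sm gd N55767
def N57026 : Q := sm gc N55768
def N57027 : Q := sm gd N55769
def N57028 : Q := sm gc N55770
def N57029 : Q := sm gb N55771
def N57030 : Q := sm gh N55772
def N57031 : Q := sm gd N55773
def N57032 : Q := sm gd N55774
def N57033 : Q := sm gc N55775
def N57034 : Q := sm gd N55776
def N57035 : Q := sm gc N55777
def N57036 : Q := sm gc N55778
def N57037 : Q := sm ge N55778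
def N57038 : Q := sm gb N55779
def N57039 : Q := sm gb N55780
def N57040 : Q := sm ga N55781
def N57041 : Q := sm gd N55782
def N57042 : Q := sm ge N55784
def N57043 : Q := sm ge N55785
def N57044 : Q := sm gd N55787
def N57045 : Q := sm ge N55788
def N57046 : Q := sm gc N55789
def N57047 : Q := sm gc N55790
def N57048 : Q := sm gb N55791
def N57049 : Q := sm gd N55792
def N57050 : Q := sm gd N55793
def N57051 : Q := sm gc N55794
def N57052 : Q := sm gd N55795
def N57053 : Q := sm gc N55796
def N57054 : Q := sm gb N55797
def N57055 : Q := sm gd N55798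
def N57056 : Q := sm gd N55799
def N57057 : Q := sm gc N55800
def N57058 : Q := sm gd N55801
def N57059 : Q := sm gc N55802
def N57060 : Q := sm gb N55803
def N57061 : Q := sm ga N55804
def N57062 : Q := sm gh N55805
def N57063 : Q := sm gd N55806
def N57064 : Q := sm gh N55807
def N57065 : Q := sm gd N55808
def N57066 : Q := sm gc N55809
def N57067 : Q := sm ge N55809
def N57068 : Q := sm gh N55810
def N57069 : Q := sm gd N55811
def N57070 : Q := sm gc N55812
def N57071 : Q := sm ge N55812
def N57072 : Q := sm gb N55814
def N57073 : Q := sm gh N55815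
def N57074 : Q := sm gd N55816
def N57075 : Q := sm gd N55817
def N57076 : Q := sm gc N55818
def N57077 : Q := sm gd N55819
def N57078 : Q := sm gd N55820
def N57079 : Q := sm gc N55821
def N57080 : Q := sm gb N55822
def N57081 : Q := sm gd N55823
def N57082 : Q := sm gh N55824
def N57083 : Q := sm gh N55825
def N57084 : Q := sm gd N55826
def N57085 : Q := sm gd N55827
def N57086 : Q := sm gc N55828
def N57087 : Q := sm gi N55829
def N57088 : Q := sm gh N55830
def N57089 : Q := sm gh N55831
def N57090 : Q := sm gd N55832
def N57091 : Q := sm gd N55833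
def N57092 : Q := sm gc N55834
def N57093 : Q := sm gh N55835
def N57094 : Q := sm gd N55836
def N57095 : Q := sm gc N55837
def N57096 : Q := sm ge N55837
def N57097 : Q := sm gb N55838
def N57098 : Q := sm gd N55839
def N57099 : Q := sm gc N55840
def N57100 : Q := sm gb N55841
def N57101 : Q := sm ga N55842
def N57102 : Q := sm gc N55843
def N57103 : Q := sm gc N55844
def N57104 : Q := sm ge N55844
def N57105 : Q := sm gd N55846
def N57106 : Q := sm ge N55847
def N57107 : Q := sm gd N55850
def N57108 : Q := sm gc N55851
def N57109 : Q := sm gd N55852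
def N57110 : Q := sm gc N55853
def N57111 : Q := sm ge N55853
def N57112 : Q := sm gb N55854
def N57113 : Q := sm gd N55855
def N57114 : Q := sm gc N55856
def N57115 : Q := sm gc N55857
def N57116 : Q := sm gc N55858
def N57117 : Q := sm ge N55858
def N57118 : Q := sm gb N55859
def N57119 : Q := sm ge N55859
def N57120 : Q := sm gf N55860
def N57121 : Q := sm gg N55861
def N57122 : Q := sm gd N55862
def N57123 : Q := sm gc N55863
def N57124 : Q := sm gb N55864
def N57125 : Q := sm ga N55865
def N57126 : Q := sm gd N55866
def N57127 : Q := sm gc N55867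
def N57128 : Q := sm gd N55869
def N57129 : Q := sm gc N55870
def N57130 : Q := sm ge N55870
def N57131 : Q := sm gb N55871
def N57132 : Q := sm gh N55872
def N57133 : Q := sm gd N55873
def N57134 : Q := sm gd N55874
def N57135 : Q := sm gc N55875
def N57136 : Q := sm ge N55875
def N57137 : Q := sm gc N55876
def N57138 : Q := sm gb N55877
def N57139 : Q := sm gd N55878
def N57140 : Q := sm gc N55879
def N57141 : Q := sm ge N55879
def N57142 : Q := sm gb N55880
def N57143 : Q := sm ge N55880
def N57144 : Q := sm gf N55881
def N57145 : Q := sm ga N55882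
def N57146 : Q := sm ge N55882
def N57147 : Q := sm gf N55883
def N57148 : Q := sm gc N55885
def N57149 : Q := sm gb N55886
def N57150 : Q := sm ga N55887
def N57151 : Q := sm gc N55890
def N57152 : Q := sm ge N55890
def N57153 : Q := sm gf N55892
def N57154 : Q := sm gg N55893
def N57155 : Q := sm ge N55895
def N57156 : Q := sm ge N55896
def N57157 : Q := sm ge N55898
def N57158 : Q := sm gd N55904
def N57159 : Q := sm ge N55906
def N57160 : Q := sm gd N55907
def N57161 : Q := sm ge N55908
def N57162 : Q := sm ge N55909
def N57163 : Q := sm gd N55911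
def N57164 : Q := sm ge N55912
def N57165 : Q := sm gd N55914
def N57166 : Q := sm ge N55915
def N57167 : Q := sm gd N55917
def N57168 : Q := sm ge N55918
def N57169 : Q := sm ge N55919
def N57170 : Q := sm gf N55921
def N57171 : Q := sm gf N55922
def N57172 : Q := sm gh N55931
def N57173 : Q := sm gd N55932
def N57174 : Q := sm gd N55933
def N57175 : Q := sm gh N55935
def N57176 : Q := sm gd N55936
def N57177 : Q := sm gh N55937
def N57178 : Q := sm gd N55938
def N57179 : Q := sm gd N55939
def N57180 : Q := sm gc N55940
def N57181 : Q := sm gh N55943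
def N57182 : Q := sm gc N55946
def N57183 : Q := sm ge N55946
def N57184 : Q := sm ge N55948
def N57185 : Q := sm gd N55950
def N57186 : Q := sm gc N55951
def N57187 : Q := sm gd N55952
def N57188 : Q := sm gd N55953
def N57189 : Q := sm gc N55954
def N57190 : Q := sm gd N55955
def N57191 : Q := sm ge N55956
def N57192 : Q := sm gc N55958
def N57193 : Q := sm gc N55959
def N57194 : Q := sm gh N55960
def N57195 : Q := sm gd N55961
def N57196 : Q := sm gc N55962
def N57197 : Q := sm ge N55962
def N57198 : Q := sm gb N55963
def N57199 : Q := sm ge N55965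
def N57200 : Q := sm gb N55966
def N57201 : Q := sm ge N55966
def N57202 : Q := sm ge N55970
def N57203 : Q := sm gd N55971
def N57204 : Q := sm gi N55972
def N57205 : Q := sm gh N55973
def N57206 : Q := sm gi N55975
def N57207 : Q := sm gh N55976
def N57208 : Q := sm gi N55977
def N57209 : Q := sm gi N55978
def N57210 : Q := sm gh N55979
def N57211 : Q := sm gd N55980
def N57212 : Q := sm gh N55981
def N57213 : Q := sm gd N55982
def N57214 : Q := sm gh N55983
def N57215 : Q := sm gi N55985
def N57216 : Q := sm gh N55986
def N57217 : Q := sm gd N55987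
def N57218 : Q := sm gi N55988
def N57219 : Q := sm gh N55989
def N57220 : Q := sm gd N55990
def N57221 : Q := sm gi N55991
def N57222 : Q := sm gh N55992
def N57223 : Q := sm gd N55993
def N57224 : Q := sm ge N55994
def N57225 : Q := sm gd N55995
def N57226 : Q := sm gc N55996
def N57227 : Q := sm ge N55997
def N57228 : Q := sm gh N55998
def N57229 : Q := sm gd N55999
def N57230 : Q := sm gc N56000
def N57231 : Q := sm gf N56001
def N57232 : Q := sm gc N56002
def N57233 : Q := sm ge N56002
def N57234 : Q := sm gd N56004
def N57235 : Q := sm gh N56005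
def N57236 : Q := sm gd N56006
def N57237 : Q := sm ge N56007
def N57238 : Q := sm gh N56008
def N57239 : Q := sm gd N56009
def N57240 : Q := sm gc N56010
def N57241 : Q := sm gi N56011
def N57242 : Q := sm gh N56012
def N57243 : Q := sm gd N56013
def N57244 : Q := sm ge N56014
def N57245 : Q := sm gi N56015
def N57246 : Q := sm gh N56016
def N57247 : Q := sm gh N56017
def N57248 : Q := sm gd N56018
def N57249 : Q := sm gd N56019
def N57250 : Q := sm gc N56020
def N57251 : Q := sm ge N56020
def N57252 : Q := sm gf N56021
def N57253 : Q := sm gc N56022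
def N57254 : Q := sm ge N56022
def N57255 : Q := sm gb N56023
def N57256 : Q := sm gd N56024
def N57257 : Q := sm gc N56025
def N57258 : Q := sm ge N56025
def N57259 : Q := sm gf N56026
def N57260 : Q := sm gd N56027
def N57261 : Q := sm gc N56028
def N57262 : Q := sm ge N56028
def N57263 : Q := sm gc N56030
def N57264 : Q := sm ge N56030
def N57265 : Q := sm gf N56032
def N57266 : Q := sm gg N56033
def N57267 : Q := sm ge N56034
def N57268 : Q := sm gc N56037
def N57269 : Q := sm ge N56037
def N57270 : Q := sm ge N56038
def N57271 : Q := sm ge N56040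
def N57272 : Q := sm gd N56041
def N57273 : Q := sm gf N56042
def N57274 : Q := sm gh N56043
def N57275 : Q := sm gd N56044
def N57276 : Q := sm ge N56045
def N57277 : Q := sm gd N56047
def N57278 : Q := sm ge N56048
def N57279 : Q := sm gf N56049
def N57280 : Q := sm gg N56051
def N57281 : Q := sm gh N56052
def N57282 : Q := sm gd N56054
def N57283 : Q := sm gi N56055
def N57284 : Q := sm gh N56056
def N57285 : Q := sm gi N56057
def N57286 : Q := sm gh N56058
def N57287 : Q := sm gh N56060
def N57288 : Q := sm gd N56061
def N57289 : Q := sm gd N56062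
def N57290 : Q := sm gh N56063
def N57291 : Q := sm gd N56064
def N57292 : Q := sm ge N56065
def N57293 : Q := sm gd N56066
def N57294 : Q := sm gc N56067
def N57295 : Q := sm ge N56069
def N57296 : Q := sm gh N56071
def N57297 : Q := sm gd N56072
def N57298 : Q := sm gd N56073
def N57299 : Q := sm gh N56074
def N57300 : Q := sm gd N56075
def N57301 : Q := sm ge N56076
def N57302 : Q := sm gd N56077
def N57303 : Q := sm gc N56078
def N57304 : Q := sm ge N56079
def N57305 : Q := sm gh N56080
def N57306 : Q := sm gd N56081
def N57307 : Q := sm gc N56082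
def N57308 : Q := sm gc N56083
def N57309 : Q := sm ge N56083
def N57310 : Q := sm gh N56085
def N57311 : Q := sm gd N56086
def N57312 : Q := sm gc N56087
def N57313 : Q := sm ge N56087
def N57314 : Q := sm gb N56088
def N57315 : Q := sm gd N56089
def N57316 : Q := sm ge N56090
def N57317 : Q := sm ge N56093
def N57318 : Q := sm gi N56095
def N57319 : Q := sm gh N56096
def N57320 : Q := sm gi N56097
def N57321 : Q := sm gi N56098
def N57322 : Q := sm gh N56099
def N57323 : Q := sm gd N56100
def N57324 : Q := sm gi N56101
def N57325 : Q := sm gh N56102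
def N57326 : Q := sm gd N56103
def N57327 : Q := sm gi N56104
def N57328 : Q := sm gh N56105
def N57329 : Q := sm gh N56106
def N57330 : Q := sm gd N56107
def N57331 : Q := sm gh N56108
def N57332 : Q := sm gh N56109
def N57333 : Q := sm gd N56110
def N57334 : Q := sm ge N56111
def N57335 : Q := sm gd N56112
def N57336 : Q := sm gc N56113
def N57337 : Q := sm gi N56114
def N57338 : Q := sm gh N56115
def N57339 : Q := sm gd N56116
def N57340 : Q := sm gh N56117
def N57341 : Q := sm gd N56118
def N57342 : Q := sm gh N56119
def N57343 : Q := sm gd N56120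
def N57344 : Q := sm ge N56121
def N57345 : Q := sm gh N56122
def N57346 : Q := sm gd N56123
def N57347 : Q := sm gc N56124
def N57348 : Q := sm gh N56125
def N57349 : Q := sm gd N56126
def N57350 : Q := sm ge N56127
def N57351 : Q := sm gh N56128
def N57352 : Q := sm gh N56129
def N57353 : Q := sm gd N56130
def N57354 : Q := sm gd N56131
def N57355 : Q := sm gc N56132
def N57356 : Q := sm ge N56132
def N57357 : Q := sm gf N56133
def N57358 : Q := sm gh N56134
def N57359 : Q := sm gd N56135
def N57360 : Q := sm gc N56136
def N57361 : Q := sm ge N56136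
def N57362 : Q := sm gb N56137
def N57363 : Q := sm gf N56139
def N57364 : Q := sm gd N56140
def N57365 : Q := sm gc N56141
def N57366 : Q := sm ge N56141
def N57367 : Q := sm gd N56144
def N57368 : Q := sm ge N56145
def N57369 : Q := sm ge N56146
def N57370 : Q := sm gi N56149
def N57371 : Q := sm gh N56150
def N57372 : Q := sm gd N56151
def N57373 : Q := sm gc N56152
def N57374 : Q := sm gh N56153
def N57375 : Q := sm gd N56154
def N57376 : Q := sm gd N56155
def N57377 : Q := sm ge N56156
def N57378 : Q := sm gc N56157
def N57379 : Q := sm ge N56157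
def N57380 : Q := sm gf N56158
def N57381 : Q := sm gh N56159
def N57382 : Q := sm gd N56160
def N57383 : Q := sm gc N56161
def N57384 : Q := sm ge N56161
def N57385 : Q := sm gb N56162
def N57386 : Q := sm gh N56163
def N57387 : Q := sm gd N56164
def N57388 : Q := sm ge N56165
def N57389 : Q := sm gh N56166
def N57390 : Q := sm gd N56167
def N57391 : Q := sm gd N56168
def N57392 : Q := sm gc N56169
def N57393 : Q := sm ge N56169
def N57394 : Q := sm gf N56170
def N57395 : Q := sm gd N56171
def N57396 : Q := sm gc N56172
def N57397 : Q := sm ge N56172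
def N57398 : Q := sm gh N56173
def N57399 : Q := sm gd N56174
def N57400 : Q := sm gc N56175
def N57401 : Q := sm gb N56176
def N57402 : Q := sm ge N56176
def N57403 : Q := sm gf N56177
def N57404 : Q := sm gg N56178
def N57405 : Q := sm gd N56179
def N57406 : Q := sm gc N56180
def N57407 : Q := sm ge N56180
def N57408 : Q := sm gb N56181
def N57409 : Q := sm ge N56181
def N57410 : Q := sm ga N56183
def N57411 : Q := sm gf N56185
def N57412 : Q := sm gg N56186
def N57413 : Q := sm gd N56187
def N57414 : Q := sm ge N56188
def N57415 : Q := sm gb N56189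
def N57416 : Q := sm ge N56189
def N57417 : Q := sm ge N56195
def N57418 : Q := sm ge N56197
def N57419 : Q := sm gd N56198
def N57420 : Q := sm ge N56199
def N57421 : Q := sm gf N56200
def N57422 : Q := sm ge N56201
def N57423 : Q := sm ge N56203
def N57424 : Q := sm gd N56205
def N57425 : Q := sm gd N56206
def N57426 : Q := sm gh N56207
def N57427 : Q := sm gd N56212
def N57428 : Q := sm ge N56213
def N57429 : Q := sm ge N56216
def N57430 : Q := sm gf N56217
def N57431 : Q := sm gg N56218
def N57432 : Q := sm gh N56236
def N57433 : Q := sm gd N56238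
def N57434 : Q := sm gh N56239
def N57435 : Q := sm gh N56241
def N57436 : Q := sm gd N56242
def N57437 : Q := sm gh N56243
def N57438 : Q := sm gd N56244
def N57439 : Q := sm gd N56246
def N57440 : Q := sm gh N56248
def N57441 : Q := sm gd N56250
def N57442 : Q := sm gd N56251
def N57443 : Q := sm ge N56252
def N57444 : Q := sm gd N56253
def N57445 : Q := sm gc N56254
def N57446 : Q := sm ge N56255
def N57447 : Q := sm gi N56258
def N57448 : Q := sm gi N56259
def N57449 : Q := sm gh N56260
def N57450 : Q := sm gd N56261
def N57451 : Q := sm gh N56262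
def N57452 : Q := sm gd N56263
def N57453 : Q := sm gd N56264
def N57454 : Q := sm gh N56265
def N57455 : Q := sm gd N56266
def N57456 : Q := sm gh N56267
def N57457 : Q := sm gd N56268
def N57458 : Q := sm ge N56269
def N57459 : Q := sm gh N56270
def N57460 : Q := sm gd N56271
def N57461 : Q := sm gc N56272
def N57462 : Q := sm gf N56274
def N57463 : Q := sm gd N56275
def N57464 : Q := sm gc N56276
def N57465 : Q := sm ge N56276
def N57466 : Q := sm gd N56279
def N57467 : Q := sm gc N56280
def N57468 : Q := sm gd N56281
def N57469 : Q := sm ge N56282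
def N57470 : Q := sm gd N56283
def N57471 : Q := sm gc N56284
def N57472 : Q := sm ge N56284
def N57473 : Q := sm gf N56285
def N57474 : Q := sm gd N56286
def N57475 : Q := sm gc N56287
def N57476 : Q := sm ge N56287
def N57477 : Q := sm gb N56288
def N57478 : Q := sm ge N56290
def N57479 : Q := sm ge N56291
def N57480 : Q := sm ge N56296
def N57481 : Q := sm gd N56299
def N57482 : Q := sm gd N56300
def N57483 : Q := sm gi N56301
def N57484 : Q := sm gh N56302
def N57485 : Q := sm gh N56304
def N57486 : Q := sm gd N56305
def N57487 : Q := sm ge N56306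
def N57488 : Q := sm gc N56307
def N57489 : Q := sm gh N56308
def N57490 : Q := sm gi N56310
def N57491 : Q := sm gi N56311
def N57492 : Q := sm gh N56312
def N57493 : Q := sm gd N56313
def N57494 : Q := sm gh N56314
def N57495 : Q := sm gd N56315
def N57496 : Q := sm gh N56316
def N57497 : Q := sm gd N56318
def N57498 : Q := sm gh N56319
def N57499 : Q := sm gd N56320
def N57500 : Q := sm gh N56321
def N57501 : Q := sm gh N56322
def N57502 : Q := sm gd N56323
def N57503 : Q := sm ge N56324
def N57504 : Q := sm gd N56325
def N57505 : Q := sm gc N56326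
def N57506 : Q := sm gf N56329
def N57507 : Q := sm gc N56330
def N57508 : Q := sm ge N56330
def N57509 : Q := sm gd N56332
def N57510 : Q := sm gd N56333
def N57511 : Q := sm gh N56334
def N57512 : Q := sm gd N56335
def N57513 : Q := sm gc N56336
def N57514 : Q := sm gd N56338
def N57515 : Q := sm gc N56339
def N57516 : Q := sm ge N56339
def N57517 : Q := sm gd N56340
def N57518 : Q := sm gc N56341
def N57519 : Q := sm ge N56341
def N57520 : Q := sm gf N56342
def N57521 : Q := sm gc N56343
def N57522 : Q := sm ge N56343
def N57523 : Q := sm gb N56344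
def N57524 : Q := sm gf N56346
def N57525 : Q := sm gc N56347
def N57526 : Q := sm ge N56347
def N57527 : Q := sm gf N56349
def N57528 : Q := sm ge N56351
def N57529 : Q := sm gd N56353
def N57530 : Q := sm ge N56354
def N57531 : Q := sm gf N56355
def N57532 : Q := sm gi N56358
def N57533 : Q := sm gi N56359
def N57534 : Q := sm gh N56360
def N57535 : Q := sm gd N56361
def N57536 : Q := sm gh N56362
def N57537 : Q := sm gd N56363
def N57538 : Q := sm gh N56364
def N57539 : Q := sm gd N56365
def N57540 : Q := sm gi N56366
def N57541 : Q := sm gh N56367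
def N57542 : Q := sm gh N56368
def N57543 : Q := sm gd N56369
def N57544 : Q := sm ge N56370
def N57545 : Q := sm gd N56371
def N57546 : Q := sm gc N56372
def N57547 : Q := sm gd N56373
def N57548 : Q := sm gi N56374
def N57549 : Q := sm gh N56375
def N57550 : Q := sm gd N56376
def N57551 : Q := sm ge N56377
def N57552 : Q := sm gd N56378
def N57553 : Q := sm gc N56379
def N57554 : Q := sm gh N56380
def N57555 : Q := sm gd N56381
def N57556 : Q := sm ge N56382
def N57557 : Q := sm gh N56383
def N57558 : Q := sm gd N56384
def N57559 : Q := sm gd N56385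
def N57560 : Q := sm gc N56386
def N57561 : Q := sm ge N56386
def N57562 : Q := sm gf N56387
def N57563 : Q := sm gd N56388
def N57564 : Q := sm gc N56389
def N57565 : Q := sm ge N56389
def N57566 : Q := sm gb N56390
def N57567 : Q := sm ge N56391
def N57568 : Q := sm gf N56392
def N57569 : Q := sm ge N56393
def N57570 : Q := sm ge N56395
def N57571 : Q := sm ge N56396
def N57572 : Q := sm gd N56398
def N57573 : Q := sm gc N56399
def N57574 : Q := sm gi N56400
def N57575 : Q := sm gh N56401
def N57576 : Q := sm gh N56402
def N57577 : Q := sm gd N56403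
def N57578 : Q := sm gd N56404
def N57579 : Q := sm gc N56405
def N57580 : Q := sm ge N56405
def N57581 : Q := sm gc N56407
def N57582 : Q := sm ge N56407
def N57583 : Q := sm gb N56408
def N57584 : Q := sm gh N56409
def N57585 : Q := sm gd N56410
def N57586 : Q := sm gh N56411
def N57587 : Q := sm gh N56412
def N57588 : Q := sm gd N56413
def N57589 : Q := sm gd N56414
def N57590 : Q := sm gc N56415
def N57591 : Q := sm ge N56415
def N57592 : Q := sm gf N56416
def N57593 : Q := sm gh N56417
def N57594 : Q := sm gd N56418
def N57595 : Q := sm gd N56419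
def N57596 : Q := sm gc N56420
def N57597 : Q := sm ge N56420
def N57598 : Q := sm gd N56421
def N57599 : Q := sm gc N56422
def N57600 : Q := sm ge N56422
def N57601 : Q := sm gb N56423
def N57602 : Q := sm ge N56423
def N57603 : Q := sm gf N56424
def N57604 : Q := sm gg N56425
def N57605 : Q := sm gd N56426
def N57606 : Q := sm gc N56427
def N57607 : Q := sm ge N56427
def N57608 : Q := sm gb N56428
def N57609 : Q := sm ge N56428
def N57610 : Q := sm ga N56430
def N57611 : Q := sm ge N56431
def N57612 : Q := sm ge N56433
def N57613 : Q := sm gf N56434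
def N57614 : Q := sm ge N56436
def N57615 : Q := sm ge N56437
def N57616 : Q := sm gf N56438
def N57617 : Q := sm gd N56442
def N57618 : Q := sm gd N56443
def N57619 : Q := sm gd N56444
def N57620 : Q := sm gh N56445
def N57621 : Q := sm gd N56446
def N57622 : Q := sm ge N56447
def N57623 : Q := sm gd N56449
def N57624 : Q := sm gd N56451
def N57625 : Q := sm ge N56452
def N57626 : Q := sm gc N56454
def N57627 : Q := sm ge N56454
def N57628 : Q := sm ge N56455
def N57629 : Q := sm gf N56456
def N57630 : Q := sm gf N56457
def N57631 : Q := sm gd N56459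
def N57632 : Q := sm gd N56460
def N57633 : Q := sm ge N56461
def N57634 : Q := sm gc N56462
def N57635 : Q := sm gd N56464
def N57636 : Q := sm gc N56465
def N57637 : Q := sm gc N56466
def N57638 : Q := sm ge N56466
def N57639 : Q := sm gb N56467
def N57640 : Q := sm gh N56469
def N57641 : Q := sm gd N56470
def N57642 : Q := sm gd N56471
def N57643 : Q := sm ge N56472
def N57644 : Q := sm gd N56473
def N57645 : Q := sm gc N56474
def N57646 : Q := sm gh N56475
def N57647 : Q := sm gd N56476
def N57648 : Q := sm gd N56477
def N57649 : Q := sm gc N56478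
def N57650 : Q := sm gc N56479
def N57651 : Q := sm ge N56479
def N57652 : Q := sm gb N56480
def N57653 : Q := sm ge N56481
def N57654 : Q := sm gd N56483
def N57655 : Q := sm gd N56484
def N57656 : Q := sm gc N56485
def N57657 : Q := sm gc N56486
def N57658 : Q := sm gc N56487
def N57659 : Q := sm ge N56487
def N57660 : Q := sm gb N56488
def N57661 : Q := sm gc N56489
def N57662 : Q := sm gc N56490
def N57663 : Q := sm gc N56491
def N57664 : Q := sm gb N56492
def N57665 : Q := sm gd N56493
def N57666 : Q := sm gc N56494
def N57667 : Q := sm ge N56494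
def N57668 : Q := sm gb N56495
def N57669 : Q := sm ge N56495
def N57670 : Q := sm ga N56497
def N57671 : Q := sm ge N56499
def N57672 : Q := sm gd N56501
def N57673 : Q := sm gf N56502
def N57674 : Q := sm gh N56504
def N57675 : Q := sm gd N56505
def N57676 : Q := sm gc N56506
def N57677 : Q := sm gd N56507
def N57678 : Q := sm gd N56508
def N57679 : Q := sm ge N56509
def N57680 : Q := sm gc N56510
def N57681 : Q := sm gd N56511
def N57682 : Q := sm gc N56512
def N57683 : Q := sm ge N56512
def N57684 : Q := sm gb N56514
def N57685 : Q := sm gh N56515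
def N57686 : Q := sm gd N56516
def N57687 : Q := sm gh N56517
def N57688 : Q := sm gd N56518
def N57689 : Q := sm ge N56519
def N57690 : Q := sm gd N56520
def N57691 : Q := sm gc N56521
def N57692 : Q := sm gh N56522
def N57693 : Q := sm gd N56523
def N57694 : Q := sm gh N56524
def N57695 : Q := sm gd N56525
def N57696 : Q := sm gc N56526
def N57697 : Q := sm gc N56527
def N57698 : Q := sm ge N56527
def N57699 : Q := sm gb N56528
def N57700 : Q := sm gd N56529
def N57701 : Q := sm gc N56530
def N57702 : Q := sm ge N56530
def N57703 : Q := sm ge N56532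
def N57704 : Q := sm gh N56534
def N57705 : Q := sm gd N56535
def N57706 : Q := sm gd N56536
def N57707 : Q := sm gc N56537
def N57708 : Q := sm gh N56538
def N57709 : Q := sm gd N56539
def N57710 : Q := sm gh N56540
def N57711 : Q := sm gd N56541
def N57712 : Q := sm gc N56542
def N57713 : Q := sm gd N56543
def N57714 : Q := sm gc N56544
def N57715 : Q := sm ge N56544
def N57716 : Q := sm gb N56545
def N57717 : Q := sm gh N56546
def N57718 : Q := sm gd N56547
def N57719 : Q := sm gc N56548
def N57720 : Q := sm gh N56549
def N57721 : Q := sm gd N56550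
def N57722 : Q := sm gd N56551
def N57723 : Q := sm gc N56552
def N57724 : Q := sm gc N56553
def N57725 : Q := sm ge N56553
def N57726 : Q := sm gb N56554
def N57727 : Q := sm gb N56555
def N57728 : Q := sm ge N56555
def N57729 : Q := sm ga N56557
def N57730 : Q := sm gd N56558
def N57731 : Q := sm gc N56559
def N57732 : Q := sm ge N56559
def N57733 : Q := sm gc N56561
def N57734 : Q := sm ge N56561
def N57735 : Q := sm ge N56562
def N57736 : Q := sm ge N56564
def N57737 : Q := sm gd N56566
def N57738 : Q := sm ge N56567
def N57739 : Q := sm gf N56568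
def N57740 : Q := sm gh N56570
def N57741 : Q := sm gd N56572
def N57742 : Q := sm gd N56573
def N57743 : Q := sm gh N56574
def N57744 : Q := sm gh N56576
def N57745 : Q := sm gd N56577
def N57746 : Q := sm gh N56579
def N57747 : Q := sm gd N56580
def N57748 : Q := sm gc N56581
def N57749 : Q := sm gh N56582
def N57750 : Q := sm gd N56583
def N57751 : Q := sm gh N56584
def N57752 : Q := sm gh N56585
def N57753 : Q := sm gd N56586
def N57754 : Q := sm gc N56587
def N57755 : Q := sm ge N56587
def N57756 : Q := sm gh N56588
def N57757 : Q := sm gh N56589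
def N57758 : Q := sm gd N56590
def N57759 : Q := sm gh N56591
def N57760 : Q := sm gd N56592
def N57761 : Q := sm gc N56593
def N57762 : Q := sm ge N56593
def N57763 : Q := sm gf N56594
def N57764 : Q := sm gd N56595
def N57765 : Q := sm gc N56596
def N57766 : Q := sm ge N56596
def N57767 : Q := sm gb N56597
def N57768 : Q := sm gd N56598
def N57769 : Q := sm gh N56599
def N57770 : Q := sm gd N56600
def N57771 : Q := sm gc N56601
def N57772 : Q := sm gd N56602
def N57773 : Q := sm gh N56603
def N57774 : Q := sm gd N56604
def N57775 : Q := sm gc N56605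
def N57776 : Q := sm gh N56606
def N57777 : Q := sm gd N56607
def N57778 : Q := sm gc N56608
def N57779 : Q := sm ge N56608
def N57780 : Q := sm gb N56609
def N57781 : Q := sm gd N56610
def N57782 : Q := sm gc N56611
def N57783 : Q := sm gh N56612
def N57784 : Q := sm gd N56613
def N57785 : Q := sm gd N56614
def N57786 : Q := sm gc N56615
def N57787 : Q := sm gd N56616
def N57788 : Q := sm gc N56617
def N57789 : Q := sm ge N56617
def N57790 : Q := sm gb N56618
def N57791 : Q := sm gd N56619
def N57792 : Q := sm gc N56620
def N57793 : Q := sm ge N56620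
def N57794 : Q := sm gb N56621
def N57795 : Q := sm ge N56621
def N57796 : Q := sm ga N56623
def N57797 : Q := sm gd N56624
def N57798 : Q := sm gd N56626
def N57799 : Q := sm gc N56627
def N57800 : Q := sm ge N56627
def N57801 : Q := sm gb N56628
def N57802 : Q := sm ge N56628
def N57803 : Q := sm gc N56633
def N57804 : Q := sm ge N56633
def N57805 : Q := sm ge N56634
def N57806 : Q := sm ge N56636
def N57807 : Q := sm gd N56637
def N57808 : Q := sm gd N56639
def N57809 : Q := sm gd N56640
def N57810 : Q := sm gh N56641
def N57811 : Q := sm gd N56642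
def N57812 : Q := sm gc N56643
def N57813 : Q := sm ge N56643
def N57814 : Q := sm gf N56644
def N57815 : Q := sm gd N56645
def N57816 : Q := sm gc N56646
def N57817 : Q := sm ge N56646
def N57818 : Q := sm gb N56647
def N57819 : Q := sm gd N56648
def N57820 : Q := sm gd N56650
def N57821 : Q := sm gc N56651
def N57822 : Q := sm gh N56652
def N57823 : Q := sm gh N56653
def N57824 : Q := sm gd N56654
def N57825 : Q := sm gd N56655
def N57826 : Q := sm gc N56656
def N57827 : Q := sm gh N56657
def N57828 : Q := sm gd N56658
def N57829 : Q := sm gc N56659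
def N57830 : Q := sm ge N56659
def N57831 : Q := sm gb N56660
def N57832 : Q := sm ge N56660
def N57833 : Q := sm gd N56662
def N57834 : Q := sm gc N56663
def N57835 : Q := sm ge N56663
def N57836 : Q := sm gb N56664
def N57837 : Q := sm ge N56664
def N57838 : Q := sm ga N56666
def N57839 : Q := sm gc N56667
def N57840 : Q := sm gh N56668
def N57841 : Q := sm gd N56669
def N57842 : Q := sm gc N56670
def N57843 : Q := sm gd N56671
def N57844 : Q := sm gc N56672
def N57845 : Q := sm ge N56672
def N57846 : Q := sm gb N56673
def N57847 : Q := sm ge N56673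
def N57848 : Q := sm gh N56675
def N57849 : Q := sm gh N56676
def N57850 : Q := sm gd N56677
def N57851 : Q := sm gd N56678
def N57852 : Q := sm gc N56679
def N57853 : Q := sm ge N56679
def N57854 : Q := sm gc N56680
def N57855 : Q := sm ge N56680
def N57856 : Q := sm gb N56681
def N57857 : Q := sm ge N56681
def N57858 : Q := sm gf N56682
def N57859 : Q := sm gd N56683
def N57860 : Q := sm gc N56684
def N57861 : Q := sm ge N56684
def N57862 : Q := sm gb N56685
def N57863 : Q := sm ge N56685
def N57864 : Q := sm gf N56686
def N57865 : Q := sm ga N56687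
def N57866 : Q := sm ge N56687
def N57867 : Q := sm gf N56688
def N57868 : Q := sm gc N56690
def N57869 : Q := sm ge N56690
def N57870 : Q := sm gb N56691
def N57871 : Q := sm ge N56691
def N57872 : Q := sm ga N56693
def N57873 : Q := sm ge N56693
def N57874 : Q := sm gd N56694
def N57875 : Q := sm ge N56696
def N57876 : Q := sm gd N56697
def N57877 : Q := sm gc N56698
def N57878 : Q := sm ge N56698
def N57879 : Q := sm ge N56699
def N57880 : Q := sm gc N56701
def N57881 : Q := sm ge N56701
def N57882 : Q := sm gb N56702
def N57883 : Q := sm ge N56702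
def N57884 : Q := sm gf N56703
def N57885 : Q := sm ga N56704
def N57886 : Q := sm ge N56704
def N57887 : Q := sm gd N56705
def N57888 : Q := sm ge N56709
def N57889 : Q := sm gf N56710
def N57890 : Q := sm gd N56711
def N57891 : Q := sm ge N56713
def N57892 : Q := sm gd N56715
def N57893 : Q := sm ge N56716
def N57894 : Q := sm gd N56717
def N57895 : Q := sm gh N56718
def N57896 : Q := sm gf N56719
def N57897 : Q := sm ge N56721
def N57898 : Q := sm ga N56723
def N57899 : Q := sm ge N56723
def N57900 : Q := sm gd N56724
def N57901 : Q := sm gf N56724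
def N57902 : Q := sm ge N56726
def N57903 : Q := sm gd N56727
def N57904 : Q := sm gh N56728
def N57905 : Q := sm gd N56729
def N57906 : Q := sm gh N56730
def N57907 : Q := sm gd N56731
def N57908 : Q := sm gc N56732
def N57909 : Q := sm gh N56732
def N57910 : Q := sm gi N56733
def N57911 : Q := sm ge N56734
def N57912 : Q := sm gd N56736
def N57913 : Q := sm gf N56736
def N57914 : Q := sm gc N56740
def N57915 : Q := sm ge N56740
def N57916 : Q := sm ge N56741
def N57917 : Q := sm gf N56742
def N57918 : Q := sm gc N56745
def N57919 : Q := sm gb N56746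
def N57920 : Q := sm gc N56747
def N57921 : Q := sm gc N56748
def N57922 : Q := sm gb N56749
def N57923 : Q := sm gb N56750
def N57924 : Q := sm gc N56751
def N57925 : Q := sm gc N56752
def N57926 : Q := sm gb N56753
def N57927 : Q := sm gd N56754
def N57928 : Q := sm gc N56755
def N57929 : Q := sm gd N56756
def N57930 : Q := sm gc N56757
def N57931 : Q := sm gd N56758
def N57932 : Q := sm gc N56759
def N57933 : Q := sm ge N56759
def N57934 : Q := sm gb N56760
def N57935 : Q := sm gc N56761
def N57936 : Q := sm gb N56762
def N57937 : Q := sm ga N56763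
def N57938 : Q := sm ge N56764
def N57939 : Q := sm ge N56765
def N57940 : Q := sm gd N56767
def N57941 : Q := sm ge N56768
def N57942 : Q := sm gc N56769
def N57943 : Q := sm gc N56770
def N57944 : Q := sm gb N56771
def N57945 : Q := sm gb N56772
def N57946 : Q := sm gd N56773
def N57947 : Q := sm gc N56774
def N57948 : Q := sm ge N56774
def N57949 : Q := sm gb N56776
def N57950 : Q := sm ge N56776
def N57951 : Q := sm ga N56778
def N57952 : Q := sm gc N56780
def N57953 : Q := sm gb N56781
def N57954 : Q := sm gd N56782
def N57955 : Q := sm gc N56783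
def N57956 : Q := sm ge N56783
def N57957 : Q := sm gb N56785
def N57958 : Q := sm gh N56786
def N57959 : Q := sm gd N56787
def N57960 : Q := sm gd N56788
def N57961 : Q := sm ge N56789
def N57962 : Q := sm gd N56790
def N57963 : Q := sm gc N56791
def N57964 : Q := sm gd N56792
def N57965 : Q := sm ge N56793
def N57966 : Q := sm gh N56794
def N57967 : Q := sm gd N56795
def N57968 : Q := sm gd N56796
def N57969 : Q := sm gc N56797
def N57970 : Q := sm ge N56797
def N57971 : Q := sm gf N56798
def N57972 : Q := sm gc N56799
def N57973 : Q := sm gb N56800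
def N57974 : Q := sm gd N56801
def N57975 : Q := sm gc N56802
def N57976 : Q := sm ge N56802
def N57977 : Q := sm gf N56803
def N57978 : Q := sm gd N56804
def N57979 : Q := sm gc N56805
def N57980 : Q := sm ge N56805
def N57981 : Q := sm gc N56806
def N57982 : Q := sm ge N56806
def N57983 : Q := sm gb N56807
def N57984 : Q := sm ge N56807
def N57985 : Q := sm gf N56808
def N57986 : Q := sm gb N56810
def N57987 : Q := sm ga N56811
def N57988 : Q := sm gf N56812
def N57989 : Q := sm ge N56813
def N57990 : Q := sm gg N56814
def N57991 : Q := sm ge N56817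
def N57992 : Q := sm gf N56818
def N57993 : Q := sm gf N56819
def N57994 : Q := sm ge N56820
def N57995 : Q := sm gf N56821
def N57996 : Q := sm gg N56822
def N57997 : Q := sm gc N56823
def N57998 : Q := sm ge N56823
def N57999 : Q := sm ge N56824
def N58000 : Q := sm gf N56825
def N58001 : Q := sm gf N56827
def N58002 : Q := sm gd N56832
def N58003 : Q := sm gc N56833
def N58004 : Q := sm ge N56833
def N58005 : Q := sm gd N56834
def N58006 : Q := sm gc N56835
def N58007 : Q := sm ge N56835
def N58008 : Q := sm gb N56837
def N58009 : Q := sm gh N56838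
def N58010 : Q := sm gd N56839
def N58011 : Q := sm ge N56840
def N58012 : Q := sm gc N56841
def N58013 : Q := sm gh N56842
def N58014 : Q := sm gd N56843
def N58015 : Q := sm ge N56844
def N58016 : Q := sm gh N56845
def N58017 : Q := sm gd N56846
def N58018 : Q := sm gc N56847
def N58019 : Q := sm ge N56847
def N58020 : Q := sm gb N56849
def N58021 : Q := sm gd N56850
def N58022 : Q := sm gd N56851
def N58023 : Q := sm gc N56852
def N58024 : Q := sm ge N56852
def N58025 : Q := sm gd N56854
def N58026 : Q := sm gd N56855
def N58027 : Q := sm gc N56856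
def N58028 : Q := sm ge N56856
def N58029 : Q := sm gc N56857
def N58030 : Q := sm gb N56858
def N58031 : Q := sm ge N56858
def N58032 : Q := sm gc N56860
def N58033 : Q := sm gb N56861
def N58034 : Q := sm ga N56862
def N58035 : Q := sm gd N56863
def N58036 : Q := sm gc N56864
def N58037 : Q := sm ge N56864
def N58038 : Q := sm gf N56865
def N58039 : Q := sm gc N56866
def N58040 : Q := sm ge N56866
def N58041 : Q := sm gb N56867
def N58042 : Q := sm gd N56868

end Cfsg.Agent.Helper28.FicA
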