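import Cfsg.Agent.Helper28.FicB6

/-! # The Fi₂₃ presentation, cosets of the subgroup generated by a, …, i: the coset enumeration, part 7 (helper28; generated) -/

set_option autoImplicit false

noncomputable section

namespace Cfsg.Agent.Helper28.FicA

open Cfsg.Agent.Helper28.CosetTable

def N58043 : Q := sm gc N56869
def N58044 : Q := sm ge N56869
def N58045 : Q := sm gh N56871
def N58046 : Q := sm gd N56872
def N58047 : Q := sm gd N56873
def N58048 : Q := sm gc N56874
def N58049 : Q := sm ge N56874
def N58050 : Q := sm gc N56875
def N58051 : Q := sm ge N56875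
def N58052 : Q := sm gb N56876
def N58053 : Q := sm ge N56876
def N58054 : Q := sm gf N56877
def N58055 : Q := sm gg N56878
def N58056 : Q := sm gb N56879
def N58057 : Q := sm ga N56880
def N58058 : Q := sm gd N56881
def N58059 : Q := sm gc N56882
def N58060 : Q := sm gd N56883
def N58061 : Q := sm gd N56884
def N58062 : Q := sm gc N56885
def N58063 : Q := sm ge N56885
def N58064 : Q := sm gd N56886
def N58065 : Q := sm gc N56887
def N58066 : Q := sm ge N56887
def N58067 : Q := sm gb N56888
def N58068 : Q := sm ge N56888
def N58069 : Q := sm gd N56890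
def N58070 : Q := sm gd N56891
def N58071 : Q := sm gc N56892
def N58072 : Q := sm ge N56892
def N58073 : Q := sm gc N56893
def N58074 : Q := sm ge N56893
def N58075 : Q := sm gb N56894
def N58076 : Q := sm ge N56894
def N58077 : Q := sm gf N56895
def N58078 : Q := sm gd N56896
def N58079 : Q := sm gc N56897
def N58080 : Q := sm ge N56897
def N58081 : Q := sm gb N56898
def N58082 : Q := sm ge N56898
def N58083 : Q := sm ga N56900
def N58084 : Q := sm ge N56900
def N58085 : Q := sm gf N56901
def N58086 : Q := sm gc N56903
def N58087 : Q := sm gb N56904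
def N58088 : Q := sm ga N56905
def N58089 : Q := sm gd N56907
def N58090 : Q := sm ge N56909
def N58091 : Q := sm ge N56912
def N58092 : Q := sm ge N56914
def N58093 : Q := sm ge N56917
def N58094 : Q := sm gf N56918
def N58095 : Q := sm gg N56919
def N58096 : Q := sm ge N56921
def N58097 : Q := sm gf N56923
def N58098 : Q := sm gc N56925
def N58099 : Q := sm gc N56926
def N58100 : Q := sm gc N56927
def N58101 : Q := sm ge N56927
def N58102 : Q := sm gf N56928
def N58103 : Q := sm gb N56929
def N58104 : Q := sm gh N56933
def N58105 : Q := sm gd N56934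
def N58106 : Q := sm gc N56935
def N58107 : Q := sm ge N56935
def N58108 : Q := sm gf N56936
def N58109 : Q := sm gb N56937
def N58110 : Q := sm gb N56939
def N58111 : Q := sm gh N56940
def N58112 : Q := sm gd N56941
def N58113 : Q := sm gd N56942
def N58114 : Q := sm gc N56943
def N58115 : Q := sm ge N56943
def N58116 : Q := sm gc N56944
def N58117 : Q := sm ge N56944
def N58118 : Q := sm gb N56945
def N58119 : Q := sm ge N56945
def N58120 : Q := sm gf N56946
def N58121 : Q := sm gg N56947
def N58122 : Q := sm gb N56948
def N58123 : Q := sm ga N56949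
def N58124 : Q := sm gf N56950
def N58125 : Q := sm ge N56953
def N58126 : Q := sm gf N56954
def N58127 : Q := sm gd N56957
def N58128 : Q := sm gc N56958
def N58129 : Q := sm ge N56958
def N58130 : Q := sm gb N56960
def N58131 : Q := sm gc N56961
def N58132 : Q := sm gb N56962
def N58133 : Q := sm gb N56963
def N58134 : Q := sm ge N56963
def N58135 : Q := sm gf N56964
def N58136 : Q := sm ga N56966
def N58137 : Q := sm gc N56967
def N58138 : Q := sm ge N56967
def N58139 : Q := sm gf N56968
def N58140 : Q := sm gd N56969
def N58141 : Q := sm gc N56970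
def N58142 : Q := sm ge N56970
def N58143 : Q := sm gb N56971
def N58144 : Q := sm ge N56971
def N58145 : Q := sm gf N56972
def N58146 : Q := sm ga N56974
def N58147 : Q := sm gc N56976
def N58148 : Q := sm ge N56976
def N58149 : Q := sm gc N56978
def N58150 : Q := sm ge N56978
def N58151 : Q := sm gb N56979
def N58152 : Q := sm gc N56980
def N58153 : Q := sm ge N56980
def N58154 : Q := sm gb N56982
def N58155 : Q := sm ge N56982
def N58156 : Q := sm ga N56984
def N58157 : Q := sm gc N56985
def N58158 : Q := sm ge N56985
def N58159 : Q := sm gc N56987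
def N58160 : Q := sm ge N56987
def N58161 : Q := sm gc N56988
def N58162 : Q := sm gb N56989
def N58163 : Q := sm ge N56989
def N58164 : Q := sm gf N56990
def N58165 : Q := sm gc N56992
def N58166 : Q := sm ge N56992
def N58167 : Q := sm gb N56993
def N58168 : Q := sm ge N56993
def N58169 : Q := sm gc N56995
def N58170 : Q := sm gb N56996
def N58171 : Q := sm ge N56996
def N58172 : Q := sm ga N56998
def N58173 : Q := sm ge N56998
def N58174 : Q := sm gf N56999
def N58175 : Q := sm gg N57000
def N58176 : Q := sm gb N57002
def N58177 : Q := sm ga N57003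
def N58178 : Q := sm gd N57007
def N58179 : Q := sm gc N57008
def N58180 : Q := sm gb N57009
def N58181 : Q := sm ga N57010
def N58182 : Q := sm gb N57011
def N58183 : Q := sm gc N57012
def N58184 : Q := sm gb N57013
def N58185 : Q := sm gb N57014
def N58186 : Q := sm ga N57015
def N58187 : Q := sm gd N57016
def N58188 : Q := sm gc N57017
def N58189 : Q := sm gd N57018
def N58190 : Q := sm gc N57019
def N58191 : Q := sm ge N57019
def N58192 : Q := sm gb N57020
def N58193 : Q := sm gd N57021
def N58194 : Q := sm gc N57022
def N58195 : Q := sm gd N57023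
def N58196 : Q := sm gc N57024
def N58197 : Q := sm gc N57025
def N58198 : Q := sm ge N57025
def N58199 : Q := sm gb N57026
def N58200 : Q := sm gc N57027
def N58201 : Q := sm gb N57028
def N58202 : Q := sm ga N57029
def N58203 : Q := sm gd N57030
def N58204 : Q := sm gc N57031
def N58205 : Q := sm gc N57032
def N58206 : Q := sm ge N57032
def N58207 : Q := sm gb N57033
def N58208 : Q := sm gc N57034
def N58209 : Q := sm ge N57034
def N58210 : Q := sm gb N57035
def N58211 : Q := sm gb N57036
def N58212 : Q := sm ge N57036
def N58213 : Q := sm ga N57038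
def N58214 : Q := sm ga N57039
def N58215 : Q := sm ge N57041
def N58216 : Q := sm gc N57044
def N58217 : Q := sm ge N57044
def N58218 : Q := sm gb N57046
def N58219 : Q := sm gb N57047
def N58220 : Q := sm ga N57048
def N58221 : Q := sm gc N57049
def N58222 : Q := sm gc N57050
def N58223 : Q := sm ge N57050
def N58224 : Q := sm gb N57051
def N58225 : Q := sm gc N57052
def N58226 : Q := sm gb N57053
def N58227 : Q := sm ga N57054
def N58228 : Q := sm gc N57055
def N58229 : Q := sm gc N57056
def N58230 : Q := sm gb N57057
def N58231 : Q := sm gc N57058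
def N58232 : Q := sm gb N57059
def N58233 : Q := sm ga N57060
def N58234 : Q := sm gd N57062
def N58235 : Q := sm ge N57063
def N58236 : Q := sm gd N57064
def N58237 : Q := sm gc N57065
def N58238 : Q := sm ge N57065
def N58239 : Q := sm ge N57066
def N58240 : Q := sm gd N57068
def N58241 : Q := sm gc N57069
def N58242 : Q := sm ge N57069
def N58243 : Q := sm gb N57070
def N58244 : Q := sm ge N57070
def N58245 : Q := sm ga N57072
def N58246 : Q := sm gd N57073
def N58247 : Q := sm gc N57074
def N58248 : Q := sm gc N57075
def N58249 : Q := sm ge N57075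
def N58250 : Q := sm gb N57076
def N58251 : Q := sm gc N57077
def N58252 : Q := sm gc N57078
def N58253 : Q := sm gb N57079
def N58254 : Q := sm ga N57080
def N58255 : Q := sm gc N57081
def N58256 : Q := sm gd N57082
def N58257 : Q := sm gd N57083
def N58258 : Q := sm gc N57084
def N58259 : Q := sm gc N57085
def N58260 : Q := sm ge N57085
def N58261 : Q := sm gb N57086
def N58262 : Q := sm gh N57087
def N58263 : Q := sm gd N57088
def N58264 : Q := sm gd N57089
def N58265 : Q := sm gc N57090
def N58266 : Q := sm ge N57090
def N58267 : Q := sm gc N57091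
def N58268 : Q := sm gb N57092
def N58269 : Q := sm gd N57093
def N58270 : Q := sm gc N57094
def N58271 : Q := sm ge N57094
def N58272 : Q := sm gb N57095
def N58273 : Q := sm ge N57095
def N58274 : Q := sm ga N57097
def N58275 : Q := sm gc N57098
def N58276 : Q := sm gb N57099
def N58277 : Q := sm ga N57100
def N58278 : Q := sm ge N57103
def N58279 : Q := sm ge N57105
def N58280 : Q := sm gc N57107
def N58281 : Q := sm ge N57107
def N58282 : Q := sm gb N57108
def N58283 : Q := sm gc N57109
def N58284 : Q := sm ge N57109
def N58285 : Q := sm gb N57110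
def N58286 : Q := sm ge N57110
def N58287 : Q := sm ga N57112
def N58288 : Q := sm gc N57113
def N58289 : Q := sm ge N57113
def N58290 : Q := sm gb N57114
def N58291 : Q := sm gb N57115
def N58292 : Q := sm gb N57116
def N58293 : Q := sm ge N57116
def N58294 : Q := sm gf N57117
def N58295 : Q := sm ga N57118
def N58296 : Q := sm ge N57118
def N58297 : Q := sm gf N57119
def N58298 : Q := sm gg N57120
def N58299 : Q := sm gc N57122
def N58300 : Q := sm gb N57123
def N58301 : Q := sm ga N57124
def N58302 : Q := sm gc N57126
def N58303 : Q := sm gb N57127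
def N58304 : Q := sm gc N57128
def N58305 : Q := sm ge N57128
def N58306 : Q := sm gb N57129
def N58307 : Q := sm ge N57129
def N58308 : Q := sm ga N57131
def N58309 : Q := sm gd N57132
def N58310 : Q := sm gc N57133
def N58311 : Q := sm ge N57133
def N58312 : Q := sm gc N57134
def N58313 : Q := sm ge N57134
def N58314 : Q := sm gb N57135
def N58315 : Q := sm ge N57135
def N58316 : Q := sm gb N57137
def N58317 : Q := sm ga N57138
def N58318 : Q := sm gc N57139
def N58319 : Q := sm ge N57139
def N58320 : Q := sm gb N57140
def N58321 : Q := sm ge N57140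
def N58322 : Q := sm gf N57141
def N58323 : Q := sm ga N57142
def N58324 : Q := sm ge N57142
def N58325 : Q := sm gf N57143
def N58326 : Q := sm ge N57145
def N58327 : Q := sm gf N57146
def N58328 : Q := sm gb N57148
def N58329 : Q := sm ga N57149
def N58330 : Q := sm ge N57151
def N58331 : Q := sm gg N57153
def N58332 : Q := sm ge N57160
def N58333 : Q := sm ge N57163
def N58334 : Q := sm ge N57165
def N58335 : Q := sm ge N57167
def N58336 : Q := sm gf N57168
def N58337 : Q := sm gd N57172
def N58338 : Q := sm gc N57173
def N58339 : Q := sm ge N57174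
def N58340 : Q := sm gd N57175
def N58341 : Q := sm gc N57176
def N58342 : Q := sm gd N57177
def N58343 : Q := sm gc N57178
def N58344 : Q := sm gc N57179
def N58345 : Q := sm ge N57179
def N58346 : Q := sm gb N57180
def N58347 : Q := sm ge N57182
def N58348 : Q := sm gd N57184
def N58349 : Q := sm gc N57185
def N58350 : Q := sm gb N57186
def N58351 : Q := sm gc N57187
def N58352 : Q := sm gc N57188
def N58353 : Q := sm ge N57188
def N58354 : Q := sm gb N57189
def N58355 : Q := sm ge N57190
def N58356 : Q := sm gb N57192
def N58357 : Q := sm gb N57193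
def N58358 : Q := sm gd N57194
def N58359 : Q := sm gc N57195
def N58360 : Q := sm ge N57195
def N58361 : Q := sm gb N57196
def N58362 : Q := sm ge N57196
def N58363 : Q := sm ga N57198
def N58364 : Q := sm ge N57200
def N58365 : Q := sm gd N57201
def N58366 : Q := sm gh N57203
def N58367 : Q := sm gh N57204
def N58368 : Q := sm gd N57205
def N58369 : Q := sm gh N57206
def N58370 : Q := sm gd N57207
def N58371 : Q := sm gh N57208
def N58372 : Q := sm gh N57209
def N58373 : Q := sm gd N57210
def N58374 : Q := sm ge N57211
def N58375 : Q := sm gd N57212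
def N58376 : Q := sm gc N57213
def N58377 : Q := sm gd N57214
def N58378 : Q := sm gh N57215
def N58379 : Q := sm gd N57216
def N58380 : Q := sm ge N57217
def N58381 : Q := sm gh N57218
def N58382 : Q := sm gd N57219
def N58383 : Q := sm gc N57220
def N58384 : Q := sm gh N57221
def N58385 : Q := sm gd N57222
def N58386 : Q := sm gc N57223
def N58387 : Q := sm ge N57223
def N58388 : Q := sm gf N57224
def N58389 : Q := sm gc N57225
def N58390 : Q := sm ge N57225
def N58391 : Q := sm gb N57226
def N58392 : Q := sm gf N57227
def N58393 : Q := sm gd N57228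
def N58394 : Q := sm gc N57229
def N58395 : Q := sm ge N57229
def N58396 : Q := sm ge N57232
def N58397 : Q := sm gc N57234
def N58398 : Q := sm gd N57235
def N58399 : Q := sm gc N57236
def N58400 : Q := sm ge N57236
def N58401 : Q := sm gf N57237
def N58402 : Q := sm gd N57238
def N58403 : Q := sm gc N57239
def N58404 : Q := sm ge N57239
def N58405 : Q := sm gb N57240
def N58406 : Q := sm gh N57241
def N58407 : Q := sm gd N57242
def N58408 : Q := sm gc N57243
def N58409 : Q := sm ge N57243
def N58410 : Q := sm gh N57245
def N58411 : Q := sm gd N57246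
def N58412 : Q := sm gd N57247
def N58413 : Q := sm gc N57248
def N58414 : Q := sm ge N57248
def N58415 : Q := sm gc N57249
def N58416 : Q := sm ge N57249
def N58417 : Q := sm gb N57250
def N58418 : Q := sm ge N57250
def N58419 : Q := sm gf N57251
def N58420 : Q := sm gg N57252
def N58421 : Q := sm gb N57253
def N58422 : Q := sm ge N57253
def N58423 : Q := sm ga N57255
def N58424 : Q := sm gc N57256
def N58425 : Q := sm ge N57256
def N58426 : Q := sm gf N57258
def N58427 : Q := sm gg N57259
def N58428 : Q := sm gc N57260
def N58429 : Q := sm ge N57260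
def N58430 : Q := sm ge N57261
def N58431 : Q := sm ge N57263
def N58432 : Q := sm gf N57264
def N58433 : Q := sm gd N57267
def N58434 : Q := sm ge N57268
def N58435 : Q := sm gf N57269
def N58436 : Q := sm gd N57271
def N58437 : Q := sm gh N57272
def N58438 : Q := sm gg N57273
def N58439 : Q := sm gd N57274
def N58440 : Q := sm ge N57275
def N58441 : Q := sm ge N57277
def N58442 : Q := sm gf N57278
def N58443 : Q := sm gd N57281
def N58444 : Q := sm gc N57282
def N58445 : Q := sm gh N57283
def N58446 : Q := sm gd N57284
def N58447 : Q := sm gh N57285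
def N58448 : Q := sm gd N57286
def N58449 : Q := sm gd N57287
def N58450 : Q := sm ge N57288
def N58451 : Q := sm gc N57289
def N58452 : Q := sm gd N57290
def N58453 : Q := sm gc N57291
def N58454 : Q := sm ge N57291
def N58455 : Q := sm gc N57293
def N58456 : Q := sm ge N57293
def N58457 : Q := sm gb N57294
def N58458 : Q := sm gd N57296
def N58459 : Q := sm gc N57297
def N58460 : Q := sm gc N57298
def N58461 : Q := sm gd N57299
def N58462 : Q := sm gc N57300
def N58463 : Q := sm ge N57300
def N58464 : Q := sm gc N57302
def N58465 : Q := sm ge N57302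
def N58466 : Q := sm gb N57303
def N58467 : Q := sm gd N57305
def N58468 : Q := sm gc N57306
def N58469 : Q := sm gb N57307
def N58470 : Q := sm gb N57308
def N58471 : Q := sm ge N57308
def N58472 : Q := sm gd N57310
def N58473 : Q := sm gc N57311
def N58474 : Q := sm ge N57311
def N58475 : Q := sm gb N57312
def N58476 : Q := sm ge N57312
def N58477 : Q := sm ga N57314
def N58478 : Q := sm ge N57315
def N58479 : Q := sm gh N57318
def N58480 : Q := sm gd N57319
def N58481 : Q := sm gh N57320
def N58482 : Q := sm gh N57321
def N58483 : Q := sm gd N57322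
def N58484 : Q := sm ge N57323
def N58485 : Q := sm gh N57324
def N58486 : Q := sm gd N57325
def N58487 : Q := sm gc N57326
def N58488 : Q := sm gh N57327
def N58489 : Q := sm gd N57328
def N58490 : Q := sm gd N57329
def N58491 : Q := sm gc N57330
def N58492 : Q := sm ge N57330
def N58493 : Q := sm gd N57331
def N58494 : Q := sm gd N57332
def N58495 : Q := sm gc N57333
def N58496 : Q := sm ge N57333
def N58497 : Q := sm gf N57334
def N58498 : Q := sm gc N57335
def N58499 : Q := sm ge N57335
def N58500 : Q := sm gb N57336
def N58501 : Q := sm gh N57337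
def N58502 : Q := sm gd N57338
def N58503 : Q := sm gc N57339
def N58504 : Q := sm gd N57340
def N58505 : Q := sm ge N57341
def N58506 : Q := sm gd N57342
def N58507 : Q := sm gc N57343
def N58508 : Q := sm ge N57343
def N58509 : Q := sm gf N57344
def N58510 : Q := sm gd N57345
def N58511 : Q := sm gc N57346
def N58512 : Q := sm ge N57346
def N58513 : Q := sm gb N57347
def N58514 : Q := sm gd N57348
def N58515 : Q := sm gc N57349
def N58516 : Q := sm ge N57349
def N58517 : Q := sm gd N57351
def N58518 : Q := sm gd N57352
def N58519 : Q := sm gc N57353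
def N58520 : Q := sm ge N57353
def N58521 : Q := sm gc N57354
def N58522 : Q := sm gb N57355
def N58523 : Q := sm ge N57355
def N58524 : Q := sm gf N57356
def N58525 : Q := sm gd N57358
def N58526 : Q := sm gc N57359
def N58527 : Q := sm ge N57359
def N58528 : Q := sm gb N57360
def N58529 : Q := sm ge N57360
def N58530 : Q := sm ga N57362
def N58531 : Q := sm ge N57364
def N58532 : Q := sm ge N57365
def N58533 : Q := sm ge N57367
def N58534 : Q := sm gd N57369
def N58535 : Q := sm gh N57370
def N58536 : Q := sm gd N57371
def N58537 : Q := sm gc N57372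
def N58538 : Q := sm ge N57372
def N58539 : Q := sm gb N57373
def N58540 : Q := sm gd N57374
def N58541 : Q := sm ge N57375
def N58542 : Q := sm gc N57376
def N58543 : Q := sm ge N57376
def N58544 : Q := sm gf N57377
def N58545 : Q := sm gb N57378
def N58546 : Q := sm ge N57378
def N58547 : Q := sm gf N57379
def N58548 : Q := sm gg N57380
def N58549 : Q := sm gd N57381
def N58550 : Q := sm gc N57382
def N58551 : Q := sm ge N57382
def N58552 : Q := sm gb N57383
def N58553 : Q := sm ge N57383
def N58554 : Q := sm ga N57385
def N58555 : Q := sm gd N57386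
def N58556 : Q := sm gc N57387
def N58557 : Q := sm ge N57387
def N58558 : Q := sm gd N57389
def N58559 : Q := sm gc N57390
def N58560 : Q := sm ge N57390
def N58561 : Q := sm gc N57391
def N58562 : Q := sm gb N57392
def N58563 : Q := sm ge N57392
def N58564 : Q := sm gf N57393
def N58565 : Q := sm gc N57395
def N58566 : Q := sm ge N57395
def N58567 : Q := sm gb N57396
def N58568 : Q := sm ge N57396
def N58569 : Q := sm gf N57397
def N58570 : Q := sm gd N57398
def N58571 : Q := sm gc N57399
def N58572 : Q := sm gb N57400
def N58573 : Q := sm ga N57401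
def N58574 : Q := sm ge N57401
def N58575 : Q := sm gf N57402
def N58576 : Q := sm gg N57403
def N58577 : Q := sm gc N57405
def N58578 : Q := sm ge N57405
def N58579 : Q := sm gb N57406
def N58580 : Q := sm ge N57406
def N58581 : Q := sm ga N57408
def N58582 : Q := sm ge N57408
def N58583 : Q := sm gd N57409
def N58584 : Q := sm ge N57413
def N58585 : Q := sm gf N57414
def N58586 : Q := sm ge N57415
def N58587 : Q := sm gd N57416
def N58588 : Q := sm gd N57418
def N58589 : Q := sm gh N57419
def N58590 : Q := sm gi N57426
def N58591 : Q := sm ge N57427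
def N58592 : Q := sm gg N57430
def N58593 : Q := sm gd N57432
def N58594 : Q := sm gc N57433
def N58595 : Q := sm gd N57434
def N58596 : Q := sm gd N57435
def N58597 : Q := sm ge N57436
def N58598 : Q := sm gd N57437
def N58599 : Q := sm gc N57438
def N58600 : Q := sm ge N57439
def N58601 : Q := sm gd N57440
def N58602 : Q := sm gc N57441
def N58603 : Q := sm gc N57442
def N58604 : Q := sm ge N57442
def N58605 : Q := sm gc N57444
def N58606 : Q := sm ge N57444
def N58607 : Q := sm gb N57445
def N58608 : Q := sm gh N57447
def N58609 : Q := sm gh N57448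
def N58610 : Q := sm gd N57449
def N58611 : Q := sm ge N57450
def N58612 : Q := sm gd N57451
def N58613 : Q := sm gc N57452
def N58614 : Q := sm gc N57453
def N58615 : Q := sm gd N57454
def N58616 : Q := sm ge N57455
def N58617 : Q := sm gd N57456
def N58618 : Q := sm gc N57457
def N58619 : Q := sm ge N57457
def N58620 : Q := sm gf N57458
def N58621 : Q := sm gd N57459
def N58622 : Q := sm gc N57460
def N58623 : Q := sm ge N57460
def N58624 : Q := sm gb N57461
def N58625 : Q := sm ge N57463
def N58626 : Q := sm ge N57464
def N58627 : Q := sm gc N57466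
def N58628 : Q := sm gb N57467
def N58629 : Q := sm gc N57468
def N58630 : Q := sm ge N57468
def N58631 : Q := sm gc N57470
def N58632 : Q := sm ge N57470
def N58633 : Q := sm gb N57471
def N58634 : Q := sm ge N57471
def N58635 : Q := sm gf N57472
def N58636 : Q := sm gc N57474
def N58637 : Q := sm ge N57474
def N58638 : Q := sm gb N57475
def N58639 : Q := sm ge N57475
def N58640 : Q := sm ga N57477
def N58641 : Q := sm gd N57479
def N58642 : Q := sm gc N57481
def N58643 : Q := sm gc N57482
def N58644 : Q := sm gh N57483
def N58645 : Q := sm gd N57484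
def N58646 : Q := sm gd N57485
def N58647 : Q := sm gc N57486
def N58648 : Q := sm ge N57486
def N58649 : Q := sm gb N57488
def N58650 : Q := sm gd N57489
def N58651 : Q := sm gh N57490
def N58652 : Q := sm gh N57491
def N58653 : Q := sm gd N57492
def N58654 : Q := sm ge N57493
def N58655 : Q := sm gd N57494
def N58656 : Q := sm gc N57495
def N58657 : Q := sm gd N57496
def N58658 : Q := sm gc N57497
def N58659 : Q := sm gd N57498
def N58660 : Q := sm ge N57499
def N58661 : Q := sm gd N57500
def N58662 : Q := sm gd N57501
def N58663 : Q := sm gc N57502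
def N58664 : Q := sm ge N57502
def N58665 : Q := sm gf N57503
def N58666 : Q := sm gc N57504
def N58667 : Q := sm ge N57504
def N58668 : Q := sm gb N57505
def N58669 : Q := sm ge N57507
def N58670 : Q := sm gc N57509
def N58671 : Q := sm gc N57510
def N58672 : Q := sm gd N57511
def N58673 : Q := sm gc N57512
def N58674 : Q := sm gb N57513
def N58675 : Q := sm gc N57514
def N58676 : Q := sm ge N57514
def N58677 : Q := sm ge N57515
def N58678 : Q := sm gf N57516
def N58679 : Q := sm gc N57517
def N58680 : Q := sm ge N57517
def N58681 : Q := sm gb N57518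
def N58682 : Q := sm ge N57518
def N58683 : Q := sm gf N57519
def N58684 : Q := sm gb N57521
def N58685 : Q := sm ge N57521
def N58686 : Q := sm ga N57523
def N58687 : Q := sm ge N57525
def N58688 : Q := sm gf N57526
def N58689 : Q := sm gd N57528
def N58690 : Q := sm gh N57529
def N58691 : Q := sm gh N57532
def N58692 : Q := sm gh N57533
def N58693 : Q := sm gd N57534
def N58694 : Q := sm gd N57536
def N58695 : Q := sm gc N57537
def N58696 : Q := sm gd N57538
def N58697 : Q := sm gc N57539
def N58698 : Q := sm ge N57539
def N58699 : Q := sm gh N57540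
def N58700 : Q := sm gd N57541
def N58701 : Q := sm gd N57542
def N58702 : Q := sm gc N57543
def N58703 : Q := sm ge N57543
def N58704 : Q := sm gf N57544
def N58705 : Q := sm gc N57545
def N58706 : Q := sm ge N57545
def N58707 : Q := sm gb N57546
def N58708 : Q := sm gc N57547
def N58709 : Q := sm gh N57548
def N58710 : Q := sm gd N57549
def N58711 : Q := sm gc N57550
def N58712 : Q := sm ge N57550
def N58713 : Q := sm gc N57552
def N58714 : Q := sm ge N57552
def N58715 : Q := sm gb N57553
def N58716 : Q := sm gd N57554
def N58717 : Q := sm gc N57555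
def N58718 : Q := sm ge N57555
def N58719 : Q := sm gf N57556
def N58720 : Q := sm gd N57557
def N58721 : Q := sm gc N57558
def N58722 : Q := sm ge N57558
def N58723 : Q := sm gc N57559
def N58724 : Q := sm ge N57559
def N58725 : Q := sm gb N57560
def N58726 : Q := sm ge N57560
def N58727 : Q := sm gf N57561
def N58728 : Q := sm gc N57563
def N58729 : Q := sm ge N57563
def N58730 : Q := sm gb N57564
def N58731 : Q := sm ge N57564
def N58732 : Q := sm ga N57566
def N58733 : Q := sm gd N57571
def N58734 : Q := sm gc N57572
def N58735 : Q := sm ge N57572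
def N58736 : Q := sm gb N57573
def N58737 : Q := sm gh N57574
def N58738 : Q := sm gd N57575
def N58739 : Q := sm gd N57576
def N58740 : Q := sm gc N57577
def N58741 : Q := sm ge N57577
def N58742 : Q := sm gc N57578
def N58743 : Q := sm ge N57578
def N58744 : Q := sm gb N57579
def N58745 : Q := sm ge N57579
def N58746 : Q := sm gb N57581
def N58747 : Q := sm ge N57581
def N58748 : Q := sm ga N57583
def N58749 : Q := sm gd N57584
def N58750 : Q := sm gc N57585
def N58751 : Q := sm gd N57586
def N58752 : Q := sm gd N57587
def N58753 : Q := sm gc N57588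
def N58754 : Q := sm ge N57588
def N58755 : Q := sm gc N57589
def N58756 : Q := sm ge N57589
def N58757 : Q := sm gb N57590
def N58758 : Q := sm ge N57590
def N58759 : Q := sm gf N57591
def N58760 : Q := sm gd N57593
def N58761 : Q := sm gc N57594
def N58762 : Q := sm ge N57594
def N58763 : Q := sm gc N57595
def N58764 : Q := sm ge N57595
def N58765 : Q := sm gb N57596
def N58766 : Q := sm ge N57596
def N58767 : Q := sm gf N57597
def N58768 : Q := sm gc N57598
def N58769 : Q := sm ge N57598
def N58770 : Q := sm gb N57599
def N58771 : Q := sm ge N57599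
def N58772 : Q := sm gf N57600
def N58773 : Q := sm ga N57601
def N58774 : Q := sm ge N57601
def N58775 : Q := sm gf N57602
def N58776 : Q := sm gg N57603
def N58777 : Q := sm gc N57605
def N58778 : Q := sm gb N57606
def N58779 : Q := sm ge N57606
def N58780 : Q := sm ga N57608
def N58781 : Q := sm ge N57608
def N58782 : Q := sm gd N57609
def N58783 : Q := sm gf N57612
def N58784 : Q := sm gd N57615
def N58785 : Q := sm gh N57617
def N58786 : Q := sm gh N57618
def N58787 : Q := sm gc N57619
def N58788 : Q := sm gh N57619
def N58789 : Q := sm gi N57620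
def N58790 : Q := sm ge N57621
def N58791 : Q := sm ge N57624
def N58792 : Q := sm ge N57626
def N58793 : Q := sm gf N57627
def N58794 : Q := sm gd N57628
def N58795 : Q := sm gf N57628
def N58796 : Q := sm gc N57631
def N58797 : Q := sm gc N57632
def N58798 : Q := sm ge N57632
def N58799 : Q := sm gb N57634
def N58800 : Q := sm gc N57635
def N58801 : Q := sm gb N57636
def N58802 : Q := sm gb N57637
def N58803 : Q := sm ge N57637
def N58804 : Q := sm ga N57639
def N58805 : Q := sm gd N57640
def N58806 : Q := sm gc N57641
def N58807 : Q := sm gc N57642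
def N58808 : Q := sm ge N57642
def N58809 : Q := sm gf N57643
def N58810 : Q := sm gc N57644
def N58811 : Q := sm ge N57644
def N58812 : Q := sm gb N57645
def N58813 : Q := sm gd N57646
def N58814 : Q := sm gc N57647
def N58815 : Q := sm gc N57648
def N58816 : Q := sm ge N57648
def N58817 : Q := sm gb N57649
def N58818 : Q := sm gb N57650
def N58819 : Q := sm ge N57650
def N58820 : Q := sm ga N57652
def N58821 : Q := sm gc N57654
def N58822 : Q := sm gc N57655
def N58823 : Q := sm ge N57655
def N58824 : Q := sm gb N57656
def N58825 : Q := sm gb N57657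
def N58826 : Q := sm gb N57658
def N58827 : Q := sm ge N57658
def N58828 : Q := sm ga N57660
def N58829 : Q := sm gb N57661
def N58830 : Q := sm gb N57662
def N58831 : Q := sm gb N57663
def N58832 : Q := sm ga N57664
def N58833 : Q := sm gc N57665
def N58834 : Q := sm ge N57665
def N58835 : Q := sm gb N57666
def N58836 : Q := sm ge N57666
def N58837 : Q := sm ga N57668
def N58838 : Q := sm ge N57668
def N58839 : Q := sm gd N57669
def N58840 : Q := sm gh N57672
def N58841 : Q := sm gi N57674
def N58842 : Q := sm gc N57675
def N58843 : Q := sm gb N57676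
def N58844 : Q := sm gc N57677
def N58845 : Q := sm gc N57678
def N58846 : Q := sm ge N57678
def N58847 : Q := sm gb N57680
def N58848 : Q := sm gc N57681
def N58849 : Q := sm ge N57681
def N58850 : Q := sm gb N57682
def N58851 : Q := sm ge N57682
def N58852 : Q := sm ga N57684
def N58853 : Q := sm gd N57685
def N58854 : Q := sm gc N57686
def N58855 : Q := sm gd N57687
def N58856 : Q := sm gc N57688
def N58857 : Q := sm ge N57688
def N58858 : Q := sm gf N57689
def N58859 : Q := sm gc N57690
def N58860 : Q := sm ge N57690
def N58861 : Q := sm gb N57691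
def N58862 : Q := sm gd N57692
def N58863 : Q := sm gc N57693
def N58864 : Q := sm gd N57694
def N58865 : Q := sm gc N57695
def N58866 : Q := sm ge N57695
def N58867 : Q := sm gb N57696
def N58868 : Q := sm gb N57697
def N58869 : Q := sm ge N57697
def N58870 : Q := sm ga N57699
def N58871 : Q := sm gc N57700
def N58872 : Q := sm ge N57700
def N58873 : Q := sm ge N57701
def N58874 : Q := sm gd N57703
def N58875 : Q := sm gd N57704
def N58876 : Q := sm gc N57705
def N58877 : Q := sm gc N57706
def N58878 : Q := sm ge N57706
def N58879 : Q := sm gb N57707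
def N58880 : Q := sm gd N57708
def N58881 : Q := sm gc N57709
def N58882 : Q := sm gd N57710
def N58883 : Q := sm gc N57711
def N58884 : Q := sm ge N57711
def N58885 : Q := sm gb N57712
def N58886 : Q := sm gc N57713
def N58887 : Q := sm ge N57713
def N58888 : Q := sm gb N57714
def N58889 : Q := sm ge N57714
def N58890 : Q := sm ga N57716
def N58891 : Q := sm gd N57717
def N58892 : Q := sm gc N57718
def N58893 : Q := sm gb N57719
def N58894 : Q := sm gd N57720
def N58895 : Q := sm gc N57721
def N58896 : Q := sm ge N57721
def N58897 : Q := sm gc N57722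
def N58898 : Q := sm gb N57723
def N58899 : Q := sm gb N57724
def N58900 : Q := sm ge N57724
def N58901 : Q := sm ga N57726
def N58902 : Q := sm ga N57727
def N58903 : Q := sm ge N57727
def N58904 : Q := sm gd N57728
def N58905 : Q := sm gc N57730
def N58906 : Q := sm ge N57730
def N58907 : Q := sm ge N57731
def N58908 : Q := sm ge N57733
def N58909 : Q := sm gf N57734
def N58910 : Q := sm gd N57735
def N58911 : Q := sm gd N57736
def N58912 : Q := sm gh N57737
def N58913 : Q := sm gf N57738
def N58914 : Q := sm gi N57740
def N58915 : Q := sm gc N57742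
def N58916 : Q := sm gd N57743
def N58917 : Q := sm gd N57744
def N58918 : Q := sm gc N57745
def N58919 : Q := sm gd N57746
def N58920 : Q := sm gc N57747
def N58921 : Q := sm ge N57747
def N58922 : Q := sm gb N57748
def N58923 : Q := sm gd N57749
def N58924 : Q := sm gc N57750
def N58925 : Q := sm ge N57750
def N58926 : Q := sm gd N57751
def N58927 : Q := sm gd N57752
def N58928 : Q := sm gc N57753
def N58929 : Q := sm ge N57753
def N58930 : Q := sm ge N57754
def N58931 : Q := sm gf N57755
def N58932 : Q := sm gd N57756
def N58933 : Q := sm gd N57757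
def N58934 : Q := sm gc N57758
def N58935 : Q := sm gd N57759
def N58936 : Q := sm gc N57760
def N58937 : Q := sm ge N57760
def N58938 : Q := sm gb N57761
def N58939 : Q := sm ge N57761
def N58940 : Q := sm gf N57762
def N58941 : Q := sm gg N57763
def N58942 : Q := sm gc N57764
def N58943 : Q := sm ge N57764
def N58944 : Q := sm gb N57765
def N58945 : Q := sm ge N57765
def N58946 : Q := sm ga N57767
def N58947 : Q := sm gc N57768
def N58948 : Q := sm gd N57769
def N58949 : Q := sm gc N57770
def N58950 : Q := sm ge N57770
def N58951 : Q := sm gb N57771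
def N58952 : Q := sm gc N57772
def N58953 : Q := sm gd N57773
def N58954 : Q := sm gc N57774
def N58955 : Q := sm gb N57775
def N58956 : Q := sm gd N57776
def N58957 : Q := sm gc N57777
def N58958 : Q := sm ge N57777
def N58959 : Q := sm gb N57778
def N58960 : Q := sm ge N57778
def N58961 : Q := sm ga N57780
def N58962 : Q := sm gc N57781
def N58963 : Q := sm gb N57782
def N58964 : Q := sm gd N57783
def N58965 : Q := sm gc N57784
def N58966 : Q := sm gc N57785
def N58967 : Q := sm gb N57786
def N58968 : Q := sm gc N57787
def N58969 : Q := sm gb N57788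
def N58970 : Q := sm ge N57788
def N58971 : Q := sm ga N57790
def N58972 : Q := sm gc N57791
def N58973 : Q := sm ge N57791
def N58974 : Q := sm gb N57792
def N58975 : Q := sm ge N57792
def N58976 : Q := sm ga N57794
def N58977 : Q := sm ge N57794
def N58978 : Q := sm gd N57795
def N58979 : Q := sm gc N57798
def N58980 : Q := sm ge N57798
def N58981 : Q := sm gb N57799
def N58982 : Q := sm ge N57799
def N58983 : Q := sm gf N57800
def N58984 : Q := sm ge N57801
def N58985 : Q := sm gd N57802
def N58986 : Q := sm ge N57803
def N58987 : Q := sm gd N57805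
def N58988 : Q := sm gd N57806
def N58989 : Q := sm gh N57807
def N58990 : Q := sm gc N57808
def N58991 : Q := sm gc N57809
def N58992 : Q := sm gd N57810
def N58993 : Q := sm gc N57811
def N58994 : Q := sm ge N57811
def N58995 : Q := sm gb N57812
def N58996 : Q := sm ge N57812
def N58997 : Q := sm gf N57813
def N58998 : Q := sm gc N57815
def N58999 : Q := sm ge N57815
def N59000 : Q := sm gb N57816
def N59001 : Q := sm ge N57816
def N59002 : Q := sm ga N57818
def N59003 : Q := sm gc N57819
def N59004 : Q := sm gc N57820
def N59005 : Q := sm ge N57820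
def N59006 : Q := sm gb N57821
def N59007 : Q := sm gd N57822
def N59008 : Q := sm gd N57823
def N59009 : Q := sm gc N57824
def N59010 : Q := sm ge N57824
def N59011 : Q := sm gc N57825
def N59012 : Q := sm gb N57826
def N59013 : Q := sm gd N57827
def N59014 : Q := sm gc N57828
def N59015 : Q := sm ge N57828
def N59016 : Q := sm gb N57829
def N59017 : Q := sm ge N57829
def N59018 : Q := sm ga N57831
def N59019 : Q := sm ge N57831
def N59020 : Q := sm gc N57833
def N59021 : Q := sm ge N57833
def N59022 : Q := sm gb N57834
def N59023 : Q := sm ge N57834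
def N59024 : Q := sm gf N57835
def N59025 : Q := sm ga N57836
def N59026 : Q := sm ge N57836
def N59027 : Q := sm gd N57837
def N59028 : Q := sm gb N57839
def N59029 : Q := sm gd N57840
def N59030 : Q := sm gc N57841
def N59031 : Q := sm ge N57841
def N59032 : Q := sm gb N57842
def N59033 : Q := sm gc N57843
def N59034 : Q := sm gb N57844
def N59035 : Q := sm ge N57844
def N59036 : Q := sm ga N57846
def N59037 : Q := sm ge N57846
def N59038 : Q := sm gd N57848
def N59039 : Q := sm gd N57849
def N59040 : Q := sm gc N57850
def N59041 : Q := sm ge N57850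
def N59042 : Q := sm gc N57851
def N59043 : Q := sm ge N57851
def N59044 : Q := sm gb N57852
def N59045 : Q := sm ge N57852
def N59046 : Q := sm gf N57853
def N59047 : Q := sm gb N57854
def N59048 : Q := sm ge N57854
def N59049 : Q := sm ga N57856
def N59050 : Q := sm ge N57856
def N59051 : Q := sm gd N57857
def N59052 : Q := sm gf N57857
def N59053 : Q := sm gc N57859
def N59054 : Q := sm ge N57859
def N59055 : Q := sm gb N57860
def N59056 : Q := sm ge N57860
def N59057 : Q := sm gf N57861
def N59058 : Q := sm ga N57862
def N59059 : Q := sm ge N57862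
def N59060 : Q := sm gd N57863
def N59061 : Q := sm gf N57863
def N59062 : Q := sm ge N57865
def N59063 : Q := sm gf N57866
def N59064 : Q := sm gb N57868
def N59065 : Q := sm ge N57868
def N59066 : Q := sm ga N57870
def N59067 : Q := sm ge N57870
def N59068 : Q := sm gd N57871
def N59069 : Q := sm ge N57872
def N59070 : Q := sm gd N57873
def N59071 : Q := sm gh N57874
def N59072 : Q := sm ge N57876
def N59073 : Q := sm ge N57877
def N59074 : Q := sm gf N57878
def N59075 : Q := sm gd N57879
def N59076 : Q := sm ge N57880
def N59077 : Q := sm ga N57882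
def N59078 : Q := sm ge N57882
def N59079 : Q := sm gd N57883
def N59080 : Q := sm ge N57885
def N59081 : Q := sm gd N57886
def N59082 : Q := sm gh N57887
def N59083 : Q := sm gf N57888
def N59084 : Q := sm gh N57890
def N59085 : Q := sm gd N57891
def N59086 : Q := sm gh N57892
def N59087 : Q := sm gd N57893
def N59088 : Q := sm gc N57894
def N59089 : Q := sm gh N57894
def N59090 : Q := sm gi N57895
def N59091 : Q := sm ge N57898
def N59092 : Q := sm gd N57899
def N59093 : Q := sm gf N57899
def N59094 : Q := sm gh N57900
def N59095 : Q := sm gd N57902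
def N59096 : Q := sm gh N57903
def N59097 : Q := sm gi N57904
def N59098 : Q := sm gi N57906
def N59099 : Q := sm gc N57907
def N59100 : Q := sm gh N57907
def N59101 : Q := sm gh N57908
def N59102 : Q := sm gd N57911
def N59103 : Q := sm gf N57912
def N59104 : Q := sm ge N57914
def N59105 : Q := sm gf N57915
def N59106 : Q := sm gb N57918
def N59107 : Q := sm ga N57919
def N59108 : Q := sm gb N57920
def N59109 : Q := sm gb N57921
def N59110 : Q := sm ga N57922
def N59111 : Q := sm ga N57923
def N59112 : Q := sm gb N57924
def N59113 : Q := sm gb N57925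
def N59114 : Q := sm ga N57926
def N59115 : Q := sm gc N57927
def N59116 : Q := sm ge N57927
def N59117 : Q := sm gb N57928
def N59118 : Q := sm gc N57929
def N59119 : Q := sm ge N57929
def N59120 : Q := sm gb N57930
def N59121 : Q := sm gc N57931
def N59122 : Q := sm ge N57931
def N59123 : Q := sm gb N57932
def N59124 : Q := sm ge N57932
def N59125 : Q := sm ga N57934
def N59126 : Q := sm gb N57935
def N59127 : Q := sm ga N57936
def N59128 : Q := sm gc N57940
def N59129 : Q := sm ge N57940
def N59130 : Q := sm gb N57942
def N59131 : Q := sm gb N57943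
def N59132 : Q := sm ga N57944
def N59133 : Q := sm ga N57945
def N59134 : Q := sm gc N57946
def N59135 : Q := sm gb N57947
def N59136 : Q := sm ge N57947
def N59137 : Q := sm ga N57949
def N59138 : Q := sm ge N57949
def N59139 : Q := sm gb N57952
def N59140 : Q := sm ga N57953
def N59141 : Q := sm gc N57954
def N59142 : Q := sm ge N57954
def N59143 : Q := sm gb N57955
def N59144 : Q := sm ge N57955
def N59145 : Q := sm ga N57957
def N59146 : Q := sm gd N57958
def N59147 : Q := sm ge N57959
def N59148 : Q := sm gc N57960
def N59149 : Q := sm ge N57960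
def N59150 : Q := sm gf N57961
def N59151 : Q := sm gc N57962
def N59152 : Q := sm ge N57962
def N59153 : Q := sm gb N57963
def N59154 : Q := sm gc N57964
def N59155 : Q := sm ge N57964
def N59156 : Q := sm gf N57965
def N59157 : Q := sm gd N57966
def N59158 : Q := sm gc N57967
def N59159 : Q := sm ge N57967
def N59160 : Q := sm gc N57968
def N59161 : Q := sm ge N57968
def N59162 : Q := sm gb N57969
def N59163 : Q := sm ge N57969
def N59164 : Q := sm gf N57970
def N59165 : Q := sm gg N57971
def N59166 : Q := sm gb N57972
def N59167 : Q := sm ga N57973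
def N59168 : Q := sm gc N57974
def N59169 : Q := sm ge N57974
def N59170 : Q := sm gb N57975
def N59171 : Q := sm ge N57975
def N59172 : Q := sm gf N57976
def N59173 : Q := sm gc N57978
def N59174 : Q := sm ge N57978
def N59175 : Q := sm gb N57979
def N59176 : Q := sm ge N57979
def N59177 : Q := sm gf N57980
def N59178 : Q := sm gb N57981
def N59179 : Q := sm ge N57981
def N59180 : Q := sm ga N57983
def N59181 : Q := sm ge N57983
def N59182 : Q := sm gf N57984
def N59183 : Q := sm ga N57986
def N59184 : Q := sm gf N57994
def N59185 : Q := sm gg N57995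
def N59186 : Q := sm ge N57997
def N59187 : Q := sm gf N57998
def N59188 : Q := sm gc N58002
def N59189 : Q := sm ge N58002
def N59190 : Q := sm ge N58003
def N59191 : Q := sm gc N58005
def N59192 : Q := sm ge N58005
def N59193 : Q := sm gb N58006
def N59194 : Q := sm ge N58006
def N59195 : Q := sm ga N58008
def N59196 : Q := sm gd N58009
def N59197 : Q := sm gc N58010
def N59198 : Q := sm ge N58010
def N59199 : Q := sm gf N58011
def N59200 : Q := sm gb N58012
def N59201 : Q := sm gd N58013
def N59202 : Q := sm gc N58014
def N59203 : Q := sm ge N58014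
def N59204 : Q := sm gd N58016
def N59205 : Q := sm gc N58017
def N59206 : Q := sm ge N58017
def N59207 : Q := sm gb N58018
def N59208 : Q := sm ge N58018
def N59209 : Q := sm ga N58020
def N59210 : Q := sm gc N58021
def N59211 : Q := sm ge N58021
def N59212 : Q := sm gc N58022
def N59213 : Q := sm gb N58023
def N59214 : Q := sm ge N58023
def N59215 : Q := sm gc N58025
def N59216 : Q := sm gc N58026
def N59217 : Q := sm ge N58026
def N59218 : Q := sm gb N58027
def N59219 : Q := sm ge N58027
def N59220 : Q := sm gb N58029
def N59221 : Q := sm ga N58030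
def N59222 : Q := sm ge N58030
def N59223 : Q := sm gb N58032
def N59224 : Q := sm ga N58033
def N59225 : Q := sm gc N58035
def N59226 : Q := sm ge N58035
def N59227 : Q := sm gb N58036
def N59228 : Q := sm ge N58036
def N59229 : Q := sm gf N58037
def N59230 : Q := sm gb N58039
def N59231 : Q := sm ge N58039
def N59232 : Q := sm ga N58041
def N59233 : Q := sm gc N58042
def N59234 : Q := sm ge N58042
def N59235 : Q := sm gb N58043
def N59236 : Q := sm ge N58043
def N59237 : Q := sm gd N58045
def N59238 : Q := sm gc N58046
def N59239 : Q := sm ge N58046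
def N59240 : Q := sm gc N58047
def N59241 : Q := sm ge N58047
def N59242 : Q := sm gb N58048
def N59243 : Q := sm ge N58048
def N59244 : Q := sm gf N58049
def N59245 : Q := sm gb N58050
def N59246 : Q := sm ge N58050
def N59247 : Q := sm ga N58052
def N59248 : Q := sm ge N58052
def N59249 : Q := sm gf N58053
def N59250 : Q := sm gg N58054
def N59251 : Q := sm ga N58056
def N59252 : Q := sm gc N58058
def N59253 : Q := sm ge N58058
def N59254 : Q := sm gb N58059
def N59255 : Q := sm gc N58060
def N59256 : Q := sm ge N58060
def N59257 : Q := sm gc N58061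
def N59258 : Q := sm ge N58061
def N59259 : Q := sm gb N58062
def N59260 : Q := sm ge N58062
def N59261 : Q := sm gc N58064
def N59262 : Q := sm gb N58065
def N59263 : Q := sm ge N58065
def N59264 : Q := sm ga N58067
def N59265 : Q := sm ge N58067
def N59266 : Q := sm gc N58069
def N59267 : Q := sm ge N58069
def N59268 : Q := sm gc N58070
def N59269 : Q := sm ge N58070
def N59270 : Q := sm gb N58071
def N59271 : Q := sm ge N58071
def N59272 : Q := sm gb N58073
def N59273 : Q := sm ge N58073
def N59274 : Q := sm gf N58074
def N59275 : Q := sm ga N58075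
def N59276 : Q := sm ge N58075
def N59277 : Q := sm gf N58076
def N59278 : Q := sm gc N58078
def N59279 : Q := sm ge N58078
def N59280 : Q := sm gb N58079
def N59281 : Q := sm ge N58079
def N59282 : Q := sm ga N58081
def N59283 : Q := sm ge N58081
def N59284 : Q := sm ge N58083
def N59285 : Q := sm gf N58084
def N59286 : Q := sm gb N58086
def N59287 : Q := sm ga N58087
def N59288 : Q := sm ge N58089
def N59289 : Q := sm gf N58093
def N59290 : Q := sm gg N58094
def N59291 : Q := sm gb N58098
def N59292 : Q := sm gb N58099
def N59293 : Q := sm gb N58100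
def N59294 : Q := sm ge N58100
def N59295 : Q := sm gf N58101
def N59296 : Q := sm ga N58103
def N59297 : Q := sm gd N58104
def N59298 : Q := sm gc N58105
def N59299 : Q := sm ge N58105
def N59300 : Q := sm gb N58106
def N59301 : Q := sm ge N58106
def N59302 : Q := sm gf N58107
def N59303 : Q := sm ga N58109
def N59304 : Q := sm ga N58110
def N59305 : Q := sm gd N58111
def N59306 : Q := sm gc N58112
def N59307 : Q := sm ge N58112
def N59308 : Q := sm gc N58113
def N59309 : Q := sm ge N58113
def N59310 : Q := sm gb N58114
def N59311 : Q := sm ge N58114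
def N59312 : Q := sm gf N58115
def N59313 : Q := sm gb N58116
def N59314 : Q := sm ge N58116
def N59315 : Q := sm gf N58117
def N59316 : Q := sm ga N58118
def N59317 : Q := sm ge N58118
def N59318 : Q := sm gf N58119
def N59319 : Q := sm gg N58120
def N59320 : Q := sm ga N58122
def N59321 : Q := sm gf N58125
def N59322 : Q := sm gc N58127
def N59323 : Q := sm ge N58127
def N59324 : Q := sm gb N58128
def N59325 : Q := sm ge N58128
def N59326 : Q := sm ga N58130
def N59327 : Q := sm gb N58131
def N59328 : Q := sm ga N58132
def N59329 : Q := sm ga N58133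
def N59330 : Q := sm ge N58133
def N59331 : Q := sm gf N58134
def N59332 : Q := sm gb N58137
def N59333 : Q := sm ge N58137
def N59334 : Q := sm gc N58140
def N59335 : Q := sm ge N58140
def N59336 : Q := sm gb N58141
def N59337 : Q := sm ge N58141
def N59338 : Q := sm ga N58143
def N59339 : Q := sm ge N58143
def N59340 : Q := sm gf N58144
def N59341 : Q := sm gb N58147
def N59342 : Q := sm ge N58147
def N59343 : Q := sm gb N58149
def N59344 : Q := sm ge N58149
def N59345 : Q := sm ga N58151
def N59346 : Q := sm gb N58152
def N59347 : Q := sm ge N58152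
def N59348 : Q := sm ga N58154
def N59349 : Q := sm ge N58154
def N59350 : Q := sm gb N58157
def N59351 : Q := sm ge N58157
def N59352 : Q := sm gb N58159
def N59353 : Q := sm ge N58159
def N59354 : Q := sm gb N58161
def N59355 : Q := sm ga N58162
def N59356 : Q := sm ge N58162
def N59357 : Q := sm gf N58163
def N59358 : Q := sm gb N58165
def N59359 : Q := sm ge N58165
def N59360 : Q := sm ga N58167
def N59361 : Q := sm ge N58167
def N59362 : Q := sm gb N58169
def N59363 : Q := sm ga N58170
def N59364 : Q := sm ge N58170
def N59365 : Q := sm ge N58172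
def N59366 : Q := sm gf N58173
def N59367 : Q := sm gg N58174
def N59368 : Q := sm ga N58176
def N59369 : Q := sm gc N58178
def N59370 : Q := sm ge N58178
def N59371 : Q := sm gb N58179
def N59372 : Q := sm ga N58180
def N59373 : Q := sm ga N58182
def N59374 : Q := sm gb N58183
def N59375 : Q := sm ga N58184
def N59376 : Q := sm ga N58185
def N59377 : Q := sm gc N58187
def N59378 : Q := sm ge N58187
def N59379 : Q := sm gb N58188
def N59380 : Q := sm gc N58189
def N59381 : Q := sm ge N58189
def N59382 : Q := sm gb N58190
def N59383 : Q := sm ge N58190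
def N59384 : Q := sm ga N58192
def N59385 : Q := sm gc N58193
def N59386 : Q := sm ge N58193
def N59387 : Q := sm gb N58194
def N59388 : Q := sm gc N58195
def N59389 : Q := sm ge N58195
def N59390 : Q := sm gb N58196
def N59391 : Q := sm gb N58197
def N59392 : Q := sm ge N58197
def N59393 : Q := sm ga N58199
def N59394 : Q := sm gb N58200
def N59395 : Q := sm ga N58201
def N59396 : Q := sm gc N58203
def N59397 : Q := sm ge N58203
def N59398 : Q := sm gb N58204
def N59399 : Q := sm gb N58205
def N59400 : Q := sm ge N58205
def N59401 : Q := sm ga N58207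
def N59402 : Q := sm gb N58208
def N59403 : Q := sm ge N58208
def N59404 : Q := sm ga N58210
def N59405 : Q := sm ga N58211
def N59406 : Q := sm ge N58211
def N59407 : Q := sm gb N58216
def N59408 : Q := sm ge N58216
def N59409 : Q := sm ga N58218
def N59410 : Q := sm ga N58219
def N59411 : Q := sm gb N58221
def N59412 : Q := sm gb N58222
def N59413 : Q := sm ge N58222
def N59414 : Q := sm ga N58224
def N59415 : Q := sm gb N58225
def N59416 : Q := sm ga N58226
def N59417 : Q := sm gb N58228
def N59418 : Q := sm gb N58229
def N59419 : Q := sm ga N58230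
def N59420 : Q := sm gb N58231
def N59421 : Q := sm ga N58232
def N59422 : Q := sm gc N58234
def N59423 : Q := sm ge N58234
def N59424 : Q := sm gc N58236
def N59425 : Q := sm ge N58236
def N59426 : Q := sm gb N58237
def N59427 : Q := sm ge N58237
def N59428 : Q := sm gd N58239
def N59429 : Q := sm gc N58240
def N59430 : Q := sm ge N58240
def N59431 : Q := sm gb N58241
def N59432 : Q := sm ge N58241
def N59433 : Q := sm ga N58243
def N59434 : Q := sm ge N58243
def N59435 : Q := sm gc N58246
def N59436 : Q := sm ge N58246
def N59437 : Q := sm gb N58247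
def N59438 : Q := sm gb N58248
def N59439 : Q := sm ge N58248
def N59440 : Q := sm ga N58250
def N59441 : Q := sm gb N58251
def N59442 : Q := sm gb N58252
def N59443 : Q := sm ga N58253
def N59444 : Q := sm gb N58255
def N59445 : Q := sm gc N58256
def N59446 : Q := sm ge N58256
def N59447 : Q := sm gc N58257
def N59448 : Q := sm ge N58257
def N59449 : Q := sm gb N58258
def N59450 : Q := sm gb N58259
def N59451 : Q := sm ge N58259
def N59452 : Q := sm ga N58261
def N59453 : Q := sm gd N58262
def N59454 : Q := sm gc N58263
def N59455 : Q := sm ge N58263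
def N59456 : Q := sm gc N58264
def N59457 : Q := sm ge N58264
def N59458 : Q := sm gb N58265
def N59459 : Q := sm ge N58265
def N59460 : Q := sm gb N58267
def N59461 : Q := sm ga N58268
def N59462 : Q := sm gc N58269
def N59463 : Q := sm ge N58269
def N59464 : Q := sm gb N58270
def N59465 : Q := sm ge N58270
def N59466 : Q := sm gf N58271
def N59467 : Q := sm ga N58272
def N59468 : Q := sm ge N58272
def N59469 : Q := sm gb N58275
def N59470 : Q := sm ga N58276
def N59471 : Q := sm gb N58280
def N59472 : Q := sm ge N58280
def N59473 : Q := sm ga N58282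
def N59474 : Q := sm gb N58283
def N59475 : Q := sm ge N58283
def N59476 : Q := sm ga N58285
def N59477 : Q := sm ge N58285
def N59478 : Q := sm gd N58286
def N59479 : Q := sm gb N58288
def N59480 : Q := sm ge N58288
def N59481 : Q := sm ga N58290
def N59482 : Q := sm ga N58291
def N59483 : Q := sm ga N58292
def N59484 : Q := sm ge N58292
def N59485 : Q := sm gf N58293
def N59486 : Q := sm gg N58294
def N59487 : Q := sm ge N58295
def N59488 : Q := sm gf N58296
def N59489 : Q := sm gg N58297
def N59490 : Q := sm gb N58299
def N59491 : Q := sm ga N58300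
def N59492 : Q := sm gb N58302
def N59493 : Q := sm ga N58303
def N59494 : Q := sm gb N58304
def N59495 : Q := sm ge N58304
def N59496 : Q := sm ga N58306
def N59497 : Q := sm ge N58306
def N59498 : Q := sm gd N58307
def N59499 : Q := sm gc N58309
def N59500 : Q := sm ge N58309
def N59501 : Q := sm gb N58310
def N59502 : Q := sm ge N58310
def N59503 : Q := sm gf N58311
def N59504 : Q := sm gb N58312
def N59505 : Q := sm ge N58312
def N59506 : Q := sm ga N58314
def N59507 : Q := sm ge N58314
def N59508 : Q := sm gd N58315
def N59509 : Q := sm ga N58316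
def N59510 : Q := sm gb N58318
def N59511 : Q := sm gf N58319
def N59512 : Q := sm ga N58320
def N59513 : Q := sm ge N58320
def N59514 : Q := sm ge N58323
def N59515 : Q := sm gf N58324
def N59516 : Q := sm gf N58326
def N59517 : Q := sm ga N58328
def N59518 : Q := sm gf N58335
def N59519 : Q := sm gc N58337
def N59520 : Q := sm ge N58337
def N59521 : Q := sm gb N58338
def N59522 : Q := sm gc N58340
def N59523 : Q := sm gb N58341
def N59524 : Q := sm gc N58342
def N59525 : Q := sm gb N58343
def N59526 : Q := sm gb N58344
def N59527 : Q := sm ge N58344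
def N59528 : Q := sm ga N58346
def N59529 : Q := sm gd N58347
def N59530 : Q := sm gh N58348
def N59531 : Q := sm gb N58349
def N59532 : Q := sm ga N58350
def N59533 : Q := sm gb N58351
def N59534 : Q := sm gb N58352
def N59535 : Q := sm ge N58352
def N59536 : Q := sm ga N58354
def N59537 : Q := sm ga N58356
def N59538 : Q := sm ga N58357
def N59539 : Q := sm gc N58358
def N59540 : Q := sm gb N58359
def N59541 : Q := sm ge N58359
def N59542 : Q := sm ga N58361
def N59543 : Q := sm ge N58361
def N59544 : Q := sm gd N58362
def N59545 : Q := sm gd N58364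
def N59546 : Q := sm gh N58365
def N59547 : Q := sm gi N58366
def N59548 : Q := sm gd N58367
def N59549 : Q := sm gc N58368
def N59550 : Q := sm gd N58369
def N59551 : Q := sm gc N58370
def N59552 : Q := sm ge N58370
def N59553 : Q := sm gd N58371
def N59554 : Q := sm gd N58372
def N59555 : Q := sm gc N58373
def N59556 : Q := sm ge N58373
def N59557 : Q := sm gf N58374
def N59558 : Q := sm gc N58375
def N59559 : Q := sm ge N58375
def N59560 : Q := sm gb N58376
def N59561 : Q := sm gc N58377
def N59562 : Q := sm gd N58378
def N59563 : Q := sm gc N58379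
def N59564 : Q := sm ge N58379
def N59565 : Q := sm gf N58380
def N59566 : Q := sm gd N58381
def N59567 : Q := sm gc N58382
def N59568 : Q := sm ge N58382
def N59569 : Q := sm gb N58383
def N59570 : Q := sm gd N58384
def N59571 : Q := sm gc N58385
def N59572 : Q := sm ge N58385
def N59573 : Q := sm gb N58386
def N59574 : Q := sm ge N58386
def N59575 : Q := sm gf N58387
def N59576 : Q := sm gb N58389
def N59577 : Q := sm ge N58389
def N59578 : Q := sm ga N58391
def N59579 : Q := sm gg N58392
def N59580 : Q := sm gc N58393
def N59581 : Q := sm ge N58393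
def N59582 : Q := sm ge N58394
def N59583 : Q := sm gd N58396
def N59584 : Q := sm gb N58397
def N59585 : Q := sm gc N58398
def N59586 : Q := sm ge N58398
def N59587 : Q := sm gb N58399
def N59588 : Q := sm ge N58399
def N59589 : Q := sm gf N58400
def N59590 : Q := sm gg N58401
def N59591 : Q := sm gc N58402
def N59592 : Q := sm ge N58402
def N59593 : Q := sm gb N58403
def N59594 : Q := sm ge N58403
def N59595 : Q := sm ga N58405
def N59596 : Q := sm gd N58406
def N59597 : Q := sm gc N58407
def N59598 : Q := sm ge N58407
def N59599 : Q := sm gb N58408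
def N59600 : Q := sm ge N58408
def N59601 : Q := sm gd N58410
def N59602 : Q := sm gc N58411
def N59603 : Q := sm ge N58411
def N59604 : Q := sm gc N58412
def N59605 : Q := sm ge N58412
def N59606 : Q := sm gb N58413
def N59607 : Q := sm ge N58413
def N59608 : Q := sm gf N58414
def N59609 : Q := sm gb N58415
def N59610 : Q := sm ge N58415
def N59611 : Q := sm gf N58416
def N59612 : Q := sm ga N58417
def N59613 : Q := sm ge N58417
def N59614 : Q := sm gf N58418
def N59615 : Q := sm gg N58419
def N59616 : Q := sm ga N58421
def N59617 : Q := sm ge N58421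
def N59618 : Q := sm gd N58422
def N59619 : Q := sm ge N58424
def N59620 : Q := sm gf N58425
def N59621 : Q := sm gg N58426
def N59622 : Q := sm ge N58428
def N59623 : Q := sm gf N58429
def N59624 : Q := sm gd N58430
def N59625 : Q := sm gd N58431
def N59626 : Q := sm gh N58433
def N59627 : Q := sm gh N58436
def N59628 : Q := sm gi N58437
def N59629 : Q := sm ge N58439
def N59630 : Q := sm gf N58441
def N59631 : Q := sm gc N58443
def N59632 : Q := sm gb N58444
def N59633 : Q := sm gd N58445
def N59634 : Q := sm gd N58447
def N59635 : Q := sm gc N58448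
def N59636 : Q := sm gc N58449
def N59637 : Q := sm ge N58449
def N59638 : Q := sm gb N58451
def N59639 : Q := sm gc N58452
def N59640 : Q := sm ge N58452
def N59641 : Q := sm gb N58453
def N59642 : Q := sm ge N58453
def N59643 : Q := sm gb N58455
def N59644 : Q := sm ge N58455
def N59645 : Q := sm ga N58457
def N59646 : Q := sm gc N58458
def N59647 : Q := sm ge N58458
def N59648 : Q := sm gb N58459
def N59649 : Q := sm gb N58460
def N59650 : Q := sm gc N58461
def N59651 : Q := sm ge N58461
def N59652 : Q := sm gb N58462
def N59653 : Q := sm ge N58462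
def N59654 : Q := sm gb N58464
def N59655 : Q := sm ge N58464
def N59656 : Q := sm ga N58466
def N59657 : Q := sm gc N58467
def N59658 : Q := sm ge N58467
def N59659 : Q := sm gb N58468
def N59660 : Q := sm ga N58469
def N59661 : Q := sm ga N58470
def N59662 : Q := sm ge N58470
def N59663 : Q := sm gc N58472
def N59664 : Q := sm ge N58472
def N59665 : Q := sm gb N58473
def N59666 : Q := sm ge N58473
def N59667 : Q := sm ga N58475
def N59668 : Q := sm ge N58475
def N59669 : Q := sm gd N58479
def N59670 : Q := sm ge N58480
def N59671 : Q := sm gd N58481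
def N59672 : Q := sm gd N58482
def N59673 : Q := sm gc N58483
def N59674 : Q := sm ge N58483
def N59675 : Q := sm gf N58484
def N59676 : Q := sm gd N58485
def N59677 : Q := sm gc N58486
def N59678 : Q := sm ge N58486
def N59679 : Q := sm gb N58487
def N59680 : Q := sm gd N58488
def N59681 : Q := sm ge N58489
def N59682 : Q := sm gc N58490
def N59683 : Q := sm ge N58490
def N59684 : Q := sm ge N58491
def N59685 : Q := sm gf N58492
def N59686 : Q := sm gc N58493
def N59687 : Q := sm ge N58493
def N59688 : Q := sm gc N58494
def N59689 : Q := sm ge N58494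
def N59690 : Q := sm gb N58495
def N59691 : Q := sm ge N58495
def N59692 : Q := sm gf N58496
def N59693 : Q := sm gg N58497
def N59694 : Q := sm gb N58498
def N59695 : Q := sm ge N58498
def N59696 : Q := sm ga N58500
def N59697 : Q := sm gd N58501
def N59698 : Q := sm gc N58502
def N59699 : Q := sm ge N58502
def N59700 : Q := sm gb N58503
def N59701 : Q := sm gc N58504
def N59702 : Q := sm ge N58504
def N59703 : Q := sm gc N58506
def N59704 : Q := sm ge N58506
def N59705 : Q := sm gb N58507
def N59706 : Q := sm ge N58507
def N59707 : Q := sm gf N58508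
def N59708 : Q := sm gc N58510
def N59709 : Q := sm ge N58510
def N59710 : Q := sm gb N58511
def N59711 : Q := sm ge N58511
def N59712 : Q := sm ga N58513
def N59713 : Q := sm gc N58514
def N59714 : Q := sm ge N58514
def N59715 : Q := sm gb N58515
def N59716 : Q := sm ge N58515
def N59717 : Q := sm gc N58517
def N59718 : Q := sm gc N58518
def N59719 : Q := sm ge N58518
def N59720 : Q := sm gb N58519
def N59721 : Q := sm ge N58519
def N59722 : Q := sm gf N58520
def N59723 : Q := sm gb N58521
def N59724 : Q := sm ga N58522
def N59725 : Q := sm ge N58522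
def N59726 : Q := sm gf N58523
def N59727 : Q := sm gc N58525
def N59728 : Q := sm ge N58525
def N59729 : Q := sm gb N58526
def N59730 : Q := sm ge N58526
def N59731 : Q := sm ga N58528
def N59732 : Q := sm ge N58528
def N59733 : Q := sm gd N58529
def N59734 : Q := sm gf N58531
def N59735 : Q := sm gd N58532
def N59736 : Q := sm gh N58534
def N59737 : Q := sm gd N58535
def N59738 : Q := sm gc N58536
def N59739 : Q := sm ge N58536
def N59740 : Q := sm gb N58537
def N59741 : Q := sm ge N58537
def N59742 : Q := sm ga N58539
def N59743 : Q := sm gc N58540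
def N59744 : Q := sm ge N58540
def N59745 : Q := sm gb N58542
def N59746 : Q := sm ge N58542
def N59747 : Q := sm gf N58543
def N59748 : Q := sm ga N58545
def N59749 : Q := sm ge N58545
def N59750 : Q := sm gf N58546
def N59751 : Q := sm gg N58547
def N59752 : Q := sm gc N58549
def N59753 : Q := sm ge N58549
def N59754 : Q := sm gb N58550
def N59755 : Q := sm ge N58550
def N59756 : Q := sm gf N58551
def N59757 : Q := sm ga N58552
def N59758 : Q := sm ge N58552
def N59759 : Q := sm gd N58553
def N59760 : Q := sm gc N58555
def N59761 : Q := sm gb N58556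
def N59762 : Q := sm ge N58556
def N59763 : Q := sm gc N58558
def N59764 : Q := sm ge N58558
def N59765 : Q := sm gb N58559
def N59766 : Q := sm ge N58559
def N59767 : Q := sm gb N58561
def N59768 : Q := sm ga N58562
def N59769 : Q := sm ge N58562
def N59770 : Q := sm gf N58563
def N59771 : Q := sm gb N58565
def N59772 : Q := sm ge N58565
def N59773 : Q := sm ga N58567
def N59774 : Q := sm ge N58567
def N59775 : Q := sm gf N58568
def N59776 : Q := sm gg N58569
def N59777 : Q := sm gc N58570
def N59778 : Q := sm gb N58571
def N59779 : Q := sm ga N58572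
def N59780 : Q := sm ge N58573
def N59781 : Q := sm gf N58574
def N59782 : Q := sm gg N58575
def N59783 : Q := sm gb N58577
def N59784 : Q := sm ge N58577
def N59785 : Q := sm ga N58579
def N59786 : Q := sm ge N58579
def N59787 : Q := sm ge N58581
def N59788 : Q := sm gd N58582
def N59789 : Q := sm gh N58583
def N59790 : Q := sm gd N58586
def N59791 : Q := sm gc N58588
def N59792 : Q := sm gi N58589
def N59793 : Q := sm gc N58593
def N59794 : Q := sm gb N58594
def N59795 : Q := sm gc N58595
def N59796 : Q := sm gc N58596
def N59797 : Q := sm ge N58596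
def N59798 : Q := sm gc N58598
def N59799 : Q := sm ge N58598
def N59800 : Q := sm gb N58599
def N59801 : Q := sm gc N58601
def N59802 : Q := sm gb N58602
def N59803 : Q := sm gb N58603
def N59804 : Q := sm ge N58603
def N59805 : Q := sm gb N58605
def N59806 : Q := sm ge N58605
def N59807 : Q := sm ga N58607
def N59808 : Q := sm gd N58608
def N59809 : Q := sm gd N58609
def N59810 : Q := sm gc N58610
def N59811 : Q := sm ge N58610
def N59812 : Q := sm gf N58611
def N59813 : Q := sm gc N58612
def N59814 : Q := sm ge N58612
def N59815 : Q := sm gb N58613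
def N59816 : Q := sm gb N58614
def N59817 : Q := sm gc N58615
def N59818 : Q := sm ge N58615
def N59819 : Q := sm gc N58617
def N59820 : Q := sm ge N58617
def N59821 : Q := sm gb N58618
def N59822 : Q := sm ge N58618
def N59823 : Q := sm gf N58619
def N59824 : Q := sm gc N58621
def N59825 : Q := sm ge N58621
def N59826 : Q := sm gb N58622
def N59827 : Q := sm ge N58622
def N59828 : Q := sm ga N58624
def N59829 : Q := sm gd N58626
def N59830 : Q := sm gb N58627
def N59831 : Q := sm ga N58628
def N59832 : Q := sm gb N58629
def N59833 : Q := sm ge N58629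
def N59834 : Q := sm gb N58631
def N59835 : Q := sm ge N58631
def N59836 : Q := sm ga N58633
def N59837 : Q := sm ge N58633
def N59838 : Q := sm gf N58634
def N59839 : Q := sm gb N58636
def N59840 : Q := sm ge N58636
def N59841 : Q := sm ga N58638
def N59842 : Q := sm ge N58638
def N59843 : Q := sm gd N58639
def N59844 : Q := sm gb N58642
def N59845 : Q := sm gb N58643
def N59846 : Q := sm gd N58644
def N59847 : Q := sm gc N58645
def N59848 : Q := sm gc N58646
def N59849 : Q := sm ge N58646
def N59850 : Q := sm gb N58647
def N59851 : Q := sm ge N58647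
def N59852 : Q := sm ga N58649
def N59853 : Q := sm gc N58650
def N59854 : Q := sm gd N58651
def N59855 : Q := sm gd N58652
def N59856 : Q := sm gc N58653
def N59857 : Q := sm ge N58653
def N59858 : Q := sm gf N58654
def N59859 : Q := sm gc N58655
def N59860 : Q := sm ge N58655
def N59861 : Q := sm gb N58656
def N59862 : Q := sm gc N58657
def N59863 : Q := sm gb N58658
def N59864 : Q := sm gc N58659
def N59865 : Q := sm ge N58659
def N59866 : Q := sm gc N58661
def N59867 : Q := sm ge N58661
def N59868 : Q := sm gc N58662
def N59869 : Q := sm gb N58663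
def N59870 : Q := sm ge N58663
def N59871 : Q := sm gf N58664
def N59872 : Q := sm gb N58666
def N59873 : Q := sm ge N58666
def N59874 : Q := sm ga N58668
def N59875 : Q := sm gd N58669
def N59876 : Q := sm gb N58670
def N59877 : Q := sm gb N58671
def N59878 : Q := sm gc N58672
def N59879 : Q := sm gb N58673
def N59880 : Q := sm ga N58674
def N59881 : Q := sm gb N58675
def N59882 : Q := sm ge N58675
def N59883 : Q := sm gf N58676
def N59884 : Q := sm gd N58677
def N59885 : Q := sm gb N58679
def N59886 : Q := sm ge N58679
def N59887 : Q := sm gf N58680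
def N59888 : Q := sm ga N58681
def N59889 : Q := sm ge N58681
def N59890 : Q := sm gf N58682
def N59891 : Q := sm ga N58684
def N59892 : Q := sm ge N58684
def N59893 : Q := sm gd N58685
def N59894 : Q := sm gd N58687
def N59895 : Q := sm gh N58689
def N59896 : Q := sm gi N58690
def N59897 : Q := sm gd N58691
def N59898 : Q := sm gd N58692
def N59899 : Q := sm gc N58693
def N59900 : Q := sm gc N58694
def N59901 : Q := sm ge N58694
def N59902 : Q := sm gb N58695
def N59903 : Q := sm gc N58696
def N59904 : Q := sm ge N58696
def N59905 : Q := sm ge N58697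
def N59906 : Q := sm gf N58698
def N59907 : Q := sm gd N58699
def N59908 : Q := sm gc N58700
def N59909 : Q := sm ge N58700
def N59910 : Q := sm gc N58701
def N59911 : Q := sm ge N58701
def N59912 : Q := sm gb N58702
def N59913 : Q := sm ge N58702
def N59914 : Q := sm gf N58703
def N59915 : Q := sm gg N58704
def N59916 : Q := sm gb N58705
def N59917 : Q := sm ge N58705
def N59918 : Q := sm ga N58707
def N59919 : Q := sm gb N58708
def N59920 : Q := sm gd N58709
def N59921 : Q := sm gc N58710
def N59922 : Q := sm ge N58710
def N59923 : Q := sm gb N58711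
def N59924 : Q := sm ge N58711
def N59925 : Q := sm gb N58713
def N59926 : Q := sm ge N58713
def N59927 : Q := sm ga N58715
def N59928 : Q := sm gc N58716
def N59929 : Q := sm ge N58716
def N59930 : Q := sm gb N58717
def N59931 : Q := sm ge N58717
def N59932 : Q := sm gf N58718
def N59933 : Q := sm gc N58720
def N59934 : Q := sm ge N58720
def N59935 : Q := sm gb N58721
def N59936 : Q := sm ge N58721
def N59937 : Q := sm gf N58722
def N59938 : Q := sm gb N58723
def N59939 : Q := sm ge N58723
def N59940 : Q := sm ga N58725
def N59941 : Q := sm ge N58725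
def N59942 : Q := sm gf N58726
def N59943 : Q := sm gb N58728
def N59944 : Q := sm ge N58728
def N59945 : Q := sm ga N58730
def N59946 : Q := sm ge N58730
def N59947 : Q := sm gd N58731
def N59948 : Q := sm gh N58733
def N59949 : Q := sm gb N58734
def N59950 : Q := sm ge N58734
def N59951 : Q := sm ga N58736
def N59952 : Q := sm gd N58737
def N59953 : Q := sm gc N58738
def N59954 : Q := sm ge N58738
def N59955 : Q := sm gc N58739
def N59956 : Q := sm ge N58739
def N59957 : Q := sm gb N58740
def N59958 : Q := sm ge N58740
def N59959 : Q := sm gb N58742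
def N59960 : Q := sm ge N58742
def N59961 : Q := sm ga N58744
def N59962 : Q := sm ge N58744
def N59963 : Q := sm ga N58746
def N59964 : Q := sm ge N58746
def N59965 : Q := sm gc N58749
def N59966 : Q := sm gb N58750
def N59967 : Q := sm gc N58751
def N59968 : Q := sm ge N58751
def N59969 : Q := sm gc N58752
def N59970 : Q := sm ge N58752
def N59971 : Q := sm gb N58753
def N59972 : Q := sm ge N58753
def N59973 : Q := sm gf N58754
def N59974 : Q := sm gb N58755
def N59975 : Q := sm ge N58755
def N59976 : Q := sm gf N58756
def N59977 : Q := sm ga N58757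
def N59978 : Q := sm ge N58757
def N59979 : Q := sm gf N58758
def N59980 : Q := sm gc N58760
def N59981 : Q := sm ge N58760
def N59982 : Q := sm gb N58761
def N59983 : Q := sm ge N58761
def N59984 : Q := sm gf N58762
def N59985 : Q := sm gb N58763
def N59986 : Q := sm ge N58763
def N59987 : Q := sm gf N58764
def N59988 : Q := sm ga N58765
def N59989 : Q := sm ge N58765
def N59990 : Q := sm gd N58766
def N59991 : Q := sm gf N58766
def N59992 : Q := sm gg N58767
def N59993 : Q := sm gb N58768
def N59994 : Q := sm ge N58768
def N59995 : Q := sm ga N58770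
def N59996 : Q := sm ge N58770
def N59997 : Q := sm gd N58771
def N59998 : Q := sm gf N58771
def N59999 : Q := sm ge N58773
def N60000 : Q := sm gf N58774
def N60001 : Q := sm gg N58775
def N60002 : Q := sm gb N58777
def N60003 : Q := sm ga N58778
def N60004 : Q := sm ge N58778
def N60005 : Q := sm ge N58780
def N60006 : Q := sm gd N58781
def N60007 : Q := sm gh N58782
def N60008 : Q := sm gh N58784
def N60009 : Q := sm gi N58785
def N60010 : Q := sm gi N58786
def N60011 : Q := sm gh N58787
def N60012 : Q := sm gi N58788
def N60013 : Q := sm gd N58792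
def N60014 : Q := sm gf N58792
def N60015 : Q := sm gf N58794
def N60016 : Q := sm gb N58796
def N60017 : Q := sm gb N58797
def N60018 : Q := sm ge N58797
def N60019 : Q := sm ga N58799
def N60020 : Q := sm gb N58800
def N60021 : Q := sm ga N58801
def N60022 : Q := sm ga N58802
def N60023 : Q := sm ge N58802
def N60024 : Q := sm gc N58805
def N60025 : Q := sm ge N58805
def N60026 : Q := sm gb N58806
def N60027 : Q := sm gb N58807
def N60028 : Q := sm ge N58807
def N60029 : Q := sm gf N58808
def N60030 : Q := sm gb N58810
def N60031 : Q := sm ge N58810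
def N60032 : Q := sm ga N58812
def N60033 : Q := sm gc N58813
def N60034 : Q := sm ge N58813
def N60035 : Q := sm gb N58814
def N60036 : Q := sm gb N58815
def N60037 : Q := sm ge N58815
def N60038 : Q := sm ga N58817
def N60039 : Q := sm ga N58818
def N60040 : Q := sm ge N58818
def N60041 : Q := sm gb N58821
def N60042 : Q := sm gb N58822
def N60043 : Q := sm ge N58822
def N60044 : Q := sm ga N58824
def N60045 : Q := sm ga N58825
def N60046 : Q := sm ga N58826
def N60047 : Q := sm ge N58826
def N60048 : Q := sm ga N58829
def N60049 : Q := sm ga N58830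
def N60050 : Q := sm ga N58831
def N60051 : Q := sm gb N58833
def N60052 : Q := sm ge N58833
def N60053 : Q := sm ga N58835
def N60054 : Q := sm ge N58835
def N60055 : Q := sm ge N58837
def N60056 : Q := sm gd N58838
def N60057 : Q := sm gh N58839
def N60058 : Q := sm gi N58840
def N60059 : Q := sm gb N58842
def N60060 : Q := sm ga N58843
def N60061 : Q := sm gb N58844
def N60062 : Q := sm gb N58845
def N60063 : Q := sm ge N58845
def N60064 : Q := sm ga N58847
def N60065 : Q := sm gb N58848
def N60066 : Q := sm ge N58848
def N60067 : Q := sm ga N58850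
def N60068 : Q := sm ge N58850
def N60069 : Q := sm gc N58853
def N60070 : Q := sm ge N58853
def N60071 : Q := sm gb N58854
def N60072 : Q := sm gc N58855
def N60073 : Q := sm ge N58855
def N60074 : Q := sm gb N58856
def N60075 : Q := sm ge N58856
def N60076 : Q := sm gf N58857
def N60077 : Q := sm gg N58858
def N60078 : Q := sm gb N58859
def N60079 : Q := sm ge N58859
def N60080 : Q := sm ga N58861
def N60081 : Q := sm gc N58862
def N60082 : Q := sm ge N58862
def N60083 : Q := sm gb N58863
def N60084 : Q := sm gc N58864
def N60085 : Q := sm ge N58864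
def N60086 : Q := sm gb N58865
def N60087 : Q := sm ge N58865
def N60088 : Q := sm ga N58867
def N60089 : Q := sm ga N58868
def N60090 : Q := sm ge N58868
def N60091 : Q := sm gd N58869
def N60092 : Q := sm ge N58871
def N60093 : Q := sm gf N58872
def N60094 : Q := sm gd N58873
def N60095 : Q := sm gh N58874
def N60096 : Q := sm gc N58875
def N60097 : Q := sm ge N58875
def N60098 : Q := sm gb N58876
def N60099 : Q := sm gb N58877
def N60100 : Q := sm ge N58877
def N60101 : Q := sm ga N58879
def N60102 : Q := sm gc N58880
def N60103 : Q := sm ge N58880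
def N60104 : Q := sm gb N58881
def N60105 : Q := sm gc N58882
def N60106 : Q := sm ge N58882
def N60107 : Q := sm gb N58883
def N60108 : Q := sm ge N58883
def N60109 : Q := sm ga N58885
def N60110 : Q := sm gb N58886
def N60111 : Q := sm ge N58886
def N60112 : Q := sm gf N58887
def N60113 : Q := sm ga N58888
def N60114 : Q := sm ge N58888
def N60115 : Q := sm gd N58889
def N60116 : Q := sm gc N58891
def N60117 : Q := sm gb N58892
def N60118 : Q := sm ga N58893
def N60119 : Q := sm gc N58894
def N60120 : Q := sm ge N58894
def N60121 : Q := sm gb N58895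
def N60122 : Q := sm ge N58895
def N60123 : Q := sm gb N58897
def N60124 : Q := sm ga N58898
def N60125 : Q := sm ga N58899
def N60126 : Q := sm ge N58899
def N60127 : Q := sm gd N58900
def N60128 : Q := sm ge N58902
def N60129 : Q := sm gd N58903
def N60130 : Q := sm gh N58904
def N60131 : Q := sm ge N58905
def N60132 : Q := sm gd N58907
def N60133 : Q := sm gd N58908
def N60134 : Q := sm gh N58911
def N60135 : Q := sm gi N58912
def N60136 : Q := sm gb N58915
def N60137 : Q := sm gc N58916
def N60138 : Q := sm gc N58917
def N60139 : Q := sm ge N58917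
def N60140 : Q := sm gb N58918
def N60141 : Q := sm gc N58919
def N60142 : Q := sm ge N58919
def N60143 : Q := sm gb N58920
def N60144 : Q := sm ge N58920
def N60145 : Q := sm ga N58922
def N60146 : Q := sm gc N58923
def N60147 : Q := sm ge N58923
def N60148 : Q := sm ge N58924
def N60149 : Q := sm gf N58925
def N60150 : Q := sm gc N58926
def N60151 : Q := sm gc N58927
def N60152 : Q := sm ge N58927
def N60153 : Q := sm gb N58928
def N60154 : Q := sm ge N58928
def N60155 : Q := sm gf N58929
def N60156 : Q := sm gd N58930
def N60157 : Q := sm gf N58930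
def N60158 : Q := sm gg N58931
def N60159 : Q := sm gc N58932
def N60160 : Q := sm ge N58932
def N60161 : Q := sm gc N58933
def N60162 : Q := sm gb N58934
def N60163 : Q := sm gc N58935
def N60164 : Q := sm ge N58935
def N60165 : Q := sm gb N58936
def N60166 : Q := sm ge N58936
def N60167 : Q := sm gf N58937
def N60168 : Q := sm ga N58938
def N60169 : Q := sm ge N58938
def N60170 : Q := sm gf N58939
def N60171 : Q := sm gg N58940
def N60172 : Q := sm gb N58942
def N60173 : Q := sm ge N58942
def N60174 : Q := sm ga N58944
def N60175 : Q := sm ge N58944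
def N60176 : Q := sm gd N58945
def N60177 : Q := sm gb N58947
def N60178 : Q := sm gc N58948
def N60179 : Q := sm ge N58948
def N60180 : Q := sm gb N58949
def N60181 : Q := sm ge N58949
def N60182 : Q := sm ga N58951
def N60183 : Q := sm gb N58952
def N60184 : Q := sm gc N58953
def N60185 : Q := sm gb N58954
def N60186 : Q := sm ga N58955
def N60187 : Q := sm gc N58956
def N60188 : Q := sm ge N58956
def N60189 : Q := sm gb N58957
def N60190 : Q := sm ge N58957
def N60191 : Q := sm gf N58958
def N60192 : Q := sm ga N58959
def N60193 : Q := sm ge N58959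
def N60194 : Q := sm gd N58960
def N60195 : Q := sm gb N58962
def N60196 : Q := sm ga N58963
def N60197 : Q := sm gc N58964
def N60198 : Q := sm gb N58965
def N60199 : Q := sm gb N58966
def N60200 : Q := sm ga N58967
def N60201 : Q := sm gb N58968
def N60202 : Q := sm ga N58969
def N60203 : Q := sm ge N58969
def N60204 : Q := sm gb N58972
def N60205 : Q := sm ge N58972
def N60206 : Q := sm ga N58974
def N60207 : Q := sm ge N58974
def N60208 : Q := sm gd N58975
def N60209 : Q := sm ge N58976
def N60210 : Q := sm gd N58977
def N60211 : Q := sm gh N58978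
def N60212 : Q := sm ge N58979
def N60213 : Q := sm ge N58981
def N60214 : Q := sm gd N58982
def N60215 : Q := sm gd N58984
def N60216 : Q := sm gh N58985
def N60217 : Q := sm gd N58986
def N60218 : Q := sm gh N58987
def N60219 : Q := sm gc N58988
def N60220 : Q := sm gh N58988
def N60221 : Q := sm gi N58989
def N60222 : Q := sm gb N58990
def N60223 : Q := sm gb N58991
def N60224 : Q := sm gc N58992
def N60225 : Q := sm ge N58992
def N60226 : Q := sm gb N58993
def N60227 : Q := sm ge N58993
def N60228 : Q := sm gf N58994
def N60229 : Q := sm ga N58995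
def N60230 : Q := sm ge N58995
def N60231 : Q := sm gf N58996
def N60232 : Q := sm gb N58998
def N60233 : Q := sm ge N58998
def N60234 : Q := sm ga N59000
def N60235 : Q := sm ge N59000
def N60236 : Q := sm gd N59001
def N60237 : Q := sm gb N59003
def N60238 : Q := sm gb N59004
def N60239 : Q := sm ge N59004
def N60240 : Q := sm ga N59006
def N60241 : Q := sm gc N59007
def N60242 : Q := sm ge N59007
def N60243 : Q := sm gc N59008
def N60244 : Q := sm gb N59009
def N60245 : Q := sm ge N59009
def N60246 : Q := sm gb N59011
def N60247 : Q := sm ga N59012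
def N60248 : Q := sm gc N59013
def N60249 : Q := sm ge N59013
def N60250 : Q := sm gb N59014
def N60251 : Q := sm ge N59014
def N60252 : Q := sm gf N59015
def N60253 : Q := sm ga N59016
def N60254 : Q := sm ge N59016
def N60255 : Q := sm gd N59017
def N60256 : Q := sm ge N59018
def N60257 : Q := sm gb N59020
def N60258 : Q := sm ge N59020
def N60259 : Q := sm ga N59022
def N60260 : Q := sm ge N59022
def N60261 : Q := sm gd N59023
def N60262 : Q := sm gf N59023
def N60263 : Q := sm ge N59025
def N60264 : Q := sm gd N59026
def N60265 : Q := sm gh N59027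
def N60266 : Q := sm ga N59028
def N60267 : Q := sm gc N59029
def N60268 : Q := sm gb N59030
def N60269 : Q := sm ge N59030
def N60270 : Q := sm ga N59032
def N60271 : Q := sm gb N59033
def N60272 : Q := sm ga N59034
def N60273 : Q := sm ge N59034
def N60274 : Q := sm ge N59036
def N60275 : Q := sm gc N59038
def N60276 : Q := sm ge N59038
def N60277 : Q := sm gc N59039
def N60278 : Q := sm ge N59039
def N60279 : Q := sm gb N59040
def N60280 : Q := sm ge N59040
def N60281 : Q := sm gf N59041
def N60282 : Q := sm gb N59042
def N60283 : Q := sm ge N59042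
def N60284 : Q := sm ga N59044
def N60285 : Q := sm ge N59044
def N60286 : Q := sm gd N59045
def N60287 : Q := sm gf N59045
def N60288 : Q := sm ga N59047
def N60289 : Q := sm ge N59047
def N60290 : Q := sm gd N59048
def N60291 : Q := sm ge N59049
def N60292 : Q := sm gd N59050
def N60293 : Q := sm gf N59050
def N60294 : Q := sm gf N59051
def N60295 : Q := sm gb N59053
def N60296 : Q := sm ge N59053
def N60297 : Q := sm gf N59054
def N60298 : Q := sm ga N59055
def N60299 : Q := sm ge N59055
def N60300 : Q := sm gf N59056
def N60301 : Q := sm ge N59058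
def N60302 : Q := sm gd N59059
def N60303 : Q := sm gf N59059
def N60304 : Q := sm gh N59060
def N60305 : Q := sm gf N59062
def N60306 : Q := sm ga N59064
def N60307 : Q := sm ge N59064
def N60308 : Q := sm gd N59065
def N60309 : Q := sm ge N59066
def N60310 : Q := sm gd N59067
def N60311 : Q := sm gh N59068
def N60312 : Q := sm gd N59069
def N60313 : Q := sm gc N59070
def N60314 : Q := sm gh N59070
def N60315 : Q := sm gi N59071
def N60316 : Q := sm gf N59072
def N60317 : Q := sm gd N59073
def N60318 : Q := sm gf N59073
def N60319 : Q := sm gh N59075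
def N60320 : Q := sm gd N59076
def N60321 : Q := sm ge N59077
def N60322 : Q := sm gd N59078
def N60323 : Q := sm gh N59079
def N60324 : Q := sm gd N59080
def N60325 : Q := sm gc N59081
def N60326 : Q := sm gh N59081
def N60327 : Q := sm gi N59082
def N60328 : Q := sm gi N59084
def N60329 : Q := sm gi N59086
def N60330 : Q := sm gc N59087
def N60331 : Q := sm gh N59087
def N60332 : Q := sm gh N59088
def N60333 : Q := sm gd N59091
def N60334 : Q := sm gf N59091
def N60335 : Q := sm gi N59094
def N60336 : Q := sm gh N59095
def N60337 : Q := sm gh N59099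
def N60338 : Q := sm gd N59101
def N60339 : Q := sm ge N59103
def N60340 : Q := sm ga N59106
def N60341 : Q := sm ga N59108
def N60342 : Q := sm ga N59109
def N60343 : Q := sm ga N59112
def N60344 : Q := sm ga N59113
def N60345 : Q := sm gb N59115
def N60346 : Q := sm ge N59115
def N60347 : Q := sm ga N59117
def N60348 : Q := sm gb N59118
def N60349 : Q := sm ge N59118
def N60350 : Q := sm ga N59120
def N60351 : Q := sm gb N59121
def N60352 : Q := sm ge N59121
def N60353 : Q := sm ga N59123
def N60354 : Q := sm ge N59123
def N60355 : Q := sm ga N59126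
def N60356 : Q := sm gb N59128
def N60357 : Q := sm ge N59128
def N60358 : Q := sm ga N59130
def N60359 : Q := sm ga N59131
def N60360 : Q := sm gb N59134
def N60361 : Q := sm ga N59135
def N60362 : Q := sm ge N59135
def N60363 : Q := sm ge N59137
def N60364 : Q := sm ga N59139
def N60365 : Q := sm gb N59141
def N60366 : Q := sm ge N59141
def N60367 : Q := sm ga N59143
def N60368 : Q := sm ge N59143
def N60369 : Q := sm gc N59146
def N60370 : Q := sm ge N59146
def N60371 : Q := sm gb N59148
def N60372 : Q := sm ge N59148
def N60373 : Q := sm gf N59149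
def N60374 : Q := sm gb N59151
def N60375 : Q := sm ge N59151
def N60376 : Q := sm ga N59153
def N60377 : Q := sm gb N59154
def N60378 : Q := sm ge N59154
def N60379 : Q := sm gf N59155
def N60380 : Q := sm gc N59157
def N60381 : Q := sm ge N59157
def N60382 : Q := sm gb N59158
def N60383 : Q := sm ge N59158
def N60384 : Q := sm gf N59159
def N60385 : Q := sm gb N59160
def N60386 : Q := sm ge N59160
def N60387 : Q := sm ga N59162
def N60388 : Q := sm ge N59162
def N60389 : Q := sm gf N59163
def N60390 : Q := sm gg N59164
def N60391 : Q := sm ga N59166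
def N60392 : Q := sm gb N59168
def N60393 : Q := sm ge N59168
def N60394 : Q := sm gf N59169
def N60395 : Q := sm ga N59170
def N60396 : Q := sm ge N59170
def N60397 : Q := sm gf N59171
def N60398 : Q := sm gb N59173
def N60399 : Q := sm ge N59173
def N60400 : Q := sm ga N59175
def N60401 : Q := sm ge N59175
def N60402 : Q := sm gf N59176
def N60403 : Q := sm ga N59178
def N60404 : Q := sm ge N59178
def N60405 : Q := sm ge N59180
def N60406 : Q := sm gf N59181
def N60407 : Q := sm gg N59184
def N60408 : Q := sm gd N59186
def N60409 : Q := sm gb N59188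
def N60410 : Q := sm ge N59188
def N60411 : Q := sm gd N59190
def N60412 : Q := sm gb N59191
def N60413 : Q := sm ge N59191
def N60414 : Q := sm ga N59193
def N60415 : Q := sm ge N59193
def N60416 : Q := sm gc N59196
def N60417 : Q := sm ge N59196
def N60418 : Q := sm gb N59197
def N60419 : Q := sm ge N59197
def N60420 : Q := sm gf N59198
def N60421 : Q := sm ga N59200
def N60422 : Q := sm gc N59201
def N60423 : Q := sm ge N59201
def N60424 : Q := sm gb N59202
def N60425 : Q := sm ge N59202
def N60426 : Q := sm gc N59204
def N60427 : Q := sm ge N59204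
def N60428 : Q := sm gb N59205
def N60429 : Q := sm ge N59205
def N60430 : Q := sm ga N59207
def N60431 : Q := sm ge N59207
def N60432 : Q := sm gb N59210
def N60433 : Q := sm ge N59210
def N60434 : Q := sm gb N59212
def N60435 : Q := sm ga N59213
def N60436 : Q := sm ge N59213
def N60437 : Q := sm gb N59215
def N60438 : Q := sm gb N59216
def N60439 : Q := sm ge N59216
def N60440 : Q := sm ga N59218
def N60441 : Q := sm ge N59218
def N60442 : Q := sm gd N59219
def N60443 : Q := sm ga N59220
def N60444 : Q := sm ge N59221
def N60445 : Q := sm ga N59223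
def N60446 : Q := sm gb N59225
def N60447 : Q := sm ge N59225
def N60448 : Q := sm gf N59226
def N60449 : Q := sm ga N59227
def N60450 : Q := sm ge N59227
def N60451 : Q := sm gf N59228
def N60452 : Q := sm ga N59230
def N60453 : Q := sm ge N59230
def N60454 : Q := sm gd N59231
def N60455 : Q := sm gb N59233
def N60456 : Q := sm ge N59233
def N60457 : Q := sm ga N59235
def N60458 : Q := sm ge N59235
def N60459 : Q := sm gc N59237
def N60460 : Q := sm ge N59237
def N60461 : Q := sm gb N59238
def N60462 : Q := sm ge N59238
def N60463 : Q := sm gb N59240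
def N60464 : Q := sm ge N59240
def N60465 : Q := sm gf N59241
def N60466 : Q := sm ga N59242
def N60467 : Q := sm ge N59242
def N60468 : Q := sm gf N59243
def N60469 : Q := sm gg N59244
def N60470 : Q := sm ga N59245
def N60471 : Q := sm ge N59245
def N60472 : Q := sm ge N59247
def N60473 : Q := sm gf N59248
def N60474 : Q := sm gg N59249
def N60475 : Q := sm gb N59252
def N60476 : Q := sm ge N59252
def N60477 : Q := sm ga N59254
def N60478 : Q := sm gb N59255
def N60479 : Q := sm ge N59255
def N60480 : Q := sm gb N59257
def N60481 : Q := sm ge N59257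
def N60482 : Q := sm ga N59259
def N60483 : Q := sm ge N59259
def N60484 : Q := sm gb N59261
def N60485 : Q := sm ga N59262
def N60486 : Q := sm ge N59262
def N60487 : Q := sm ge N59264
def N60488 : Q := sm gb N59266
def N60489 : Q := sm ge N59266
def N60490 : Q := sm gb N59268
def N60491 : Q := sm ge N59268
def N60492 : Q := sm ga N59270
def N60493 : Q := sm ge N59270
def N60494 : Q := sm gd N59271
def N60495 : Q := sm ga N59272
def N60496 : Q := sm ge N59272
def N60497 : Q := sm gf N59273
def N60498 : Q := sm ge N59275
def N60499 : Q := sm gf N59276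
def N60500 : Q := sm gb N59278
def N60501 : Q := sm ge N59278
def N60502 : Q := sm ga N59280
def N60503 : Q := sm ge N59280
def N60504 : Q := sm ge N59282
def N60505 : Q := sm gf N59284
def N60506 : Q := sm ga N59286
def N60507 : Q := sm gg N59289
def N60508 : Q := sm ga N59291
def N60509 : Q := sm ga N59292
def N60510 : Q := sm ga N59293
def N60511 : Q := sm ge N59293
def N60512 : Q := sm gf N59294
def N60513 : Q := sm gc N59297
def N60514 : Q := sm ge N59297
def N60515 : Q := sm gb N59298
def N60516 : Q := sm ge N59298
def N60517 : Q := sm gf N59299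
def N60518 : Q := sm ga N59300
def N60519 : Q := sm ge N59300
def N60520 : Q := sm gf N59301
def N60521 : Q := sm gc N59305
def N60522 : Q := sm ge N59305
def N60523 : Q := sm gb N59306
def N60524 : Q := sm ge N59306
def N60525 : Q := sm gf N59307
def N60526 : Q := sm gb N59308
def N60527 : Q := sm ge N59308
def N60528 : Q := sm gf N59309
def N60529 : Q := sm ga N59310
def N60530 : Q := sm ge N59310
def N60531 : Q := sm gf N59311
def N60532 : Q := sm ga N59313
def N60533 : Q := sm ge N59313
def N60534 : Q := sm gf N59314
def N60535 : Q := sm ge N59316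
def N60536 : Q := sm gf N59317
def N60537 : Q := sm gg N59318
def N60538 : Q := sm gb N59322
def N60539 : Q := sm ge N59322
def N60540 : Q := sm ga N59324
def N60541 : Q := sm ge N59324
def N60542 : Q := sm ga N59327
def N60543 : Q := sm ge N59329
def N60544 : Q := sm gf N59330
def N60545 : Q := sm ga N59332
def N60546 : Q := sm ge N59332
def N60547 : Q := sm gb N59334
def N60548 : Q := sm ge N59334
def N60549 : Q := sm ga N59336
def N60550 : Q := sm ge N59336
def N60551 : Q := sm gd N59337
def N60552 : Q := sm ge N59338
def N60553 : Q := sm gf N59339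
def N60554 : Q := sm ga N59341
def N60555 : Q := sm ge N59341
def N60556 : Q := sm ga N59343
def N60557 : Q := sm ge N59343
def N60558 : Q := sm ga N59346
def N60559 : Q := sm ge N59346
def N60560 : Q := sm ge N59348
def N60561 : Q := sm ga N59350
def N60562 : Q := sm ge N59350
def N60563 : Q := sm ga N59352
def N60564 : Q := sm ge N59352
def N60565 : Q := sm ga N59354
def N60566 : Q := sm ge N59355
def N60567 : Q := sm gf N59356
def N60568 : Q := sm ga N59358
def N60569 : Q := sm ge N59358
def N60570 : Q := sm ge N59360
def N60571 : Q := sm ga N59362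
def N60572 : Q := sm ge N59363
def N60573 : Q := sm gf N59365
def N60574 : Q := sm gg N59366
def N60575 : Q := sm gb N59369
def N60576 : Q := sm ge N59369
def N60577 : Q := sm ga N59371
def N60578 : Q := sm ga N59374
def N60579 : Q := sm gb N59377
def N60580 : Q := sm ge N59377
def N60581 : Q := sm ga N59379
def N60582 : Q := sm gb N59380
def N60583 : Q := sm ge N59380
def N60584 : Q := sm ga N59382
def N60585 : Q := sm ge N59382
def N60586 : Q := sm gd N59383
def N60587 : Q := sm gb N59385
def N60588 : Q := sm ge N59385
def N60589 : Q := sm ga N59387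
def N60590 : Q := sm gb N59388
def N60591 : Q := sm ge N59388
def N60592 : Q := sm ga N59390
def N60593 : Q := sm ga N59391
def N60594 : Q := sm ge N59391
def N60595 : Q := sm ga N59394
def N60596 : Q := sm gb N59396
def N60597 : Q := sm ge N59396
def N60598 : Q := sm ga N59398
def N60599 : Q := sm ga N59399
def N60600 : Q := sm ge N59399
def N60601 : Q := sm ga N59402
def N60602 : Q := sm ge N59402
def N60603 : Q := sm gd N59403
def N60604 : Q := sm ge N59405
def N60605 : Q := sm ga N59407
def N60606 : Q := sm ge N59407
def N60607 : Q := sm ga N59411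
def N60608 : Q := sm ga N59412
def N60609 : Q := sm ge N59412
def N60610 : Q := sm gd N59413
def N60611 : Q := sm ga N59415
def N60612 : Q := sm ga N59417
def N60613 : Q := sm ga N59418
def N60614 : Q := sm ga N59420
def N60615 : Q := sm gb N59422
def N60616 : Q := sm ge N59422
def N60617 : Q := sm gb N59424
def N60618 : Q := sm ge N59424
def N60619 : Q := sm ga N59426
def N60620 : Q := sm ge N59426
def N60621 : Q := sm gd N59427
def N60622 : Q := sm gb N59429
def N60623 : Q := sm ge N59429
def N60624 : Q := sm ga N59431
def N60625 : Q := sm ge N59431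
def N60626 : Q := sm ge N59433
def N60627 : Q := sm gb N59435
def N60628 : Q := sm ge N59435
def N60629 : Q := sm ga N59437
def N60630 : Q := sm ga N59438
def N60631 : Q := sm ge N59438
def N60632 : Q := sm gd N59439
def N60633 : Q := sm ga N59441
def N60634 : Q := sm ga N59442
def N60635 : Q := sm ga N59444
def N60636 : Q := sm gb N59445
def N60637 : Q := sm ge N59445
def N60638 : Q := sm gb N59447
def N60639 : Q := sm ge N59447
def N60640 : Q := sm ga N59449
def N60641 : Q := sm ga N59450
def N60642 : Q := sm ge N59450
def N60643 : Q := sm gd N59451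
def N60644 : Q := sm gc N59453
def N60645 : Q := sm ge N59453
def N60646 : Q := sm gb N59454
def N60647 : Q := sm ge N59454
def N60648 : Q := sm gf N59455
def N60649 : Q := sm gb N59456
def N60650 : Q := sm ge N59456
def N60651 : Q := sm ga N59458
def N60652 : Q := sm ge N59458
def N60653 : Q := sm gd N59459
def N60654 : Q := sm ga N59460
def N60655 : Q := sm gb N59462
def N60656 : Q := sm ge N59462
def N60657 : Q := sm ga N59464
def N60658 : Q := sm ge N59464
def N60659 : Q := sm ge N59467
def N60660 : Q := sm ga N59469
def N60661 : Q := sm ga N59471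
def N60662 : Q := sm ge N59471
def N60663 : Q := sm gd N59472
def N60664 : Q := sm ga N59474
def N60665 : Q := sm ge N59474
def N60666 : Q := sm gd N59475
def N60667 : Q := sm ge N59476
def N60668 : Q := sm gd N59477
def N60669 : Q := sm gh N59478
def N60670 : Q := sm ga N59479
def N60671 : Q := sm ge N59479
def N60672 : Q := sm gd N59480
def N60673 : Q := sm ge N59483
def N60674 : Q := sm gf N59484
def N60675 : Q := sm gg N59485
def N60676 : Q := sm gf N59487
def N60677 : Q := sm gg N59488
def N60678 : Q := sm ga N59490
def N60679 : Q := sm ga N59492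
def N60680 : Q := sm ga N59494
def N60681 : Q := sm ge N59494
def N60682 : Q := sm ge N59496
def N60683 : Q := sm gd N59497
def N60684 : Q := sm gh N59498
def N60685 : Q := sm gb N59499
def N60686 : Q := sm ge N59499
def N60687 : Q := sm gf N59500
def N60688 : Q := sm ga N59501
def N60689 : Q := sm ge N59501
def N60690 : Q := sm ga N59504
def N60691 : Q := sm ge N59504
def N60692 : Q := sm ge N59506
def N60693 : Q := sm gd N59507
def N60694 : Q := sm ga N59510
def N60695 : Q := sm ge N59512
def N60696 : Q := sm gf N59514
def N60697 : Q := sm gb N59519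
def N60698 : Q := sm ge N59519
def N60699 : Q := sm ga N59521
def N60700 : Q := sm gb N59522
def N60701 : Q := sm ga N59523
def N60702 : Q := sm gb N59524
def N60703 : Q := sm ga N59525
def N60704 : Q := sm ga N59526
def N60705 : Q := sm ge N59526
def N60706 : Q := sm gd N59527
def N60707 : Q := sm gh N59529
def N60708 : Q := sm gi N59530
def N60709 : Q := sm ga N59531
def N60710 : Q := sm ga N59533
def N60711 : Q := sm ga N59534
def N60712 : Q := sm ge N59534
def N60713 : Q := sm gb N59539
def N60714 : Q := sm ga N59540
def N60715 : Q := sm ge N59540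
def N60716 : Q := sm ge N59542
def N60717 : Q := sm gd N59543
def N60718 : Q := sm gh N59544
def N60719 : Q := sm gc N59545
def N60720 : Q := sm gi N59546
def N60721 : Q := sm gc N59548
def N60722 : Q := sm ge N59548
def N60723 : Q := sm gb N59549
def N60724 : Q := sm gc N59550
def N60725 : Q := sm ge N59550
def N60726 : Q := sm ge N59551
def N60727 : Q := sm gf N59552
def N60728 : Q := sm gc N59553
def N60729 : Q := sm ge N59553
def N60730 : Q := sm gc N59554
def N60731 : Q := sm ge N59554
def N60732 : Q := sm gb N59555
def N60733 : Q := sm ge N59555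
def N60734 : Q := sm gf N59556
def N60735 : Q := sm gg N59557
def N60736 : Q := sm gb N59558
def N60737 : Q := sm ge N59558
def N60738 : Q := sm ga N59560
def N60739 : Q := sm gb N59561
def N60740 : Q := sm gc N59562
def N60741 : Q := sm ge N59562
def N60742 : Q := sm gb N59563
def N60743 : Q := sm ge N59563
def N60744 : Q := sm gf N59564
def N60745 : Q := sm gg N59565
def N60746 : Q := sm gc N59566
def N60747 : Q := sm ge N59566
def N60748 : Q := sm gb N59567
def N60749 : Q := sm ge N59567
def N60750 : Q := sm ga N59569
def N60751 : Q := sm gc N59570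
def N60752 : Q := sm ge N59570
def N60753 : Q := sm gb N59571
def N60754 : Q := sm ge N59571
def N60755 : Q := sm gf N59572
def N60756 : Q := sm ga N59573
def N60757 : Q := sm ge N59573
def N60758 : Q := sm gf N59574
def N60759 : Q := sm ga N59576
def N60760 : Q := sm ge N59576
def N60761 : Q := sm gd N59577
def N60762 : Q := sm ge N59580
def N60763 : Q := sm gf N59581
def N60764 : Q := sm gd N59582
def N60765 : Q := sm gh N59583
def N60766 : Q := sm ga N59584
def N60767 : Q := sm gb N59585
def N60768 : Q := sm ge N59585
def N60769 : Q := sm gf N59586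
def N60770 : Q := sm ga N59587
def N60771 : Q := sm ge N59587
def N60772 : Q := sm gf N59588
def N60773 : Q := sm gg N59589
def N60774 : Q := sm gb N59591
def N60775 : Q := sm ge N59591
def N60776 : Q := sm gf N59592
def N60777 : Q := sm ga N59593
def N60778 : Q := sm ge N59593
def N60779 : Q := sm gd N59594
def N60780 : Q := sm gc N59596
def N60781 : Q := sm ge N59596
def N60782 : Q := sm gb N59597
def N60783 : Q := sm ge N59597
def N60784 : Q := sm ga N59599
def N60785 : Q := sm ge N59599
def N60786 : Q := sm gc N59601
def N60787 : Q := sm ge N59601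
def N60788 : Q := sm gb N59602
def N60789 : Q := sm ge N59602
def N60790 : Q := sm gf N59603
def N60791 : Q := sm gb N59604
def N60792 : Q := sm ge N59604
def N60793 : Q := sm gf N59605
def N60794 : Q := sm ga N59606
def N60795 : Q := sm ge N59606
def N60796 : Q := sm gf N59607
def N60797 : Q := sm gg N59608
def N60798 : Q := sm ga N59609
def N60799 : Q := sm ge N59609
def N60800 : Q := sm gd N59610
def N60801 : Q := sm gf N59610
def N60802 : Q := sm ge N59612
def N60803 : Q := sm gf N59613
def N60804 : Q := sm gg N59614
def N60805 : Q := sm ge N59616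
def N60806 : Q := sm gd N59617
def N60807 : Q := sm gh N59618
def N60808 : Q := sm gd N59619
def N60809 : Q := sm gg N59620
def N60810 : Q := sm gd N59622
def N60811 : Q := sm gh N59625
def N60812 : Q := sm gi N59626
def N60813 : Q := sm gi N59627
def N60814 : Q := sm gb N59631
def N60815 : Q := sm ga N59632
def N60816 : Q := sm gc N59633
def N60817 : Q := sm gc N59634
def N60818 : Q := sm ge N59634
def N60819 : Q := sm gb N59635
def N60820 : Q := sm gb N59636
def N60821 : Q := sm ge N59636
def N60822 : Q := sm ga N59638
def N60823 : Q := sm gb N59639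
def N60824 : Q := sm ge N59639
def N60825 : Q := sm ga N59641
def N60826 : Q := sm ge N59641
def N60827 : Q := sm ga N59643
def N60828 : Q := sm ge N59643
def N60829 : Q := sm gb N59646
def N60830 : Q := sm ge N59646
def N60831 : Q := sm ga N59648
def N60832 : Q := sm ga N59649
def N60833 : Q := sm gb N59650
def N60834 : Q := sm ge N59650
def N60835 : Q := sm ga N59652
def N60836 : Q := sm ge N59652
def N60837 : Q := sm ga N59654
def N60838 : Q := sm ge N59654
def N60839 : Q := sm gb N59657
def N60840 : Q := sm ge N59657
def N60841 : Q := sm ga N59659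
def N60842 : Q := sm ge N59661
def N60843 : Q := sm gb N59663
def N60844 : Q := sm ge N59663
def N60845 : Q := sm ga N59665
def N60846 : Q := sm ge N59665
def N60847 : Q := sm ge N59667
def N60848 : Q := sm gc N59669
def N60849 : Q := sm ge N59669
def N60850 : Q := sm gf N59670
def N60851 : Q := sm gc N59671
def N60852 : Q := sm ge N59671
def N60853 : Q := sm gc N59672
def N60854 : Q := sm ge N59672
def N60855 : Q := sm gb N59673
def N60856 : Q := sm ge N59673
def N60857 : Q := sm gf N59674
def N60858 : Q := sm gg N59675
def N60859 : Q := sm gc N59676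
def N60860 : Q := sm ge N59676
def N60861 : Q := sm gb N59677
def N60862 : Q := sm ge N59677
def N60863 : Q := sm ga N59679
def N60864 : Q := sm gc N59680
def N60865 : Q := sm ge N59680
def N60866 : Q := sm gb N59682
def N60867 : Q := sm ge N59682
def N60868 : Q := sm gf N59683
def N60869 : Q := sm gd N59684
def N60870 : Q := sm gb N59686
def N60871 : Q := sm ge N59686
def N60872 : Q := sm gf N59687
def N60873 : Q := sm gb N59688
def N60874 : Q := sm ge N59688
def N60875 : Q := sm gf N59689
def N60876 : Q := sm ga N59690
def N60877 : Q := sm ge N59690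
def N60878 : Q := sm gf N59691
def N60879 : Q := sm gg N59692
def N60880 : Q := sm ga N59694
def N60881 : Q := sm ge N59694
def N60882 : Q := sm gd N59695
def N60883 : Q := sm gc N59697
def N60884 : Q := sm ge N59697
def N60885 : Q := sm gb N59698
def N60886 : Q := sm ge N59698
def N60887 : Q := sm ga N59700
def N60888 : Q := sm gb N59701
def N60889 : Q := sm ge N59701
def N60890 : Q := sm gb N59703
def N60891 : Q := sm ge N59703
def N60892 : Q := sm ga N59705
def N60893 : Q := sm ge N59705
def N60894 : Q := sm gf N59706
def N60895 : Q := sm gb N59708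
def N60896 : Q := sm ge N59708
def N60897 : Q := sm gf N59709
def N60898 : Q := sm ga N59710
def N60899 : Q := sm ge N59710
def N60900 : Q := sm gd N59711
def N60901 : Q := sm gb N59713
def N60902 : Q := sm ge N59713
def N60903 : Q := sm ga N59715
def N60904 : Q := sm ge N59715
def N60905 : Q := sm gb N59717
def N60906 : Q := sm gb N59718
def N60907 : Q := sm ge N59718
def N60908 : Q := sm ga N59720
def N60909 : Q := sm ge N59720
def N60910 : Q := sm gd N59721
def N60911 : Q := sm gf N59721
def N60912 : Q := sm ga N59723
def N60913 : Q := sm ge N59724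
def N60914 : Q := sm gf N59725
def N60915 : Q := sm gb N59727
def N60916 : Q := sm ge N59727
def N60917 : Q := sm ga N59729
def N60918 : Q := sm ge N59729
def N60919 : Q := sm ge N59731
def N60920 : Q := sm gd N59732
def N60921 : Q := sm gh N59733
def N60922 : Q := sm gh N59735
def N60923 : Q := sm gi N59736
def N60924 : Q := sm gc N59737
def N60925 : Q := sm ge N59737
def N60926 : Q := sm gb N59738
def N60927 : Q := sm ge N59738
def N60928 : Q := sm gf N59739
def N60929 : Q := sm ga N59740
def N60930 : Q := sm ge N59740
def N60931 : Q := sm gd N59741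
def N60932 : Q := sm gb N59743
def N60933 : Q := sm ge N59743
def N60934 : Q := sm ga N59745
def N60935 : Q := sm ge N59745
def N60936 : Q := sm gf N59746
def N60937 : Q := sm ge N59748
def N60938 : Q := sm gf N59749
def N60939 : Q := sm gg N59750
def N60940 : Q := sm gb N59752
def N60941 : Q := sm ge N59752
def N60942 : Q := sm ga N59754
def N60943 : Q := sm ge N59754
def N60944 : Q := sm gf N59755
def N60945 : Q := sm ge N59757
def N60946 : Q := sm gd N59758
def N60947 : Q := sm gb N59760
def N60948 : Q := sm ga N59761
def N60949 : Q := sm ge N59761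
def N60950 : Q := sm gb N59763
def N60951 : Q := sm ge N59763
def N60952 : Q := sm ga N59765
def N60953 : Q := sm ge N59765
def N60954 : Q := sm ga N59767
def N60955 : Q := sm ge N59768
def N60956 : Q := sm gf N59769
def N60957 : Q := sm ga N59771
def N60958 : Q := sm ge N59771
def N60959 : Q := sm ge N59773
def N60960 : Q := sm gf N59774
def N60961 : Q := sm gg N59775
def N60962 : Q := sm gb N59777
def N60963 : Q := sm ga N59778
def N60964 : Q := sm gf N59780
def N60965 : Q := sm gg N59781
def N60966 : Q := sm ga N59783
def N60967 : Q := sm ge N59783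
def N60968 : Q := sm ge N59785
def N60969 : Q := sm gd N59787
def N60970 : Q := sm gc N59788
def N60971 : Q := sm gh N59788
def N60972 : Q := sm gi N59789
def N60973 : Q := sm gc N59790
def N60974 : Q := sm gb N59793
def N60975 : Q := sm ga N59794
def N60976 : Q := sm gb N59795
def N60977 : Q := sm gb N59796
def N60978 : Q := sm ge N59796
def N60979 : Q := sm gb N59798
def N60980 : Q := sm ge N59798
def N60981 : Q := sm ga N59800
def N60982 : Q := sm gb N59801
def N60983 : Q := sm ga N59802
def N60984 : Q := sm ga N59803
def N60985 : Q := sm ge N59803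
def N60986 : Q := sm ga N59805
def N60987 : Q := sm ge N59805
def N60988 : Q := sm gc N59808
def N60989 : Q := sm ge N59808
def N60990 : Q := sm gc N59809
def N60991 : Q := sm ge N59809
def N60992 : Q := sm gb N59810
def N60993 : Q := sm ge N59810
def N60994 : Q := sm gf N59811
def N60995 : Q := sm gb N59813
def N60996 : Q := sm ge N59813
def N60997 : Q := sm ga N59815
def N60998 : Q := sm ga N59816
def N60999 : Q := sm gb N59817
def N61000 : Q := sm ge N59817
def N61001 : Q := sm gb N59819
def N61002 : Q := sm ge N59819
def N61003 : Q := sm gf N59820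
def N61004 : Q := sm ga N59821
def N61005 : Q := sm ge N59821
def N61006 : Q := sm gf N59822
def N61007 : Q := sm gb N59824
def N61008 : Q := sm ge N59824
def N61009 : Q := sm ga N59826
def N61010 : Q := sm ge N59826
def N61011 : Q := sm gd N59827
def N61012 : Q := sm ga N59830
def N61013 : Q := sm ga N59832
def N61014 : Q := sm ge N59832
def N61015 : Q := sm ga N59834
def N61016 : Q := sm ge N59834
def N61017 : Q := sm ge N59836
def N61018 : Q := sm gf N59837
def N61019 : Q := sm ga N59839
def N61020 : Q := sm ge N59839
def N61021 : Q := sm ge N59841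
def N61022 : Q := sm gd N59842
def N61023 : Q := sm ga N59844
def N61024 : Q := sm ga N59845
def N61025 : Q := sm gc N59846
def N61026 : Q := sm gb N59847
def N61027 : Q := sm gb N59848
def N61028 : Q := sm ge N59848
def N61029 : Q := sm ga N59850
def N61030 : Q := sm ge N59850
def N61031 : Q := sm gb N59853
def N61032 : Q := sm gc N59854
def N61033 : Q := sm ge N59854
def N61034 : Q := sm gc N59855
def N61035 : Q := sm ge N59855
def N61036 : Q := sm gb N59856
def N61037 : Q := sm ge N59856
def N61038 : Q := sm gf N59857
def N61039 : Q := sm gg N59858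
def N61040 : Q := sm gb N59859
def N61041 : Q := sm ge N59859
def N61042 : Q := sm ga N59861
def N61043 : Q := sm gb N59862
def N61044 : Q := sm ga N59863
def N61045 : Q := sm gb N59864
def N61046 : Q := sm ge N59864
def N61047 : Q := sm gb N59866
def N61048 : Q := sm ge N59866
def N61049 : Q := sm gf N59867
def N61050 : Q := sm gb N59868
def N61051 : Q := sm ga N59869
def N61052 : Q := sm ge N59869
def N61053 : Q := sm gf N59870
def N61054 : Q := sm ga N59872
def N61055 : Q := sm ge N59872
def N61056 : Q := sm gd N59873
def N61057 : Q := sm gh N59875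
def N61058 : Q := sm ga N59876
def N61059 : Q := sm ga N59877
def N61060 : Q := sm gb N59878
def N61061 : Q := sm ga N59879
def N61062 : Q := sm ga N59881
def N61063 : Q := sm ge N59881
def N61064 : Q := sm gd N59882
def N61065 : Q := sm gf N59882
def N61066 : Q := sm ga N59885
def N61067 : Q := sm ge N59885
def N61068 : Q := sm gd N59886
def N61069 : Q := sm gf N59886
def N61070 : Q := sm ge N59888
def N61071 : Q := sm gf N59889
def N61072 : Q := sm ge N59891
def N61073 : Q := sm gd N59892
def N61074 : Q := sm gh N59893
def N61075 : Q := sm gh N59894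
def N61076 : Q := sm gi N59895
def N61077 : Q := sm gc N59897
def N61078 : Q := sm gc N59898
def N61079 : Q := sm ge N59898
def N61080 : Q := sm gb N59899
def N61081 : Q := sm gb N59900
def N61082 : Q := sm ge N59900
def N61083 : Q := sm ga N59902
def N61084 : Q := sm gb N59903
def N61085 : Q := sm ge N59903
def N61086 : Q := sm gf N59904
def N61087 : Q := sm gd N59905
def N61088 : Q := sm gf N59905
def N61089 : Q := sm gg N59906
def N61090 : Q := sm gc N59907
def N61091 : Q := sm gb N59908
def N61092 : Q := sm ge N59908
def N61093 : Q := sm gf N59909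
def N61094 : Q := sm gb N59910
def N61095 : Q := sm ge N59910
def N61096 : Q := sm gf N59911
def N61097 : Q := sm ga N59912
def N61098 : Q := sm ge N59912
def N61099 : Q := sm gf N59913
def N61100 : Q := sm gg N59914
def N61101 : Q := sm gj N59915
def N61102 : Q := sm ga N59916
def N61103 : Q := sm ge N59916
def N61104 : Q := sm gd N59917
def N61105 : Q := sm ga N59919
def N61106 : Q := sm gc N59920
def N61107 : Q := sm ge N59920
def N61108 : Q := sm gb N59921
def N61109 : Q := sm ge N59921
def N61110 : Q := sm ga N59923
def N61111 : Q := sm ge N59923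
def N61112 : Q := sm ga N59925
def N61113 : Q := sm ge N59925
def N61114 : Q := sm gb N59928
def N61115 : Q := sm ge N59928
def N61116 : Q := sm gf N59929
def N61117 : Q := sm ga N59930
def N61118 : Q := sm ge N59930
def N61119 : Q := sm gf N59931
def N61120 : Q := sm gb N59933
def N61121 : Q := sm ge N59933
def N61122 : Q := sm gf N59934
def N61123 : Q := sm ga N59935
def N61124 : Q := sm ge N59935
def N61125 : Q := sm gd N59936
def N61126 : Q := sm gf N59936
def N61127 : Q := sm ga N59938
def N61128 : Q := sm ge N59938
def N61129 : Q := sm ge N59940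
def N61130 : Q := sm gf N59941
def N61131 : Q := sm ga N59943
def N61132 : Q := sm ge N59943
def N61133 : Q := sm ge N59945
def N61134 : Q := sm gd N59946
def N61135 : Q := sm gh N59947
def N61136 : Q := sm gi N59948
def N61137 : Q := sm ga N59949
def N61138 : Q := sm ge N59949
def N61139 : Q := sm gc N59952
def N61140 : Q := sm ge N59952
def N61141 : Q := sm gb N59953
def N61142 : Q := sm ge N59953
def N61143 : Q := sm gb N59955
def N61144 : Q := sm ge N59955
def N61145 : Q := sm ga N59957
def N61146 : Q := sm ge N59957
def N61147 : Q := sm ga N59959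
def N61148 : Q := sm ge N59959
def N61149 : Q := sm ge N59961
def N61150 : Q := sm ge N59963
def N61151 : Q := sm gb N59965
def N61152 : Q := sm ga N59966
def N61153 : Q := sm gb N59967
def N61154 : Q := sm ge N59967
def N61155 : Q := sm gf N59968
def N61156 : Q := sm gb N59969
def N61157 : Q := sm ge N59969
def N61158 : Q := sm gf N59970
def N61159 : Q := sm ga N59971
def N61160 : Q := sm ge N59971
def N61161 : Q := sm gf N59972
def N61162 : Q := sm ga N59974
def N61163 : Q := sm ge N59974
def N61164 : Q := sm gf N59975
def N61165 : Q := sm ge N59977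
def N61166 : Q := sm gf N59978
def N61167 : Q := sm gb N59980
def N61168 : Q := sm ge N59980
def N61169 : Q := sm gf N59981
def N61170 : Q := sm ga N59982
def N61171 : Q := sm ge N59982
def N61172 : Q := sm gd N59983
def N61173 : Q := sm gf N59983
def N61174 : Q := sm ga N59985
def N61175 : Q := sm ge N59985
def N61176 : Q := sm gd N59986
def N61177 : Q := sm gf N59986
def N61178 : Q := sm gg N59987
def N61179 : Q := sm ge N59988
def N61180 : Q := sm gd N59989
def N61181 : Q := sm gf N59989
def N61182 : Q := sm gf N59990
def N61183 : Q := sm gg N59991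
def N61184 : Q := sm ga N59993
def N61185 : Q := sm ge N59993
def N61186 : Q := sm ge N59995
def N61187 : Q := sm gd N59996
def N61188 : Q := sm gf N59996
def N61189 : Q := sm gh N59997
def N61190 : Q := sm gf N59999
def N61191 : Q := sm gg N60000
def N61192 : Q := sm ga N60002
def N61193 : Q := sm ge N60003
def N61194 : Q := sm gd N60005
def N61195 : Q := sm gh N60006
def N61196 : Q := sm gi N60007
def N61197 : Q := sm gi N60008
def N61198 : Q := sm gd N60011
def N61199 : Q := sm gf N60013
def N61200 : Q := sm ge N60015
def N61201 : Q := sm ga N60016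
def N61202 : Q := sm ga N60017
def N61203 : Q := sm ge N60017
def N61204 : Q := sm ga N60020
def N61205 : Q := sm ge N60022
def N61206 : Q := sm gb N60024
def N61207 : Q := sm ge N60024
def N61208 : Q := sm ga N60026
def N61209 : Q := sm ga N60027
def N61210 : Q := sm ge N60027
def N61211 : Q := sm gf N60028
def N61212 : Q := sm ga N60030
def N61213 : Q := sm ge N60030
def N61214 : Q := sm gd N60031
def N61215 : Q := sm gb N60033
def N61216 : Q := sm ge N60033
def N61217 : Q := sm ga N60035
def N61218 : Q := sm ga N60036
def N61219 : Q := sm ge N60036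
def N61220 : Q := sm ge N60039
def N61221 : Q := sm ga N60041
def N61222 : Q := sm ga N60042
def N61223 : Q := sm ge N60042
def N61224 : Q := sm gd N60043
def N61225 : Q := sm ge N60046
def N61226 : Q := sm ga N60051
def N61227 : Q := sm ge N60051
def N61228 : Q := sm ge N60053
def N61229 : Q := sm gd N60055
def N61230 : Q := sm gh N60056
def N61231 : Q := sm gi N60057
def N61232 : Q := sm ga N60059
def N61233 : Q := sm ga N60061
def N61234 : Q := sm ga N60062
def N61235 : Q := sm ge N60062
def N61236 : Q := sm ga N60065
def N61237 : Q := sm ge N60065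
def N61238 : Q := sm gd N60066
def N61239 : Q := sm ge N60067
def N61240 : Q := sm gb N60069
def N61241 : Q := sm ge N60069
def N61242 : Q := sm ga N60071
def N61243 : Q := sm gb N60072
def N61244 : Q := sm ge N60072
def N61245 : Q := sm gf N60073
def N61246 : Q := sm ga N60074
def N61247 : Q := sm ge N60074
def N61248 : Q := sm gf N60075
def N61249 : Q := sm gg N60076
def N61250 : Q := sm ga N60078
def N61251 : Q := sm ge N60078
def N61252 : Q := sm gd N60079
def N61253 : Q := sm gb N60081
def N61254 : Q := sm ge N60081
def N61255 : Q := sm ga N60083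
def N61256 : Q := sm gb N60084
def N61257 : Q := sm ge N60084
def N61258 : Q := sm gf N60085
def N61259 : Q := sm ga N60086
def N61260 : Q := sm ge N60086
def N61261 : Q := sm gd N60087
def N61262 : Q := sm ge N60089
def N61263 : Q := sm gd N60090
def N61264 : Q := sm gh N60091
def N61265 : Q := sm gd N60092
def N61266 : Q := sm gh N60094
def N61267 : Q := sm gb N60096
def N61268 : Q := sm ge N60096
def N61269 : Q := sm ga N60098
def N61270 : Q := sm ga N60099
def N61271 : Q := sm ge N60099
def N61272 : Q := sm gd N60100
def N61273 : Q := sm gb N60102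
def N61274 : Q := sm ge N60102
def N61275 : Q := sm ga N60104
def N61276 : Q := sm gb N60105
def N61277 : Q := sm ge N60105
def N61278 : Q := sm ga N60107
def N61279 : Q := sm ge N60107
def N61280 : Q := sm gd N60108
def N61281 : Q := sm ga N60110
def N61282 : Q := sm ge N60110
def N61283 : Q := sm gd N60111
def N61284 : Q := sm gf N60111
def N61285 : Q := sm ge N60113
def N61286 : Q := sm gd N60114
def N61287 : Q := sm gb N60116
def N61288 : Q := sm ga N60117
def N61289 : Q := sm gb N60119
def N61290 : Q := sm ge N60119
def N61291 : Q := sm ga N60121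
def N61292 : Q := sm ge N60121
def N61293 : Q := sm gd N60122
def N61294 : Q := sm ga N60123
def N61295 : Q := sm ge N60125
def N61296 : Q := sm gd N60126
def N61297 : Q := sm gh N60127
def N61298 : Q := sm gd N60128
def N61299 : Q := sm gh N60129
def N61300 : Q := sm gi N60130
def N61301 : Q := sm gd N60131
def N61302 : Q := sm ga N60136
def N61303 : Q := sm gb N60137
def N61304 : Q := sm gb N60138
def N61305 : Q := sm ge N60138
def N61306 : Q := sm ga N60140
def N61307 : Q := sm gb N60141
def N61308 : Q := sm ge N60141
def N61309 : Q := sm ga N60143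
def N61310 : Q := sm ge N60143
def N61311 : Q := sm gd N60144
def N61312 : Q := sm gb N60146
def N61313 : Q := sm ge N60146
def N61314 : Q := sm gf N60147
def N61315 : Q := sm gd N60148
def N61316 : Q := sm gf N60148
def N61317 : Q := sm gg N60149
def N61318 : Q := sm gb N60150
def N61319 : Q := sm gb N60151
def N61320 : Q := sm ge N60151
def N61321 : Q := sm gf N60152
def N61322 : Q := sm ga N60153
def N61323 : Q := sm ge N60153
def N61324 : Q := sm gd N60154
def N61325 : Q := sm gf N60154
def N61326 : Q := sm gg N60155
def N61327 : Q := sm gf N60156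
def N61328 : Q := sm gb N60159
def N61329 : Q := sm ge N60159
def N61330 : Q := sm gb N60161
def N61331 : Q := sm ga N60162
def N61332 : Q := sm gb N60163
def N61333 : Q := sm ge N60163
def N61334 : Q := sm gf N60164
def N61335 : Q := sm ga N60165
def N61336 : Q := sm ge N60165
def N61337 : Q := sm gd N60166
def N61338 : Q := sm gf N60166
def N61339 : Q := sm gg N60167
def N61340 : Q := sm ge N60168
def N61341 : Q := sm gf N60169
def N61342 : Q := sm gg N60170
def N61343 : Q := sm ga N60172
def N61344 : Q := sm ge N60172
def N61345 : Q := sm gd N60173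
def N61346 : Q := sm ge N60174
def N61347 : Q := sm gd N60175
def N61348 : Q := sm gh N60176
def N61349 : Q := sm ga N60177
def N61350 : Q := sm gb N60178
def N61351 : Q := sm ge N60178
def N61352 : Q := sm ga N60180
def N61353 : Q := sm ge N60180
def N61354 : Q := sm gd N60181
def N61355 : Q := sm ga N60183
def N61356 : Q := sm gb N60184
def N61357 : Q := sm ga N60185
def N61358 : Q := sm gb N60187
def N61359 : Q := sm ge N60187
def N61360 : Q := sm ga N60189
def N61361 : Q := sm ge N60189
def N61362 : Q := sm gd N60190
def N61363 : Q := sm gf N60190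
def N61364 : Q := sm ge N60192
def N61365 : Q := sm gd N60193
def N61366 : Q := sm gh N60194
def N61367 : Q := sm ga N60195
def N61368 : Q := sm gb N60197
def N61369 : Q := sm ga N60198
def N61370 : Q := sm ga N60199
def N61371 : Q := sm ga N60201
def N61372 : Q := sm ge N60202
def N61373 : Q := sm ga N60204
def N61374 : Q := sm ge N60204
def N61375 : Q := sm gd N60205
def N61376 : Q := sm ge N60206
def N61377 : Q := sm gd N60207
def N61378 : Q := sm gh N60208
def N61379 : Q := sm gd N60209
def N61380 : Q := sm gc N60210
def N61381 : Q := sm gh N60210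
def N61382 : Q := sm gi N60211
def N61383 : Q := sm gd N60212
def N61384 : Q := sm gd N60213
def N61385 : Q := sm gh N60214
def N61386 : Q := sm gc N60215
def N61387 : Q := sm gi N60216
def N61388 : Q := sm gh N60217
def N61389 : Q := sm gi N60218
def N61390 : Q := sm gh N60219
def N61391 : Q := sm gi N60220
def N61392 : Q := sm ga N60222
def N61393 : Q := sm ga N60223
def N61394 : Q := sm gb N60224
def N61395 : Q := sm ge N60224
def N61396 : Q := sm ga N60226
def N61397 : Q := sm ge N60226
def N61398 : Q := sm gd N60227
def N61399 : Q := sm gf N60227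
def N61400 : Q := sm ge N60229
def N61401 : Q := sm gf N60230
def N61402 : Q := sm ga N60232
def N61403 : Q := sm ge N60232
def N61404 : Q := sm gd N60233
def N61405 : Q := sm ge N60234
def N61406 : Q := sm gd N60235
def N61407 : Q := sm gh N60236
def N61408 : Q := sm ga N60237
def N61409 : Q := sm ga N60238
def N61410 : Q := sm ge N60238
def N61411 : Q := sm gb N60241
def N61412 : Q := sm ge N60241
def N61413 : Q := sm gb N60243
def N61414 : Q := sm ga N60244
def N61415 : Q := sm ge N60244
def N61416 : Q := sm gd N60245
def N61417 : Q := sm ga N60246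
def N61418 : Q := sm gb N60248
def N61419 : Q := sm ge N60248
def N61420 : Q := sm gf N60249
def N61421 : Q := sm ga N60250
def N61422 : Q := sm ge N60250
def N61423 : Q := sm gd N60251
def N61424 : Q := sm gf N60251
def N61425 : Q := sm ge N60253
def N61426 : Q := sm gd N60254
def N61427 : Q := sm gh N60255
def N61428 : Q := sm ga N60257
def N61429 : Q := sm ge N60257
def N61430 : Q := sm gd N60258
def N61431 : Q := sm ge N60259
def N61432 : Q := sm gd N60260
def N61433 : Q := sm gf N60260
def N61434 : Q := sm gh N60261
def N61435 : Q := sm gd N60263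
def N61436 : Q := sm gc N60264
def N61437 : Q := sm gh N60264
def N61438 : Q := sm gi N60265
def N61439 : Q := sm gb N60267
def N61440 : Q := sm ga N60268
def N61441 : Q := sm ge N60268
def N61442 : Q := sm gd N60269
def N61443 : Q := sm ga N60271
def N61444 : Q := sm ge N60272
def N61445 : Q := sm gb N60275
def N61446 : Q := sm ge N60275
def N61447 : Q := sm gf N60276
def N61448 : Q := sm gb N60277
def N61449 : Q := sm ge N60277
def N61450 : Q := sm gf N60278
def N61451 : Q := sm ga N60279
def N61452 : Q := sm ge N60279
def N61453 : Q := sm gd N60280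
def N61454 : Q := sm gf N60280
def N61455 : Q := sm ga N60282
def N61456 : Q := sm ge N60282
def N61457 : Q := sm gd N60283
def N61458 : Q := sm ge N60284
def N61459 : Q := sm gd N60285
def N61460 : Q := sm gf N60285
def N61461 : Q := sm gf N60286
def N61462 : Q := sm gh N60286
def N61463 : Q := sm ge N60288
def N61464 : Q := sm gd N60289
def N61465 : Q := sm gd N60291
def N61466 : Q := sm gf N60291
def N61467 : Q := sm gf N60292
def N61468 : Q := sm ge N60294
def N61469 : Q := sm ga N60295
def N61470 : Q := sm ge N60295
def N61471 : Q := sm gf N60296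
def N61472 : Q := sm ge N60298
def N61473 : Q := sm gf N60299
def N61474 : Q := sm gd N60301
def N61475 : Q := sm gf N60301
def N61476 : Q := sm gh N60302
def N61477 : Q := sm gi N60304
def N61478 : Q := sm ge N60306
def N61479 : Q := sm gd N60307
def N61480 : Q := sm gd N60309
def N61481 : Q := sm gh N60310
def N61482 : Q := sm gi N60311
def N61483 : Q := sm gc N60312
def N61484 : Q := sm gh N60312
def N61485 : Q := sm gh N60313
def N61486 : Q := sm gi N60314
def N61487 : Q := sm gf N60317
def N61488 : Q := sm gh N60317
def N61489 : Q := sm gi N60319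
def N61490 : Q := sm gd N60321
def N61491 : Q := sm gc N60322
def N61492 : Q := sm gi N60323
def N61493 : Q := sm gc N60324
def N61494 : Q := sm gh N60324
def N61495 : Q := sm gh N60325
def N61496 : Q := sm gb N60330
def N61497 : Q := sm gh N60330
def N61498 : Q := sm gd N60332
def N61499 : Q := sm gd N60337
def N61500 : Q := sm ge N60338
def N61501 : Q := sm ga N60345
def N61502 : Q := sm ge N60345
def N61503 : Q := sm ga N60348
def N61504 : Q := sm ge N60348
def N61505 : Q := sm gd N60349
def N61506 : Q := sm ga N60351
def N61507 : Q := sm ge N60351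
def N61508 : Q := sm ge N60353
def N61509 : Q := sm ga N60356
def N61510 : Q := sm ge N60356
def N61511 : Q := sm ga N60360
def N61512 : Q := sm ge N60361
def N61513 : Q := sm ga N60365
def N61514 : Q := sm ge N60365
def N61515 : Q := sm gd N60366
def N61516 : Q := sm ge N60367
def N61517 : Q := sm gb N60369
def N61518 : Q := sm ge N60369
def N61519 : Q := sm ga N60371
def N61520 : Q := sm ge N60371
def N61521 : Q := sm gf N60372
def N61522 : Q := sm ga N60374
def N61523 : Q := sm ge N60374
def N61524 : Q := sm gd N60375
def N61525 : Q := sm ga N60377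
def N61526 : Q := sm ge N60377
def N61527 : Q := sm gf N60378
def N61528 : Q := sm gb N60380
def N61529 : Q := sm ge N60380
def N61530 : Q := sm ga N60382
def N61531 : Q := sm ge N60382
def N61532 : Q := sm gf N60383
def N61533 : Q := sm gg N60384
def N61534 : Q := sm ga N60385
def N61535 : Q := sm ge N60385
def N61536 : Q := sm ge N60387
def N61537 : Q := sm gf N60388
def N61538 : Q := sm gg N60389
def N61539 : Q := sm ga N60392
def N61540 : Q := sm ge N60392
def N61541 : Q := sm gd N60393
def N61542 : Q := sm gf N60393
def N61543 : Q := sm ge N60395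
def N61544 : Q := sm gf N60396
def N61545 : Q := sm ga N60398
def N61546 : Q := sm ge N60398
def N61547 : Q := sm gd N60399
def N61548 : Q := sm ge N60400
def N61549 : Q := sm gf N60401
def N61550 : Q := sm ge N60403
def N61551 : Q := sm gf N60405
def N61552 : Q := sm ga N60409
def N61553 : Q := sm ge N60409
def N61554 : Q := sm gd N60410
def N61555 : Q := sm ga N60412
def N61556 : Q := sm ge N60412
def N61557 : Q := sm gd N60413
def N61558 : Q := sm ge N60414
def N61559 : Q := sm gb N60416
def N61560 : Q := sm ge N60416
def N61561 : Q := sm gf N60417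
def N61562 : Q := sm ga N60418
def N61563 : Q := sm ge N60418
def N61564 : Q := sm gf N60419
def N61565 : Q := sm gb N60422
def N61566 : Q := sm ge N60422
def N61567 : Q := sm ga N60424
def N61568 : Q := sm ge N60424
def N61569 : Q := sm gb N60426
def N61570 : Q := sm ge N60426
def N61571 : Q := sm ga N60428
def N61572 : Q := sm ge N60428
def N61573 : Q := sm gd N60429
def N61574 : Q := sm ge N60430
def N61575 : Q := sm ga N60432
def N61576 : Q := sm ge N60432
def N61577 : Q := sm gd N60433
def N61578 : Q := sm ga N60434
def N61579 : Q := sm ge N60435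
def N61580 : Q := sm ga N60437
def N61581 : Q := sm ga N60438
def N61582 : Q := sm ge N60438
def N61583 : Q := sm gd N60439
def N61584 : Q := sm ge N60440
def N61585 : Q := sm gd N60441
def N61586 : Q := sm ga N60446
def N61587 : Q := sm ge N60446
def N61588 : Q := sm gd N60447
def N61589 : Q := sm gf N60447
def N61590 : Q := sm ge N60449
def N61591 : Q := sm gf N60450
def N61592 : Q := sm ge N60452
def N61593 : Q := sm gd N60453
def N61594 : Q := sm gh N60454
def N61595 : Q := sm ga N60455
def N61596 : Q := sm ge N60455
def N61597 : Q := sm ge N60457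
def N61598 : Q := sm gb N60459
def N61599 : Q := sm ge N60459
def N61600 : Q := sm ga N60461
def N61601 : Q := sm ge N60461
def N61602 : Q := sm gd N60462
def N61603 : Q := sm ga N60463
def N61604 : Q := sm ge N60463
def N61605 : Q := sm gf N60464
def N61606 : Q := sm gg N60465
def N61607 : Q := sm ge N60466
def N61608 : Q := sm gf N60467
def N61609 : Q := sm gg N60468
def N61610 : Q := sm ge N60470
def N61611 : Q := sm gf N60472
def N61612 : Q := sm gg N60473
def N61613 : Q := sm ga N60475
def N61614 : Q := sm ge N60475
def N61615 : Q := sm ga N60478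
def N61616 : Q := sm ge N60478
def N61617 : Q := sm gd N60479
def N61618 : Q := sm ga N60480
def N61619 : Q := sm ge N60480
def N61620 : Q := sm ge N60482
def N61621 : Q := sm ga N60484
def N61622 : Q := sm ge N60485
def N61623 : Q := sm ga N60488
def N61624 : Q := sm ge N60488
def N61625 : Q := sm gd N60489
def N61626 : Q := sm ga N60490
def N61627 : Q := sm ge N60490
def N61628 : Q := sm gd N60491
def N61629 : Q := sm ge N60492
def N61630 : Q := sm gd N60493
def N61631 : Q := sm ge N60495
def N61632 : Q := sm gf N60496
def N61633 : Q := sm gf N60498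
def N61634 : Q := sm ga N60500
def N61635 : Q := sm ge N60500
def N61636 : Q := sm ge N60502
def N61637 : Q := sm ge N60510
def N61638 : Q := sm gf N60511
def N61639 : Q := sm gb N60513
def N61640 : Q := sm ge N60513
def N61641 : Q := sm gf N60514
def N61642 : Q := sm ga N60515
def N61643 : Q := sm ge N60515
def N61644 : Q := sm gd N60516
def N61645 : Q := sm gf N60516
def N61646 : Q := sm ge N60518
def N61647 : Q := sm gf N60519
def N61648 : Q := sm gb N60521
def N61649 : Q := sm ge N60521
def N61650 : Q := sm gf N60522
def N61651 : Q := sm ga N60523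
def N61652 : Q := sm ge N60523
def N61653 : Q := sm gd N60524
def N61654 : Q := sm gf N60524
def N61655 : Q := sm ga N60526
def N61656 : Q := sm ge N60526
def N61657 : Q := sm gf N60527
def N61658 : Q := sm ge N60529
def N61659 : Q := sm gf N60530
def N61660 : Q := sm ge N60532
def N61661 : Q := sm gf N60533
def N61662 : Q := sm gf N60535
def N61663 : Q := sm gg N60536
def N61664 : Q := sm ga N60538
def N61665 : Q := sm ge N60538
def N61666 : Q := sm gd N60539
def N61667 : Q := sm ge N60540
def N61668 : Q := sm gf N60543
def N61669 : Q := sm ge N60545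
def N61670 : Q := sm ga N60547
def N61671 : Q := sm ge N60547
def N61672 : Q := sm gd N60548
def N61673 : Q := sm ge N60549
def N61674 : Q := sm gd N60550
def N61675 : Q := sm gf N60552
def N61676 : Q := sm ge N60554
def N61677 : Q := sm ge N60556
def N61678 : Q := sm ge N60558
def N61679 : Q := sm ge N60561
def N61680 : Q := sm ge N60563
def N61681 : Q := sm gf N60566
def N61682 : Q := sm ge N60568
def N61683 : Q := sm gg N60573
def N61684 : Q := sm ga N60575
def N61685 : Q := sm ge N60575
def N61686 : Q := sm ga N60579
def N61687 : Q := sm ge N60579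
def N61688 : Q := sm gd N60580
def N61689 : Q := sm ga N60582
def N61690 : Q := sm ge N60582
def N61691 : Q := sm gd N60583
def N61692 : Q := sm ge N60584
def N61693 : Q := sm gd N60585
def N61694 : Q := sm ga N60587
def N61695 : Q := sm ge N60587
def N61696 : Q := sm ga N60590
def N61697 : Q := sm ge N60590
def N61698 : Q := sm gd N60591
def N61699 : Q := sm ge N60593
def N61700 : Q := sm ga N60596
def N61701 : Q := sm ge N60596
def N61702 : Q := sm gd N60597
def N61703 : Q := sm ge N60599
def N61704 : Q := sm ge N60601
def N61705 : Q := sm gd N60602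
def N61706 : Q := sm ge N60605
def N61707 : Q := sm ge N60608
def N61708 : Q := sm gd N60609
def N61709 : Q := sm ga N60615
def N61710 : Q := sm ge N60615
def N61711 : Q := sm ga N60617
def N61712 : Q := sm ge N60617
def N61713 : Q := sm ge N60619
def N61714 : Q := sm gd N60620
def N61715 : Q := sm ga N60622
def N61716 : Q := sm ge N60622
def N61717 : Q := sm ge N60624
def N61718 : Q := sm ga N60627
def N61719 : Q := sm ge N60627
def N61720 : Q := sm gd N60628
def N61721 : Q := sm ge N60630
def N61722 : Q := sm gd N60631
def N61723 : Q := sm ga N60636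
def N61724 : Q := sm ge N60636
def N61725 : Q := sm ga N60638
def N61726 : Q := sm ge N60638
def N61727 : Q := sm gd N60639
def N61728 : Q := sm ge N60641
def N61729 : Q := sm gd N60642
def N61730 : Q := sm gh N60643
def N61731 : Q := sm gb N60644
def N61732 : Q := sm ge N60644
def N61733 : Q := sm gf N60645
def N61734 : Q := sm ga N60646
def N61735 : Q := sm ge N60646
def N61736 : Q := sm gd N60647
def N61737 : Q := sm ga N60649
def N61738 : Q := sm ge N60649
def N61739 : Q := sm gd N60650
def N61740 : Q := sm ge N60651
def N61741 : Q := sm gd N60652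
def N61742 : Q := sm ga N60655
def N61743 : Q := sm ge N60655
def N61744 : Q := sm ge N60657
def N61745 : Q := sm ge N60661
def N61746 : Q := sm gd N60662
def N61747 : Q := sm ge N60664
def N61748 : Q := sm gd N60665
def N61749 : Q := sm gd N60667
def N61750 : Q := sm gc N60668
def N61751 : Q := sm gh N60668
def N61752 : Q := sm ge N60670
def N61753 : Q := sm gd N60671
def N61754 : Q := sm gf N60673
def N61755 : Q := sm gg N60674
def N61756 : Q := sm gg N60676
def N61757 : Q := sm ge N60680
def N61758 : Q := sm gd N60682
def N61759 : Q := sm gh N60683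
def N61760 : Q := sm gi N60684
def N61761 : Q := sm ga N60685
def N61762 : Q := sm ge N60685
def N61763 : Q := sm ge N60688
def N61764 : Q := sm ge N60690
def N61765 : Q := sm gd N60692
def N61766 : Q := sm ga N60697
def N61767 : Q := sm ge N60697
def N61768 : Q := sm ga N60700
def N61769 : Q := sm ga N60702
def N61770 : Q := sm ge N60704
def N61771 : Q := sm gd N60705
def N61772 : Q := sm gh N60706
def N61773 : Q := sm gi N60707
def N61774 : Q := sm ge N60711
def N61775 : Q := sm ga N60713
def N61776 : Q := sm ge N60714
def N61777 : Q := sm gd N60716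
def N61778 : Q := sm gc N60717
def N61779 : Q := sm gh N60717
def N61780 : Q := sm gi N60718
def N61781 : Q := sm gb N60721
def N61782 : Q := sm ge N60721
def N61783 : Q := sm ga N60723
def N61784 : Q := sm gb N60724
def N61785 : Q := sm ge N60724
def N61786 : Q := sm gf N60725
def N61787 : Q := sm gd N60726
def N61788 : Q := sm gf N60726
def N61789 : Q := sm gg N60727
def N61790 : Q := sm gb N60728
def N61791 : Q := sm ge N60728
def N61792 : Q := sm gf N60729
def N61793 : Q := sm gb N60730
def N61794 : Q := sm ge N60730
def N61795 : Q := sm gf N60731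
def N61796 : Q := sm ga N60732
def N61797 : Q := sm ge N60732
def N61798 : Q := sm gf N60733
def N61799 : Q := sm gg N60734
def N61800 : Q := sm ga N60736
def N61801 : Q := sm ge N60736
def N61802 : Q := sm gd N60737
def N61803 : Q := sm ga N60739
def N61804 : Q := sm gb N60740
def N61805 : Q := sm ge N60740
def N61806 : Q := sm gf N60741
def N61807 : Q := sm ga N60742
def N61808 : Q := sm ge N60742
def N61809 : Q := sm gf N60743
def N61810 : Q := sm gg N60744
def N61811 : Q := sm gb N60746
def N61812 : Q := sm ge N60746
def N61813 : Q := sm gf N60747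
def N61814 : Q := sm ga N60748
def N61815 : Q := sm ge N60748
def N61816 : Q := sm gd N60749
def N61817 : Q := sm gb N60751
def N61818 : Q := sm ge N60751
def N61819 : Q := sm gf N60752
def N61820 : Q := sm ga N60753
def N61821 : Q := sm ge N60753
def N61822 : Q := sm gd N60754
def N61823 : Q := sm gf N60754
def N61824 : Q := sm ge N60756
def N61825 : Q := sm gf N60757
def N61826 : Q := sm ge N60759
def N61827 : Q := sm gd N60760
def N61828 : Q := sm gh N60761
def N61829 : Q := sm gd N60762
def N61830 : Q := sm gh N60764
def N61831 : Q := sm gi N60765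
def N61832 : Q := sm ga N60767
def N61833 : Q := sm ge N60767
def N61834 : Q := sm gd N60768
def N61835 : Q := sm gf N60768
def N61836 : Q := sm gg N60769
def N61837 : Q := sm ge N60770
def N61838 : Q := sm gf N60771
def N61839 : Q := sm gg N60772
def N61840 : Q := sm ga N60774
def N61841 : Q := sm ge N60774
def N61842 : Q := sm gd N60775
def N61843 : Q := sm gf N60775
def N61844 : Q := sm ge N60777
def N61845 : Q := sm gd N60778
def N61846 : Q := sm gb N60780
def N61847 : Q := sm ge N60780
def N61848 : Q := sm ga N60782
def N61849 : Q := sm ge N60782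
def N61850 : Q := sm ge N60784
def N61851 : Q := sm gb N60786
def N61852 : Q := sm ge N60786
def N61853 : Q := sm gf N60787
def N61854 : Q := sm ga N60788
def N61855 : Q := sm ge N60788
def N61856 : Q := sm gd N60789
def N61857 : Q := sm gf N60789
def N61858 : Q := sm ga N60791
def N61859 : Q := sm ge N60791
def N61860 : Q := sm gf N60792
def N61861 : Q := sm gg N60793
def N61862 : Q := sm ge N60794
def N61863 : Q := sm gf N60795
def N61864 : Q := sm gg N60796
def N61865 : Q := sm ge N60798
def N61866 : Q := sm gd N60799
def N61867 : Q := sm gf N60799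
def N61868 : Q := sm gh N60800
def N61869 : Q := sm gf N60802
def N61870 : Q := sm gg N60803
def N61871 : Q := sm gd N60805
def N61872 : Q := sm gh N60806
def N61873 : Q := sm gi N60807
def N61874 : Q := sm gi N60811
def N61875 : Q := sm ga N60814
def N61876 : Q := sm gb N60816
def N61877 : Q := sm gb N60817
def N61878 : Q := sm ge N60817
def N61879 : Q := sm ga N60819
def N61880 : Q := sm ga N60820
def N61881 : Q := sm ge N60820
def N61882 : Q := sm ga N60823
def N61883 : Q := sm ge N60823
def N61884 : Q := sm gd N60824
def N61885 : Q := sm ge N60825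
def N61886 : Q := sm ge N60827
def N61887 : Q := sm ga N60829
def N61888 : Q := sm ge N60829
def N61889 : Q := sm gd N60830
def N61890 : Q := sm ga N60833
def N61891 : Q := sm ge N60833
def N61892 : Q := sm gd N60834
def N61893 : Q := sm ge N60835
def N61894 : Q := sm ge N60837
def N61895 : Q := sm ga N60839
def N61896 : Q := sm ge N60839
def N61897 : Q := sm gd N60840
def N61898 : Q := sm ga N60843
def N61899 : Q := sm ge N60843
def N61900 : Q := sm ge N60845
def N61901 : Q := sm gb N60848
def N61902 : Q := sm ge N60848
def N61903 : Q := sm gf N60849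
def N61904 : Q := sm gb N60851
def N61905 : Q := sm ge N60851
def N61906 : Q := sm gf N60852
def N61907 : Q := sm gb N60853
def N61908 : Q := sm ge N60853
def N61909 : Q := sm gf N60854
def N61910 : Q := sm ga N60855
def N61911 : Q := sm ge N60855
def N61912 : Q := sm gf N60856
def N61913 : Q := sm gg N60857
def N61914 : Q := sm gb N60859
def N61915 : Q := sm ge N60859
def N61916 : Q := sm gf N60860
def N61917 : Q := sm ga N60861
def N61918 : Q := sm ge N60861
def N61919 : Q := sm gd N60862
def N61920 : Q := sm gb N60864
def N61921 : Q := sm ge N60864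
def N61922 : Q := sm ga N60866
def N61923 : Q := sm ge N60866
def N61924 : Q := sm gd N60867
def N61925 : Q := sm gf N60867
def N61926 : Q := sm gh N60869
def N61927 : Q := sm ga N60870
def N61928 : Q := sm ge N60870
def N61929 : Q := sm gd N60871
def N61930 : Q := sm gf N60871
def N61931 : Q := sm ga N60873
def N61932 : Q := sm ge N60873
def N61933 : Q := sm gd N60874
def N61934 : Q := sm gf N60874
def N61935 : Q := sm ge N60876
def N61936 : Q := sm gf N60877
def N61937 : Q := sm gg N60878
def N61938 : Q := sm ge N60880
def N61939 : Q := sm gd N60881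
def N61940 : Q := sm gh N60882
def N61941 : Q := sm gb N60883
def N61942 : Q := sm ge N60883
def N61943 : Q := sm gf N60884
def N61944 : Q := sm ga N60885
def N61945 : Q := sm ge N60885
def N61946 : Q := sm gd N60886
def N61947 : Q := sm ga N60888
def N61948 : Q := sm ge N60888
def N61949 : Q := sm ga N60890
def N61950 : Q := sm ge N60890
def N61951 : Q := sm gd N60891
def N61952 : Q := sm ge N60892
def N61953 : Q := sm gf N60893
def N61954 : Q := sm ga N60895
def N61955 : Q := sm ge N60895
def N61956 : Q := sm gf N60896
def N61957 : Q := sm ge N60898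
def N61958 : Q := sm gd N60899
def N61959 : Q := sm gh N60900
def N61960 : Q := sm ga N60901
def N61961 : Q := sm ge N60901
def N61962 : Q := sm gd N60902
def N61963 : Q := sm ge N60903
def N61964 : Q := sm ga N60905
def N61965 : Q := sm ga N60906
def N61966 : Q := sm ge N60906
def N61967 : Q := sm gd N60907
def N61968 : Q := sm ge N60908
def N61969 : Q := sm gd N60909
def N61970 : Q := sm gf N60909
def N61971 : Q := sm gf N60910
def N61972 : Q := sm gf N60913
def N61973 : Q := sm ga N60915
def N61974 : Q := sm ge N60915
def N61975 : Q := sm ge N60917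
def N61976 : Q := sm gd N60919
def N61977 : Q := sm gh N60920
def N61978 : Q := sm gi N60921
def N61979 : Q := sm gb N60924
def N61980 : Q := sm ge N60924
def N61981 : Q := sm ga N60926
def N61982 : Q := sm ge N60926
def N61983 : Q := sm gd N60927
def N61984 : Q := sm gf N60927
def N61985 : Q := sm ge N60929
def N61986 : Q := sm gd N60930
def N61987 : Q := sm gh N60931
def N61988 : Q := sm ga N60932
def N61989 : Q := sm ge N60932
def N61990 : Q := sm ge N60934
def N61991 : Q := sm gf N60935
def N61992 : Q := sm gf N60937
def N61993 : Q := sm gg N60938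
def N61994 : Q := sm ga N60940
def N61995 : Q := sm ge N60940
def N61996 : Q := sm ge N60942
def N61997 : Q := sm gf N60943
def N61998 : Q := sm gd N60945
def N61999 : Q := sm gc N60946
def N62000 : Q := sm ga N60947
def N62001 : Q := sm ge N60948
def N62002 : Q := sm ga N60950
def N62003 : Q := sm ge N60950
def N62004 : Q := sm ge N60952
def N62005 : Q := sm gf N60955
def N62006 : Q := sm ge N60957
def N62007 : Q := sm gf N60959
def N62008 : Q := sm gg N60960
def N62009 : Q := sm ga N60962
def N62010 : Q := sm gg N60964
def N62011 : Q := sm ge N60966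
def N62012 : Q := sm gc N60969
def N62013 : Q := sm gh N60969
def N62014 : Q := sm gi N60971
def N62015 : Q := sm ga N60974
def N62016 : Q := sm ga N60976
def N62017 : Q := sm ga N60977
def N62018 : Q := sm ge N60977
def N62019 : Q := sm ga N60979
def N62020 : Q := sm ge N60979
def N62021 : Q := sm ga N60982
def N62022 : Q := sm ge N60984
def N62023 : Q := sm ge N60986
def N62024 : Q := sm gb N60988
def N62025 : Q := sm ge N60988
def N62026 : Q := sm gf N60989
def N62027 : Q := sm gb N60990
def N62028 : Q := sm ge N60990
def N62029 : Q := sm gf N60991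
def N62030 : Q := sm ga N60992
def N62031 : Q := sm ge N60992
def N62032 : Q := sm gf N60993
def N62033 : Q := sm ga N60995
def N62034 : Q := sm ge N60995
def N62035 : Q := sm gd N60996
def N62036 : Q := sm ga N60999
def N62037 : Q := sm ge N60999
def N62038 : Q := sm ga N61001
def N62039 : Q := sm ge N61001
def N62040 : Q := sm gd N61002
def N62041 : Q := sm gf N61002
def N62042 : Q := sm ge N61004
def N62043 : Q := sm gf N61005
def N62044 : Q := sm ga N61007
def N62045 : Q := sm ge N61007
def N62046 : Q := sm ge N61009
def N62047 : Q := sm gd N61010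
def N62048 : Q := sm ge N61013
def N62049 : Q := sm ge N61015
def N62050 : Q := sm gf N61017
def N62051 : Q := sm ge N61019
def N62052 : Q := sm gd N61021
def N62053 : Q := sm gb N61025
def N62054 : Q := sm ga N61026
def N62055 : Q := sm ga N61027
def N62056 : Q := sm ge N61027
def N62057 : Q := sm ge N61029
def N62058 : Q := sm ga N61031
def N62059 : Q := sm gb N61032
def N62060 : Q := sm ge N61032
def N62061 : Q := sm gf N61033
def N62062 : Q := sm gb N61034
def N62063 : Q := sm ge N61034
def N62064 : Q := sm gf N61035
def N62065 : Q := sm ga N61036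
def N62066 : Q := sm ge N61036
def N62067 : Q := sm gf N61037
def N62068 : Q := sm gg N61038
def N62069 : Q := sm ga N61040
def N62070 : Q := sm ge N61040
def N62071 : Q := sm gd N61041
def N62072 : Q := sm ga N61043
def N62073 : Q := sm ga N61045
def N62074 : Q := sm ge N61045
def N62075 : Q := sm ga N61047
def N62076 : Q := sm ge N61047
def N62077 : Q := sm gd N61048
def N62078 : Q := sm gf N61048
def N62079 : Q := sm ga N61050
def N62080 : Q := sm ge N61051
def N62081 : Q := sm gf N61052
def N62082 : Q := sm ge N61054
def N62083 : Q := sm gd N61055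
def N62084 : Q := sm gh N61056
def N62085 : Q := sm gi N61057
def N62086 : Q := sm ga N61060
def N62087 : Q := sm ge N61062
def N62088 : Q := sm gd N61063
def N62089 : Q := sm gf N61063
def N62090 : Q := sm ge N61066
def N62091 : Q := sm gd N61067
def N62092 : Q := sm gf N61067
def N62093 : Q := sm gh N61068
def N62094 : Q := sm gf N61070
def N62095 : Q := sm gd N61072
def N62096 : Q := sm gh N61073
def N62097 : Q := sm gi N61074
def N62098 : Q := sm gi N61075
def N62099 : Q := sm gb N61077
def N62100 : Q := sm gb N61078
def N62101 : Q := sm ge N61078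
def N62102 : Q := sm ga N61080
def N62103 : Q := sm ga N61081
def N62104 : Q := sm ge N61081
def N62105 : Q := sm gd N61082
def N62106 : Q := sm ga N61084
def N62107 : Q := sm ge N61084
def N62108 : Q := sm gd N61085
def N62109 : Q := sm gf N61085
def N62110 : Q := sm gg N61086
def N62111 : Q := sm gf N61087
def N62112 : Q := sm gh N61087
def N62113 : Q := sm gb N61090
def N62114 : Q := sm ga N61091
def N62115 : Q := sm ge N61091
def N62116 : Q := sm gd N61092
def N62117 : Q := sm gf N61092
def N62118 : Q := sm gg N61093
def N62119 : Q := sm ga N61094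
def N62120 : Q := sm ge N61094
def N62121 : Q := sm gd N61095
def N62122 : Q := sm gf N61095
def N62123 : Q := sm gg N61096
def N62124 : Q := sm ge N61097
def N62125 : Q := sm gf N61098
def N62126 : Q := sm gg N61099
def N62127 : Q := sm gj N61100
def N62128 : Q := sm ge N61102
def N62129 : Q := sm gd N61103
def N62130 : Q := sm gh N61104
def N62131 : Q := sm gb N61106
def N62132 : Q := sm ge N61106
def N62133 : Q := sm ga N61108
def N62134 : Q := sm ge N61108
def N62135 : Q := sm gd N61109
def N62136 : Q := sm ge N61110
def N62137 : Q := sm ge N61112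
def N62138 : Q := sm ga N61114
def N62139 : Q := sm ge N61114
def N62140 : Q := sm gd N61115
def N62141 : Q := sm gf N61115
def N62142 : Q := sm ge N61117
def N62143 : Q := sm gf N61118
def N62144 : Q := sm ga N61120
def N62145 : Q := sm ge N61120
def N62146 : Q := sm gd N61121
def N62147 : Q := sm gf N61121
def N62148 : Q := sm ge N61123
def N62149 : Q := sm gd N61124
def N62150 : Q := sm gf N61124
def N62151 : Q := sm gf N61125
def N62152 : Q := sm ge N61127
def N62153 : Q := sm gf N61129
def N62154 : Q := sm ge N61131
def N62155 : Q := sm gd N61133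
def N62156 : Q := sm gh N61134
def N62157 : Q := sm gi N61135
def N62158 : Q := sm ge N61137
def N62159 : Q := sm gb N61139
def N62160 : Q := sm ge N61139
def N62161 : Q := sm ga N61141
def N62162 : Q := sm ge N61141
def N62163 : Q := sm gd N61142
def N62164 : Q := sm ga N61143
def N62165 : Q := sm ge N61143
def N62166 : Q := sm ge N61145
def N62167 : Q := sm ge N61147
def N62168 : Q := sm ga N61151
def N62169 : Q := sm ga N61153
def N62170 : Q := sm ge N61153
def N62171 : Q := sm gd N61154
def N62172 : Q := sm gf N61154
def N62173 : Q := sm ga N61156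
def N62174 : Q := sm ge N61156
def N62175 : Q := sm gf N61157
def N62176 : Q := sm ge N61159
def N62177 : Q := sm gf N61160
def N62178 : Q := sm ge N61162
def N62179 : Q := sm gf N61163
def N62180 : Q := sm gf N61165
def N62181 : Q := sm ga N61167
def N62182 : Q := sm ge N61167
def N62183 : Q := sm gd N61168
def N62184 : Q := sm gf N61168
def N62185 : Q := sm ge N61170
def N62186 : Q := sm gd N61171
def N62187 : Q := sm gf N61171
def N62188 : Q := sm gf N61172
def N62189 : Q := sm gh N61172
def N62190 : Q := sm ge N61174
def N62191 : Q := sm gd N61175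
def N62192 : Q := sm gf N61175
def N62193 : Q := sm gf N61176
def N62194 : Q := sm gg N61177
def N62195 : Q := sm gd N61179
def N62196 : Q := sm gf N61179
def N62197 : Q := sm gf N61180
def N62198 : Q := sm gg N61181
def N62199 : Q := sm ge N61182
def N62200 : Q := sm gg N61182
def N62201 : Q := sm ge N61184
def N62202 : Q := sm gd N61186
def N62203 : Q := sm gf N61186
def N62204 : Q := sm gh N61187
def N62205 : Q := sm gi N61189
def N62206 : Q := sm gg N61190
def N62207 : Q := sm gh N61194
def N62208 : Q := sm gi N61195
def N62209 : Q := sm ge N61198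
def N62210 : Q := sm ge N61202
def N62211 : Q := sm ga N61206
def N62212 : Q := sm ge N61206
def N62213 : Q := sm gd N61207
def N62214 : Q := sm ge N61209
def N62215 : Q := sm gf N61210
def N62216 : Q := sm ge N61212
def N62217 : Q := sm gd N61213
def N62218 : Q := sm ga N61215
def N62219 : Q := sm ge N61215
def N62220 : Q := sm gd N61216
def N62221 : Q := sm ge N61218
def N62222 : Q := sm ge N61222
def N62223 : Q := sm gd N61223
def N62224 : Q := sm ge N61226
def N62225 : Q := sm gh N61229
def N62226 : Q := sm gi N61230
def N62227 : Q := sm ge N61234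
def N62228 : Q := sm ge N61236
def N62229 : Q := sm gd N61237
def N62230 : Q := sm ga N61240
def N62231 : Q := sm ge N61240
def N62232 : Q := sm gd N61241
def N62233 : Q := sm ga N61243
def N62234 : Q := sm ge N61243
def N62235 : Q := sm gd N61244
def N62236 : Q := sm gf N61244
def N62237 : Q := sm gg N61245
def N62238 : Q := sm ge N61246
def N62239 : Q := sm gf N61247
def N62240 : Q := sm gg N61248
def N62241 : Q := sm ge N61250
def N62242 : Q := sm gd N61251
def N62243 : Q := sm gh N61252
def N62244 : Q := sm ga N61253
def N62245 : Q := sm ge N61253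
def N62246 : Q := sm gd N61254
def N62247 : Q := sm ga N61256
def N62248 : Q := sm ge N61256
def N62249 : Q := sm gd N61257
def N62250 : Q := sm gf N61257
def N62251 : Q := sm ge N61259
def N62252 : Q := sm gd N61260
def N62253 : Q := sm gh N61261
def N62254 : Q := sm gd N61262
def N62255 : Q := sm gh N61263
def N62256 : Q := sm gh N61265
def N62257 : Q := sm ga N61267
def N62258 : Q := sm ge N61267
def N62259 : Q := sm gd N61268
def N62260 : Q := sm ge N61270
def N62261 : Q := sm gd N61271
def N62262 : Q := sm ga N61273
def N62263 : Q := sm ge N61273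
def N62264 : Q := sm gd N61274
def N62265 : Q := sm ga N61276
def N62266 : Q := sm ge N61276
def N62267 : Q := sm gd N61277
def N62268 : Q := sm ge N61278
def N62269 : Q := sm gd N61279
def N62270 : Q := sm ge N61281
def N62271 : Q := sm gd N61282
def N62272 : Q := sm gf N61282
def N62273 : Q := sm gd N61285
def N62274 : Q := sm ga N61287
def N62275 : Q := sm ga N61289
def N62276 : Q := sm ge N61289
def N62277 : Q := sm gd N61290
def N62278 : Q := sm ge N61291
def N62279 : Q := sm gd N61292
def N62280 : Q := sm gh N61293
def N62281 : Q := sm gd N61295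
def N62282 : Q := sm gh N61296
def N62283 : Q := sm gh N61298
def N62284 : Q := sm gi N61299
def N62285 : Q := sm ga N61303
def N62286 : Q := sm ga N61304
def N62287 : Q := sm ge N61304
def N62288 : Q := sm gd N61305
def N62289 : Q := sm ga N61307
def N62290 : Q := sm ge N61307
def N62291 : Q := sm gd N61308
def N62292 : Q := sm ge N61309
def N62293 : Q := sm gd N61310
def N62294 : Q := sm gh N61311
def N62295 : Q := sm ga N61312
def N62296 : Q := sm ge N61312
def N62297 : Q := sm gd N61313
def N62298 : Q := sm gf N61313
def N62299 : Q := sm gg N61314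
def N62300 : Q := sm gf N61315
def N62301 : Q := sm ga N61318
def N62302 : Q := sm ga N61319
def N62303 : Q := sm ge N61319
def N62304 : Q := sm gd N61320
def N62305 : Q := sm gf N61320
def N62306 : Q := sm ge N61322
def N62307 : Q := sm gd N61323
def N62308 : Q := sm gf N61323
def N62309 : Q := sm gf N61324
def N62310 : Q := sm gh N61324
def N62311 : Q := sm ge N61327
def N62312 : Q := sm ga N61328
def N62313 : Q := sm ge N61328
def N62314 : Q := sm ga N61330
def N62315 : Q := sm ga N61332
def N62316 : Q := sm ge N61332
def N62317 : Q := sm gd N61333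
def N62318 : Q := sm gf N61333
def N62319 : Q := sm gg N61334
def N62320 : Q := sm ge N61335
def N62321 : Q := sm gd N61336
def N62322 : Q := sm gf N61336
def N62323 : Q := sm gf N61337
def N62324 : Q := sm gh N61337
def N62325 : Q := sm gg N61338
def N62326 : Q := sm gf N61340
def N62327 : Q := sm gg N61341
def N62328 : Q := sm ge N61343
def N62329 : Q := sm gd N61344
def N62330 : Q := sm gh N61345
def N62331 : Q := sm gd N61346
def N62332 : Q := sm gc N61347
def N62333 : Q := sm gh N61347
def N62334 : Q := sm gi N61348
def N62335 : Q := sm ga N61350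
def N62336 : Q := sm ge N61350
def N62337 : Q := sm gd N61351
def N62338 : Q := sm ge N61352
def N62339 : Q := sm gd N61353
def N62340 : Q := sm gh N61354
def N62341 : Q := sm ga N61356
def N62342 : Q := sm ga N61358
def N62343 : Q := sm ge N61358
def N62344 : Q := sm gd N61359
def N62345 : Q := sm ge N61360
def N62346 : Q := sm gd N61361
def N62347 : Q := sm gf N61361
def N62348 : Q := sm gh N61362
def N62349 : Q := sm gd N61364
def N62350 : Q := sm gc N61365
def N62351 : Q := sm gh N61365
def N62352 : Q := sm gi N61366
def N62353 : Q := sm ga N61368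
def N62354 : Q := sm ge N61373
def N62355 : Q := sm gd N61374
def N62356 : Q := sm gh N61375
def N62357 : Q := sm gd N61376
def N62358 : Q := sm gh N61377
def N62359 : Q := sm gi N61378
def N62360 : Q := sm gc N61379
def N62361 : Q := sm gh N61379
def N62362 : Q := sm gh N61380
def N62363 : Q := sm gi N61381
def N62364 : Q := sm gc N61384
def N62365 : Q := sm gi N61385
def N62366 : Q := sm gd N61390
def N62367 : Q := sm gi N61390
def N62368 : Q := sm ga N61394
def N62369 : Q := sm ge N61394
def N62370 : Q := sm gd N61395
def N62371 : Q := sm ge N61396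
def N62372 : Q := sm gd N61397
def N62373 : Q := sm gf N61397
def N62374 : Q := sm gf N61400
def N62375 : Q := sm ge N61402
def N62376 : Q := sm gd N61403
def N62377 : Q := sm gd N61405
def N62378 : Q := sm gc N61406
def N62379 : Q := sm gh N61406
def N62380 : Q := sm ge N61409
def N62381 : Q := sm ga N61411
def N62382 : Q := sm ge N61411
def N62383 : Q := sm gd N61412
def N62384 : Q := sm ga N61413
def N62385 : Q := sm ge N61414
def N62386 : Q := sm gd N61415
def N62387 : Q := sm gh N61416
def N62388 : Q := sm ga N61418
def N62389 : Q := sm ge N61418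
def N62390 : Q := sm gf N61419
def N62391 : Q := sm ge N61421
def N62392 : Q := sm gd N61422
def N62393 : Q := sm gf N61422
def N62394 : Q := sm gf N61423
def N62395 : Q := sm gh N61423
def N62396 : Q := sm gd N61425
def N62397 : Q := sm gh N61426
def N62398 : Q := sm gi N61427
def N62399 : Q := sm ge N61428
def N62400 : Q := sm gd N61429
def N62401 : Q := sm gd N61431
def N62402 : Q := sm gf N61431
def N62403 : Q := sm gc N61432
def N62404 : Q := sm gh N61432
def N62405 : Q := sm gi N61434
def N62406 : Q := sm gc N61435
def N62407 : Q := sm gh N61435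
def N62408 : Q := sm gh N61436
def N62409 : Q := sm gi N61437
def N62410 : Q := sm ga N61439
def N62411 : Q := sm ge N61440
def N62412 : Q := sm gd N61441
def N62413 : Q := sm ga N61445
def N62414 : Q := sm ge N61445
def N62415 : Q := sm gd N61446
def N62416 : Q := sm gf N61446
def N62417 : Q := sm ga N61448
def N62418 : Q := sm ge N61448
def N62419 : Q := sm gd N61449
def N62420 : Q := sm gf N61449
def N62421 : Q := sm ge N61451
def N62422 : Q := sm gd N61452
def N62423 : Q := sm gf N61452
def N62424 : Q := sm gf N61453
def N62425 : Q := sm ge N61455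
def N62426 : Q := sm gd N61456
def N62427 : Q := sm gh N61457
def N62428 : Q := sm gd N61458
def N62429 : Q := sm gf N61458
def N62430 : Q := sm gc N61459
def N62431 : Q := sm gf N61459
def N62432 : Q := sm gh N61459
def N62433 : Q := sm ge N61461
def N62434 : Q := sm gi N61462
def N62435 : Q := sm gd N61463
def N62436 : Q := sm gf N61465
def N62437 : Q := sm ge N61467
def N62438 : Q := sm ge N61469
def N62439 : Q := sm gf N61470
def N62440 : Q := sm gf N61472
def N62441 : Q := sm gh N61474
def N62442 : Q := sm gi N61476
def N62443 : Q := sm gd N61478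
def N62444 : Q := sm gh N61480
def N62445 : Q := sm gi N61481
def N62446 : Q := sm gb N61483
def N62447 : Q := sm gh N61483
def N62448 : Q := sm gi N61484
def N62449 : Q := sm gd N61485
def N62450 : Q := sm gh N61487
def N62451 : Q := sm gi N61488
def N62452 : Q := sm gc N61490
def N62453 : Q := sm gb N61493
def N62454 : Q := sm gh N61493
def N62455 : Q := sm gh N61496
def N62456 : Q := sm gd N61497
def N62457 : Q := sm ge N61498
def N62458 : Q := sm ge N61501
def N62459 : Q := sm ge N61503
def N62460 : Q := sm gd N61504
def N62461 : Q := sm ge N61506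
def N62462 : Q := sm ge N61509
def N62463 : Q := sm ge N61513
def N62464 : Q := sm gd N61514
def N62465 : Q := sm ga N61517
def N62466 : Q := sm ge N61517
def N62467 : Q := sm ge N61519
def N62468 : Q := sm gf N61520
def N62469 : Q := sm ge N61522
def N62470 : Q := sm gd N61523
def N62471 : Q := sm gh N61524
def N62472 : Q := sm ge N61525
def N62473 : Q := sm gf N61526
def N62474 : Q := sm ga N61528
def N62475 : Q := sm ge N61528
def N62476 : Q := sm gd N61529
def N62477 : Q := sm ge N61530
def N62478 : Q := sm gf N61531
def N62479 : Q := sm gg N61532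
def N62480 : Q := sm ge N61534
def N62481 : Q := sm gf N61536
def N62482 : Q := sm gg N61537
def N62483 : Q := sm ge N61539
def N62484 : Q := sm gd N61540
def N62485 : Q := sm gf N61540
def N62486 : Q := sm gf N61543
def N62487 : Q := sm ge N61545
def N62488 : Q := sm gd N61546
def N62489 : Q := sm gf N61548
def N62490 : Q := sm ge N61552
def N62491 : Q := sm gd N61553
def N62492 : Q := sm ge N61555
def N62493 : Q := sm gd N61556
def N62494 : Q := sm ga N61559
def N62495 : Q := sm ge N61559
def N62496 : Q := sm gd N61560
def N62497 : Q := sm gf N61560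
def N62498 : Q := sm ge N61562
def N62499 : Q := sm gf N61563
def N62500 : Q := sm ga N61565
def N62501 : Q := sm ge N61565
def N62502 : Q := sm gd N61566
def N62503 : Q := sm ge N61567
def N62504 : Q := sm ga N61569
def N62505 : Q := sm ge N61569
def N62506 : Q := sm gd N61570
def N62507 : Q := sm ge N61571
def N62508 : Q := sm gd N61572
def N62509 : Q := sm ge N61575
def N62510 : Q := sm gd N61576
def N62511 : Q := sm ge N61581
def N62512 : Q := sm gd N61582
def N62513 : Q := sm gd N61584
def N62514 : Q := sm gc N61585
def N62515 : Q := sm ge N61586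
def N62516 : Q := sm gd N61587
def N62517 : Q := sm gf N61587
def N62518 : Q := sm gf N61590
def N62519 : Q := sm gd N61592
def N62520 : Q := sm gc N61593
def N62521 : Q := sm gh N61593
def N62522 : Q := sm gi N61594
def N62523 : Q := sm ge N61595
def N62524 : Q := sm ga N61598
def N62525 : Q := sm ge N61598
def N62526 : Q := sm gd N61599
def N62527 : Q := sm ge N61600
def N62528 : Q := sm gd N61601
def N62529 : Q := sm ge N61603
def N62530 : Q := sm gf N61604
def N62531 : Q := sm gg N61605
def N62532 : Q := sm gf N61607
def N62533 : Q := sm gg N61608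
def N62534 : Q := sm gg N61611
def N62535 : Q := sm ge N61613
def N62536 : Q := sm ge N61615
def N62537 : Q := sm gd N61616
def N62538 : Q := sm ge N61618
def N62539 : Q := sm ge N61623
def N62540 : Q := sm gd N61624
def N62541 : Q := sm ge N61626
def N62542 : Q := sm gd N61627
def N62543 : Q := sm gd N61629
def N62544 : Q := sm gc N61630
def N62545 : Q := sm gf N61631
def N62546 : Q := sm ge N61634
def N62547 : Q := sm gf N61637
def N62548 : Q := sm ga N61639
def N62549 : Q := sm ge N61639
def N62550 : Q := sm gd N61640
def N62551 : Q := sm gf N61640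
def N62552 : Q := sm ge N61642
def N62553 : Q := sm gd N61643
def N62554 : Q := sm gf N61643
def N62555 : Q := sm gf N61646
def N62556 : Q := sm ga N61648
def N62557 : Q := sm ge N61648
def N62558 : Q := sm gd N61649
def N62559 : Q := sm gf N61649
def N62560 : Q := sm ge N61651
def N62561 : Q := sm gd N61652
def N62562 : Q := sm gf N61652
def N62563 : Q := sm ge N61655
def N62564 : Q := sm gf N61656
def N62565 : Q := sm gf N61658
def N62566 : Q := sm gf N61660
def N62567 : Q := sm gg N61662
def N62568 : Q := sm ge N61664
def N62569 : Q := sm gd N61665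
def N62570 : Q := sm ge N61670
def N62571 : Q := sm gd N61671
def N62572 : Q := sm gd N61673
def N62573 : Q := sm gc N61674
def N62574 : Q := sm ge N61684
def N62575 : Q := sm ge N61686
def N62576 : Q := sm gd N61687
def N62577 : Q := sm ge N61689
def N62578 : Q := sm gd N61690
def N62579 : Q := sm gd N61692
def N62580 : Q := sm gc N61693
def N62581 : Q := sm ge N61694
def N62582 : Q := sm ge N61696
def N62583 : Q := sm gd N61697
def N62584 : Q := sm ge N61700
def N62585 : Q := sm gd N61701
def N62586 : Q := sm gd N61704
def N62587 : Q := sm gc N61705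
def N62588 : Q := sm gd N61707
def N62589 : Q := sm gc N61708
def N62590 : Q := sm ge N61709
def N62591 : Q := sm ge N61711
def N62592 : Q := sm gd N61713
def N62593 : Q := sm ge N61715
def N62594 : Q := sm ge N61718
def N62595 : Q := sm gd N61719
def N62596 : Q := sm gd N61721
def N62597 : Q := sm gc N61722
def N62598 : Q := sm ge N61723
def N62599 : Q := sm ge N61725
def N62600 : Q := sm gd N61726
def N62601 : Q := sm gh N61727
def N62602 : Q := sm gd N61728
def N62603 : Q := sm gh N61729
def N62604 : Q := sm gi N61730
def N62605 : Q := sm ga N61731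
def N62606 : Q := sm ge N61731
def N62607 : Q := sm gd N61732
def N62608 : Q := sm ge N61734
def N62609 : Q := sm gd N61735
def N62610 : Q := sm ge N61737
def N62611 : Q := sm gd N61738
def N62612 : Q := sm gd N61740
def N62613 : Q := sm gc N61741
def N62614 : Q := sm ge N61742
def N62615 : Q := sm gd N61745
def N62616 : Q := sm gc N61746
def N62617 : Q := sm gd N61747
def N62618 : Q := sm gc N61748
def N62619 : Q := sm gc N61749
def N62620 : Q := sm gh N61749
def N62621 : Q := sm gh N61750
def N62622 : Q := sm gd N61752
def N62623 : Q := sm gg N61754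
def N62624 : Q := sm gh N61758
def N62625 : Q := sm gi N61759
def N62626 : Q := sm ge N61761
def N62627 : Q := sm ge N61766
def N62628 : Q := sm gd N61770
def N62629 : Q := sm gh N61771
def N62630 : Q := sm gi N61772
def N62631 : Q := sm gc N61777
def N62632 : Q := sm gh N61777
def N62633 : Q := sm gi N61779
def N62634 : Q := sm ga N61781
def N62635 : Q := sm ge N61781
def N62636 : Q := sm gd N61782
def N62637 : Q := sm ga N61784
def N62638 : Q := sm ge N61784
def N62639 : Q := sm gd N61785
def N62640 : Q := sm gf N61785
def N62641 : Q := sm gg N61786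
def N62642 : Q := sm gf N61787
def N62643 : Q := sm ga N61790
def N62644 : Q := sm ge N61790
def N62645 : Q := sm gd N61791
def N62646 : Q := sm gf N61791
def N62647 : Q := sm gg N61792
def N62648 : Q := sm ga N61793
def N62649 : Q := sm ge N61793
def N62650 : Q := sm gd N61794
def N62651 : Q := sm gf N61794
def N62652 : Q := sm gg N61795
def N62653 : Q := sm ge N61796
def N62654 : Q := sm gf N61797
def N62655 : Q := sm gg N61798
def N62656 : Q := sm ge N61800
def N62657 : Q := sm gd N61801
def N62658 : Q := sm gh N61802
def N62659 : Q := sm ga N61804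
def N62660 : Q := sm ge N61804
def N62661 : Q := sm gd N61805
def N62662 : Q := sm gf N61805
def N62663 : Q := sm gg N61806
def N62664 : Q := sm ge N61807
def N62665 : Q := sm gf N61808
def N62666 : Q := sm gg N61809
def N62667 : Q := sm ga N61811
def N62668 : Q := sm ge N61811
def N62669 : Q := sm gd N61812
def N62670 : Q := sm gf N61812
def N62671 : Q := sm ge N61814
def N62672 : Q := sm gd N61815
def N62673 : Q := sm gh N61816
def N62674 : Q := sm ga N61817
def N62675 : Q := sm ge N61817
def N62676 : Q := sm gd N61818
def N62677 : Q := sm gf N61818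
def N62678 : Q := sm ge N61820
def N62679 : Q := sm gd N61821
def N62680 : Q := sm gf N61821
def N62681 : Q := sm gf N61822
def N62682 : Q := sm gf N61824
def N62683 : Q := sm gd N61826
def N62684 : Q := sm gh N61827
def N62685 : Q := sm gi N61828
def N62686 : Q := sm gh N61829
def N62687 : Q := sm ge N61832
def N62688 : Q := sm gd N61833
def N62689 : Q := sm gf N61833
def N62690 : Q := sm gg N61835
def N62691 : Q := sm gf N61837
def N62692 : Q := sm gg N61838
def N62693 : Q := sm ge N61840
def N62694 : Q := sm gd N61841
def N62695 : Q := sm gf N61841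
def N62696 : Q := sm gd N61844
def N62697 : Q := sm ga N61846
def N62698 : Q := sm ge N61846
def N62699 : Q := sm ge N61848
def N62700 : Q := sm ga N61851
def N62701 : Q := sm ge N61851
def N62702 : Q := sm gd N61852
def N62703 : Q := sm gf N61852
def N62704 : Q := sm ge N61854
def N62705 : Q := sm gd N61855
def N62706 : Q := sm gf N61855
def N62707 : Q := sm gf N61856
def N62708 : Q := sm gh N61856
def N62709 : Q := sm ge N61858
def N62710 : Q := sm gf N61859
def N62711 : Q := sm gg N61860
def N62712 : Q := sm gf N61862
def N62713 : Q := sm gg N61863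
def N62714 : Q := sm gd N61865
def N62715 : Q := sm gf N61865
def N62716 : Q := sm gh N61866
def N62717 : Q := sm gi N61868
def N62718 : Q := sm gg N61869
def N62719 : Q := sm gh N61871
def N62720 : Q := sm gi N61872
def N62721 : Q := sm ga N61876
def N62722 : Q := sm ga N61877
def N62723 : Q := sm ge N61877
def N62724 : Q := sm gd N61878
def N62725 : Q := sm ge N61880
def N62726 : Q := sm ge N61882
def N62727 : Q := sm gd N61883
def N62728 : Q := sm ge N61887
def N62729 : Q := sm gd N61888
def N62730 : Q := sm ge N61890
def N62731 : Q := sm gd N61891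
def N62732 : Q := sm ge N61895
def N62733 : Q := sm gd N61896
def N62734 : Q := sm gh N61897
def N62735 : Q := sm ge N61898
def N62736 : Q := sm ga N61901
def N62737 : Q := sm ge N61901
def N62738 : Q := sm gf N61902
def N62739 : Q := sm ga N61904
def N62740 : Q := sm ge N61904
def N62741 : Q := sm gd N61905
def N62742 : Q := sm gf N61905
def N62743 : Q := sm gg N61906
def N62744 : Q := sm ga N61907
def N62745 : Q := sm ge N61907
def N62746 : Q := sm gd N61908
def N62747 : Q := sm gf N61908
def N62748 : Q := sm gg N61909
def N62749 : Q := sm ge N61910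
def N62750 : Q := sm gf N61911
def N62751 : Q := sm gg N61912
def N62752 : Q := sm ga N61914
def N62753 : Q := sm ge N61914
def N62754 : Q := sm gd N61915
def N62755 : Q := sm gf N61915
def N62756 : Q := sm ge N61917
def N62757 : Q := sm gd N61918
def N62758 : Q := sm gh N61919
def N62759 : Q := sm ga N61920
def N62760 : Q := sm ge N61920
def N62761 : Q := sm ge N61922
def N62762 : Q := sm gd N61923
def N62763 : Q := sm gf N61923
def N62764 : Q := sm gh N61924
def N62765 : Q := sm ge N61927
def N62766 : Q := sm gd N61928
def N62767 : Q := sm gf N61928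
def N62768 : Q := sm gf N61929
def N62769 : Q := sm ge N61931
def N62770 : Q := sm gd N61932
def N62771 : Q := sm gf N61932
def N62772 : Q := sm gf N61933
def N62773 : Q := sm gh N61933
def N62774 : Q := sm gf N61935
def N62775 : Q := sm gg N61936
def N62776 : Q := sm gd N61938
def N62777 : Q := sm gc N61939
def N62778 : Q := sm gh N61939
def N62779 : Q := sm gi N61940
def N62780 : Q := sm ga N61941
def N62781 : Q := sm ge N61941
def N62782 : Q := sm gd N61942
def N62783 : Q := sm gf N61942
def N62784 : Q := sm ge N61944
def N62785 : Q := sm gd N61945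
def N62786 : Q := sm gh N61946
def N62787 : Q := sm ge N61947
def N62788 : Q := sm ge N61949
def N62789 : Q := sm gd N61950
def N62790 : Q := sm gf N61952
def N62791 : Q := sm ge N61954
def N62792 : Q := sm gf N61955
def N62793 : Q := sm gd N61957
def N62794 : Q := sm gh N61958
def N62795 : Q := sm ge N61960
def N62796 : Q := sm gd N61961
def N62797 : Q := sm ge N61965
def N62798 : Q := sm gd N61966
def N62799 : Q := sm gd N61968
def N62800 : Q := sm gf N61968
def N62801 : Q := sm gc N61969
def N62802 : Q := sm gf N61969
def N62803 : Q := sm ge N61971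
def N62804 : Q := sm ge N61973
def N62805 : Q := sm gh N61976
def N62806 : Q := sm gi N61977
def N62807 : Q := sm ga N61979
def N62808 : Q := sm ge N61979
def N62809 : Q := sm gd N61980
def N62810 : Q := sm ge N61981
def N62811 : Q := sm gd N61982
def N62812 : Q := sm gf N61982
def N62813 : Q := sm gf N61983
def N62814 : Q := sm gh N61983
def N62815 : Q := sm gd N61985
def N62816 : Q := sm gc N61986
def N62817 : Q := sm gh N61986
def N62818 : Q := sm gi N61987
def N62819 : Q := sm ge N61988
def N62820 : Q := sm gf N61990
def N62821 : Q := sm gg N61992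
def N62822 : Q := sm ge N61994
def N62823 : Q := sm gf N61996
def N62824 : Q := sm gc N61998
def N62825 : Q := sm ge N62002
def N62826 : Q := sm gg N62007
def N62827 : Q := sm gi N62013
def N62828 : Q := sm ge N62017
def N62829 : Q := sm ge N62019
def N62830 : Q := sm ga N62024
def N62831 : Q := sm ge N62024
def N62832 : Q := sm gd N62025
def N62833 : Q := sm gf N62025
def N62834 : Q := sm ga N62027
def N62835 : Q := sm ge N62027
def N62836 : Q := sm gd N62028
def N62837 : Q := sm gf N62028
def N62838 : Q := sm ge N62030
def N62839 : Q := sm gf N62031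
def N62840 : Q := sm ge N62033
def N62841 : Q := sm gd N62034
def N62842 : Q := sm ge N62036
def N62843 : Q := sm ge N62038
def N62844 : Q := sm gd N62039
def N62845 : Q := sm gf N62039
def N62846 : Q := sm gf N62040
def N62847 : Q := sm gf N62042
def N62848 : Q := sm ge N62044
def N62849 : Q := sm gd N62046
def N62850 : Q := sm ga N62053
def N62851 : Q := sm ge N62055
def N62852 : Q := sm ga N62059
def N62853 : Q := sm ge N62059
def N62854 : Q := sm gd N62060
def N62855 : Q := sm gf N62060
def N62856 : Q := sm gg N62061
def N62857 : Q := sm ga N62062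
def N62858 : Q := sm ge N62062
def N62859 : Q := sm gd N62063
def N62860 : Q := sm gf N62063
def N62861 : Q := sm gg N62064
def N62862 : Q := sm ge N62065
def N62863 : Q := sm gf N62066
def N62864 : Q := sm gg N62067
def N62865 : Q := sm ge N62069
def N62866 : Q := sm gd N62070
def N62867 : Q := sm gh N62071
def N62868 : Q := sm ge N62073
def N62869 : Q := sm ge N62075
def N62870 : Q := sm gd N62076
def N62871 : Q := sm gf N62076
def N62872 : Q := sm gf N62077
def N62873 : Q := sm gf N62080
def N62874 : Q := sm gd N62082
def N62875 : Q := sm gh N62083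
def N62876 : Q := sm gi N62084
def N62877 : Q := sm gd N62087
def N62878 : Q := sm gf N62087
def N62879 : Q := sm gd N62090
def N62880 : Q := sm gf N62090
def N62881 : Q := sm gh N62091
def N62882 : Q := sm gi N62093
def N62883 : Q := sm gh N62095
def N62884 : Q := sm gi N62096
def N62885 : Q := sm ga N62099
def N62886 : Q := sm ga N62100
def N62887 : Q := sm ge N62100
def N62888 : Q := sm gd N62101
def N62889 : Q := sm ge N62103
def N62890 : Q := sm gd N62104
def N62891 : Q := sm ge N62106
def N62892 : Q := sm gd N62107
def N62893 : Q := sm gf N62107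
def N62894 : Q := sm gf N62108
def N62895 : Q := sm gh N62108
def N62896 : Q := sm gg N62109
def N62897 : Q := sm ga N62113
def N62898 : Q := sm ge N62114
def N62899 : Q := sm gd N62115
def N62900 : Q := sm gf N62115
def N62901 : Q := sm gf N62116
def N62902 : Q := sm gg N62117
def N62903 : Q := sm ge N62119
def N62904 : Q := sm gd N62120
def N62905 : Q := sm gf N62120
def N62906 : Q := sm gf N62121
def N62907 : Q := sm gh N62121
def N62908 : Q := sm gg N62122
def N62909 : Q := sm gf N62124
def N62910 : Q := sm gg N62125
def N62911 : Q := sm gj N62126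
def N62912 : Q := sm gd N62128
def N62913 : Q := sm gc N62129
def N62914 : Q := sm gh N62129
def N62915 : Q := sm gi N62130
def N62916 : Q := sm ga N62131
def N62917 : Q := sm ge N62131
def N62918 : Q := sm ge N62133
def N62919 : Q := sm gd N62134
def N62920 : Q := sm ge N62138
def N62921 : Q := sm gd N62139
def N62922 : Q := sm gf N62139
def N62923 : Q := sm gf N62142
def N62924 : Q := sm ge N62144
def N62925 : Q := sm gd N62145
def N62926 : Q := sm gf N62145
def N62927 : Q := sm gf N62146
def N62928 : Q := sm gd N62148
def N62929 : Q := sm gf N62148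
def N62930 : Q := sm gc N62149
def N62931 : Q := sm gf N62149
def N62932 : Q := sm ge N62151
def N62933 : Q := sm gh N62155
def N62934 : Q := sm gi N62156
def N62935 : Q := sm ga N62159
def N62936 : Q := sm ge N62159
def N62937 : Q := sm ge N62161
def N62938 : Q := sm gd N62162
def N62939 : Q := sm ge N62164
def N62940 : Q := sm ge N62169
def N62941 : Q := sm gd N62170
def N62942 : Q := sm gf N62170
def N62943 : Q := sm ge N62173
def N62944 : Q := sm gf N62174
def N62945 : Q := sm gf N62176
def N62946 : Q := sm gf N62178
def N62947 : Q := sm ge N62181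
def N62948 : Q := sm gd N62182
def N62949 : Q := sm gf N62182
def N62950 : Q := sm gf N62183
def N62951 : Q := sm gh N62183
def N62952 : Q := sm gd N62185
def N62953 : Q := sm gf N62185
def N62954 : Q := sm gc N62186
def N62955 : Q := sm gf N62186
def N62956 : Q := sm gh N62186
def N62957 : Q := sm ge N62188
def N62958 : Q := sm gi N62189
def N62959 : Q := sm gd N62190
def N62960 : Q := sm gf N62190
def N62961 : Q := sm gf N62191
def N62962 : Q := sm gg N62192
def N62963 : Q := sm gf N62195
def N62964 : Q := sm gg N62196
def N62965 : Q := sm ge N62197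
def N62966 : Q := sm gg N62197
def N62967 : Q := sm gg N62199
def N62968 : Q := sm gh N62202
def N62969 : Q := sm gi N62204
def N62970 : Q := sm gi N62207
def N62971 : Q := sm ge N62211
def N62972 : Q := sm gd N62212
def N62973 : Q := sm gf N62214
def N62974 : Q := sm gd N62216
def N62975 : Q := sm gc N62217
def N62976 : Q := sm ge N62218
def N62977 : Q := sm gd N62219
def N62978 : Q := sm gd N62222
def N62979 : Q := sm gc N62223
def N62980 : Q := sm gi N62225
def N62981 : Q := sm gd N62228
def N62982 : Q := sm gc N62229
def N62983 : Q := sm ge N62230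
def N62984 : Q := sm gd N62231
def N62985 : Q := sm gh N62232
def N62986 : Q := sm ge N62233
def N62987 : Q := sm gd N62234
def N62988 : Q := sm gf N62234
def N62989 : Q := sm gf N62235
def N62990 : Q := sm gh N62235
def N62991 : Q := sm gg N62236
def N62992 : Q := sm gf N62238
def N62993 : Q := sm gg N62239
def N62994 : Q := sm gd N62241
def N62995 : Q := sm gc N62242
def N62996 : Q := sm gh N62242
def N62997 : Q := sm ge N62244
def N62998 : Q := sm gd N62245
def N62999 : Q := sm ge N62247
def N63000 : Q := sm gd N62248
def N63001 : Q := sm gf N62248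
def N63002 : Q := sm gh N62249
def N63003 : Q := sm gd N62251
def N63004 : Q := sm gh N62252
def N63005 : Q := sm gh N62254
def N63006 : Q := sm ge N62257
def N63007 : Q := sm gd N62258
def N63008 : Q := sm gd N62260
def N63009 : Q := sm gc N62261
def N63010 : Q := sm ge N62262
def N63011 : Q := sm gd N62263
def N63012 : Q := sm ge N62265
def N63013 : Q := sm gd N62266
def N63014 : Q := sm gd N62268
def N63015 : Q := sm gd N62270
def N63016 : Q := sm gf N62270
def N63017 : Q := sm ge N62275
def N63018 : Q := sm gd N62276
def N63019 : Q := sm gh N62277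
def N63020 : Q := sm gd N62278
def N63021 : Q := sm gc N62279
def N63022 : Q := sm gh N62279
def N63023 : Q := sm gh N62281
def N63024 : Q := sm gi N62283
def N63025 : Q := sm ge N62286
def N63026 : Q := sm gd N62287
def N63027 : Q := sm ge N62289
def N63028 : Q := sm gd N62290
def N63029 : Q := sm gh N62291
def N63030 : Q := sm gd N62292
def N63031 : Q := sm gc N62293
def N63032 : Q := sm gh N62293
def N63033 : Q := sm gi N62294
def N63034 : Q := sm ge N62295
def N63035 : Q := sm gd N62296
def N63036 : Q := sm gf N62296
def N63037 : Q := sm gf N62297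
def N63038 : Q := sm gh N62297
def N63039 : Q := sm ge N62302
def N63040 : Q := sm gd N62303
def N63041 : Q := sm gf N62303
def N63042 : Q := sm gd N62306
def N63043 : Q := sm gf N62306
def N63044 : Q := sm gf N62307
def N63045 : Q := sm gh N62307
def N63046 : Q := sm ge N62309
def N63047 : Q := sm ge N62312
def N63048 : Q := sm ge N62315
def N63049 : Q := sm gd N62316
def N63050 : Q := sm gf N62316
def N63051 : Q := sm gf N62317
def N63052 : Q := sm gh N62317
def N63053 : Q := sm gg N62318
def N63054 : Q := sm gd N62320
def N63055 : Q := sm gf N62320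
def N63056 : Q := sm gc N62321
def N63057 : Q := sm gf N62321
def N63058 : Q := sm gh N62321
def N63059 : Q := sm gg N62322
def N63060 : Q := sm gg N62326
def N63061 : Q := sm gd N62328
def N63062 : Q := sm gc N62329
def N63063 : Q := sm gh N62329
def N63064 : Q := sm gi N62330
def N63065 : Q := sm gc N62331
def N63066 : Q := sm gh N62331
def N63067 : Q := sm gh N62332
def N63068 : Q := sm gi N62333
def N63069 : Q := sm ge N62335
def N63070 : Q := sm gd N62336
def N63071 : Q := sm gd N62338
def N63072 : Q := sm gc N62339
def N63073 : Q := sm gh N62339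
def N63074 : Q := sm ge N62342
def N63075 : Q := sm gd N62343
def N63076 : Q := sm gd N62345
def N63077 : Q := sm gf N62345
def N63078 : Q := sm gc N62346
def N63079 : Q := sm gh N62346
def N63080 : Q := sm gi N62348
def N63081 : Q := sm gc N62349
def N63082 : Q := sm gh N62349
def N63083 : Q := sm gi N62351
def N63084 : Q := sm gd N62354
def N63085 : Q := sm gh N62355
def N63086 : Q := sm gh N62357
def N63087 : Q := sm gi N62358
def N63088 : Q := sm gh N62360
def N63089 : Q := sm gi N62361
def N63090 : Q := sm gd N62362
def N63091 : Q := sm gi N62362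
def N63092 : Q := sm gi N62366
def N63093 : Q := sm ge N62368
def N63094 : Q := sm gd N62369
def N63095 : Q := sm gd N62371
def N63096 : Q := sm gf N62371
def N63097 : Q := sm gc N62372
def N63098 : Q := sm gd N62375
def N63099 : Q := sm gc N62376
def N63100 : Q := sm gc N62377
def N63101 : Q := sm gh N62377
def N63102 : Q := sm gh N62378
def N63103 : Q := sm ge N62381
def N63104 : Q := sm gd N62382
def N63105 : Q := sm gd N62385
def N63106 : Q := sm gc N62386
def N63107 : Q := sm gh N62386
def N63108 : Q := sm gi N62387
def N63109 : Q := sm ge N62388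
def N63110 : Q := sm gf N62389
def N63111 : Q := sm gd N62391
def N63112 : Q := sm gf N62391
def N63113 : Q := sm gf N62392
def N63114 : Q := sm gh N62392
def N63115 : Q := sm gh N62394
def N63116 : Q := sm gi N62395
def N63117 : Q := sm gh N62396
def N63118 : Q := sm gi N62397
def N63119 : Q := sm gd N62399
def N63120 : Q := sm gc N62401
def N63121 : Q := sm gh N62401
def N63122 : Q := sm gi N62404
def N63123 : Q := sm gb N62406
def N63124 : Q := sm gh N62406
def N63125 : Q := sm gi N62407
def N63126 : Q := sm gd N62411
def N63127 : Q := sm gc N62412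
def N63128 : Q := sm ge N62413
def N63129 : Q := sm gd N62414
def N63130 : Q := sm gf N62414
def N63131 : Q := sm ge N62417
def N63132 : Q := sm gd N62418
def N63133 : Q := sm gf N62418
def N63134 : Q := sm gf N62419
def N63135 : Q := sm gh N62419
def N63136 : Q := sm gd N62421
def N63137 : Q := sm gf N62421
def N63138 : Q := sm gc N62422
def N63139 : Q := sm gf N62422
def N63140 : Q := sm gd N62425
def N63141 : Q := sm gc N62426
def N63142 : Q := sm gh N62426
def N63143 : Q := sm gi N62427
def N63144 : Q := sm gc N62428
def N63145 : Q := sm gf N62428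
def N63146 : Q := sm gh N62428
def N63147 : Q := sm gf N62430
def N63148 : Q := sm gh N62430
def N63149 : Q := sm ge N62431
def N63150 : Q := sm gi N62432
def N63151 : Q := sm ge N62436
def N63152 : Q := sm gf N62438
def N63153 : Q := sm gi N62441
def N63154 : Q := sm gi N62444
def N63155 : Q := sm gh N62446
def N63156 : Q := sm gd N62447
def N63157 : Q := sm ge N62449
def N63158 : Q := sm gb N62452
def N63159 : Q := sm gh N62453
def N63160 : Q := sm gd N62455
def N63161 : Q := sm gd N62459
def N63162 : Q := sm gc N62460
def N63163 : Q := sm gd N62463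
def N63164 : Q := sm gc N62464
def N63165 : Q := sm ge N62465
def N63166 : Q := sm gf N62467
def N63167 : Q := sm gd N62469
def N63168 : Q := sm gc N62470
def N63169 : Q := sm gh N62470
def N63170 : Q := sm gi N62471
def N63171 : Q := sm gf N62472
def N63172 : Q := sm ge N62474
def N63173 : Q := sm gd N62475
def N63174 : Q := sm gf N62477
def N63175 : Q := sm gg N62478
def N63176 : Q := sm gg N62481
def N63177 : Q := sm gd N62483
def N63178 : Q := sm gf N62483
def N63179 : Q := sm gd N62487
def N63180 : Q := sm gc N62488
def N63181 : Q := sm gd N62490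
def N63182 : Q := sm gd N62492
def N63183 : Q := sm gc N62493
def N63184 : Q := sm ge N62494
def N63185 : Q := sm gd N62495
def N63186 : Q := sm gf N62495
def N63187 : Q := sm gf N62498
def N63188 : Q := sm ge N62500
def N63189 : Q := sm gd N62501
def N63190 : Q := sm ge N62504
def N63191 : Q := sm gd N62505
def N63192 : Q := sm gd N62507
def N63193 : Q := sm gc N62508
def N63194 : Q := sm gd N62509
def N63195 : Q := sm gc N62510
def N63196 : Q := sm gd N62511
def N63197 : Q := sm gc N62512
def N63198 : Q := sm gc N62513
def N63199 : Q := sm gd N62515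
def N63200 : Q := sm gf N62515
def N63201 : Q := sm gc N62516
def N63202 : Q := sm gc N62519
def N63203 : Q := sm gh N62519
def N63204 : Q := sm gh N62520
def N63205 : Q := sm gi N62521
def N63206 : Q := sm ge N62524
def N63207 : Q := sm gd N62525
def N63208 : Q := sm gd N62527
def N63209 : Q := sm gc N62528
def N63210 : Q := sm gf N62529
def N63211 : Q := sm gg N62530
def N63212 : Q := sm gg N62532
def N63213 : Q := sm gd N62536
def N63214 : Q := sm gc N62537
def N63215 : Q := sm gd N62539
def N63216 : Q := sm gc N62540
def N63217 : Q := sm gd N62541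
def N63218 : Q := sm gc N62542
def N63219 : Q := sm gc N62543
def N63220 : Q := sm ge N62548
def N63221 : Q := sm gd N62549
def N63222 : Q := sm gf N62549
def N63223 : Q := sm gd N62552
def N63224 : Q := sm gf N62552
def N63225 : Q := sm gc N62553
def N63226 : Q := sm ge N62556
def N63227 : Q := sm gd N62557
def N63228 : Q := sm gf N62557
def N63229 : Q := sm gd N62560
def N63230 : Q := sm gf N62560
def N63231 : Q := sm gc N62561
def N63232 : Q := sm gf N62563
def N63233 : Q := sm gd N62568
def N63234 : Q := sm gc N62569
def N63235 : Q := sm gd N62570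
def N63236 : Q := sm gc N62571
def N63237 : Q := sm gc N62572
def N63238 : Q := sm gd N62575
def N63239 : Q := sm gc N62576
def N63240 : Q := sm gd N62577
def N63241 : Q := sm gc N62578
def N63242 : Q := sm gc N62579
def N63243 : Q := sm gd N62582
def N63244 : Q := sm gc N62583
def N63245 : Q := sm gd N62584
def N63246 : Q := sm gc N62585
def N63247 : Q := sm gc N62586
def N63248 : Q := sm gc N62588
def N63249 : Q := sm gd N62594
def N63250 : Q := sm gc N62595
def N63251 : Q := sm gc N62596
def N63252 : Q := sm gd N62599
def N63253 : Q := sm gc N62600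
def N63254 : Q := sm gh N62600
def N63255 : Q := sm gi N62601
def N63256 : Q := sm gh N62602
def N63257 : Q := sm gi N62603
def N63258 : Q := sm ge N62605
def N63259 : Q := sm gd N62606
def N63260 : Q := sm gd N62608
def N63261 : Q := sm gc N62609
def N63262 : Q := sm gd N62610
def N63263 : Q := sm gc N62611
def N63264 : Q := sm gc N62612
def N63265 : Q := sm gc N62615
def N63266 : Q := sm gc N62617
def N63267 : Q := sm gb N62619
def N63268 : Q := sm gh N62619
def N63269 : Q := sm gd N62621
def N63270 : Q := sm gi N62624
def N63271 : Q := sm gh N62628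
def N63272 : Q := sm gi N62629
def N63273 : Q := sm gi N62632
def N63274 : Q := sm ge N62634
def N63275 : Q := sm gd N62635
def N63276 : Q := sm gh N62636
def N63277 : Q := sm ge N62637
def N63278 : Q := sm gd N62638
def N63279 : Q := sm gf N62638
def N63280 : Q := sm gf N62639
def N63281 : Q := sm gg N62640
def N63282 : Q := sm ge N62643
def N63283 : Q := sm gd N62644
def N63284 : Q := sm gf N62644
def N63285 : Q := sm gf N62645
def N63286 : Q := sm gg N62646
def N63287 : Q := sm ge N62648
def N63288 : Q := sm gd N62649
def N63289 : Q := sm gf N62649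
def N63290 : Q := sm gf N62650
def N63291 : Q := sm gh N62650
def N63292 : Q := sm gg N62651
def N63293 : Q := sm gf N62653
def N63294 : Q := sm gg N62654
def N63295 : Q := sm gd N62656
def N63296 : Q := sm gc N62657
def N63297 : Q := sm gh N62657
def N63298 : Q := sm gi N62658
def N63299 : Q := sm ge N62659
def N63300 : Q := sm gd N62660
def N63301 : Q := sm gf N62660
def N63302 : Q := sm gg N62662
def N63303 : Q := sm gf N62664
def N63304 : Q := sm gg N62665
def N63305 : Q := sm ge N62667
def N63306 : Q := sm gd N62668
def N63307 : Q := sm gf N62668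
def N63308 : Q := sm gh N62669
def N63309 : Q := sm gd N62671
def N63310 : Q := sm gh N62672
def N63311 : Q := sm ge N62674
def N63312 : Q := sm gd N62675
def N63313 : Q := sm gf N62675
def N63314 : Q := sm gf N62676
def N63315 : Q := sm gd N62678
def N63316 : Q := sm gf N62678
def N63317 : Q := sm gc N62679
def N63318 : Q := sm gf N62679
def N63319 : Q := sm ge N62681
def N63320 : Q := sm gh N62683
def N63321 : Q := sm gi N62684
def N63322 : Q := sm gd N62687
def N63323 : Q := sm gf N62687
def N63324 : Q := sm gg N62689
def N63325 : Q := sm gg N62691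
def N63326 : Q := sm gd N62693
def N63327 : Q := sm gf N62693
def N63328 : Q := sm ge N62697
def N63329 : Q := sm ge N62700
def N63330 : Q := sm gd N62701
def N63331 : Q := sm gf N62701
def N63332 : Q := sm gf N62702
def N63333 : Q := sm gh N62702
def N63334 : Q := sm gd N62704
def N63335 : Q := sm gf N62704
def N63336 : Q := sm gc N62705
def N63337 : Q := sm gf N62705
def N63338 : Q := sm gh N62705
def N63339 : Q := sm gi N62708
def N63340 : Q := sm gf N62709
def N63341 : Q := sm gg N62710
def N63342 : Q := sm gg N62712
def N63343 : Q := sm gh N62714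
def N63344 : Q := sm gi N62716
def N63345 : Q := sm gi N62719
def N63346 : Q := sm ge N62722
def N63347 : Q := sm gd N62723
def N63348 : Q := sm gd N62726
def N63349 : Q := sm gc N62727
def N63350 : Q := sm gd N62728
def N63351 : Q := sm gc N62729
def N63352 : Q := sm gd N62730
def N63353 : Q := sm gc N62731
def N63354 : Q := sm gd N62732
def N63355 : Q := sm gc N62733
def N63356 : Q := sm gh N62733
def N63357 : Q := sm gi N62734
def N63358 : Q := sm ge N62736
def N63359 : Q := sm gf N62737
def N63360 : Q := sm ge N62739
def N63361 : Q := sm gd N62740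
def N63362 : Q := sm gf N62740
def N63363 : Q := sm gf N62741
def N63364 : Q := sm gg N62742
def N63365 : Q := sm ge N62744
def N63366 : Q := sm gd N62745
def N63367 : Q := sm gf N62745
def N63368 : Q := sm gf N62746
def N63369 : Q := sm gg N62747
def N63370 : Q := sm gf N62749
def N63371 : Q := sm gg N62750
def N63372 : Q := sm ge N62752
def N63373 : Q := sm gd N62753
def N63374 : Q := sm gf N62753
def N63375 : Q := sm gf N62754
def N63376 : Q := sm gd N62756
def N63377 : Q := sm gc N62757
def N63378 : Q := sm gh N62757
def N63379 : Q := sm ge N62759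
def N63380 : Q := sm gd N62761
def N63381 : Q := sm gf N62761
def N63382 : Q := sm gh N62762
def N63383 : Q := sm gd N62765
def N63384 : Q := sm gf N62765
def N63385 : Q := sm gc N62766
def N63386 : Q := sm gf N62766
def N63387 : Q := sm ge N62768
def N63388 : Q := sm gd N62769
def N63389 : Q := sm gf N62769
def N63390 : Q := sm gc N62770
def N63391 : Q := sm gf N62770
def N63392 : Q := sm gh N62770
def N63393 : Q := sm gh N62772
def N63394 : Q := sm gg N62774
def N63395 : Q := sm gc N62776
def N63396 : Q := sm gh N62776
def N63397 : Q := sm gh N62777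
def N63398 : Q := sm gi N62778
def N63399 : Q := sm ge N62780
def N63400 : Q := sm gd N62781
def N63401 : Q := sm gf N62781
def N63402 : Q := sm gf N62782
def N63403 : Q := sm gh N62782
def N63404 : Q := sm gd N62784
def N63405 : Q := sm gc N62785
def N63406 : Q := sm gh N62785
def N63407 : Q := sm gi N62786
def N63408 : Q := sm gd N62788
def N63409 : Q := sm gc N62789
def N63410 : Q := sm gf N62791
def N63411 : Q := sm gh N62793
def N63412 : Q := sm gd N62795
def N63413 : Q := sm gc N62796
def N63414 : Q := sm gd N62797
def N63415 : Q := sm gc N62798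
def N63416 : Q := sm gc N62799
def N63417 : Q := sm gf N62799
def N63418 : Q := sm gf N62801
def N63419 : Q := sm ge N62802
def N63420 : Q := sm gi N62805
def N63421 : Q := sm ge N62807
def N63422 : Q := sm gd N62808
def N63423 : Q := sm gd N62810
def N63424 : Q := sm gf N62810
def N63425 : Q := sm gc N62811
def N63426 : Q := sm gf N62811
def N63427 : Q := sm gh N62811
def N63428 : Q := sm gc N62815
def N63429 : Q := sm gh N62815
def N63430 : Q := sm gh N62816
def N63431 : Q := sm gi N62817
def N63432 : Q := sm ge N62830
def N63433 : Q := sm gd N62831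
def N63434 : Q := sm gf N62831
def N63435 : Q := sm ge N62834
def N63436 : Q := sm gd N62835
def N63437 : Q := sm gf N62835
def N63438 : Q := sm gf N62838
def N63439 : Q := sm gd N62840
def N63440 : Q := sm gc N62841
def N63441 : Q := sm gd N62843
def N63442 : Q := sm gf N62843
def N63443 : Q := sm gc N62844
def N63444 : Q := sm gf N62844
def N63445 : Q := sm ge N62852
def N63446 : Q := sm gd N62853
def N63447 : Q := sm gf N62853
def N63448 : Q := sm gg N62855
def N63449 : Q := sm ge N62857
def N63450 : Q := sm gd N62858
def N63451 : Q := sm gf N62858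
def N63452 : Q := sm gf N62859
def N63453 : Q := sm gh N62859
def N63454 : Q := sm gg N62860
def N63455 : Q := sm gf N62862
def N63456 : Q := sm gg N62863
def N63457 : Q := sm gd N62865
def N63458 : Q := sm gc N62866
def N63459 : Q := sm gh N62866
def N63460 : Q := sm gd N62869
def N63461 : Q := sm gf N62869
def N63462 : Q := sm gc N62870
def N63463 : Q := sm gf N62870
def N63464 : Q := sm ge N62872
def N63465 : Q := sm gh N62874
def N63466 : Q := sm gi N62875
def N63467 : Q := sm gh N62879
def N63468 : Q := sm gi N62881
def N63469 : Q := sm gi N62883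
def N63470 : Q := sm ge N62886
def N63471 : Q := sm gd N62887
def N63472 : Q := sm gd N62889
def N63473 : Q := sm gc N62890
def N63474 : Q := sm gd N62891
def N63475 : Q := sm gf N62891
def N63476 : Q := sm gf N62892
def N63477 : Q := sm gh N62892
def N63478 : Q := sm gg N62893
def N63479 : Q := sm gd N62898
def N63480 : Q := sm gf N62898
def N63481 : Q := sm gc N62899
def N63482 : Q := sm gf N62899
def N63483 : Q := sm gg N62900
def N63484 : Q := sm ge N62901
def N63485 : Q := sm gg N62901
def N63486 : Q := sm gd N62903
def N63487 : Q := sm gf N62903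
def N63488 : Q := sm gc N62904
def N63489 : Q := sm gf N62904
def N63490 : Q := sm gh N62904
def N63491 : Q := sm gg N62905
def N63492 : Q := sm gg N62906
def N63493 : Q := sm gh N62906
def N63494 : Q := sm gg N62909
def N63495 : Q := sm gj N62910
def N63496 : Q := sm gc N62912
def N63497 : Q := sm gh N62912
def N63498 : Q := sm gh N62913
def N63499 : Q := sm gi N62914
def N63500 : Q := sm ge N62916
def N63501 : Q := sm gd N62918
def N63502 : Q := sm gc N62919
def N63503 : Q := sm gd N62920
def N63504 : Q := sm gf N62920
def N63505 : Q := sm gc N62921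
def N63506 : Q := sm gd N62924
def N63507 : Q := sm gf N62924
def N63508 : Q := sm gc N62925
def N63509 : Q := sm gf N62925
def N63510 : Q := sm ge N62927
def N63511 : Q := sm gc N62928
def N63512 : Q := sm gf N62928
def N63513 : Q := sm gf N62930
def N63514 : Q := sm ge N62931
def N63515 : Q := sm gi N62933
def N63516 : Q := sm ge N62935
def N63517 : Q := sm gd N62937
def N63518 : Q := sm gc N62938
def N63519 : Q := sm gd N62940
def N63520 : Q := sm gf N62940
def N63521 : Q := sm gc N62941
def N63522 : Q := sm gf N62943
def N63523 : Q := sm gd N62947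
def N63524 : Q := sm gf N62947
def N63525 : Q := sm gc N62948
def N63526 : Q := sm gf N62948
def N63527 : Q := sm gh N62948
def N63528 : Q := sm gh N62950
def N63529 : Q := sm gc N62952
def N63530 : Q := sm gf N62952
def N63531 : Q := sm gh N62952
def N63532 : Q := sm gf N62954
def N63533 : Q := sm gh N62954
def N63534 : Q := sm ge N62955
def N63535 : Q := sm gi N62956
def N63536 : Q := sm gf N62959
def N63537 : Q := sm gg N62960
def N63538 : Q := sm ge N62963
def N63539 : Q := sm gg N62963
def N63540 : Q := sm gg N62965
def N63541 : Q := sm gi N62968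
def N63542 : Q := sm gd N62971
def N63543 : Q := sm gc N62972
def N63544 : Q := sm gc N62974
def N63545 : Q := sm gd N62976
def N63546 : Q := sm gc N62977
def N63547 : Q := sm gc N62978
def N63548 : Q := sm gc N62981
def N63549 : Q := sm gd N62983
def N63550 : Q := sm gc N62984
def N63551 : Q := sm gh N62984
def N63552 : Q := sm gd N62986
def N63553 : Q := sm gf N62986
def N63554 : Q := sm gc N62987
def N63555 : Q := sm gf N62987
def N63556 : Q := sm gh N62987
def N63557 : Q := sm gg N62988
def N63558 : Q := sm gg N62992
def N63559 : Q := sm gc N62994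
def N63560 : Q := sm gh N62994
def N63561 : Q := sm gh N62995
def N63562 : Q := sm gd N62997
def N63563 : Q := sm gc N62998
def N63564 : Q := sm gd N62999
def N63565 : Q := sm gf N62999
def N63566 : Q := sm gh N63000
def N63567 : Q := sm gh N63003
def N63568 : Q := sm gd N63006
def N63569 : Q := sm gc N63007
def N63570 : Q := sm gc N63008
def N63571 : Q := sm gd N63010
def N63572 : Q := sm gc N63011
def N63573 : Q := sm gd N63012
def N63574 : Q := sm gd N63017
def N63575 : Q := sm gc N63018
def N63576 : Q := sm gh N63018
def N63577 : Q := sm gc N63020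
def N63578 : Q := sm gh N63020
def N63579 : Q := sm gh N63021
def N63580 : Q := sm gd N63025
def N63581 : Q := sm gc N63026
def N63582 : Q := sm gd N63027
def N63583 : Q := sm gc N63028
def N63584 : Q := sm gh N63028
def N63585 : Q := sm gc N63030
def N63586 : Q := sm gh N63030
def N63587 : Q := sm gh N63031
def N63588 : Q := sm gi N63032
def N63589 : Q := sm gd N63034
def N63590 : Q := sm gf N63034
def N63591 : Q := sm gf N63035
def N63592 : Q := sm gh N63035
def N63593 : Q := sm gd N63039
def N63594 : Q := sm gf N63039
def N63595 : Q := sm gc N63040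
def N63596 : Q := sm gf N63042
def N63597 : Q := sm gh N63042
def N63598 : Q := sm ge N63044
def N63599 : Q := sm gd N63048
def N63600 : Q := sm gf N63048
def N63601 : Q := sm gc N63049
def N63602 : Q := sm gf N63049
def N63603 : Q := sm gh N63049
def N63604 : Q := sm gg N63050
def N63605 : Q := sm gc N63054
def N63606 : Q := sm gf N63054
def N63607 : Q := sm gh N63054
def N63608 : Q := sm gg N63055
def N63609 : Q := sm gf N63056
def N63610 : Q := sm gh N63056
def N63611 : Q := sm gc N63061
def N63612 : Q := sm gh N63061
def N63613 : Q := sm gh N63062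
def N63614 : Q := sm gi N63063
def N63615 : Q := sm gb N63065
def N63616 : Q := sm gh N63065
def N63617 : Q := sm gi N63066
def N63618 : Q := sm gd N63067
def N63619 : Q := sm gi N63067
def N63620 : Q := sm gd N63069
def N63621 : Q := sm gc N63070
def N63622 : Q := sm gc N63071
def N63623 : Q := sm gh N63071
def N63624 : Q := sm gh N63072
def N63625 : Q := sm gd N63074
def N63626 : Q := sm gc N63076
def N63627 : Q := sm gh N63076
def N63628 : Q := sm gi N63079
def N63629 : Q := sm gi N63082
def N63630 : Q := sm gh N63084
def N63631 : Q := sm gi N63086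
def N63632 : Q := sm gd N63088
def N63633 : Q := sm gi N63088
def N63634 : Q := sm gi N63090
def N63635 : Q := sm gd N63093
def N63636 : Q := sm gc N63094
def N63637 : Q := sm gc N63095
def N63638 : Q := sm gc N63098
def N63639 : Q := sm gb N63100
def N63640 : Q := sm gh N63100
def N63641 : Q := sm gd N63103
def N63642 : Q := sm gc N63104
def N63643 : Q := sm gc N63105
def N63644 : Q := sm gh N63105
def N63645 : Q := sm gh N63106
def N63646 : Q := sm gi N63107
def N63647 : Q := sm gf N63109
def N63648 : Q := sm gf N63111
def N63649 : Q := sm gh N63111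
def N63650 : Q := sm gh N63113
def N63651 : Q := sm gi N63114
def N63652 : Q := sm gi N63117
def N63653 : Q := sm gb N63120
def N63654 : Q := sm gi N63121
def N63655 : Q := sm gh N63123
def N63656 : Q := sm gc N63126
def N63657 : Q := sm gd N63128
def N63658 : Q := sm gf N63128
def N63659 : Q := sm gc N63129
def N63660 : Q := sm gd N63131
def N63661 : Q := sm gf N63131
def N63662 : Q := sm gc N63132
def N63663 : Q := sm gf N63132
def N63664 : Q := sm gh N63132
def N63665 : Q := sm gc N63136
def N63666 : Q := sm gf N63136
def N63667 : Q := sm gf N63138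
def N63668 : Q := sm gc N63140
def N63669 : Q := sm gh N63140
def N63670 : Q := sm gh N63141
def N63671 : Q := sm gi N63142
def N63672 : Q := sm gb N63144
def N63673 : Q := sm gf N63144
def N63674 : Q := sm gh N63144
def N63675 : Q := sm ge N63145
def N63676 : Q := sm gi N63146
def N63677 : Q := sm ge N63147
def N63678 : Q := sm gi N63148
def N63679 : Q := sm gd N63155
def N63680 : Q := sm ge N63156
def N63681 : Q := sm gc N63161
def N63682 : Q := sm gc N63163
def N63683 : Q := sm gc N63167
def N63684 : Q := sm gh N63167
def N63685 : Q := sm gh N63168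
def N63686 : Q := sm gi N63169
def N63687 : Q := sm gd N63172
def N63688 : Q := sm gc N63173
def N63689 : Q := sm gg N63174
def N63690 : Q := sm gc N63179
def N63691 : Q := sm gc N63182
def N63692 : Q := sm gd N63184
def N63693 : Q := sm gf N63184
def N63694 : Q := sm gc N63185
def N63695 : Q := sm gd N63188
def N63696 : Q := sm gc N63189
def N63697 : Q := sm gd N63190
def N63698 : Q := sm gc N63191
def N63699 : Q := sm gc N63192
def N63700 : Q := sm gc N63194
def N63701 : Q := sm gc N63196
def N63702 : Q := sm gb N63198
def N63703 : Q := sm gc N63199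
def N63704 : Q := sm gb N63202
def N63705 : Q := sm gh N63202
def N63706 : Q := sm gi N63203
def N63707 : Q := sm gi N63204
def N63708 : Q := sm gd N63206
def N63709 : Q := sm gc N63207
def N63710 : Q := sm gc N63208
def N63711 : Q := sm gg N63210
def N63712 : Q := sm gc N63213
def N63713 : Q := sm gc N63215
def N63714 : Q := sm gc N63217
def N63715 : Q := sm gb N63219
def N63716 : Q := sm gd N63220
def N63717 : Q := sm gf N63220
def N63718 : Q := sm gc N63221
def N63719 : Q := sm gc N63223
def N63720 : Q := sm gd N63226
def N63721 : Q := sm gf N63226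
def N63722 : Q := sm gc N63227
def N63723 : Q := sm gc N63229
def N63724 : Q := sm gc N63233
def N63725 : Q := sm gc N63235
def N63726 : Q := sm gb N63237
def N63727 : Q := sm gc N63238
def N63728 : Q := sm gc N63240
def N63729 : Q := sm gb N63242
def N63730 : Q := sm gc N63243
def N63731 : Q := sm gc N63245
def N63732 : Q := sm gb N63247
def N63733 : Q := sm gb N63248
def N63734 : Q := sm gc N63249
def N63735 : Q := sm gb N63251
def N63736 : Q := sm gc N63252
def N63737 : Q := sm gh N63252
def N63738 : Q := sm gh N63253
def N63739 : Q := sm gi N63254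
def N63740 : Q := sm gi N63256
def N63741 : Q := sm gd N63258
def N63742 : Q := sm gc N63259
def N63743 : Q := sm gc N63260
def N63744 : Q := sm gc N63262
def N63745 : Q := sm gb N63264
def N63746 : Q := sm gb N63265
def N63747 : Q := sm gb N63266
def N63748 : Q := sm gh N63267
def N63749 : Q := sm gd N63268
def N63750 : Q := sm gi N63271
def N63751 : Q := sm gd N63274
def N63752 : Q := sm gc N63275
def N63753 : Q := sm gh N63275
def N63754 : Q := sm gd N63277
def N63755 : Q := sm gf N63277
def N63756 : Q := sm gf N63278
def N63757 : Q := sm gg N63279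
def N63758 : Q := sm gd N63282
def N63759 : Q := sm gf N63282
def N63760 : Q := sm gc N63283
def N63761 : Q := sm gf N63283
def N63762 : Q := sm gg N63284
def N63763 : Q := sm ge N63285
def N63764 : Q := sm gg N63285
def N63765 : Q := sm gd N63287
def N63766 : Q := sm gf N63287
def N63767 : Q := sm gc N63288
def N63768 : Q := sm gf N63288
def N63769 : Q := sm gh N63288
def N63770 : Q := sm gg N63289
def N63771 : Q := sm gg N63290
def N63772 : Q := sm gh N63290
def N63773 : Q := sm gg N63293
def N63774 : Q := sm gc N63295
def N63775 : Q := sm gh N63295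
def N63776 : Q := sm gh N63296
def N63777 : Q := sm gi N63297
def N63778 : Q := sm gd N63299
def N63779 : Q := sm gf N63299
def N63780 : Q := sm gc N63300
def N63781 : Q := sm gg N63301
def N63782 : Q := sm gg N63303
def N63783 : Q := sm gd N63305
def N63784 : Q := sm gf N63305
def N63785 : Q := sm gh N63306
def N63786 : Q := sm gh N63309
def N63787 : Q := sm gd N63311
def N63788 : Q := sm gf N63311
def N63789 : Q := sm gc N63312
def N63790 : Q := sm gf N63312
def N63791 : Q := sm ge N63314
def N63792 : Q := sm gc N63315
def N63793 : Q := sm gf N63315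
def N63794 : Q := sm gf N63317
def N63795 : Q := sm ge N63318
def N63796 : Q := sm gi N63320
def N63797 : Q := sm gg N63323
def N63798 : Q := sm gd N63329
def N63799 : Q := sm gf N63329
def N63800 : Q := sm gc N63330
def N63801 : Q := sm gf N63330
def N63802 : Q := sm gh N63330
def N63803 : Q := sm gh N63332
def N63804 : Q := sm gc N63334
def N63805 : Q := sm gf N63334
def N63806 : Q := sm gh N63334
def N63807 : Q := sm gf N63336
def N63808 : Q := sm gh N63336
def N63809 : Q := sm gi N63338
def N63810 : Q := sm gg N63340
def N63811 : Q := sm gi N63343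
def N63812 : Q := sm gd N63346
def N63813 : Q := sm gc N63347
def N63814 : Q := sm gc N63348
def N63815 : Q := sm gc N63350
def N63816 : Q := sm gc N63352
def N63817 : Q := sm gc N63354
def N63818 : Q := sm gh N63354
def N63819 : Q := sm gh N63355
def N63820 : Q := sm gi N63356
def N63821 : Q := sm gf N63358
def N63822 : Q := sm gd N63360
def N63823 : Q := sm gf N63360
def N63824 : Q := sm gc N63361
def N63825 : Q := sm gf N63361
def N63826 : Q := sm gg N63362
def N63827 : Q := sm gd N63365
def N63828 : Q := sm gf N63365
def N63829 : Q := sm gc N63366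
def N63830 : Q := sm gf N63366
def N63831 : Q := sm gg N63367
def N63832 : Q := sm gg N63370
def N63833 : Q := sm gd N63372
def N63834 : Q := sm gf N63372
def N63835 : Q := sm gc N63373
def N63836 : Q := sm gf N63373
def N63837 : Q := sm gc N63376
def N63838 : Q := sm gh N63376
def N63839 : Q := sm gh N63377
def N63840 : Q := sm gh N63380
def N63841 : Q := sm gc N63383
def N63842 : Q := sm gf N63383
def N63843 : Q := sm gf N63385
def N63844 : Q := sm ge N63386
def N63845 : Q := sm gc N63388
def N63846 : Q := sm gf N63388
def N63847 : Q := sm gh N63388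
def N63848 : Q := sm gf N63390
def N63849 : Q := sm gh N63390
def N63850 : Q := sm gh N63391
def N63851 : Q := sm gb N63395
def N63852 : Q := sm gh N63395
def N63853 : Q := sm gi N63396
def N63854 : Q := sm gi N63397
def N63855 : Q := sm gd N63399
def N63856 : Q := sm gf N63399
def N63857 : Q := sm gc N63400
def N63858 : Q := sm gf N63400
def N63859 : Q := sm gh N63400
def N63860 : Q := sm gc N63404
def N63861 : Q := sm gh N63404
def N63862 : Q := sm gh N63405
def N63863 : Q := sm gi N63406
def N63864 : Q := sm gc N63408
def N63865 : Q := sm gc N63412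
def N63866 : Q := sm gc N63414
def N63867 : Q := sm gb N63416
def N63868 : Q := sm gf N63416
def N63869 : Q := sm ge N63417
def N63870 : Q := sm ge N63418
def N63871 : Q := sm gd N63421
def N63872 : Q := sm gc N63422
def N63873 : Q := sm gc N63423
def N63874 : Q := sm gf N63423
def N63875 : Q := sm gh N63423
def N63876 : Q := sm gf N63425
def N63877 : Q := sm gh N63425
def N63878 : Q := sm gb N63428
def N63879 : Q := sm gh N63428
def N63880 : Q := sm gi N63429
def N63881 : Q := sm gd N63430
def N63882 : Q := sm gi N63430
def N63883 : Q := sm gd N63432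
def N63884 : Q := sm gf N63432
def N63885 : Q := sm gc N63433
def N63886 : Q := sm gd N63435
def N63887 : Q := sm gf N63435
def N63888 : Q := sm gc N63436
def N63889 : Q := sm gc N63439
def N63890 : Q := sm gc N63441
def N63891 : Q := sm gf N63441
def N63892 : Q := sm gd N63445
def N63893 : Q := sm gf N63445
def N63894 : Q := sm gc N63446
def N63895 : Q := sm gg N63447
def N63896 : Q := sm gd N63449
def N63897 : Q := sm gf N63449
def N63898 : Q := sm gc N63450
def N63899 : Q := sm gf N63450
def N63900 : Q := sm gh N63450
def N63901 : Q := sm gg N63451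
def N63902 : Q := sm gg N63455
def N63903 : Q := sm gc N63457
def N63904 : Q := sm gh N63457
def N63905 : Q := sm gc N63460
def N63906 : Q := sm gf N63460
def N63907 : Q := sm gf N63462
def N63908 : Q := sm ge N63463
def N63909 : Q := sm gi N63465
def N63910 : Q := sm gi N63467
def N63911 : Q := sm gd N63470
def N63912 : Q := sm gc N63471
def N63913 : Q := sm gc N63472
def N63914 : Q := sm gf N63474
def N63915 : Q := sm gh N63474
def N63916 : Q := sm gg N63475
def N63917 : Q := sm gc N63479
def N63918 : Q := sm gf N63479
def N63919 : Q := sm gg N63480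
def N63920 : Q := sm gf N63481
def N63921 : Q := sm ge N63482
def N63922 : Q := sm gg N63482
def N63923 : Q := sm gc N63486
def N63924 : Q := sm gf N63486
def N63925 : Q := sm gh N63486
def N63926 : Q := sm gg N63487
def N63927 : Q := sm gf N63488
def N63928 : Q := sm gh N63488
def N63929 : Q := sm gg N63489
def N63930 : Q := sm gh N63489
def N63931 : Q := sm gj N63494
def N63932 : Q := sm gb N63496
def N63933 : Q := sm gh N63496
def N63934 : Q := sm gi N63497
def N63935 : Q := sm gi N63498
def N63936 : Q := sm gc N63501
def N63937 : Q := sm gc N63503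
def N63938 : Q := sm gc N63506
def N63939 : Q := sm gf N63506
def N63940 : Q := sm gf N63508
def N63941 : Q := sm ge N63509
def N63942 : Q := sm gb N63511
def N63943 : Q := sm gf N63511
def N63944 : Q := sm ge N63512
def N63945 : Q := sm ge N63513
def N63946 : Q := sm gc N63517
def N63947 : Q := sm gc N63519
def N63948 : Q := sm gc N63523
def N63949 : Q := sm gf N63523
def N63950 : Q := sm gh N63523
def N63951 : Q := sm gf N63525
def N63952 : Q := sm gh N63525
def N63953 : Q := sm gh N63526
def N63954 : Q := sm gb N63529
def N63955 : Q := sm gf N63529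
def N63956 : Q := sm gh N63529
def N63957 : Q := sm ge N63530
def N63958 : Q := sm gi N63531
def N63959 : Q := sm ge N63532
def N63960 : Q := sm gi N63533
def N63961 : Q := sm gg N63538
def N63962 : Q := sm gc N63542
def N63963 : Q := sm gb N63544
def N63964 : Q := sm gc N63545
def N63965 : Q := sm gb N63547
def N63966 : Q := sm gb N63548
def N63967 : Q := sm gc N63549
def N63968 : Q := sm gh N63549
def N63969 : Q := sm gh N63550
def N63970 : Q := sm gc N63552
def N63971 : Q := sm gf N63552
def N63972 : Q := sm gh N63552
def N63973 : Q := sm gg N63553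
def N63974 : Q := sm gf N63554
def N63975 : Q := sm gh N63554
def N63976 : Q := sm gb N63559
def N63977 : Q := sm gh N63559
def N63978 : Q := sm gc N63562
def N63979 : Q := sm gh N63564
def N63980 : Q := sm gc N63568
def N63981 : Q := sm gb N63570
def N63982 : Q := sm gc N63571
def N63983 : Q := sm gc N63574
def N63984 : Q := sm gh N63574
def N63985 : Q := sm gh N63575
def N63986 : Q := sm gb N63577
def N63987 : Q := sm gh N63577
def N63988 : Q := sm gc N63580
def N63989 : Q := sm gc N63582
def N63990 : Q := sm gh N63582
def N63991 : Q := sm gh N63583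
def N63992 : Q := sm gb N63585
def N63993 : Q := sm gh N63585
def N63994 : Q := sm gi N63586
def N63995 : Q := sm gi N63587
def N63996 : Q := sm gf N63589
def N63997 : Q := sm gh N63589
def N63998 : Q := sm gc N63593
def N63999 : Q := sm ge N63596
def N64000 : Q := sm gc N63599
def N64001 : Q := sm gf N63599
def N64002 : Q := sm gh N63599
def N64003 : Q := sm gg N63600
def N64004 : Q := sm gf N63601
def N64005 : Q := sm gh N63601
def N64006 : Q := sm gb N63605
def N64007 : Q := sm gf N63605
def N64008 : Q := sm gh N63605
def N64009 : Q := sm gb N63611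
def N64010 : Q := sm gh N63611
def N64011 : Q := sm gi N63612
def N64012 : Q := sm gi N63613
def N64013 : Q := sm gh N63615
def N64014 : Q := sm gd N63616
def N64015 : Q := sm gi N63616
def N64016 : Q := sm gi N63618
def N64017 : Q := sm gc N63620
def N64018 : Q := sm gb N63622
def N64019 : Q := sm gh N63622
def N64020 : Q := sm gi N63627
def N64021 : Q := sm gi N63632
def N64022 : Q := sm gc N63635
def N64023 : Q := sm gb N63637
def N64024 : Q := sm gb N63638
def N64025 : Q := sm gh N63639
def N64026 : Q := sm gc N63641
def N64027 : Q := sm gb N63643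
def N64028 : Q := sm gh N63643
def N64029 : Q := sm gi N63644
def N64030 : Q := sm gi N63645
def N64031 : Q := sm gh N63648
def N64032 : Q := sm gi N63649
def N64033 : Q := sm gb N63656
def N64034 : Q := sm gc N63657
def N64035 : Q := sm gc N63660
def N64036 : Q := sm gf N63660
def N64037 : Q := sm gh N63660
def N64038 : Q := sm gf N63662
def N64039 : Q := sm gh N63662
def N64040 : Q := sm gb N63665
def N64041 : Q := sm gf N63665
def N64042 : Q := sm gb N63668

end Cfsg.Agent.Helper28.FicA
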